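import Mathlib

set_option autoImplicit false
open scoped Pointwise

namespace Cfsg.Agent.Helper11

/-- Membership in a conjugate Sylow subgroup. -/
theorem mem_smul_sylow_iff {G : Type*} [Group G] {p : ℕ} (R : Sylow p G) (g y : G) :
    y ∈ ((g • R : Sylow p G) : Subgroup G) ↔ g⁻¹ * y * g ∈ (R : Subgroup G) := by
  rw [Sylow.smul_def, Sylow.pointwise_smul_def]
  rw [Subgroup.mem_pointwise_smul_iff_inv_smul_mem]
  simp [MulAut.smul_def]

/-- An abelian subgroup normalizes each of its subgroups. -/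
theorem abelian_le_normalizer {G : Type*} [Group G] (S D : Subgroup G) (hS : IsMulCommutative ↥S) (hD : D ≤ S) :
    S ≤ Subgroup.normalizer (D : Set G) := by
  intro s hs
  rw [Subgroup.mem_normalizer_iff]
  intro d
  have key : ∀ d ∈ S, s * d * s⁻¹ = d := by
    intro d hd
    have := hS.is_comm.comm ⟨s, hs⟩ ⟨d, hd⟩
    have h2 : s * d = d * s := congrArg Subtype.val this
    rw [h2]; group
  constructor
  · intro hd; rw [key d (hD hd)]; exact hd
  · intro hd
    have h1 : s * d * s⁻¹ ∈ S := hD hd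
    have h2 : d ∈ S := by
      have : d = s⁻¹ * (s * d * s⁻¹) * s := by group
      rw [this]
      exact S.mul_mem (S.mul_mem (S.inv_mem hs) h1) hs
    rw [← key d h2]; exact hd

/-- In a finite group `N` with Sylow `p`-subgroup `S`, every `p`-subgroup is conjugate into `S`. -/
theorem exists_conj_le_sylow {N : Type*} [Group N] [Finite N] (p : ℕ) [Fact p.Prime]
    (S : Sylow p N) (A : Subgroup N) (hA : IsPGroup p A) :
    ∃ x : N, ∀ a ∈ A, x * a * x⁻¹ ∈ (S : Subgroup N) := by
  obtain ⟨Q, hQ⟩ := hA.exists_le_sylow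
  obtain ⟨x, hx⟩ := MulAction.exists_smul_eq N Q S
  refine ⟨x, fun a ha => ?_⟩
  have h1 : a ∈ (Q : Subgroup N) := hQ ha
  rw [← hx, mem_smul_sylow_iff]
  have : x⁻¹ * (x * a * x⁻¹) * x = a := by group
  rw [this]; exact h1

end Cfsg.Agent.Helper11
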