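import Mathlib
import Cfsg.Agent.Helper11.Basic

set_option autoImplicit false
open scoped Pointwise

namespace Cfsg.Agent.Helper11

/-- Normalizers grow in finite `p`-groups, stated inside an ambient group. -/
theorem lt_inf_normalizer {G : Type*} [Group G] [Finite G] {p : ℕ} [Fact p.Prime] (P D : Subgroup G)
    (hP : IsPGroup p P) (hDP : D < P) : D < P ⊓ Subgroup.normalizer (D : Set G) := by
  have hle : D ≤ P ⊓ Subgroup.normalizer (D : Set G) := le_inf hDP.le Subgroup.le_normalizer
  refine lt_of_le_of_ne hle ?_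
  intro heq
  have : Group.IsNilpotent ↥P := hP.isNilpotent
  have hnc : NormalizerCondition ↥P := Group.normalizerCondition_of_isNilpotent
  have hlt : D.subgroupOf P < ⊤ := by
    refine lt_of_le_of_ne le_top ?_
    intro h
    rw [Subgroup.subgroupOf_eq_top] at h
    exact absurd (le_antisymm hDP.le h) hDP.ne
  have h2 := hnc _ hlt
  rw [← Subgroup.subgroupOf_normalizer_eq hDP.le] at h2
  obtain ⟨x, hx1, hx2⟩ := SetLike.exists_of_lt h2
  rw [Subgroup.mem_subgroupOf] at hx1 hx2
  apply hx2
  rw [heq]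
  exact ⟨x.2, hx1⟩

/-- All Sylow subgroups have the same cardinality. -/
theorem sylow_card_eq {G : Type*} [Group G] [Finite G] {p : ℕ} [Fact p.Prime] (P Q : Sylow p G) :
    Nat.card ↥(P : Subgroup G) = Nat.card ↥(Q : Subgroup G) := by
  rw [Sylow.card_eq_multiplicity, Sylow.card_eq_multiplicity]

/-- A `p`-subgroup is no larger than a Sylow `p`-subgroup. -/
theorem card_le_sylow {G : Type*} [Group G] [Finite G] {p : ℕ} [Fact p.Prime] (P : Sylow p G)
    (A : Subgroup G) (hA : IsPGroup p A) : Nat.card ↥A ≤ Nat.card ↥(P : Subgroup G) := by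
  obtain ⟨Q, hQ⟩ := hA.exists_le_sylow
  rw [sylow_card_eq P Q]
  exact Subgroup.card_le_of_le hQ

/-- Distinct Sylow subgroups: one is not contained in the other. -/
theorem sylow_eq_of_le {G : Type*} [Group G] {p : ℕ} (P Q : Sylow p G)
    (h : (P : Subgroup G) ≤ (Q : Subgroup G)) : P = Q := by
  apply Sylow.ext
  exact (P.3 Q.2 h).symm

/-- A normal `p`-subgroup lies in every Sylow `p`-subgroup. -/
theorem normal_pgroup_le_sylow {G : Type*} [Group G] {p : ℕ} (S : Sylow p G) (D : Subgroup G)
    [D.Normal] (hD : IsPGroup p D) : D ≤ (S : Subgroup G) := by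
  have h1 : IsPGroup p ↥((S : Subgroup G) ⊔ D) := S.2.to_sup_of_normal_right hD
  have h2 := S.3 h1 le_sup_left
  rw [← h2]
  exact le_sup_right

end Cfsg.Agent.Helper11
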