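import Mathlib

set_option autoImplicit false

/-!
Homomorphisms out of `DihedralGroup n` from a pair `a, b` with `a ^ n = 1`, `b * b = 1`,
`b * a * b = a⁻¹`, and a recognition criterion for dihedral groups.
-/

namespace Cfsg.Agent.Helper11

variable {H : Type*} [Group H]

/-- `i ↦ a ^ i` on `ZMod n`, when `a ^ n = 1`, as an additive hom to `Additive H`. -/
noncomputable def zmodPow (n : ℕ) (a : H) (ha : a ^ n = 1) : ZMod n →+ Additive H :=
  ZMod.lift n ⟨zmultiplesHom (Additive H) (Additive.ofMul a), by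
    rw [zmultiplesHom_apply, natCast_zsmul, ← ofMul_pow, ha, ofMul_one]⟩

theorem zmodPow_intCast (n : ℕ) (a : H) (ha : a ^ n = 1) (k : ℤ) :
    (zmodPow n a ha (k : ZMod n)).toMul = a ^ k := by
  unfold zmodPow
  rw [ZMod.lift_coe, zmultiplesHom_apply, ← ofMul_zpow]
  rfl

theorem zmodPow_eq_zpow (n : ℕ) (a : H) (ha : a ^ n = 1) (i : ZMod n) :
    (zmodPow n a ha i).toMul = a ^ (ZMod.cast i : ℤ) := by
  conv_lhs => rw [← ZMod.intCast_zmod_cast i]
  exact zmodPow_intCast n a ha _

theorem zmodPow_add (n : ℕ) (a : H) (ha : a ^ n = 1) (i j : ZMod n) :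
    (zmodPow n a ha (i + j)).toMul = (zmodPow n a ha i).toMul * (zmodPow n a ha j).toMul := by
  rw [map_add]; rfl

theorem zmodPow_neg (n : ℕ) (a : H) (ha : a ^ n = 1) (i : ZMod n) :
    (zmodPow n a ha (-i)).toMul = ((zmodPow n a ha i).toMul)⁻¹ := by
  rw [map_neg]; rfl

theorem zmodPow_sub (n : ℕ) (a : H) (ha : a ^ n = 1) (i j : ZMod n) :
    (zmodPow n a ha (j - i)).toMul = ((zmodPow n a ha i).toMul)⁻¹ * (zmodPow n a ha j).toMul := by
  rw [sub_eq_neg_add, zmodPow_add, zmodPow_neg]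

theorem zmodPow_zero (n : ℕ) (a : H) (ha : a ^ n = 1) : (zmodPow n a ha 0).toMul = 1 := by
  rw [map_zero]; rfl

theorem conj_zmodPow (n : ℕ) (a b : H) (ha : a ^ n = 1) (hb : b * b = 1) (hab : b * a * b = a⁻¹)
    (i : ZMod n) : b * (zmodPow n a ha i).toMul * b = ((zmodPow n a ha i).toMul)⁻¹ := by
  have hbinv : b⁻¹ = b := inv_eq_of_mul_eq_one_left hb
  rw [zmodPow_eq_zpow]
  have h1 : b * a ^ (ZMod.cast i : ℤ) * b⁻¹ = (b * a * b⁻¹) ^ (ZMod.cast i : ℤ) := by
    rw [conj_zpow]
  rw [hbinv, hab, inv_zpow] at h1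
  exact h1

/-- The homomorphism `DihedralGroup n →* H` with `r i ↦ a ^ i`, `sr i ↦ b * a ^ i`. -/
noncomputable def dihedralLift (n : ℕ) (a b : H) (ha : a ^ n = 1) (hb : b * b = 1)
    (hab : b * a * b = a⁻¹) : DihedralGroup n →* H where
  toFun x := match x with
    | .r i => (zmodPow n a ha i).toMul
    | .sr i => b * (zmodPow n a ha i).toMul
  map_one' := by
    rw [DihedralGroup.one_def]
    exact zmodPow_zero n a ha
  map_mul' := by
    rintro (i | i) (j | j)
    · rw [DihedralGroup.r_mul_r]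
      exact zmodPow_add n a ha i j
    · rw [DihedralGroup.r_mul_sr]
      change b * (zmodPow n a ha (j - i)).toMul = (zmodPow n a ha i).toMul * (b * (zmodPow n a ha j).toMul)
      rw [zmodPow_sub]
      have h1 := conj_zmodPow n a b ha hb hab i
      have h2 : (zmodPow n a ha i).toMul * b = b * ((zmodPow n a ha i).toMul)⁻¹ := by
        rw [← h1]
        calc (zmodPow n a ha i).toMul * b = (b * b) * (zmodPow n a ha i).toMul * b := by rw [hb, one_mul]
          _ = b * (b * (zmodPow n a ha i).toMul * b) := by group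
      rw [← mul_assoc ((zmodPow n a ha i).toMul), h2, mul_assoc]
    · rw [DihedralGroup.sr_mul_r]
      change b * (zmodPow n a ha (i + j)).toMul = b * (zmodPow n a ha i).toMul * (zmodPow n a ha j).toMul
      rw [zmodPow_add, mul_assoc]
    · rw [DihedralGroup.sr_mul_sr]
      change (zmodPow n a ha (j - i)).toMul = b * (zmodPow n a ha i).toMul * (b * (zmodPow n a ha j).toMul)
      rw [zmodPow_sub, ← conj_zmodPow n a b ha hb hab i]
      group

theorem dihedralLift_r (n : ℕ) (a b : H) (ha : a ^ n = 1) (hb : b * b = 1)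
    (hab : b * a * b = a⁻¹) (i : ZMod n) :
    dihedralLift n a b ha hb hab (DihedralGroup.r i) = (zmodPow n a ha i).toMul := rfl

theorem dihedralLift_sr (n : ℕ) (a b : H) (ha : a ^ n = 1) (hb : b * b = 1)
    (hab : b * a * b = a⁻¹) (i : ZMod n) :
    dihedralLift n a b ha hb hab (DihedralGroup.sr i) = b * (zmodPow n a ha i).toMul := rfl

/-- If moreover `orderOf a = n` and `b ∉ ⟨a⟩` then the lift is injective. -/
theorem dihedralLift_injective (n : ℕ) (a b : H) (ha : a ^ n = 1) (hb : b * b = 1)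
    (hab : b * a * b = a⁻¹) (hn : orderOf a = n) (hba : b ∉ Subgroup.zpowers a) :
    Function.Injective (dihedralLift n a b ha hb hab) := by
  rw [injective_iff_map_eq_one]
  rintro (i | i) hx
  · rw [dihedralLift_r, zmodPow_eq_zpow] at hx
    have h1 : (orderOf a : ℤ) ∣ (ZMod.cast i : ℤ) := orderOf_dvd_iff_zpow_eq_one.2 hx
    rw [hn] at h1
    have h2 : ((ZMod.cast i : ℤ) : ZMod n) = 0 := (ZMod.intCast_zmod_eq_zero_iff_dvd _ n).2 h1
    rw [ZMod.intCast_zmod_cast] at h2
    rw [h2, DihedralGroup.r_zero]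
  · exfalso
    rw [dihedralLift_sr, zmodPow_eq_zpow] at hx
    apply hba
    have h1 : b = (a ^ (ZMod.cast i : ℤ))⁻¹ := eq_inv_of_mul_eq_one_left hx
    rw [h1]
    exact (Subgroup.zpowers a).inv_mem (Subgroup.zpow_mem_zpowers a _)

/-- Recognition: a group of order `2n` containing `a` of order `n` and `b ∉ ⟨a⟩` with `b² = 1`,
`b a b = a⁻¹` is isomorphic to `DihedralGroup n`. -/
theorem nonempty_mulEquiv_dihedralGroup [Finite H] (n : ℕ) (hcard : Nat.card H = 2 * n) (a b : H)
    (hn : orderOf a = n) (hb : b * b = 1) (hab : b * a * b = a⁻¹) (hba : b ∉ Subgroup.zpowers a) :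
    Nonempty (H ≃* DihedralGroup n) := by
  have ha : a ^ n = 1 := by rw [← hn]; exact pow_orderOf_eq_one a
  have hinj := dihedralLift_injective n a b ha hb hab hn hba
  have hbij : Function.Bijective (dihedralLift n a b ha hb hab) :=
    hinj.bijective_of_nat_card_le (by rw [hcard, DihedralGroup.nat_card])
  exact ⟨(MulEquiv.ofBijective _ hbij).symm⟩

end Cfsg.Agent.Helper11
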