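import Mathlib
import Cfsg.Agent.Helper2.QuaternionLift
import Cfsg.Agent.Helper21.FrattiniAut
import Cfsg.Agent.Helper1.PGroup

set_option autoImplicit false

/-! A nonabelian 2-group with abelianization of order 4 and an automorphism of odd order
is the quaternion group of order 8. -/

namespace Cfsg.Agent.Helper11.Q8Aut

open scoped commutatorElement

section QuotAut

variable {P : Type*} [Group P]

/-- The action of `Aut P` on the quotient by a characteristic subgroup. -/
def quotAutHom (N : Subgroup P) [hN : N.Characteristic] : MulAut P →* MulAut (P ⧸ N) where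
  toFun α := QuotientGroup.congr N N α (Subgroup.characteristic_iff_map_eq.mp hN α)
  map_one' := by
    apply MulEquiv.ext
    intro x
    induction x using QuotientGroup.induction_on with
    | H x => rfl
  map_mul' α β := by
    apply MulEquiv.ext
    intro x
    induction x using QuotientGroup.induction_on with
    | H x => rfl

theorem quotAutHom_apply (N : Subgroup P) [N.Characteristic] (α : MulAut P) (x : P) :
    quotAutHom N α (x : P ⧸ N) = ((α x : P) : P ⧸ N) := rfl

theorem aut_mem_of_characteristic (N : Subgroup P) [hN : N.Characteristic] (α : MulAut P) {x : P}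
    (hx : x ∈ N) : α x ∈ N := by
  have := Subgroup.characteristic_iff_map_eq.mp hN α
  rw [← this]
  exact ⟨x, hx, rfl⟩

end QuotAut

section OrderFour

variable {A : Type*} [Group A]

/-- An automorphism of odd order fixing `γ (γ x) = x` fixes `x`. -/
theorem fix_of_sq_fix (γ : MulAut A) (m : ℕ) (hm : Odd m) (hγm : γ ^ m = 1) (x : A)
    (h2 : γ (γ x) = x) : γ x = x := by
  obtain ⟨k, rfl⟩ := hm
  have h3 : ∀ j : ℕ, (γ ^ (2 * j)) x = x := by
    intro j
    induction j with
    | zero => simp
    | succ j ih =>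
      have : γ ^ (2 * (j + 1)) = γ ^ (2 * j) * (γ * γ) := by
        rw [← pow_two, ← pow_add, mul_add, mul_one]
      rw [this, MulAut.mul_apply, MulAut.mul_apply, h2, ih]
  have h4 : γ ^ (2 * (k + 1)) = γ := by
    have : 2 * (k + 1) = (2 * k + 1) + 1 := by ring
    rw [this, pow_succ, hγm, one_mul]
  have h5 := h3 (k + 1)
  rw [h4] at h5
  exact h5

/-- Structure of a group of order four with a nontrivial automorphism of odd order. -/
theorem order_four_aut [Finite A] (hA : Nat.card A = 4) (γ : MulAut A) (m : ℕ) (hm : Odd m)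
    (hγm : γ ^ m = 1) (x : A) (hx : γ x ≠ x) :
    (∀ a : A, a = 1 ∨ a = x ∨ a = γ x ∨ a = γ (γ x)) ∧ x ≠ 1 ∧ γ x ≠ 1 ∧ γ (γ x) ≠ 1 ∧
      γ (γ x) ≠ x ∧ γ (γ x) ≠ γ x ∧ x * γ x = γ (γ x) ∧ ∀ a : A, a * a = 1 := by
  classical
  have hx1 : x ≠ 1 := by
    rintro rfl
    exact hx (map_one γ)
  have hy1 : γ x ≠ 1 := fun h => hx1 ((map_eq_one_iff γ γ.injective).mp h)
  have hz1 : γ (γ x) ≠ 1 := fun h => hy1 ((map_eq_one_iff γ γ.injective).mp h)
  have hzy : γ (γ x) ≠ γ x := fun h => hx (γ.injective h)
  have hzx : γ (γ x) ≠ x := fun h => hx (fix_of_sq_fix γ m hm hγm x h)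
  have := Fintype.ofFinite A
  have hall : ∀ a : A, a = 1 ∨ a = x ∨ a = γ x ∨ a = γ (γ x) := by
    have hcard : ({1, x, γ x, γ (γ x)} : Finset A).card = 4 := by
      rw [Finset.card_insert_of_notMem, Finset.card_insert_of_notMem,
        Finset.card_insert_of_notMem, Finset.card_singleton]
      · simp only [Finset.mem_singleton]; exact fun h => hzy h.symm
      · simp only [Finset.mem_insert, Finset.mem_singleton, not_or]
        exact ⟨fun h => hx h.symm, fun h => hzx h.symm⟩
      · simp only [Finset.mem_insert, Finset.mem_singleton, not_or]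
        exact ⟨fun h => hx1 h.symm, fun h => hy1 h.symm, fun h => hz1 h.symm⟩
    have huniv : ({1, x, γ x, γ (γ x)} : Finset A) = Finset.univ := by
      apply Finset.eq_univ_of_card
      rw [hcard, ← hA, Nat.card_eq_fintype_card]
    intro a
    have ha : a ∈ ({1, x, γ x, γ (γ x)} : Finset A) := by rw [huniv]; exact Finset.mem_univ a
    simpa using ha
  refine ⟨hall, hx1, hy1, hz1, hzx, hzy, ?_⟩
  suffices hsuff : x * γ x = γ (γ x) ∧ ∀ a : A, a * a = 1 from hsuff
  set y := γ x with hy
  set z := γ y with hz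
  -- `γ z = x`
  have hγz : γ z = x := by
    rcases hall (γ z) with h | h | h | h
    · exact absurd ((map_eq_one_iff γ γ.injective).mp h) hz1
    · exact h
    · exact absurd (γ.injective h) hzx
    · exact absurd (γ.injective h) hzy
  -- `x * y = z`
  have hxy : x * y = z := by
    rcases hall (x * y) with h | h | h | h
    · exfalso
      have h1 : y = x⁻¹ := eq_inv_of_mul_eq_one_right h
      have h2 : z = y⁻¹ := by rw [hz, h1, map_inv, ← hy, h1]
      apply hzx
      rw [h2, h1, inv_inv]
    · exact absurd (mul_eq_left.mp h) hy1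
    · exact absurd (mul_eq_right.mp h) hx1
    · exact h
  have hyz : y * z = x := by
    have := congrArg γ hxy
    rwa [map_mul, ← hy, ← hz, hγz] at this
  have hzx' : z * x = y := by
    have := congrArg γ hyz
    rwa [map_mul, ← hz, hγz, ← hy] at this
  -- squares
  have hxx : x * x = 1 := by
    have h1 : y * (x * y) = x := by rw [hxy, hyz]
    have h2 : (x * y) * x = y := by rw [hxy, hzx']
    -- from `y x y = x` and `x y x = y`: `x y x y = y y` and `x (y x y) = x x`
    have h3 : x * y * x * y = y * y := by rw [h2]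
    have h4 : x * y * x * y = x * x := by
      calc x * y * x * y = x * (y * (x * y)) := by group
        _ = x * x := by rw [h1]
    -- so `x x = y y`; apply γ cyclically: `y y = z z`, `z z = x x`
    have h5 : x * x = y * y := h4.symm.trans h3
    -- `x * x ∈ {1, x, y, z}`
    rcases hall (x * x) with h | h | h | h
    · exact h
    · exact absurd (mul_eq_left.mp h) hx1
    · -- `x x = y`: then `y y = γ (x x) = γ y = z`, but `x x = y y` gives `y = z`
      exfalso
      have h6 : y * y = z := by
        have := congrArg γ h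
        rwa [map_mul, ← hy, ← hz] at this
      exact hzy (by rw [← h6, ← h5, h])
    · -- `x x = z`: then `y y = γ z = x`, and `x x = y y` gives `z = x`
      exfalso
      have h6 : y * y = x := by
        have := congrArg γ h
        rwa [map_mul, ← hy, hγz] at this
      exact hzx (by rw [← h, h5, h6])
  have hyy : y * y = 1 := by
    have := congrArg γ hxx
    rwa [map_mul, ← hy, map_one] at this
  have hzz : z * z = 1 := by
    have := congrArg γ hyy
    rwa [map_mul, ← hz, map_one] at this
  refine ⟨hxy, ?_⟩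
  intro a
  rcases hall a with rfl | rfl | rfl | rfl
  · simp
  · exact hxx
  · exact hyy
  · exact hzz

end OrderFour

section ClassTwo

variable {P : Type*} [Group P]

theorem conj_central {c : P} (hc : c ∈ Subgroup.center P) (g : P) : g * c * g⁻¹ = c := by
  rw [Subgroup.mem_center_iff] at hc
  rw [hc g, mul_inv_cancel_right]

theorem comm_central_mul (d u h : P) (hd : d ∈ Subgroup.center P) : ⁅d * u, h⁆ = ⁅u, h⁆ := by
  rw [commutatorElement_mul_left_eq_conj_mul]
  have h1 : ⁅d, h⁆ = 1 := by
    rw [commutatorElement_eq_one_iff_mul_comm]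
    exact ((Subgroup.mem_center_iff.mp hd) h).symm
  rw [h1, mul_one]
  rw [← (Subgroup.mem_center_iff.mp hd) ⁅u, h⁆, mul_inv_cancel_right]

theorem comm_mul_central (g d v : P) (hd : d ∈ Subgroup.center P) : ⁅g, d * v⁆ = ⁅g, v⁆ := by
  rw [← commutatorElement_inv, comm_central_mul d v g hd, commutatorElement_inv]

/-- If `P' ≤ Z(P)` and `P = P' ∪ P'x ∪ P'y ∪ P'xy`, then `P'` is generated by `⁅x, y⁆`. -/
theorem commutator_le_zpowers (hDZ : commutator P ≤ Subgroup.center P) (x y : P)
    (hcos : ∀ g : P, g ∈ commutator P ∨ g * x⁻¹ ∈ commutator P ∨ g * y⁻¹ ∈ commutator P ∨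
      g * (x * y)⁻¹ ∈ commutator P) :
    commutator P ≤ Subgroup.zpowers ⁅x, y⁆ := by
  set c := ⁅x, y⁆ with hc
  have hcD : c ∈ commutator P := Subgroup.commutator_mem_commutator (Subgroup.mem_top x)
    (Subgroup.mem_top y)
  have hcZ : c ∈ Subgroup.center P := hDZ hcD
  have hcc : c ∈ Subgroup.zpowers c := Subgroup.mem_zpowers c
  have hci : c⁻¹ ∈ Subgroup.zpowers c := inv_mem hcc
  -- every element is `d * u` with `d` central and `u ∈ {1, x, y, x * y}`
  have hdec : ∀ g : P, ∃ d u : P, d ∈ Subgroup.center P ∧ g = d * u ∧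
      (u = 1 ∨ u = x ∨ u = y ∨ u = x * y) := by
    intro g
    rcases hcos g with h | h | h | h
    · exact ⟨g, 1, hDZ h, (mul_one g).symm, Or.inl rfl⟩
    · exact ⟨g * x⁻¹, x, hDZ h, by group, Or.inr (Or.inl rfl)⟩
    · exact ⟨g * y⁻¹, y, hDZ h, by group, Or.inr (Or.inr (Or.inl rfl))⟩
    · exact ⟨g * (x * y)⁻¹, x * y, hDZ h, by group, Or.inr (Or.inr (Or.inr rfl))⟩
  have hyx : ⁅y, x⁆ = c⁻¹ := by rw [hc, commutatorElement_inv]
  have h_x_xy : ⁅x, x * y⁆ = c := by
    have : ⁅x, x * y⁆ = x * ⁅x, y⁆ * x⁻¹ := by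
      simp only [commutatorElement_def]; group
    rw [this, ← hc, conj_central hcZ]
  have h_y_xy : ⁅y, x * y⁆ = c⁻¹ := by
    have : ⁅y, x * y⁆ = ⁅y, x⁆ := by
      simp only [commutatorElement_def]; group
    rw [this, hyx]
  have h_xy_x : ⁅x * y, x⁆ = c⁻¹ := by rw [← commutatorElement_inv, h_x_xy]
  have h_xy_y : ⁅x * y, y⁆ = c := by
    rw [← commutatorElement_inv, h_y_xy, inv_inv]
  rw [commutator_def, Subgroup.commutator_le]
  intro g _ h _
  obtain ⟨d₁, u, hd₁, rfl, hu⟩ := hdec g
  obtain ⟨d₂, v, hd₂, rfl, hv⟩ := hdec h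
  rw [comm_central_mul d₁ u _ hd₁, comm_mul_central u d₂ v hd₂]
  rcases hu with rfl | rfl | rfl | rfl <;> rcases hv with rfl | rfl | rfl | rfl
  all_goals first
    | (rw [commutatorElement_one_left]; exact one_mem _)
    | (rw [commutatorElement_one_right]; exact one_mem _)
    | (rw [commutatorElement_self]; exact one_mem _)
    | (rw [← hc]; exact hcc)
    | (rw [hyx]; exact hci)
    | (rw [h_x_xy]; exact hcc)
    | (rw [h_y_xy]; exact hci)
    | (rw [h_xy_x]; exact hci)
    | (rw [h_xy_y]; exact hcc)

/-- In the same situation, `⁅x, y⁆ ^ 2 = 1` when `y * y` is central. -/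
theorem commutator_sq_eq_one (x y : P) (hc : ⁅x, y⁆ ∈ Subgroup.center P)
    (hy : y * y ∈ Subgroup.center P) : ⁅x, y⁆ * ⁅x, y⁆ = 1 := by
  set c := ⁅x, y⁆ with hcdef
  -- `x y x⁻¹ = c y`
  have h1 : x * y * x⁻¹ = c * y := by rw [hcdef, commutatorElement_def]; group
  have h2 : x * (y * y) * x⁻¹ = c * c * (y * y) := by
    have hcy : y * c = c * y := (Subgroup.mem_center_iff.mp hc) y
    calc x * (y * y) * x⁻¹ = (x * y * x⁻¹) * (x * y * x⁻¹) := by group
      _ = c * y * (c * y) := by rw [h1]
      _ = c * (y * c) * y := by group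
      _ = c * (c * y) * y := by rw [hcy]
      _ = c * c * (y * y) := by group
  rw [conj_central hy] at h2
  exact (mul_eq_right.mp h2.symm)

/-- The class two case: conclusion `P ≅ Q₈`. -/
theorem q8_of_class_two [Finite P] (hidx : (commutator P).index = 4)
    (hna : ∃ g h : P, g * h ≠ h * g)
    (hDZ : commutator P ≤ Subgroup.center P)
    (β : MulAut P) (x : P)
    (hcos : ∀ g : P, g ∈ commutator P ∨ g * x⁻¹ ∈ commutator P ∨
      g * (β x)⁻¹ ∈ commutator P ∨ g * (β (β x))⁻¹ ∈ commutator P)
    (hxyz : x * β x * (β (β x))⁻¹ ∈ commutator P)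
    (hsq : ∀ g : P, g * g ∈ commutator P) :
    Nonempty (P ≃* QuaternionGroup 2) := by
  set D := commutator P with hD
  set y := β x with hy
  set z := β y with hz
  set c := ⁅x, y⁆ with hc
  have hcos' : ∀ g : P, g ∈ D ∨ g * x⁻¹ ∈ D ∨ g * y⁻¹ ∈ D ∨ g * (x * y)⁻¹ ∈ D := by
    intro g
    rcases hcos g with h | h | h | h
    · exact Or.inl h
    · exact Or.inr (Or.inl h)
    · exact Or.inr (Or.inr (Or.inl h))
    · refine Or.inr (Or.inr (Or.inr ?_))
      have : g * (x * y)⁻¹ = (g * z⁻¹) * (x * y * z⁻¹)⁻¹ := by group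
      rw [this]
      exact D.mul_mem h (D.inv_mem hxyz)
  have hDle : D ≤ Subgroup.zpowers c := commutator_le_zpowers hDZ x y hcos'
  have hcD : c ∈ D := Subgroup.commutator_mem_commutator (Subgroup.mem_top x)
    (Subgroup.mem_top y)
  have hcZ : c ∈ Subgroup.center P := hDZ hcD
  have hcc : c * c = 1 := commutator_sq_eq_one x y hcZ (hDZ (hsq y))
  have hD2 : ∀ d ∈ D, d = 1 ∨ d = c := by
    intro d hd
    obtain ⟨k, rfl⟩ := Subgroup.mem_zpowers_iff.mp (hDle hd)
    have hc2 : c ^ (2 : ℤ) = 1 := by
      rw [zpow_two]; exact hcc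
    rcases Int.emod_two_eq_zero_or_one k with h | h
    · left
      have : k = 2 * (k / 2) := by omega
      rw [this, zpow_mul, hc2, one_zpow]
    · right
      have : k = 2 * (k / 2) + 1 := by omega
      rw [this, zpow_add, zpow_mul, hc2, one_zpow, one_mul, zpow_one]
  have hc1 : c ≠ 1 := by
    obtain ⟨g, h, hgh⟩ := hna
    have h1 : ⁅g, h⁆ ≠ 1 := fun h0 => hgh (commutatorElement_eq_one_iff_mul_comm.mp h0)
    have h2 : ⁅g, h⁆ ∈ D := Subgroup.commutator_mem_commutator (Subgroup.mem_top g)
      (Subgroup.mem_top h)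
    rcases hD2 _ h2 with h3 | h3
    · exact absurd h3 h1
    · rw [← h3]; exact h1
  have hβc : β c = c := by
    have h1 : β c ∈ D := aut_mem_of_characteristic D β hcD
    rcases hD2 _ h1 with h2 | h2
    · exact absurd ((map_eq_one_iff β β.injective).mp h2) hc1
    · exact h2
  have hβD : ∀ d ∈ D, β d = d := by
    intro d hd
    rcases hD2 d hd with rfl | rfl
    · exact map_one β
    · exact hβc
  have hyy : y * y = x * x := by
    have := hβD _ (hsq x)
    rw [map_mul] at this
    exact this
  have hzz : z * z = x * x := by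
    have := hβD _ (hsq y)
    rw [map_mul, hyy] at this
    exact this
  have hdd : ∀ d ∈ D, d * d = 1 := by
    intro d hd
    rcases hD2 d hd with rfl | rfl
    · exact one_mul 1
    · exact hcc
  have hsq_out : ∀ g : P, g ∉ D → g * g = x * x := by
    intro g hg
    have key : ∀ u : P, g * u⁻¹ ∈ D → g * g = u * u := by
      intro u hu
      set d := g * u⁻¹ with hd
      have hdZ := Subgroup.mem_center_iff.mp (hDZ hu)
      have hg' : g = d * u := by rw [hd]; group
      calc g * g = d * u * (d * u) := by rw [← hg']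
        _ = d * (u * d) * u := by group
        _ = d * (d * u) * u := by rw [hdZ u]
        _ = (d * d) * (u * u) := by group
        _ = u * u := by rw [hdd d hu, one_mul]
    rcases hcos g with h | h | h | h
    · exact absurd h hg
    · exact key x h
    · rw [key y h, hyy]
    · rw [key z h, hzz]
  have hxx : x * x = c := by
    rcases hD2 _ (hsq x) with h | h
    · exfalso
      obtain ⟨g, k, hgk⟩ := hna
      have hall : ∀ a : P, a * a = 1 := by
        intro a
        by_cases ha : a ∈ D
        · exact hdd a ha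
        · rw [hsq_out a ha, h]
      apply hgk
      have h1 := hall (g * k)
      have h2 := hall g
      have h3 := hall k
      calc g * k = g * ((g * k) * (g * k)) * k := by rw [h1, mul_one]
        _ = (g * g) * (k * g) * (k * k) := by group
        _ = k * g := by rw [h2, h3, one_mul, mul_one]
    · exact h
  -- order computations
  have hcardD : Nat.card D = 2 := by
    have hDeq : D = Subgroup.zpowers c := le_antisymm hDle (Subgroup.zpowers_le.mpr hcD)
    rw [hDeq, Nat.card_zpowers]
    exact orderOf_eq_prime (by rw [pow_two]; exact hcc) hc1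
  have hcard : Nat.card P = 4 * 2 := by
    rw [← Subgroup.index_mul_card D, hidx, hcardD]
  have hx4 : x ^ 4 = 1 := by
    have : x ^ 4 = (x * x) * (x * x) := by
      rw [← pow_two, ← pow_two, ← pow_mul]
    rw [this, hxx, hcc]
  have hordx : orderOf x = 2 * 2 := by
    have := orderOf_eq_prime_pow (x := x) (p := 2) (n := 1)
      (by rw [pow_one, pow_two, hxx]; exact hc1) (by norm_num; exact hx4)
    rw [this]; norm_num
  have hb : y * y = x ^ 2 := by rw [hyy, pow_two]
  have hab : y * x * y⁻¹ = x⁻¹ := by
    have h1 : ⁅y, x⁆ = c := by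
      rw [← commutatorElement_inv, ← hc]
      exact inv_eq_of_mul_eq_one_left hcc
    have h2 : y * x * y⁻¹ = c * x := by
      rw [← h1, commutatorElement_def]; group
    have h3 : x⁻¹ = x * x * x := by
      apply inv_eq_of_mul_eq_one_left
      have : x * x * x * x = x ^ 4 := by
        rw [pow_succ, pow_succ, pow_succ, pow_one]
      rw [this, hx4]
    rw [h2, h3, hxx]
  have hba : y ∉ Subgroup.zpowers x :=
    Helper2.QLift.not_mem_zpowers_of_sq_ne x y hab (by rw [pow_two, hxx]; exact hc1)
  exact Helper2.QLift.nonempty_mulEquiv_quaternionGroup 2 hcard x y hordx hb hab hba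

end ClassTwo

section NonCapable

open QuaternionGroup in
theorem quaternion_two_closure :
    Subgroup.closure ({xa 0, a 1} : Set (QuaternionGroup 2)) = ⊤ := by
  rw [eq_top_iff]
  intro x _
  have hr : ∀ i : ZMod (2 * 2), (a i : QuaternionGroup 2) ∈
      Subgroup.closure ({xa 0, a 1} : Set (QuaternionGroup 2)) := by
    intro i
    have : (a i : QuaternionGroup 2) = (a 1) ^ (i.val) := by
      rw [a_one_pow, ZMod.natCast_zmod_val]
    rw [this]; exact pow_mem (Subgroup.subset_closure (by simp)) _
  cases x with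
  | a i => exact hr i
  | xa i =>
    have : (xa i : QuaternionGroup 2) = xa 0 * a i := by rw [xa_mul_a, zero_add]
    rw [this]; exact mul_mem (Subgroup.subset_closure (by simp)) (hr i)

variable {P : Type*} [Group P]

/-- `Q₈` is not a central quotient `P ⧸ N` when central squares lie in `N`. -/
theorem no_q8_quotient (N : Subgroup P) [N.Normal] (hN : N ≤ Subgroup.center P)
    (hsqN : ∀ g : P, g * g ∈ Subgroup.center P → g * g ∈ N)
    (e : P ⧸ N ≃* QuaternionGroup 2) : False := by
  obtain ⟨a, ha⟩ := QuotientGroup.mk_surjective (s := N) (e.symm (QuaternionGroup.a 1))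
  obtain ⟨b, hb⟩ := QuotientGroup.mk_surjective (s := N) (e.symm (QuaternionGroup.xa 0))
  have hq : (QuaternionGroup.a 1 : QuaternionGroup 2) * QuaternionGroup.a 1 =
      QuaternionGroup.xa 0 * QuaternionGroup.xa 0 := by decide
  have hq1 : (QuaternionGroup.xa 0 : QuaternionGroup 2) * QuaternionGroup.xa 0 ≠ 1 := by decide
  have h2 : ((a * a : P) : P ⧸ N) = ((b * b : P) : P ⧸ N) := by
    rw [QuotientGroup.mk_mul, QuotientGroup.mk_mul, ha, hb, ← map_mul, ← map_mul, hq]
  have h3 : ((b * b : P) : P ⧸ N) ≠ 1 := by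
    rw [QuotientGroup.mk_mul, hb, ← map_mul]
    intro h
    exact hq1 ((map_eq_one_iff e.symm e.symm.injective).mp h)
  have hgen : Subgroup.closure ({a, b} : Set P) ⊔ N = ⊤ := by
    have h4 : (Subgroup.closure ({a, b} : Set P)).map (QuotientGroup.mk' N) = ⊤ := by
      rw [MonoidHom.map_closure]
      have : (QuotientGroup.mk' N) '' ({a, b} : Set P) =
          (e.symm : QuaternionGroup 2 →* P ⧸ N) ''
            ({QuaternionGroup.xa 0, QuaternionGroup.a 1} : Set (QuaternionGroup 2)) := by
        rw [Set.image_pair, Set.image_pair]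
        simp only [QuotientGroup.mk'_apply, MonoidHom.coe_coe]
        rw [ha, hb, Set.pair_comm]
      rw [this, ← MonoidHom.map_closure, quaternion_two_closure, ← MonoidHom.range_eq_map]
      exact MonoidHom.range_eq_top.mpr e.symm.surjective
    have h5 := Subgroup.comap_map_eq (QuotientGroup.mk' N) (Subgroup.closure ({a, b} : Set P))
    rw [h4, Subgroup.comap_top, QuotientGroup.ker_mk'] at h5
    exact h5.symm
  have hbbZ : b * b ∈ Subgroup.center P := by
    have h6 : (a * a)⁻¹ * (b * b) ∈ N := QuotientGroup.eq.mp h2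
    have hnZ := Subgroup.mem_center_iff.mp (hN h6)
    have hle : Subgroup.closure ({a, b} : Set P) ⊔ N ≤
        Subgroup.centralizer ({b * b} : Set P) := by
      apply sup_le
      · rw [Subgroup.closure_le]
        intro u hu
        rcases hu with hu | hu
        · rw [hu, SetLike.mem_coe, Subgroup.mem_centralizer_singleton_iff]
          set n := (a * a)⁻¹ * (b * b) with hn
          have hbb : b * b = (a * a) * n := by rw [hn]; group
          rw [hbb]
          calc a * (a * a * n) = (a * a) * (a * n) := by group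
            _ = (a * a) * (n * a) := by rw [hnZ a]
            _ = a * a * n * a := by group
        · rw [Set.mem_singleton_iff] at hu
          rw [hu, SetLike.mem_coe, Subgroup.mem_centralizer_singleton_iff]
          group
      · intro n hn
        rw [Subgroup.mem_centralizer_singleton_iff]
        exact ((Subgroup.mem_center_iff.mp (hN hn)) (b * b)).symm
    rw [hgen] at hle
    rw [Subgroup.mem_center_iff]
    intro g
    exact Subgroup.mem_centralizer_singleton_iff.mp (hle (Subgroup.mem_top g))
  exact h3 ((QuotientGroup.eq_one_iff _).mpr (hsqN b hbbZ))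

end NonCapable

section Main

/-- A nontrivial normal subgroup of a finite `p`-group meets the centre nontrivially. -/
theorem exists_ne_one_mem_inf_center' {G : Type*} [Group G] [Finite G] {p : ℕ} [Fact p.Prime]
    (hG : IsPGroup p G) (N : Subgroup G) [N.Normal] (hN : N ≠ ⊥) :
    ∃ z ∈ N, z ≠ 1 ∧ z ∈ Subgroup.center G := by
  have h1 : (1 : N) ∈ MulAction.fixedPoints (ConjAct G) N := by
    intro g
    exact smul_one g
  have dvd : p ∣ Nat.card N := by
    have hNp : IsPGroup p N := hG.to_subgroup N
    have : Nontrivial N := (Subgroup.nontrivial_iff_ne_bot N).2 hN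
    obtain ⟨n, hn0, hn⟩ := hNp.nontrivial_iff_card.mp inferInstance
    exact hn.symm ▸ dvd_pow_self _ (ne_of_gt hn0)
  obtain ⟨b, hb, hb1⟩ :=
    (hG.of_equiv ConjAct.toConjAct).exists_fixed_point_of_prime_dvd_card_of_fixed_point N dvd h1
  refine ⟨b, b.2, ?_, ?_⟩
  · intro h; exact hb1 (Subtype.ext h.symm)
  · rw [Subgroup.mem_center_iff]
    intro g
    have := hb (ConjAct.toConjAct g)
    have h2 : g * (b : G) * g⁻¹ = b := by
      have := congrArg Subtype.val this
      simpa [ConjAct.Subgroup.val_conj_smul, ConjAct.smul_def] using this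
    calc g * b = g * b * g⁻¹ * g := by group
      _ = b * g := by rw [h2]

universe u

theorem q8_main : ∀ (n : ℕ) (P : Type u) [Group P] [Finite P], Nat.card P = n → IsPGroup 2 P →
    (∃ g h : P, g * h ≠ h * g) → (commutator P).index = 4 →
    ∀ (β : MulAut P) (m : ℕ), Odd m → β ^ m = 1 → β ≠ 1 →
      Nonempty (P ≃* QuaternionGroup 2) := by
  intro n
  induction n using Nat.strong_induction_on with
  | _ n ih =>
  intro P _ _ hcard hP hna hidx β m hm hβm hβ1
  have : Fact (Nat.Prime 2) := ⟨Nat.prime_two⟩
  set D := commutator P with hD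
  -- Step 1: `β` moves some coset of `D`
  have hex : ∃ x, β x * x⁻¹ ∉ D := by
    by_contra hcon
    push Not at hcon
    have hfr : ∀ x, β x * x⁻¹ ∈ frattini P :=
      fun x => Helper1.IsPGroup.commutator_le_frattini hP (hcon x)
    obtain ⟨k, hk⟩ := Helper21.FrattiniAut.exists_pow_eq_one_of_mem_ker P hP β hfr
    apply hβ1
    have h1 : orderOf β ∣ 2 ^ k := orderOf_dvd_of_pow_eq_one hk
    have h2 : orderOf β ∣ m := orderOf_dvd_of_pow_eq_one hβm
    have hc : Nat.Coprime (2 ^ k) m := Nat.Coprime.pow_left k (Nat.coprime_two_left.mpr hm)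
    have h3 : orderOf β = 1 := Nat.eq_one_of_dvd_coprimes hc h1 h2
    exact orderOf_eq_one_iff.mp h3
  obtain ⟨x, hx⟩ := hex
  -- Step 2: the quotient `P ⧸ D` of order four
  have hA : Nat.card (P ⧸ D) = 4 := by rw [← Subgroup.index_eq_card]; exact hidx
  have hγm : (quotAutHom D β) ^ m = 1 := by rw [← map_pow, hβm, map_one]
  have hγx : quotAutHom D β (x : P ⧸ D) ≠ (x : P ⧸ D) := by
    rw [quotAutHom_apply]
    intro h
    have := QuotientGroup.eq_iff_div_mem.mp h
    rw [div_eq_mul_inv] at this
    exact hx this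
  obtain ⟨hall, hx1, hy1, hz1, hzx, hzy, hxyA, hsqA⟩ :=
    order_four_aut hA (quotAutHom D β) m hm hγm (x : P ⧸ D) hγx
  simp only [quotAutHom_apply] at hall hxyA
  have hcos : ∀ g : P, g ∈ D ∨ g * x⁻¹ ∈ D ∨ g * (β x)⁻¹ ∈ D ∨ g * (β (β x))⁻¹ ∈ D := by
    intro g
    rcases hall (g : P ⧸ D) with h | h | h | h
    · left; exact (QuotientGroup.eq_one_iff g).mp h
    · right; left
      have := QuotientGroup.eq_iff_div_mem.mp h
      rwa [div_eq_mul_inv] at this
    · right; right; left
      have := QuotientGroup.eq_iff_div_mem.mp h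
      rwa [div_eq_mul_inv] at this
    · right; right; right
      have := QuotientGroup.eq_iff_div_mem.mp h
      rwa [div_eq_mul_inv] at this
  have hsq : ∀ g : P, g * g ∈ D := fun g =>
    (QuotientGroup.eq_one_iff _).mp (by rw [QuotientGroup.mk_mul]; exact hsqA g)
  have hxyz : x * β x * (β (β x))⁻¹ ∈ D := by
    rw [← QuotientGroup.mk_mul] at hxyA
    have := QuotientGroup.eq_iff_div_mem.mp hxyA
    rwa [div_eq_mul_inv] at this
  -- Step 3: the characteristic central subgroup `N = Z(P) ⊓ D`
  set N := Subgroup.center P ⊓ D with hN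
  by_cases hQ : ∀ a b : P ⧸ N, a * b = b * a
  · -- class two
    have hDN : D ≤ N := by
      rw [hD, commutator_def, Subgroup.commutator_le]
      intro g _ h _
      rw [← QuotientGroup.eq_one_iff, commutatorElement_def, QuotientGroup.mk_mul,
        QuotientGroup.mk_mul, QuotientGroup.mk_mul, QuotientGroup.mk_inv, QuotientGroup.mk_inv,
        hQ (g : P ⧸ N) (h : P ⧸ N)]
      group
    exact q8_of_class_two hidx hna (hDN.trans inf_le_left) β x hcos hxyz hsq
  · exfalso
    push Not at hQ
    have hDbot : D ≠ ⊥ := by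
      intro h0
      obtain ⟨g, h, hgh⟩ := hna
      apply hgh
      have : ⁅g, h⁆ ∈ D := Subgroup.commutator_mem_commutator (Subgroup.mem_top g)
        (Subgroup.mem_top h)
      rw [h0, Subgroup.mem_bot] at this
      exact commutatorElement_eq_one_iff_mul_comm.mp this
    obtain ⟨z, hzD, hz1', hzZ⟩ := exists_ne_one_mem_inf_center' hP D hDbot
    have hNbot : N ≠ ⊥ := by
      intro h0
      have : z ∈ N := ⟨hzZ, hzD⟩
      rw [h0, Subgroup.mem_bot] at this
      exact hz1' this
    have hcardQ : Nat.card (P ⧸ N) < n := by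
      have h1 := Subgroup.card_eq_card_quotient_mul_card_subgroup N
      have h2 : 1 < Nat.card N := (Subgroup.one_lt_card_iff_ne_bot N).mpr hNbot
      have h3 : 0 < Nat.card (P ⧸ N) := Nat.card_pos
      rw [← hcard, h1]
      nlinarith
    have hidxQ : (commutator (P ⧸ N)).index = 4 := by
      have h1 : commutator (P ⧸ N) = D.map (QuotientGroup.mk' N) := by
        show commutator (P ⧸ N) = (commutator P).map (QuotientGroup.mk' N)
        rw [commutator_def, commutator_def, Subgroup.map_commutator,
          Subgroup.map_top_of_surjective _ (QuotientGroup.mk'_surjective N)]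
      rw [h1, Subgroup.index_map_eq _ (QuotientGroup.mk'_surjective N)
        (by rw [QuotientGroup.ker_mk']; exact inf_le_right)]
      exact hidx
    have hβQm : (quotAutHom N β) ^ m = 1 := by rw [← map_pow, hβm, map_one]
    have hβQ1 : quotAutHom N β ≠ 1 := by
      intro h0
      have h1 : quotAutHom N β (x : P ⧸ N) = (x : P ⧸ N) := by rw [h0]; rfl
      rw [quotAutHom_apply] at h1
      have := QuotientGroup.eq_iff_div_mem.mp h1
      rw [div_eq_mul_inv] at this
      exact hx this.2
    obtain ⟨a, b, hab⟩ := hQ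
    obtain ⟨e⟩ := ih (Nat.card (P ⧸ N)) hcardQ (P ⧸ N) rfl (hP.to_quotient N) ⟨a, b, hab⟩ hidxQ
      (quotAutHom N β) m hm hβQm hβQ1
    exact no_q8_quotient N inf_le_left (fun g hg => ⟨hg, hsq g⟩) e

/-- A nonabelian finite 2-group whose commutator subgroup has index four and whose automorphism
group is not a 2-group is the quaternion group of order eight. -/
theorem q8_of_aut {P : Type u} [Group P] [Finite P] (hP : IsPGroup 2 P)
    (hna : ¬ IsMulCommutative P) (h4 : (commutator P).index = 4)
    (haut : ¬ IsPGroup 2 (MulAut P)) : Nonempty (P ≃* QuaternionGroup 2) := by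
  have hna' : ∃ g h : P, g * h ≠ h * g := by
    by_contra hcon
    push Not at hcon
    exact hna ⟨⟨hcon⟩⟩
  unfold IsPGroup at haut
  push Not at haut
  obtain ⟨α, hα⟩ := haut
  have hord : orderOf α ≠ 0 := (orderOf_pos α).ne'
  obtain ⟨k, m, hm, hkm⟩ := Nat.exists_eq_two_pow_mul_odd hord
  refine q8_main (Nat.card P) P rfl hP hna' h4 (α ^ 2 ^ k) m hm ?_ (hα k)
  rw [← pow_mul, ← hkm, pow_orderOf_eq_one]

end Main

end Cfsg.Agent.Helper11.Q8Aut
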