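import Mathlib
import Cfsg.Agent.Helper8.D1Base

/-!
Defect-one cluster (helper8's plan), piece QL, part a: `p`-linear functions on a group `X` with a
central subgroup `Z` of order `p` and index prime to `p` (QL1 - QL4).
-/

set_option autoImplicit false
set_option linter.unusedSectionVars false
set_option linter.unusedVariables false

namespace Cfsg.Agent.Helper11.D1QL

open Cfsg Cfsg.Agent.Helper8.D1

section

variable {X : Type*} [Group X] [Finite X] {p : ℕ} [Fact p.Prime] (Z : Subgroup X)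

omit [Finite X] [Fact p.Prime] in
theorem card_eq (hZ : Nat.card Z = p) : Nat.card X = p * Z.index := by
  rw [← hZ, Subgroup.card_mul_index]

omit [Finite X] [Fact p.Prime] in
theorem pow_index_mem (hZc : Z ≤ Subgroup.center X) (x : X) : x ^ Z.index ∈ Z := by
  have : Z.Normal := ⟨fun n hn g => by
    have h1 : g * n = n * g := (Subgroup.mem_center_iff.mp (hZc hn) g)
    rw [h1, mul_inv_cancel_right]
    exact hn⟩
  exact Subgroup.pow_index_mem Z x

omit [Finite X] [Fact p.Prime] in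
theorem pow_p_eq_one (hZ : Nat.card Z = p) {z : X} (hz : z ∈ Z) : z ^ p = 1 := by
  have h1 : (⟨z, hz⟩ : Z) ^ Nat.card Z = 1 := pow_card_eq_one'
  rw [hZ] at h1
  exact congrArg Subtype.val h1

omit [Fact p.Prime] in
/-- the `p`-th power of any element is `p`-regular -/
theorem not_dvd_orderOf_pow (hZ : Nat.card Z = p) (hZi : ¬ p ∣ Z.index) (x : X) :
    ¬ p ∣ orderOf (x ^ p) := by
  intro h
  apply hZi
  refine h.trans (orderOf_dvd_of_pow_eq_one ?_)
  rw [← pow_mul, ← card_eq Z hZ]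
  exact pow_card_eq_one'

/-- QL3: values are `p`-th roots of unity -/
theorem pLin_pow_p (hZ : Nat.card Z = p) (hZc : Z ≤ Subgroup.center X) (hZi : ¬ p ∣ Z.index)
    {μ : X → ℂ} (hμ : IsPLin p μ) (x : X) : μ x ^ p = 1 := by
  rw [← hμ.pow, hμ.reg _ (not_dvd_orderOf_pow Z hZ hZi x)]

omit [Finite X] in
theorem index_coprime (hZi : ¬ p ∣ Z.index) : Nat.Coprime Z.index p :=
  ((Nat.Prime.coprime_iff_not_dvd (Fact.out : p.Prime)).mpr hZi).symm

theorem eq_of_pow_eq {m : ℕ} (hm : Nat.Coprime m p) {a b : ℂ} (h1 : a ^ m = b ^ m)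
    (ha : a ^ p = 1) (hb : b ^ p = 1) : a = b := by
  have hp := (Fact.out : p.Prime)
  obtain ⟨c, -, hc⟩ := Nat.exists_mul_mod_eq_one_of_coprime hm hp.one_lt
  have h2 : m * c = p * (m * c / p) + 1 := by
    have := Nat.div_add_mod (m * c) p
    omega
  have h3 : ∀ y : ℂ, y ^ p = 1 → y ^ (m * c) = y := by
    intro y hy
    rw [h2, pow_succ, pow_mul, hy, one_pow, one_mul]
  rw [← h3 a ha, ← h3 b hb, pow_mul, pow_mul, h1]

/-- QL4: two `p`-linear functions agreeing on `Z` are equal -/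
theorem pLin_ext (hZ : Nat.card Z = p) (hZc : Z ≤ Subgroup.center X) (hZi : ¬ p ∣ Z.index)
    {μ ν : X → ℂ} (hμ : IsPLin p μ) (hν : IsPLin p ν) (h : ∀ u ∈ Z, μ u = ν u) :
    μ = ν := by
  funext x
  refine eq_of_pow_eq (index_coprime Z hZi) ?_ (pLin_pow_p Z hZ hZc hZi hμ x)
    (pLin_pow_p Z hZ hZc hZi hν x)
  rw [← hμ.pow, ← hν.pow]
  exact h _ (pow_index_mem Z hZc x)

/-- QL2: a non-trivial one is non-trivial at every non-identity element of `Z` -/
theorem pLin_apply_ne_one (hZ : Nat.card Z = p) (hZc : Z ≤ Subgroup.center X)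
    (hZi : ¬ p ∣ Z.index) {μ : X → ℂ} (hμ : IsPLin p μ) (hμ1 : ∃ x, μ x ≠ 1) {u : X}
    (hu : u ∈ Z) (hu1 : u ≠ 1) : μ u ≠ 1 := by
  intro h1
  obtain ⟨x, hx⟩ := hμ1
  apply hx
  have h2 : μ = fun _ => (1 : ℂ) := by
    refine pLin_ext Z hZ hZc hZi hμ (isPLin_one p) ?_
    intro z hz
    have h3 : (⟨u, hu⟩ : Z) ≠ 1 := fun hh => hu1 (congrArg Subtype.val hh)
    obtain ⟨k, hk⟩ := mem_powers_of_prime_card (G := Z) hZ h3 (g' := ⟨z, hz⟩)
    have h4 : z = u ^ k := by
      have := congrArg Subtype.val hk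
      simpa using this.symm
    rw [h4, hμ.pow, h1, one_pow]
  rw [h2]

/-- a retraction of `X` onto `Z` (Burnside transfer) -/
theorem exists_retraction (hZ : Nat.card Z = p) (hZc : Z ≤ Subgroup.center X)
    (hZi : ¬ p ∣ Z.index) : ∃ r : X →* Z, ∀ z : Z, r z = z := by
  classical
  have hp := (Fact.out : p.Prime)
  have hPG : IsPGroup p Z := IsPGroup.of_card (n := 1) (by rw [hZ, pow_one])
  set P : Sylow p X := hPG.toSylow hZi with hPdef
  have hPZ : ∀ g : X, g ∈ P ↔ g ∈ Z := fun g => hPG.mem_toSylow hZi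
  have hPc : Subgroup.normalizer ((P : Subgroup X) : Set X) ≤ Subgroup.centralizer (P : Set X) := by
    intro g _
    rw [Subgroup.mem_centralizer_iff]
    intro z hz
    have h1 : z ∈ Subgroup.center X := hZc ((hPZ z).mp hz)
    exact (Subgroup.mem_center_iff.mp h1 g).symm
  obtain ⟨a, -, ha⟩ := Nat.exists_mul_mod_eq_one_of_coprime (index_coprime Z hZi) hp.one_lt
  have h2 : Z.index * a = p * (Z.index * a / p) + 1 := by
    have := Nat.div_add_mod (Z.index * a) p
    omega
  have hmem : ∀ x : X, ((MonoidHom.transferSylow P hPc x : P) : X) ^ a ∈ Z := fun x =>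
    Z.pow_mem ((hPZ _).mp (MonoidHom.transferSylow P hPc x).2) a
  refine ⟨{ toFun := fun x => ⟨((MonoidHom.transferSylow P hPc x : P) : X) ^ a, hmem x⟩
            map_one' := ?_
            map_mul' := ?_ }, ?_⟩
  · apply Subtype.ext
    simp
  · intro x y
    apply Subtype.ext
    simp only [map_mul, Subgroup.coe_mul]
    have h1 : ((MonoidHom.transferSylow P hPc y : P) : X) ∈ Subgroup.center X :=
      hZc ((hPZ _).mp (MonoidHom.transferSylow P hPc y).2)
    have h3 : Commute ((MonoidHom.transferSylow P hPc x : P) : X)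
        ((MonoidHom.transferSylow P hPc y : P) : X) :=
      (Subgroup.mem_center_iff.mp h1 _)
    exact h3.mul_pow a
  · intro z
    apply Subtype.ext
    have hz : (z : X) ∈ P := (hPZ _).mpr z.2
    have h1 := MonoidHom.transferSylow_eq_pow P hPc (z : X) hz
    show ((MonoidHom.transferSylow P hPc (z : X) : P) : X) ^ a = z
    rw [h1]
    show ((z : X) ^ (P : Subgroup X).index) ^ a = z
    have h4 : (P : Subgroup X) = Z := hPG.toSylow_coe hZi
    rw [h4, ← pow_mul, h2, pow_succ, pow_mul, pow_p_eq_one Z hZ z.2, one_pow, one_mul]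

/-- QL1: there are exactly `p` of them -/
theorem card_pLin (hZ : Nat.card Z = p) (hZc : Z ≤ Subgroup.center X) (hZi : ¬ p ∣ Z.index) :
    Nat.card {μ : X → ℂ // IsPLin p μ} = p := by
  classical
  have hp := (Fact.out : p.Prime)
  let _ : CommGroup Z := { (inferInstance : Group Z) with
    mul_comm := fun a b => Subtype.ext (Subgroup.mem_center_iff.mp (hZc a.2) b).symm }
  have hcard : Nat.card (Z →* ℂˣ) = Nat.card Z :=
    CommGroup.card_monoidHom_of_hasEnoughRootsOfUnity Z ℂ
  obtain ⟨r, hr⟩ := exists_retraction Z hZ hZc hZi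
  refine (Nat.card_congr (Equiv.ofBijective
    (fun μ : {μ : X → ℂ // IsPLin p μ} => (μ.2.hom.comp Z.subtype).toHomUnits) ⟨?_, ?_⟩)).trans
    (hcard.trans hZ)
  · intro μ ν h
    apply Subtype.ext
    refine pLin_ext Z hZ hZc hZi μ.2 ν.2 ?_
    intro u hu
    have h1 := congrArg (fun f : Z →* ℂˣ => ((f ⟨u, hu⟩ : ℂˣ) : ℂ)) h
    exact h1
  · intro lam
    have hμ : IsPLin p (fun x : X => ((lam (r x) : ℂˣ) : ℂ)) := by
      refine ⟨by simp, fun a b => by simp, ?_⟩
      intro y hy
      have h1 : orderOf (r y) ∣ orderOf y := orderOf_map_dvd r y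
      have h2 : orderOf (r y) ∣ p := by
        rw [← hZ]; exact orderOf_dvd_natCard _
      have h3 : orderOf (r y) = 1 := by
        rcases (Nat.dvd_prime hp).mp h2 with h4 | h4
        · exact h4
        · exact absurd (h4 ▸ h1) hy
      have h4 : r y = 1 := orderOf_eq_one_iff.mp h3
      simp [h4]
    refine ⟨⟨_, hμ⟩, ?_⟩
    ext z
    show ((lam (r (z : X)) : ℂˣ) : ℂ) = lam z
    rw [hr z]

end

end Cfsg.Agent.Helper11.D1QL
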