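import Mathlib
import Cfsg.Agent.Helper8.D1Base
import Cfsg.Agent.Helper11.D1QL
import Cfsg.Agent.Helper23.Schur
import Cfsg.Agent.Helper24.Abelian

/-!
Defect-one cluster (helper8's plan), piece QL, part b (QL5): every irreducible character of a group
`X` with a central subgroup `Z` of order `p` and index prime to `p` is uniquely `μ · θ` with `μ`
`p`-linear and `Z ≤ ker θ`.
-/

set_option autoImplicit false
set_option linter.unusedSectionVars false
set_option linter.unusedVariables false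

namespace Cfsg.Agent.Helper11.D1QL

open Cfsg Cfsg.Agent.Helper8.D1 Cfsg.Agent.Helper24

/-- a central element acts on an irreducible character by a non-zero scalar -/
theorem irr_central {X : Type*} [Group X] (ξ : IrrCharacter X) {z : X}
    (hz : z ∈ Subgroup.center X) :
    ∃ c : ℂ, c ≠ 0 ∧ ∀ x, (ξ : X → ℂ) (z * x) = c * (ξ : X → ℂ) x := by
  obtain ⟨n, ρ, hρ, hχ⟩ := ξ.2
  have := hρ
  obtain ⟨c, hc⟩ := Cfsg.Agent.Helper23.exists_scalar_of_mem_center ρ z hz
  have h1 : ∀ x, (ξ : X → ℂ) (z * x) = c * (ξ : X → ℂ) x := by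
    intro x
    rw [← hχ]
    unfold Representation.character
    rw [map_mul, hc, Module.End.mul_eq_comp, LinearMap.smul_comp, LinearMap.id_comp, map_smul,
      smul_eq_mul]
  refine ⟨c, ?_, h1⟩
  intro h0
  have h2 := h1 z⁻¹
  rw [mul_inv_cancel, h0, zero_mul, irrDeg_spec] at h2
  have := irrDeg_pos ξ
  have h3 : (irrDeg ξ : ℂ) ≠ 0 := by exact_mod_cast this.ne'
  exact h3 h2

theorem irr_one_ne_zero {X : Type*} [Group X] (ξ : IrrCharacter X) : (ξ : X → ℂ) 1 ≠ 0 := by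
  rw [irrDeg_spec]
  exact_mod_cast (irrDeg_pos ξ).ne'

/-- the central character of an irreducible character on a central subgroup -/
theorem exists_central_hom {X : Type*} [Group X] (Z : Subgroup X) (hZc : Z ≤ Subgroup.center X)
    (ξ : IrrCharacter X) :
    ∃ lam : Z →* ℂ, ∀ z : Z, ∀ x, (ξ : X → ℂ) (z * x) = lam z * (ξ : X → ℂ) x := by
  have h1 : ∀ z : Z, ∃ c : ℂ, c ≠ 0 ∧ ∀ x, (ξ : X → ℂ) (z * x) = c * (ξ : X → ℂ) x :=
    fun z => irr_central ξ (hZc z.2)
  choose c hc0 hc using h1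
  have h1 := irr_one_ne_zero ξ
  refine ⟨{ toFun := c, map_one' := ?_, map_mul' := ?_ }, hc⟩
  · have := hc 1 1
    rw [Subgroup.coe_one, mul_one] at this
    have h2 : (c 1 - 1) * (ξ : X → ℂ) 1 = 0 := by linear_combination -this
    rcases mul_eq_zero.mp h2 with h3 | h3
    · linear_combination h3
    · exact absurd h3 h1
  · intro a b
    have h2 := hc (a * b) 1
    rw [Subgroup.coe_mul, mul_assoc, hc a, hc b] at h2
    have h3 : (c (a * b) - c a * c b) * (ξ : X → ℂ) 1 = 0 := by linear_combination -h2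
    rcases mul_eq_zero.mp h3 with h4 | h4
    · linear_combination h4
    · exact absurd h4 h1

section

variable {X : Type*} [Group X] [Finite X] {p : ℕ} [Fact p.Prime] (Z : Subgroup X)

/-- a homomorphism on `Z` composed with a retraction is `p`-linear -/
theorem isPLin_comp_retraction (hZ : Nat.card Z = p) (r : X →* Z) (lam : Z →* ℂ) :
    IsPLin p (fun x : X => lam (r x)) := by
  have hp := (Fact.out : p.Prime)
  refine ⟨by simp, fun a b => by simp, ?_⟩
  intro y hy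
  have h1 : orderOf (r y) ∣ orderOf y := orderOf_map_dvd r y
  have h2 : orderOf (r y) ∣ p := by
    rw [← hZ]; exact orderOf_dvd_natCard _
  have h3 : orderOf (r y) = 1 := by
    rcases (Nat.dvd_prime hp).mp h2 with h4 | h4
    · exact h4
    · exact absurd (h4 ▸ h1) hy
  have h4 : r y = 1 := orderOf_eq_one_iff.mp h3
  simp [h4]

/-- in a decomposition `ξ = μ θ` with `Z ≤ ker θ` the values of `μ` on `Z` are determined -/
theorem decomp_apply (ξ : IrrCharacter X) {μ : X → ℂ} (hμ : IsPLin p μ) (θ : IrrCharacter X)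
    (hθ : ∀ z ∈ Z, (θ : X → ℂ) z = (θ : X → ℂ) 1)
    (h : (ξ : X → ℂ) = fun x => μ x * (θ : X → ℂ) x) {u : X} (hu : u ∈ Z) :
    μ u = (ξ : X → ℂ) u / (ξ : X → ℂ) 1 := by
  have h1 : (ξ : X → ℂ) u = μ u * (θ : X → ℂ) 1 := by
    rw [h]; simp only; rw [hθ u hu]
  have h2 : (ξ : X → ℂ) 1 = (θ : X → ℂ) 1 := by
    rw [h]; simp only; rw [hμ.one, one_mul]
  rw [h1, h2, mul_div_assoc, div_self (irr_one_ne_zero θ), mul_one]

/-- QL5: every irreducible character is uniquely `μ · θ` with `μ` `p`-linear and `Z ≤ ker θ` -/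
theorem exists_unique_decomp (hZ : Nat.card Z = p) (hZc : Z ≤ Subgroup.center X)
    (hZi : ¬ p ∣ Z.index) (ξ : IrrCharacter X) :
    ∃! pr : {μ : X → ℂ // IsPLin p μ} ×
        {θ : IrrCharacter X // ∀ z ∈ Z, (θ : X → ℂ) z = (θ : X → ℂ) 1},
      (ξ : X → ℂ) = fun x => pr.1.1 x * (pr.2.1 : X → ℂ) x := by
  obtain ⟨r, hr⟩ := exists_retraction Z hZ hZc hZi
  obtain ⟨lam, hlam⟩ := exists_central_hom Z hZc ξ
  have hμ : IsPLin p (fun x : X => lam (r x)) := isPLin_comp_retraction Z hZ r lam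
  have hθirr : IsIrrCharacter X (fun x : X => (lam (r x))⁻¹ * (ξ : X → ℂ) x) :=
    hμ.inv'.isIrr_mul ξ.2
  have hθZ : ∀ z ∈ Z, (fun x : X => (lam (r x))⁻¹ * (ξ : X → ℂ) x) z
      = (fun x : X => (lam (r x))⁻¹ * (ξ : X → ℂ) x) 1 := by
    intro z hz
    simp only
    have h1 := hlam ⟨z, hz⟩ 1
    simp only [mul_one] at h1
    have h2 : r z = ⟨z, hz⟩ := hr ⟨z, hz⟩
    have h3 : lam ⟨z, hz⟩ ≠ 0 := by
      have h4 : lam (r z) ≠ 0 := hμ.ne_zero z
      rwa [h2] at h4
    rw [h2, h1, map_one, map_one, inv_one, one_mul, ← mul_assoc, inv_mul_cancel₀ h3, one_mul]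
  have hdec : (ξ : X → ℂ) = fun x => (fun x : X => lam (r x)) x
      * (fun x : X => (lam (r x))⁻¹ * (ξ : X → ℂ) x) x := by
    funext x
    simp only
    rw [← mul_assoc, mul_inv_cancel₀ (hμ.ne_zero x), one_mul]
  refine ⟨(⟨_, hμ⟩, ⟨⟨_, hθirr⟩, hθZ⟩), hdec, ?_⟩
  rintro ⟨⟨μ', hμ'⟩, ⟨θ', hθ'⟩⟩ h'
  simp only at h'
  have h1 : μ' = fun x : X => lam (r x) := by
    refine pLin_ext Z hZ hZc hZi hμ' hμ ?_
    intro u hu
    rw [decomp_apply Z ξ hμ' θ' hθ' h' hu,
      decomp_apply Z ξ hμ ⟨_, hθirr⟩ hθZ hdec hu]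
  subst h1
  have h2 : θ' = ⟨_, hθirr⟩ := by
    apply Subtype.ext
    funext x
    show (θ' : X → ℂ) x = (lam (r x))⁻¹ * (ξ : X → ℂ) x
    rw [h']
    simp only
    rw [← mul_assoc, inv_mul_cancel₀ (hμ.ne_zero x), one_mul]
  subst h2
  rfl

end

end Cfsg.Agent.Helper11.D1QL
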