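import Mathlib
import Cfsg.Agent.Helper25.QPLEMG
import Cfsg.Agent.Helper4.QPSEC
import Cfsg.Agent.Helper14.QPVANU
import Cfsg.Agent.Helper21.QPFAITH
import Cfsg.Agent.Helper3.QPUNIPM1
import Cfsg.Agent.Helper7.QPS5060R
import Cfsg.Agent.Helper12.QPTHMA

set_option autoImplicit false

/-! Board `qppieces`, piece THMB: `k[X] ⧸ Van1 a b` is a field. -/

noncomputable section

namespace Cfsg.Agent.QPP

open Cfsg Cfsg.Agent.Helper25.QP Cfsg.Agent.Helper25.QuadPair Polynomial

variable {k : Type*} [Field k] {M : Type*} [AddCommGroup M] [Module k M]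

local notation "GLkM" => LinearMap.GeneralLinearGroup k M

/-- `q(z)` injective on `A₁` implies injective on `M₁` -/
theorem THMB_aux_injA [FiniteDimensional k M] (a b : Module.End k M) (ha : a * a = 0)
    (q : k[X]) (hq : ∀ u ∈ A1 a b, aeval (zz a b) q u = 0 → u = 0) :
    ∀ m ∈ M1 a b, aeval (zz a b) q m = 0 → m = 0 := by
  intro m hm h0
  have hcz : Commute a (zz a b) := (zz_mul_a (b := b) ha).symm
  have ham : a m ∈ M1 a b := FIT_inv1 (zz a b) a hcz m hm
  have haam : a (a m) = 0 := by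
    have := congrArg (fun f : Module.End k M => f m) ha
    simpa using this
  have hamA : a m ∈ A1 a b := ⟨ham, haam⟩
  have hqa : aeval (zz a b) q (a m) = 0 := by
    have hc := (commute_aeval_a (b := b) ha q).eq
    have := congrArg (fun f : Module.End k M => f m) hc
    simp only [Module.End.mul_apply] at this
    rw [this, h0, map_zero]
  have : a m = 0 := hq _ hamA hqa
  exact hq m ⟨hm, this⟩ h0

/-- `q(z)` injective on `B₁` implies injective on `M₁` -/
theorem THMB_aux_injB [FiniteDimensional k M] (a b : Module.End k M) (hb : b * b = 0)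
    (q : k[X]) (hq : ∀ u ∈ B1 a b, aeval (zz a b) q u = 0 → u = 0) :
    ∀ m ∈ M1 a b, aeval (zz a b) q m = 0 → m = 0 := by
  intro m hm h0
  have hcz : Commute b (zz a b) := (zz_mul_b (a := a) hb).symm
  have hbm : b m ∈ M1 a b := FIT_inv1 (zz a b) b hcz m hm
  have hbbm : b (b m) = 0 := by
    have := congrArg (fun f : Module.End k M => f m) hb
    simpa using this
  have hbmB : b m ∈ B1 a b := ⟨hbm, hbbm⟩
  have hqb : aeval (zz a b) q (b m) = 0 := by
    have hc := (commute_aeval_b (a := a) hb q).eq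
    have := congrArg (fun f : Module.End k M => f m) hc
    simp only [Module.End.mul_apply] at this
    rw [this, h0, map_zero]
  have : b m = 0 := hq _ hbmB hqb
  exact hq m ⟨hm, this⟩ h0

/-- for `u ∈ A₁`: `a (h u) = γ(z) u` -/
theorem THMB_aux_ahu (a b : Module.End k M) (ha : a * a = 0) (hb : b * b = 0) (P : Co k)
    (u : M) (hu : a u = 0) :
    a ((1 + opn a b P) u) = aeval (zz a b) (Co.ga P) u := by
  have hcs := (commute_aeval_a (b := b) ha P.s).eq
  have hcp := (commute_aeval_a (b := b) ha P.p).eq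
  have hcq := (commute_aeval_a (b := b) ha P.q).eq
  have hct := (commute_aeval_a (b := b) ha P.t).eq
  have e1 : a * (1 + opn a b P) = a + aeval (zz a b) P.p * (a * a * b) + aeval (zz a b) P.q * (a * a)
      + aeval (zz a b) P.s * (a * b) + aeval (zz a b) P.t * (a * b * a) := by
    unfold opn
    rw [mul_add, mul_one, mul_add, mul_add, mul_add, ← mul_assoc a, ← mul_assoc a, ← mul_assoc a,
      ← mul_assoc a, ← hcp, ← hcq, ← hcs, ← hct]
    simp only [mul_assoc]
    abel
  have h1 : a ((1 + opn a b P) u) = (a * (1 + opn a b P)) u := rfl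
  rw [h1, e1, ha]
  simp only [zero_mul, mul_zero, add_zero, LinearMap.add_apply, Module.End.mul_apply, hu, map_zero,
    zero_add]
  have : a (b u) = zz a b u := by simp [zz, hu]
  rw [this]
  simp [Co.ga, mul_comm]

/-- for `u ∈ B₁`: `b (h u) = (X q)(z) u` -/
theorem THMB_aux_bhu (a b : Module.End k M) (ha : a * a = 0) (hb : b * b = 0) (P : Co k)
    (u : M) (hu : b u = 0) :
    b ((1 + opn a b P) u) = aeval (zz a b) (X * P.q) u := by
  have hcs := (commute_aeval_b (a := a) hb P.s).eq
  have hcp := (commute_aeval_b (a := a) hb P.p).eq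
  have hcq := (commute_aeval_b (a := a) hb P.q).eq
  have hct := (commute_aeval_b (a := a) hb P.t).eq
  have e1 : b * (1 + opn a b P) = b + aeval (zz a b) P.p * (b * a * b) + aeval (zz a b) P.q * (b * a)
      + aeval (zz a b) P.s * (b * b) + aeval (zz a b) P.t * (b * b * a) := by
    unfold opn
    rw [mul_add, mul_one, mul_add, mul_add, mul_add, ← mul_assoc b, ← mul_assoc b, ← mul_assoc b,
      ← mul_assoc b, ← hcp, ← hcq, ← hcs, ← hct]
    simp only [mul_assoc]
    abel
  have h1 : b ((1 + opn a b P) u) = (b * (1 + opn a b P)) u := rfl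
  rw [h1, e1, hb]
  simp only [zero_mul, mul_zero, add_zero, LinearMap.add_apply, Module.End.mul_apply, hu, map_zero,
    zero_add]
  have : b (a u) = zz a b u := by simp [zz, hu]
  rw [this]
  simp [mul_comm]

theorem THMB [FiniteDimensional k M] (hk2 : ringChar k ≠ 2) (hk3 : Nat.card k ≠ 3)
    {G : Subgroup GLkM} {d : ℕ} {a b : Module.End k M} (hp : QPair G d a b)
    (hnu : ¬ UnipPair a b) : IsField (k[X] ⧸ Van1 a b) := by
  have ha : a * a = 0 := hp.qa.1.1
  have hb : b * b = 0 := hp.qb.1.1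
  have h2 : (2 : k) ≠ 0 := Ring.two_ne_zero hk2
  -- nontrivial
  have hne : Van1 a b ≠ ⊤ := by
    intro htop
    apply hnu
    rw [UNIP_M1 a b ha hb, eq_bot_iff]
    intro m hm
    have h1 : (1 : k[X]) ∈ Van1 a b := by rw [htop]; trivial
    have := h1 m hm
    simpa using this
  have : Nontrivial (k[X] ⧸ Van1 a b) := Ideal.Quotient.nontrivial_iff.mpr hne
  -- finite
  have : Module.Finite k (k[X] ⧸ Van1 a b) := by
    have hcp : (LinearMap.charpoly (zz a b)) ∈ Van1 a b := by
      intro m _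
      rw [LinearMap.aeval_self_charpoly]; rfl
    have hle : Ideal.span {LinearMap.charpoly (zz a b)} ≤ Van1 a b :=
      (Ideal.span_singleton_le_iff_mem _).mpr hcp
    have := (LinearMap.charpoly_monic (zz a b)).finite_quotient
    exact Module.Finite.of_surjective (Ideal.Quotient.factorₐ k hle).toLinearMap
      (Ideal.Quotient.factor_surjective hle)
  -- lam is a unit
  obtain ⟨u0, hu0⟩ := FIT_invpoly (zz a b)
  have hu0' : X * u0 - 1 ∈ Van1 a b := hu0
  have hXu : (Ideal.Quotient.mk (Van1 a b) X) * (Ideal.Quotient.mk (Van1 a b) u0) = 1 := by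
    rw [← map_mul, ← sub_eq_zero, ← map_one (Ideal.Quotient.mk (Van1 a b)), ← map_sub]
    exact Ideal.Quotient.eq_zero_iff_mem.mpr hu0'
  have hlam : IsUnit (Ideal.Quotient.mk (Van1 a b) X) := IsUnit.of_mul_eq_one _ hXu
  -- generation
  have hgen : Algebra.adjoin k ({Ideal.Quotient.mk (Van1 a b) X} : Set (k[X] ⧸ Van1 a b)) = ⊤ := by
    have h1 : (Algebra.adjoin k ({X} : Set k[X])).map (Ideal.Quotient.mkₐ k (Van1 a b))
        = Algebra.adjoin k ({Ideal.Quotient.mk (Van1 a b) X} : Set (k[X] ⧸ Van1 a b)) := by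
      rw [AlgHom.map_adjoin, Set.image_singleton]; rfl
    rw [← h1, Polynomial.adjoin_X, Algebra.map_top]
    exact (AlgHom.range_eq_top _).mpr (Ideal.Quotient.mkₐ_surjective k (Van1 a b))
  -- induction hypotheses from Theorem A
  have ih : ∀ n, IHA G d n := fun n a' b' qa' qb' hnu' _ =>
    THMA hk2 hk3 (⟨hp.min, qa', qb'⟩ : QPair G d a' b') hnu'
  -- rigidity
  have hrig : ∀ h ∈ Hmat k (Ideal.Quotient.mk (Van1 a b) X),
      (h 0 1 = 0 ∨ IsUnit (h 0 1)) ∧ (h 1 0 = 0 ∨ IsUnit (h 1 0)) := by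
    intro h hh
    have hm := Hmat_map (k := k) (Ideal.Quotient.mkₐ k (Van1 a b)) (X : k[X])
    have hh' : h ∈ (Hmat k (X : k[X])).map (Matrix.SpecialLinearGroup.map
        ((Ideal.Quotient.mkₐ k (Van1 a b) : k[X] →ₐ[k] k[X] ⧸ Van1 a b) : k[X] →+* k[X] ⧸ Van1 a b)) := by
      rw [hm]; exact hh
    obtain ⟨g, hg, rfl⟩ := hh'
    have hg' : g ∈ (Hpair a b ha hb).map (MonoidHom.snd GLkM (Matrix.SpecialLinearGroup (Fin 2) k[X])) := by
      rw [map_snd_Hpair]; exact hg
    obtain ⟨x, hx, rfl⟩ := hg'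
    obtain ⟨P, hP⟩ := COORD ha hb x hx
    have hx1 : x.1 ∈ Hgrp a b ha hb := by
      rw [← map_fst_Hpair]; exact ⟨x, hx, rfl⟩
    obtain ⟨h00, h01, h10, h11⟩ := matn_entries P
    have e01 : (x.2 : Matrix (Fin 2) (Fin 2) k[X]) 0 1 = P.q := by rw [hP.1, h01]; rfl
    have e10 : (x.2 : Matrix (Fin 2) (Fin 2) k[X]) 1 0 = Co.ga P := by rw [hP.1, h10]
    have hzM1 : ∀ m ∈ M1 a b, zz a b m ∈ M1 a b := FIT_inv1 (zz a b) (zz a b) (Commute.refl _)
    constructor
    · -- entry 0 1 : swapped pair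
      show (Ideal.Quotient.mk (Van1 a b)) ((x.2 : Matrix (Fin 2) (Fin 2) k[X]) 0 1) = 0 ∨
        IsUnit ((Ideal.Quotient.mk (Van1 a b)) ((x.2 : Matrix (Fin 2) (Fin 2) k[X]) 0 1))
      rw [e01]
      by_cases hex : ∃ u ∈ B1 a b, u ≠ 0 ∧ aeval (zz a b) (X * P.q) u = 0
      · left
        obtain ⟨u, huB, hu0, huq⟩ := hex
        have hps : QPair G d b a := hp.swap
        have hnus : ¬ UnipPair b a := fun h => hnu (UnipPair_swap h)
        have hx1s : x.1 ∈ Hgrp b a hps.qa.1.1 hps.qb.1.1 := by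
          rw [Hgrp_swap]; exact hx1
        have hall := LEMG h2 hps hnus (ih _) x.1 hx1s
          ⟨u, by rw [A1_swap]; exact huB, hu0, by
            rw [hP.2, THMB_aux_bhu a b ha hb P u huB.2]; exact huq⟩
        have hXq : X * P.q ∈ Van1 a b := by
          apply FAITH_B a b ha hb
          intro u' hu'
          have := hall u' (by rw [A1_swap]; exact hu')
          rw [hP.2, THMB_aux_bhu a b ha hb P u' hu'.2] at this
          exact this
        have h0 : (Ideal.Quotient.mk (Van1 a b)) (X * P.q) = 0 :=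
          Ideal.Quotient.eq_zero_iff_mem.mpr hXq
        rw [map_mul] at h0
        exact (hlam.mul_right_eq_zero).mp h0
      · right
        have hinjB : ∀ u ∈ B1 a b, aeval (zz a b) (X * P.q) u = 0 → u = 0 := by
          intro u hu h0
          by_contra hne0
          exact hex ⟨u, hu, hne0, h0⟩
        have hinj := THMB_aux_injB a b hb (X * P.q) hinjB
        obtain ⟨v, hv⟩ := VAN_unit (zz a b) (M1 a b) hzM1 (X * P.q) hinj
        have hv' : (Ideal.Quotient.mk (Van1 a b)) (X * P.q) * (Ideal.Quotient.mk (Van1 a b)) v = 1 := by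
          rw [← map_mul, ← sub_eq_zero, ← map_one (Ideal.Quotient.mk (Van1 a b)), ← map_sub]
          exact Ideal.Quotient.eq_zero_iff_mem.mpr hv
        have hu1 : IsUnit ((Ideal.Quotient.mk (Van1 a b)) (X * P.q)) := IsUnit.of_mul_eq_one _ hv'
        rw [map_mul] at hu1
        exact (IsUnit.mul_iff.mp hu1).2
    · -- entry 1 0
      show (Ideal.Quotient.mk (Van1 a b)) ((x.2 : Matrix (Fin 2) (Fin 2) k[X]) 1 0) = 0 ∨
        IsUnit ((Ideal.Quotient.mk (Van1 a b)) ((x.2 : Matrix (Fin 2) (Fin 2) k[X]) 1 0))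
      rw [e10]
      by_cases hex : ∃ u ∈ A1 a b, u ≠ 0 ∧ aeval (zz a b) (Co.ga P) u = 0
      · left
        obtain ⟨u, huA, hu0, huq⟩ := hex
        have hall := LEMG h2 hp hnu (ih _) x.1 hx1
          ⟨u, huA, hu0, by rw [hP.2, THMB_aux_ahu a b ha hb P u huA.2]; exact huq⟩
        have hga : Co.ga P ∈ Van1 a b := by
          apply FAITH_A a b ha hb
          intro u' hu'
          have := hall u' hu'
          rw [hP.2, THMB_aux_ahu a b ha hb P u' hu'.2] at this
          exact this
        exact Ideal.Quotient.eq_zero_iff_mem.mpr hga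
      · right
        have hinjA : ∀ u ∈ A1 a b, aeval (zz a b) (Co.ga P) u = 0 → u = 0 := by
          intro u hu h0
          by_contra hne0
          exact hex ⟨u, hu, hne0, h0⟩
        have hinj := THMB_aux_injA a b ha (Co.ga P) hinjA
        obtain ⟨v, hv⟩ := VAN_unit (zz a b) (M1 a b) hzM1 (Co.ga P) hinj
        have hv' : (Ideal.Quotient.mk (Van1 a b)) (Co.ga P) * (Ideal.Quotient.mk (Van1 a b)) v = 1 := by
          rw [← map_mul, ← sub_eq_zero, ← map_one (Ideal.Quotient.mk (Van1 a b)), ← map_sub]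
          exact Ideal.Quotient.eq_zero_iff_mem.mpr hv
        exact IsUnit.of_mul_eq_one _ hv'
  exact SEC hk2 hk3 (Ideal.Quotient.mk (Van1 a b) X) hlam hgen hrig

end Cfsg.Agent.QPP

end
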