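import Mathlib

set_option autoImplicit false

namespace Cfsg.Agent.S3401P

/-- TRANS: a non-trivial normal subgroup of a faithful 2-transitive group is transitive
(conjugate an element moving a point). -/
theorem TRANS {G : Type*} [Group G] {Ω : Type*} [MulAction G Ω] [FaithfulSMul G Ω]
    (h2 : MulAction.IsMultiplyPretransitive G Ω 2) (M : Subgroup G) [hMn : M.Normal] (hM : M ≠ ⊥)
    (a b : Ω) : ∃ m ∈ M, m • a = b := by
  by_cases hab : a = b
  · exact ⟨1, M.one_mem, by rw [one_smul, hab]⟩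
  · obtain ⟨n, hnM, hn1⟩ : ∃ n ∈ M, n ≠ 1 := by
      by_contra hcon
      push Not at hcon
      exact hM ((Subgroup.eq_bot_iff_forall M).mpr hcon)
    obtain ⟨c, hc⟩ : ∃ c : Ω, n • c ≠ c := by
      by_contra hcon
      push Not at hcon
      apply hn1
      apply FaithfulSMul.eq_of_smul_eq_smul (α := Ω)
      intro x
      rw [hcon x, one_smul]
    obtain ⟨g, hg1, hg2⟩ := MulAction.is_two_pretransitive_iff.mp h2 (Ne.symm hc) hab
    refine ⟨g * n * g⁻¹, hMn.conj_mem n hnM g, ?_⟩
    rw [← hg1, mul_smul, mul_smul, inv_smul_smul, hg2]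

end Cfsg.Agent.S3401P
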