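import Mathlib
import Cfsg.Agent.Helper1.S3401Defs
import Cfsg.Agent.Helper28.S3401CARD

set_option autoImplicit false

namespace Cfsg.Agent.S3401P

theorem PICK.aux_isPGroup {G : Type*} [Group G] {X P : Subgroup G} (h : IsSyl2 X P) :
    IsPGroup 2 P := IsPGroup.of_card h.2

theorem PICK.aux_card_dvd {G : Type*} [Group G] [Finite G] {X P R : Subgroup G} (h : IsSyl2 X P)
    (hRX : R ≤ X) (hR : IsPGroup 2 R) : Nat.card R ∣ Nat.card P := by
  have : Fact (Nat.Prime 2) := ⟨Nat.prime_two⟩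
  obtain ⟨j, hj⟩ := IsPGroup.iff_card.mp hR
  have h1 : Nat.card R ∣ Nat.card X := Subgroup.card_dvd_of_le hRX
  rw [hj] at h1
  have h2 : j ≤ (Nat.card X).factorization 2 :=
    (Nat.Prime.pow_dvd_iff_le_factorization Nat.prime_two Nat.card_pos.ne').mp h1
  rw [hj, h.2]
  exact pow_dvd_pow 2 h2

theorem PICK.aux_exists_le {G : Type*} [Group G] [Finite G] (X R : Subgroup G) (hRX : R ≤ X)
    (hR : IsPGroup 2 R) : ∃ P : Subgroup G, IsSyl2 X P ∧ R ≤ P := by
  have : Fact (Nat.Prime 2) := ⟨Nat.prime_two⟩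
  have hR' : IsPGroup 2 (R.subgroupOf X) :=
    hR.of_equiv (Subgroup.subgroupOfEquivOfLe hRX).symm
  obtain ⟨Q, hQ⟩ := hR'.exists_le_sylow
  refine ⟨(Q : Subgroup ↥X).map X.subtype, ⟨?_, ?_⟩, ?_⟩
  · intro x hx
    obtain ⟨y, -, rfl⟩ := Subgroup.mem_map.mp hx
    exact y.2
  · rw [Subgroup.card_map_of_injective X.subtype_injective]
    exact Q.card_eq_multiplicity
  · intro r hr
    exact Subgroup.mem_map.mpr ⟨⟨r, hRX hr⟩, hQ (Subgroup.mem_subgroupOf.mpr hr), rfl⟩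

variable {G : Type*} [Group G] [Finite G] {Ω : Type*} [Fintype Ω] [MulAction G Ω]

/-- PICK: `Q` Sylow in `M_a`, `Q ≤ S` Sylow in `M`, index 2, `t ∈ S \ Q`. -/
theorem PICK {M : Subgroup G} (h : Hyp Ω M) (a : Ω) :
    ∃ (Q S : Subgroup G) (t : G), Config M a Q S t := by
  -- `Q`
  obtain ⟨Q, hQ, -⟩ := PICK.aux_exists_le (M ⊓ MulAction.stabilizer G a) ⊥ bot_le IsPGroup.of_bot
  have hQp : IsPGroup 2 Q := PICK.aux_isPGroup hQ
  have hQM : Q ≤ M := hQ.1.trans inf_le_left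
  have hQa : Q ≤ MulAction.stabilizer G a := hQ.1.trans inf_le_right
  -- `S`
  obtain ⟨S, hS, hQS⟩ := PICK.aux_exists_le M Q hQM hQp
  have hSp : IsPGroup 2 S := PICK.aux_isPGroup hS
  -- cardinalities
  have hcard : Nat.card S = 2 * Nat.card Q := by
    rw [hS.2, hQ.2, CARD h a, pow_succ, mul_comm]
  have hrel : Q.relIndex S = 2 := by
    have h1 : (⊥ : Subgroup G).relIndex Q * Q.relIndex S = (⊥ : Subgroup G).relIndex S :=
      Subgroup.relIndex_mul_relIndex _ _ _ bot_le hQS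
    rw [Subgroup.relIndex_bot_left, Subgroup.relIndex_bot_left, hcard, mul_comm] at h1
    have hpos : 0 < Nat.card Q := Nat.card_pos
    exact Nat.eq_of_mul_eq_mul_right hpos h1
  obtain ⟨t, htS, hxor⟩ := Subgroup.relIndex_eq_two_iff.mp hrel
  -- `t ∉ Q`
  have htQ : t ∉ Q := by
    intro htQ
    have h1 := hxor 1 S.one_mem
    rw [one_mul] at h1
    rcases h1 with ⟨_, h2⟩ | ⟨_, h2⟩
    · exact h2 Q.one_mem
    · exact h2 htQ
  have htinvQ : t⁻¹ ∉ Q := fun h1 => htQ (by simpa using Q.inv_mem h1)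
  -- products with `t` leave `Q`
  have hkey : ∀ b ∈ S, b ∉ Q → b * t ∈ Q := by
    intro b hb hbQ
    rcases hxor b hb with ⟨h1, _⟩ | ⟨h1, _⟩
    · exact h1
    · exact absurd h1 hbQ
  have hkey' : ∀ b ∈ S, b ∈ Q → b * t ∉ Q := by
    intro b hb hbQ
    rcases hxor b hb with ⟨_, h2⟩ | ⟨_, h2⟩
    · exact absurd hbQ h2
    · exact h2
  have htt : t * t ∈ Q := hkey t htS htQ
  have hcov : ∀ s ∈ S, s ∈ Q ∨ t⁻¹ * s ∈ Q := by
    intro s hs
    by_cases hsQ : s ∈ Q
    · exact Or.inl hsQ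
    · right
      have h1 : s⁻¹ ∉ Q := fun h1 => hsQ (by simpa using Q.inv_mem h1)
      have h2 := hkey s⁻¹ (S.inv_mem hs) h1
      have h3 := Q.inv_mem h2
      simpa using h3
  -- conjugation by `t` and `t⁻¹` preserves `Q`
  have hconj1 : ∀ x ∈ Q, t * x * t⁻¹ ∈ Q := by
    intro x hx
    have hxS : x ∈ S := hQS hx
    have h1 : t * x ∉ Q := by
      intro h1
      apply htQ
      have := Q.mul_mem h1 (Q.inv_mem hx)
      simpa using this
    have h2 : t * x * t⁻¹ ∈ S := S.mul_mem (S.mul_mem htS hxS) (S.inv_mem htS)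
    by_contra h3
    have h4 := hkey (t * x * t⁻¹) h2 h3
    apply h1
    simpa [mul_assoc] using h4
  have hconj2 : ∀ y ∈ Q, t⁻¹ * y * t ∈ Q := by
    intro y hy
    have hyS : y ∈ S := hQS hy
    have h1 : t⁻¹ * y ∉ Q := by
      intro h1
      apply htinvQ
      have := Q.mul_mem h1 (Q.inv_mem hy)
      simpa using this
    exact hkey (t⁻¹ * y) (S.mul_mem (S.inv_mem htS) hyS) h1
  have htN : t ∈ Subgroup.normalizer (Q : Set G) := by
    rw [Subgroup.mem_normalizer_iff]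
    intro x
    constructor
    · exact hconj1 x
    · intro hx
      have h1 := hconj2 _ hx
      have h2 : t⁻¹ * (t * x * t⁻¹) * t = x := by group
      rw [h2] at h1
      exact h1
  -- `t` moves `a`
  have hta : t • a ≠ a := by
    intro hfix
    let X : Subgroup G := S ⊓ MulAction.stabilizer G a
    have hXp : IsPGroup 2 X := hSp.to_le inf_le_left
    have hXle : X ≤ M ⊓ MulAction.stabilizer G a := inf_le_inf_right _ hS.1
    have hdvd : Nat.card X ∣ Nat.card Q := PICK.aux_card_dvd hQ hXle hXp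
    have hQX : Q ≤ X := le_inf hQS hQa
    have hle : Nat.card X ≤ Nat.card Q := Nat.le_of_dvd Nat.card_pos hdvd
    have hEq : Q = X := Subgroup.eq_of_le_of_card_ge hQX hle
    apply htQ
    rw [hEq]
    exact ⟨htS, hfix⟩
  exact ⟨Q, S, t, ⟨hQ, hS, hQS, htS, htQ, htN, htt, hcov, hta⟩⟩

end Cfsg.Agent.S3401P
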