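import Mathlib
import Cfsg.Prelude.Def_Local
import Cfsg.Prelude.Def_Solvable

/-! # S3786 (Hall–Higman: `l_p ≤ e` resp. `l_p ≤ 2e`): shared definitions.  Blueprint: `departures/helper11_S3786_blueprint.md` -/

set_option autoImplicit false

namespace Cfsg.Agent.S3786P

open Subgroup

universe u

/-- The setting of Lemma Y.  `Γ` acts on the additive group `M` of exponent 2; `B ≤ Γ` is an abelian `p`-group (`p` odd) acting
faithfully and preserving the alternating biadditive map `β`; `w` normalises `B`, `w ^ N = 1`, `z` is a power of every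
nontrivial power of `w`; and (`hyp`) `z` fixes every `w`-invariant isotropic subgroup of `M` pointwise. -/
structure YSet (p : ℕ) {Γ : Type*} [Group Γ] {M : Type*} [AddCommGroup M] [DistribMulAction Γ M] {Z : Type*}
    [AddCommGroup Z] (B : Subgroup Γ) (w z : Γ) (N : ℕ) (β : M → M → Z) : Prop where
  p_odd : p ≠ 2
  two : ∀ m : M, m + m = 0
  Bcomm : ∀ a ∈ B, ∀ b ∈ B, a * b = b * a
  Bp : IsPGroup p B
  Bfaith : ∀ b ∈ B, (∀ m : M, b • m = m) → b = 1
  wB : ∀ b ∈ B, w * b * w⁻¹ ∈ B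
  N2 : 2 ≤ N
  wN : w ^ N = 1
  zw : ∀ k, 0 < k → k < N → ∃ i : ℕ, z = (w ^ k) ^ i
  zp : ∃ j : ℕ, z ^ p ^ j = 1
  βl : ∀ a b c, β (a + b) c = β a c + β b c
  βr : ∀ a b c, β a (b + c) = β a b + β a c
  β0 : ∀ a, β a a = 0
  βB : ∀ b ∈ B, ∀ u v, β (b • u) (b • v) = β u v
  hyp : ∀ I : AddSubgroup M, (∀ u ∈ I, ∀ v ∈ I, β u v = 0) → (∀ u ∈ I, w • u ∈ I) → ∀ u ∈ I, z • u = u

/-- `T̂`: generated by the `z_w = w^{p^{n-1}}`, `w ∈ T` of order `p^n`. -/
def That {H : Type*} [Group H] (T : Subgroup H) (p n : ℕ) : Subgroup H :=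
  closure {z | ∃ w ∈ T, orderOf w = p ^ n ∧ z = w ^ p ^ (n - 1)}

/-- The standing hypotheses of Proposition K. -/
structure KSet {F : Type*} [Field F] {V : Type*} [AddCommGroup V] [Module F V] {H : Type*} [Group H]
    (ρ₀ : Representation F H V) (p : ℕ) (T : Subgroup H) (n : ℕ) : Prop where
  inj : Function.Injective ρ₀
  p_odd : p ≠ 2
  sol : Cfsg.IsPSolvable p H
  core : Cfsg.pCore p H = ⊥
  one_le : 1 ≤ n
  exp : ∀ w ∈ T, w ^ p ^ n = 1
  exc : ∀ w ∈ T, orderOf w = p ^ n → (ρ₀ w - 1) ^ (p ^ n - 1) = 0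

/-- The 2-group data: `S₂` a `T`-invariant Sylow 2-subgroup of `O_{p'}(H)` on which `T̂` is faithful, `C` a critical subgroup of `S₂`. -/
structure CSet {H : Type*} [Group H] (p : ℕ) (T : Subgroup H) (n : ℕ) (S₂ C : Subgroup H) : Prop where
  S_le : S₂ ≤ Cfsg.pPrimeCore p H
  S_two : IsPGroup 2 S₂
  S_norm : T ≤ normalizer (S₂ : Set H)
  S_faith : That T p n ⊓ centralizer (S₂ : Set H) = ⊥
  C_le : C ≤ S₂
  C_char : normalizer (S₂ : Set H) ≤ normalizer (C : Set H)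
  C_cl : ∀ a ∈ C, ∀ b ∈ C, a * b * a⁻¹ * b⁻¹ ∈ centralizer (C : Set H)
  C_sq : ∀ a ∈ C, a ^ 2 ∈ centralizer (C : Set H)
  C_crit : ∀ t ∈ normalizer (S₂ : Set H), (orderOf t).Coprime 2 → t ∈ centralizer (C : Set H) → t ∈ centralizer (S₂ : Set H)

/-- The data of the Frattini module: `π : O_p(X) → V` additive, onto, and `ρb` the (faithful) conjugation action of `X / O_p(X)`. -/
structure FratData {X : Type u} [Group X] (p : ℕ) [Fact p.Prime] (V : Type u) [AddCommGroup V] [Module (ZMod p) V]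
    (π : ↥(Cfsg.pCore p X) →* Multiplicative V) (ρb : Representation (ZMod p) (X ⧸ Cfsg.pCore p X) V) : Prop where
  surj : Function.Surjective π
  inj : Function.Injective ρb
  equiv : ∀ (x : X) (r r' : ↥(Cfsg.pCore p X)), (r' : X) = x * (r : X) * x⁻¹ →
    Multiplicative.toAdd (π r') = ρb (QuotientGroup.mk' (Cfsg.pCore p X) x) (Multiplicative.toAdd (π r))

/-- exponent of the Sylow `p`-subgroups at most `p^n` (same as `Helper9.PLenExp.ExpLE`) -/
def ExpLE (p n : ℕ) (G : Type*) [Group G] : Prop := ∀ (P : Sylow p G), ∀ x ∈ (P : Subgroup G), x ^ p ^ n = 1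

/-- the hypothesis of part (a), in a form inherited by quotients -/
def NonExc (p : ℕ) (G : Type*) [Group G] : Prop :=
  (¬ ∃ k : ℕ, p = 2 ^ k + 1) ∨ ∀ S : Sylow 2 G, IsMulCommutative (S : Subgroup G)

end Cfsg.Agent.S3786P
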