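import Mathlib
import Cfsg.Agent.Helper1.UniqueOrderP
import Cfsg.Agent.Helper23.Cyclic

set_option autoImplicit false

/-! Groups in which abelian subgroups of equal order are conjugate: Sylow structure. -/

namespace Cfsg.Agent.Helper11

open Subgroup

variable {G : Type*} [Group G] [Finite G]

/-- If abelian subgroups of equal order are conjugate and the Sylow `p`-subgroup `P` has an element
of order at least `p ^ 2`, then `P` has a unique subgroup of order `p`. -/
theorem uniqP_of_abelian_conj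
    (hB : ∀ A B : Subgroup G, IsMulCommutative ↥A → IsMulCommutative ↥B →
      Nat.card ↥A = Nat.card ↥B → ∃ g : G, B = A.map (MulAut.conj g).toMonoidHom)
    (p : ℕ) [hp : Fact p.Prime] (P : Sylow p G) (x : G) (hxP : x ∈ (P : Subgroup G))
    (hx : x ^ p ≠ 1) : Helper1.UniqP p ↥(P : Subgroup G) := by
  intro H K hH hK
  by_contra hne
  -- an element `y` of order `p ^ 2`
  obtain ⟨k, hk⟩ := (IsPGroup.iff_orderOf.mp P.isPGroup') ⟨x, hxP⟩
  rw [Subgroup.orderOf_mk] at hk
  have hk2 : 2 ≤ k := by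
    by_contra hlt
    push Not at hlt
    apply hx
    apply orderOf_dvd_iff_pow_eq_one.mp
    rw [hk]
    have : k ≤ 1 := by omega
    calc p ^ k ∣ p ^ 1 := pow_dvd_pow p this
      _ = p := pow_one p
  set y := x ^ (p ^ (k - 2)) with hy
  have hordy : orderOf y = p ^ 2 := by
    rw [hy, orderOf_pow_of_dvd (pow_ne_zero _ hp.out.ne_zero)
      (by rw [hk]; exact pow_dvd_pow p (by omega)), hk]
    rw [Nat.pow_div (by omega) hp.out.pos]
    congr 1
    omega
  set C := Subgroup.zpowers y with hC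
  have hCcard : Nat.card C = p ^ 2 := by rw [hC, Nat.card_zpowers, hordy]
  have hCcomm : IsMulCommutative ↥C :=
    IsPGroup.isMulCommutative_of_card_eq_prime_sq hCcard
  -- a central subgroup of order `p` in `P`
  have hPnt : Nontrivial ↥(P : Subgroup G) := ⟨⟨⟨x, hxP⟩, 1, fun h => hx (by
    have : x = 1 := congrArg Subtype.val h
    rw [this, one_pow])⟩⟩
  have hZnt : Nontrivial (Subgroup.center ↥(P : Subgroup G)) :=
    IsPGroup.center_nontrivial P.isPGroup'
  have hZp : IsPGroup p (Subgroup.center ↥(P : Subgroup G)) := P.isPGroup'.to_subgroup _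
  obtain ⟨n, hn0, hn⟩ := hZp.nontrivial_iff_card.mp hZnt
  have hdvd : p ∣ Nat.card (Subgroup.center ↥(P : Subgroup G)) := by
    rw [hn]; exact dvd_pow_self p (ne_of_gt hn0)
  obtain ⟨z, hz⟩ := exists_prime_orderOf_dvd_card' p hdvd
  set Z₀ : Subgroup ↥(P : Subgroup G) := Subgroup.zpowers (z : ↥(P : Subgroup G)) with hZ₀
  have hZ₀card : Nat.card Z₀ = p := by
    rw [hZ₀, Nat.card_zpowers, Subgroup.orderOf_coe, hz]
  -- pick `U ∈ {H, K}` different from `Z₀`
  obtain ⟨U, hUcard, hUne⟩ : ∃ U : Subgroup ↥(P : Subgroup G), Nat.card U = p ∧ Z₀ ≠ U := by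
    by_cases h1 : Z₀ = H
    · exact ⟨K, hK, fun h2 => hne (h1.symm.trans h2)⟩
    · exact ⟨H, hH, h1⟩
  have hcomm : ∀ a ∈ Z₀, ∀ b ∈ U, a * b = b * a := by
    intro a ha b _
    obtain ⟨j, rfl⟩ := Subgroup.mem_zpowers_iff.mp ha
    have hzc : (z : ↥(P : Subgroup G)) ∈ Subgroup.center ↥(P : Subgroup G) := z.2
    have := (Subgroup.center ↥(P : Subgroup G)).zpow_mem hzc j
    exact ((Subgroup.mem_center_iff.mp this) b).symm
  have hdisj : Z₀ ⊓ U = ⊥ := by
    by_contra hnb
    have h1 : Nat.card ↥(Z₀ ⊓ U) ∣ p := by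
      have := Subgroup.card_dvd_of_le (inf_le_left : Z₀ ⊓ U ≤ Z₀)
      rwa [hZ₀card] at this
    rcases (Nat.dvd_prime hp.out).mp h1 with h2 | h2
    · exact hnb ((Subgroup.card_eq_one).mp h2)
    · have e1 : Z₀ ⊓ U = Z₀ := Subgroup.eq_of_le_of_card_ge inf_le_left (by rw [h2, hZ₀card])
      have e2 : Z₀ ⊓ U = U := Subgroup.eq_of_le_of_card_ge inf_le_right (by rw [h2, hUcard])
      exact hUne (e1.symm.trans e2)
  have hEcard : Nat.card ↥(Z₀ ⊔ U) = p ^ 2 := by
    rw [Helper23.card_sup_of_commute_of_disjoint Z₀ U hcomm hdisj, hZ₀card, hUcard, pow_two]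
  -- transport to `G`
  set E : Subgroup G := (Z₀ ⊔ U).map (P : Subgroup G).subtype with hE
  have hEcard' : Nat.card E = p ^ 2 := by
    rw [hE, Nat.card_congr ((Z₀ ⊔ U).equivMapOfInjective _
      (Subgroup.subtype_injective _)).toEquiv.symm]
    exact hEcard
  have hEcomm : IsMulCommutative ↥E :=
    IsPGroup.isMulCommutative_of_card_eq_prime_sq hEcard'
  obtain ⟨g, hg⟩ := hB E C hEcomm hCcomm (hEcard'.trans hCcard.symm)
  -- `Z₀ ⊔ U` is cyclic, being isomorphic to `C`
  have hcyc : IsCyclic ↥(Z₀ ⊔ U) := by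
    have e1 : ↥(Z₀ ⊔ U) ≃* ↥E := (Z₀ ⊔ U).equivMapOfInjective _ (Subgroup.subtype_injective _)
    have e2 : ↥E ≃* ↥(E.map (MulAut.conj g).toMonoidHom) :=
      E.equivMapOfInjective _ (MulAut.conj g).injective
    have hCcyc : IsCyclic ↥(E.map (MulAut.conj g).toMonoidHom) := by
      rw [← hg, hC]; infer_instance
    exact isCyclic_of_surjective (e1.trans e2).symm (e1.trans e2).symm.surjective
  exact hUne (Helper23.eq_of_card_eq_of_isCyclic (Z₀ ⊔ U) hcyc Z₀ U le_sup_left le_sup_right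
    (hZ₀card.trans hUcard.symm))

end Cfsg.Agent.Helper11
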