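import Mathlib

/-!
# S4409 (Thompson, N-groups, a lemma on solvable groups): definitions for the piece board `s4409pieces`

Everything is *internal*: `S` is an ambient finite group, `X, Y, L, P` are `2`-subgroups, `K` is a subgroup of odd order
normalising them ("`K`-invariant" = `K ≤ normalizer Y`).

* `IsAb P` : `P` is abelian.
* `HasA Y` : `Y` contains a non-cyclic abelian subgroup of order `8`.
* `Zc P = Z(P)`, `Der P = P'`, `Fr P = Φ(P)` as subgroups of `S`.
* `IsV4 L` : elementary abelian of order `4`;  `IsQ8 L` : order `8`, an involution `ζ`, every other nonidentity element squares to `ζ`.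
* `SpecialInt P` : `Φ(P) = Z(P) = P'`.
* `MinA X K` : no proper `K`-invariant subgroup of `X` has `HasA`.
* `IHyp X K` : every proper `K`-invariant subgroup `Y` of `X` with `[Y,K] ≠ 1` is `V4` or `Q8`.
-/

set_option autoImplicit false

namespace Cfsg.Agent.S4409P

variable {S : Type*} [Group S]

/-- `Y` contains a non-cyclic abelian subgroup of order `8`. -/
def HasA (Y : Subgroup S) : Prop :=
  ∃ A : Subgroup S, A ≤ Y ∧ IsMulCommutative ↥A ∧ ¬ IsCyclic ↥A ∧ Nat.card ↥A = 8

/-- `P` is abelian (internal form). -/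
def IsAb (P : Subgroup S) : Prop := ∀ x ∈ P, ∀ y ∈ P, x * y = y * x

/-- the centre of `P`, as a subgroup of `S`. -/
def Zc (P : Subgroup S) : Subgroup S := P ⊓ Subgroup.centralizer (P : Set S)

/-- the derived subgroup of `P`, as a subgroup of `S`. -/
def Der (P : Subgroup S) : Subgroup S := ⁅P, P⁆

/-- the Frattini subgroup of `P`, as a subgroup of `S`. -/
def Fr (P : Subgroup S) : Subgroup S := (frattini ↥P).map P.subtype

/-- elementary abelian of order `4`. -/
def IsV4 (L : Subgroup S) : Prop := Nat.card ↥L = 4 ∧ ∀ x ∈ L, x * x = 1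

/-- quaternion of order `8`: an involution `ζ`, and every element other than `1, ζ` squares to `ζ`. -/
def IsQ8 (L : Subgroup S) : Prop :=
  Nat.card ↥L = 8 ∧ ∃ ζ ∈ L, ζ ≠ 1 ∧ ζ * ζ = 1 ∧ ∀ x ∈ L, x = 1 ∨ x = ζ ∨ x * x = ζ

/-- `V4` or `Q8`. -/
def VQ (L : Subgroup S) : Prop := IsV4 L ∨ IsQ8 L

/-- `Φ(P) = Z(P) = P'` (internal form of `Cfsg.IsSpecial`). -/
def SpecialInt (P : Subgroup S) : Prop := Fr P = Zc P ∧ Der P = Zc P

/-- no proper `K`-invariant subgroup of `X` contains a non-cyclic abelian subgroup of order `8`. -/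
def MinA (X K : Subgroup S) : Prop :=
  ∀ Y : Subgroup S, Y ≤ X → Y ≠ X → K ≤ Subgroup.normalizer (Y : Set S) → ¬ HasA Y

/-- every proper `K`-invariant subgroup of `X` on which `K` acts nontrivially is `V4` or `Q8`. -/
def IHyp (X K : Subgroup S) : Prop :=
  ∀ Y : Subgroup S, Y ≤ X → Y ≠ X → K ≤ Subgroup.normalizer (Y : Set S) → ⁅Y, K⁆ ≠ ⊥ → VQ Y

theorem isAb_iff (P : Subgroup S) : IsAb P ↔ IsMulCommutative ↥P := by
  constructor
  · intro h
    exact ⟨⟨fun a b => Subtype.ext (h a.1 a.2 b.1 b.2)⟩⟩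
  · intro h x hx y hy
    have := h.is_comm.comm (⟨x, hx⟩ : ↥P) ⟨y, hy⟩
    exact congrArg Subtype.val this

theorem HasA.mono {Y Z : Subgroup S} (h : HasA Y) (hYZ : Y ≤ Z) : HasA Z := by
  obtain ⟨A, hA, h1, h2, h3⟩ := h
  exact ⟨A, hA.trans hYZ, h1, h2, h3⟩

theorem Zc_le (P : Subgroup S) : Zc P ≤ P := inf_le_left

theorem mem_Zc {P : Subgroup S} {x : S} : x ∈ Zc P ↔ x ∈ P ∧ ∀ y ∈ P, y * x = x * y := by
  unfold Zc
  rw [Subgroup.mem_inf, Subgroup.mem_centralizer_iff]
  rfl

theorem Fr_le (P : Subgroup S) : Fr P ≤ P := by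
  unfold Fr
  intro x hx
  obtain ⟨y, _, rfl⟩ := hx
  exact y.2

theorem Der_le (P : Subgroup S) : Der P ≤ P := by
  unfold Der
  rw [Subgroup.commutator_le]
  intro a ha b hb
  exact P.mul_mem (P.mul_mem (P.mul_mem ha hb) (P.inv_mem ha)) (P.inv_mem hb)

end Cfsg.Agent.S4409P
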