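import Mathlib
import Cfsg.Agent.Helper4.S4404Defs
import Cfsg.Agent.Helper15.S4404CNT
import Cfsg.Agent.Helper17.S4409F2

/-! Board `s4404pieces`, row PGIDX: `|T₀ : Φ(T₀)| ≥ 27` for a minimal active pair `(T₀, a)`. -/

set_option autoImplicit false
set_option linter.unusedVariables false
set_option linter.unusedSectionVars false

namespace Cfsg.Agent.S4404P

open Subgroup
open scoped commutatorElement

variable {S : Type*} [Group S] [Finite S]

/-- the Frattini subgroup of a nontrivial finite group is proper -/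
theorem PGIDX_aux_fr_ne (P : Subgroup S) (hne : P ≠ ⊥) : Fr P ≠ P := by
  intro h
  have hnt : Nontrivial ↥P := (Subgroup.nontrivial_iff_ne_bot P).mpr hne
  have h1 : frattini ↥P = ⊤ := by
    apply (Subgroup.map_injective P.subtype_injective)
    have : (⊤ : Subgroup ↥P).map P.subtype = P := by
      rw [← MonoidHom.range_eq_map, Subgroup.range_subtype]
    rw [this]
    exact h
  rcases eq_top_or_exists_le_coatom (⊥ : Subgroup ↥P) with hbt | ⟨K, hK, -⟩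
  · exact bot_ne_top hbt
  · have hle : frattini ↥P ≤ K := frattini_le_coatom hK
    rw [h1] at hle
    exact hK.1 (top_le_iff.mp hle)

/-- a `q`-element generates a `q`-group -/
theorem PGIDX_aux_pgroup (a : S) (q : ℕ) [Fact q.Prime] (haq : ∃ k : ℕ, a ^ q ^ k = 1) :
    IsPGroup q ↥(zpowers a) := by
  obtain ⟨k, hk⟩ := haq
  have hdvd : orderOf a ∣ q ^ k := orderOf_dvd_of_pow_eq_one hk
  obtain ⟨j, -, hj⟩ := (Nat.dvd_prime_pow (Fact.out : q.Prime)).mp hdvd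
  apply IsPGroup.of_card (n := j)
  rw [Nat.card_zpowers, hj]

theorem PGIDX_aux_arith (q : ℕ) (hq : q.Prime) (hq2 : q ≠ 2) (hq3 : q ≠ 3) (n c : ℕ) (hcn : c < n)
    (h : 3 ^ n ≡ 3 ^ c [MOD q]) : 27 * 3 ^ c ≤ 3 ^ n := by
  obtain ⟨j, rfl⟩ : ∃ j, n = c + j := ⟨n - c, by omega⟩
  have hj : 1 ≤ j := by omega
  rw [pow_add] at h ⊢
  have hcop : Nat.gcd q (3 ^ c) = 1 :=
    Nat.Coprime.pow_right c ((Nat.coprime_primes hq Nat.prime_three).mpr hq3)
  have h1 : 3 ^ c * 3 ^ j ≡ 3 ^ c * 1 [MOD q] := by rwa [mul_one]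
  have h2 : 3 ^ j ≡ 1 [MOD q] := Nat.ModEq.cancel_left_of_coprime hcop h1
  have hq2' : ¬ q ∣ 2 := by
    intro hd
    exact hq2 ((Nat.prime_dvd_prime_iff_eq hq Nat.prime_two).mp hd)
  have hj3 : 3 ≤ j := by
    by_contra hlt
    have hj12 : j = 1 ∨ j = 2 := by omega
    rcases hj12 with rfl | rfl
    · have h3 : q ∣ 3 ^ 1 - 1 := (Nat.modEq_iff_dvd' (by norm_num)).mp h2.symm
      norm_num at h3
      exact hq2' h3
    · have h3 : q ∣ 3 ^ 2 - 1 := (Nat.modEq_iff_dvd' (by norm_num)).mp h2.symm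
      have h4 : q ∣ 2 ^ 3 := by norm_num at h3 ⊢; exact h3
      exact hq2' (hq.dvd_of_dvd_pow h4)
  have : 3 ^ 3 ≤ 3 ^ j := Nat.pow_le_pow_right (by norm_num) hj3
  calc 27 * 3 ^ c = 3 ^ c * 3 ^ 3 := by ring
    _ ≤ 3 ^ c * 3 ^ j := Nat.mul_le_mul_left _ this

/-- PGIDX : `|T₀ : Φ(T₀)| ≥ 27` (`C_{T₀}(a) ⊇ Φ(T₀)`, the index of `C_{T₀}(a)` is `≡ 1` mod `q`, and `q ∤ 2, 8`). -/
theorem minAct_index_ge (T₀ : Subgroup S) (hT : IsPGroup 3 ↥T₀) (a : S) (q : ℕ) [Fact q.Prime] (hq2 : q ≠ 2)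
    (hq3 : q ≠ 3) (haq : ∃ k : ℕ, a ^ q ^ k = 1) (h : MinAct T₀ a) :
    27 * Nat.card ↥(Fr T₀) ≤ Nat.card ↥T₀ := by
  obtain ⟨hnorm, hncent, hmin⟩ := h
  have hne : T₀ ≠ ⊥ := by
    rintro rfl
    apply hncent
    rw [mem_centralizer_iff]
    intro g hg
    rw [SetLike.mem_coe, mem_bot] at hg
    rw [hg, one_mul, mul_one]
  -- `a` centralises `Φ(T₀)`
  have hΦc : a ∈ centralizer ((Fr T₀ : Subgroup S) : Set S) :=
    hmin (Fr T₀) (Fr_le T₀) (PGIDX_aux_fr_ne T₀ hne) (Cfsg.Agent.S4409P.fr_inv T₀ a hnorm)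
  set C : Subgroup S := T₀ ⊓ centralizer ((zpowers a : Subgroup S) : Set S) with hC
  have hΦC : Fr T₀ ≤ C := by
    apply le_inf (Fr_le T₀)
    intro t ht
    rw [mem_centralizer_iff]
    intro g hg
    rw [SetLike.mem_coe] at hg
    obtain ⟨n, rfl⟩ := mem_zpowers_iff.mp hg
    have hcomm : Commute a t := (mem_centralizer_iff.mp hΦc) t ht |>.symm
    exact (hcomm.zpow_left n)
  have hCT : C ≤ T₀ := inf_le_left
  have hCne : C ≠ T₀ := by
    intro hCe
    apply hncent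
    rw [mem_centralizer_iff]
    intro g hg
    have hgC : g ∈ C := by rw [hCe]; exact hg
    have := (mem_centralizer_iff.mp hgC.2) a (mem_zpowers a)
    exact this.symm
  have hmod := card_modEq_card_cent q (zpowers a) T₀ (PGIDX_aux_pgroup a q haq) (zpowers_le.mpr hnorm)
  obtain ⟨n, hn⟩ := hT.exists_card_eq
  obtain ⟨c, hc⟩ := (hT.to_le hCT).exists_card_eq
  have hcn : c < n := by
    have hlt : Nat.card ↥C < Nat.card ↥T₀ := by
      have hle : Nat.card ↥C ≤ Nat.card ↥T₀ := Subgroup.card_le_of_le hCT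
      rcases Nat.lt_or_ge (Nat.card ↥C) (Nat.card ↥T₀) with h1 | h1
      · exact h1
      · exact absurd (Subgroup.eq_of_le_of_card_ge hCT h1) hCne
    rw [hn, hc] at hlt
    exact (Nat.pow_lt_pow_iff_right (by norm_num)).mp hlt
  rw [hn] at hmod ⊢
  rw [← hC, hc] at hmod
  have harith := PGIDX_aux_arith q Fact.out hq2 hq3 n c hcn hmod
  have hΦle : Nat.card ↥(Fr T₀) ≤ 3 ^ c := by
    rw [← hc]
    exact Subgroup.card_le_of_le hΦC
  calc 27 * Nat.card ↥(Fr T₀) ≤ 27 * 3 ^ c := Nat.mul_le_mul_left _ hΦle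
    _ ≤ 3 ^ n := harith

end Cfsg.Agent.S4404P
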