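import Mathlib
import Cfsg.Agent.Helper11.S4409Defs

/-! Board `s4409pieces`, row Q0 (helper11): `q8_basic`, `IsQ8.isPGroup`. -/

set_option autoImplicit false
set_option linter.unusedVariables false
set_option linter.unusedSectionVars false

namespace Cfsg.Agent.S4409P

open Subgroup
open scoped commutatorElement

variable {S : Type*} [Group S] [Finite S]

/-- a subgroup of order `8` is not contained in a set of four elements. -/
theorem Q0_aux_exists_not_mem (Y : Subgroup S) (h8 : Nat.card ↥Y = 8) (a b c d : S) :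
    ∃ x ∈ Y, x ≠ a ∧ x ≠ b ∧ x ≠ c ∧ x ≠ d := by
  classical
  by_contra hcon
  push Not at hcon
  have hsub : (Y : Set S) ⊆ ({a, b, c, d} : Finset S) := by
    intro x hx
    have hxY : x ∈ Y := hx
    simp only [Finset.coe_insert, Finset.coe_singleton, Set.mem_insert_iff, Set.mem_singleton_iff]
    by_cases h1 : x = a
    · exact Or.inl h1
    by_cases h2 : x = b
    · exact Or.inr (Or.inl h2)
    by_cases h3 : x = c
    · exact Or.inr (Or.inr (Or.inl h3))
    · exact Or.inr (Or.inr (Or.inr (hcon x hxY h1 h2 h3)))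
  have h1 : Nat.card ↥Y ≤ ({a, b, c, d} : Finset S).card := by
    have := Set.ncard_le_ncard hsub (Finset.finite_toSet _)
    rw [Set.ncard_coe_finset] at this
    calc Nat.card ↥Y = (Y : Set S).ncard := (Nat.card_coe_set_eq (Y : Set S))
      _ ≤ _ := this
  have h2 : ({a, b, c, d} : Finset S).card ≤ 4 := Finset.card_le_four
  omega

/-- in `Q8` the only central elements are `1` and `ζ`. -/
theorem Q0_aux_central {Y : Subgroup S} (h8 : Nat.card ↥Y = 8) {ζ : S} (hζY : ζ ∈ Y) (hζ1 : ζ ≠ 1)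
    (hζ2 : ζ * ζ = 1) (hsq : ∀ x ∈ Y, x = 1 ∨ x = ζ ∨ x * x = ζ) {z : S} (hzY : z ∈ Y)
    (hzc : ∀ y ∈ Y, y * z = z * y) : z = 1 ∨ z = ζ := by
  rcases hsq z hzY with h | h | hz2
  · exact Or.inl h
  · exact Or.inr h
  exfalso
  obtain ⟨b, hbY, hb1, hbζ, hbz, hbzζ⟩ := Q0_aux_exists_not_mem Y h8 1 ζ z (z * ζ)
  have hb2 : b * b = ζ := by
    rcases hsq b hbY with h | h | h
    · exact absurd h hb1
    · exact absurd h hbζ
    · exact h
  have hzb : (z * b) * (z * b) = 1 := by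
    calc (z * b) * (z * b) = z * (b * z) * b := by group
      _ = z * (z * b) * b := by rw [hzc b hbY]
      _ = (z * z) * (b * b) := by group
      _ = 1 := by rw [hz2, hb2, hζ2]
  have hzinv : z⁻¹ = z * ζ := by
    rw [inv_eq_iff_mul_eq_one, ← mul_assoc, hz2, hζ2]
  rcases hsq (z * b) (Y.mul_mem hzY hbY) with h | h | h
  · -- b = z⁻¹ = z ζ
    apply hbzζ
    rw [← hzinv]
    exact (eq_inv_of_mul_eq_one_right h)
  · -- z b = ζ, b = z⁻¹ ζ = z ζ ζ = z
    apply hbz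
    have : b = z⁻¹ * ζ := by rw [← h]; group
    rw [this, hzinv, mul_assoc, hζ2, mul_one]
  · rw [hzb] at h
    exact hζ1 h.symm

/-- Q0 -/
theorem q8_basic (Y : Subgroup S) (hY : IsQ8 Y) :
    Nat.card ↥(Zc Y) = 2 ∧ Der Y = Zc Y ∧ (∀ x ∈ Y, x * x ∈ Zc Y) ∧ (∀ x ∈ Y, x ∉ Zc Y → x * x ≠ 1) ∧ ¬ IsAb Y := by
  obtain ⟨h8, ζ, hζY, hζ1, hζ2, hsq⟩ := hY
  have hζc : ∀ y ∈ Y, y * ζ = ζ * y := by
    intro y hy
    rcases hsq y hy with h | h | h
    · rw [h, one_mul, mul_one]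
    · rw [h]
    · rw [← h, mul_assoc]
  have hζZ : ζ ∈ Zc Y := mem_Zc.mpr ⟨hζY, hζc⟩
  have h1Z : (1 : S) ∈ Zc Y := (Zc Y).one_mem
  have hZmem : ∀ z ∈ Zc Y, z = 1 ∨ z = ζ := by
    intro z hz
    obtain ⟨hzY, hzc⟩ := mem_Zc.mp hz
    exact Q0_aux_central h8 hζY hζ1 hζ2 hsq hzY hzc
  have hsqZ : ∀ x ∈ Y, x * x ∈ Zc Y := by
    intro x hx
    rcases hsq x hx with h | h | h
    · rw [h, one_mul]; exact h1Z
    · rw [h, hζ2]; exact h1Z
    · rw [h]; exact hζZ
  have hnab : ¬ IsAb Y := by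
    intro hab
    obtain ⟨a, haY, ha1, haζ, _, _⟩ := Q0_aux_exists_not_mem Y h8 1 ζ 1 1
    have hac : ∀ y ∈ Y, y * a = a * y := fun y hy => hab y hy a haY
    rcases Q0_aux_central h8 hζY hζ1 hζ2 hsq haY hac with h | h
    · exact ha1 h
    · exact haζ h
  have hcard : Nat.card ↥(Zc Y) = 2 := by
    rw [Nat.card_eq_two_iff]
    refine ⟨⟨1, h1Z⟩, ⟨ζ, hζZ⟩, ?_, ?_⟩
    · intro h
      exact hζ1 (congrArg Subtype.val h).symm
    · ext z
      simp only [Set.mem_insert_iff, Set.mem_singleton_iff, Set.mem_univ, iff_true]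
      rcases hZmem z.1 z.2 with h | h
      · exact Or.inl (Subtype.ext h)
      · exact Or.inr (Subtype.ext h)
  have hinv : ∀ x ∈ Y, x⁻¹ = x * (x * x)⁻¹ := by
    intro x _; group
  have hcomm_mem : ∀ a ∈ Y, ∀ b ∈ Y, ⁅a, b⁆ ∈ Zc Y := by
    intro a ha b hb
    -- squares are central
    have hca : ∀ y ∈ Y, y * (a * a)⁻¹ = (a * a)⁻¹ * y := by
      intro y hy
      have := (mem_Zc.mp ((Zc Y).inv_mem (hsqZ a ha))).2 y hy
      exact this
    have hcb : ∀ y ∈ Y, y * (b * b)⁻¹ = (b * b)⁻¹ * y := by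
      intro y hy
      exact (mem_Zc.mp ((Zc Y).inv_mem (hsqZ b hb))).2 y hy
    have hexp : ⁅a, b⁆ = ((a * b) * (a * b)) * (a * a)⁻¹ * (b * b)⁻¹ := by
      rw [commutatorElement_def, hinv a ha, hinv b hb]
      calc a * b * (a * (a * a)⁻¹) * (b * (b * b)⁻¹)
          = a * b * a * ((a * a)⁻¹ * b) * (b * b)⁻¹ := by group
        _ = a * b * a * (b * (a * a)⁻¹) * (b * b)⁻¹ := by rw [hca b hb]
        _ = ((a * b) * (a * b)) * (a * a)⁻¹ * (b * b)⁻¹ := by group
    rw [hexp]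
    exact (Zc Y).mul_mem ((Zc Y).mul_mem (hsqZ _ (Y.mul_mem ha hb)) ((Zc Y).inv_mem (hsqZ a ha)))
      ((Zc Y).inv_mem (hsqZ b hb))
  have hder : Der Y = Zc Y := by
    apply le_antisymm
    · unfold Der
      rw [Subgroup.commutator_le]
      exact hcomm_mem
    · -- some commutator is `ζ`
      have hex : ∃ a ∈ Y, ∃ b ∈ Y, ⁅a, b⁆ ≠ 1 := by
        by_contra hcon
        push Not at hcon
        apply hnab
        intro x hx y hy
        have := hcon x hx y hy
        rw [commutatorElement_eq_one_iff_mul_comm] at this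
        exact this
      obtain ⟨a, ha, b, hb, hab⟩ := hex
      have hζD : ζ ∈ Der Y := by
        have hmem : ⁅a, b⁆ ∈ Der Y := Subgroup.commutator_mem_commutator ha hb
        rcases hZmem _ (hcomm_mem a ha b hb) with h | h
        · exact absurd h hab
        · rw [← h]; exact hmem
      intro z hz
      rcases hZmem z hz with h | h
      · rw [h]; exact (Der Y).one_mem
      · rw [h]; exact hζD
  refine ⟨hcard, hder, hsqZ, ?_, hnab⟩
  intro x hx hxZ
  rcases hsq x hx with h | h | h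
  · exact absurd (h ▸ h1Z) hxZ
  · exact absurd (h ▸ hζZ) hxZ
  · rw [h]; exact hζ1

/-- Q0P -/
theorem IsQ8.isPGroup {L : Subgroup S} (hL : IsQ8 L) : IsPGroup 2 ↥L :=
  IsPGroup.of_card (n := 3) (by rw [hL.1]; norm_num)

end Cfsg.Agent.S4409P
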