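import Mathlib
import Cfsg.Agent.Helper11.S4409Defs
import Cfsg.Agent.Helper11.S4409Q0

/-! Board `s4409pieces`, row Q1 (helper11): `q8_inn` — an automorphism of `Q8` trivial modulo the centre is inner. -/

set_option autoImplicit false
set_option linter.unusedVariables false
set_option linter.unusedSectionVars false

namespace Cfsg.Agent.S4409P

open Subgroup
open scoped commutatorElement

variable {S : Type*} [Group S] [Finite S]

/-- if `g, h` both fix `y` then so does `g h⁻¹`. -/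
theorem Q1_aux_fix {g h y : S} (hg : g * y * g⁻¹ = y) (hh : h * y * h⁻¹ = y) :
    (g * h⁻¹) * y * (g * h⁻¹)⁻¹ = y := by
  have h1 : h⁻¹ * y * h = y := by
    calc h⁻¹ * y * h = h⁻¹ * (h * y * h⁻¹) * h := by rw [hh]
      _ = y := by group
  calc (g * h⁻¹) * y * (g * h⁻¹)⁻¹ = g * (h⁻¹ * y * h) * g⁻¹ := by group
    _ = y := by rw [h1, hg]

/-- if `g, h` both map `y ↦ ζ y` and fix the involution `ζ` then `g h⁻¹` fixes `y`. -/
theorem Q1_aux_flip {g h y ζ : S} (hζ2 : ζ * ζ = 1) (hgζ : g * ζ * g⁻¹ = ζ) (hhζ : h * ζ * h⁻¹ = ζ)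
    (hg : g * y * g⁻¹ = ζ * y) (hh : h * y * h⁻¹ = ζ * y) :
    (g * h⁻¹) * y * (g * h⁻¹)⁻¹ = y := by
  have hζ' : h⁻¹ * ζ * h = ζ := by
    calc h⁻¹ * ζ * h = h⁻¹ * (h * ζ * h⁻¹) * h := by rw [hhζ]
      _ = ζ := by group
  have h1 : h⁻¹ * y * h = ζ * y := by
    have h2 : y = ζ * (h⁻¹ * y * h) := by
      calc y = h⁻¹ * (h * y * h⁻¹) * h := by group
        _ = h⁻¹ * (ζ * y) * h := by rw [hh]
        _ = (h⁻¹ * ζ * h) * (h⁻¹ * y * h) := by group
        _ = ζ * (h⁻¹ * y * h) := by rw [hζ']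
    calc h⁻¹ * y * h = (ζ * ζ) * (h⁻¹ * y * h) := by rw [hζ2, one_mul]
      _ = ζ * (ζ * (h⁻¹ * y * h)) := by group
      _ = ζ * y := by rw [← h2]
  calc (g * h⁻¹) * y * (g * h⁻¹)⁻¹ = g * (h⁻¹ * y * h) * g⁻¹ := by group
    _ = g * (ζ * y) * g⁻¹ := by rw [h1]
    _ = (g * ζ * g⁻¹) * (g * y * g⁻¹) := by group
    _ = ζ * (ζ * y) := by rw [hgζ, hg]
    _ = (ζ * ζ) * y := by group
    _ = y := by rw [hζ2, one_mul]

/-- conjugation by `x` in terms of the commutator `⁅y, x⁆`. -/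
theorem Q1_aux_conj (x y : S) : x * y * x⁻¹ = ⁅y, x⁆⁻¹ * y := by
  rw [commutatorElement_def]; group

/-- Q1 -/
theorem q8_inn (Y : Subgroup S) (hY : IsQ8 Y) (x : S) (hx : x ∈ normalizer (Y : Set S))
    (hst : ∀ y ∈ Y, ⁅y, x⁆ ∈ Zc Y) : ∃ y0 ∈ Y, x * y0⁻¹ ∈ centralizer (Y : Set S) := by
  obtain ⟨hcardZ, hDer, hsqZ, hord4, hnab⟩ := q8_basic Y hY
  obtain ⟨h8, ζ, hζY, hζ1, hζ2, hsq⟩ := hY
  -- central elements are `1` or `ζ`
  have hZmem : ∀ z ∈ Zc Y, z = 1 ∨ z = ζ := by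
    intro z hz
    obtain ⟨hzY, hzc⟩ := mem_Zc.mp hz
    exact Q0_aux_central h8 hζY hζ1 hζ2 hsq hzY hzc
  have hζinv : ζ⁻¹ = ζ := inv_eq_of_mul_eq_one_left hζ2
  -- conjugation by an element `g` with `⁅y,g⁆ ∈ Z(Y)` maps `y` to `y` or `ζ y`
  have hact : ∀ g : S, ∀ y ∈ Y, ⁅y, g⁆ ∈ Zc Y → g * y * g⁻¹ = y ∨ g * y * g⁻¹ = ζ * y := by
    intro g y _ hc
    rw [Q1_aux_conj]
    rcases hZmem _ hc with h | h
    · left; rw [h, inv_one, one_mul]
    · right; rw [h, hζinv]
  have hinner : ∀ g ∈ Y, ∀ y ∈ Y, ⁅y, g⁆ ∈ Zc Y := by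
    intro g hg y hy
    rw [← hDer]
    exact Subgroup.commutator_mem_commutator hy hg
  -- `ζ` is fixed by everything in sight
  have hfixζ : ∀ g : S, ⁅ζ, g⁆ ∈ Zc Y → g * ζ * g⁻¹ = ζ := by
    intro g hc
    rcases hact g ζ hζY hc with h | h
    · exact h
    · exfalso
      rw [hζ2] at h
      apply hζ1
      have : g * ζ = g := by
        calc g * ζ = (g * ζ * g⁻¹) * g := by group
          _ = g := by rw [h, one_mul]
      exact mul_eq_left.mp this
  -- pick `a` of order four and `b` outside `⟨a⟩`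
  obtain ⟨a, haY, ha1, haζ, _, _⟩ := Q0_aux_exists_not_mem Y h8 1 ζ 1 1
  have ha2 : a * a = ζ := by
    rcases hsq a haY with h | h | h
    · exact absurd h ha1
    · exact absurd h haζ
    · exact h
  have ha4 : a ^ 2 ^ (1 + 1) = 1 := by
    calc a ^ 2 ^ (1 + 1) = (a * a) * (a * a) := by
          rw [show (2 : ℕ) ^ (1 + 1) = 2 + 2 from rfl, pow_add, pow_two]
      _ = 1 := by rw [ha2, hζ2]
  have ha2' : ¬ a ^ 2 ^ 1 = 1 := by
    rw [pow_one, pow_two, ha2]; exact hζ1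
  have horda : orderOf a = 4 := by
    have := orderOf_eq_prime_pow (p := 2) ha2' ha4
    simpa using this
  have hcza : Nat.card ↥(zpowers a) = 4 := by rw [Nat.card_zpowers, horda]
  have hzaY : zpowers a ≤ Y := (zpowers_le).mpr haY
  have hexb : ∃ b ∈ Y, b ∉ zpowers a := by
    by_contra hcon
    push Not at hcon
    have hle : Y ≤ zpowers a := fun y hy => hcon y hy
    have := Subgroup.card_le_of_le hle
    omega
  obtain ⟨b, hbY, hbza⟩ := hexb
  have hb1 : b ≠ 1 := fun h => hbza (h ▸ (zpowers a).one_mem)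
  have hbζ : b ≠ ζ := fun h => hbza (by rw [h, ← ha2]; exact (zpowers a).mul_mem (mem_zpowers a) (mem_zpowers a))
  have hb2 : b * b = ζ := by
    rcases hsq b hbY with h | h | h
    · exact absurd h hb1
    · exact absurd h hbζ
    · exact h
  -- `a` and `b` do not commute
  have hab : a * b ≠ b * a := by
    intro hcomm
    have h1 : (a * b) * (a * b) = 1 := by
      calc (a * b) * (a * b) = a * (b * a) * b := by group
        _ = a * (a * b) * b := by rw [hcomm]
        _ = (a * a) * (b * b) := by group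
        _ = 1 := by rw [ha2, hb2, hζ2]
    rcases hsq (a * b) (Y.mul_mem haY hbY) with h | h | h
    · apply hbza
      have : b = a⁻¹ := eq_inv_of_mul_eq_one_right h
      rw [this]; exact (zpowers a).inv_mem (mem_zpowers a)
    · apply hbza
      have : b = a⁻¹ * ζ := by rw [← h]; group
      rw [this, ← ha2]
      exact (zpowers a).mul_mem ((zpowers a).inv_mem (mem_zpowers a))
        ((zpowers a).mul_mem (mem_zpowers a) (mem_zpowers a))
    · rw [h1] at h; exact hζ1 h.symm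
  -- the action of `a` on `b` and of `b` on `a`
  have haa : a * a * a⁻¹ = a := by group
  have hbb : b * b * b⁻¹ = b := by group
  have hab' : a * b * a⁻¹ = ζ * b := by
    rcases hact a b hbY (hinner a haY b hbY) with h | h
    · exfalso; apply hab
      calc a * b = (a * b * a⁻¹) * a := by group
        _ = b * a := by rw [h]
    · exact h
  have hba' : b * a * b⁻¹ = ζ * a := by
    rcases hact b a haY (hinner b hbY a haY) with h | h
    · exfalso; apply hab
      calc a * b = ((b * a * b⁻¹))⁻¹⁻¹ * b := by rw [h]; group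
        _ = b * a := by group
    · exact h
  have hxζ : x * ζ * x⁻¹ = ζ := hfixζ x (hst ζ hζY)
  have haζ' : a * ζ * a⁻¹ = ζ := hfixζ a (hinner a haY ζ hζY)
  have hbζ' : b * ζ * b⁻¹ = ζ := hfixζ b (hinner b hbY ζ hζY)
  -- step 1: make the action on `a` trivial
  have step1 : ∃ u ∈ Y, (x * u⁻¹) * a * (x * u⁻¹)⁻¹ = a ∧
      ((x * u⁻¹) * b * (x * u⁻¹)⁻¹ = b ∨ (x * u⁻¹) * b * (x * u⁻¹)⁻¹ = ζ * b) ∧
      (x * u⁻¹) * ζ * (x * u⁻¹)⁻¹ = ζ := by
    rcases hact x a haY (hst a haY) with h | h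
    · refine ⟨1, Y.one_mem, ?_, ?_, ?_⟩
      · simpa using h
      · simpa using hact x b hbY (hst b hbY)
      · simpa using hxζ
    · refine ⟨b, hbY, Q1_aux_flip hζ2 hxζ hbζ' h hba', ?_, Q1_aux_fix hxζ hbζ'⟩
      rcases hact x b hbY (hst b hbY) with h' | h'
      · left; exact Q1_aux_fix h' hbb
      · right
        have hb' : b⁻¹ * b * b = b := by group
        calc (x * b⁻¹) * b * (x * b⁻¹)⁻¹ = x * (b⁻¹ * b * b) * x⁻¹ := by group
          _ = x * b * x⁻¹ := by rw [hb']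
          _ = ζ * b := h'
  obtain ⟨u, huY, hua, hub, huζ⟩ := step1
  -- step 2: make the action on `b` trivial
  have step2 : ∃ v ∈ Y, (x * v⁻¹) * a * (x * v⁻¹)⁻¹ = a ∧ (x * v⁻¹) * b * (x * v⁻¹)⁻¹ = b := by
    rcases hub with h | h
    · exact ⟨u, huY, hua, h⟩
    · refine ⟨a * u, Y.mul_mem haY huY, ?_, ?_⟩
      · have := Q1_aux_fix hua haa
        have he : x * (a * u)⁻¹ = (x * u⁻¹) * a⁻¹ := by group
        rw [he]; exact this
      · have := Q1_aux_flip hζ2 huζ haζ' h hab'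
        have he : x * (a * u)⁻¹ = (x * u⁻¹) * a⁻¹ := by group
        rw [he]; exact this
  obtain ⟨v, hvY, hva, hvb⟩ := step2
  refine ⟨v, hvY, ?_⟩
  -- the centraliser of `w = x v⁻¹` in `Y` contains `⟨a⟩` and `b`, so it is `Y`
  set w := x * v⁻¹ with hw
  have hwa : a * w = w * a := by
    calc a * w = (w * a * w⁻¹)⁻¹⁻¹ * w := by rw [hva]; group
      _ = w * a := by group
  have hwb : b * w = w * b := by
    calc b * w = (w * b * w⁻¹)⁻¹⁻¹ * w := by rw [hvb]; group
      _ = w * b := by group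
  have hCa : a ∈ Y ⊓ centralizer ({w} : Set S) := by
    refine Subgroup.mem_inf.mpr ⟨haY, ?_⟩
    rw [mem_centralizer_iff]
    intro g hg
    rw [Set.mem_singleton_iff] at hg
    rw [hg]; exact hwa.symm
  have hCb : b ∈ Y ⊓ centralizer ({w} : Set S) := by
    refine Subgroup.mem_inf.mpr ⟨hbY, ?_⟩
    rw [mem_centralizer_iff]
    intro g hg
    rw [Set.mem_singleton_iff] at hg
    rw [hg]; exact hwb.symm
  have hzaC : zpowers a ≤ Y ⊓ centralizer ({w} : Set S) := (zpowers_le).mpr hCa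
  have hCY : Y ⊓ centralizer ({w} : Set S) ≤ Y := inf_le_left
  have hCeq : Y ⊓ centralizer ({w} : Set S) = Y := by
    have hd1 : 4 ∣ Nat.card ↥(Y ⊓ centralizer ({w} : Set S)) := by
      rw [← hcza]; exact Subgroup.card_dvd_of_le hzaC
    have hd2 : Nat.card ↥(Y ⊓ centralizer ({w} : Set S)) ∣ 8 := by
      rw [← h8]; exact Subgroup.card_dvd_of_le hCY
    have hne4 : Nat.card ↥(Y ⊓ centralizer ({w} : Set S)) ≠ 4 := by
      intro h4
      have : zpowers a = Y ⊓ centralizer ({w} : Set S) :=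
        Subgroup.eq_of_le_of_card_ge hzaC (by rw [h4, hcza])
      exact hbza (this ▸ hCb)
    have hpos : 0 < Nat.card ↥(Y ⊓ centralizer ({w} : Set S)) := Nat.card_pos
    have hle8 : Nat.card ↥(Y ⊓ centralizer ({w} : Set S)) ≤ 8 := Nat.le_of_dvd (by norm_num) hd2
    have h8' : Nat.card ↥(Y ⊓ centralizer ({w} : Set S)) = 8 := by
      obtain ⟨k, hk⟩ := hd1
      have hk2 : k = 1 ∨ k = 2 := by omega
      rcases hk2 with rfl | rfl
      · omega
      · omega
    exact Subgroup.eq_of_le_of_card_ge hCY (by rw [h8', h8])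
  rw [mem_centralizer_iff]
  intro y hy
  have hyC : y ∈ Y ⊓ centralizer ({w} : Set S) := by rw [hCeq]; exact hy
  have := (mem_centralizer_iff.mp (Subgroup.mem_inf.mp hyC).2) w (Set.mem_singleton w)
  exact this.symm

end Cfsg.Agent.S4409P
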