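import Mathlib
import Cfsg.Agent.Helper8.D1Base
import Cfsg.Agent.Helper8.CharComp
import Cfsg.Agent.Helper11.D1QL
import Cfsg.Agent.Helper11.D1QLb
import Cfsg.Agent.Helper18.D1QO
import Cfsg.Agent.Helper24.Expansion
import Cfsg.Agent.Helper24.Span
import Cfsg.Agent.Helper24.Codegree

/-!
Defect-one cluster (helper8's plan), piece QC (degree congruence), part a: invariance of the numbers
`Dnum` under conjugation by `N_G(P)`, and the expansion of `χ(1)` over `Irr(C_G(P))`.
-/

set_option autoImplicit false
set_option linter.unusedSectionVars false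
set_option linter.unusedVariables false

namespace Cfsg.Agent.Helper11.D1QC

open Cfsg Cfsg.Agent.Helper8.D1 Cfsg.Agent.Helper24 Cfsg.Agent.Helper11.D1QL

/-- the inner product is invariant under an automorphism -/
theorem classInner_comp_equiv {X : Type*} [Group X] [Fintype X] (κ : X ≃* X) (Φ Ψ : X → ℂ) :
    classInner (fun x => Φ (κ x)) (fun x => Ψ (κ x)) = classInner Φ Ψ := by
  unfold classInner
  congr 1
  exact Equiv.sum_comp κ.toEquiv (fun x => Φ x * (starRingEnd ℂ) (Ψ x))

section

variable {G : Type*} [Group G] [Finite G] (P : Subgroup G)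

/-- the restriction of a class function of `G` to `C_G(P)` is invariant under `kap` -/
theorem res_kap {χ : G → ℂ} (hχ : IsClassFunction G χ) {n : G}
    (hn : n ∈ Subgroup.normalizer (P : Set G)) (c : ↥(Subgroup.centralizer (P : Set G))) :
    χ ((kap P n hn c : ↥(Subgroup.centralizer (P : Set G))) : G) = χ (c : G) := by
  rw [coe_kap]
  exact hχ (c : G) n

/-- inner products of a restricted class function with a `kap`-twisted function -/
theorem classInner_res_kap {χ : G → ℂ} (hχ : IsClassFunction G χ) {n : G}
    (hn : n ∈ Subgroup.normalizer (P : Set G)) (Ψ : ↥(Subgroup.centralizer (P : Set G)) → ℂ) :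
    @classInner _ _ (Fintype.ofFinite _) (fun c : ↥(Subgroup.centralizer (P : Set G)) => χ c)
        (fun c => Ψ (kap P n hn c))
      = @classInner _ _ (Fintype.ofFinite _)
        (fun c : ↥(Subgroup.centralizer (P : Set G)) => χ c) Ψ := by
  letI : Fintype ↥(Subgroup.centralizer (P : Set G)) := Fintype.ofFinite _
  have h1 := classInner_comp_equiv (kap P n hn)
    (fun c : ↥(Subgroup.centralizer (P : Set G)) => χ c) Ψ
  rw [← h1]
  congr 1
  funext c
  exact (res_kap P hχ hn c).symm

/-- `Dnum` for a `kap`-twisted `θ` -/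
theorem Dnum_comp_kap {χ : G → ℂ} (hχ : IsClassFunction G χ) {n : G}
    (hn : n ∈ Subgroup.normalizer (P : Set G)) (μ θ : ↥(Subgroup.centralizer (P : Set G)) → ℂ) :
    Dnum (Subgroup.centralizer (P : Set G)) μ (fun c => θ (kap P n hn c)) χ
      = Dnum (Subgroup.centralizer (P : Set G)) (fun c => μ ((kap P n hn).symm c)) θ χ := by
  unfold Dnum
  rw [classInner_res_kap P hχ hn θ]
  congr 1
  rw [← classInner_res_kap P hχ hn (fun c => μ ((kap P n hn).symm c) * θ c)]
  congr 1
  funext c
  rw [MulEquiv.symm_apply_apply]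

end

end Cfsg.Agent.Helper11.D1QC
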