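import Mathlib
import Cfsg.Agent.Helper11.D1QCa

/-!
Defect-one cluster (helper8's plan), piece QC (degree congruence), part b: the sum of the numbers
`Dnum` over the non-trivial `p`-linear functions.
-/

set_option autoImplicit false
set_option linter.unusedSectionVars false
set_option linter.unusedVariables false

namespace Cfsg.Agent.Helper11.D1QC

open Cfsg Cfsg.Agent.Helper8.D1 Cfsg.Agent.Helper24 Cfsg.Agent.Helper11.D1QL

section

variable {G : Type*} [Group G] [Finite G] (p : ℕ) (P : Subgroup G)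

/-- the sum of `Dnum μ ψ χ` over the non-trivial `p`-linear functions `μ` -/
noncomputable def Ssum (ψ : ↥(Subgroup.centralizer (P : Set G)) → ℂ) (χ : G → ℂ) : ℂ :=
  ∑ᶠ μ ∈ {μ : ↥(Subgroup.centralizer (P : Set G)) → ℂ | IsPLin p μ ∧ ∃ x, μ x ≠ 1},
    Dnum (Subgroup.centralizer (P : Set G)) μ ψ χ

/-- `Ssum` is invariant under twisting by `kap` -/
theorem Ssum_comp_kap {χ : G → ℂ} (hχ : IsClassFunction G χ) {n : G}
    (hn : n ∈ Subgroup.normalizer (P : Set G)) (θ : ↥(Subgroup.centralizer (P : Set G)) → ℂ) :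
    Ssum p P (fun c => θ (kap P n hn c)) χ = Ssum p P θ χ := by
  unfold Ssum
  refine finsum_mem_eq_of_bijOn (fun μ => fun c => μ ((kap P n hn).symm c)) ⟨?_, ?_, ?_⟩ ?_
  · rintro μ ⟨hμ, x, hx⟩
    refine ⟨hμ.comp (kap P n hn).symm, kap P n hn x, ?_⟩
    show μ ((kap P n hn).symm (kap P n hn x)) ≠ 1
    rwa [MulEquiv.symm_apply_apply]
  · intro μ _ ν _ h
    funext c
    have := congrFun h (kap P n hn c)
    simpa using this
  · rintro ν ⟨hν, x, hx⟩
    refine ⟨fun c => ν (kap P n hn c), ⟨hν.comp (kap P n hn), (kap P n hn).symm x, ?_⟩, ?_⟩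
    · show ν (kap P n hn ((kap P n hn).symm x)) ≠ 1
      rwa [MulEquiv.apply_symm_apply]
    · funext c
      show ν (kap P n hn ((kap P n hn).symm c)) = ν c
      rw [MulEquiv.apply_symm_apply]
  · intro μ _
    exact Dnum_comp_kap P hχ hn μ θ

/-- `Dnum` of the trivial `p`-linear function vanishes -/
theorem Dnum_trivial {μ : ↥(Subgroup.centralizer (P : Set G)) → ℂ} (hμ : ¬ ∃ x, μ x ≠ 1)
    (ψ : ↥(Subgroup.centralizer (P : Set G)) → ℂ) (χ : G → ℂ) :
    Dnum (Subgroup.centralizer (P : Set G)) μ ψ χ = 0 := by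
  simp only [not_exists, not_not] at hμ
  unfold Dnum
  have : (fun c => μ c * ψ c) = ψ := by
    funext c
    rw [hμ c, one_mul]
  rw [this, sub_self]

/-- `Ssum` as a sum over all `p`-linear functions -/
theorem Ssum_eq_sum [Fintype {μ : ↥(Subgroup.centralizer (P : Set G)) → ℂ // IsPLin p μ}]
    (ψ : ↥(Subgroup.centralizer (P : Set G)) → ℂ) (χ : G → ℂ) :
    Ssum p P ψ χ = ∑ μ : {μ : ↥(Subgroup.centralizer (P : Set G)) → ℂ // IsPLin p μ},
      Dnum (Subgroup.centralizer (P : Set G)) μ.1 ψ χ := by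
  rw [← finsum_eq_sum_of_fintype,
    finsum_subtype_eq_finsum_cond (f := fun μ => Dnum (Subgroup.centralizer (P : Set G)) μ ψ χ)
      (fun μ : ↥(Subgroup.centralizer (P : Set G)) → ℂ => IsPLin p μ)]
  unfold Ssum
  refine finsum_mem_inter_support_eq' _ _ _ ?_
  intro μ hμ
  constructor
  · exact fun h => h.1
  · intro h
    refine ⟨h, ?_⟩
    by_contra hne
    exact hμ (Dnum_trivial P hne ψ χ)

/-- the sum of the multiplicities of the `μ ψ` -/
theorem sum_classInner_eq [Fintype {μ : ↥(Subgroup.centralizer (P : Set G)) → ℂ // IsPLin p μ}]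
    (hcard : Fintype.card {μ : ↥(Subgroup.centralizer (P : Set G)) → ℂ // IsPLin p μ} = p)
    (ψ : ↥(Subgroup.centralizer (P : Set G)) → ℂ) (χ : G → ℂ) :
    ∑ μ : {μ : ↥(Subgroup.centralizer (P : Set G)) → ℂ // IsPLin p μ},
      @classInner _ _ (Fintype.ofFinite _)
        (fun c : ↥(Subgroup.centralizer (P : Set G)) => χ c) (fun c => μ.1 c * ψ c)
      = (p : ℂ) * @classInner _ _ (Fintype.ofFinite _)
          (fun c : ↥(Subgroup.centralizer (P : Set G)) => χ c) ψ + Ssum p P ψ χ := by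
  rw [Ssum_eq_sum]
  unfold Dnum
  rw [Finset.sum_sub_distrib, Finset.sum_const, Finset.card_univ, hcard, nsmul_eq_mul]
  ring

end

end Cfsg.Agent.Helper11.D1QC
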