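import Mathlib
import Cfsg.Agent.Helper11.D1QCb

/-!
Defect-one cluster (helper8's plan), piece QC (degree congruence), part c: the expansion of `χ(1)`
over `Irr(C_G(P))`, reindexed by the pairs `(μ, θ')`.
-/

set_option autoImplicit false
set_option linter.unusedSectionVars false
set_option linter.unusedVariables false

namespace Cfsg.Agent.Helper11.D1QC

open Cfsg Cfsg.Agent.Helper8.D1 Cfsg.Agent.Helper24 Cfsg.Agent.Helper11.D1QL

/-- the `p`-linear functions on `C_G(P)` -/
abbrev Lty {G : Type*} [Group G] (p : ℕ) (P : Subgroup G) : Type _ :=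
  {μ : ↥(Subgroup.centralizer (P : Set G)) → ℂ // IsPLin p μ}

/-- the irreducible characters of `C_G(P)` with `P` in the kernel -/
abbrev Tty {G : Type*} [Group G] (P : Subgroup G) : Type _ :=
  {θ : IrrCharacter ↥(Subgroup.centralizer (P : Set G)) //
    ∀ z ∈ P.subgroupOf (Subgroup.centralizer (P : Set G)),
      (θ : ↥(Subgroup.centralizer (P : Set G)) → ℂ) z
        = (θ : ↥(Subgroup.centralizer (P : Set G)) → ℂ) 1}

/-- the product `μ θ'` as an irreducible character -/
noncomputable def mulIrr {G : Type*} [Group G] [Finite G] {p : ℕ} {P : Subgroup G}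
    (μ : Lty p P) (θ : IrrCharacter ↥(Subgroup.centralizer (P : Set G))) :
    IrrCharacter ↥(Subgroup.centralizer (P : Set G)) :=
  ⟨fun c => μ.1 c * (θ : ↥(Subgroup.centralizer (P : Set G)) → ℂ) c, μ.2.isIrr_mul θ.2⟩

section

variable {G : Type*} [Group G] [Finite G]

/-- `χ(1)` as a sum over the irreducible characters of a subgroup -/
theorem char_one_eq_sum (C : Subgroup G) [Fintype (IrrCharacter C)] (χ : IrrCharacter G) :
    (χ : G → ℂ) 1 = ∑ ξ : IrrCharacter C,
      @classInner _ _ (Fintype.ofFinite _) (fun c : C => (χ : G → ℂ) c) (ξ : C → ℂ)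
        * (ξ : C → ℂ) 1 := by
  letI : Fintype C := Fintype.ofFinite _
  have h := IsCharacter.eq_sum_classInner
    (Cfsg.Agent.Helper8.isCharacter_restrict C (IsIrrCharacter.isCharacter χ.2))
  have h1 := congrFun h 1
  simp only [Finset.sum_apply, Pi.smul_apply, smul_eq_mul, Subgroup.coe_one] at h1
  exact h1

variable {p : ℕ} [Fact p.Prime] (P : Sylow p G)

/-- reindexing of a sum over `Irr(C_G(P))` by the pairs `(μ, θ')` -/
theorem sum_irr_eq_sum_prod (hP : Nat.card P = p)
    [Fintype (IrrCharacter ↥(Subgroup.centralizer ((P : Subgroup G) : Set G)))]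
    [Fintype (Lty p (P : Subgroup G))] [Fintype (Tty (P : Subgroup G))]
    (F : IrrCharacter ↥(Subgroup.centralizer ((P : Subgroup G) : Set G)) → ℂ) :
    ∑ ξ, F ξ = ∑ θ' : Tty (P : Subgroup G), ∑ μ : Lty p (P : Subgroup G), F (mulIrr μ θ'.1) := by
  obtain ⟨hZ, hZc, hZi⟩ := Cfsg.Agent.Helper18.D1QO.subgroupOf_facts P hP
  have hbij : Function.Bijective
      (fun pr : Lty p (P : Subgroup G) × Tty (P : Subgroup G) => mulIrr pr.1 pr.2.1) := by
    rw [Function.bijective_iff_existsUnique]
    intro ξ
    obtain ⟨pr, h1, h2⟩ := exists_unique_decomp _ hZ hZc hZi ξ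
    refine ⟨pr, ?_, ?_⟩
    · apply Subtype.ext
      exact h1.symm
    · intro pr' h'
      apply h2
      have := congrArg Subtype.val h'
      exact this.symm
  rw [← Function.Bijective.sum_comp hbij F, Fintype.sum_prod_type_right]

end

end Cfsg.Agent.Helper11.D1QC
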