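import Mathlib
import Cfsg.Agent.Helper11.D1QCc

/-!
Defect-one cluster (helper8's plan), piece QC (degree congruence), part d: the orbit of `θ` under
`N_G(P)` and its length.
-/

set_option autoImplicit false
set_option linter.unusedSectionVars false
set_option linter.unusedVariables false

namespace Cfsg.Agent.Helper11.D1QC

open Cfsg Cfsg.Agent.Helper8.D1 Cfsg.Agent.Helper24 Cfsg.Agent.Helper11.D1QL
  Cfsg.Agent.Helper18.D1QO

section

variable {G : Type*} [Group G] (P : Subgroup G)

/-- the action of `N_G(P)` on the functions on `C_G(P)` -/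
@[reducible] noncomputable def funAct :
    MulAction ↥(Subgroup.normalizer (P : Set G)) (↥(Subgroup.centralizer (P : Set G)) → ℂ) where
  smul n ψ := fun c => ψ ((kap P n n.2).symm c)
  one_smul ψ := by
    funext c
    show ψ ((kap P ((1 : ↥(Subgroup.normalizer (P : Set G))) : G) _).symm c) = ψ c
    exact congrArg ψ (kap_symm_one P _ c)
  mul_smul n m ψ := by
    funext c
    show ψ ((kap P ((n * m : ↥(Subgroup.normalizer (P : Set G))) : G) _).symm c) =
      ψ ((kap P (m : G) _).symm ((kap P (n : G) _).symm c))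
    exact congrArg ψ (kap_symm_mul P n.2 m.2 _ c)

theorem kap_symm_eq_kap_inv {n : G} (hn : n ∈ Subgroup.normalizer (P : Set G))
    (hn' : n⁻¹ ∈ Subgroup.normalizer (P : Set G)) (c : ↥(Subgroup.centralizer (P : Set G))) :
    (kap P n hn).symm c = kap P n⁻¹ hn' c := by
  apply Subtype.ext
  rw [coe_kap_symm, coe_kap, inv_inv]

/-- the orbit of `θ` consists of the `θ ∘ kap n` -/
theorem mem_orbit_funAct_iff (θ ψ : ↥(Subgroup.centralizer (P : Set G)) → ℂ) :
    (letI := funAct P; ψ ∈ MulAction.orbit ↥(Subgroup.normalizer (P : Set G)) θ) ↔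
      ∃ (n : G) (hn : n ∈ Subgroup.normalizer (P : Set G)), ψ = fun c => θ (kap P n hn c) := by
  letI := funAct P
  constructor
  · rintro ⟨n, rfl⟩
    refine ⟨(n : G)⁻¹, Subgroup.inv_mem _ n.2, ?_⟩
    funext c
    show θ ((kap P n n.2).symm c) = _
    rw [kap_symm_eq_kap_inv P n.2 (Subgroup.inv_mem _ n.2)]
  · rintro ⟨n, hn, rfl⟩
    refine ⟨⟨n⁻¹, Subgroup.inv_mem _ hn⟩, ?_⟩
    funext c
    show θ ((kap P n⁻¹ (Subgroup.inv_mem _ hn)).symm c) = θ (kap P n hn c)
    rw [kap_symm_inv P hn]

/-- the stabilizer of `θ` -/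
theorem stabilizer_funAct_eq (θ : ↥(Subgroup.centralizer (P : Set G)) → ℂ) (T : Subgroup G)
    (hT : ∀ g : G, g ∈ T ↔ (g ∈ Subgroup.normalizer (P : Set G) ∧
      ∀ c c' : ↥(Subgroup.centralizer (P : Set G)), (c' : G) = g * c * g⁻¹ → θ c' = θ c)) :
    (letI := funAct P; MulAction.stabilizer ↥(Subgroup.normalizer (P : Set G)) θ)
      = T.subgroupOf (Subgroup.normalizer (P : Set G)) := by
  letI := funAct P
  ext n
  rw [MulAction.mem_stabilizer_iff, Subgroup.mem_subgroupOf, hT]
  constructor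
  · intro h
    refine ⟨n.2, ?_⟩
    intro c c' hcc'
    have h1 := congrFun h c'
    have h2 : (kap P n n.2).symm c' = c := by
      apply Subtype.ext
      rw [coe_kap_symm, hcc']
      group
    have h3 : (n • θ) c' = θ ((kap P n n.2).symm c') := rfl
    rw [h3, h2] at h1
    exact h1.symm
  · rintro ⟨_, h⟩
    funext c
    show θ ((kap P n n.2).symm c) = θ c
    refine (h ((kap P n n.2).symm c) c ?_).symm
    rw [coe_kap_symm]
    group

/-- the length of the orbit of `θ` -/
theorem ncard_orbit_funAct (θ : ↥(Subgroup.centralizer (P : Set G)) → ℂ) (T : Subgroup G)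
    (hT : ∀ g : G, g ∈ T ↔ (g ∈ Subgroup.normalizer (P : Set G) ∧
      ∀ c c' : ↥(Subgroup.centralizer (P : Set G)), (c' : G) = g * c * g⁻¹ → θ c' = θ c)) :
    (letI := funAct P; (MulAction.orbit ↥(Subgroup.normalizer (P : Set G)) θ).ncard)
      = T.relIndex (Subgroup.normalizer (P : Set G)) := by
  letI := funAct P
  rw [← MulAction.index_stabilizer, stabilizer_funAct_eq P θ T hT]
  rfl

end

end Cfsg.Agent.Helper11.D1QC
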