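import Mathlib
import Cfsg.Agent.Helper11.D1QCd
import Cfsg.Agent.Helper5.D1QS
import Cfsg.Agent.Helper5.D1QX
import Cfsg.Agent.Helper23.D1QI

/-!
Defect-one cluster (helper8's plan), piece QC: the degree congruence
`χ(1) ≡ |N_G(P) : T| θ(1) ∑_{μ ≠ 1} Dnum μ θ χ (mod p)`.
-/

set_option autoImplicit false
set_option linter.unusedSectionVars false
set_option linter.unusedVariables false
set_option linter.style.haveILetI false

namespace Cfsg.Agent.Helper11.D1QC

open Cfsg Cfsg.Agent.Helper8.D1 Cfsg.Agent.Helper24 Cfsg.Agent.Helper11.D1QL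
  Cfsg.Agent.Helper18.D1QO Cfsg.Agent.Helper5 Cfsg.Agent.Helper5.Loc Cfsg.Agent.Helper5.CC

section

variable {G : Type*} [Group G] [Finite G] {p : ℕ} [Fact p.Prime]

/-- the members of the orbit of `θ`, as elements of `Tty`, are as many as the orbit is long -/
theorem card_filter_orbit (P : Sylow p G) (hP : Nat.card P = p)
    (θ : IrrCharacter ↥(Subgroup.centralizer ((P : Subgroup G) : Set G)))
    (hθP : ∀ x : ↥(Subgroup.centralizer ((P : Subgroup G) : Set G)), (x : G) ∈ (P : Subgroup G) →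
      (θ : ↥(Subgroup.centralizer ((P : Subgroup G) : Set G)) → ℂ) x =
        (θ : ↥(Subgroup.centralizer ((P : Subgroup G) : Set G)) → ℂ) 1)
    (Orb : Set (↥(Subgroup.centralizer ((P : Subgroup G) : Set G)) → ℂ))
    (hOrb : ∀ ψ, ψ ∈ Orb ↔ ∃ (n : G)
      (hn : n ∈ Subgroup.normalizer ((P : Subgroup G) : Set G)),
        ψ = fun c => (θ : ↥(Subgroup.centralizer ((P : Subgroup G) : Set G)) → ℂ)
          (kap (P : Subgroup G) n hn c)) :
    Nat.card {θ' : Tty (P : Subgroup G) //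
        (θ'.1 : ↥(Subgroup.centralizer ((P : Subgroup G) : Set G)) → ℂ) ∈ Orb} = Orb.ncard := by
  rw [← Nat.card_coe_set_eq]
  refine Nat.card_congr (Equiv.ofBijective
    (fun x : {θ' : Tty (P : Subgroup G) //
        (θ'.1 : ↥(Subgroup.centralizer ((P : Subgroup G) : Set G)) → ℂ) ∈ Orb} =>
      (⟨(x.1.1 : ↥(Subgroup.centralizer ((P : Subgroup G) : Set G)) → ℂ), x.2⟩ : ↥Orb))
    ⟨?_, ?_⟩)
  · intro x y h
    apply Subtype.ext
    apply Subtype.ext
    apply Subtype.ext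
    have h1 := congrArg (Subtype.val : ↥Orb → _) h
    exact h1
  · rintro ⟨ψ, hψ⟩
    obtain ⟨n, hn, rfl⟩ := (hOrb ψ).mp hψ
    have hirr : IsIrrCharacter ↥(Subgroup.centralizer ((P : Subgroup G) : Set G))
        (fun c => (θ : ↥(Subgroup.centralizer ((P : Subgroup G) : Set G)) → ℂ)
          (kap (P : Subgroup G) n hn c)) :=
      Cfsg.Agent.Helper8.isIrrCharacter_comp_surjective (kap (P : Subgroup G) n hn).toMonoidHom
        (kap (P : Subgroup G) n hn).surjective θ.2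
    have hZ : ∀ z ∈ (P : Subgroup G).subgroupOf (Subgroup.centralizer ((P : Subgroup G) : Set G)),
        (fun c => (θ : ↥(Subgroup.centralizer ((P : Subgroup G) : Set G)) → ℂ)
          (kap (P : Subgroup G) n hn c)) z
        = (fun c => (θ : ↥(Subgroup.centralizer ((P : Subgroup G) : Set G)) → ℂ)
          (kap (P : Subgroup G) n hn c)) 1 := by
      intro z hz
      rw [Subgroup.mem_subgroupOf] at hz
      show (θ : ↥(Subgroup.centralizer ((P : Subgroup G) : Set G)) → ℂ)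
          (kap (P : Subgroup G) n hn z)
        = (θ : ↥(Subgroup.centralizer ((P : Subgroup G) : Set G)) → ℂ)
          (kap (P : Subgroup G) n hn 1)
      rw [map_one]
      apply hθP
      rw [coe_kap]
      exact (Subgroup.mem_normalizer_iff.mp hn (z : G)).mp hz
    exact ⟨⟨⟨⟨_, hirr⟩, hZ⟩, hψ⟩, rfl⟩

end

section

variable {G : Type*} [Group G] [Finite G] {p : ℕ} [Fact p.Prime] (P : Sylow p G)

local notation "CP" => Subgroup.centralizer ((P : Subgroup G) : Set G)
local notation "NP" => Subgroup.normalizer ((P : Subgroup G) : Set G)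

/-- (QC) the degree congruence -/
theorem degree_congr_aux {M : Ideal AlgInt} (hM : IsPModular p M) (hP : Nat.card P = p)
    (B : Set (IrrCharacter G)) (hB : IsPBlock M B) (hBP : IsDefectGroup p M B P)
    (b : Set (IrrCharacter CP)) (hind : IsInducedBlock M CP b B)
    (θ : IrrCharacter CP) (hθ : θ ∈ b)
    (hθP : ∀ x : CP, (x : G) ∈ (P : Subgroup G) → (θ : CP → ℂ) x = (θ : CP → ℂ) 1)
    (T : Subgroup G)
    (hT : ∀ g : G, g ∈ T ↔ (g ∈ NP ∧
      ∀ c c' : CP, (c' : G) = g * c * g⁻¹ → (θ : CP → ℂ) c' = (θ : CP → ℂ) c))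
    (χ : IrrCharacter G) (hχ : χ ∈ B) :
    ∃ s : ℤ, (s : ℂ) = ∑ᶠ μ ∈ {μ : CP → ℂ | IsPLin p μ ∧ ∃ x, μ x ≠ 1},
        Dnum CP μ (θ : CP → ℂ) (χ : G → ℂ) ∧
      (charDegree (χ : G → ℂ) : ℤ) ≡
        (((CP).relIndex NP / (CP).relIndex T * charDegree (θ : CP → ℂ) : ℕ) : ℤ) * s
        [ZMOD p] := by
  classical
  have hp : p.Prime := Fact.out
  have hMp := isPrime_of_isPModular hM
  obtain ⟨hZ, hZc, hZi⟩ := subgroupOf_facts P hP
  have hcardL0 : Nat.card (Lty p (P : Subgroup G)) = p := card_pLin _ hZ hZc hZi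
  haveI : Finite (Lty p (P : Subgroup G)) :=
    Nat.finite_of_card_ne_zero (by rw [hcardL0]; exact hp.ne_zero)
  letI : Fintype CP := Fintype.ofFinite _
  haveI : Fintype (IrrCharacter CP) := Fintype.ofFinite _
  haveI : Fintype (Lty p (P : Subgroup G)) := Fintype.ofFinite _
  haveI : Fintype (Tty (P : Subgroup G)) := Fintype.ofFinite _
  have hcardL : Fintype.card (Lty p (P : Subgroup G)) = p := by
    rw [← Nat.card_eq_fintype_card]; exact hcardL0
  have hχcf : IsClassFunction G (χ : G → ℂ) := isClassFunction_irr χ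
  -- the multiplicities
  have hres : IsCharacter CP (fun c : CP => (χ : G → ℂ) c) :=
    Cfsg.Agent.Helper8.isCharacter_restrict CP (IsIrrCharacter.isCharacter χ.2)
  have haN : ∀ ξ : IrrCharacter CP, ∃ n : ℕ,
      classInner (fun c : CP => (χ : G → ℂ) c) (ξ : CP → ℂ) = n :=
    fun ξ => IsCharacter.classInner_irr_nat hres ξ
  choose aN haN using haN
  -- the integers `sZ`
  set sZ : IrrCharacter CP → ℤ := fun θ' =>
    (∑ μ : Lty p (P : Subgroup G), (aN (mulIrr μ θ') : ℤ)) - p * aN θ' with hsZ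
  have hS : ∀ θ' : IrrCharacter CP, ((sZ θ' : ℤ) : ℂ) = Ssum p (P : Subgroup G) θ' χ := by
    intro θ'
    have h1 := sum_classInner_eq p (P : Subgroup G) hcardL (θ' : CP → ℂ) (χ : G → ℂ)
    have h2 : ∀ μ : Lty p (P : Subgroup G),
        classInner (fun c : CP => (χ : G → ℂ) c) (fun c => μ.1 c * (θ' : CP → ℂ) c)
          = (aN (mulIrr μ θ') : ℂ) := fun μ => haN (mulIrr μ θ')
    rw [Finset.sum_congr rfl (fun μ _ => h2 μ), haN θ'] at h1
    rw [hsZ]
    push_cast
    linear_combination h1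
  -- the degree expansion
  have hdeg : (irrDeg χ : ℤ)
      = ∑ θ' : Tty (P : Subgroup G), (irrDeg θ'.1 : ℤ) * (sZ θ'.1 + p * aN θ'.1) := by
    have h1 := char_one_eq_sum CP χ
    rw [sum_irr_eq_sum_prod P hP] at h1
    have h2 : ∀ (θ' : Tty (P : Subgroup G)) (μ : Lty p (P : Subgroup G)),
        classInner (fun c : CP => (χ : G → ℂ) c) (mulIrr μ θ'.1 : CP → ℂ)
            * (mulIrr μ θ'.1 : CP → ℂ) 1
          = (aN (mulIrr μ θ'.1) : ℂ) * (irrDeg θ'.1 : ℂ) := by
      intro θ' μ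
      rw [haN]
      congr 1
      show μ.1 1 * (θ'.1 : CP → ℂ) 1 = _
      rw [μ.2.one, one_mul, irrDeg_spec]
    rw [Finset.sum_congr rfl (fun θ' _ => Finset.sum_congr rfl (fun μ _ => h2 θ' μ)),
      irrDeg_spec] at h1
    have h3 : ((irrDeg χ : ℤ) : ℂ) = ((∑ θ' : Tty (P : Subgroup G),
        (irrDeg θ'.1 : ℤ) * (sZ θ'.1 + p * aN θ'.1) : ℤ) : ℂ) := by
      push_cast
      rw [h1]
      refine Finset.sum_congr rfl fun θ' _ => ?_
      rw [hsZ]
      push_cast
      rw [← Finset.sum_mul]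
      ring
    exact_mod_cast h3
  -- the orbit of `θ`
  letI := funAct (P : Subgroup G)
  set Orb : Set (CP → ℂ) := MulAction.orbit NP (θ : CP → ℂ) with hOrbdef
  have hOrb : ∀ ψ, ψ ∈ Orb ↔ ∃ (n : G) (hn : n ∈ NP),
      ψ = fun c => (θ : CP → ℂ) (kap (P : Subgroup G) n hn c) :=
    fun ψ => mem_orbit_funAct_iff (P : Subgroup G) (θ : CP → ℂ) ψ
  have hOrbcard : Orb.ncard = T.relIndex NP :=
    ncard_orbit_funAct (P : Subgroup G) (θ : CP → ℂ) T hT
  have hi : ∀ θ' : Tty (P : Subgroup G), sZ θ'.1 ≠ 0 → (θ'.1 : CP → ℂ) ∈ Orb := by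
    intro θ' hne
    have h1 : Ssum p (P : Subgroup G) θ'.1 χ ≠ 0 := by
      rw [← hS]
      exact_mod_cast hne
    obtain ⟨μ, ⟨hμ, hμ1⟩, hD⟩ := exists_ne_zero_of_finsum_mem_ne_zero h1
    obtain ⟨B', hind'⟩ := Cfsg.Agent.Helper23.D1QI.exists_induced hM P hP θ'.1
    have hχB' : χ ∈ B' := by
      by_contra hcon
      exact hD (Cfsg.Agent.Helper5.D1Q.Dnum_eq_zero_of_not_mem hM P hP _ B' hind' θ'.1
        (mem_blockOf_self hMp θ'.1) μ hμ χ hcon)
    have hBB' : B' = B := by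
      rw [IsPBlock_eq_blockOf hMp hind'.2.1 hχB', IsPBlock_eq_blockOf hMp hB hχ]
    subst hBB'
    obtain ⟨n, hn, hconj⟩ := Cfsg.Agent.Helper5.D1Q.exists_conj_canonical hM P hP B' hBP b _
      hind hind' θ θ'.1 hθ (mem_blockOf_self hMp θ'.1) hθP
      (fun x hx => θ'.2 x (Subgroup.mem_subgroupOf.mpr hx))
    rw [hOrb]
    exact ⟨n, hn, funext hconj⟩
  have hii : ∀ θ' : Tty (P : Subgroup G), (θ'.1 : CP → ℂ) ∈ Orb →
      sZ θ'.1 = sZ θ ∧ irrDeg θ'.1 = irrDeg θ := by
    intro θ' hmem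
    obtain ⟨n, hn, hconj⟩ := (hOrb _).mp hmem
    constructor
    · have h1 : ((sZ θ'.1 : ℤ) : ℂ) = ((sZ θ : ℤ) : ℂ) := by
        rw [hS, hS, hconj]
        exact Ssum_comp_kap p (P : Subgroup G) hχcf hn (θ : CP → ℂ)
      exact_mod_cast h1
    · have h1 : ((irrDeg θ'.1 : ℕ) : ℂ) = (irrDeg θ : ℂ) := by
        rw [← irrDeg_spec, ← irrDeg_spec, hconj]
        show (θ : CP → ℂ) (kap (P : Subgroup G) n hn 1) = _
        rw [map_one]
      exact_mod_cast h1
  have hsum : ∑ θ' : Tty (P : Subgroup G), (irrDeg θ'.1 : ℤ) * sZ θ'.1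
      = (T.relIndex NP : ℤ) * ((irrDeg θ : ℤ) * sZ θ) := by
    have h1 : ∀ θ' : Tty (P : Subgroup G), (irrDeg θ'.1 : ℤ) * sZ θ'.1
        = if (θ'.1 : CP → ℂ) ∈ Orb then (irrDeg θ : ℤ) * sZ θ else 0 := by
      intro θ'
      by_cases hmem : (θ'.1 : CP → ℂ) ∈ Orb
      · rw [if_pos hmem, (hii θ' hmem).1, (hii θ' hmem).2]
      · rw [if_neg hmem]
        have : sZ θ'.1 = 0 := by
          by_contra hne
          exact hmem (hi θ' hne)
        rw [this, mul_zero]
    rw [Finset.sum_congr rfl (fun θ' _ => h1 θ'), Finset.sum_ite, Finset.sum_const_zero,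
      add_zero, Finset.sum_const, nsmul_eq_mul]
    congr 2
    rw [← hOrbcard, ← card_filter_orbit P hP θ hθP Orb hOrb, Nat.card_eq_fintype_card,
      Fintype.card_subtype]
  -- conclusion
  refine ⟨sZ θ, ?_, ?_⟩
  · rw [hS]
    rfl
  · rw [charDegree_irr, charDegree_irr, hdeg]
    have hTN : T ≤ NP := fun g hg => ((hT g).mp hg).1
    have hCT : CP ≤ T := by
      intro g hg
      rw [hT]
      refine ⟨Subgroup.centralizer_le_normalizer _ hg, ?_⟩
      intro c c' hcc'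
      have h1 : c' = ⟨g, hg⟩ * c * (⟨g, hg⟩ : CP)⁻¹ := by
        apply Subtype.ext
        rw [hcc']
        rfl
      rw [h1]
      exact isClassFunction_irr θ c ⟨g, hg⟩
    have hpos : 0 < (CP).relIndex T := by
      apply Nat.pos_of_ne_zero
      show ((CP).subgroupOf T).index ≠ 0
      exact Subgroup.index_ne_zero_of_finite
    have hidx : (CP).relIndex NP / (CP).relIndex T = T.relIndex NP := by
      rw [← Subgroup.relIndex_mul_relIndex _ _ _ hCT hTN]
      exact Nat.mul_div_cancel_left _ hpos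
    rw [hidx]
    have h4 : ∑ θ' : Tty (P : Subgroup G), (irrDeg θ'.1 : ℤ) * (sZ θ'.1 + p * aN θ'.1)
        = ∑ θ' : Tty (P : Subgroup G), (irrDeg θ'.1 : ℤ) * sZ θ'.1
          + p * ∑ θ' : Tty (P : Subgroup G), (irrDeg θ'.1 : ℤ) * aN θ'.1 := by
      rw [Finset.mul_sum, ← Finset.sum_add_distrib]
      refine Finset.sum_congr rfl fun θ' _ => by ring
    rw [h4, hsum]
    push_cast
    have h5 : ((T.relIndex NP : ℤ) * ((irrDeg θ : ℤ) * sZ θ)
        + p * ∑ θ' : Tty (P : Subgroup G), (irrDeg θ'.1 : ℤ) * aN θ'.1) % p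
        = ((T.relIndex NP : ℤ) * ((irrDeg θ : ℤ) * sZ θ)) % p :=
      Int.add_mul_emod_self_left _ _ _
    show _ % (p : ℤ) = _ % (p : ℤ)
    rw [h5]
    congr 1
    ring

end

/-- (QC) the degree congruence, in the form of the piece list -/
theorem degree_congr {G : Type*} [Group G] [Finite G] {p : ℕ} [Fact p.Prime]
    {M : Ideal AlgInt} (hM : IsPModular p M) (P : Sylow p G) (hP : Nat.card P = p)
    (B : Set (IrrCharacter G)) (hB : IsPBlock M B) (hBP : IsDefectGroup p M B P)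
    (b : Set (IrrCharacter (Subgroup.centralizer ((P : Subgroup G) : Set G))))
    (hind : IsInducedBlock M (Subgroup.centralizer ((P : Subgroup G) : Set G)) b B)
    (θ : IrrCharacter (Subgroup.centralizer ((P : Subgroup G) : Set G))) (hθ : θ ∈ b)
    (hθP : ∀ x : Subgroup.centralizer ((P : Subgroup G) : Set G), (x : G) ∈ (P : Subgroup G) →
      (θ : Subgroup.centralizer ((P : Subgroup G) : Set G) → ℂ) x =
        (θ : Subgroup.centralizer ((P : Subgroup G) : Set G) → ℂ) 1)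
    (T : Subgroup G)
    (hT : ∀ g : G, g ∈ T ↔ (g ∈ Subgroup.normalizer ((P : Subgroup G) : Set G) ∧
      ∀ c c' : Subgroup.centralizer ((P : Subgroup G) : Set G), (c' : G) = g * c * g⁻¹ →
        (θ : Subgroup.centralizer ((P : Subgroup G) : Set G) → ℂ) c' =
          (θ : Subgroup.centralizer ((P : Subgroup G) : Set G) → ℂ) c))
    (χ : IrrCharacter G) (hχ : χ ∈ B) :
    ∃ s : ℤ, (s : ℂ) = ∑ᶠ μ ∈ {μ : Subgroup.centralizer ((P : Subgroup G) : Set G) → ℂ |
        IsPLin p μ ∧ ∃ x, μ x ≠ 1},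
        Dnum (Subgroup.centralizer ((P : Subgroup G) : Set G)) μ
          (θ : Subgroup.centralizer ((P : Subgroup G) : Set G) → ℂ) (χ : G → ℂ) ∧
      (charDegree (χ : G → ℂ) : ℤ) ≡
        (((Subgroup.centralizer ((P : Subgroup G) : Set G)).relIndex
            (Subgroup.normalizer ((P : Subgroup G) : Set G)) /
          (Subgroup.centralizer ((P : Subgroup G) : Set G)).relIndex T *
          charDegree (θ : Subgroup.centralizer ((P : Subgroup G) : Set G) → ℂ) : ℕ) : ℤ) * s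
        [ZMOD p] :=
  degree_congr_aux P hM hP B hB hBP b hind θ hθ hθP T hT χ hχ

end Cfsg.Agent.Helper11.D1QC
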