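import Cfsg.Agent.Helper20.S5665RGEN

set_option autoImplicit false
set_option linter.unusedSectionVars false
set_option linter.unusedVariables false

/-! # S5665 piece RDELTA: the skew-adjoint generator `δ` of `K`, `δ² = d` a non-square -/

namespace Cfsg.Agent.S5665P

open Matrix Module Cfsg.Agent.Helper2.Sp Cfsg.Agent.Helper28.Sg Cfsg.Agent.S5700P

variable {F : Type*} [Field F] [Fintype F] {m : ℕ}
  {δ : Matrix (Fin m ⊕ Fin m) (Fin m ⊕ Fin m) F} {d : F}

local notation "V" => (Fin m ⊕ Fin m → F)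
local notation "Mat" => Matrix (Fin m ⊕ Fin m) (Fin m ⊕ Fin m) F
local notation "Sp" => Matrix.symplecticGroup (Fin m) F

namespace RDELTA

/-- a scalar matrix that vanishes has scalar `0` (`m ≥ 1`) -/
theorem smul_one_eq_zero (hm : 1 ≤ m) {s : F} (hs : s • (1 : Mat) = 0) : s = 0 := by
  have h := congr_fun (congr_fun hs (Sum.inl ⟨0, hm⟩)) (Sum.inl ⟨0, hm⟩)
  simpa using h

/-- `1, δ` are linearly independent when `δ² = d` is a non-square -/
theorem indep (hm : 1 ≤ m) (hsq : δ * δ = d • (1 : Mat)) (hns : ∀ r : F, r * r ≠ d) {x y : F}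
    (h : x • (1 : Mat) + y • δ = 0) : x = 0 ∧ y = 0 := by
  by_cases hy : y = 0
  · subst hy
    rw [zero_smul, add_zero] at h
    exact ⟨smul_one_eq_zero hm h, rfl⟩
  · exfalso
    have h1 : δ = (-(x / y)) • (1 : Mat) := by
      have h2 : y • δ = (-x) • (1 : Mat) := by
        rw [neg_smul]; exact eq_neg_of_add_eq_zero_right h
      have h3 : δ = y⁻¹ • (y • δ) := by rw [smul_smul, inv_mul_cancel₀ hy, one_smul]
      rw [h3, h2, smul_smul]
      congr 1
      field_simp
    have h4 : δ * δ = ((x / y) * (x / y)) • (1 : Mat) := by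
      rw [h1, smul_mul_smul_comm, mul_one]
      congr 1
      ring
    rw [hsq] at h4
    have h5 : (d - (x / y) * (x / y)) • (1 : Mat) = 0 := by
      rw [sub_smul, h4, sub_self]
    exact hns (x / y) (sub_eq_zero.mp (smul_one_eq_zero hm h5)).symm

/-- two matrices with the same `om`-values on the right are equal -/
theorem mat_eq_of_right {A A' : Mat} (h : ∀ u v : V, om u (A *ᵥ v) = om u (A' *ᵥ v)) : A = A' := by
  apply Matrix.ext_iff_mulVec.mpr
  intro v
  have h0 : A *ᵥ v - A' *ᵥ v = 0 := by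
    apply eq_zero_of_om_left
    intro u
    rw [om_sub_right, h u v, sub_self]
  exact sub_eq_zero.mp h0

end RDELTA

/-- RDELTA -/
theorem RDELTA.exists_delta (hm : 1 ≤ m) (h2 : (2 : F) ≠ 0) (K : Subalgebra F Mat)
    (hK : Cfsg.Geo.IsFieldSubalgebra 2 K)
    (hac : Cfsg.Geo.IsAdjointClosedFor (Cfsg.sympForm m F) K)
    (hnsa : ¬ Cfsg.Geo.IsSelfAdjointFor (Cfsg.sympForm m F) K) :
    ∃ (δ : Mat) (d : F), SData δ d ∧ δ ∈ K ∧ ∀ k ∈ K, ∃ a b : F, k = a • (1 : Mat) + b • δ := by
  obtain ⟨ω, p, t, hωK, hω2, hirr, hspan⟩ := RGEN.exists_gen hm K hK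
  -- the generator of trace `0`
  let δ₀ : Mat := (2 : F) • ω - t • (1 : Mat)
  have hδK : δ₀ ∈ K := K.sub_mem (K.smul_mem hωK 2) (K.smul_mem K.one_mem t)
  have hsq : δ₀ * δ₀ = (t * t + 4 * p) • (1 : Mat) := by
    show ((2 : F) • ω - t • (1 : Mat)) * ((2 : F) • ω - t • (1 : Mat)) = _
    rw [sub_mul, mul_sub, mul_sub, smul_mul_smul_comm, smul_mul_smul_comm, smul_mul_smul_comm,
      smul_mul_smul_comm, hω2]
    simp only [mul_one, one_mul]
    module
  have hns : ∀ r : F, r * r ≠ t * t + 4 * p := by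
    intro r hr
    apply hirr ((t + r) / 2)
    field_simp
    linear_combination hr
  have hsp : ∀ k ∈ K, ∃ a b : F, k = a • (1 : Mat) + b • δ₀ := by
    intro k hk
    obtain ⟨a, b, rfl⟩ := hspan k hk
    refine ⟨a + b / 2 * t, b / 2, ?_⟩
    have hb : b = 2 * (b / 2) := by field_simp
    show _ = _ + (b / 2) • ((2 : F) • ω - t • (1 : Mat))
    generalize b / 2 = c at hb
    subst hb
    module
  -- the adjoint of `δ₀`
  obtain ⟨δ', hδ'K, hadj⟩ := hac δ₀ hδK
  have hadj' : ∀ u v : V, om (δ₀ *ᵥ u) v = om u (δ' *ᵥ v) := hadj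
  obtain ⟨a, b, hab⟩ := hsp δ' hδ'K
  have hsq' : δ' * δ' = (t * t + 4 * p) • (1 : Mat) := by
    apply RDELTA.mat_eq_of_right
    intro u v
    rw [← Matrix.mulVec_mulVec, ← hadj', ← hadj', Matrix.mulVec_mulVec, hsq, Matrix.smul_mulVec,
      Matrix.smul_mulVec, Matrix.one_mulVec, Matrix.one_mulVec, om_smul_left, om_smul_right]
  have hexp : δ' * δ' = (a * a + b * b * (t * t + 4 * p)) • (1 : Mat) + (2 * a * b) • δ₀ := by
    rw [hab, add_mul, mul_add, mul_add, smul_mul_smul_comm, smul_mul_smul_comm,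
      smul_mul_smul_comm, smul_mul_smul_comm, hsq]
    simp only [mul_one, one_mul]
    module
  have hrel : (a * a + b * b * (t * t + 4 * p) - (t * t + 4 * p)) • (1 : Mat) + (2 * a * b) • δ₀ = 0 := by
    rw [sub_smul, sub_add_eq_add_sub, ← hexp, hsq', sub_self]
  obtain ⟨e1, e2⟩ := RDELTA.indep hm hsq hns hrel
  have hd0 : t * t + 4 * p ≠ 0 := fun h => hns 0 (by rw [h]; ring)
  have ha : a = 0 := by
    rcases mul_eq_zero.mp e2 with h | h
    · exact (mul_eq_zero.mp h).resolve_left h2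
    · exfalso
      subst h
      exact hns a (by linear_combination e1)
  subst ha
  have hb : b = 1 ∨ b = -1 := by
    have h1 : (b * b - 1) * (t * t + 4 * p) = 0 := by linear_combination e1
    have h3 : (b - 1) * (b + 1) = 0 := by
      have := (mul_eq_zero.mp h1).resolve_right hd0
      linear_combination this
    rcases mul_eq_zero.mp h3 with h | h
    · left; exact sub_eq_zero.mp h
    · right; exact eq_neg_of_add_eq_zero_left h
  rcases hb with hb | hb
  · -- `δ' = δ₀`: every element of `K` is self-adjoint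
    exfalso
    apply hnsa
    intro k hk u v
    obtain ⟨x, y, rfl⟩ := hsp k hk
    show om _ _ = om _ _
    have hδ' : δ' = δ₀ := by rw [hab, hb, zero_smul, zero_add, one_smul]
    rw [Matrix.add_mulVec, Matrix.add_mulVec, Matrix.smul_mulVec, Matrix.smul_mulVec,
      Matrix.smul_mulVec, Matrix.smul_mulVec, Matrix.one_mulVec, Matrix.one_mulVec,
      om_add_left, om_add_right, om_smul_left, om_smul_left, om_smul_right, om_smul_right,
      hadj', hδ']
  · refine ⟨δ₀, t * t + 4 * p, ⟨hsq, hns, ?_⟩, hδK, hsp⟩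
    intro u v
    have hδ' : δ' = -δ₀ := by rw [hab, hb, zero_smul, zero_add, neg_smul, one_smul]
    rw [hadj', hδ', Matrix.neg_mulVec, om_neg_right]

end Cfsg.Agent.S5665P
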