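import Cfsg.Agent.Helper28.S5665ISO2
import Cfsg.Agent.Helper23.S5665MOVE

set_option autoImplicit false
set_option linter.unusedSectionVars false
set_option linter.unusedVariables false

/-! # S5665 piece TRANS1: `H` moves an isotropic `z ≠ 0` to any isotropic `y ∉ K z` (two unitary transvections) -/

namespace Cfsg.Agent.S5665P

open Matrix Module Cfsg.Agent.Helper2.Sp Cfsg.Agent.Helper28.Sg Cfsg.Agent.S5700P

variable {F : Type*} [Field F] [Fintype F] {m : ℕ}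
  {δ : Matrix (Fin m ⊕ Fin m) (Fin m ⊕ Fin m) F} {d : F}

local notation "V" => (Fin m ⊕ Fin m → F)
local notation "Mat" => Matrix (Fin m ⊕ Fin m) (Fin m ⊕ Fin m) F
local notation "Sp" => Matrix.symplecticGroup (Fin m) F

/-- TRANS1: `ISO2.exists_iso U h2 hm hz0 hzy 0 1 0 1` gives an isotropic `u` with `om (δ z) u = 0`, `om z u = 1`, `om (δ y) u = 0`,
`om y u = 1`.  `MOVE` `z → u`, then `MOVE` `u → y`; `InH.mul`. -/
theorem TRANS1.exists_h (U : SData δ d) (h2 : (2 : F) ≠ 0) (hm : 7 ≤ m) {z y : V} (hz0 : z ≠ 0)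
    (hz : Qs δ z = 0) (hy : Qs δ y = 0) (hzy : ¬ InK δ z y) : ∃ h : Sp, InH δ h ∧ h.1 *ᵥ z = y := by
  obtain ⟨u, hu, h1, h3, h4, h5⟩ := ISO2.exists_iso U h2 hm hz0 hzy 0 1 0 1
  obtain ⟨g1, hg1, hg1z⟩ := MOVE.exists_h U hz hu h1 (by rw [h3]; exact one_ne_zero)
  have h6 : om (δ *ᵥ u) y = 0 := by rw [U.symm u y]; exact h4
  have h7 : om u y ≠ 0 := by
    rw [om_swap y u, h5]
    exact neg_ne_zero.mpr one_ne_zero
  obtain ⟨g2, hg2, hg2u⟩ := MOVE.exists_h U hu hy h6 h7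
  refine ⟨g2 * g1, hg2.mul hg1, ?_⟩
  rw [mul_mulVec, hg1z, hg2u]

end Cfsg.Agent.S5665P
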