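import Mathlib
import Cfsg.Agent.Helper11.Basic
import Cfsg.Agent.Helper11.SylowInter

set_option autoImplicit false

/-!
Elements of prime order `p` in a finite group whose Sylow `p`-subgroups have order `p`:
counting, class sizes.
-/

namespace Cfsg.Agent.Helper11

/-- A non-identity element of a subgroup of prime order `p` has order `p`. -/
theorem orderOf_eq_prime_of_mem {G : Type*} [Group G] {p : ℕ} [Fact p.Prime] (H : Subgroup G)
    (hH : Nat.card ↥H = p) (g : G) (hg : g ∈ H) (hg1 : g ≠ 1) : orderOf g = p := by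
  have hp : p.Prime := Fact.out
  have h1 : orderOf g ∣ p := by
    rw [← hH]
    exact Subgroup.orderOf_dvd_natCard H hg
  rcases (Nat.dvd_prime hp).1 h1 with h | h
  · exact absurd (orderOf_eq_one_iff.1 h) hg1
  · exact h

/-- A subgroup of prime order is generated by any of its non-identity elements. -/
theorem eq_zpowers_of_card_prime {G : Type*} [Group G] {p : ℕ} [Fact p.Prime] (H : Subgroup G)
    (hH : Nat.card ↥H = p) (g : G) (hg : g ∈ H) (hg1 : g ≠ 1) : H = Subgroup.zpowers g := by
  have hp : p.Prime := Fact.out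
  have : Finite ↥H := Nat.finite_of_card_ne_zero (by rw [hH]; exact hp.ne_zero)
  have hle : Subgroup.zpowers g ≤ H := (Subgroup.zpowers_le).2 hg
  symm
  apply Subgroup.eq_of_le_of_card_ge hle
  rw [Nat.card_zpowers, orderOf_eq_prime_of_mem H hH g hg hg1, hH]

/-- Class equation for a single class: `|g^G| * |C_G(g)| = |G|`. -/
theorem card_isConj_mul_card_centralizer {G : Type*} [Group G] [Finite G] (g : G) :
    Nat.card {h : G // IsConj g h} * Nat.card ↥(Subgroup.centralizer ({g} : Set G)) = Nat.card G := by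
  have h1 : (MulAction.stabilizer (ConjAct G) g).index = (MulAction.orbit (ConjAct G) g).ncard :=
    MulAction.index_stabilizer (ConjAct G) g
  have h2 : (MulAction.stabilizer (ConjAct G) g).index * Nat.card ↥(MulAction.stabilizer (ConjAct G) g)
      = Nat.card (ConjAct G) := Subgroup.index_mul_card _
  have h3 : Nat.card (ConjAct G) = Nat.card G := Nat.card_congr ConjAct.ofConjAct.toEquiv
  have h4 : (MulAction.orbit (ConjAct G) g).ncard = Nat.card {h : G // IsConj g h} := by
    rw [← Nat.card_coe_set_eq]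
    refine Nat.card_congr (Equiv.subtypeEquivRight ?_)
    intro h
    rw [ConjAct.mem_orbit_conjAct, isConj_comm]
  have h5 : Nat.card ↥(MulAction.stabilizer (ConjAct G) g)
      = Nat.card ↥(Subgroup.centralizer ({g} : Set G)) := by
    refine Nat.card_congr (Equiv.subtypeEquiv ConjAct.ofConjAct.toEquiv ?_)
    intro x
    rw [MulAction.mem_stabilizer_iff, ConjAct.smul_def, Subgroup.mem_centralizer_iff]
    simp only [Set.mem_singleton_iff, forall_eq, MulEquiv.toEquiv_eq_coe, EquivLike.coe_coe]
    rw [mul_inv_eq_iff_eq_mul, eq_comm]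
  rw [← h4, ← h1, ← h5, h2, h3]

/-- If the Sylow `p`-subgroups have order `p`, then the number of elements of order `p` is
`n_p * (p - 1)`. -/
theorem card_orderOf_eq_prime {G : Type*} [Group G] [Finite G] {p : ℕ} [Fact p.Prime]
    (P : Sylow p G) (hP : Nat.card ↥(P : Subgroup G) = p) :
    Nat.card {g : G // orderOf g = p} = Nat.card (Sylow p G) * (p - 1) := by
  classical
  have hp : p.Prime := Fact.out
  have : Fintype G := Fintype.ofFinite G
  have : Fintype (Sylow p G) := Fintype.ofFinite _
  have hall : ∀ Q : Sylow p G, Nat.card ↥(Q : Subgroup G) = p :=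
    fun Q => (sylow_card_eq Q P).trans hP
  let s : Finset G := Finset.univ.filter (fun g => orderOf g = p)
  let t : Finset (Sylow p G) := Finset.univ
  have key := Finset.sum_card_bipartiteAbove_eq_sum_card_bipartiteBelow (s := s) (t := t)
    (fun (g : G) (Q : Sylow p G) => g ∈ (Q : Subgroup G))
  have hL : ∀ g ∈ s, (t.bipartiteAbove (fun (g : G) (Q : Sylow p G) => g ∈ (Q : Subgroup G)) g).card = 1 := by
    intro g hg
    have hgo : orderOf g = p := (Finset.mem_filter.1 hg).2
    have hg1 : g ≠ 1 := by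
      rintro rfl
      rw [orderOf_one] at hgo
      exact hp.one_lt.ne hgo
    have hpg : IsPGroup p ↥(Subgroup.zpowers g) := by
      apply IsPGroup.of_card (n := 1)
      rw [Nat.card_zpowers, hgo, pow_one]
    obtain ⟨Q, hQ⟩ := hpg.exists_le_sylow
    have hgQ : g ∈ (Q : Subgroup G) := hQ (Subgroup.mem_zpowers g)
    rw [Finset.card_eq_one]
    refine ⟨Q, ?_⟩
    ext Q'
    simp only [Finset.mem_bipartiteAbove, Finset.mem_singleton, t, Finset.mem_univ, true_and]
    constructor
    · intro hgQ'
      apply Sylow.ext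
      rw [eq_zpowers_of_card_prime _ (hall Q') g hgQ' hg1, eq_zpowers_of_card_prime _ (hall Q) g hgQ hg1]
    · rintro rfl
      exact hgQ
  have hR : ∀ Q ∈ t, (s.bipartiteBelow (fun (g : G) (Q : Sylow p G) => g ∈ (Q : Subgroup G)) Q).card = p - 1 := by
    intro Q _
    have h1 : s.bipartiteBelow (fun (g : G) (Q : Sylow p G) => g ∈ (Q : Subgroup G)) Q
        = (Finset.univ.filter (fun g => g ∈ (Q : Subgroup G))).erase 1 := by
      ext g
      simp only [Finset.mem_bipartiteBelow, Finset.mem_filter, Finset.mem_univ, true_and, s,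
        Finset.mem_erase]
      constructor
      · rintro ⟨hgo, hgQ⟩
        refine ⟨?_, hgQ⟩
        rintro rfl
        rw [orderOf_one] at hgo
        exact hp.one_lt.ne hgo
      · rintro ⟨hg1, hgQ⟩
        exact ⟨orderOf_eq_prime_of_mem _ (hall Q) g hgQ hg1, hgQ⟩
    rw [h1, Finset.card_erase_of_mem (by simp)]
    have h2 : (Finset.univ.filter (fun g => g ∈ (Q : Subgroup G))).card = Nat.card ↥(Q : Subgroup G) := by
      rw [Nat.card_eq_fintype_card, Fintype.card_subtype]
    rw [h2, hall Q]
  rw [Finset.sum_congr rfl hL, Finset.sum_congr rfl hR] at key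
  simp only [Finset.sum_const, smul_eq_mul, mul_one, t, Finset.card_univ] at key
  rw [Nat.card_eq_fintype_card, Fintype.card_subtype, Nat.card_eq_fintype_card]
  exact key

/-- An element `z` of prime order `p` with `C_G(z) = ⟨z⟩` generates a Sylow `p`-subgroup. -/
theorem exists_sylow_eq_zpowers_of_centralizer {G : Type*} [Group G] [Finite G] {p : ℕ}
    [Fact p.Prime] (z : G) (hz : orderOf z = p)
    (hC : Subgroup.centralizer ({z} : Set G) = Subgroup.zpowers z) :
    ∃ P : Sylow p G, (P : Subgroup G) = Subgroup.zpowers z := by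
  have hp : p.Prime := Fact.out
  have hcz : Nat.card ↥(Subgroup.zpowers z) = p := by rw [Nat.card_zpowers, hz]
  have hpg : IsPGroup p ↥(Subgroup.zpowers z) := by
    apply IsPGroup.of_card (n := 1)
    rw [hcz, pow_one]
  obtain ⟨S, hS⟩ := hpg.exists_le_sylow
  refine ⟨S, ?_⟩
  have hzS : z ∈ (S : Subgroup G) := hS (Subgroup.mem_zpowers z)
  have hz1 : z ≠ 1 := by
    rintro rfl
    rw [orderOf_one] at hz
    exact hp.one_lt.ne hz
  have : Nontrivial ↥(S : Subgroup G) := ⟨⟨⟨z, hzS⟩, 1, fun h => hz1 (by simpa using congrArg Subtype.val h)⟩⟩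
  have hcen := IsPGroup.center_nontrivial S.2
  obtain ⟨w, hw⟩ := exists_ne (1 : ↥(Subgroup.center ↥(S : Subgroup G)))
  have hw1 : (w.1.1 : G) ≠ 1 := by
    intro h
    apply hw
    apply Subtype.ext
    apply Subtype.ext
    simpa using h
  have hwcomm : ∀ s : ↥(S : Subgroup G), s * w.1 = w.1 * s := fun s =>
    (Subgroup.mem_center_iff.1 w.2 s)
  -- `w` lies in `C(z) = ⟨z⟩`
  have hwz : (w.1.1 : G) ∈ Subgroup.zpowers z := by
    rw [← hC, Subgroup.mem_centralizer_iff]
    intro h hh
    rw [Set.mem_singleton_iff] at hh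
    subst hh
    have := hwcomm ⟨h, hzS⟩
    exact congrArg Subtype.val this
  have hzw : Subgroup.zpowers z = Subgroup.zpowers (w.1.1 : G) :=
    eq_zpowers_of_card_prime _ hcz _ hwz hw1
  apply le_antisymm
  · intro s hs
    rw [← hC, Subgroup.mem_centralizer_iff]
    intro h hh
    rw [Set.mem_singleton_iff] at hh
    subst hh
    have hmem : h ∈ Subgroup.zpowers (w.1.1 : G) := by rw [← hzw]; exact Subgroup.mem_zpowers h
    obtain ⟨k, rfl⟩ := Subgroup.mem_zpowers_iff.1 hmem
    have hc : Commute (w.1.1 : G) s := by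
      have := hwcomm ⟨s, hs⟩
      exact (congrArg Subtype.val this).symm
    exact (hc.zpow_left k).eq
  · exact hS

/-- If `z` has prime order `p` and `C_G(z) = ⟨z⟩`, then every element `g` of order `p`
satisfies `C_G(g) = ⟨g⟩`. -/
theorem centralizer_eq_zpowers_of_orderOf {G : Type*} [Group G] [Finite G] {p : ℕ}
    [Fact p.Prime] (z : G) (hz : orderOf z = p)
    (hC : Subgroup.centralizer ({z} : Set G) = Subgroup.zpowers z) (g : G) (hg : orderOf g = p) :
    Subgroup.centralizer ({g} : Set G) = Subgroup.zpowers g := by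
  have hp : p.Prime := Fact.out
  obtain ⟨P, hPz⟩ := exists_sylow_eq_zpowers_of_centralizer z hz hC
  have hcz : Nat.card ↥(Subgroup.zpowers z) = p := by rw [Nat.card_zpowers, hz]
  have hg1 : g ≠ 1 := by
    rintro rfl
    rw [orderOf_one] at hg
    exact hp.one_lt.ne hg
  have hpg : IsPGroup p ↥(Subgroup.zpowers g) := by
    apply IsPGroup.of_card (n := 1)
    rw [Nat.card_zpowers, hg, pow_one]
  obtain ⟨x, hx⟩ := exists_conj_le_sylow p P (Subgroup.zpowers g) hpg
  have hg' : x * g * x⁻¹ ∈ Subgroup.zpowers z := by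
    rw [← hPz]; exact hx g (Subgroup.mem_zpowers g)
  have hg'1 : x * g * x⁻¹ ≠ 1 := by
    intro h
    apply hg1
    have : g = x⁻¹ * (x * g * x⁻¹) * x := by group
    rw [this, h]; group
  have hzz : Subgroup.zpowers z = Subgroup.zpowers (x * g * x⁻¹) :=
    eq_zpowers_of_card_prime _ hcz _ hg' hg'1
  apply le_antisymm
  · intro h hh
    rw [Subgroup.mem_centralizer_iff] at hh
    have hcomm : Commute g h := hh g rfl
    -- x h x⁻¹ commutes with x g x⁻¹, hence with z
    have hc1 : Commute (x * g * x⁻¹) (x * h * x⁻¹) := by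
      unfold Commute SemiconjBy
      have e1 : x * g * x⁻¹ * (x * h * x⁻¹) = x * (g * h) * x⁻¹ := by group
      have e2 : x * h * x⁻¹ * (x * g * x⁻¹) = x * (h * g) * x⁻¹ := by group
      rw [e1, e2, hcomm.eq]
    have hzmem : z ∈ Subgroup.zpowers (x * g * x⁻¹) := by rw [← hzz]; exact Subgroup.mem_zpowers z
    obtain ⟨k, hk⟩ := Subgroup.mem_zpowers_iff.1 hzmem
    have hc2 : Commute z (x * h * x⁻¹) := by
      rw [← hk]; exact hc1.zpow_left k
    have hmem : x * h * x⁻¹ ∈ Subgroup.zpowers z := by
      rw [← hC, Subgroup.mem_centralizer_iff]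
      intro y hy
      rw [Set.mem_singleton_iff] at hy
      subst hy
      exact hc2.eq
    rw [hzz] at hmem
    obtain ⟨j, hj⟩ := Subgroup.mem_zpowers_iff.1 hmem
    rw [Subgroup.mem_zpowers_iff]
    refine ⟨j, ?_⟩
    have e3 : (x * g * x⁻¹) ^ j = x * g ^ j * x⁻¹ := by
      rw [← MulAut.conj_apply, ← MulAut.conj_apply, map_zpow]
    rw [e3] at hj
    have : x * g ^ j = x * h := mul_right_cancel hj
    exact mul_left_cancel this
  · rw [Subgroup.zpowers_le, Subgroup.mem_centralizer_iff]
    intro y hy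
    rw [Set.mem_singleton_iff] at hy
    subst hy
    rfl

end Cfsg.Agent.Helper11
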