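import Mathlib
import Cfsg.Agent.Helper1.PGroup

/-!
# Piece (AB) of S5289: the Frattini index of an abelian `p`-group

For an abelian finite `p`-group, the index of the Frattini subgroup is at most the number of
solutions of `x ^ p = 1`.
-/

set_option autoImplicit false

namespace Cfsg.Agent.Helper11.R2AB

theorem frattini_index_le_of_abelian {G : Type*} [Group G] [Finite G] {p : ℕ} [Fact p.Prime]
    (hE : IsPGroup p G) (hab : ∀ a b : G, a * b = b * a) :
    (frattini G).index ≤ Nat.card {x : G // x ^ p = 1} := by
  classical
  let f : G →* G :=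
    { toFun := fun x => x ^ p
      map_one' := one_pow p
      map_mul' := fun a b => (Commute.mul_pow (hab a b) p) }
  have hrange : f.range ≤ frattini G := by
    rintro _ ⟨x, rfl⟩
    exact Cfsg.Agent.Helper1.IsPGroup.pow_mem_frattini hE x
  have hker : Nat.card f.ker = Nat.card {x : G // x ^ p = 1} := by
    apply Nat.card_congr
    exact Equiv.subtypeEquivRight (fun x => by rw [MonoidHom.mem_ker]; rfl)
  have h1 : (frattini G).index ∣ f.range.index := Subgroup.index_dvd_of_le hrange
  have h2 : f.range.index = Nat.card f.ker := by
    have h3 := Subgroup.index_ker f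
    have h4 := f.range.card_mul_index
    have h5 := f.ker.card_mul_index
    rw [h3] at h5
    have hpos : 0 < Nat.card f.range := Nat.card_pos
    apply Nat.eq_of_mul_eq_mul_left hpos
    rw [h4, ← h5, mul_comm]
  rw [← hker, ← h2]
  exact Nat.le_of_dvd (Nat.pos_of_ne_zero Subgroup.index_ne_zero_of_finite) h1

end Cfsg.Agent.Helper11.R2AB
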