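import Mathlib
import Cfsg.Agent.Helper10.S2092.DefsP
import Cfsg.Agent.Helper18.S2400CIRCB
import Cfsg.Agent.Helper2.Stb.RankOne

set_option autoImplicit false
set_option linter.unusedSectionVars false
set_option linter.unusedVariables false

/-! S2092 part P, piece B2R3 (driver helper10): over a finite field the torus elements of a group
with the relations of type `B₂` on the circle are multiplicative (Steinberg's Theorem 9, through
the group presented by (R1), (R2)). -/

namespace Cfsg.Agent.S2092P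

open scoped commutatorElement
open Matrix Cfsg.Agent.S3352P Cfsg.Agent.S2096P Cfsg.Agent.S2094P Cfsg.Agent.RGD

variable {n : ℕ} {F : Type*} [Field F] {M : Type*} [Group M]

namespace B2R3

open Cfsg.Lie Cfsg.Agent.Helper6 Cfsg.Agent.Helper2.Stb Cfsg.Agent.Helper2.StPerf

variable {D : ChevalleyDatum} {X' : ℕ → F → M}

/-- the assignment of the generators -/
def fX (D : ChevalleyDatum) (X' : ℕ → F → M) : Fin D.nroots × F → M := fun p => X' p.1 p.2

theorem lift_stX (hout : ∀ r, D.nroots ≤ r → ∀ t : F, X' r t = 1) (r : ℕ) (t : F) :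
    FreeGroup.lift (fX D X') (D.stX r t) = X' r t := by
  unfold ChevalleyDatum.stX
  by_cases h : r < D.nroots
  · rw [dif_pos h, FreeGroup.lift_apply_of]
    rfl
  · rw [dif_neg h, map_one, hout r (not_lt.1 h)]

theorem lift_stWord (hout : ∀ r, D.nroots ≤ r → ∀ t : F, X' r t = 1) (w : List (ℕ × F)) :
    FreeGroup.lift (fX D X') (D.stWord w) = wordX X' w := by
  unfold ChevalleyDatum.stWord wordX
  rw [map_list_prod, List.map_map]
  congr 1
  apply List.map_congr_left
  intro p _
  exact lift_stX hout p.1 p.2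

theorem lift_rels (hR : R12 D X') (hout : ∀ r, D.nroots ≤ r → ∀ t : F, X' r t = 1)
    {g : FreeGroup (Fin D.nroots × F)} (hg : g ∈ D.steinbergRelsAB F) :
    FreeGroup.lift (fX D X') g = 1 := by
  rcases hg with ⟨r, t₁, t₂, hr, rfl⟩ | ⟨r, s, t, u, hr, hs, h1, h2, rfl⟩
  · rw [map_mul, map_mul, map_inv, lift_stX hout, lift_stX hout, lift_stX hout, mul_inv_eq_one]
    exact hR.add r hr t₁ t₂
  · rw [map_mul, map_mul, map_mul, map_mul, map_inv, map_inv, map_inv, lift_stX hout,
      lift_stX hout, lift_stWord hout, mul_inv_eq_one]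
    exact hR.comm r hr s hs h1 h2 t u

/-- the homomorphism from the group presented by (R1), (R2) -/
noncomputable def phi (hR : R12 D X') (hout : ∀ r, D.nroots ≤ r → ∀ t : F, X' r t = 1) :
    D.SteinbergCover F →* M :=
  PresentedGroup.toGroup (f := fX D X') (fun g hg => lift_rels hR hout hg)

theorem phi_pX (hR : R12 D X') (hout : ∀ r, D.nroots ≤ r → ∀ t : F, X' r t = 1) (r : ℕ) (t : F) :
    phi hR hout (pX D (D.steinbergRelsAB F) r t) = X' r t := by
  have e : phi hR hout (pX D (D.steinbergRelsAB F) r t) =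
      FreeGroup.lift (fX D X') (D.stX r t) := rfl
  rw [e, lift_stX hout]

theorem phi_wordX (hR : R12 D X') (hout : ∀ r, D.nroots ≤ r → ∀ t : F, X' r t = 1)
    (w : List (ℕ × F)) :
    phi hR hout (wordX (pX D (D.steinbergRelsAB F)) w) = wordX X' w := by
  unfold wordX
  rw [map_list_prod, List.map_map]
  congr 1
  apply List.map_congr_left
  intro p _
  exact phi_pX hR hout p.1 p.2

theorem neg_kap : ∀ k : ZMod 8, chevB2.neg (Cfsg.Agent.S2400P.kap k) = Cfsg.Agent.S2400P.kap (k + 4) := by
  decide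

/-- (R3) for any family with (R1), (R2), over a finite field -/
theorem r3At_of_r12 [Finite F] (hD : IsTabulated D) (hR : R12 D X')
    (hout : ∀ r, D.nroots ≤ r → ∀ t : F, X' r t = 1) {r : ℕ} (hr : r < D.nroots) :
    R3At X' D r := by
  have hsub : D.steinbergRelsAB F ⊆ D.steinbergRelsAB F := subset_rfl
  have hθ : ∀ (r : ℕ) (t : F), r < D.nroots →
      ((thetaAB hD F (pX D (D.steinbergRelsAB F) r t) : GL D.Idx F) : Matrix D.Idx D.Idx F) =
        D.x F r t := fun r t hr => thetaAB_apply hD r t hr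
  have hR3 : R3At (pX D (D.steinbergRelsAB F)) D r :=
    r3At_of_finite (r12_pX hsub) hD ((D.group F).subtype.comp (thetaAB hD F))
      (hπ_of hD hsub _ hθ) gen_pX hr
  intro t u ht hu
  have h := congrArg (phi hR hout) (hR3 t u ht hu)
  rw [map_mul] at h
  unfold hH at h ⊢
  rw [phi_wordX, phi_wordX, phi_wordX] at h
  exact h

end B2R3

open B2R3 Cfsg.Lie Cfsg.Agent.Helper6 Cfsg.Agent.Helper2.Stb Cfsg.Agent.Helper2.StPerf
  Cfsg.Agent.S2400P Cfsg.Agent.S2400P.CIRCB

/-- B2R3: over a finite field with at least three elements the torus elements of a group with the relations of type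
`B₂` on the circle are multiplicative -/
theorem circ_torus_mul [Fintype F] (hF : 3 ≤ Fintype.card F) {X : ZMod 8 → F → M}
    (hX : Cfsg.Agent.S2400P.Circ (cE1 F) (cE2 F) (cE3 F) X) (k : ZMod 8) {t u : F} (ht : t ≠ 0)
    (hu : u ≠ 0) :
    (X k (t * u) * X (k + 4) (-(t * u)⁻¹) * X k (t * u)) * (X k (-1) * X (k + 4) 1 * X k (-1)) =
      ((X k t * X (k + 4) (-t⁻¹) * X k t) * (X k (-1) * X (k + 4) 1 * X k (-1))) *
        ((X k u * X (k + 4) (-u⁻¹) * X k u) * (X k (-1) * X (k + 4) 1 * X k (-1))) := by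
  have hR : R12 chevB2 (XofY X) := r12_of_circ hX
  have hD : IsTabulated chevB2 := by
    unfold IsTabulated
    simp
  have hout : ∀ r, chevB2.nroots ≤ r → ∀ t : F, XofY X r t = 1 := by
    intro r hr t
    have h8 : ¬ r < 8 := not_lt.2 hr
    unfold XofY
    rw [if_neg h8]
  have h3 := r3At_of_r12 hD hR hout (r := kap k) (kap_lt k) t u ht hu
  have hneg : chevB2.neg (kap k) = kap (k + 4) := neg_kap k
  have e1 : -((-1 : F))⁻¹ = 1 := by rw [inv_neg, inv_one, neg_neg]
  rw [hH_eq, hH_eq, hH_eq, nH_eq, nH_eq, nH_eq, nH_eq, hneg, XofY_kap, XofY_kap, e1] at h3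
  exact h3.symm

end Cfsg.Agent.S2092P
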