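import Mathlib
import Cfsg.Agent.Helper10.S2092.DefsP
import Cfsg.Agent.Helper22.S2094RBCOMB
import Cfsg.Agent.Helper23.S2092PBASIC
import Cfsg.Agent.Helper26.S2092DIAGP
import Cfsg.Agent.Helper26.S2092NSCONJ
import Cfsg.Agent.Helper27.S2092COMMPOS
import Cfsg.Agent.Helper7.S2092GENP

set_option autoImplicit false
set_option linter.unusedSectionVars false
set_option linter.unusedVariables false

/-! S2092 part P, piece RGDC (driver helper10): the root group datum `datumC Ys Yl` of type `C_n`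
satisfies the axioms `IsRGD` (assembly). -/

namespace Cfsg.Agent.S2092P

open scoped commutatorElement
open Matrix Cfsg.Agent.S3352P Cfsg.Agent.S2096P Cfsg.Agent.S2094P Cfsg.Agent.RGD

variable {n : ℕ} {F : Type*} [Field F] {M : Type*} [Group M] {Ys : J n → J n → F → M}
  {Yl : J n → F → M} {π : M →* Matrix (J n) (J n) F}

namespace RGDC

/-- an element acting through `σ` maps the root subgroups accordingly -/
theorem actsBy_mem_U (hY : CRel Ys Yl) {g : M} {σ : RB n → RB n} (hg : ActsBy Ys Yl g σ)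
    (r r' : RootB n) (hr' : r'.1 = σ r.1) {x : M} (hx : x ∈ (datumC Ys Yl).U r) :
    g * x * g⁻¹ ∈ (datumC Ys Yl).U r' := by
  obtain ⟨u, rfl⟩ := (mem_U_iff hY r).1 hx
  obtain ⟨η, -, hη⟩ := hg r.1 r.2
  rw [hη u, mem_U_iff hY r', hr']
  exact ⟨η * u, rfl⟩

end RGDC

open RGDC

theorem isRGD_datumC [Finite F] (hn : 2 ≤ n) (h : PHyp Ys Yl π)
    (hgen : Subgroup.closure (rootSet Ys Yl) = ⊤) : IsRGD (datumC Ys Yl) where
  neg_neg := fun r => Subtype.ext (RB.neg_neg' r.1)
  alt_alt := fun r => Subtype.ext (RB.alt_alt' r.1)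
  neg_alt := fun r => Subtype.ext (RB.neg_alt' r.1)
  U_alt := fun r => U_alt_c h.rel r
  pos_neg := fun r => RB.pos_neg' r.2
  pos_alt := fun r => RB.pos_alt' r.2
  simple_pos := fun s hs => RB.simple_pos' hs
  refl_self := fun s hs => Subtype.ext (RB.map_perm_self hs)
  refl_refl := fun s _ r => Subtype.ext (RB.map_map_perm s.1 r.1)
  refl_neg := fun s _ r => Subtype.ext (RB.map_neg s.1.perm_ngEquivariant r.1)
  refl_alt := fun s _ r => Subtype.ext (RB.map_alt s.1.perm_ngEquivariant r.1)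
  refl_pos := fun s hs r hp h1 h2 =>
    RB.pos_map_perm hs r.2 hp (fun e => h1 (Subtype.ext e)) (fun e => h2 (Subtype.ext e))
  T_conj := fun t ht r x hx => by
    obtain ⟨u, rfl⟩ := (mem_U_iff h.rel r).1 hx
    obtain ⟨c, hc⟩ := T_actsBy hn h ht
    obtain ⟨-, -, hcu⟩ := hc r.1 r.2
    rw [hcu u, mem_U_iff h.rel r]
    exact ⟨_, rfl⟩
  nS_conj := fun s hs m hm r x hx =>
    actsBy_mem_U h.rel (nS_actsBy hn h hs hm) r ((datumC Ys Yl).refl s r) rfl hx
  nS_inv := fun s _ m hm => nS_inv_c h.rel s hm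
  rank_one := fun s _ x hx hx1 => rank_one_c h.rel s hx hx1
  comm := fun s hs z hz r hr h1 h2 x hx => comm_mem_UhE_pos h.rel hs hz hr h1 h2 hx
  gen := closure_simple_eq_top_c hn h hgen

end Cfsg.Agent.S2092P
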