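import Mathlib
import Cfsg.Agent.Helper10.S2092.DefsP
import Cfsg.Agent.Helper23.S2092PBASIC
import Cfsg.Agent.Helper26.S2092DIAGP
import Cfsg.Agent.Helper7.S2092CONJW

set_option autoImplicit false
set_option linter.unusedSectionVars false
set_option linter.unusedVariables false

/-! S2092 part P, pieces TNORM and RGDNC (driver helper10): the Weyl elements of the simple roots
normalize the torus; the extra axioms `IsRGDN` of the deletion argument for `datumC`. -/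

namespace Cfsg.Agent.S2092P

open scoped commutatorElement
open Matrix Cfsg.Agent.S3352P Cfsg.Agent.S2096P Cfsg.Agent.S2094P Cfsg.Agent.RGD

variable {n : ℕ} {F : Type*} [Field F] {M : Type*} [Group M] {Ys : J n → J n → F → M}
  {Yl : J n → F → M} {π : M →* Matrix (J n) (J n) F}

namespace TNORM

/-- conjugating a Weyl element of `s` by a torus element gives a Weyl element of `s` -/
theorem T_conj_nS [Finite F] (hn : 2 ≤ n) (h : PHyp Ys Yl π) (s : RootB n) {m : M}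
    (hm : m ∈ (datumC Ys Yl).nS s) {t : M} (ht : t ∈ (datumC Ys Yl).T) :
    t * m * t⁻¹ ∈ (datumC Ys Yl).nS s := by
  obtain ⟨τ, hτ, rfl⟩ := (mem_nS_iff h.rel s).1 hm
  obtain ⟨c, hc⟩ := T_actsBy hn h ht
  obtain ⟨hc0, hcn, hcs⟩ := hc s.1 s.2
  obtain ⟨-, -, hcs'⟩ := hc s.1.neg (RB.valid_neg s.2)
  rw [(mem_nS_iff h.rel s)]
  refine ⟨c s.1 * τ, mul_ne_zero hc0 hτ, ?_⟩
  have e : t * (xr Ys Yl s.1 τ * xr Ys Yl s.1.neg (-τ⁻¹) * xr Ys Yl s.1 τ) * t⁻¹ =
      (t * xr Ys Yl s.1 τ * t⁻¹) * (t * xr Ys Yl s.1.neg (-τ⁻¹) * t⁻¹) *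
        (t * xr Ys Yl s.1 τ * t⁻¹) := by group
  rw [e, hcs, hcs', hcn]
  congr 2
  rw [_root_.mul_inv_rev, mul_neg, mul_comm]

end TNORM

open TNORM

theorem nS_conj_T_c [Finite F] (hn : 2 ≤ n) (h : PHyp Ys Yl π) {s : RootB n} (hs : s.1.Simple) {m : M}
    (hm : m ∈ (datumC Ys Yl).nS s) {t : M} (ht : t ∈ (datumC Ys Yl).T) :
    m * t * m⁻¹ ∈ (datumC Ys Yl).T := by
  have e : m * t * m⁻¹ = (m * (t * m * t⁻¹)⁻¹) * t := by group
  rw [e]
  exact Subgroup.mul_mem _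
    (nS_mul_c h.rel hs hm (nS_inv_c h.rel s (T_conj_nS hn h s hm ht))) ht

theorem isRGDN_datumC [Finite F] (hn : 2 ≤ n) (h : PHyp Ys Yl π) : IsRGDN (datumC Ys Yl) where
  nS_conj_T := fun s hs m hm t ht => nS_conj_T_c hn h hs hm ht
  nS_mul := fun s hs m hm m' hm' => nS_mul_c h.rel hs hm hm'
  nS_conj_nS := fun v _ s s' _ _ hU hU' m hm => conj_nS_mem h hU hU' hm

end Cfsg.Agent.S2092P
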