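import Mathlib

/-! Generic tools for computing Schur multipliers by hand: transfer into a subgroup, commutator
calculus in central extensions, a vanishing lemma for invariant biadditive maps on a field, and a
norm map on an abelian subgroup. -/

set_option autoImplicit false

namespace Cfsg.Agent.Helper11.SzMult

open scoped commutatorElement

/-- transfer: a central element of `Γ'` lying in `H` has its `|Γ:H|`-th power in `H'` -/
theorem pow_index_mem_commutator {Γ : Type*} [Group Γ] [Finite Γ] (H : Subgroup Γ)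
    (a : Γ) (ha : a ∈ Subgroup.center Γ) (hac : a ∈ commutator Γ) (haH : a ∈ H) :
    (⟨a, haH⟩ : H) ^ H.index ∈ commutator H := by
  have key : ∀ (k : ℕ) (g₀ : Γ), g₀⁻¹ * a ^ k * g₀ ∈ H → g₀⁻¹ * a ^ k * g₀ = a ^ k := by
    intro k g₀ _
    have := Subgroup.mem_center_iff.1 (Subgroup.pow_mem _ ha k) g₀
    rw [mul_assoc, ← this, inv_mul_cancel_left]
  have h1 := MonoidHom.transfer_eq_pow (Abelianization.of : H →* Abelianization H) a key
  have h2 : MonoidHom.transfer (Abelianization.of : H →* Abelianization H) a = 1 :=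
    Abelianization.commutator_subset_ker _ hac
  rw [h2] at h1
  have h3 : (⟨a, haH⟩ : H) ^ H.index = ⟨a ^ H.index, MonoidHom.transfer_eq_pow_aux a key⟩ :=
    Subtype.ext (by simp)
  rw [h3, ← Abelianization.ker_of, MonoidHom.mem_ker]
  exact h1.symm

section comm

variable {Γ : Type*} [Group Γ]

theorem comm_mul_left (x₂ x₁ y : Γ) (h : Commute x₂ ⁅x₁, y⁆) :
    ⁅x₂ * x₁, y⁆ = ⁅x₁, y⁆ * ⁅x₂, y⁆ := by
  have e : ⁅x₂ * x₁, y⁆ = x₂ * ⁅x₁, y⁆ * x₂⁻¹ * ⁅x₂, y⁆ := by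
    simp only [commutatorElement_def]; group
  rw [e, h.eq, mul_inv_cancel_right]

theorem comm_mul_right (x y₁ y₂ : Γ) (h : Commute y₁ ⁅x, y₂⁆) :
    ⁅x, y₁ * y₂⁆ = ⁅x, y₁⁆ * ⁅x, y₂⁆ := by
  have e : ⁅x, y₁ * y₂⁆ = ⁅x, y₁⁆ * (y₁ * ⁅x, y₂⁆ * y₁⁻¹) := by
    simp only [commutatorElement_def]; group
  rw [e, h.eq, mul_inv_cancel_right]

theorem comm_mul_left_of_commute (x z y : Γ) (h : Commute z y) : ⁅x * z, y⁆ = ⁅x, y⁆ := by
  have e : ⁅x * z, y⁆ = x * ⁅z, y⁆ * x⁻¹ * ⁅x, y⁆ := by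
    simp only [commutatorElement_def]; group
  rw [e, commutatorElement_eq_one_iff_commute.mpr h]; group

theorem comm_mul_right_of_commute (x y w : Γ) (h : Commute x w) : ⁅x, y * w⁆ = ⁅x, y⁆ := by
  have e : ⁅x, y * w⁆ = ⁅x, y⁆ * (y * ⁅x, w⁆ * y⁻¹) := by
    simp only [commutatorElement_def]; group
  rw [e, commutatorElement_eq_one_iff_commute.mpr h]; group

variable {G : Type*} [Group G] (σ : Γ →* G) (hK : σ.ker ≤ Subgroup.center Γ)

include hK

theorem exists_central_of_map_eq {x x' : Γ} (h : σ x = σ x') :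
    ∃ z ∈ Subgroup.center Γ, x = x' * z := by
  refine ⟨x'⁻¹ * x, hK ?_, by group⟩
  rw [MonoidHom.mem_ker, map_mul, map_inv, h, inv_mul_cancel]

theorem comm_congr {x x' y y' : Γ} (hx : σ x = σ x') (hy : σ y = σ y') : ⁅x, y⁆ = ⁅x', y'⁆ := by
  obtain ⟨z, hz, rfl⟩ := exists_central_of_map_eq σ hK hx
  obtain ⟨w, hw, rfl⟩ := exists_central_of_map_eq σ hK hy
  rw [Subgroup.mem_center_iff] at hz hw
  rw [comm_mul_left_of_commute _ _ _ (hz _).symm, comm_mul_right_of_commute _ _ _ (hw _)]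

theorem conj_congr {g g' : Γ} (hg : σ g = σ g') (x : Γ) : g * x * g⁻¹ = g' * x * g'⁻¹ := by
  obtain ⟨z, hz, rfl⟩ := exists_central_of_map_eq σ hK hg
  rw [Subgroup.mem_center_iff] at hz
  rw [mul_inv_rev, mul_assoc g' z x, ← hz x]
  group

theorem commute_of_map_commute {x y : Γ} (h : σ x * σ y = σ y * σ x) :
    ⁅x, y⁆ ∈ Subgroup.center Γ := by
  apply hK
  rw [MonoidHom.mem_ker, commutatorElement_def, map_mul, map_mul, map_mul, map_inv, map_inv, h]
  group

end comm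

/-- vanishing of an invariant biadditive map on a field -/
theorem bilin_vanish {F : Type*} [Field F] {Γ : Type*} [Group Γ] (c : F → F → Γ) (ψ : F → F)
    (hl : ∀ x x' y, c (x + x') y = c x y * c x' y)
    (hr : ∀ x y y', c x (y + y') = c x y * c x y')
    (hinv : ∀ α x y, α ≠ 0 → c (α * x) (ψ α * y) = c x y)
    (u : F) (hu : u ≠ 0) (hu1 : 1 + u ≠ 0) (hψu : ψ u ≠ 0) (hψu1 : ψ (1 + u) ≠ 0)
    (hne : (ψ (1 + u))⁻¹ ≠ 1 + (ψ u)⁻¹) (x y : F) : c x y = 1 := by
  have h0 : ∀ x, c x 0 = 1 := by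
    intro x
    have := hr x 0 0
    rw [add_zero] at this
    exact (mul_eq_left.mp this.symm)
  have hneg : ∀ x y, c x (-y) = (c x y)⁻¹ := by
    intro x y
    have := hr x y (-y)
    rw [add_neg_cancel, h0] at this
    exact eq_inv_of_mul_eq_one_right this.symm
  have hsub : ∀ x y y', c x (y - y') = c x y * (c x y')⁻¹ := by
    intro x y y'
    rw [sub_eq_add_neg, hr, hneg]
  have hadj : ∀ α, α ≠ 0 → ψ α ≠ 0 → ∀ x y, c (α * x) y = c x ((ψ α)⁻¹ * y) := by
    intro α hα hψ x y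
    have := hinv α x ((ψ α)⁻¹ * y) hα
    rwa [mul_inv_cancel_left₀ hψ] at this
  have key : ∀ x y, c x ((ψ (1 + u))⁻¹ * y) = c x ((1 + (ψ u)⁻¹) * y) := by
    intro x y
    rw [← hadj (1 + u) hu1 hψu1, add_mul, one_mul, hl, hadj u hu hψu, add_mul, one_mul, hr]
  set r := (ψ (1 + u))⁻¹ - (1 + (ψ u)⁻¹) with hr'
  have hr0 : r ≠ 0 := sub_ne_zero.mpr hne
  have h1 : ∀ x y, c x (r * y) = 1 := by
    intro x y
    rw [hr', sub_mul, hsub, key, mul_inv_cancel]
  have := h1 x (r⁻¹ * y)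
  rwa [mul_inv_cancel_left₀ hr0] at this

/-- a nonzero polynomial of small degree has a non-root different from `0` and `-1` -/
theorem exists_nonroot {F : Type*} [Field F] [Fintype F] (P : Polynomial F) (hP : P ≠ 0)
    (hdeg : P.natDegree + 2 < Fintype.card F) :
    ∃ u : F, u ≠ 0 ∧ 1 + u ≠ 0 ∧ P.eval u ≠ 0 := by
  classical
  by_contra hcon
  push Not at hcon
  set s : Finset F := (Finset.univ.erase (0 : F)).erase (-1) with hs
  have hcard : Fintype.card F - 2 ≤ s.card := by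
    have h1 : (Finset.univ.erase (0 : F)).card = Fintype.card F - 1 := by
      rw [Finset.card_erase_of_mem (Finset.mem_univ _), Finset.card_univ]
    have h2 := Finset.pred_card_le_card_erase (s := Finset.univ.erase (0 : F)) (a := (-1 : F))
    rw [h1] at h2
    omega
  apply hP
  apply Polynomial.eq_zero_of_natDegree_lt_card_of_eval_eq_zero' P s
  · intro i hi
    rw [hs, Finset.mem_erase, Finset.mem_erase] at hi
    apply hcon i hi.2.1
    intro h
    apply hi.1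
    linear_combination h
  · omega

/-- the norm map of a finite family of elements normalising an abelian subgroup -/
theorem exists_norm {Γ : Type*} [Group Γ] (Z : Subgroup Γ) (hZ : ∀ x ∈ Z, ∀ y ∈ Z, x * y = y * x)
    {ι : Type*} [Fintype ι] (d : ι → Γ) (hd : ∀ i, ∀ z ∈ Z, d i * z * (d i)⁻¹ ∈ Z) :
    ∃ N : Γ → Γ, N 1 = 1 ∧ (∀ z ∈ Z, ∀ w ∈ Z, N (z * w) = N z * N w) ∧
      (∀ z ∈ Z, (∀ i, d i * z * (d i)⁻¹ = z) → N z = z ^ Fintype.card ι) ∧
      (∀ (π : ι ≃ ι) (g : Γ), (∀ z ∈ Z, g * z * g⁻¹ ∈ Z) →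
        (∀ i, ∀ z ∈ Z, d (π i) * z * (d (π i))⁻¹ = d i * (g * z * g⁻¹) * (d i)⁻¹) →
        ∀ z ∈ Z, N (g * z * g⁻¹) = N z) := by
  classical
  let _ : CommGroup ↥Z := { (inferInstance : Group ↥Z) with
    mul_comm := fun a b => Subtype.ext (hZ a a.2 b b.2) }
  let φ : ι → (↥Z →* ↥Z) := fun i =>
    { toFun := fun z => ⟨d i * z * (d i)⁻¹, hd i z z.2⟩
      map_one' := by ext; simp
      map_mul' := fun a b => by ext; simp }
  let Nh : ↥Z →* ↥Z := ∏ i, φ i
  have hNh : ∀ z : ↥Z, Nh z = ∏ i, φ i z := fun z => MonoidHom.finsetProd_apply _ _ _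
  refine ⟨fun z => if h : z ∈ Z then (Nh ⟨z, h⟩ : Γ) else 1, ?_, ?_, ?_, ?_⟩
  · simp only [Z.one_mem, dif_pos]
    have : (⟨1, Z.one_mem⟩ : ↥Z) = 1 := rfl
    rw [this, map_one]; rfl
  · intro z hz w hw
    simp only [hz, hw, Z.mul_mem hz hw, dif_pos]
    have : (⟨z * w, Z.mul_mem hz hw⟩ : ↥Z) = ⟨z, hz⟩ * ⟨w, hw⟩ := rfl
    rw [this, map_mul]; rfl
  · intro z hz hfix
    simp only [hz, dif_pos]
    rw [hNh]
    have : ∀ i, φ i ⟨z, hz⟩ = ⟨z, hz⟩ := by
      intro i; apply Subtype.ext; exact hfix i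
    simp only [this, Finset.prod_const, Finset.card_univ]
    rfl
  · intro π g hg hπ z hz
    simp only [hz, hg z hz, dif_pos]
    congr 1
    rw [hNh, hNh]
    rw [← Equiv.prod_comp π (fun i => φ i ⟨z, hz⟩)]
    apply Finset.prod_congr rfl
    intro i _
    apply Subtype.ext
    exact (hπ i z hz).symm

end Cfsg.Agent.Helper11.SzMult
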