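import Mathlib
import Cfsg.Prelude.Def_KGroupFacts
import Cfsg.Agent.Helper11.SzMultA

/-! Central extensions of perfect groups: the commutator subgroup of a central extension of a
perfect group is a stem extension; lifting homomorphisms out of a perfect group with trivial
multiplier. -/

set_option autoImplicit false

namespace Cfsg.Agent.Helper11.Cover

open scoped commutatorElement
open Cfsg.Agent.Helper11.SzMult

universe u v w

section CE

variable {P : Type u} {G : Type v} [Group P] [Group G] (p : P →* G)
  (hp : Function.Surjective p) (hker : p.ker ≤ Subgroup.center P)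
  (hG : commutator G = ⊤)

/-- the restriction of `p` to the commutator subgroup -/
def rho : ↥(commutator P) →* G := p.comp (commutator P).subtype

include hp hG in
theorem rho_surjective : Function.Surjective (rho p) := by
  intro g
  have h1 : (commutator P).map p = ⊤ := by
    rw [commutator_def, Subgroup.map_commutator, Subgroup.map_top_of_surjective _ hp,
      ← commutator_def, hG]
  have : g ∈ (commutator P).map p := by rw [h1]; trivial
  obtain ⟨x, hx, rfl⟩ := this
  exact ⟨⟨x, hx⟩, rfl⟩

include hker in
theorem rho_ker_le_center : (rho p).ker ≤ Subgroup.center ↥(commutator P) := by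
  intro x hx
  rw [MonoidHom.mem_ker] at hx
  have hc := hker (MonoidHom.mem_ker.mpr (show p (x : P) = 1 from hx))
  rw [Subgroup.mem_center_iff] at hc ⊢
  intro g
  exact Subtype.ext (hc g)

include hp hker hG in
theorem commutator_perfect : commutator ↥(commutator P) = ⊤ := by
  rw [eq_top_iff]
  have h1 : commutator P ≤ (commutator ↥(commutator P)).map (commutator P).subtype := by
    rw [commutator_def (G := ↥(commutator P)), Subgroup.map_commutator,
      ← MonoidHom.range_eq_map, Subgroup.range_subtype]
    have hgen : commutatorSet P ⊆ (⁅commutator P, commutator P⁆ : Subgroup P) := by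
      rintro _ ⟨x, y, rfl⟩
      obtain ⟨x₁, hx₁⟩ := rho_surjective p hp hG (p x)
      obtain ⟨y₁, hy₁⟩ := rho_surjective p hp hG (p y)
      have e : ⁅x, y⁆ = ⁅(x₁ : P), (y₁ : P)⁆ := comm_congr p hker hx₁.symm hy₁.symm
      rw [SetLike.mem_coe, e]
      exact Subgroup.commutator_mem_commutator x₁.2 y₁.2
    calc commutator P = Subgroup.closure (commutatorSet P) := commutator_eq_closure P
      _ ≤ ⁅commutator P, commutator P⁆ := (Subgroup.closure_le _).mpr hgen
  intro x _
  obtain ⟨y, hy, hyx⟩ := h1 x.2
  have : y = x := Subtype.ext hyx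
  rw [← this]; exact hy

include hp hker hG in
theorem rho_isStem : Cfsg.IsStemExtension (rho p) := by
  refine ⟨rho_surjective p hp hG, rho_ker_le_center p hker, ?_⟩
  rw [commutator_perfect p hp hker hG]
  exact le_top

include hp hker in
theorem finite_commutator [Finite G] : Finite ↥(commutator P) := by
  classical
  have : Finite (commutatorSet P) := by
    let s := Function.surjInv hp
    have hs : ∀ g, p (s g) = g := Function.surjInv_eq hp
    apply Set.Finite.subset (Set.finite_range (fun g : G × G => ⁅s g.1, s g.2⁆))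
    rintro _ ⟨x, y, rfl⟩
    refine ⟨(p x, p y), ?_⟩
    exact (comm_congr p hker (hs _).symm (hs _).symm).symm
  infer_instance

end CE

section lift

variable {G : Type u} {Q : Type v} {X : Type w} [Group G] [Group Q] [Group X] [Finite G]
  (hG : commutator G = ⊤)
  (hM : ∀ (P : Type (max u w)) [Group P] [Finite P] (ρ : P →* G),
    Cfsg.IsStemExtension ρ → ρ.ker = ⊥)
  (π : G →* Q) (ξ : X →* Q) (hξ : Function.Surjective ξ) (hξk : ξ.ker ≤ Subgroup.center X)

/-- the pullback of `ξ` and `π` -/
def pullback : Subgroup (X × G) where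
  carrier := {z | ξ z.1 = π z.2}
  one_mem' := by simp
  mul_mem' := by
    intro a b ha hb
    simp only [Set.mem_ofPred_eq] at ha hb ⊢
    rw [Prod.fst_mul, Prod.snd_mul, map_mul, map_mul, ha, hb]
  inv_mem' := by
    intro a ha
    simp only [Set.mem_ofPred_eq] at ha ⊢
    rw [Prod.fst_inv, Prod.snd_inv, map_inv, map_inv, ha]

include hG hM hξ hξk in
/-- a perfect group with trivial multiplier maps into every central extension of its image -/
theorem exists_lift : ∃ η : G →* X, ξ.comp η = π := by
  classical
  let P := pullback π ξ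
  let p : ↥P →* G := (MonoidHom.snd X G).comp P.subtype
  have hp : Function.Surjective p := by
    intro g
    obtain ⟨x, hx⟩ := hξ (π g)
    exact ⟨⟨(x, g), hx⟩, rfl⟩
  have hpk : p.ker ≤ Subgroup.center ↥P := by
    intro z hz
    rw [MonoidHom.mem_ker] at hz
    have hz2 : (z : X × G).2 = 1 := hz
    have hz1 : (z : X × G).1 ∈ ξ.ker := by
      rw [MonoidHom.mem_ker]
      have := z.2
      change ξ (z : X × G).1 = π (z : X × G).2 at this
      rw [this, hz2, map_one]
    have hc := Subgroup.mem_center_iff.mp (hξk hz1)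
    rw [Subgroup.mem_center_iff]
    intro g
    apply Subtype.ext
    apply Prod.ext
    · exact hc (g : X × G).1
    · change (g : X × G).2 * (z : X × G).2 = (z : X × G).2 * (g : X × G).2
      rw [hz2, mul_one, one_mul]
  have hstem := rho_isStem p hp hpk hG
  have := finite_commutator p hp hpk
  have hker := hM ↥(commutator ↥P) (rho p) hstem
  have hinj : Function.Injective (rho p) := (MonoidHom.ker_eq_bot_iff _).mp hker
  let e : ↥(commutator ↥P) ≃* G := MulEquiv.ofBijective (rho p) ⟨hinj, hstem.1⟩
  let η : G →* X := (MonoidHom.fst X G).comp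
    (P.subtype.comp ((commutator ↥P).subtype.comp e.symm.toMonoidHom))
  refine ⟨η, ?_⟩
  ext g
  have h1 : ξ ((e.symm g : ↥P) : X × G).1 = π ((e.symm g : ↥P) : X × G).2 := (e.symm g : ↥P).2
  have h2 : ((e.symm g : ↥P) : X × G).2 = g := by
    have := e.apply_symm_apply g
    exact this
  change ξ ((e.symm g : ↥P) : X × G).1 = π g
  rw [h1, h2]

end lift

section kernels

variable {G : Type u} {Q : Type v} {Δ : Type w} [Group G] [Group Q] [Group Δ]
  (π : G →* Q) (hπ : Function.Surjective π) (τ : Δ →* Q) (hτ : Cfsg.IsStemExtension τ)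
  (η : G →* Δ) (hη : τ.comp η = π)

include hπ hτ hη in
theorem lift_surjective : Function.Surjective η := by
  have hval : ∀ g, τ (η g) = π g := fun g => by rw [← hη]; rfl
  have hdec : ∀ δ : Δ, ∃ g : G, ∃ k ∈ τ.ker, δ = η g * k := by
    intro δ
    obtain ⟨g, hg⟩ := hπ (τ δ)
    refine ⟨g, (η g)⁻¹ * δ, ?_, by group⟩
    rw [MonoidHom.mem_ker, map_mul, map_inv, hval, hg, inv_mul_cancel]
  have hcomm : commutator Δ ≤ η.range := by
    rw [commutator_eq_closure, Subgroup.closure_le]
    rintro _ ⟨x, y, rfl⟩
    obtain ⟨g, k, hk, rfl⟩ := hdec x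
    obtain ⟨g', k', hk', rfl⟩ := hdec y
    have hk := Subgroup.mem_center_iff.mp (hτ.2.1 hk)
    have hk' := Subgroup.mem_center_iff.mp (hτ.2.1 hk')
    rw [comm_mul_left_of_commute _ _ _ (hk _).symm, comm_mul_right_of_commute _ _ _ (hk' _),
      ← map_commutatorElement]
    exact ⟨_, rfl⟩
  intro δ
  obtain ⟨g, k, hk, rfl⟩ := hdec δ
  obtain ⟨g', hg'⟩ := hcomm (hτ.2.2 hk)
  exact ⟨g * g', by rw [map_mul, hg']⟩

include hπ hτ hη in
/-- the kernel of `π` maps onto the kernel of any stem extension through which `π` lifts -/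
theorem exists_ker_surjection : ∃ θ : π.ker →* τ.ker, Function.Surjective θ := by
  have hval : ∀ g, τ (η g) = π g := fun g => by rw [← hη]; rfl
  have hmem : ∀ g : π.ker, η (g : G) ∈ τ.ker := by
    intro g
    rw [MonoidHom.mem_ker, hval]
    exact MonoidHom.mem_ker.mp g.2
  refine ⟨(η.comp π.ker.subtype).codRestrict τ.ker hmem, ?_⟩
  rintro ⟨k, hk⟩
  obtain ⟨g, rfl⟩ := lift_surjective π hπ τ hτ η hη k
  have hg : g ∈ π.ker := by
    rw [MonoidHom.mem_ker, ← hval]
    exact MonoidHom.mem_ker.mp hk
  exact ⟨⟨g, hg⟩, rfl⟩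

end kernels

end Cfsg.Agent.Helper11.Cover
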