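import Mathlib
import Cfsg.Prelude.Def_KGroupFacts
import Cfsg.Agent.Helper11.CoverA
import Cfsg.Agent.Helper20.DihedralStem

/-! A perfect central extension is universal iff the group has trivial Schur multiplier. -/

set_option autoImplicit false
set_option linter.unusedSectionVars false

namespace Cfsg.Agent.Helper11.Cover

open scoped commutatorElement
open Cfsg.Agent.Helper11.SzMult

universe u v w

/-- a homomorphism from a perfect group into the centre of a group is trivial -/
theorem perfect_hom_center_trivial {G : Type u} {H : Type v} [Group G] [Group H]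
    (hG : commutator G = ⊤) (f : G → H) (hf : ∀ g, f g ∈ Subgroup.center H)
    (hmul : ∀ a b, f (a * b) = f a * f b) (g : G) : f g = 1 := by
  have h1 : f 1 = 1 := by
    have := hmul 1 1
    rw [mul_one] at this
    exact mul_eq_left.mp this.symm
  have hinv : ∀ a, f a⁻¹ = (f a)⁻¹ := by
    intro a
    have := hmul a a⁻¹
    rw [mul_inv_cancel, h1] at this
    exact eq_inv_of_mul_eq_one_right this.symm
  let S : Subgroup G :=
    { carrier := {g | f g = 1}
      one_mem' := h1
      mul_mem' := by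
        intro a b ha hb
        change f (a * b) = 1
        rw [hmul, ha, hb, one_mul]
      inv_mem' := by
        intro a ha
        change f a⁻¹ = 1
        rw [hinv, ha, inv_one] }
  have hle : commutator G ≤ S := by
    rw [commutator_eq_closure, Subgroup.closure_le]
    rintro _ ⟨a, b, rfl⟩
    change f ⁅a, b⁆ = 1
    rw [commutatorElement_def, hmul, hmul, hmul, hinv, hinv]
    have hc := Subgroup.mem_center_iff.mp (hf b) (f a)⁻¹
    rw [mul_assoc (f a), ← hc, ← mul_assoc, mul_inv_cancel, one_mul, mul_inv_cancel]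
  rw [hG] at hle
  exact hle (Subgroup.mem_top g)

/-- trivial multiplier, elementwise form -/
theorem ker_eq_bot_of_hasCyclicSchurMultiplier_one {G : Type u} [Group G]
    (h : Cfsg.HasCyclicSchurMultiplier G 1) (Γ : Type u) [Group Γ] [Finite Γ] (σ : Γ →* G)
    (hσ : Cfsg.IsStemExtension σ) : σ.ker = ⊥ := by
  obtain ⟨θ, hθ⟩ := h.2 Γ σ hσ
  rw [eq_bot_iff]
  intro x hx
  obtain ⟨y, hy⟩ := hθ ⟨x, hx⟩
  have : y = 1 := Subsingleton.elim (α := Multiplicative (ZMod 1)) _ _
  rw [this, map_one] at hy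
  rw [Subgroup.mem_bot]
  exact (congrArg Subtype.val hy).symm

section

variable {G : Type u} {Q : Type v} [Group G] [Group Q] [Finite G]
  (hG : commutator G = ⊤) (π : G →* Q) (hπ : Function.Surjective π)
  (hker : π.ker ≤ Subgroup.center G)

include hG hπ hker in
/-- a universal perfect central extension has trivial multiplier -/
theorem ker_eq_bot_of_universal
    (huniv : ∀ (X : Type u) [Group X] (ξ : X →* Q), Function.Surjective ξ →
      ξ.ker ≤ Subgroup.center X → ∃ η : G →* X, ξ.comp η = π)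
    (Γ : Type u) [Group Γ] [Finite Γ] (ρ : Γ →* G) (hρ : Cfsg.IsStemExtension ρ) :
    ρ.ker = ⊥ := by
  -- `Γ` is perfect
  have hΓ : commutator Γ = ⊤ := by
    rw [eq_top_iff]
    intro y _
    have h1 : (commutator Γ).map ρ = ⊤ := by
      rw [commutator_def, Subgroup.map_commutator, Subgroup.map_top_of_surjective _ hρ.1,
        ← commutator_def, hG]
    have : ρ y ∈ (commutator Γ).map ρ := by rw [h1]; trivial
    obtain ⟨y', hy', e⟩ := this
    have hk : y'⁻¹ * y ∈ ρ.ker := by
      rw [MonoidHom.mem_ker, map_mul, map_inv, e, inv_mul_cancel]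
    have : y = y' * (y'⁻¹ * y) := by group
    rw [this]
    exact Subgroup.mul_mem _ hy' (hρ.2.2 hk)
  -- the composite has central kernel
  have hξk : (π.comp ρ).ker ≤ Subgroup.center Γ := by
    intro x hx
    have hx' : ρ x ∈ Subgroup.center G := hker (MonoidHom.mem_ker.mp hx)
    have hxc := Subgroup.mem_center_iff.mp hx'
    have hf : ∀ y, ⁅x, y⁆ ∈ Subgroup.center Γ := by
      intro y
      apply hρ.2.1
      rw [MonoidHom.mem_ker, map_commutatorElement, commutatorElement_eq_one_iff_commute]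
      exact (hxc (ρ y)).symm
    have hmul : ∀ a b : Γ, ⁅x, a * b⁆ = ⁅x, a⁆ * ⁅x, b⁆ := by
      intro a b
      exact comm_mul_right _ _ _ (Subgroup.mem_center_iff.mp (hf b) a)
    have key := perfect_hom_center_trivial hΓ (fun y => ⁅x, y⁆) hf hmul
    rw [Subgroup.mem_center_iff]
    intro y
    exact ((commutatorElement_eq_one_iff_commute.mp (key y)).eq).symm
  obtain ⟨η, hη⟩ := huniv Γ (π.comp ρ) (hπ.comp hρ.1) hξk
  -- `ρ ∘ η = id`
  have hval : ∀ g, π (ρ (η g)) = π g := fun g => DFunLike.congr_fun hη g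
  have hid : ∀ g, ρ (η g) = g := by
    intro g
    have hf : ∀ g, ρ (η g) * g⁻¹ ∈ Subgroup.center G := by
      intro g
      apply hker
      rw [MonoidHom.mem_ker, map_mul, map_inv, hval, mul_inv_cancel]
    have hmul : ∀ a b, ρ (η (a * b)) * (a * b)⁻¹ = ρ (η a) * a⁻¹ * (ρ (η b) * b⁻¹) := by
      intro a b
      have hc := Subgroup.mem_center_iff.mp (hf b) a⁻¹
      rw [map_mul, map_mul, mul_inv_rev]
      calc ρ (η a) * ρ (η b) * (b⁻¹ * a⁻¹) = ρ (η a) * ((ρ (η b) * b⁻¹) * a⁻¹) := by group
        _ = ρ (η a) * (a⁻¹ * (ρ (η b) * b⁻¹)) := by rw [hc]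
        _ = ρ (η a) * a⁻¹ * (ρ (η b) * b⁻¹) := by group
    have key := perfect_hom_center_trivial hG (fun g => ρ (η g) * g⁻¹) hf hmul g
    exact mul_inv_eq_one.mp key
  -- commutators of `Γ` lie in the range of `η`
  have hdec : ∀ y : Γ, ∃ k ∈ Subgroup.center Γ, y = η (ρ y) * k := by
    intro y
    exact exists_central_of_map_eq ρ hρ.2.1 (hid (ρ y)).symm
  have hcomm : commutator Γ ≤ η.range := by
    rw [commutator_eq_closure, Subgroup.closure_le]
    rintro _ ⟨x, y, rfl⟩
    obtain ⟨k, hk, ex⟩ := hdec x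
    obtain ⟨k', hk', ey⟩ := hdec y
    rw [Subgroup.mem_center_iff] at hk hk'
    rw [ex, ey, comm_mul_left_of_commute _ _ _ (hk _).symm,
      comm_mul_right_of_commute _ _ _ (hk' _), ← map_commutatorElement]
    exact ⟨_, rfl⟩
  rw [eq_bot_iff]
  intro k hk
  obtain ⟨g, rfl⟩ := hcomm (hρ.2.2 hk)
  rw [MonoidHom.mem_ker, hid] at hk
  rw [Subgroup.mem_bot, hk, map_one]

include hG hπ hker in
theorem universal_iff :
    (∀ (X : Type u) [Group X] (ξ : X →* Q), Function.Surjective ξ →
      ξ.ker ≤ Subgroup.center X → ∃ η : G →* X, ξ.comp η = π) ↔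
    Cfsg.HasCyclicSchurMultiplier G 1 := by
  constructor
  · intro huniv
    apply Cfsg.Agent.Helper20.hasCyclicSchurMultiplier_one_of_forall_ker
    intro Γ _ _ ρ hρ
    exact ker_eq_bot_of_universal hG π hπ hker huniv Γ ρ hρ
  · intro h X _ ξ hξ hξk
    exact exists_lift.{u, v, u} hG
      (fun P _ _ ρ hρ => ker_eq_bot_of_hasCyclicSchurMultiplier_one h P ρ hρ) π ξ hξ hξk

end

end Cfsg.Agent.Helper11.Cover
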