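import Mathlib
import Cfsg.Agent.Helper11.SzMultA

/-! More generic tools for Schur multipliers: cyclic Sylow subgroups, a vanishing lemma for
biadditive maps invariant under a subgroup of scalars, central extensions of quaternion groups. -/

set_option autoImplicit false

namespace Cfsg.Agent.Helper11.SzMult

open scoped commutatorElement

/-- if a Sylow `r`-subgroup of `G` is cyclic, the kernel of a stem extension of `G` has no
element of order `r` -/
theorem cyclic_sylow_part {Γ G : Type*} [Group Γ] [Group G] [Finite Γ] (σ : Γ →* G)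
    (hσ : Function.Surjective σ) (hK : σ.ker ≤ Subgroup.center Γ)
    (r : ℕ) [hr : Fact r.Prime] (R : Sylow r G) [(R : Subgroup G).FiniteIndex]
    (hcyc : IsCyclic ↥(R : Subgroup G)) (a : Γ) (ha : a ∈ σ.ker)
    (hac : a ∈ commutator Γ) (har : a ^ r = 1) : a = 1 := by
  classical
  set H : Subgroup Γ := (R : Subgroup G).comap σ with hH
  have haH : a ∈ H := by
    rw [hH, Subgroup.mem_comap, MonoidHom.mem_ker.mp ha]
    exact Subgroup.one_mem _
  have htr := pow_index_mem_commutator H a (hK ha) hac haH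
  let f : ↥H →* ↥(R : Subgroup G) :=
    (σ.comp H.subtype).codRestrict (R : Subgroup G) (fun x => x.2)
  have hker : f.ker ≤ Subgroup.center ↥H := by
    intro x hx
    rw [MonoidHom.mem_ker] at hx
    have hx' : σ (x : Γ) = 1 := congrArg Subtype.val hx
    have hc := hK (MonoidHom.mem_ker.mpr hx')
    rw [Subgroup.mem_center_iff] at hc ⊢
    intro g
    exact Subtype.ext (hc g)
  have hcomm := MonoidHom.isMulCommutative_of_isCyclic_of_ker_le_center f hker
  have hbot : commutator ↥H ≤ ⊥ := by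
    rw [commutator_eq_closure, Subgroup.closure_le]
    rintro _ ⟨x, y, rfl⟩
    rw [SetLike.mem_coe, Subgroup.mem_bot, commutatorElement_eq_one_iff_commute]
    exact mul_comm' x y
  have h1 := hbot htr
  rw [Subgroup.mem_bot] at h1
  have h2 : a ^ H.index = 1 := by
    have := congrArg Subtype.val h1
    simpa using this
  by_contra hne
  have ho : orderOf a = r := by
    have hd : orderOf a ∣ r := orderOf_dvd_of_pow_eq_one har
    rcases (Nat.dvd_prime hr.out).mp hd with h | h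
    · exact absurd (orderOf_eq_one_iff.mp h) hne
    · exact h
  have hd : r ∣ H.index := by
    rw [← ho]; exact orderOf_dvd_of_pow_eq_one h2
  rw [hH, Subgroup.index_comap_of_surjective _ hσ] at hd
  exact Sylow.not_dvd_index R hd

/-- vanishing of a biadditive map invariant under three scalars `α`, `β`, `α + β` -/
theorem bilin_vanish2 {F : Type*} [Field F] {Γ : Type*} [Group Γ] (c : F → F → Γ)
    (hl : ∀ x x' y, c (x + x') y = c x y * c x' y)
    (hr : ∀ x y y', c x (y + y') = c x y * c x y')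
    (α β : F) (hα0 : α ≠ 0) (hβ0 : β ≠ 0) (hαβ0 : α + β ≠ 0)
    (hα : ∀ x y, c (α * x) (α * y) = c x y) (hβ : ∀ x y, c (β * x) (β * y) = c x y)
    (hαβ : ∀ x y, c ((α + β) * x) ((α + β) * y) = c x y)
    (hne : α ^ 2 + α * β + β ^ 2 ≠ 0) (x y : F) : c x y = 1 := by
  have h0 : ∀ x, c x 0 = 1 := by
    intro x
    have := hr x 0 0
    rw [add_zero] at this
    exact (mul_eq_left.mp this.symm)
  have hneg : ∀ x y, c x (-y) = (c x y)⁻¹ := by
    intro x y
    have := hr x y (-y)
    rw [add_neg_cancel, h0] at this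
    exact eq_inv_of_mul_eq_one_right this.symm
  have hsub : ∀ x y y', c x (y - y') = c x y * (c x y')⁻¹ := by
    intro x y y'
    rw [sub_eq_add_neg, hr, hneg]
  have hadj : ∀ γ, γ ≠ 0 → (∀ x y, c (γ * x) (γ * y) = c x y) →
      ∀ x y, c (γ * x) y = c x (γ⁻¹ * y) := by
    intro γ hγ h x y
    have := h x (γ⁻¹ * y)
    rwa [mul_inv_cancel_left₀ hγ] at this
  have key : ∀ x y, c x ((α + β)⁻¹ * y) = c x ((α⁻¹ + β⁻¹) * y) := by
    intro x y
    rw [← hadj (α + β) hαβ0 hαβ, add_mul, hl, hadj α hα0 hα, hadj β hβ0 hβ, add_mul, hr]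
  set r := (α + β)⁻¹ - (α⁻¹ + β⁻¹) with hr'
  have hr0 : r ≠ 0 := by
    intro h
    apply hne
    have h1 : (α + β)⁻¹ = α⁻¹ + β⁻¹ := sub_eq_zero.mp h
    have h2 : α * β = (α + β) * (α + β) := by
      calc α * β = (α + β)⁻¹ * ((α + β) * (α * β)) := (inv_mul_cancel_left₀ hαβ0 _).symm
        _ = (α⁻¹ + β⁻¹) * ((α + β) * (α * β)) := by rw [h1]
        _ = (α + β) * (α + β) := by field_simp; ring
    linear_combination -h2
  have h1 : ∀ x y, c x (r * y) = 1 := by
    intro x y
    rw [hr', sub_mul, hsub, key, mul_inv_cancel]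
  have := h1 x (r⁻¹ * y)
  rwa [mul_inv_cancel_left₀ hr0] at this

open QuaternionGroup

theorem quat_inv_a {n : ℕ} (i : ZMod (2 * n)) : (a i : QuaternionGroup n)⁻¹ = a (-i) := by
  apply inv_eq_of_mul_eq_one_right
  rw [a_mul_a, add_neg_cancel, a_zero]

theorem quat_inv_xa {n : ℕ} (i : ZMod (2 * n)) :
    (xa i : QuaternionGroup n)⁻¹ = xa ((n : ZMod (2 * n)) + i) := by
  apply inv_eq_of_mul_eq_one_right
  rw [xa_mul_xa, ← a_zero]
  congr 1
  have : ((n : ZMod (2 * n)) + n) = 0 := by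
    rw [← Nat.cast_add, ← two_mul]; exact ZMod.natCast_self _
  linear_combination this

theorem quat_a_pow {n : ℕ} (i : ZMod (2 * n)) (k : ℕ) :
    (a i : QuaternionGroup n) ^ k = a ((k : ZMod (2 * n)) * i) := by
  induction k with
  | zero => simp [a_zero]
  | succ k ih => rw [pow_succ, ih, a_mul_a]; congr 1; push_cast; ring

/-- a central extension of a (generalised) quaternion group: the commutator subgroup meets the
kernel trivially -/
theorem quat_comm_inf_ker {H : Type*} [Group H] {n : ℕ} [NeZero n] (φ : H →* QuaternionGroup n)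
    (hφ : Function.Surjective φ) (hker : φ.ker ≤ Subgroup.center H) (z : H)
    (hz : z ∈ commutator H) (hz1 : φ z = 1) : z = 1 := by
  obtain ⟨X, hX⟩ := hφ (a 1)
  obtain ⟨Y, hY⟩ := hφ (xa 0)
  set t := Y * X * Y⁻¹ with ht
  set c := ⁅Y, X⁆ with hc
  have hcX : c = t * X⁻¹ := by rw [hc, ht, commutatorElement_def]
  have hk₁ : t * X ∈ Subgroup.center H := by
    apply hker
    rw [MonoidHom.mem_ker, ht, map_mul, map_mul, map_mul, map_inv, hX, hY, quat_inv_xa,
      xa_mul_a, xa_mul_xa, a_mul_a, ← a_zero]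
    congr 1
    have : ((n : ZMod (2 * n)) + n) = 0 := by
      rw [← Nat.cast_add, ← two_mul]; exact ZMod.natCast_self _
    linear_combination this
  have hk₁c : ∀ g : H, g * (t * X) = t * X * g := Subgroup.mem_center_iff.mp hk₁
  have htX : Commute t X := by
    have := hk₁c X
    -- X * (t * X) = t * X * X
    have h2 : X * t = t * X := by
      have := congrArg (fun w => w * X⁻¹) this
      simpa [mul_assoc] using this
    exact h2.symm
  have hcXc : Commute c X := by
    rw [hcX]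
    exact htX.mul_left (Commute.refl X).inv_left
  have hcpow : ∀ m : ℕ, c ^ m = t ^ m * (X ^ m)⁻¹ := by
    intro m
    rw [hcX, (htX.inv_right).mul_pow, inv_pow]
  have hval : ∀ i : ZMod (2 * n), ((i.val : ℕ) : ZMod (2 * n)) = i := fun i =>
    ZMod.natCast_zmod_val i
  have hrep_a : ∀ i : ZMod (2 * n), φ (X ^ i.val) = a i := by
    intro i
    rw [map_pow, hX, a_one_pow, hval]
  have hrep_xa : ∀ i : ZMod (2 * n), φ (Y * X ^ i.val) = xa i := by
    intro i
    rw [map_mul, hrep_a, hY, xa_mul_a, zero_add]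
  -- (K1)
  have K1 : ∀ (g : H) (i : ZMod (2 * n)), φ g = xa i → ∀ m : ℕ, ⁅g, X ^ m⁆ = c ^ m := by
    intro g i hg m
    have e : ⁅g, X ^ m⁆ = ⁅Y * X ^ i.val, X ^ m⁆ :=
      comm_congr φ hker (by rw [hg, hrep_xa]) rfl
    rw [e, hcpow, commutatorElement_def, ht, conj_pow]
    have : Y * X ^ i.val * X ^ m * (Y * X ^ i.val)⁻¹ = Y * X ^ m * Y⁻¹ := by
      rw [mul_inv_rev, mul_assoc Y, pow_mul_comm, mul_assoc, mul_assoc, mul_assoc,
        mul_inv_cancel_left]
    rw [this]
  have K2 : ∀ (g : H) (i : ZMod (2 * n)), φ g = a i → ∀ m : ℕ, ⁅g, X ^ m⁆ = 1 := by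
    intro g i hg m
    have e : ⁅g, X ^ m⁆ = ⁅X ^ i.val, X ^ m⁆ :=
      comm_congr φ hker (by rw [hg, hrep_a]) rfl
    rw [e, commutatorElement_eq_one_iff_commute]
    exact Commute.pow_pow_self X _ _
  have hYc : Y * c * Y⁻¹ = c⁻¹ := by
    have h1 : Y * X⁻¹ * Y⁻¹ = t⁻¹ := by rw [ht]; group
    have h2 : Y * t * Y⁻¹ = t * X * t⁻¹ := by
      have e : t = (t * X) * X⁻¹ := by group
      calc Y * t * Y⁻¹ = Y * ((t * X) * X⁻¹) * Y⁻¹ := by rw [← e]
        _ = (Y * (t * X)) * (X⁻¹ * Y⁻¹) := by group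
        _ = (t * X * Y) * (X⁻¹ * Y⁻¹) := by rw [hk₁c Y]
        _ = t * X * (Y * X⁻¹ * Y⁻¹) := by group
        _ = t * X * t⁻¹ := by rw [h1]
    calc Y * c * Y⁻¹ = (Y * t * Y⁻¹) * (Y * X⁻¹ * Y⁻¹) := by rw [hcX]; group
      _ = t * X * t⁻¹ * t⁻¹ := by rw [h1, h2]
      _ = X * t⁻¹ := by rw [htX.eq]; group
      _ = c⁻¹ := by rw [hcX]; group
  have K3 : ∀ (g : H) (i : ZMod (2 * n)), φ g = xa i → g * c * g⁻¹ = c⁻¹ := by
    intro g i hg
    rw [conj_congr φ hker (show φ g = φ (Y * X ^ i.val) by rw [hg, hrep_xa]) c]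
    have : Y * X ^ i.val * c * (Y * X ^ i.val)⁻¹ = Y * c * Y⁻¹ := by
      have h := (hcXc.pow_right i.val).eq
      calc Y * X ^ i.val * c * (Y * X ^ i.val)⁻¹
          = Y * (X ^ i.val * c * (X ^ i.val)⁻¹) * Y⁻¹ := by group
        _ = Y * c * Y⁻¹ := by rw [← h, mul_inv_cancel_right]
    rw [this, hYc]
  -- all commutators are powers of c
  have hall : ∀ g h : H, ⁅g, h⁆ ∈ Subgroup.zpowers c := by
    intro g h
    have hXrep : ∀ (h : H) (j : ZMod (2 * n)), φ h = a j → ∀ g : H, ⁅g, h⁆ = ⁅g, X ^ j.val⁆ := by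
      intro h j hh g
      exact comm_congr φ hker rfl (by rw [hh, hrep_a])
    rcases hg : φ g with i | i <;> rcases hh : φ h with j | j
    · rw [hXrep h j hh, K2 g i hg]; exact Subgroup.one_mem _
    · rw [← commutatorElement_inv, hXrep g i hg, K1 h j hh]
      exact Subgroup.inv_mem _ (Subgroup.pow_mem _ (Subgroup.mem_zpowers c) _)
    · rw [hXrep h j hh, K1 g i hg]
      exact Subgroup.pow_mem _ (Subgroup.mem_zpowers c) _
    · have e : ⁅g, h⁆ = ⁅g, g * X ^ (j - i).val⁆ := by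
        apply comm_congr φ hker rfl
        rw [map_mul, hrep_a, hg, hh, xa_mul_a]
        congr 1; ring
      have e2 : ⁅g, g * X ^ (j - i).val⁆ = g * ⁅g, X ^ (j - i).val⁆ * g⁻¹ := by
        simp only [commutatorElement_def]; group
      rw [e, e2, K1 g i hg, ← conj_pow, K3 g i hg]
      exact Subgroup.pow_mem _ (Subgroup.inv_mem _ (Subgroup.mem_zpowers c)) _
  have hzc : z ∈ Subgroup.zpowers c := by
    rw [commutator_eq_closure] at hz
    refine (Subgroup.closure_le (K := Subgroup.zpowers c)).mpr ?_ hz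
    rintro _ ⟨g, h, rfl⟩
    exact hall g h
  -- c ^ n = 1
  have hcn : c ^ n = 1 := by
    have h1 : φ (Y * Y) = φ (X ^ n) := by
      rw [map_mul, hY, xa_mul_xa, map_pow, hX, a_one_pow]
      congr 1; ring
    obtain ⟨k₂, hk₂, e⟩ := exists_central_of_map_eq φ hker h1
    have hk₂c := Subgroup.mem_center_iff.mp hk₂
    have h2 : Y * (Y * Y) * Y⁻¹ = Y * Y := by group
    rw [e] at h2
    have h3 : Y * (X ^ n * k₂) * Y⁻¹ = t ^ n * k₂ := by
      rw [ht, conj_pow]
      calc Y * (X ^ n * k₂) * Y⁻¹ = Y * X ^ n * (k₂ * Y⁻¹) := by group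
        _ = Y * X ^ n * (Y⁻¹ * k₂) := by rw [hk₂c Y⁻¹]
        _ = Y * X ^ n * Y⁻¹ * k₂ := by group
    rw [h3] at h2
    have h4 : t ^ n = X ^ n := mul_right_cancel h2
    rw [hcpow, h4, mul_inv_cancel]
  -- conclusion
  have hφc : φ c = a (-2) := by
    rw [hc, map_commutatorElement, hY, hX, commutatorElement_def, quat_inv_xa, quat_inv_a,
      xa_mul_a, xa_mul_xa, a_mul_a]
    congr 1
    have : ((n : ZMod (2 * n)) + n) = 0 := by
      rw [← Nat.cast_add, ← two_mul]; exact ZMod.natCast_self _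
    linear_combination this
  have hnat : ∀ k : ℕ, φ (c ^ k) = 1 → c ^ k = 1 := by
    intro k hk
    rw [map_pow, hφc, quat_a_pow, ← a_zero] at hk
    have hk' : (k : ZMod (2 * n)) * (-2) = 0 := by
      injection hk with hk
    have h2k : ((2 * k : ℕ) : ZMod (2 * n)) = 0 := by
      push_cast; linear_combination -hk'
    rw [ZMod.natCast_eq_zero_iff] at h2k
    have hn : n ∣ k := (Nat.mul_dvd_mul_iff_left (by norm_num)).mp h2k
    obtain ⟨l, rfl⟩ := hn
    rw [pow_mul, hcn, one_pow]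
  obtain ⟨j, rfl⟩ := Subgroup.mem_zpowers_iff.mp hzc
  rcases Int.eq_nat_or_neg j with ⟨k, rfl | rfl⟩
  · rw [zpow_natCast] at hz1 ⊢
    exact hnat k hz1
  · rw [zpow_neg, zpow_natCast] at hz1 ⊢
    rw [map_inv, inv_eq_one] at hz1
    rw [hnat k hz1, inv_one]

end Cfsg.Agent.Helper11.SzMult
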