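import Mathlib
import Cfsg.Agent.Helper11.SL2MultA
import Cfsg.Agent.Helper2.SL2Cyclic
import Cfsg.Agent.Helper2.SL2Quaternion
import Cfsg.Agent.Helper20.DihedralStem

/-! The Schur multiplier of `SL₂(q)`, `q ≠ 4, 9`, is trivial. -/

set_option autoImplicit false
set_option linter.unusedSectionVars false
set_option linter.unusedVariables false

namespace Cfsg.Agent.Helper11.SzMult

open scoped commutatorElement
open Matrix Cfsg.Agent.Helper2.SL2 Cfsg.Agent.Helper2.SL2C

variable {F : Type*} [Field F]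

theorem dHom_00 (k : Fˣ) : (dHom k : SpecialLinearGroup (Fin 2) F) 0 0 = (k : F) := rfl
theorem dHom_01 (k : Fˣ) : (dHom k : SpecialLinearGroup (Fin 2) F) 0 1 = 0 := rfl
theorem dHom_10 (k : Fˣ) : (dHom k : SpecialLinearGroup (Fin 2) F) 1 0 = 0 := rfl
theorem dHom_11 (k : Fˣ) :
    (dHom k : SpecialLinearGroup (Fin 2) F) 1 1 = ((k⁻¹ : Fˣ) : F) := rfl

theorem dHom_mul_u (k : Fˣ) (x : F) :
    dHom k * u x * (dHom k)⁻¹ = u ((k : F) ^ 2 * x) := by
  rw [mul_inv_eq_iff_eq_mul]
  apply sl_ext <;>
    simp [Cfsg.Agent.Helper2.SL2.mul_apply', dHom_00, dHom_01, dHom_10, dHom_11]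
  field_simp

/-- three nonzero field elements with `a₁² + a₂² = a₃²`, nondegenerate -/
theorem exists_pyth [Fintype F] (p : ℕ) [hp : Fact p.Prime] [CharP F p]
    (hq : 14 < Fintype.card F ∨ (p = 2 ∧ 6 < Fintype.card F)) :
    ∃ a₁ a₂ a₃ : F, a₁ ≠ 0 ∧ a₂ ≠ 0 ∧ a₃ ≠ 0 ∧ a₁ ^ 2 + a₂ ^ 2 = a₃ ^ 2 ∧
      (a₁ ^ 2) ^ 2 + a₁ ^ 2 * a₂ ^ 2 + (a₂ ^ 2) ^ 2 ≠ 0 := by
  by_cases h2 : p = 2
  · subst h2
    have hq' : 6 < Fintype.card F := by
      rcases hq with h | h
      · omega
      · exact h.2
    have h20 : (2 : F) = 0 := by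
      have := CharP.cast_eq_zero F 2
      exact_mod_cast this
    obtain ⟨w, hw0, hw1, hw⟩ := exists_nonroot
      (1 + Polynomial.X ^ 2 + Polynomial.X ^ 4 : Polynomial F)
      (by
        intro h
        have := congrArg (Polynomial.eval 0) h
        simp at this)
      (by
        have h1 : (1 + Polynomial.X ^ 2 + Polynomial.X ^ 4 : Polynomial F).natDegree ≤ 4 := by
          compute_degree
        omega)
    refine ⟨1, w, 1 + w, one_ne_zero, hw0, hw1, ?_, ?_⟩
    · linear_combination (-w) * h20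
    · simp only [Polynomial.eval_add, Polynomial.eval_pow, Polynomial.eval_X,
        Polynomial.eval_one] at hw
      intro h
      apply hw
      linear_combination h
  · have hq' : 14 < Fintype.card F := by
      rcases hq with h | h
      · exact h
      · exact absurd h.1 h2
    have h20 : (2 : F) ≠ 0 := by
      intro h
      have : ((2 : ℕ) : F) = 0 := by exact_mod_cast h
      rw [CharP.cast_eq_zero_iff F p] at this
      exact h2 ((Nat.prime_dvd_prime_iff_eq hp.out Nat.prime_two).mp this)
    set P : Polynomial F := (Polynomial.X ^ 2 - 1) * (Polynomial.X ^ 2 + 1) *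
      (((Polynomial.X ^ 2 - 1) ^ 2) ^ 2 +
        (Polynomial.X ^ 2 - 1) ^ 2 * (Polynomial.C 2 * Polynomial.X) ^ 2 +
        ((Polynomial.C 2 * Polynomial.X) ^ 2) ^ 2) with hP
    obtain ⟨w, hw0, hw1, hw⟩ := exists_nonroot P
      (by
        intro h
        have := congrArg (Polynomial.eval 0) h
        simp [hP] at this)
      (by
        have h1 : P.natDegree ≤ 12 := by
          rw [hP]
          compute_degree
        omega)
    simp only [hP, Polynomial.eval_add, Polynomial.eval_sub, Polynomial.eval_mul,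
      Polynomial.eval_pow, Polynomial.eval_X, Polynomial.eval_one, Polynomial.eval_C] at hw
    have hA : w ^ 2 - 1 ≠ 0 := by
      intro h; apply hw; rw [h]; ring
    have hB : w ^ 2 + 1 ≠ 0 := by
      intro h; apply hw; rw [h]; ring
    refine ⟨w ^ 2 - 1, 2 * w, w ^ 2 + 1, hA, mul_ne_zero h20 hw0, hB, by ring, ?_⟩
    intro h
    apply hw
    rw [h, mul_zero]

section ext

variable [Fintype F] {Γ : Type*} [Group Γ] (σ : Γ →* SpecialLinearGroup (Fin 2) F)
  (hK : σ.ker ≤ Subgroup.center Γ)

theorem u_zsmul (k : ℤ) (b : F) : u (k • b) = (u b) ^ k := by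
  have h1 : u (k • b) = uHom (Multiplicative.ofAdd (k • b)) := rfl
  have h2 : u b = uHom (Multiplicative.ofAdd b) := rfl
  rw [h1, h2, ofAdd_zsmul, map_zpow]

include hK

/-- preimages of upper unitriangular elements commute -/
theorem commute_U_U (p : ℕ) [hp : Fact p.Prime] [CharP F p] (h4 : Fintype.card F ≠ 4)
    (h9 : Fintype.card F ≠ 9) (s : SpecialLinearGroup (Fin 2) F → Γ) (hs : ∀ g, σ (s g) = g)
    {x y : Γ} {b b' : F} (hx : σ x = u b) (hy : σ y = u b') : x * y = y * x := by
  classical
  obtain ⟨n, -, hn⟩ := FiniteField.card F p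
  by_cases hn1 : (n : ℕ) = 1
  · -- prime field: `U` is cyclic
    rw [hn1, pow_one] at hn
    have htop : AddSubgroup.zmultiples (1 : F) = ⊤ :=
      zmultiples_eq_top_of_prime_card (by rw [Nat.card_eq_fintype_card, hn]) one_ne_zero
    obtain ⟨k, hk⟩ : b ∈ AddSubgroup.zmultiples (1 : F) := by rw [htop]; trivial
    obtain ⟨k', hk'⟩ : b' ∈ AddSubgroup.zmultiples (1 : F) := by rw [htop]; trivial
    simp only at hk hk'
    have e : ⁅x, y⁆ = ⁅(s (u 1)) ^ k, (s (u 1)) ^ k'⁆ := by
      apply comm_congr σ hK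
      · rw [hx, map_zpow, hs, ← u_zsmul, hk]
      · rw [hy, map_zpow, hs, ← u_zsmul, hk']
    have : ⁅(s (u (1 : F))) ^ k, (s (u (1 : F))) ^ k'⁆ = 1 := by
      rw [commutatorElement_eq_one_iff_commute]
      exact ((Commute.refl _).zpow_left k).zpow_right k'
    rw [this] at e
    exact (commutatorElement_eq_one_iff_commute.mp e).eq
  · have hn2 : 2 ≤ (n : ℕ) := by
      have := n.pos
      omega
    have hp2 : 2 ≤ p := hp.out.two_le
    have hq : 14 < Fintype.card F ∨ (p = 2 ∧ 6 < Fintype.card F) := by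
      by_cases h2 : p = 2
      · right
        refine ⟨h2, ?_⟩
        rw [hn, h2]
        have hn3 : 3 ≤ (n : ℕ) := by
          by_contra hcon
          have : (n : ℕ) = 2 := by omega
          apply h4
          rw [hn, h2, this]; norm_num
        calc 6 < 2 ^ 3 := by norm_num
          _ ≤ 2 ^ (n : ℕ) := Nat.pow_le_pow_right (by norm_num) hn3
      · left
        by_cases h3 : p = 3
        · rw [hn, h3]
          have hn3 : 3 ≤ (n : ℕ) := by
            by_contra hcon
            have : (n : ℕ) = 2 := by omega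
            apply h9
            rw [hn, h3, this]; norm_num
          calc 14 < 3 ^ 3 := by norm_num
            _ ≤ 3 ^ (n : ℕ) := Nat.pow_le_pow_right (by norm_num) hn3
        · have hp5 : 5 ≤ p := by
            by_contra hcon
            have hp4 : p = 4 := by omega
            have := hp.out
            rw [hp4] at this
            norm_num at this
          rw [hn]
          calc 14 < 5 ^ 2 := by norm_num
            _ ≤ p ^ 2 := Nat.pow_le_pow_left hp5 2
            _ ≤ p ^ (n : ℕ) := Nat.pow_le_pow_right (by omega) hn2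
    obtain ⟨a₁, a₂, a₃, h1, h2, h3, hsum, hne⟩ := exists_pyth (F := F) p hq
    set c : F → F → Γ := fun b b' => ⁅s (u b), s (u b')⁆ with hc
    have hcen : ∀ b b', c b b' ∈ Subgroup.center Γ := by
      intro b b'
      apply commute_of_map_commute σ hK
      rw [hs, hs, ← u_add, ← u_add, add_comm]
    have hcomm : ∀ b b' (g : Γ), Commute g (c b b') := fun b b' g =>
      (Subgroup.mem_center_iff.mp (hcen b b') g)
    have hl : ∀ x x' y, c (x + x') y = c x y * c x' y := by
      intro b₁ b₂ b'
      have e : c (b₁ + b₂) b' = ⁅s (u b₂) * s (u b₁), s (u b')⁆ := by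
        apply comm_congr σ hK _ rfl
        rw [map_mul, hs, hs, hs, ← u_add, add_comm]
      rw [e, comm_mul_left _ _ _ (hcomm _ _ _)]
    have hr : ∀ x y y', c x (y + y') = c x y * c x y' := by
      intro b b₁ b₂
      have e : c b (b₁ + b₂) = ⁅s (u b), s (u b₁) * s (u b₂)⁆ := by
        apply comm_congr σ hK rfl
        rw [map_mul, hs, hs, hs, ← u_add]
      rw [e, comm_mul_right _ _ _ (hcomm _ _ _)]
    have hinv : ∀ a : F, a ≠ 0 → ∀ x y, c (a ^ 2 * x) (a ^ 2 * y) = c x y := by
      intro a ha x y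
      set k : Fˣ := Units.mk0 a ha with hk
      have hk' : (k : F) = a := rfl
      have e : c (a ^ 2 * x) (a ^ 2 * y) =
          ⁅s (dHom k) * s (u x) * (s (dHom k))⁻¹, s (dHom k) * s (u y) * (s (dHom k))⁻¹⁆ := by
        apply comm_congr σ hK
        · rw [map_mul, map_mul, map_inv, hs, hs, hs, dHom_mul_u, hk']
        · rw [map_mul, map_mul, map_inv, hs, hs, hs, dHom_mul_u, hk']
      rw [e, ← conjugate_commutatorElement]
      have := (hcomm x y (s (dHom k))).eq
      change s (dHom k) * c x y * (s (dHom k))⁻¹ = c x y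
      rw [this, mul_inv_cancel_right]
    have key := bilin_vanish2 c hl hr (a₁ ^ 2) (a₂ ^ 2) (pow_ne_zero _ h1) (pow_ne_zero _ h2)
      (by rw [hsum]; exact pow_ne_zero _ h3) (hinv a₁ h1) (hinv a₂ h2)
      (by rw [hsum]; exact hinv a₃ h3) hne b b'
    have e : ⁅x, y⁆ = c b b' := by
      apply comm_congr σ hK
      · rw [hx, hs]
      · rw [hy, hs]
    rw [key] at e
    exact (commutatorElement_eq_one_iff_commute.mp e).eq

end ext

/-- if the preimage of a subgroup `S` of index prime to `r` is commutative, the kernel of a stem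
extension has no element of order `r` -/
theorem comm_preimage_part {Γ G : Type*} [Group Γ] [Group G] [Finite Γ] (σ : Γ →* G)
    (hσ : Function.Surjective σ) (hK : σ.ker ≤ Subgroup.center Γ)
    (r : ℕ) [hr : Fact r.Prime] (S : Subgroup G) (hS : ¬ r ∣ S.index)
    (hcomm : ∀ x y : Γ, σ x ∈ S → σ y ∈ S → x * y = y * x) (a : Γ) (ha : a ∈ σ.ker)
    (hac : a ∈ commutator Γ) (har : a ^ r = 1) : a = 1 := by
  classical
  set H : Subgroup Γ := S.comap σ with hH
  have haH : a ∈ H := by
    rw [hH, Subgroup.mem_comap, MonoidHom.mem_ker.mp ha]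
    exact Subgroup.one_mem _
  have htr := pow_index_mem_commutator H a (hK ha) hac haH
  have hbot : commutator ↥H ≤ ⊥ := by
    rw [commutator_eq_closure, Subgroup.closure_le]
    rintro _ ⟨x, y, rfl⟩
    rw [SetLike.mem_coe, Subgroup.mem_bot, commutatorElement_eq_one_iff_commute]
    exact Subtype.ext (hcomm x y x.2 y.2)
  have h1 := hbot htr
  rw [Subgroup.mem_bot] at h1
  have h2 : a ^ H.index = 1 := by
    have := congrArg Subtype.val h1
    simpa using this
  by_contra hne
  have ho : orderOf a = r := by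
    have hd : orderOf a ∣ r := orderOf_dvd_of_pow_eq_one har
    rcases (Nat.dvd_prime hr.out).mp hd with h | h
    · exact absurd (orderOf_eq_one_iff.mp h) hne
    · exact h
  have hd : r ∣ H.index := by
    rw [← ho]; exact orderOf_dvd_of_pow_eq_one h2
  rw [hH, Subgroup.index_comap_of_surjective _ hσ] at hd
  exact hS hd

section main

variable [Fintype F] {Γ : Type*} [Group Γ] [Finite Γ] (σ : Γ →* SpecialLinearGroup (Fin 2) F)

theorem sl2_ker_eq_bot (h4 : Fintype.card F ≠ 4) (h9 : Fintype.card F ≠ 9)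
    (hσ : Function.Surjective σ) (hK : σ.ker ≤ Subgroup.center Γ)
    (hC : σ.ker ≤ commutator Γ) : σ.ker = ⊥ := by
  classical
  obtain ⟨p, hchar⟩ := CharP.exists F
  have := hchar
  have hp : Fact p.Prime := ⟨CharP.char_is_prime F p⟩
  by_contra hne
  have hcard : Nat.card σ.ker ≠ 1 := by
    intro h
    exact hne ((Subgroup.card_eq_one).mp h)
  set r := (Nat.card σ.ker).minFac with hr
  have hrp : Fact r.Prime := ⟨Nat.minFac_prime hcard⟩
  obtain ⟨x, hx⟩ := exists_prime_orderOf_dvd_card' (G := σ.ker) r (Nat.minFac_dvd _)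
  have hxr : (x : Γ) ^ r = 1 := by
    have := pow_orderOf_eq_one x
    rw [hx] at this
    exact_mod_cast congrArg Subtype.val this
  have hx1 : (x : Γ) ≠ 1 := by
    intro h
    have : x = 1 := Subtype.ext h
    rw [this, orderOf_one] at hx
    exact hrp.out.one_lt.ne hx
  apply hx1
  by_cases hrp' : r = p
  · -- the characteristic
    obtain ⟨P0, hP0⟩ := exists_sylow_eq_U (F := F) p
    have hidx : ¬ r ∣ (U : Subgroup (SpecialLinearGroup (Fin 2) F)).index := by
      rw [hrp', ← hP0]
      exact Sylow.not_dvd_index P0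
    refine comm_preimage_part σ hσ hK r U hidx ?_ x x.2 (hC x.2) hxr
    intro a b ha hb
    obtain ⟨c, hc⟩ := mem_U_iff.mp ha
    obtain ⟨c', hc'⟩ := mem_U_iff.mp hb
    exact commute_U_U σ hK p h4 h9 (Function.surjInv hσ) (Function.surjInv_eq hσ) hc.symm hc'.symm
  · by_cases h2 : r = 2
    · -- quaternion Sylow 2-subgroups
      have hp2 : p ≠ 2 := fun h => hrp' (h2.trans h.symm)
      have hodd : Odd (Fintype.card F) := by
        obtain ⟨n, -, hn⟩ := FiniteField.card F p
        rw [hn]
        exact (hp.out.odd_of_ne_two hp2).pow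
      have : Fact (Nat.Prime 2) := ⟨Nat.prime_two⟩
      let P : Sylow 2 (SpecialLinearGroup (Fin 2) F) := Classical.arbitrary _
      obtain ⟨k, hk, ⟨e⟩⟩ := Cfsg.Agent.Helper2.SL2Q.sylow_quaternion hodd P
      have : NeZero (2 ^ k) := ⟨by positivity⟩
      set H : Subgroup Γ := (P : Subgroup (SpecialLinearGroup (Fin 2) F)).comap σ with hH
      have haH : (x : Γ) ∈ H := by
        rw [hH, Subgroup.mem_comap, MonoidHom.mem_ker.mp x.2]
        exact Subgroup.one_mem _
      have htr := pow_index_mem_commutator H (x : Γ) (hK x.2) (hC x.2) haH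
      have hidx : Odd H.index := by
        rw [hH, Subgroup.index_comap_of_surjective _ hσ]
        have := Sylow.not_dvd_index P
        exact Nat.odd_iff.mpr (Nat.two_dvd_ne_zero.mp this)
      rw [h2] at hxr
      have hpow : (⟨(x : Γ), haH⟩ : ↥H) ^ H.index = ⟨(x : Γ), haH⟩ := by
        obtain ⟨j, hj⟩ := hidx
        apply Subtype.ext
        rw [Subgroup.coe_pow, hj, pow_succ, pow_mul, hxr, one_pow, one_mul]
      rw [hpow] at htr
      let f : ↥H →* ↥(P : Subgroup (SpecialLinearGroup (Fin 2) F)) :=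
        (σ.comp H.subtype).codRestrict (P : Subgroup (SpecialLinearGroup (Fin 2) F)) (fun x => x.2)
      let φ : ↥H →* QuaternionGroup (2 ^ k) := e.toMonoidHom.comp f
      have hφs : Function.Surjective φ := by
        apply e.surjective.comp
        rintro ⟨y, hy⟩
        obtain ⟨z, rfl⟩ := hσ y
        exact ⟨⟨z, hy⟩, rfl⟩
      have hφk : φ.ker ≤ Subgroup.center ↥H := by
        intro z hz
        rw [MonoidHom.mem_ker] at hz
        have hz1 : f z = 1 := e.map_eq_one_iff.mp hz
        have hz' : σ (z : Γ) = 1 := congrArg Subtype.val hz1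
        have hc := hK (MonoidHom.mem_ker.mpr hz')
        rw [Subgroup.mem_center_iff] at hc ⊢
        intro g
        exact Subtype.ext (hc g)
      have hφx : φ ⟨(x : Γ), haH⟩ = 1 := by
        have : f ⟨(x : Γ), haH⟩ = 1 := by
          apply Subtype.ext
          exact MonoidHom.mem_ker.mp x.2
        change e (f ⟨(x : Γ), haH⟩) = 1
        rw [this, map_one]
      have := quat_comm_inf_ker φ hφs hφk _ htr hφx
      exact congrArg Subtype.val this
    · -- cyclic Sylow subgroups
      let R : Sylow r (SpecialLinearGroup (Fin 2) F) := Classical.arbitrary _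
      have hcyc := Cfsg.Agent.Helper2.SL2C.isCyclic_sylow (F := F) p r h2 hrp' R
      exact cyclic_sylow_part σ hσ hK r R hcyc x x.2 (hC x.2) hxr

/-- the Schur multiplier of `SL₂(q)`, `q ≠ 4, 9`, is trivial -/
theorem sl2_main {F : Type*} [Field F] [Fintype F] (h4 : Fintype.card F ≠ 4)
    (h9 : Fintype.card F ≠ 9) :
    Cfsg.HasCyclicSchurMultiplier (Matrix.SpecialLinearGroup (Fin 2) F) 1 := by
  classical
  apply Cfsg.Agent.Helper20.hasCyclicSchurMultiplier_one_of_forall_ker
  intro Γ _ _ σ hσ
  exact sl2_ker_eq_bot σ h4 h9 hσ.1 hσ.2.1 hσ.2.2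

end main

end Cfsg.Agent.Helper11.SzMult
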