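import Mathlib

set_option autoImplicit false

/-!
The two Klein four-subgroups of the dihedral group of order 8.
-/

namespace Cfsg.Agent.Helper11.D4Klein

open DihedralGroup

/-- `{1, r², s, sr²}` -/
def V₁ : Subgroup (DihedralGroup 4) where
  carrier := {x | x = 1 ∨ x = r 2 ∨ x = sr 0 ∨ x = sr 2}
  one_mem' := Or.inl rfl
  mul_mem' := by
    have : ∀ a b : DihedralGroup 4, (a = 1 ∨ a = r 2 ∨ a = sr 0 ∨ a = sr 2) →
        (b = 1 ∨ b = r 2 ∨ b = sr 0 ∨ b = sr 2) →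
        (a * b = 1 ∨ a * b = r 2 ∨ a * b = sr 0 ∨ a * b = sr 2) := by decide
    intro a b ha hb
    exact this a b ha hb
  inv_mem' := by
    have : ∀ a : DihedralGroup 4, (a = 1 ∨ a = r 2 ∨ a = sr 0 ∨ a = sr 2) →
        (a⁻¹ = 1 ∨ a⁻¹ = r 2 ∨ a⁻¹ = sr 0 ∨ a⁻¹ = sr 2) := by decide
    intro a ha
    exact this a ha

/-- `{1, r², sr, sr³}` -/
def V₂ : Subgroup (DihedralGroup 4) where
  carrier := {x | x = 1 ∨ x = r 2 ∨ x = sr 1 ∨ x = sr 3}
  one_mem' := Or.inl rfl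
  mul_mem' := by
    have : ∀ a b : DihedralGroup 4, (a = 1 ∨ a = r 2 ∨ a = sr 1 ∨ a = sr 3) →
        (b = 1 ∨ b = r 2 ∨ b = sr 1 ∨ b = sr 3) →
        (a * b = 1 ∨ a * b = r 2 ∨ a * b = sr 1 ∨ a * b = sr 3) := by decide
    intro a b ha hb
    exact this a b ha hb
  inv_mem' := by
    have : ∀ a : DihedralGroup 4, (a = 1 ∨ a = r 2 ∨ a = sr 1 ∨ a = sr 3) →
        (a⁻¹ = 1 ∨ a⁻¹ = r 2 ∨ a⁻¹ = sr 1 ∨ a⁻¹ = sr 3) := by decide
    intro a ha
    exact this a ha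

theorem mem_V₁ (x : DihedralGroup 4) : x ∈ V₁ ↔ x = 1 ∨ x = r 2 ∨ x = sr 0 ∨ x = sr 2 := Iff.rfl

theorem mem_V₂ (x : DihedralGroup 4) : x ∈ V₂ ↔ x = 1 ∨ x = r 2 ∨ x = sr 1 ∨ x = sr 3 := Iff.rfl

theorem sq_V₁ (x : DihedralGroup 4) (hx : x ∈ V₁) : x * x = 1 := by
  have : ∀ a : DihedralGroup 4, (a = 1 ∨ a = r 2 ∨ a = sr 0 ∨ a = sr 2) → a * a = 1 := by decide
  exact this x hx

theorem sq_V₂ (x : DihedralGroup 4) (hx : x ∈ V₂) : x * x = 1 := by
  have : ∀ a : DihedralGroup 4, (a = 1 ∨ a = r 2 ∨ a = sr 1 ∨ a = sr 3) → a * a = 1 := by decide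
  exact this x hx

theorem card_V₁ : Nat.card ↥V₁ = 4 := by
  classical
  rw [Nat.card_eq_fintype_card, Fintype.card_subtype]
  have : (Finset.univ.filter (fun x : DihedralGroup 4 => x ∈ V₁)) = {1, r 2, sr 0, sr 2} := by
    ext x
    simp only [Finset.mem_filter, Finset.mem_univ, true_and, mem_V₁, Finset.mem_insert,
      Finset.mem_singleton]
  rw [this]
  decide

theorem card_V₂ : Nat.card ↥V₂ = 4 := by
  classical
  rw [Nat.card_eq_fintype_card, Fintype.card_subtype]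
  have : (Finset.univ.filter (fun x : DihedralGroup 4 => x ∈ V₂)) = {1, r 2, sr 1, sr 3} := by
    ext x
    simp only [Finset.mem_filter, Finset.mem_univ, true_and, mem_V₂, Finset.mem_insert,
      Finset.mem_singleton]
  rw [this]
  decide

theorem V₁_ne_V₂ : V₁ ≠ V₂ := by
  intro h
  have h1 : (sr 0 : DihedralGroup 4) ∈ V₁ := Or.inr (Or.inr (Or.inl rfl))
  rw [h, mem_V₂] at h1
  revert h1
  decide

/-- a subgroup of order 4 and exponent 2 of the dihedral group of order 8 is `V₁` or `V₂` -/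
theorem eq_V₁_or_V₂ (U : Subgroup (DihedralGroup 4)) (hU : Nat.card ↥U = 4)
    (hsq : ∀ u ∈ U, u * u = 1) : U = V₁ ∨ U = V₂ := by
  -- two distinct non-identity elements
  have h2 : ∃ a ∈ U, a ≠ 1 := by
    by_contra hno
    push Not at hno
    have : U = ⊥ := (Subgroup.eq_bot_iff_forall _).2 hno
    rw [this, Subgroup.card_bot] at hU
    omega
  obtain ⟨a, haU, ha1⟩ := h2
  have h3 : ∃ b ∈ U, b ≠ 1 ∧ b ≠ a := by
    by_contra hno
    push Not at hno
    have hle : U ≤ Subgroup.zpowers a := by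
      intro x hx
      by_cases hx1 : x = 1
      · rw [hx1]; exact one_mem _
      · rw [hno x hx hx1]; exact Subgroup.mem_zpowers a
    have hcard := Subgroup.card_le_of_le hle
    have ha2 : orderOf a = 2 := orderOf_eq_prime (by rw [pow_two]; exact hsq a haU) ha1
    rw [Nat.card_zpowers, ha2, hU] at hcard
    omega
  obtain ⟨b, hbU, hb1, hba⟩ := h3
  have key : ∀ a b : DihedralGroup 4, a ≠ 1 → b ≠ 1 → b ≠ a → a * a = 1 → b * b = 1 →
      (a * b) * (a * b) = 1 →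
      (((r 2 = a ∨ r 2 = b ∨ r 2 = a * b) ∧ (sr 0 = a ∨ sr 0 = b ∨ sr 0 = a * b) ∧
          (sr 2 = a ∨ sr 2 = b ∨ sr 2 = a * b)) ∨
       ((r 2 = a ∨ r 2 = b ∨ r 2 = a * b) ∧ (sr 1 = a ∨ sr 1 = b ∨ sr 1 = a * b) ∧
          (sr 3 = a ∨ sr 3 = b ∨ sr 3 = a * b))) := by
    decide
  have habU : a * b ∈ U := U.mul_mem haU hbU
  have hmem : ∀ v : DihedralGroup 4, (v = a ∨ v = b ∨ v = a * b) → v ∈ U := by
    rintro v (rfl | rfl | rfl)
    · exact haU
    · exact hbU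
    · exact habU
  rcases key a b ha1 hb1 hba (hsq a haU) (hsq b hbU) (hsq _ habU) with ⟨h1, h2, h3⟩ | ⟨h1, h2, h3⟩
  · left
    symm
    apply Subgroup.eq_of_le_of_card_ge
    · intro v hv
      rcases hv with rfl | rfl | rfl | rfl
      · exact one_mem _
      · exact hmem _ h1
      · exact hmem _ h2
      · exact hmem _ h3
    · rw [hU, card_V₁]
  · right
    symm
    apply Subgroup.eq_of_le_of_card_ge
    · intro v hv
      rcases hv with rfl | rfl | rfl | rfl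
      · exact one_mem _
      · exact hmem _ h1
      · exact hmem _ h2
      · exact hmem _ h3
    · rw [hU, card_V₂]

end Cfsg.Agent.Helper11.D4Klein
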