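import Mathlib

set_option autoImplicit false

namespace Cfsg.Agent.Helper11

/-- If `|G| = m * q` with `q` prime not dividing `m`, a Sylow `q`-subgroup has order `q` and index `m`. -/
theorem sylow_card_of_card_eq {G : Type*} [Group G] [Finite G] {q : ℕ} [Fact q.Prime] (m : ℕ)
    (hG : Nat.card G = m * q) (hm : ¬ q ∣ m) (Q : Sylow q G) :
    Nat.card ↥(Q : Subgroup G) = q ∧ (Q : Subgroup G).index = m := by
  have hq : q.Prime := Fact.out
  have hm0 : m ≠ 0 := by rintro rfl; exact hm (dvd_zero q)
  have hfac : (Nat.card G).factorization q = 1 := by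
    rw [hG, Nat.factorization_mul hm0 hq.ne_zero]
    simp [Nat.factorization_eq_zero_of_not_dvd hm, hq.factorization_self]
  have h1 : Nat.card ↥(Q : Subgroup G) = q := by
    rw [Sylow.card_eq_multiplicity, hfac, pow_one]
  refine ⟨h1, ?_⟩
  have h2 := (Q : Subgroup G).index_mul_card
  rw [h1, hG] at h2
  exact Nat.eq_of_mul_eq_mul_right hq.pos h2

/-- A subgroup of order `q` is a Sylow `q`-subgroup when `|G| = m * q` with `q ∤ m`. -/
noncomputable def sylowOfCardPrime {G : Type*} [Group G] [Finite G] {q : ℕ} [Fact q.Prime] (m : ℕ)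
    (hG : Nat.card G = m * q) (hm : ¬ q ∣ m) (H : Subgroup G) (hH : Nat.card ↥H = q) : Sylow q G :=
  Sylow.ofCard H (by
    have hq : q.Prime := Fact.out
    have hm0 : m ≠ 0 := by rintro rfl; exact hm (dvd_zero q)
    rw [hG, Nat.factorization_mul hm0 hq.ne_zero]
    simp [Nat.factorization_eq_zero_of_not_dvd hm, hq.factorization_self, hH])

theorem coe_sylowOfCardPrime {G : Type*} [Group G] [Finite G] {q : ℕ} [Fact q.Prime] (m : ℕ)
    (hG : Nat.card G = m * q) (hm : ¬ q ∣ m) (H : Subgroup G) (hH : Nat.card ↥H = q) :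
    ((sylowOfCardPrime m hG hm H hH : Sylow q G) : Subgroup G) = H := rfl

/-- If the index of a Sylow `q`-subgroup is less than `q`, it is the only Sylow `q`-subgroup. -/
theorem card_sylow_eq_one_of_index_lt {G : Type*} [Group G] [Finite G] {q : ℕ} [Fact q.Prime]
    (Q : Sylow q G) (h : (Q : Subgroup G).index < q) : Nat.card (Sylow q G) = 1 := by
  have h1 : Nat.card (Sylow q G) ∣ (Q : Subgroup G).index := Q.card_dvd_index
  have h2 : Nat.card (Sylow q G) ≡ 1 [MOD q] := card_sylow_modEq_one q G
  have h3 : 0 < (Q : Subgroup G).index := Nat.pos_of_ne_zero (Subgroup.index_ne_zero_of_finite)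
  have h4 : Nat.card (Sylow q G) ≤ (Q : Subgroup G).index := Nat.le_of_dvd h3 h1
  have h5 : Nat.card (Sylow q G) < q := lt_of_le_of_lt h4 h
  have hq : 1 < q := (Fact.out : q.Prime).one_lt
  unfold Nat.ModEq at h2
  rwa [Nat.mod_eq_of_lt h5, Nat.mod_eq_of_lt hq] at h2

/-- A Sylow `q`-subgroup of index less than `q` is normal. -/
theorem sylow_normal_of_index_lt {G : Type*} [Group G] [Finite G] {q : ℕ} [Fact q.Prime]
    (Q : Sylow q G) (h : (Q : Subgroup G).index < q) : (Q : Subgroup G).Normal := by
  have h1 := card_sylow_eq_one_of_index_lt Q h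
  have : Subsingleton (Sylow q G) := (Nat.card_eq_one_iff_unique.mp h1).1
  exact Q.normal_of_subsingleton

/-- A Sylow `q`-subgroup of index less than `q` is characteristic. -/
theorem sylow_characteristic_of_index_lt {G : Type*} [Group G] [Finite G] {q : ℕ} [Fact q.Prime]
    (Q : Sylow q G) (h : (Q : Subgroup G).index < q) : (Q : Subgroup G).Characteristic :=
  Q.characteristic_of_normal (sylow_normal_of_index_lt Q h)

/-- The order of the normalizer of a Sylow subgroup times the number of Sylow subgroups is `|G|`. -/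
theorem card_sylow_mul_card_normalizer {G : Type*} [Group G] [Finite G] {q : ℕ} [Fact q.Prime]
    (Q : Sylow q G) :
    Nat.card (Sylow q G) * Nat.card ↥(Subgroup.normalizer ((Q : Subgroup G) : Set G)) = Nat.card G := by
  rw [Q.card_eq_index_normalizer]
  exact Subgroup.index_mul_card _

/-- A divisor of a product of two primes. -/
theorem dvd_prime_mul_prime {n p q : ℕ} (hp : p.Prime) (hq : q.Prime) (h : n ∣ p * q) :
    n = 1 ∨ n = p ∨ n = q ∨ n = p * q := by
  obtain ⟨a, b, ha, hb, rfl⟩ := (Nat.dvd_mul).mp h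
  rcases (Nat.dvd_prime hp).mp ha with rfl | rfl <;> rcases (Nat.dvd_prime hq).mp hb with rfl | rfl <;> simp

end Cfsg.Agent.Helper11
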