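import Mathlib
import Cfsg.Agent.Helper11.SylowCount

set_option autoImplicit false

namespace Cfsg.Agent.Helper11

open Equiv

/-- `p` does not divide `(p-1)!`. -/
theorem prime_not_dvd_factorial_pred {p : ℕ} (hp : p.Prime) : ¬ p ∣ (p - 1).factorial := by
  rw [hp.dvd_factorial]
  have := hp.one_lt
  omega

/-- In `Perm α` with `|α| < 2p`, an element of order `p` has cycle type `{p}`. -/
theorem cycleType_of_orderOf_prime {α : Type*} [Fintype α] [DecidableEq α] {p : ℕ} (hp : p.Prime)
    (hα : Fintype.card α < 2 * p) (σ : Perm α) (hσ : orderOf σ = p) : σ.cycleType = {p} := by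
  have h1 : σ.IsCycle := Equiv.Perm.isCycle_of_prime_order' (hσ ▸ hp) (hσ ▸ hα)
  rw [h1.cycleType, ← h1.orderOf, hσ]

/-- Let `P = ⟨σ⟩` be a subgroup of prime order `p` of a finite group such that every element of
order `p` in `P` is conjugate to `σ`. Then `[N(P) : C(P)] = p - 1`. -/
theorem relIndex_centralizer_normalizer_of_conj {G : Type*} [Group G] [Finite G] {p : ℕ} (hp : p.Prime)
    (P : Subgroup G) (hP : Nat.card ↥P = p) (σ : G) (hσP : σ ∈ P) (hσ : orderOf σ = p)
    (hconj : ∀ τ ∈ P, orderOf τ = p → IsConj σ τ) :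
    (Subgroup.centralizer (P : Set G)).relIndex (Subgroup.normalizer (P : Set G)) = p - 1 := by
  classical
  have : Fact p.Prime := ⟨hp⟩
  have hPz : Subgroup.zpowers σ = P := by
    apply Subgroup.eq_of_le_of_card_ge (Subgroup.zpowers_le.mpr hσP)
    rw [Nat.card_zpowers, hσ, hP]
  have hcyc : IsCyclic ↥P := isCyclic_of_prime_card hP
  have hsurj : Function.Surjective P.normalizerMonoidHom := by
    intro a
    set τ : G := (a ⟨σ, hσP⟩ : G) with hτ
    have hτP : τ ∈ P := (a ⟨σ, hσP⟩).2
    have hτo : orderOf τ = p := by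
      rw [hτ, Subgroup.orderOf_coe, MulEquiv.orderOf_eq, ← Subgroup.orderOf_coe]
      exact hσ
    obtain ⟨c, hc⟩ := isConj_iff.mp (hconj τ hτP hτo)
    have hcN : c ∈ Subgroup.normalizer (P : Set G) := by
      apply Subgroup.mem_normalizer_fintype
      intro n hn
      have hn' : n ∈ Subgroup.zpowers σ := by rw [hPz]; exact hn
      obtain ⟨k, rfl⟩ := Subgroup.mem_zpowers_iff.mp hn'
      have : c * σ ^ k * c⁻¹ = (c * σ * c⁻¹) ^ k := by
        rw [conj_zpow]
      rw [this, hc]
      exact P.zpow_mem hτP k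
    refine ⟨⟨c, hcN⟩, ?_⟩
    -- two automorphisms of P agreeing on σ are equal
    apply MulEquiv.ext
    intro x
    have hx' : (x : G) ∈ Subgroup.zpowers σ := by rw [hPz]; exact x.2
    obtain ⟨k, hk⟩ := Subgroup.mem_zpowers_iff.mp hx'
    have hxk : x = (⟨σ, hσP⟩ : ↥P) ^ k := by
      apply Subtype.ext
      rw [Subgroup.coe_zpow]
      exact hk.symm
    rw [hxk, map_zpow, map_zpow]
    congr 1
    apply Subtype.ext
    rw [Subgroup.normalizerMonoidHom_apply_apply_coe]
    exact hc
  have h1 : (Subgroup.centralizer (P : Set G)).relIndex (Subgroup.normalizer (P : Set G))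
      = Nat.card (MulAut ↥P) := by
    rw [Subgroup.relIndex, ← Subgroup.normalizerMonoidHom_ker, Subgroup.index_ker,
      MonoidHom.range_eq_top.mpr hsurj]
    exact Nat.card_congr Subgroup.topEquiv.toEquiv
  rw [h1, IsCyclic.card_mulAut, hP, Nat.totient_prime hp]

/-- `[K : H] * |H| = |K|` for `H ≤ K`. -/
theorem relIndex_mul_card {G : Type*} [Group G] {H K : Subgroup G} (h : H ≤ K) :
    H.relIndex K * Nat.card ↥H = Nat.card ↥K := by
  have h1 := (H.subgroupOf K).index_mul_card
  rwa [Nat.card_congr (Subgroup.subgroupOfEquivOfLe h).toEquiv] at h1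

/-- The normalizer of a Sylow `p`-subgroup of `Perm α`, `|α| ∈ {p, p+1}`, has order `p(p-1)`. -/
theorem card_normalizer_sylow_perm {α : Type*} [Fintype α] [DecidableEq α] (p : ℕ) [Fact p.Prime]
    (hα : Fintype.card α = p ∨ Fintype.card α = p + 1) (P : Sylow p (Equiv.Perm α)) :
    Nat.card ↥(P : Subgroup (Equiv.Perm α)) = p ∧
    Nat.card ↥(Subgroup.normalizer ((P : Subgroup (Equiv.Perm α)) : Set (Equiv.Perm α))) = p * (p - 1) := by
  classical
  have hp : p.Prime := Fact.out
  have hp1 : p - 1 + 1 = p := by have := hp.one_lt; omega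
  have hnd := prime_not_dvd_factorial_pred hp
  have hfac : p.factorial = (p - 1).factorial * p := by
    conv_lhs => rw [← hp1, Nat.factorial_succ, hp1]
    ring
  obtain ⟨m, hm, hmd⟩ : ∃ m, Nat.card (Equiv.Perm α) = m * p ∧ ¬ p ∣ m := by
    rw [Nat.card_eq_fintype_card, Fintype.card_perm]
    rcases hα with h | h
    · exact ⟨(p - 1).factorial, by rw [h, hfac], hnd⟩
    · refine ⟨(p + 1) * (p - 1).factorial, by rw [h, Nat.factorial_succ, hfac]; ring, ?_⟩
      intro hd
      rcases (Nat.Prime.dvd_mul hp).mp hd with h' | h'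
      · have : p ∣ 1 := (Nat.dvd_add_right (dvd_refl p)).mp h'
        exact hp.one_lt.ne' (Nat.dvd_one.mp this)
      · exact hnd h'
  obtain ⟨hPcard, -⟩ := sylow_card_of_card_eq m hm hmd P
  refine ⟨hPcard, ?_⟩
  have hα2 : Fintype.card α < 2 * p := by
    have := hp.one_lt
    rcases hα with h | h <;> omega
  have hcyc : IsCyclic ↥(P : Subgroup (Equiv.Perm α)) := isCyclic_of_prime_card hPcard
  obtain ⟨g, hg⟩ := hcyc.exists_generator
  have hgo : orderOf g = p := by
    rw [orderOf_eq_card_of_forall_mem_zpowers hg, hPcard]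
  set σ : Equiv.Perm α := (g : Equiv.Perm α) with hσdef
  have hσ : orderOf σ = p := by rw [hσdef, Subgroup.orderOf_coe]; exact hgo
  have hct := cycleType_of_orderOf_prime hp hα2 σ hσ
  have hrel := relIndex_centralizer_normalizer_of_conj hp (P : Subgroup (Equiv.Perm α)) hPcard σ g.2 hσ
    (fun τ _ hτ => by
      rw [Equiv.Perm.isConj_iff_cycleType_eq, hct, cycleType_of_orderOf_prime hp hα2 τ hτ])
  have hPz : Subgroup.zpowers σ = (P : Subgroup (Equiv.Perm α)) := by
    apply Subgroup.eq_of_le_of_card_ge (Subgroup.zpowers_le.mpr g.2)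
    rw [Nat.card_zpowers, hσ, hPcard]
  have hC : Nat.card ↥(Subgroup.centralizer ((P : Subgroup (Equiv.Perm α)) : Set (Equiv.Perm α))) = p := by
    rw [← hPz, Subgroup.zpowers_eq_closure, Subgroup.centralizer_closure, Equiv.Perm.nat_card_centralizer, hct]
    have : Fintype.card α - p = 0 ∨ Fintype.card α - p = 1 := by
      rcases hα with h | h <;> omega
    rcases this with h | h <;> simp [h]
  have h2 := relIndex_mul_card (Subgroup.centralizer_le_normalizer ((P : Subgroup (Equiv.Perm α)) : Set (Equiv.Perm α)))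
  rw [hrel, hC] at h2
  rw [← h2, mul_comm]

end Cfsg.Agent.Helper11
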