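import Mathlib

set_option autoImplicit false

namespace Cfsg.Agent.Helper11

/-- A non-commutative simple group is not a `p`-group. -/
theorem simple_not_pgroup {G : Type*} [Group G] [Finite G] [IsSimpleGroup G]
    (hG : ¬ IsMulCommutative G) (p : ℕ) [Fact p.Prime] : ¬ IsPGroup p G := by
  intro h
  apply hG
  have h1 : ⊥ < Subgroup.center G := h.bot_lt_center
  have h2 : Subgroup.center G = ⊤ :=
    ((Subgroup.normal_of_characteristic (Subgroup.center G)).eq_bot_or_eq_top).resolve_left h1.ne'
  refine ⟨⟨fun a b => ?_⟩⟩
  have hb : b ∈ Subgroup.center G := by rw [h2]; trivial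
  exact Subgroup.mem_center_iff.mp hb a

/-- Burnside's transfer theorem applied to a simple group: the normalizer of a nontrivial
Sylow subgroup is not contained in its centralizer. -/
theorem simple_not_normalizer_le_centralizer {G : Type*} [Group G] [Finite G] [IsSimpleGroup G]
    (hG : ¬ IsMulCommutative G) (p : ℕ) [Fact p.Prime] (P : Sylow p G) (hp : p ∣ Nat.card G) :
    ¬ Subgroup.normalizer ((P : Subgroup G) : Set G) ≤ Subgroup.centralizer ((P : Subgroup G) : Set G) := by
  intro hP
  have hc := MonoidHom.ker_transferSylow_isComplement' P hP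
  rcases ((MonoidHom.transferSylow P hP).normal_ker).eq_bot_or_eq_top with h | h
  · rw [h, Subgroup.isComplement'_bot_left] at hc
    apply simple_not_pgroup hG p
    have := P.2
    rw [hc] at this
    exact IsPGroup.of_equiv this Subgroup.topEquiv
  · rw [h, Subgroup.isComplement'_top_left] at hc
    exact P.ne_bot_of_dvd_card hp hc

/-- `N(H)/C(H)` embeds in `Aut(H)`. -/
theorem relIndex_centralizer_normalizer_dvd_card_mulAut {G : Type*} [Group G] [Finite G] (H : Subgroup G) :
    (Subgroup.centralizer (H : Set G)).relIndex (Subgroup.normalizer (H : Set G)) ∣ Nat.card (MulAut ↥H) := by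
  have key := Subgroup.card_dvd_of_injective _ (QuotientGroup.kerLift_injective H.normalizerMonoidHom)
  rwa [Subgroup.normalizerMonoidHom_ker, ← Subgroup.index, ← Subgroup.relIndex] at key

/-- The automorphism group of a group of order `n` has order dividing `(n-1)!`. -/
theorem card_mulAut_dvd_factorial (T : Type*) [Group T] [Finite T] :
    Nat.card (MulAut T) ∣ (Nat.card T - 1).factorial := by
  classical
  have : Fintype T := Fintype.ofFinite T
  let f : MulAut T →* Equiv.Perm {t : T // t ≠ 1} :=
    { toFun := fun φ => Equiv.subtypeEquiv φ.toEquiv (fun t => by simp)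
      map_one' := by ext; rfl
      map_mul' := fun φ ψ => by ext; rfl }
  have hf : Function.Injective f := by
    intro φ ψ h
    ext t
    by_cases ht : t = 1
    · subst ht; simp
    · have := congrArg (fun σ : Equiv.Perm {t : T // t ≠ 1} => (σ ⟨t, ht⟩ : T)) h
      exact this
  have h1 := Subgroup.card_dvd_of_injective f hf
  have h2 : Nat.card (Equiv.Perm {t : T // t ≠ 1}) = (Nat.card T - 1).factorial := by
    rw [Nat.card_eq_fintype_card, Fintype.card_perm, Nat.card_eq_fintype_card]
    congr 1
    rw [Fintype.card_subtype_compl, Fintype.card_subtype_eq]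
  rwa [h2] at h1

end Cfsg.Agent.Helper11
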