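import Mathlib
import Cfsg.Agent.Helper11.PermSylow
import Cfsg.Agent.Helper11.Transfer
import Cfsg.Agent.S0991

set_option autoImplicit false

namespace Cfsg.Agent.Helper11

/-- A simple group of non-prime order is not commutative. -/
theorem simple_noncomm_of_card {G : Type*} [Group G] [Finite G] [IsSimpleGroup G]
    (h : ¬ (Nat.card G).Prime) : ¬ IsMulCommutative G := by
  intro hc
  apply h
  letI : CommGroup G := { (inferInstance : Group G) with mul_comm := hc.is_comm.comm }
  exact IsSimpleGroup.prime_card

/-- The order of `Perm α`, `|α| ∈ {p, p+1}`, is `m * p` with `p ∤ m`. -/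
theorem card_perm_eq_mul_prime {α : Type*} [Fintype α] [DecidableEq α] (p : ℕ) [Fact p.Prime]
    (hα : Fintype.card α = p ∨ Fintype.card α = p + 1) :
    ∃ m, Nat.card (Equiv.Perm α) = m * p ∧ ¬ p ∣ m := by
  have hp : p.Prime := Fact.out
  have hp1 : p - 1 + 1 = p := by have := hp.one_lt; omega
  have hnd := prime_not_dvd_factorial_pred hp
  have hfac : p.factorial = (p - 1).factorial * p := by
    conv_lhs => rw [← hp1, Nat.factorial_succ, hp1]
    ring
  rw [Nat.card_eq_fintype_card, Fintype.card_perm]
  rcases hα with h | h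
  · exact ⟨(p - 1).factorial, by rw [h, hfac], hnd⟩
  · refine ⟨(p + 1) * (p - 1).factorial, by rw [h, Nat.factorial_succ, hfac]; ring, ?_⟩
    intro hd
    rcases (Nat.Prime.dvd_mul hp).mp hd with h' | h'
    · have : p ∣ 1 := (Nat.dvd_add_right (dvd_refl p)).mp h'
      exact hp.one_lt.ne' (Nat.dvd_one.mp this)
    · exact hnd h'

/-- For `p` odd, the normalizer in the alternating group of a Sylow `p`-subgroup of `Perm α`
has half the order of the full normalizer. -/
theorem two_mul_card_alternating_inf_normalizer {α : Type*} [Fintype α] [DecidableEq α]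
    (hα : 2 ≤ Fintype.card α) (p : ℕ) [Fact p.Prime] (P : Sylow p (Equiv.Perm α))
    (hPA : (P : Subgroup (Equiv.Perm α)) ≤ alternatingGroup α) :
    2 * Nat.card ↥(alternatingGroup α ⊓ Subgroup.normalizer ((P : Subgroup (Equiv.Perm α)) : Set (Equiv.Perm α)))
      = Nat.card ↥(Subgroup.normalizer ((P : Subgroup (Equiv.Perm α)) : Set (Equiv.Perm α))) := by
  classical
  have : Nontrivial α := Fintype.one_lt_card_iff_nontrivial.mp (by omega)
  set A := alternatingGroup α with hA
  set N := Subgroup.normalizer ((P : Subgroup (Equiv.Perm α)) : Set (Equiv.Perm α)) with hN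
  have hfrat : N ⊔ A = ⊤ := Sylow.normalizer_sup_eq_top' P hPA
  have h1 : A.relIndex N = 2 := by
    have := Subgroup.relIndex_sup_right (H := N) (K := A)
    rw [hfrat, Subgroup.relIndex_top_right, alternatingGroup.index_eq_two] at this
    exact this.symm
  have h2 : (A ⊓ N).relIndex N = 2 := by rw [Subgroup.inf_relIndex_right, h1]
  have h3 := relIndex_mul_card (inf_le_right : A ⊓ N ≤ N)
  rw [h2] at h3
  exact h3

/-- A non-abelian simple group with a proper subgroup of index `k` has order dividing `k!/2`. -/
theorem simple_two_mul_card_dvd_factorial {G : Type*} [Group G] [Finite G] [IsSimpleGroup G]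
    (hG : ¬ IsMulCommutative G) (H : Subgroup G) (hH : H ≠ ⊤) :
    2 * Nat.card G ∣ (H.index).factorial := by
  classical
  obtain ⟨f, hf⟩ := Cfsg.Agent.S0991.result hG H hH
  have h1 : Nat.card G ∣ Nat.card ↥(alternatingGroup (Fin H.index)) := Subgroup.card_dvd_of_injective f hf
  have hidx : 2 ≤ H.index := by
    have h0 : H.index ≠ 0 := Subgroup.index_ne_zero_of_finite
    have h1' : H.index ≠ 1 := fun h => hH (Subgroup.index_eq_one.mp h)
    omega
  have : Nontrivial (Fin H.index) := Fin.nontrivial_iff_two_le.mpr hidx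
  have h2 := two_mul_nat_card_alternatingGroup (α := Fin H.index)
  rw [Nat.card_eq_fintype_card (α := Equiv.Perm (Fin H.index)), Fintype.card_perm, Fintype.card_fin] at h2
  rw [← h2]
  exact Nat.mul_dvd_mul_left 2 h1

/-- Let `G` be non-abelian simple with a subgroup of index `p` or `p + 1` (`p` an odd prime) and a
Sylow `p`-subgroup `P` of order `p`. Then `2 * |N_G(P)|` divides `p (p - 1)`. -/
theorem simple_normalizer_dvd_of_index {G : Type*} [Group G] [Finite G] [IsSimpleGroup G]
    (hG : ¬ IsMulCommutative G) (p : ℕ) [Fact p.Prime] (hp2 : p ≠ 2) (H : Subgroup G)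
    (hH : H.index = p ∨ H.index = p + 1) (P : Sylow p G) (hP : Nat.card ↥(P : Subgroup G) = p) :
    2 * Nat.card ↥(Subgroup.normalizer ((P : Subgroup G) : Set G)) ∣ p * (p - 1) := by
  classical
  have hp : p.Prime := Fact.out
  have hHtop : H ≠ ⊤ := by
    intro h
    rw [h, Subgroup.index_top] at hH
    have := hp.one_lt
    omega
  obtain ⟨f, hf⟩ := Cfsg.Agent.S0991.result hG H hHtop
  set φ : G →* Equiv.Perm (Fin H.index) := (alternatingGroup (Fin H.index)).subtype.comp f with hφ
  have hφinj : Function.Injective φ := fun a b hab => hf (Subtype.ext hab)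
  have hφA : ∀ g, φ g ∈ alternatingGroup (Fin H.index) := fun g => (f g).2
  have hcardFin : Fintype.card (Fin H.index) = p ∨ Fintype.card (Fin H.index) = p + 1 := by
    rw [Fintype.card_fin]; exact hH
  obtain ⟨m, hm, hmd⟩ := card_perm_eq_mul_prime p hcardFin
  have hPmap : Nat.card ↥((P : Subgroup G).map φ) = p := by
    exact (Nat.card_congr ((P : Subgroup G).equivMapOfInjective φ hφinj).toEquiv.symm).trans hP
  set P' : Sylow p (Equiv.Perm (Fin H.index)) := sylowOfCardPrime m hm hmd _ hPmap with hP'
  have hP'A : (P' : Subgroup (Equiv.Perm (Fin H.index))) ≤ alternatingGroup (Fin H.index) := by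
    rintro _ ⟨g, -, rfl⟩
    exact hφA g
  have h2 : 2 ≤ Fintype.card (Fin H.index) := by
    have := hp.two_le
    rcases hcardFin with h | h <;> omega
  have h3 := two_mul_card_alternating_inf_normalizer h2 p P' hP'A
  have h4 := (card_normalizer_sylow_perm p hcardFin P').2
  rw [h4] at h3
  rw [← h3]
  apply Nat.mul_dvd_mul_left
  have h5 : (Subgroup.normalizer ((P : Subgroup G) : Set G)).map φ ≤
      alternatingGroup (Fin H.index) ⊓ Subgroup.normalizer ((P' : Subgroup (Equiv.Perm (Fin H.index))) : Set (Equiv.Perm (Fin H.index))) := by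
    apply le_inf
    · rintro _ ⟨g, -, rfl⟩
      exact hφA g
    · exact Subgroup.le_normalizer_map φ
  have h6 := Subgroup.card_dvd_of_le h5
  rwa [Nat.card_congr ((Subgroup.normalizer ((P : Subgroup G) : Set G)).equivMapOfInjective φ hφinj).toEquiv.symm] at h6

/-- In a non-abelian simple group, for a Sylow `p`-subgroup `P` of order `p`, the index
`[N(P) : C(P)]` is a nontrivial divisor of `p - 1`, and `[N(P):C(P)] * p` divides `|N(P)|`. -/
theorem simple_automizer_prime {G : Type*} [Group G] [Finite G] [IsSimpleGroup G]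
    (hG : ¬ IsMulCommutative G) (p : ℕ) [Fact p.Prime] (P : Sylow p G)
    (hP : Nat.card ↥(P : Subgroup G) = p) :
    ∃ r, r ≠ 1 ∧ r ∣ p - 1 ∧ r * p ∣ Nat.card ↥(Subgroup.normalizer ((P : Subgroup G) : Set G)) := by
  have hp : p.Prime := Fact.out
  refine ⟨(Subgroup.centralizer ((P : Subgroup G) : Set G)).relIndex (Subgroup.normalizer ((P : Subgroup G) : Set G)), ?_, ?_, ?_⟩
  · intro h
    have hpd : p ∣ Nat.card G := by
      rw [← hP]; exact Subgroup.card_subgroup_dvd_card _
    exact simple_not_normalizer_le_centralizer hG p P hpd (Subgroup.relIndex_eq_one.mp h)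
  · have h1 := relIndex_centralizer_normalizer_dvd_card_mulAut (P : Subgroup G)
    have : IsCyclic ↥(P : Subgroup G) := isCyclic_of_prime_card hP
    rwa [IsCyclic.card_mulAut, hP, Nat.totient_prime hp] at h1
  · have h1 := relIndex_mul_card (Subgroup.centralizer_le_normalizer ((P : Subgroup G) : Set G))
    rw [← h1]
    apply Nat.mul_dvd_mul_left
    have : IsCyclic ↥(P : Subgroup G) := isCyclic_of_prime_card hP
    have hle : (P : Subgroup G) ≤ Subgroup.centralizer ((P : Subgroup G) : Set G) := Subgroup.le_centralizer _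
    have := Subgroup.card_dvd_of_le hle
    rwa [hP] at this

end Cfsg.Agent.Helper11
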