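import Mathlib
import Cfsg.Agent.Helper11.SimpleTools

set_option autoImplicit false

namespace Cfsg.Agent.Helper11

/-- If `|G| = m * p ^ a` with `p ∤ m`, a Sylow `p`-subgroup has order `p ^ a` and index `m`. -/
theorem sylow_card_of_card_eq_pow {G : Type*} [Group G] [Finite G] {p : ℕ} [Fact p.Prime] (m a : ℕ)
    (hG : Nat.card G = m * p ^ a) (hm : ¬ p ∣ m) (P : Sylow p G) :
    Nat.card ↥(P : Subgroup G) = p ^ a ∧ (P : Subgroup G).index = m := by
  have hp : p.Prime := Fact.out
  have hm0 : m ≠ 0 := by rintro rfl; exact hm (dvd_zero p)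
  have hfac : (Nat.card G).factorization p = a := by
    rw [hG, Nat.factorization_mul hm0 (pow_ne_zero a hp.ne_zero)]
    simp [Nat.factorization_eq_zero_of_not_dvd hm, hp.factorization_self]
  have h1 : Nat.card ↥(P : Subgroup G) = p ^ a := by
    rw [Sylow.card_eq_multiplicity, hfac]
  refine ⟨h1, ?_⟩
  have h2 := (P : Subgroup G).index_mul_card
  rw [h1, hG] at h2
  exact Nat.eq_of_mul_eq_mul_right (pow_pos hp.pos a) h2

/-- The number of Sylow `p`-subgroups is a divisor of `m` congruent to `1` mod `p`. -/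
theorem card_sylow_mem_filter {G : Type*} [Group G] [Finite G] {p : ℕ} [Fact p.Prime] (m a : ℕ)
    (hG : Nat.card G = m * p ^ a) (hm : ¬ p ∣ m) :
    Nat.card (Sylow p G) ∈ (Nat.divisors m).filter (fun d => d % p = 1) := by
  have hp : p.Prime := Fact.out
  have hm0 : m ≠ 0 := by rintro rfl; exact hm (dvd_zero p)
  obtain ⟨P⟩ : Nonempty (Sylow p G) := inferInstance
  obtain ⟨-, hidx⟩ := sylow_card_of_card_eq_pow m a hG hm P
  rw [Finset.mem_filter, Nat.mem_divisors]
  refine ⟨⟨hidx ▸ P.card_dvd_index, hm0⟩, ?_⟩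
  have h := card_sylow_modEq_one p G
  unfold Nat.ModEq at h
  rw [h, Nat.mod_eq_of_lt hp.one_lt]

/-- A non-abelian simple group has more than one Sylow `p`-subgroup for each prime divisor `p`. -/
theorem simple_card_sylow_ne_one {G : Type*} [Group G] [Finite G] [IsSimpleGroup G]
    (hG : ¬ IsMulCommutative G) (p : ℕ) [Fact p.Prime] (hp : p ∣ Nat.card G) :
    Nat.card (Sylow p G) ≠ 1 := by
  intro h
  have : Subsingleton (Sylow p G) := (Nat.card_eq_one_iff_unique.mp h).1
  obtain ⟨P⟩ : Nonempty (Sylow p G) := inferInstance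
  have hn : (P : Subgroup G).Normal := P.normal_of_subsingleton
  rcases hn.eq_bot_or_eq_top with h1 | h1
  · exact P.ne_bot_of_dvd_card hp h1
  · apply simple_not_pgroup hG p
    have := P.2
    rw [h1] at this
    exact IsPGroup.of_equiv this Subgroup.topEquiv

/-- In a simple non-abelian group the normalizer of a Sylow subgroup (for a prime divisor) is proper. -/
theorem simple_normalizer_sylow_ne_top {G : Type*} [Group G] [Finite G] [IsSimpleGroup G]
    (hG : ¬ IsMulCommutative G) (p : ℕ) [Fact p.Prime] (hp : p ∣ Nat.card G) (P : Sylow p G) :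
    Subgroup.normalizer ((P : Subgroup G) : Set G) ≠ ⊤ := by
  intro h
  apply simple_card_sylow_ne_one hG p hp
  rw [P.card_eq_index_normalizer]
  change (Subgroup.normalizer ((P : Subgroup G) : Set G)).index = 1
  rw [h, Subgroup.index_top]

/-- In a simple non-abelian group, `2 * |G|` divides `n_p !`. -/
theorem simple_two_mul_card_dvd_factorial_card_sylow {G : Type*} [Group G] [Finite G] [IsSimpleGroup G]
    (hG : ¬ IsMulCommutative G) (p : ℕ) [Fact p.Prime] (hp : p ∣ Nat.card G) :
    2 * Nat.card G ∣ (Nat.card (Sylow p G)).factorial := by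
  obtain ⟨P⟩ : Nonempty (Sylow p G) := inferInstance
  have h := simple_two_mul_card_dvd_factorial hG _ (simple_normalizer_sylow_ne_top hG p hp P)
  rwa [P.card_eq_index_normalizer]

end Cfsg.Agent.Helper11
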