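import Mathlib
import Cfsg.Agent.Helper11.OrderP
import Cfsg.Agent.Helper11.SimpleTools

set_option autoImplicit false

/-!
Automizers of Sylow subgroups of prime order, self-centralizing Sylow subgroups.
-/

namespace Cfsg.Agent.Helper11

/-- In a non-abelian simple group, for a Sylow `p`-subgroup `P` of order `p`, the index
`k = [N(P) : C(P)]` satisfies `k ≠ 1`, `k ∣ p - 1`, `k * |C(P)| = |N(P)|`, `p ∣ |C(P)|`. -/
theorem simple_automizer_data {G : Type*} [Group G] [Finite G] [IsSimpleGroup G]
    (hG : ¬ IsMulCommutative G) (p : ℕ) [Fact p.Prime] (P : Sylow p G)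
    (hP : Nat.card ↥(P : Subgroup G) = p) :
    (Subgroup.centralizer ((P : Subgroup G) : Set G)).relIndex
        (Subgroup.normalizer ((P : Subgroup G) : Set G)) ≠ 1 ∧
    (Subgroup.centralizer ((P : Subgroup G) : Set G)).relIndex
        (Subgroup.normalizer ((P : Subgroup G) : Set G)) ∣ p - 1 ∧
    (Subgroup.centralizer ((P : Subgroup G) : Set G)).relIndex
        (Subgroup.normalizer ((P : Subgroup G) : Set G)) *
      Nat.card ↥(Subgroup.centralizer ((P : Subgroup G) : Set G)) =
      Nat.card ↥(Subgroup.normalizer ((P : Subgroup G) : Set G)) ∧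
    p ∣ Nat.card ↥(Subgroup.centralizer ((P : Subgroup G) : Set G)) := by
  have hp : p.Prime := Fact.out
  refine ⟨?_, ?_, ?_, ?_⟩
  · intro h
    have hpd : p ∣ Nat.card G := by
      rw [← hP]; exact Subgroup.card_subgroup_dvd_card _
    exact simple_not_normalizer_le_centralizer hG p P hpd (Subgroup.relIndex_eq_one.mp h)
  · have h1 := relIndex_centralizer_normalizer_dvd_card_mulAut (P : Subgroup G)
    have : IsCyclic ↥(P : Subgroup G) := isCyclic_of_prime_card hP
    rwa [IsCyclic.card_mulAut, hP, Nat.totient_prime hp] at h1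
  · exact relIndex_mul_card (Subgroup.centralizer_le_normalizer ((P : Subgroup G) : Set G))
  · have : IsCyclic ↥(P : Subgroup G) := isCyclic_of_prime_card hP
    have hle : (P : Subgroup G) ≤ Subgroup.centralizer ((P : Subgroup G) : Set G) :=
      Subgroup.le_centralizer _
    have := Subgroup.card_dvd_of_le hle
    rwa [hP] at this

/-- If the Sylow `p`-subgroups have order `p` and are self-centralizing, then every element of
order divisible by `p` has order `p`. -/
theorem orderOf_eq_prime_of_dvd {G : Type*} [Group G] [Finite G] {p : ℕ} [Fact p.Prime]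
    (hS : ∀ Q : Sylow p G, Nat.card ↥(Q : Subgroup G) = p)
    (hC : ∀ Q : Sylow p G, Nat.card ↥(Subgroup.centralizer ((Q : Subgroup G) : Set G)) = p)
    (g : G) (hg : p ∣ orderOf g) : orderOf g = p := by
  have hp : p.Prime := Fact.out
  have ho : orderOf g ≠ 0 := (orderOf_pos g).ne'
  set h := g ^ (orderOf g / p) with hh
  have hho : orderOf h = p := orderOf_pow_orderOf_div ho hg
  have hh1 : h ≠ 1 := by
    intro h1
    rw [h1, orderOf_one] at hho
    exact hp.one_lt.ne hho
  have hpg : IsPGroup p ↥(Subgroup.zpowers h) := by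
    apply IsPGroup.of_card (n := 1)
    rw [Nat.card_zpowers, hho, pow_one]
  obtain ⟨Q, hQ⟩ := hpg.exists_le_sylow
  have hhQ : h ∈ (Q : Subgroup G) := hQ (Subgroup.mem_zpowers h)
  have hQh : (Q : Subgroup G) = Subgroup.zpowers h := eq_zpowers_of_card_prime _ (hS Q) h hhQ hh1
  have hgC : g ∈ Subgroup.centralizer ((Q : Subgroup G) : Set G) := by
    rw [Subgroup.mem_centralizer_iff]
    intro y hy
    have hy' : y ∈ Subgroup.zpowers h := by rw [← hQh]; exact hy
    obtain ⟨k, rfl⟩ := Subgroup.mem_zpowers_iff.1 hy'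
    have hc : Commute h g := by
      rw [hh]
      exact (Commute.refl g).pow_left _
    exact (hc.zpow_left k).eq
  have hdvd : orderOf g ∣ p := by
    rw [← hC Q]
    exact Subgroup.orderOf_dvd_natCard _ hgC
  rcases (Nat.dvd_prime hp).1 hdvd with h1 | h1
  · exfalso
    rw [h1] at hg
    exact hp.one_lt.ne' (Nat.dvd_one.1 hg)
  · exact h1

/-- An element of `p`-power order lies in some Sylow `p`-subgroup. -/
theorem exists_sylow_mem_of_orderOf_dvd_pow {G : Type*} [Group G] [Finite G] {p : ℕ} [Fact p.Prime]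
    (g : G) (n : ℕ) (hg : orderOf g ∣ p ^ n) : ∃ Q : Sylow p G, g ∈ (Q : Subgroup G) := by
  have hp : p.Prime := Fact.out
  obtain ⟨k, _, hk⟩ := (Nat.dvd_prime_pow hp).1 hg
  have hpg : IsPGroup p ↥(Subgroup.zpowers g) := by
    apply IsPGroup.of_card (n := k)
    rw [Nat.card_zpowers, hk]
  obtain ⟨Q, hQ⟩ := hpg.exists_le_sylow
  exact ⟨Q, hQ (Subgroup.mem_zpowers g)⟩

/-- The number of elements of `p`-power order is at most `n_p * |P|`. -/
theorem card_pElements_le {G : Type*} [Group G] [Finite G] {p : ℕ} [Fact p.Prime] (n : ℕ)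
    (P : Sylow p G) :
    Nat.card {g : G // orderOf g ∣ p ^ n} ≤ Nat.card (Sylow p G) * Nat.card ↥(P : Subgroup G) := by
  classical
  have : Fintype G := Fintype.ofFinite G
  have : Fintype (Sylow p G) := Fintype.ofFinite _
  rw [Nat.card_eq_fintype_card, Fintype.card_subtype]
  have hsub : (Finset.univ.filter (fun g : G => orderOf g ∣ p ^ n)) ⊆
      (Finset.univ : Finset (Sylow p G)).biUnion (fun Q => Finset.univ.filter (fun g => g ∈ (Q : Subgroup G))) := by
    intro g hg
    rw [Finset.mem_filter] at hg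
    obtain ⟨Q, hQ⟩ := exists_sylow_mem_of_orderOf_dvd_pow g n hg.2
    rw [Finset.mem_biUnion]
    exact ⟨Q, Finset.mem_univ _, Finset.mem_filter.2 ⟨Finset.mem_univ _, hQ⟩⟩
  refine (Finset.card_le_card hsub).trans ?_
  refine Finset.card_biUnion_le.trans ?_
  have hcard : ∀ Q ∈ (Finset.univ : Finset (Sylow p G)),
      (Finset.univ.filter (fun g => g ∈ (Q : Subgroup G))).card = Nat.card ↥(P : Subgroup G) := by
    intro Q _
    rw [sylow_card_eq P Q, Nat.card_eq_fintype_card, Fintype.card_subtype]
  rw [Finset.sum_congr rfl hcard, Finset.sum_const, Finset.card_univ, smul_eq_mul,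
    Nat.card_eq_fintype_card (α := Sylow p G)]

end Cfsg.Agent.Helper11
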