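import Mathlib
import Cfsg.Agent.Helper11.SelfCent
import Cfsg.Agent.Helper11.NoSimple
import Cfsg.Agent.Helper11.SylowCount
import Cfsg.Agent.S1018

set_option autoImplicit false

/-!
Basic facts on a simple group of order 168: Sylow numbers, element orders.
-/

namespace Cfsg.Agent.Helper11.O168

open Cfsg.Agent.Helper11

variable {G : Type*} [Group G] [Finite G] [IsSimpleGroup G]

theorem noncomm (h : Nat.card G = 168) : ¬ IsMulCommutative G :=
  simple_noncomm_of_card (by rw [h]; norm_num)

/-! ### The prime 7 -/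

theorem card_sylow7 (h : Nat.card G = 168) (P : Sylow 7 G) : Nat.card ↥(P : Subgroup G) = 7 := by
  have : Fact (Nat.Prime 7) := ⟨by norm_num⟩
  exact (sylow_card_of_card_eq 24 (by rw [h]) (by norm_num) P).1

theorem n7 (h : Nat.card G = 168) : Nat.card (Sylow 7 G) = 8 := by
  have : Fact (Nat.Prime 7) := ⟨by norm_num⟩
  have hG' : Nat.card G = 24 * 7 ^ 1 := by rw [h]; norm_num
  have hmem := card_sylow_mem_filter 24 1 hG' (by norm_num)
  have hfilt : (Nat.divisors 24).filter (fun d => d % 7 = 1) = {1, 8} := by decide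
  rw [hfilt] at hmem
  simp only [Finset.mem_insert, Finset.mem_singleton] at hmem
  rcases hmem with h1 | h1
  · exact absurd h1 (simple_card_sylow_ne_one (noncomm h) 7 (by rw [h]; norm_num))
  · exact h1

theorem card_normalizer7 (h : Nat.card G = 168) (P : Sylow 7 G) :
    Nat.card ↥(Subgroup.normalizer ((P : Subgroup G) : Set G)) = 21 := by
  have : Fact (Nat.Prime 7) := ⟨by norm_num⟩
  have h2 := card_sylow_mul_card_normalizer P
  rw [n7 h, h] at h2
  omega

theorem card_centralizer7 (h : Nat.card G = 168) (P : Sylow 7 G) :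
    Nat.card ↥(Subgroup.centralizer ((P : Subgroup G) : Set G)) = 7 := by
  have : Fact (Nat.Prime 7) := ⟨by norm_num⟩
  obtain ⟨h1, h2, h3, h4⟩ := simple_automizer_data (noncomm h) 7 P (card_sylow7 h P)
  rw [card_normalizer7 h P] at h3
  set k := (Subgroup.centralizer ((P : Subgroup G) : Set G)).relIndex
        (Subgroup.normalizer ((P : Subgroup G) : Set G)) with hk
  set c := Nat.card ↥(Subgroup.centralizer ((P : Subgroup G) : Set G)) with hc
  have hk6 : k ∣ 6 := h2
  have hkmem : k ∈ Nat.divisors 6 := Nat.mem_divisors.2 ⟨hk6, by norm_num⟩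
  have hcmem : c ∈ Nat.divisors 21 := Nat.mem_divisors.2 ⟨Dvd.intro_left k h3, by norm_num⟩
  have hdec : ∀ k ∈ Nat.divisors 6, ∀ c ∈ Nat.divisors 21, k ≠ 1 → k * c = 21 → 7 ∣ c → c = 7 := by
    decide
  exact hdec k hkmem c hcmem h1 h3 h4

theorem orderOf_eq_seven (h : Nat.card G = 168) (g : G) (hg : 7 ∣ orderOf g) : orderOf g = 7 := by
  have : Fact (Nat.Prime 7) := ⟨by norm_num⟩
  exact orderOf_eq_prime_of_dvd (card_sylow7 h) (card_centralizer7 h) g hg

/-- Elements of `N(P₇) \ P₇` have order 3. -/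
theorem orderOf_eq_three_of_mem_normalizer7 (h : Nat.card G = 168) (P : Sylow 7 G) (g : G)
    (hgF : g ∈ Subgroup.normalizer ((P : Subgroup G) : Set G)) (hgP : g ∉ (P : Subgroup G)) :
    orderOf g = 3 := by
  have : Fact (Nat.Prime 7) := ⟨by norm_num⟩
  have ho : orderOf g ∣ 21 := by
    rw [← card_normalizer7 h P]
    exact Subgroup.orderOf_dvd_natCard _ hgF
  have hdec : ∀ d ∈ Nat.divisors 21, d = 1 ∨ d = 3 ∨ 7 ∣ d := by decide
  rcases hdec _ (Nat.mem_divisors.2 ⟨ho, by norm_num⟩) with h1 | h1 | h1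
  · exfalso
    apply hgP
    rw [orderOf_eq_one_iff.1 h1]
    exact Subgroup.one_mem _
  · exact h1
  · exfalso
    apply hgP
    exact Cfsg.Agent.S1018.mem_sylow_of_mem_normalizer P g (orderOf_eq_seven h g h1) hgF

/-! ### The prime 3 -/

theorem card_sylow3 (h : Nat.card G = 168) (P : Sylow 3 G) : Nat.card ↥(P : Subgroup G) = 3 := by
  have : Fact (Nat.Prime 3) := ⟨by norm_num⟩
  exact (sylow_card_of_card_eq 56 (by rw [h]) (by norm_num) P).1

theorem n3 (h : Nat.card G = 168) : Nat.card (Sylow 3 G) = 28 := by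
  classical
  have : Fact (Nat.Prime 3) := ⟨by norm_num⟩
  have : Fact (Nat.Prime 7) := ⟨by norm_num⟩
  have hG' : Nat.card G = 56 * 3 ^ 1 := by rw [h]; norm_num
  have hmem := card_sylow_mem_filter 56 1 hG' (by norm_num)
  have hfilt : (Nat.divisors 56).filter (fun d => d % 3 = 1) = {1, 4, 7, 28} := by decide
  rw [hfilt] at hmem
  simp only [Finset.mem_insert, Finset.mem_singleton] at hmem
  have h3G : 3 ∣ Nat.card G := by rw [h]; norm_num
  rcases hmem with h1 | h1 | h1 | h1
  · exact absurd h1 (simple_card_sylow_ne_one (noncomm h) 3 h3G)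
  · exfalso
    have h2 := simple_two_mul_card_dvd_factorial_card_sylow (noncomm h) 3 h3G
    rw [h1, h] at h2
    norm_num [Nat.factorial] at h2
  · exfalso
    obtain ⟨P3⟩ : Nonempty (Sylow 3 G) := inferInstance
    obtain ⟨P⟩ : Nonempty (Sylow 7 G) := inferInstance
    have hcount := card_orderOf_eq_prime P3 (card_sylow3 h P3)
    rw [h1] at hcount
    have : Fintype G := Fintype.ofFinite G
    set F := Subgroup.normalizer ((P : Subgroup G) : Set G) with hF
    let s3 : Finset G := Finset.univ.filter (fun g => orderOf g = 3)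
    let sF : Finset G := Finset.univ.filter (fun g => g ∈ F)
    let sP : Finset G := Finset.univ.filter (fun g => g ∈ (P : Subgroup G))
    have hs3 : s3.card = 14 := by
      rw [Nat.card_eq_fintype_card, Fintype.card_subtype] at hcount
      exact hcount
    have hsF : sF.card = 21 := by
      rw [← card_normalizer7 h P, Nat.card_eq_fintype_card, Fintype.card_subtype]
    have hsP : sP.card = 7 := by
      rw [← card_sylow7 h P, Nat.card_eq_fintype_card, Fintype.card_subtype]
    have hPF : sP ⊆ sF := by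
      intro g hg
      rw [Finset.mem_filter] at hg ⊢
      exact ⟨hg.1, Subgroup.le_normalizer hg.2⟩
    have hdiff : (sF \ sP).card = 14 := by
      rw [Finset.card_sdiff_of_subset hPF, hsF, hsP]
    have hsub : sF \ sP ⊆ s3 := by
      intro g hg
      rw [Finset.mem_sdiff, Finset.mem_filter, Finset.mem_filter] at hg
      rw [Finset.mem_filter]
      exact ⟨Finset.mem_univ _, orderOf_eq_three_of_mem_normalizer7 h P g hg.1.2 (fun hh => hg.2 ⟨Finset.mem_univ _, hh⟩)⟩
    have heq : sF \ sP = s3 := Finset.eq_of_subset_of_card_le hsub (by rw [hs3, hdiff])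
    have hne : (sF \ sP).Nonempty := by
      rw [← Finset.card_pos, hdiff]; norm_num
    obtain ⟨x, hx⟩ := hne
    have hx3 : orderOf x = 3 := by
      have := hsub hx
      exact (Finset.mem_filter.1 this).2
    have hcore : x ∈ F.normalCore := by
      intro b
      have hb3 : orderOf (b * x * b⁻¹) = 3 := by
        have := Cfsg.Agent.S1018.orderOf_conj' b⁻¹ x
        rw [inv_inv] at this
        rw [this, hx3]
      have hmem : b * x * b⁻¹ ∈ s3 := Finset.mem_filter.2 ⟨Finset.mem_univ _, hb3⟩
      rw [← heq, Finset.mem_sdiff, Finset.mem_filter] at hmem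
      exact hmem.1.2
    rcases (F.normalCore_normal).eq_bot_or_eq_top with hb | ht
    · rw [hb, Subgroup.mem_bot] at hcore
      rw [hcore, orderOf_one] at hx3
      norm_num at hx3
    · have hFtop : F = ⊤ := top_le_iff.1 (ht ▸ F.normalCore_le)
      have := card_normalizer7 h P
      rw [← hF, hFtop, Subgroup.card_top, h] at this
      norm_num at this
  · exact h1

theorem card_normalizer3 (h : Nat.card G = 168) (P : Sylow 3 G) :
    Nat.card ↥(Subgroup.normalizer ((P : Subgroup G) : Set G)) = 6 := by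
  have : Fact (Nat.Prime 3) := ⟨by norm_num⟩
  have h2 := card_sylow_mul_card_normalizer P
  rw [n3 h, h] at h2
  omega

theorem card_centralizer3 (h : Nat.card G = 168) (P : Sylow 3 G) :
    Nat.card ↥(Subgroup.centralizer ((P : Subgroup G) : Set G)) = 3 := by
  have : Fact (Nat.Prime 3) := ⟨by norm_num⟩
  obtain ⟨h1, h2, h3, h4⟩ := simple_automizer_data (noncomm h) 3 P (card_sylow3 h P)
  rw [card_normalizer3 h P] at h3
  set k := (Subgroup.centralizer ((P : Subgroup G) : Set G)).relIndex
        (Subgroup.normalizer ((P : Subgroup G) : Set G)) with hk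
  set c := Nat.card ↥(Subgroup.centralizer ((P : Subgroup G) : Set G)) with hc
  have hk2 : k ∣ 2 := h2
  have hkmem : k ∈ Nat.divisors 2 := Nat.mem_divisors.2 ⟨hk2, by norm_num⟩
  have hcmem : c ∈ Nat.divisors 6 := Nat.mem_divisors.2 ⟨Dvd.intro_left k h3, by norm_num⟩
  have hdec : ∀ k ∈ Nat.divisors 2, ∀ c ∈ Nat.divisors 6, k ≠ 1 → k * c = 6 → 3 ∣ c → c = 3 := by
    decide
  exact hdec k hkmem c hcmem h1 h3 h4

theorem orderOf_eq_three (h : Nat.card G = 168) (g : G) (hg : 3 ∣ orderOf g) : orderOf g = 3 := by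
  have : Fact (Nat.Prime 3) := ⟨by norm_num⟩
  exact orderOf_eq_prime_of_dvd (card_sylow3 h) (card_centralizer3 h) g hg

/-- Every element has order 7, 3 or a divisor of 8. -/
theorem orderOf_cases (h : Nat.card G = 168) (g : G) :
    orderOf g = 7 ∨ orderOf g = 3 ∨ orderOf g ∣ 8 := by
  have ho : orderOf g ∣ 168 := h ▸ orderOf_dvd_natCard g
  by_cases h7 : 7 ∣ orderOf g
  · exact Or.inl (orderOf_eq_seven h g h7)
  by_cases h3 : 3 ∣ orderOf g
  · exact Or.inr (Or.inl (orderOf_eq_three h g h3))
  right; right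
  have hdec : ∀ d ∈ Nat.divisors 168, ¬ 7 ∣ d → ¬ 3 ∣ d → d ∣ 8 := by decide
  exact hdec _ (Nat.mem_divisors.2 ⟨ho, by norm_num⟩) h7 h3

/-! ### The prime 2 -/

theorem card_sylow2 (h : Nat.card G = 168) (P : Sylow 2 G) : Nat.card ↥(P : Subgroup G) = 8 := by
  have : Fact (Nat.Prime 2) := ⟨by norm_num⟩
  have := (sylow_card_of_card_eq_pow 21 3 (by rw [h]; norm_num) (by norm_num) P).1
  rw [this]; norm_num

theorem card_orderOf_seven (h : Nat.card G = 168) : Nat.card {g : G // orderOf g = 7} = 48 := by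
  have : Fact (Nat.Prime 7) := ⟨by norm_num⟩
  obtain ⟨P⟩ : Nonempty (Sylow 7 G) := inferInstance
  rw [card_orderOf_eq_prime P (card_sylow7 h P), n7 h]

theorem card_orderOf_three (h : Nat.card G = 168) : Nat.card {g : G // orderOf g = 3} = 56 := by
  have : Fact (Nat.Prime 3) := ⟨by norm_num⟩
  obtain ⟨P⟩ : Nonempty (Sylow 3 G) := inferInstance
  rw [card_orderOf_eq_prime P (card_sylow3 h P), n3 h]

/-- There are exactly 64 elements of order dividing 8. -/
theorem card_orderOf_dvd_eight (h : Nat.card G = 168) :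
    Nat.card {g : G // orderOf g ∣ 8} = 64 := by
  classical
  have : Fintype G := Fintype.ofFinite G
  have h7 := card_orderOf_seven h
  have h3 := card_orderOf_three h
  rw [Nat.card_eq_fintype_card, Fintype.card_subtype] at h7 h3 ⊢
  let s7 : Finset G := Finset.univ.filter (fun g => orderOf g = 7)
  let s3 : Finset G := Finset.univ.filter (fun g => orderOf g = 3)
  let s8 : Finset G := Finset.univ.filter (fun g => orderOf g ∣ 8)
  have hd73 : Disjoint s7 s3 := by
    rw [Finset.disjoint_left]
    intro g hg7 hg3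
    rw [Finset.mem_filter] at hg7 hg3
    omega
  have hd8 : Disjoint (s7 ∪ s3) s8 := by
    rw [Finset.disjoint_left]
    intro g hg hg8
    rw [Finset.mem_union, Finset.mem_filter, Finset.mem_filter] at hg
    rw [Finset.mem_filter] at hg8
    have hdec : ∀ d ∈ Nat.divisors 8, d ≠ 7 ∧ d ≠ 3 := by decide
    have := hdec _ (Nat.mem_divisors.2 ⟨hg8.2, by norm_num⟩)
    rcases hg with hg | hg
    · exact this.1 hg.2
    · exact this.2 hg.2
  have hunion : (s7 ∪ s3) ∪ s8 = Finset.univ := by
    ext g
    simp only [Finset.mem_union, Finset.mem_filter, Finset.mem_univ, true_and, iff_true, s7, s3, s8]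
    rcases orderOf_cases h g with h1 | h1 | h1
    · exact Or.inl (Or.inl h1)
    · exact Or.inl (Or.inr h1)
    · exact Or.inr h1
  have hcard := congrArg Finset.card hunion
  rw [Finset.card_union_of_disjoint hd8, Finset.card_union_of_disjoint hd73, Finset.card_univ,
    ← Nat.card_eq_fintype_card, h] at hcard
  change s7.card = 48 at h7
  change s3.card = 56 at h3
  change s8.card = 64
  omega

theorem n2 (h : Nat.card G = 168) : Nat.card (Sylow 2 G) = 21 := by
  have : Fact (Nat.Prime 2) := ⟨by norm_num⟩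
  have hG' : Nat.card G = 21 * 2 ^ 3 := by rw [h]; norm_num
  have hmem := card_sylow_mem_filter 21 3 hG' (by norm_num)
  have hfilt : (Nat.divisors 21).filter (fun d => d % 2 = 1) = {1, 3, 7, 21} := by decide
  rw [hfilt] at hmem
  simp only [Finset.mem_insert, Finset.mem_singleton] at hmem
  obtain ⟨T⟩ : Nonempty (Sylow 2 G) := inferInstance
  have hle := card_pElements_le (p := 2) 3 T
  rw [card_sylow2 h T] at hle
  have h8 : Nat.card {g : G // orderOf g ∣ 2 ^ 3} = 64 := card_orderOf_dvd_eight h
  rw [h8] at hle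
  rcases hmem with h1 | h1 | h1 | h1 <;> omega

end Cfsg.Agent.Helper11.O168
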