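import Mathlib
import Cfsg.Agent.Helper11.Order168
import Cfsg.Agent.Helper11.Transfer
import Cfsg.Agent.S2270

set_option autoImplicit false

/-!
More on a simple group of order 168: 2-elements, involutions, elements of order 4.
-/

namespace Cfsg.Agent.Helper11.O168

open Cfsg.Agent.Helper11

/-- A group of order 8 whose center has order divisible by 4 is commutative. -/
theorem comm_of_card_eight {T : Type*} [Group T] (hT : Nat.card T = 8)
    (hZ : 4 ∣ Nat.card ↥(Subgroup.center T)) : IsMulCommutative T := by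
  have : Finite T := Nat.finite_of_card_ne_zero (by rw [hT]; norm_num)
  have h1 := Subgroup.card_eq_card_quotient_mul_card_subgroup (Subgroup.center T)
  rw [hT] at h1
  set c := Nat.card ↥(Subgroup.center T) with hc
  set q := Nat.card (T ⧸ Subgroup.center T) with hq
  have hcmem : c ∈ Nat.divisors 8 := Nat.mem_divisors.2 ⟨Dvd.intro_left q h1.symm, by norm_num⟩
  have hqmem : q ∈ Nat.divisors 8 := Nat.mem_divisors.2 ⟨Dvd.intro c h1.symm, by norm_num⟩
  have hdec : ∀ c ∈ Nat.divisors 8, ∀ q ∈ Nat.divisors 8, 8 = q * c → 4 ∣ c → q = 1 ∨ q = 2 := by decide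
  have hcyc : IsCyclic (T ⧸ Subgroup.center T) := by
    rcases hdec c hcmem q hqmem h1 hZ with h2 | h2
    · have : Subsingleton (T ⧸ Subgroup.center T) := (Nat.card_eq_one_iff_unique.1 h2).1
      exact isCyclic_of_subsingleton
    · have : Fact (Nat.Prime 2) := ⟨Nat.prime_two⟩
      exact isCyclic_of_prime_card h2
  exact isMulCommutative_of_isCyclic_quotient_center_self T

variable {G : Type*} [Group G] [Finite G] [IsSimpleGroup G]

theorem card_normalizer2 (h : Nat.card G = 168) (T : Sylow 2 G) :
    Nat.card ↥(Subgroup.normalizer ((T : Subgroup G) : Set G)) = 8 := by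
  have : Fact (Nat.Prime 2) := ⟨by norm_num⟩
  have h2 := card_sylow_mul_card_normalizer T
  rw [n2 h, h] at h2
  omega

theorem normalizer2_eq (h : Nat.card G = 168) (T : Sylow 2 G) :
    Subgroup.normalizer ((T : Subgroup G) : Set G) = (T : Subgroup G) := by
  symm
  apply Subgroup.eq_of_le_of_card_ge Subgroup.le_normalizer
  rw [card_normalizer2 h T, card_sylow2 h T]

/-- A Sylow 2-subgroup is not commutative. -/
theorem sylow2_not_comm (h : Nat.card G = 168) (T : Sylow 2 G) :
    ¬ IsMulCommutative ↥(T : Subgroup G) := by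
  have : Fact (Nat.Prime 2) := ⟨by norm_num⟩
  intro hcomm
  apply simple_not_normalizer_le_centralizer (noncomm h) 2 T (by rw [h]; norm_num)
  rw [normalizer2_eq h T]
  exact Subgroup.le_centralizer _

/-- There is no element of order 8. -/
theorem orderOf_ne_eight (h : Nat.card G = 168) (g : G) : orderOf g ≠ 8 := by
  have : Fact (Nat.Prime 2) := ⟨by norm_num⟩
  intro hg
  obtain ⟨T, hT⟩ := exists_sylow_mem_of_orderOf_dvd_pow (p := 2) g 3 (by rw [hg]; norm_num)
  have hcyc : IsCyclic ↥(T : Subgroup G) := by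
    apply isCyclic_of_orderOf_eq_card (⟨g, hT⟩ : ↥(T : Subgroup G))
    rw [card_sylow2 h T, ← hg]
    exact Subgroup.orderOf_mk g hT
  apply sylow2_not_comm h T
  exact hcyc.isMulCommutative

/-- Element orders are 1, 2, 3, 4 or 7. -/
theorem orderOf_mem (h : Nat.card G = 168) (g : G) :
    orderOf g = 1 ∨ orderOf g = 2 ∨ orderOf g = 3 ∨ orderOf g = 4 ∨ orderOf g = 7 := by
  rcases orderOf_cases h g with h1 | h1 | h1
  · exact Or.inr (Or.inr (Or.inr (Or.inr h1)))
  · exact Or.inr (Or.inr (Or.inl h1))
  · have hdec : ∀ d ∈ Nat.divisors 8, d = 1 ∨ d = 2 ∨ d = 4 ∨ d = 8 := by decide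
    rcases hdec _ (Nat.mem_divisors.2 ⟨h1, by norm_num⟩) with h2 | h2 | h2 | h2
    · exact Or.inl h2
    · exact Or.inr (Or.inl h2)
    · exact Or.inr (Or.inr (Or.inr (Or.inl h2)))
    · exact absurd h2 (orderOf_ne_eight h g)

/-- The centralizer of a non-identity 2-element is a 2-group. -/
theorem card_centralizer_dvd_eight (h : Nat.card G = 168) (x : G) (hx : orderOf x ∣ 8)
    (hx1 : x ≠ 1) : Nat.card ↥(Subgroup.centralizer ({x} : Set G)) ∣ 8 := by
  have : Fact (Nat.Prime 3) := ⟨by norm_num⟩
  have : Fact (Nat.Prime 7) := ⟨by norm_num⟩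
  set C := Subgroup.centralizer ({x} : Set G) with hC
  have hC168 : Nat.card ↥C ∣ 168 := h ▸ Subgroup.card_subgroup_dvd_card C
  have hx1' : orderOf x ≠ 1 := fun h1 => hx1 (orderOf_eq_one_iff.1 h1)
  have key : ∀ p : ℕ, p.Prime → (∀ g : G, p ∣ orderOf g → orderOf g = p) → Nat.Coprime 8 p →
      ¬ p ∣ Nat.card ↥C := by
    intro p hp hpo hcop hdvd
    have : Fact p.Prime := ⟨hp⟩
    obtain ⟨y, hy⟩ := exists_prime_orderOf_dvd_card' p hdvd
    have hy' : orderOf (y : G) = p := by rw [Subgroup.orderOf_coe]; exact hy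
    have hyC : (y : G) ∈ Subgroup.centralizer ({x} : Set G) := y.2
    rw [Subgroup.mem_centralizer_iff] at hyC
    have hcomm : Commute x (y : G) := hyC x rfl
    have hcop' : (orderOf x).Coprime (orderOf (y : G)) := by
      rw [hy']
      exact Nat.Coprime.coprime_dvd_left hx hcop
    have ho := hcomm.orderOf_mul_eq_mul_orderOf_of_coprime hcop'
    rw [hy'] at ho
    have h2 := hpo (x * (y : G)) (by rw [ho]; exact dvd_mul_left p _)
    rw [ho] at h2
    have hppos := hp.pos
    have : orderOf x = 1 := by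
      have : orderOf x * p = 1 * p := by rw [h2, one_mul]
      exact Nat.eq_of_mul_eq_mul_right hppos this
    exact hx1' this
  have h3 := key 3 (by norm_num) (orderOf_eq_three h) (by norm_num)
  have h7 := key 7 (by norm_num) (orderOf_eq_seven h) (by norm_num)
  have hdec : ∀ d ∈ Nat.divisors 168, ¬ 3 ∣ d → ¬ 7 ∣ d → d ∣ 8 := by decide
  exact hdec _ (Nat.mem_divisors.2 ⟨hC168, by norm_num⟩) h3 h7

/-- There is an element of order 4. -/
theorem exists_orderOf_four (h : Nat.card G = 168) : ∃ u : G, orderOf u = 4 := by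
  have : Fact (Nat.Prime 2) := ⟨by norm_num⟩
  by_contra hcon
  push Not at hcon
  obtain ⟨T⟩ : Nonempty (Sylow 2 G) := inferInstance
  apply sylow2_not_comm h T
  have hsq : ∀ t : ↥(T : Subgroup G), t * t = 1 := by
    intro t
    have ho : orderOf (t : G) ∣ 8 := by
      rw [← card_sylow2 h T]
      exact Subgroup.orderOf_dvd_natCard _ t.2
    have hdec : ∀ d ∈ Nat.divisors 8, d = 1 ∨ d = 2 ∨ d = 4 ∨ d = 8 := by decide
    have h2 : (t : G) ^ 2 = 1 := by
      rcases hdec _ (Nat.mem_divisors.2 ⟨ho, by norm_num⟩) with h2 | h2 | h2 | h2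
      · rw [orderOf_eq_one_iff.1 h2, one_pow]
      · have := pow_orderOf_eq_one (t : G)
        rwa [h2] at this
      · exact absurd h2 (hcon _)
      · exact absurd h2 (orderOf_ne_eight h _)
    apply Subtype.ext
    rw [pow_two] at h2
    exact h2
  refine ⟨⟨fun a b => ?_⟩⟩
  have h1 := hsq (a * b)
  have ha := hsq a
  have hb := hsq b
  calc a * b = a * (a * b * (a * b)) * b := by rw [h1, mul_one]
    _ = (a * a) * b * a * (b * b) := by group
    _ = b * a := by rw [ha, hb, one_mul, mul_one]

/-- The centralizer of an element of order 4 has order 4. -/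
theorem card_centralizer_four (h : Nat.card G = 168) (u : G) (hu : orderOf u = 4) :
    Nat.card ↥(Subgroup.centralizer ({u} : Set G)) = 4 := by
  have : Fact (Nat.Prime 2) := ⟨by norm_num⟩
  have hu1 : u ≠ 1 := by
    rintro rfl
    rw [orderOf_one] at hu
    norm_num at hu
  set C := Subgroup.centralizer ({u} : Set G) with hC
  have h8 : Nat.card ↥C ∣ 8 := card_centralizer_dvd_eight h u (by rw [hu]; norm_num) hu1
  have huC : Subgroup.zpowers u ≤ C := by
    rw [Subgroup.zpowers_le, hC, Subgroup.mem_centralizer_iff]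
    intro y hy
    rw [Set.mem_singleton_iff] at hy
    rw [hy]
  have h4 : 4 ∣ Nat.card ↥C := by
    have := Subgroup.card_dvd_of_le huC
    rwa [Nat.card_zpowers, hu] at this
  have hdec : ∀ d ∈ Nat.divisors 8, 4 ∣ d → d = 4 ∨ d = 8 := by decide
  rcases hdec _ (Nat.mem_divisors.2 ⟨h8, by norm_num⟩) h4 with h5 | h5
  · exact h5
  · exfalso
    have hpg : IsPGroup 2 ↥C := IsPGroup.of_card (n := 3) (by rw [h5]; norm_num)
    obtain ⟨T, hT⟩ := hpg.exists_le_sylow
    have hCT : C = (T : Subgroup G) := by
      apply Subgroup.eq_of_le_of_card_ge hT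
      rw [h5, card_sylow2 h T]
    apply sylow2_not_comm h T
    apply comm_of_card_eight (card_sylow2 h T)
    have huT : u ∈ (T : Subgroup G) := hT (huC (Subgroup.mem_zpowers u))
    have hle : Subgroup.zpowers (⟨u, huT⟩ : ↥(T : Subgroup G)) ≤ Subgroup.center ↥(T : Subgroup G) := by
      rw [Subgroup.zpowers_le, Subgroup.mem_center_iff]
      intro t
      have htC : (t : G) ∈ C := by rw [hCT]; exact t.2
      rw [hC, Subgroup.mem_centralizer_iff] at htC
      apply Subtype.ext
      exact (htC u rfl).symm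
    have := Subgroup.card_dvd_of_le hle
    rwa [Nat.card_zpowers, Subgroup.orderOf_mk, hu] at this

/-- Every Sylow 2-subgroup has a central involution, whose centralizer is that Sylow subgroup. -/
theorem exists_central_involution (h : Nat.card G = 168) (T : Sylow 2 G) :
    ∃ z : G, z ∈ (T : Subgroup G) ∧ orderOf z = 2 ∧ (∀ t ∈ (T : Subgroup G), t * z = z * t) ∧
      Subgroup.centralizer ({z} : Set G) = (T : Subgroup G) := by
  have : Fact (Nat.Prime 2) := ⟨by norm_num⟩
  have hTcard := card_sylow2 h T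
  have : Nontrivial ↥(T : Subgroup G) := by
    rw [← Finite.one_lt_card_iff_nontrivial, hTcard]; norm_num
  have hZnt : Nontrivial ↥(Subgroup.center ↥(T : Subgroup G)) := IsPGroup.center_nontrivial T.2
  have hZp : IsPGroup 2 ↥(Subgroup.center ↥(T : Subgroup G)) := T.2.to_subgroup _
  have h2Z : 2 ∣ Nat.card ↥(Subgroup.center ↥(T : Subgroup G)) := by
    obtain ⟨n, hn0, hn⟩ := hZp.nontrivial_iff_card.1 hZnt
    rw [hn]
    exact dvd_pow_self 2 hn0.ne'
  obtain ⟨z, hz⟩ := exists_prime_orderOf_dvd_card' 2 h2Z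
  have hz' : orderOf ((z : ↥(T : Subgroup G)) : G) = 2 := by
    rw [Subgroup.orderOf_coe, Subgroup.orderOf_coe]; exact hz
  have hzc : ∀ t ∈ (T : Subgroup G), t * ((z : ↥(T : Subgroup G)) : G) = ((z : ↥(T : Subgroup G)) : G) * t := by
    intro t ht
    have := Subgroup.mem_center_iff.1 z.2 ⟨t, ht⟩
    exact congrArg Subtype.val this
  refine ⟨((z : ↥(T : Subgroup G)) : G), (z : ↥(T : Subgroup G)).2, hz', hzc, ?_⟩
  have hz1 : ((z : ↥(T : Subgroup G)) : G) ≠ 1 := by
    intro h1
    rw [h1, orderOf_one] at hz'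
    norm_num at hz'
  have hle : (T : Subgroup G) ≤ Subgroup.centralizer ({((z : ↥(T : Subgroup G)) : G)} : Set G) := by
    intro t ht
    rw [Subgroup.mem_centralizer_iff]
    intro y hy
    rw [Set.mem_singleton_iff] at hy
    rw [hy]
    exact (hzc t ht).symm
  symm
  apply Subgroup.eq_of_le_of_card_ge hle
  rw [hTcard]
  exact Nat.le_of_dvd (by norm_num) (card_centralizer_dvd_eight h _ (by rw [hz']; norm_num) hz1)

theorem orderOf_isConj {H : Type*} [Group H] {x y : H} (hxy : IsConj x y) : orderOf y = orderOf x := by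
  obtain ⟨c, hc⟩ := hxy
  exact (hc.orderOf_eq).symm

/-- Involutions and elements of order 4: counts and conjugacy. -/
theorem involutions_and_fours (h : Nat.card G = 168) :
    Nat.card {g : G // orderOf g = 2} = 21 ∧ Nat.card {g : G // orderOf g = 4} = 42 ∧
    (∀ s t : G, orderOf s = 2 → orderOf t = 2 → IsConj s t) ∧
    (∀ s t : G, orderOf s = 4 → orderOf t = 4 → IsConj s t) := by
  classical
  have : Fact (Nat.Prime 2) := ⟨by norm_num⟩
  have : Fintype G := Fintype.ofFinite G
  obtain ⟨u, hu⟩ := exists_orderOf_four h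
  obtain ⟨T⟩ : Nonempty (Sylow 2 G) := inferInstance
  obtain ⟨z, _, hz, _, hzC⟩ := exists_central_involution h T
  have hclu := card_isConj_mul_card_centralizer u
  rw [card_centralizer_four h u hu, h] at hclu
  have hclz := card_isConj_mul_card_centralizer z
  rw [hzC, card_sylow2 h T, h] at hclz
  have h8 := card_orderOf_dvd_eight h
  rw [Nat.card_eq_fintype_card, Fintype.card_subtype] at hclu hclz h8
  let s1 : Finset G := {1}
  let s2 : Finset G := Finset.univ.filter (fun g => orderOf g = 2)
  let s4 : Finset G := Finset.univ.filter (fun g => orderOf g = 4)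
  let s8 : Finset G := Finset.univ.filter (fun g => orderOf g ∣ 8)
  let cz : Finset G := Finset.univ.filter (fun g => IsConj z g)
  let cu : Finset G := Finset.univ.filter (fun g => IsConj u g)
  have hcz : cz.card = 21 := by
    change cz.card * 8 = 168 at hclz
    omega
  have hcu : cu.card = 42 := by
    change cu.card * 4 = 168 at hclu
    omega
  have hczs : cz ⊆ s2 := by
    intro g hg
    rw [Finset.mem_filter] at hg ⊢
    exact ⟨hg.1, (orderOf_isConj hg.2).trans hz⟩
  have hcus : cu ⊆ s4 := by
    intro g hg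
    rw [Finset.mem_filter] at hg ⊢
    exact ⟨hg.1, (orderOf_isConj hg.2).trans hu⟩
  have hd12 : Disjoint s1 s2 := by
    rw [Finset.disjoint_left]
    intro g hg1 hg2
    rw [Finset.mem_singleton] at hg1
    rw [Finset.mem_filter, hg1, orderOf_one] at hg2
    omega
  have hd124 : Disjoint (s1 ∪ s2) s4 := by
    rw [Finset.disjoint_left]
    intro g hg hg4
    rw [Finset.mem_union, Finset.mem_singleton, Finset.mem_filter] at hg
    rw [Finset.mem_filter] at hg4
    rcases hg with hg | hg
    · rw [hg, orderOf_one] at hg4; omega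
    · omega
  have hunion : (s1 ∪ s2) ∪ s4 = s8 := by
    ext g
    simp only [Finset.mem_union, Finset.mem_singleton, Finset.mem_filter, Finset.mem_univ, true_and,
      s1, s2, s4, s8]
    constructor
    · rintro ((h1 | h1) | h1)
      · rw [h1, orderOf_one]; norm_num
      · rw [h1]; norm_num
      · rw [h1]; norm_num
    · intro h1
      have hdec : ∀ d ∈ Nat.divisors 8, d = 1 ∨ d = 2 ∨ d = 4 ∨ d = 8 := by decide
      rcases hdec _ (Nat.mem_divisors.2 ⟨h1, by norm_num⟩) with h2 | h2 | h2 | h2
      · exact Or.inl (Or.inl (orderOf_eq_one_iff.1 h2))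
      · exact Or.inl (Or.inr h2)
      · exact Or.inr h2
      · exact absurd h2 (orderOf_ne_eight h g)
  have hcard := congrArg Finset.card hunion
  rw [Finset.card_union_of_disjoint hd124, Finset.card_union_of_disjoint hd12,
    Finset.card_singleton] at hcard
  change _ = s8.card at hcard
  change s8.card = 64 at h8
  have hle2 := Finset.card_le_card hczs
  have hle4 := Finset.card_le_card hcus
  have hs2 : s2.card = 21 := by omega
  have hs4 : s4.card = 42 := by omega
  have hczeq : cz = s2 := Finset.eq_of_subset_of_card_le hczs (by rw [hs2, hcz])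
  have hcueq : cu = s4 := Finset.eq_of_subset_of_card_le hcus (by rw [hs4, hcu])
  refine ⟨?_, ?_, ?_, ?_⟩
  · rw [Nat.card_eq_fintype_card, Fintype.card_subtype]; exact hs2
  · rw [Nat.card_eq_fintype_card, Fintype.card_subtype]; exact hs4
  · intro s t hs ht
    have hs' : s ∈ cz := by rw [hczeq]; exact Finset.mem_filter.2 ⟨Finset.mem_univ _, hs⟩
    have ht' : t ∈ cz := by rw [hczeq]; exact Finset.mem_filter.2 ⟨Finset.mem_univ _, ht⟩
    exact ((Finset.mem_filter.1 hs').2.symm).trans (Finset.mem_filter.1 ht').2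
  · intro s t hs ht
    have hs' : s ∈ cu := by rw [hcueq]; exact Finset.mem_filter.2 ⟨Finset.mem_univ _, hs⟩
    have ht' : t ∈ cu := by rw [hcueq]; exact Finset.mem_filter.2 ⟨Finset.mem_univ _, ht⟩
    exact ((Finset.mem_filter.1 hs').2.symm).trans (Finset.mem_filter.1 ht').2

omit [IsSimpleGroup G] in
/-- If the Sylow `p`-subgroups have order `p` and are self-centralizing then `C(x)` has order `p`
for every `x` of order `p`. -/
theorem card_centralizer_singleton {p : ℕ} [Fact p.Prime]
    (hS : ∀ Q : Sylow p G, Nat.card ↥(Q : Subgroup G) = p)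
    (hC : ∀ Q : Sylow p G, Nat.card ↥(Subgroup.centralizer ((Q : Subgroup G) : Set G)) = p)
    (x : G) (hx : orderOf x = p) : Nat.card ↥(Subgroup.centralizer ({x} : Set G)) = p := by
  have hp : p.Prime := Fact.out
  have hx1 : x ≠ 1 := by
    rintro rfl
    rw [orderOf_one] at hx
    exact hp.one_lt.ne hx
  obtain ⟨Q, hQ⟩ := exists_sylow_mem_of_orderOf_dvd_pow (p := p) x 1 (by rw [hx, pow_one])
  have hQx : (Q : Subgroup G) = Subgroup.zpowers x := eq_zpowers_of_card_prime _ (hS Q) x hQ hx1
  have heq : Subgroup.centralizer ({x} : Set G) = Subgroup.centralizer ((Q : Subgroup G) : Set G) := by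
    ext g
    rw [Subgroup.mem_centralizer_iff, Subgroup.mem_centralizer_iff]
    constructor
    · intro hg y hy
      have hy' : y ∈ Subgroup.zpowers x := by rw [← hQx]; exact hy
      obtain ⟨k, rfl⟩ := Subgroup.mem_zpowers_iff.1 hy'
      have hc : Commute x g := hg x rfl
      exact (hc.zpow_left k).eq
    · intro hg y hy
      rw [Set.mem_singleton_iff] at hy
      rw [hy]
      exact hg x hQ
  rw [heq, hC Q]

omit [IsSimpleGroup G] in
/-- If the class of `x` has as many elements as there are elements of order `orderOf x`, then all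
elements of that order are conjugate. -/
theorem isConj_of_card_class_eq (x : G) (n : ℕ) (hx : orderOf x = n)
    (hcard : Nat.card {g : G // IsConj x g} = Nat.card {g : G // orderOf g = n}) :
    ∀ s t : G, orderOf s = n → orderOf t = n → IsConj s t := by
  classical
  have : Fintype G := Fintype.ofFinite G
  rw [Nat.card_eq_fintype_card, Fintype.card_subtype, Nat.card_eq_fintype_card,
    Fintype.card_subtype] at hcard
  have hsub : Finset.univ.filter (fun g => IsConj x g) ⊆ Finset.univ.filter (fun g : G => orderOf g = n) := by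
    intro g hg
    rw [Finset.mem_filter] at hg ⊢
    exact ⟨hg.1, (orderOf_isConj hg.2).trans hx⟩
  have heq := Finset.eq_of_subset_of_card_le hsub hcard.ge
  intro s t hs ht
  have hs' : s ∈ Finset.univ.filter (fun g => IsConj x g) := by
    rw [heq]; exact Finset.mem_filter.2 ⟨Finset.mem_univ _, hs⟩
  have ht' : t ∈ Finset.univ.filter (fun g => IsConj x g) := by
    rw [heq]; exact Finset.mem_filter.2 ⟨Finset.mem_univ _, ht⟩
  exact ((Finset.mem_filter.1 hs').2.symm).trans (Finset.mem_filter.1 ht').2

theorem isConj_of_orderOf_three (h : Nat.card G = 168) (s t : G) (hs : orderOf s = 3)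
    (ht : orderOf t = 3) : IsConj s t := by
  have : Fact (Nat.Prime 3) := ⟨by norm_num⟩
  have hc := card_centralizer_singleton (card_sylow3 h) (card_centralizer3 h) s hs
  have hcl := card_isConj_mul_card_centralizer s
  rw [hc, h] at hcl
  have : Nat.card {g : G // IsConj s g} = 56 := by omega
  exact isConj_of_card_class_eq s 3 hs (by rw [this, card_orderOf_three h]) s t hs ht

theorem card_class_seven (h : Nat.card G = 168) (x : G) (hx : orderOf x = 7) :
    Nat.card {g : G // IsConj x g} = 24 := by
  have : Fact (Nat.Prime 7) := ⟨by norm_num⟩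
  have hc := card_centralizer_singleton (card_sylow7 h) (card_centralizer7 h) x hx
  have hcl := card_isConj_mul_card_centralizer x
  rw [hc, h] at hcl
  omega

theorem not_isConj_inv_seven (h : Nat.card G = 168) (x : G) (hx : orderOf x = 7) :
    ¬ IsConj x x⁻¹ := by
  have : Fact (Nat.Prime 7) := ⟨by norm_num⟩
  intro hconj
  obtain ⟨c, hc⟩ := hconj
  obtain ⟨P, hP⟩ := exists_sylow_mem_of_orderOf_dvd_pow (p := 7) x 1 (by rw [hx, pow_one])
  have hcyc : IsCyclic ↥(P : Subgroup G) := isCyclic_of_prime_card (card_sylow7 h P)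
  have hcomm : IsMulCommutative ↥(P : Subgroup G) := hcyc.isMulCommutative
  have hne : x⁻¹ ≠ x := by
    intro h1
    have h2 : x ^ 2 = 1 := by
      rw [pow_two]
      calc x * x = x⁻¹ * x := by rw [h1]
        _ = 1 := inv_mul_cancel x
    have := orderOf_dvd_of_pow_eq_one h2
    rw [hx] at this
    norm_num at this
  have hg : ((c : G)⁻¹)⁻¹ * x * (c : G)⁻¹ = x⁻¹ := by
    rw [inv_inv]
    have : (c : G) * x = x⁻¹ * (c : G) := hc
    rw [this]; group
  have h2 := Cfsg.Agent.S2270.even_automizer P hcomm x (c : G)⁻¹ hP hg hne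
  obtain ⟨h1, _, h3, h4⟩ := simple_automizer_data (noncomm h) 7 P (card_sylow7 h P)
  rw [card_normalizer7 h P, card_centralizer7 h P] at h3
  have hk : (Subgroup.centralizer ((P : Subgroup G) : Set G)).relIndex
        (Subgroup.normalizer ((P : Subgroup G) : Set G)) = 3 := by omega
  change 2 ∣ (Subgroup.centralizer ((P : Subgroup G) : Set G)).relIndex
        (Subgroup.normalizer ((P : Subgroup G) : Set G)) at h2
  rw [hk] at h2
  norm_num at h2

end Cfsg.Agent.Helper11.O168
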