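import Mathlib
import Cfsg.Agent.Helper11.Order168b
import Cfsg.Agent.Helper11.DihedralLift

set_option autoImplicit false

/-!
A simple group of order 168: the Sylow 2-subgroups are dihedral.
-/

namespace Cfsg.Agent.Helper11.O168

open Cfsg.Agent.Helper11

/-- In a cyclic group of order 4 generated by `u`, the only involution is `u²`. -/
theorem eq_sq_of_mem_zpowers {H : Type*} [Group H] [Finite H] {u z : H} (hu : orderOf u = 4)
    (hz : z ∈ Subgroup.zpowers u) (hz2 : orderOf z = 2) : z = u ^ 2 := by
  classical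
  rw [mem_zpowers_iff_mem_range_orderOf, hu] at hz
  simp only [Finset.mem_image, Finset.mem_range] at hz
  obtain ⟨k, hk, rfl⟩ := hz
  interval_cases k
  · rw [pow_zero, orderOf_one] at hz2; norm_num at hz2
  · rw [pow_one, hu] at hz2; norm_num at hz2
  · rfl
  · exfalso
    have h1 : orderOf (u ^ 3) = 4 := by
      rw [orderOf_pow' u (by norm_num), hu]
      norm_num
    rw [h1] at hz2
    norm_num at hz2

variable {G : Type*} [Group G] [Finite G] [IsSimpleGroup G]

/-- Every Sylow 2-subgroup contains an element of order 4. -/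
theorem exists_orderOf_four_mem (h : Nat.card G = 168) (T : Sylow 2 G) :
    ∃ r ∈ (T : Subgroup G), orderOf r = 4 := by
  by_contra hcon
  push Not at hcon
  apply sylow2_not_comm h T
  have hsq : ∀ t : ↥(T : Subgroup G), t * t = 1 := by
    intro t
    have ho : orderOf (t : G) ∣ 8 := by
      rw [← card_sylow2 h T]
      exact Subgroup.orderOf_dvd_natCard _ t.2
    have hdec : ∀ d ∈ Nat.divisors 8, d = 1 ∨ d = 2 ∨ d = 4 ∨ d = 8 := by decide
    have h2 : (t : G) ^ 2 = 1 := by
      rcases hdec _ (Nat.mem_divisors.2 ⟨ho, by norm_num⟩) with h2 | h2 | h2 | h2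
      · rw [orderOf_eq_one_iff.1 h2, one_pow]
      · have := pow_orderOf_eq_one (t : G)
        rwa [h2] at this
      · exact absurd h2 (hcon _ t.2)
      · exact absurd h2 (orderOf_ne_eight h _)
    apply Subtype.ext
    rw [pow_two] at h2
    exact h2
  refine ⟨⟨fun a b => ?_⟩⟩
  have h1 := hsq (a * b)
  have ha := hsq a
  have hb := hsq b
  calc a * b = a * (a * b * (a * b)) * b := by rw [h1, mul_one]
    _ = (a * a) * b * a * (b * b) := by group
    _ = b * a := by rw [ha, hb, one_mul, mul_one]

/-- If `u` of order 4 lies in the Sylow 2-subgroup `T` then `T = C(u²)`. -/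
theorem sylow2_eq_centralizer_sq (h : Nat.card G = 168) (T : Sylow 2 G) (u : G)
    (hu : orderOf u = 4) (huT : u ∈ (T : Subgroup G)) :
    (T : Subgroup G) = Subgroup.centralizer ({u ^ 2} : Set G) := by
  obtain ⟨z, _, hz2, hzc, hzC⟩ := exists_central_involution h T
  have hzu : z ∈ Subgroup.centralizer ({u} : Set G) := by
    rw [Subgroup.mem_centralizer_iff]
    intro y hy
    rw [Set.mem_singleton_iff] at hy
    rw [hy]
    exact hzc u huT
  have huC : Subgroup.zpowers u ≤ Subgroup.centralizer ({u} : Set G) := by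
    rw [Subgroup.zpowers_le, Subgroup.mem_centralizer_iff]
    intro y hy
    rw [Set.mem_singleton_iff] at hy
    rw [hy]
  have hCu : Subgroup.zpowers u = Subgroup.centralizer ({u} : Set G) := by
    apply Subgroup.eq_of_le_of_card_ge huC
    rw [card_centralizer_four h u hu, Nat.card_zpowers, hu]
  rw [← hCu] at hzu
  have := eq_sq_of_mem_zpowers hu hzu hz2
  rw [← this, hzC]

/-- Each Sylow 2-subgroup contains exactly two elements of order 4. -/
theorem card_four_in_sylow2 (h : Nat.card G = 168) (T : Sylow 2 G) :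
    Nat.card {u : G // u ∈ (T : Subgroup G) ∧ orderOf u = 4} = 2 := by
  classical
  have : Fact (Nat.Prime 2) := ⟨by norm_num⟩
  have : Fintype G := Fintype.ofFinite G
  have : Fintype (Sylow 2 G) := Fintype.ofFinite _
  let s : Finset G := Finset.univ.filter (fun g => orderOf g = 4)
  let t : Finset (Sylow 2 G) := Finset.univ
  have key := Finset.sum_card_bipartiteAbove_eq_sum_card_bipartiteBelow (s := s) (t := t)
    (fun (g : G) (Q : Sylow 2 G) => g ∈ (Q : Subgroup G))
  have hL : ∀ g ∈ s, (t.bipartiteAbove (fun (g : G) (Q : Sylow 2 G) => g ∈ (Q : Subgroup G)) g).card = 1 := by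
    intro g hg
    have hgo : orderOf g = 4 := (Finset.mem_filter.1 hg).2
    obtain ⟨Q, hQ⟩ := exists_sylow_mem_of_orderOf_dvd_pow (p := 2) g 2 (by rw [hgo]; norm_num)
    rw [Finset.card_eq_one]
    refine ⟨Q, ?_⟩
    ext Q'
    simp only [Finset.mem_bipartiteAbove, Finset.mem_singleton, t, Finset.mem_univ, true_and]
    constructor
    · intro hgQ'
      apply Sylow.ext
      rw [sylow2_eq_centralizer_sq h Q' g hgo hgQ', sylow2_eq_centralizer_sq h Q g hgo hQ]
    · rintro rfl
      exact hQ
  have hs : s.card = 42 := by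
    have := (involutions_and_fours h).2.1
    rwa [Nat.card_eq_fintype_card, Fintype.card_subtype] at this
  have ht : t.card = 21 := by
    have := n2 h
    rwa [Nat.card_eq_fintype_card] at this
  rw [Finset.sum_congr rfl hL, Finset.sum_const, smul_eq_mul, mul_one, hs] at key
  -- each Sylow subgroup has at least two elements of order 4
  have hR : ∀ Q ∈ t, 2 ≤ (s.bipartiteBelow (fun (g : G) (Q : Sylow 2 G) => g ∈ (Q : Subgroup G)) Q).card := by
    intro Q _
    obtain ⟨r, hrQ, hr⟩ := exists_orderOf_four_mem h Q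
    have hrinv : orderOf r⁻¹ = 4 := by rw [orderOf_inv, hr]
    have hne : r ≠ r⁻¹ := by
      intro h1
      have h2 : r ^ 2 = 1 := by
        rw [pow_two]
        calc r * r = r⁻¹ * r := by rw [← h1]
          _ = 1 := inv_mul_cancel r
      have := orderOf_dvd_of_pow_eq_one h2
      rw [hr] at this
      norm_num at this
    have hsub : ({r, r⁻¹} : Finset G) ⊆ s.bipartiteBelow (fun (g : G) (Q : Sylow 2 G) => g ∈ (Q : Subgroup G)) Q := by
      intro g hg
      rw [Finset.mem_insert, Finset.mem_singleton] at hg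
      rw [Finset.mem_bipartiteBelow, Finset.mem_filter]
      rcases hg with rfl | rfl
      · exact ⟨⟨Finset.mem_univ _, hr⟩, hrQ⟩
      · exact ⟨⟨Finset.mem_univ _, hrinv⟩, (Q : Subgroup G).inv_mem hrQ⟩
    have := Finset.card_le_card hsub
    rwa [Finset.card_pair hne] at this
  -- all are equal to 2
  have hall : ∀ Q ∈ t, (s.bipartiteBelow (fun (g : G) (Q : Sylow 2 G) => g ∈ (Q : Subgroup G)) Q).card = 2 := by
    by_contra hcon
    push Not at hcon
    obtain ⟨Q₀, hQ₀, hne⟩ := hcon
    have hlt : ∑ Q ∈ t, 2 < ∑ Q ∈ t, (s.bipartiteBelow (fun (g : G) (Q : Sylow 2 G) => g ∈ (Q : Subgroup G)) Q).card := by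
      apply Finset.sum_lt_sum hR
      exact ⟨Q₀, hQ₀, lt_of_le_of_ne (hR Q₀ hQ₀) (Ne.symm hne)⟩
    rw [Finset.sum_const, smul_eq_mul, ht, ← key] at hlt
    norm_num at hlt
  have hT := hall T (Finset.mem_univ _)
  rw [Nat.card_eq_fintype_card, Fintype.card_subtype]
  have heq : Finset.univ.filter (fun x => x ∈ (T : Subgroup G) ∧ orderOf x = 4)
      = s.bipartiteBelow (fun (g : G) (Q : Sylow 2 G) => g ∈ (Q : Subgroup G)) T := by
    ext g
    simp only [Finset.mem_filter, Finset.mem_univ, true_and, Finset.mem_bipartiteBelow, s]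
    tauto
  rw [heq, hT]

/-- The Sylow 2-subgroups are dihedral of order 8. -/
theorem sylow2_dihedral (h : Nat.card G = 168) (T : Sylow 2 G) :
    Nonempty (↥(T : Subgroup G) ≃* DihedralGroup 4) := by
  classical
  have : Fintype G := Fintype.ofFinite G
  obtain ⟨r, hrT, hr⟩ := exists_orderOf_four_mem h T
  have hrinv : orderOf r⁻¹ = 4 := by rw [orderOf_inv, hr]
  have hne : r ≠ r⁻¹ := by
    intro h1
    have h2 : r ^ 2 = 1 := by
      rw [pow_two]
      calc r * r = r⁻¹ * r := by rw [← h1]
        _ = 1 := inv_mul_cancel r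
    have := orderOf_dvd_of_pow_eq_one h2
    rw [hr] at this
    norm_num at this
  -- the elements of order 4 in T are exactly r, r⁻¹
  have h4 : ∀ g ∈ (T : Subgroup G), orderOf g = 4 → g = r ∨ g = r⁻¹ := by
    intro g hgT hg
    have hcard := card_four_in_sylow2 h T
    rw [Nat.card_eq_fintype_card, Fintype.card_subtype] at hcard
    have hsub : ({r, r⁻¹} : Finset G) ⊆ Finset.univ.filter (fun u => u ∈ (T : Subgroup G) ∧ orderOf u = 4) := by
      intro x hx
      rw [Finset.mem_insert, Finset.mem_singleton] at hx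
      rw [Finset.mem_filter]
      rcases hx with rfl | rfl
      · exact ⟨Finset.mem_univ _, hrT, hr⟩
      · exact ⟨Finset.mem_univ _, (T : Subgroup G).inv_mem hrT, hrinv⟩
    have heq := Finset.eq_of_subset_of_card_le hsub (by rw [hcard, Finset.card_pair hne])
    have hg' : g ∈ Finset.univ.filter (fun u => u ∈ (T : Subgroup G) ∧ orderOf u = 4) :=
      Finset.mem_filter.2 ⟨Finset.mem_univ _, hgT, hg⟩
    rw [← heq, Finset.mem_insert, Finset.mem_singleton] at hg'
    exact hg'
  -- elements of T outside ⟨r⟩ are involutions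
  have hinv : ∀ g ∈ (T : Subgroup G), g ∉ Subgroup.zpowers r → g * g = 1 := by
    intro g hgT hg
    have ho : orderOf g ∣ 8 := by
      rw [← card_sylow2 h T]
      exact Subgroup.orderOf_dvd_natCard _ hgT
    have hdec : ∀ d ∈ Nat.divisors 8, d = 1 ∨ d = 2 ∨ d = 4 ∨ d = 8 := by decide
    rcases hdec _ (Nat.mem_divisors.2 ⟨ho, by norm_num⟩) with h2 | h2 | h2 | h2
    · rw [orderOf_eq_one_iff.1 h2, one_mul]
    · have := pow_orderOf_eq_one g
      rwa [h2, pow_two] at this
    · exfalso
      apply hg
      rcases h4 g hgT h2 with rfl | rfl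
      · exact Subgroup.mem_zpowers _
      · exact (Subgroup.zpowers r).inv_mem (Subgroup.mem_zpowers _)
    · exact absurd h2 (orderOf_ne_eight h _)
  -- pick s ∈ T outside ⟨r⟩
  have hex : ∃ s ∈ (T : Subgroup G), s ∉ Subgroup.zpowers r := by
    by_contra hcon
    push Not at hcon
    have hle : (T : Subgroup G) ≤ Subgroup.zpowers r := hcon
    have := Subgroup.card_le_of_le hle
    rw [card_sylow2 h T, Nat.card_zpowers, hr] at this
    norm_num at this
  obtain ⟨s, hsT, hs⟩ := hex
  have hss : s * s = 1 := hinv s hsT hs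
  have hsr : s * r ∉ Subgroup.zpowers r := by
    intro hmem
    apply hs
    have : s = (s * r) * r⁻¹ := by group
    rw [this]
    exact (Subgroup.zpowers r).mul_mem hmem ((Subgroup.zpowers r).inv_mem (Subgroup.mem_zpowers r))
  have hsrsr : (s * r) * (s * r) = 1 := hinv (s * r) ((T : Subgroup G).mul_mem hsT hrT) hsr
  have hsrs : s * r * s = r⁻¹ := by
    have : s * r * s = (s * r * (s * r)) * r⁻¹ := by group
    rw [this, hsrsr, one_mul]
  -- apply the recognition theorem inside T
  let r' : ↥(T : Subgroup G) := ⟨r, hrT⟩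
  let s' : ↥(T : Subgroup G) := ⟨s, hsT⟩
  apply nonempty_mulEquiv_dihedralGroup 4 (by rw [card_sylow2 h T]) r' s'
  · rw [Subgroup.orderOf_mk]; exact hr
  · apply Subtype.ext; exact hss
  · apply Subtype.ext; exact hsrs
  · intro hmem
    apply hs
    obtain ⟨k, hk⟩ := Subgroup.mem_zpowers_iff.1 hmem
    rw [Subgroup.mem_zpowers_iff]
    refine ⟨k, ?_⟩
    have := congrArg Subtype.val hk
    simpa using this

end Cfsg.Agent.Helper11.O168
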