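import Mathlib
import Cfsg.Agent.Helper11.Order168c
import Cfsg.Agent.S1012
import Cfsg.Agent.Helper11.PermSylow
import Cfsg.Agent.Helper11.D4Klein

set_option autoImplicit false

/-!
A simple group of order 168: Klein four-subgroups and their normalizers.
-/

namespace Cfsg.Agent.Helper11.O168

open Cfsg.Agent.Helper11

variable {G : Type*} [Group G] [Finite G] [IsSimpleGroup G]

/-- The centralizer of an involution has order 8. -/
theorem card_centralizer_involution (h : Nat.card G = 168) (u : G) (hu : orderOf u = 2) :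
    Nat.card ↥(Subgroup.centralizer ({u} : Set G)) = 8 := by
  have : Fact (Nat.Prime 2) := ⟨by norm_num⟩
  obtain ⟨T⟩ : Nonempty (Sylow 2 G) := inferInstance
  obtain ⟨z, _, hz, _, hzC⟩ := exists_central_involution h T
  have hconj : IsConj u z := (involutions_and_fours h).2.2.1 u z hu hz
  have h1 := card_isConj_mul_card_centralizer u
  have h2 := card_isConj_mul_card_centralizer z
  have h3 : Nat.card {g : G // IsConj u g} = Nat.card {g : G // IsConj z g} := by
    apply Nat.card_congr
    exact Equiv.subtypeEquivRight (fun g => ⟨fun hg => hconj.symm.trans hg, fun hg => hconj.trans hg⟩)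
  rw [hzC, card_sylow2 h T] at h2
  rw [h3] at h1
  have hpos : 0 < Nat.card {g : G // IsConj z g} := by
    rcases Nat.eq_zero_or_pos (Nat.card {g : G // IsConj z g}) with h0 | h0
    · rw [h0, zero_mul] at h2
      rw [h] at h2
      omega
    · exact h0
  exact Nat.eq_of_mul_eq_mul_left hpos (h1.trans h2.symm)

omit [IsSimpleGroup G] in
/-- A subgroup of order 4 of a Sylow 2-subgroup of order 8 is normalized by it. -/
theorem le_normalizer_of_card_four (T : Subgroup G) (hT : Nat.card ↥T = 8) (U : Subgroup G)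
    (hUT : U ≤ T) (hU : Nat.card ↥U = 4) : T ≤ Subgroup.normalizer (U : Set G) := by
  rw [← Subgroup.normal_subgroupOf_iff_le_normalizer hUT]
  apply Subgroup.normal_of_index_eq_two
  have h1 := Cfsg.Agent.Helper11.relIndex_mul_card hUT
  rw [hT, hU] at h1
  change U.relIndex T = 2
  omega

omit [IsSimpleGroup G] in
theorem orderOf_eq_two_of_klein (U : Subgroup G) [hK : IsKleinFour ↥U] (u : G) (hu : u ∈ U)
    (hu1 : u ≠ 1) : orderOf u = 2 := by
  have h2 : (⟨u, hu⟩ : ↥U) ^ 2 = 1 := by
    have := Monoid.pow_exponent_eq_one (⟨u, hu⟩ : ↥U)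
    rwa [IsKleinFour.exponent_two] at this
  have h3 : u ^ 2 = 1 := congrArg Subtype.val h2
  exact orderOf_eq_prime h3 hu1

end Cfsg.Agent.Helper11.O168

namespace Cfsg.Agent.Helper11.O168

open Cfsg.Agent.Helper11

variable {G : Type*} [Group G] [Finite G] [IsSimpleGroup G]

/-- The normalizer of a Klein four-subgroup has order 24. -/
theorem card_normalizer_klein (h : Nat.card G = 168) (U : Subgroup G) [IsKleinFour ↥U] :
    Nat.card ↥(Subgroup.normalizer (U : Set G)) = 24 := by
  have : Fact (Nat.Prime 2) := ⟨by norm_num⟩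
  have hU4 : Nat.card ↥U = 4 := IsKleinFour.card_four
  have hUp : IsPGroup 2 ↥U := IsPGroup.of_card (n := 2) (by rw [hU4]; norm_num)
  obtain ⟨T, hUT⟩ := hUp.exists_le_sylow
  have hT8 := card_sylow2 h T
  have hTN : (T : Subgroup G) ≤ Subgroup.normalizer (U : Set G) :=
    le_normalizer_of_card_four T hT8 U hUT hU4
  have h8 : 8 ∣ Nat.card ↥(Subgroup.normalizer (U : Set G)) := hT8 ▸ Subgroup.card_dvd_of_le hTN
  obtain ⟨u, huU, hu1⟩ : ∃ u ∈ U, u ≠ 1 := by
    by_contra hno
    push Not at hno
    have : U = ⊥ := (Subgroup.eq_bot_iff_forall _).2 hno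
    rw [this, Subgroup.card_bot] at hU4
    omega
  have hu2 := orderOf_eq_two_of_klein U u huU hu1
  have hCle : Subgroup.centralizer (U : Set G) ≤ Subgroup.centralizer ({u} : Set G) :=
    Subgroup.centralizer_le (Set.singleton_subset_iff.2 huU)
  have hC8 : Nat.card ↥(Subgroup.centralizer (U : Set G)) ∣ 8 :=
    (card_centralizer_involution h u hu2) ▸ Subgroup.card_dvd_of_le hCle
  have hrel := relIndex_centralizer_normalizer_dvd_card_mulAut U
  have haut := card_mulAut_dvd_factorial ↥U
  rw [hU4] at haut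
  have hNC := relIndex_mul_card (Subgroup.centralizer_le_normalizer (U : Set G))
  have hN48 : Nat.card ↥(Subgroup.normalizer (U : Set G)) ∣ 48 := by
    rw [← hNC]
    exact mul_dvd_mul (hrel.trans haut) hC8
  have hN168 : Nat.card ↥(Subgroup.normalizer (U : Set G)) ∣ 168 :=
    h ▸ Subgroup.card_subgroup_dvd_card _
  have hdec : ∀ d ∈ Nat.divisors 168, d ∣ 48 → 8 ∣ d → d = 8 ∨ d = 24 := by decide
  rcases hdec _ (Nat.mem_divisors.2 ⟨hN168, by norm_num⟩) hN48 h8 with h24 | h24
  · exfalso
    have hNT : (T : Subgroup G) = Subgroup.normalizer (U : Set G) :=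
      Subgroup.eq_of_le_of_card_ge hTN (by rw [h24, hT8])
    apply sylow2_not_comm h T
    apply comm_of_card_eight hT8
    have hUZ : U.subgroupOf (T : Subgroup G) ≤ Subgroup.center ↥(T : Subgroup G) := by
      rintro ⟨x, hxT⟩ hx
      have hxU : x ∈ U := hx
      rw [Subgroup.mem_center_iff]
      rintro ⟨t, ht⟩
      apply Subtype.ext
      change t * x = x * t
      by_cases hx1 : x = 1
      · rw [hx1]; simp
      · have hx2 := orderOf_eq_two_of_klein U x hxU hx1
        have hCx8 := card_centralizer_involution h x hx2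
        have hUCx : U ≤ Subgroup.centralizer ({x} : Set G) := by
          intro y hy
          rw [Subgroup.mem_centralizer_iff]
          intro w hw
          rw [Set.mem_singleton_iff] at hw
          rw [hw]
          have := (IsKleinFour.isMulCommutative (G := ↥U)).is_comm.comm ⟨x, hxU⟩ ⟨y, hy⟩
          exact congrArg Subtype.val this
        have hCxN : Subgroup.centralizer ({x} : Set G) ≤ Subgroup.normalizer (U : Set G) :=
          le_normalizer_of_card_four _ hCx8 U hUCx hU4
        have hCxT : Subgroup.centralizer ({x} : Set G) = (T : Subgroup G) := by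
          rw [hNT]
          exact Subgroup.eq_of_le_of_card_ge hCxN (by rw [h24, hCx8])
        have htC : t ∈ Subgroup.centralizer ({x} : Set G) := hCxT ▸ ht
        rw [Subgroup.mem_centralizer_iff] at htC
        exact (htC x rfl).symm
    have hc4 : Nat.card ↥(U.subgroupOf (T : Subgroup G)) = 4 := by
      rw [Nat.card_congr (Subgroup.subgroupOfEquivOfLe hUT).toEquiv]
      exact hU4
    exact hc4 ▸ Subgroup.card_dvd_of_le hUZ
  · exact h24

/-- The normalizer of a Klein four-subgroup is a symmetric group of degree 4. -/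
theorem normalizer_klein_equiv (h : Nat.card G = 168) (U : Subgroup G) [IsKleinFour ↥U] :
    Nonempty (↥(Subgroup.normalizer (U : Set G)) ≃* Equiv.Perm (Fin 4)) := by
  apply Cfsg.Agent.S1012.result (card_normalizer_klein h U)
  intro g hg
  have h6 : orderOf (g : G) = 6 := by rw [Subgroup.orderOf_coe]; exact hg
  have := orderOf_mem h (g : G)
  omega

end Cfsg.Agent.Helper11.O168

namespace Cfsg.Agent.Helper11.O168

open Cfsg.Agent.Helper11

section general

variable {G : Type*} [Group G]

theorem map_conj_eq_of_mem_normalizer (U : Subgroup G) (k : G)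
    (hk : k ∈ Subgroup.normalizer (U : Set G)) : U.map (MulAut.conj k).toMonoidHom = U := by
  ext x
  rw [Subgroup.mem_map]
  constructor
  · rintro ⟨y, hy, rfl⟩
    exact (Subgroup.mem_normalizer_iff.1 hk y).1 hy
  · intro hx
    refine ⟨k⁻¹ * x * k, ?_, ?_⟩
    · apply (Subgroup.mem_normalizer_iff.1 hk (k⁻¹ * x * k)).2
      have : k * (k⁻¹ * x * k) * k⁻¹ = x := by group
      rw [this]
      exact hx
    · change k * (k⁻¹ * x * k) * k⁻¹ = x
      group

theorem coe_smul_sylow {p : ℕ} (g : G) (P : Sylow p G) :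
    ((g • P : Sylow p G) : Subgroup G) = (P : Subgroup G).map (MulAut.conj g).toMonoidHom := rfl

theorem map_conj_mul (U : Subgroup G) (a b : G) :
    U.map (MulAut.conj (a * b)).toMonoidHom =
      (U.map (MulAut.conj b).toMonoidHom).map (MulAut.conj a).toMonoidHom := by
  rw [Subgroup.map_map]
  congr 1
  ext x
  simp [MulAut.conj_apply, mul_assoc]

end general

variable {G : Type*} [Group G] [Finite G] [IsSimpleGroup G]

/-- Distinct Klein four-subgroups of a Sylow 2-subgroup are not conjugate. -/
theorem klein_not_conj (h : Nat.card G = 168) (T : Sylow 2 G) (U W : Subgroup G)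
    (hU : U ≤ (T : Subgroup G)) (hW : W ≤ (T : Subgroup G)) [IsKleinFour ↥U] [IsKleinFour ↥W]
    (hne : U ≠ W) (g : G) : U.map (MulAut.conj g).toMonoidHom ≠ W := by
  have : Fact (Nat.Prime 2) := ⟨by norm_num⟩
  intro heq
  have hU4 : Nat.card ↥U = 4 := IsKleinFour.card_four
  have hW4 : Nat.card ↥W = 4 := IsKleinFour.card_four
  have hT8 := card_sylow2 h T
  have hTNU := le_normalizer_of_card_four T hT8 U hU hU4
  have hTNW := le_normalizer_of_card_four T hT8 W hW hW4
  have hWT₂ : W ≤ ((g • T : Sylow 2 G) : Subgroup G) := by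
    rw [coe_smul_sylow, ← heq]
    exact Subgroup.map_mono hU
  have hT₂NW := le_normalizer_of_card_four (g • T : Sylow 2 G) (card_sylow2 h _) W hWT₂ hW4
  obtain ⟨n, hn⟩ := MulAction.exists_smul_eq ↥(Subgroup.normalizer (W : Set G))
    ((g • T : Sylow 2 G).subtype hT₂NW) (T.subtype hTNW)
  rw [Sylow.smul_subtype] at hn
  have hn' : n • (g • T : Sylow 2 G) = T := Sylow.subtype_injective hn
  have hn'' : ((n : G) * g) • T = T := by
    rw [mul_smul]
    exact hn'
  have hk : (n : G) * g ∈ (T : Subgroup G) := by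
    rw [Sylow.smul_eq_iff_mem_normalizer] at hn''
    have := normalizer2_eq h T
    exact this ▸ hn''
  have h1 : U.map (MulAut.conj ((n : G) * g)).toMonoidHom = U :=
    map_conj_eq_of_mem_normalizer U _ (hTNU hk)
  have h2 : U.map (MulAut.conj ((n : G) * g)).toMonoidHom = W := by
    rw [map_conj_mul, heq]
    exact map_conj_eq_of_mem_normalizer W _ n.2
  exact hne (h1.symm.trans h2)

end Cfsg.Agent.Helper11.O168

namespace Cfsg.Agent.Helper11.O168

section transport

variable {G : Type*} [Group G] (T : Subgroup G) {D : Type*} [Group D] (φ : ↥T ≃* D)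

/-- transport of a subgroup of `D` to a subgroup of `G` inside `T` -/
def tr (V : Subgroup D) : Subgroup G := (V.comap φ.toMonoidHom).map T.subtype

theorem mem_tr (V : Subgroup D) (g : G) : g ∈ tr T φ V ↔ ∃ t : ↥T, φ t ∈ V ∧ (t : G) = g := by
  unfold tr
  rw [Subgroup.mem_map]
  constructor
  · rintro ⟨t, ht, rfl⟩
    exact ⟨t, ht, rfl⟩
  · rintro ⟨t, ht, rfl⟩
    exact ⟨t, ht, rfl⟩

theorem tr_le (V : Subgroup D) : tr T φ V ≤ T := Subgroup.map_subtype_le _

theorem card_tr (V : Subgroup D) : Nat.card ↥(tr T φ V) = Nat.card ↥V := by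
  unfold tr
  rw [Subgroup.card_map_of_injective T.subtype_injective, Subgroup.comap_equiv_eq_map_symm',
    Subgroup.card_map_of_injective φ.symm.injective]

theorem mem_of_tr_eq {V V' : Subgroup D} (h : tr T φ V = tr T φ V') (v : D) (hv : v ∈ V) :
    v ∈ V' := by
  have h1 : ((φ.symm v : ↥T) : G) ∈ tr T φ V := by
    rw [mem_tr]
    exact ⟨φ.symm v, by rw [MulEquiv.apply_symm_apply]; exact hv, rfl⟩
  rw [h, mem_tr] at h1
  obtain ⟨t, ht, hte⟩ := h1
  have : t = φ.symm v := Subtype.ext hte
  rw [this, MulEquiv.apply_symm_apply] at ht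
  exact ht

theorem eq_tr (U : Subgroup G) (hU : U ≤ T) :
    U = tr T φ ((U.subgroupOf T).map φ.toMonoidHom) := by
  ext g
  rw [mem_tr]
  constructor
  · intro hg
    refine ⟨⟨g, hU hg⟩, ?_, rfl⟩
    exact Subgroup.mem_map_of_mem _ (Subgroup.mem_subgroupOf.2 hg)
  · rintro ⟨t, ht, rfl⟩
    rw [Subgroup.mem_map] at ht
    obtain ⟨s, hs, hst⟩ := ht
    have : s = t := φ.injective hst
    rw [← this]
    exact Subgroup.mem_subgroupOf.1 hs

theorem card_subgroupOf_map (U : Subgroup G) (hU : U ≤ T) :
    Nat.card ↥((U.subgroupOf T).map φ.toMonoidHom) = Nat.card ↥U := by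
  rw [Subgroup.card_map_of_injective φ.injective]
  exact Nat.card_congr (Subgroup.subgroupOfEquivOfLe hU).toEquiv

end transport

section klein

variable {G : Type*} [Group G]

theorem isKleinFour_of_card_of_sq (U : Subgroup G) (h4 : Nat.card ↥U = 4)
    (hsq : ∀ u ∈ U, u * u = 1) : IsKleinFour ↥U where
  card_four := h4
  exponent_two := by
    have hdvd : Monoid.exponent ↥U ∣ 2 := by
      apply Monoid.exponent_dvd_of_forall_pow_eq_one
      rintro ⟨u, hu⟩
      apply Subtype.ext
      rw [pow_two]
      exact hsq u hu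
    have hne : Monoid.exponent ↥U ≠ 1 := by
      intro h1
      have hsub : Subsingleton ↥U := Monoid.exp_eq_one_iff.1 h1
      have : Nat.card ↥U ≤ 1 := Finite.card_le_one_iff_subsingleton.2 hsub
      omega
    rcases (Nat.dvd_prime Nat.prime_two).1 hdvd with h | h
    · exact absurd h hne
    · exact h

end klein

end Cfsg.Agent.Helper11.O168

namespace Cfsg.Agent.Helper11.O168

open Cfsg.Agent.Helper11 Cfsg.Agent.Helper11.D4Klein

variable {G : Type*} [Group G] [Finite G] [IsSimpleGroup G]

/-- A Sylow 2-subgroup contains exactly two Klein four-subgroups. -/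
theorem card_klein_in_sylow (h : Nat.card G = 168) (T : Sylow 2 G) :
    Nat.card {U : Subgroup G // U ≤ (T : Subgroup G) ∧ IsKleinFour ↥U} = 2 := by
  obtain ⟨φ⟩ := sylow2_dihedral h T
  have hsqtr : ∀ V : Subgroup (DihedralGroup 4), (∀ v ∈ V, v * v = 1) →
      ∀ u ∈ tr (T : Subgroup G) φ V, u * u = 1 := by
    intro V hV u hu
    rw [mem_tr] at hu
    obtain ⟨t, ht, rfl⟩ := hu
    have h1 := hV _ ht
    rw [← map_mul] at h1
    have h2 : t * t = 1 := φ.injective (by rw [h1, map_one])
    exact congrArg Subtype.val h2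
  have hK₁ : IsKleinFour ↥(tr (T : Subgroup G) φ V₁) :=
    isKleinFour_of_card_of_sq _ (by rw [card_tr, card_V₁]) (hsqtr V₁ sq_V₁)
  have hK₂ : IsKleinFour ↥(tr (T : Subgroup G) φ V₂) :=
    isKleinFour_of_card_of_sq _ (by rw [card_tr, card_V₂]) (hsqtr V₂ sq_V₂)
  rw [Nat.card_eq_two_iff]
  refine ⟨⟨tr (T : Subgroup G) φ V₁, tr_le _ _ _, hK₁⟩, ⟨tr (T : Subgroup G) φ V₂, tr_le _ _ _, hK₂⟩,
    ?_, ?_⟩
  · intro heq
    have heq' : tr (T : Subgroup G) φ V₁ = tr (T : Subgroup G) φ V₂ := congrArg Subtype.val heq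
    apply V₁_ne_V₂
    apply le_antisymm
    · intro v hv
      exact mem_of_tr_eq _ _ heq' v hv
    · intro v hv
      exact mem_of_tr_eq _ _ heq'.symm v hv
  · rw [Set.eq_univ_iff_forall]
    rintro ⟨U, hUT, hUK⟩
    have hU4 : Nat.card ↥U = 4 := IsKleinFour.card_four
    have hcard := card_subgroupOf_map (T : Subgroup G) φ U hUT
    rw [hU4] at hcard
    have hsq : ∀ u' ∈ (U.subgroupOf (T : Subgroup G)).map φ.toMonoidHom, u' * u' = 1 := by
      intro u' hu'
      rw [Subgroup.mem_map] at hu'
      obtain ⟨s, hs, rfl⟩ := hu'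
      have hsU : (s : G) ∈ U := Subgroup.mem_subgroupOf.1 hs
      have h2 : (⟨(s : G), hsU⟩ : ↥U) ^ 2 = 1 := by
        have := Monoid.pow_exponent_eq_one (⟨(s : G), hsU⟩ : ↥U)
        rwa [IsKleinFour.exponent_two] at this
      have h3 : (s : G) ^ 2 = 1 := congrArg Subtype.val h2
      have h4 : s * s = 1 := by
        apply Subtype.ext
        rw [pow_two] at h3
        exact h3
      change φ s * φ s = 1
      rw [← map_mul, h4, map_one]
    have hUeq := eq_tr (T : Subgroup G) φ U hUT
    rcases eq_V₁_or_V₂ _ hcard hsq with hV | hV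
    · left
      apply Subtype.ext
      change U = tr (T : Subgroup G) φ V₁
      rw [← hV]
      exact hUeq
    · right
      rw [Set.mem_singleton_iff]
      apply Subtype.ext
      change U = tr (T : Subgroup G) φ V₂
      rw [← hV]
      exact hUeq

end Cfsg.Agent.Helper11.O168
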