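import Mathlib
import Cfsg.Agent.Helper11.Order168d
import Cfsg.Agent.Helper11.SylowCount
import Cfsg.Agent.Helper11.SimpleTools
import Cfsg.Agent.Helper11.OrderP

set_option autoImplicit false

/-!
A simple group of order 168: maximal subgroups.
-/

namespace Cfsg.Agent.Helper11.O168

open Cfsg.Agent.Helper11

section general

variable {G : Type*} [Group G] [Finite G]

/-- If `|G| = m * p` with `p ∤ m` and `p ∣ |M|`, then `M` contains a Sylow `p`-subgroup of `G`. -/
theorem exists_sylow_le_of_dvd {p : ℕ} [Fact p.Prime] (m : ℕ) (hG : Nat.card G = m * p)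
    (hm : ¬ p ∣ m) (M : Subgroup G) (hM : p ∣ Nat.card ↥M) :
    ∃ P : Sylow p G, (P : Subgroup G) ≤ M ∧ Nat.card ↥(P : Subgroup G) = p := by
  have hp : p.Prime := Fact.out
  obtain ⟨k, hk⟩ := hM
  have hk' : Nat.card ↥M = k * p := by rw [hk, mul_comm]
  have hpk : ¬ p ∣ k := by
    rintro ⟨j, rfl⟩
    have h1 : Nat.card ↥M ∣ Nat.card G := Subgroup.card_subgroup_dvd_card M
    rw [hk', hG] at h1
    have h2 : p * j ∣ m := Nat.dvd_of_mul_dvd_mul_right hp.pos h1
    exact hm (dvd_trans (Dvd.intro _ rfl) h2)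
  obtain ⟨Q⟩ : Nonempty (Sylow p ↥M) := inferInstance
  have hQ := (sylow_card_of_card_eq k hk' hpk Q).1
  have hQ' : Nat.card ↥((Q : Subgroup ↥M).map M.subtype) = p := by
    rw [Subgroup.card_map_of_injective M.subtype_injective]
    exact hQ
  refine ⟨sylowOfCardPrime m hG hm _ hQ', ?_, ?_⟩
  · rw [coe_sylowOfCardPrime]
    exact Subgroup.map_subtype_le _
  · rw [coe_sylowOfCardPrime]
    exact hQ'

/-- A subgroup `M` in which the Sylow subgroup `P` of `G` has index less than `p` normalizes `P`. -/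
theorem le_normalizer_of_card_lt {p : ℕ} [Fact p.Prime] (P : Sylow p G) (M : Subgroup G)
    (hPM : (P : Subgroup G) ≤ M) (hlt : Nat.card ↥M < p * Nat.card ↥(P : Subgroup G)) :
    M ≤ Subgroup.normalizer ((P : Subgroup G) : Set G) := by
  rw [← Subgroup.normal_subgroupOf_iff_le_normalizer hPM]
  have h1 := relIndex_mul_card hPM
  have hpos : 0 < Nat.card ↥(P : Subgroup G) := Nat.card_pos
  have h2 : (P : Subgroup G).relIndex M < p := by
    by_contra hcon
    push Not at hcon
    have : p * Nat.card ↥(P : Subgroup G) ≤ (P : Subgroup G).relIndex M * Nat.card ↥(P : Subgroup G) :=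
      Nat.mul_le_mul_right _ hcon
    omega
  exact sylow_normal_of_index_lt (P.subtype hPM) h2

omit [Finite G] in
/-- Conjugating a Sylow subgroup conjugates its normalizer. -/
theorem normalizer_smul_sylow {p : ℕ} (g : G) (P : Sylow p G) :
    Subgroup.normalizer (((g • P : Sylow p G) : Subgroup G) : Set G) =
      (Subgroup.normalizer ((P : Subgroup G) : Set G)).map (MulAut.conj g).toMonoidHom := by
  rw [coe_smul_sylow]
  exact (Subgroup.map_equiv_normalizer_eq (P : Subgroup G) (MulAut.conj g)).symm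

omit [Finite G] in
theorem card_map_conj (H : Subgroup G) (g : G) :
    Nat.card ↥(H.map (MulAut.conj g).toMonoidHom) = Nat.card ↥H :=
  Subgroup.card_map_of_injective (MulAut.conj g).injective

/-- In a group of order 12 with more than one Sylow 3-subgroup, the Sylow 2-subgroup is unique. -/
theorem subsingleton_sylow2_of_card_twelve {H : Type*} [Group H] [Finite H]
    (hH : Nat.card H = 12) (h3 : Nat.card (Sylow 3 H) ≠ 1) : Subsingleton (Sylow 2 H) := by
  have : Fact (Nat.Prime 3) := ⟨by norm_num⟩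
  have : Fact (Nat.Prime 2) := ⟨by norm_num⟩
  obtain ⟨P⟩ : Nonempty (Sylow 3 H) := inferInstance
  have hP := sylow_card_of_card_eq 4 (by rw [hH] : Nat.card H = 4 * 3) (by norm_num) P
  have hn3 : Nat.card (Sylow 3 H) = 4 := by
    have h1 : Nat.card (Sylow 3 H) ∣ 4 := hP.2 ▸ P.card_dvd_index
    have h2 : Nat.card (Sylow 3 H) ≡ 1 [MOD 3] := card_sylow_modEq_one 3 H
    have hle : Nat.card (Sylow 3 H) ≤ 4 := Nat.le_of_dvd (by norm_num) h1
    unfold Nat.ModEq at h2
    revert h1 h2 h3
    generalize Nat.card (Sylow 3 H) = n at hle ⊢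
    interval_cases n <;> simp
  have hcount := card_orderOf_eq_prime P hP.1
  rw [hn3] at hcount
  have hS : Set.ncard {g : H | orderOf g ≠ 3} = 4 := by
    have h1 := Set.ncard_add_ncard_compl {g : H | orderOf g ≠ 3}
    have h2 : {g : H | orderOf g ≠ 3}ᶜ = {g : H | orderOf g = 3} := by
      ext g
      simp
    have h3' : Set.ncard {g : H | orderOf g = 3} = Nat.card {g : H // orderOf g = 3} :=
      (Nat.card_coe_set_eq {g : H | orderOf g = 3}).symm
    rw [h2, h3', hcount, hH] at h1
    omega
  have key : ∀ Q : Sylow 2 H, ((Q : Subgroup H) : Set H) = {g : H | orderOf g ≠ 3} := by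
    intro Q
    have hQ := (sylow_card_of_card_eq_pow 3 2 (by rw [hH]; norm_num : Nat.card H = 3 * 2 ^ 2) (by norm_num) Q).1
    apply Set.eq_of_subset_of_ncard_le
    · intro g hg
      have h1 : orderOf (⟨g, hg⟩ : ↥(Q : Subgroup H)) ∣ Nat.card ↥(Q : Subgroup H) :=
        orderOf_dvd_natCard _
      rw [hQ, Subgroup.orderOf_mk] at h1
      intro h3'
      rw [h3'] at h1
      revert h1
      decide
    · rw [hS]
      have : Set.ncard ((Q : Subgroup H) : Set H) = Nat.card ↥(Q : Subgroup H) :=
        (Nat.card_coe_set_eq _).symm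
      rw [this, hQ]
      norm_num
    · exact Set.toFinite _
  constructor
  intro Q Q'
  apply Sylow.ext
  apply SetLike.coe_injective
  rw [key Q, key Q']

end general

variable {G : Type*} [Group G] [Finite G] [IsSimpleGroup G]

/-- A proper subgroup has order at most 24. -/
theorem card_le_of_ne_top (h : Nat.card G = 168) (K : Subgroup G) (hK : K ≠ ⊤) :
    Nat.card ↥K ≤ 24 := by
  have h1 := simple_two_mul_card_dvd_factorial (noncomm h) K hK
  have h2 := K.index_mul_card
  rw [h] at h1 h2
  by_contra hcon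
  push Not at hcon
  have h3 : K.index ≤ 6 := by
    by_contra h3
    push Not at h3
    have : 7 * 25 ≤ K.index * Nat.card ↥K := Nat.mul_le_mul h3 hcon
    omega
  have h4 : (K.index).factorial ∣ (6).factorial := Nat.factorial_dvd_factorial h3
  have h5 : 2 * 168 ∣ (6).factorial := dvd_trans h1 h4
  revert h5
  decide

omit [Finite G] [IsSimpleGroup G] in
/-- A subgroup contained in a strictly larger proper subgroup is not maximal. -/
theorem not_coatom_of_le (h : Nat.card G = 168) (M K : Subgroup G) (hMK : M ≤ K)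
    (hlt : Nat.card ↥M < Nat.card ↥K) (hK : Nat.card ↥K < 168) : ¬ IsCoatom M := by
  intro hM
  have hne : M ≠ K := by
    rintro rfl
    exact lt_irrefl _ hlt
  have := hM.2 K (lt_of_le_of_ne hMK hne)
  rw [this, Subgroup.card_top, h] at hK
  exact lt_irrefl _ hK

/-- Every Sylow 2-subgroup contains a Klein four-subgroup. -/
theorem exists_klein_le (h : Nat.card G = 168) (T : Sylow 2 G) :
    ∃ U : Subgroup G, U ≤ (T : Subgroup G) ∧ IsKleinFour ↥U := by
  have h2 := card_klein_in_sylow h T
  have : Nonempty {U : Subgroup G // U ≤ (T : Subgroup G) ∧ IsKleinFour ↥U} := by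
    apply (Nat.card_pos_iff.1 _).1
    omega
  obtain ⟨⟨U, hU1, hU2⟩⟩ := this
  exact ⟨U, hU1, hU2⟩

/-- A 2-subgroup is not maximal. -/
theorem not_coatom_of_two_group (h : Nat.card G = 168) (M : Subgroup G) (k : ℕ)
    (hM : Nat.card ↥M = 2 ^ k) : ¬ IsCoatom M := by
  have : Fact (Nat.Prime 2) := ⟨by norm_num⟩
  have hp : IsPGroup 2 ↥M := IsPGroup.of_card hM
  obtain ⟨T, hT⟩ := hp.exists_le_sylow
  obtain ⟨U, hUT, hUK⟩ := exists_klein_le h T
  have hT8 := card_sylow2 h T
  have hTN := le_normalizer_of_card_four (T : Subgroup G) hT8 U hUT IsKleinFour.card_four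
  have h24 := card_normalizer_klein h U
  have h8 : Nat.card ↥M ≤ 8 := hT8 ▸ Subgroup.card_le_of_le hT
  exact not_coatom_of_le h M _ (hT.trans hTN) (by omega) (by omega)

/-- A subgroup of order 3 is not maximal. -/
theorem not_coatom_of_card_three (h : Nat.card G = 168) (M : Subgroup G)
    (hM : Nat.card ↥M = 3) : ¬ IsCoatom M := by
  have : Fact (Nat.Prime 3) := ⟨by norm_num⟩
  have hG : Nat.card G = 56 * 3 := by rw [h]
  have hN := card_normalizer3 h (sylowOfCardPrime 56 hG (by norm_num) M hM)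
  rw [coe_sylowOfCardPrime] at hN
  exact not_coatom_of_le h M _ Subgroup.le_normalizer (by omega) (by omega)

/-- A subgroup of order 7 is not maximal. -/
theorem not_coatom_of_card_seven (h : Nat.card G = 168) (M : Subgroup G)
    (hM : Nat.card ↥M = 7) : ¬ IsCoatom M := by
  have : Fact (Nat.Prime 7) := ⟨by norm_num⟩
  have hG : Nat.card G = 24 * 7 := by rw [h]
  have hN := card_normalizer7 h (sylowOfCardPrime 24 hG (by norm_num) M hM)
  rw [coe_sylowOfCardPrime] at hN
  exact not_coatom_of_le h M _ Subgroup.le_normalizer (by omega) (by omega)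

/-- There is no subgroup of order 14. -/
theorem card_ne_fourteen (h : Nat.card G = 168) (M : Subgroup G) : Nat.card ↥M ≠ 14 := by
  intro hM
  have : Fact (Nat.Prime 7) := ⟨by norm_num⟩
  have hG : Nat.card G = 24 * 7 := by rw [h]
  obtain ⟨P, hPM, hP⟩ := exists_sylow_le_of_dvd 24 hG (by norm_num) M (by rw [hM]; norm_num)
  have h1 := le_normalizer_of_card_lt P M hPM (by rw [hM, hP]; norm_num)
  have h2 := Subgroup.card_dvd_of_le h1
  rw [hM, card_normalizer7 h P] at h2
  revert h2
  decide

/-- A subgroup of order 21 is the normalizer of a Sylow 7-subgroup. -/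
theorem eq_normalizer7_of_card (h : Nat.card G = 168) (M : Subgroup G) (hM : Nat.card ↥M = 21) :
    ∃ P : Sylow 7 G, (P : Subgroup G) ≤ M ∧ M = Subgroup.normalizer ((P : Subgroup G) : Set G) := by
  have : Fact (Nat.Prime 7) := ⟨by norm_num⟩
  have hG : Nat.card G = 24 * 7 := by rw [h]
  obtain ⟨P, hPM, hP⟩ := exists_sylow_le_of_dvd 24 hG (by norm_num) M (by rw [hM]; norm_num)
  have h1 := le_normalizer_of_card_lt P M hPM (by rw [hM, hP]; norm_num)
  refine ⟨P, hPM, ?_⟩
  exact Subgroup.eq_of_le_of_card_ge h1 (by rw [hM, card_normalizer7 h P])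

/-- A subgroup of order 21 is not abelian. -/
theorem not_comm_of_card_twentyone (h : Nat.card G = 168) (M : Subgroup G)
    (hM : Nat.card ↥M = 21) : ¬ IsMulCommutative ↥M := by
  intro hc
  obtain ⟨P, hPM, -⟩ := eq_normalizer7_of_card h M hM
  have h1 : M ≤ Subgroup.centralizer ((P : Subgroup G) : Set G) := by
    intro m hm
    rw [Subgroup.mem_centralizer_iff]
    intro x hx
    have := hc.is_comm.comm (⟨x, hPM hx⟩ : ↥M) ⟨m, hm⟩
    exact congrArg Subtype.val this
  have h2 := Subgroup.card_le_of_le h1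
  rw [hM, card_centralizer7 h P] at h2
  omega

/-- Two subgroups of order 21 are conjugate. -/
theorem conj_of_card_twentyone (h : Nat.card G = 168) (M M' : Subgroup G)
    (hM : Nat.card ↥M = 21) (hM' : Nat.card ↥M' = 21) :
    ∃ g : G, M' = M.map (MulAut.conj g).toMonoidHom := by
  have : Fact (Nat.Prime 7) := ⟨by norm_num⟩
  obtain ⟨P, -, hP⟩ := eq_normalizer7_of_card h M hM
  obtain ⟨P', -, hP'⟩ := eq_normalizer7_of_card h M' hM'
  obtain ⟨g, hg⟩ := MulAction.exists_smul_eq G P P'
  refine ⟨g, ?_⟩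
  rw [hP', hP, ← hg]
  exact normalizer_smul_sylow g P

/-- The normalizer of a Klein four-group contains the normalizer of one of its Sylow
3-subgroups. -/
theorem exists_normalizer3_le (h : Nat.card G = 168) (U : Subgroup G) [IsKleinFour ↥U] :
    ∃ Q : Sylow 3 G, Subgroup.normalizer ((Q : Subgroup G) : Set G) ≤
      Subgroup.normalizer (U : Set G) := by
  have : Fact (Nat.Prime 3) := ⟨by norm_num⟩
  have hG : Nat.card G = 56 * 3 := by rw [h]
  have h24 : Nat.card ↥(Subgroup.normalizer (U : Set G)) = 24 := card_normalizer_klein h U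
  obtain ⟨Q, hQN, hQ⟩ := exists_sylow_le_of_dvd 56 hG (by norm_num) (Subgroup.normalizer (U : Set G))
    (by rw [h24]; norm_num)
  refine ⟨Q, ?_⟩
  have hQ'card : Nat.card ↥((Q.subtype hQN : Sylow 3 ↥(Subgroup.normalizer (U : Set G))) :
      Subgroup ↥(Subgroup.normalizer (U : Set G))) = 3 := by
    rw [Sylow.coe_subtype, Nat.card_congr (Subgroup.subgroupOfEquivOfLe hQN).toEquiv]
    exact hQ
  have h1 := card_sylow_mul_card_normalizer (Q.subtype hQN)
  rw [h24] at h1
  have h2 : Nat.card (Sylow 3 ↥(Subgroup.normalizer (U : Set G))) ≡ 1 [MOD 3] :=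
    card_sylow_modEq_one 3 _
  have h3 : Nat.card (Sylow 3 ↥(Subgroup.normalizer (U : Set G))) ≠ 1 := by
    intro h3
    have : Subsingleton (Sylow 3 ↥(Subgroup.normalizer (U : Set G))) :=
      (Nat.card_eq_one_iff_unique.mp h3).1
    have hnorm := (Q.subtype hQN).normal_of_subsingleton
    rw [Sylow.coe_subtype] at hnorm
    have hle : Subgroup.normalizer (U : Set G) ≤ Subgroup.normalizer ((Q : Subgroup G) : Set G) :=
      (Subgroup.normal_subgroupOf_iff_le_normalizer hQN).1 hnorm
    have := Subgroup.card_le_of_le hle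
    rw [h24, card_normalizer3 h Q] at this
    omega
  have h4 : Nat.card (Sylow 3 ↥(Subgroup.normalizer (U : Set G))) ∣ 8 := by
    have h5 := (Q.subtype hQN).card_dvd_index
    have hidx := ((Q.subtype hQN : Sylow 3 ↥(Subgroup.normalizer (U : Set G))) :
      Subgroup ↥(Subgroup.normalizer (U : Set G))).index_mul_card
    rw [hQ'card, h24] at hidx
    have h6 : ((Q.subtype hQN : Sylow 3 ↥(Subgroup.normalizer (U : Set G))) :
      Subgroup ↥(Subgroup.normalizer (U : Set G))).index = 8 := by omega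
    rwa [h6] at h5
  have h5 : Nat.card (Sylow 3 ↥(Subgroup.normalizer (U : Set G))) = 4 := by
    have hle : Nat.card (Sylow 3 ↥(Subgroup.normalizer (U : Set G))) ≤ 8 :=
      Nat.le_of_dvd (by norm_num) h4
    unfold Nat.ModEq at h2
    revert h2 h3 h4
    generalize Nat.card (Sylow 3 ↥(Subgroup.normalizer (U : Set G))) = n at hle ⊢
    interval_cases n <;> simp
  rw [h5] at h1
  have h6 : Nat.card ↥(Subgroup.normalizer (((Q.subtype hQN : Sylow 3
      ↥(Subgroup.normalizer (U : Set G))) : Subgroup ↥(Subgroup.normalizer (U : Set G))) :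
      Set ↥(Subgroup.normalizer (U : Set G)))) = 6 := by omega
  rw [Sylow.coe_subtype, ← Subgroup.subgroupOf_normalizer_eq hQN,
    ← Subgroup.inf_subgroupOf_right,
    Nat.card_congr (Subgroup.subgroupOfEquivOfLe inf_le_right).toEquiv] at h6
  have h9 : Subgroup.normalizer ((Q : Subgroup G) : Set G) ⊓ Subgroup.normalizer (U : Set G) =
      Subgroup.normalizer ((Q : Subgroup G) : Set G) :=
    Subgroup.eq_of_le_of_card_ge inf_le_left (by rw [h6, card_normalizer3 h Q])
  exact h9 ▸ inf_le_right

/-- The normalizer of a Sylow 3-subgroup lies in a subgroup of order 24. -/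
theorem exists_card_twentyfour_ge_normalizer3 (h : Nat.card G = 168) (P : Sylow 3 G) :
    ∃ K : Subgroup G, Subgroup.normalizer ((P : Subgroup G) : Set G) ≤ K ∧ Nat.card ↥K = 24 := by
  have : Fact (Nat.Prime 2) := ⟨by norm_num⟩
  have : Fact (Nat.Prime 3) := ⟨by norm_num⟩
  obtain ⟨T⟩ : Nonempty (Sylow 2 G) := inferInstance
  obtain ⟨U, hUT, hUK⟩ := exists_klein_le h T
  obtain ⟨Q, hQ⟩ := exists_normalizer3_le h U
  obtain ⟨g, hg⟩ := MulAction.exists_smul_eq G Q P
  refine ⟨(Subgroup.normalizer (U : Set G)).map (MulAut.conj g).toMonoidHom, ?_, ?_⟩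
  · rw [← hg, normalizer_smul_sylow]
    exact Subgroup.map_mono hQ
  · rw [card_map_conj]
    exact card_normalizer_klein h U

/-- A subgroup of order 6 is not maximal. -/
theorem not_coatom_of_card_six (h : Nat.card G = 168) (M : Subgroup G)
    (hM : Nat.card ↥M = 6) : ¬ IsCoatom M := by
  have : Fact (Nat.Prime 3) := ⟨by norm_num⟩
  have hG : Nat.card G = 56 * 3 := by rw [h]
  obtain ⟨P, hPM, hP⟩ := exists_sylow_le_of_dvd 56 hG (by norm_num) M (by rw [hM]; norm_num)
  have h1 := le_normalizer_of_card_lt P M hPM (by rw [hM, hP]; norm_num)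
  obtain ⟨K, hK, hK24⟩ := exists_card_twentyfour_ge_normalizer3 h P
  exact not_coatom_of_le h M K (h1.trans hK) (by omega) (by omega)

/-- A subgroup of order 12 is not maximal. -/
theorem not_coatom_of_card_twelve (h : Nat.card G = 168) (M : Subgroup G)
    (hM : Nat.card ↥M = 12) : ¬ IsCoatom M := by
  have : Fact (Nat.Prime 3) := ⟨by norm_num⟩
  have : Fact (Nat.Prime 2) := ⟨by norm_num⟩
  have hG : Nat.card G = 56 * 3 := by rw [h]
  obtain ⟨P, hPM, hP⟩ := exists_sylow_le_of_dvd 56 hG (by norm_num) M (by rw [hM]; norm_num)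
  have h3 : Nat.card (Sylow 3 ↥M) ≠ 1 := by
    intro h3
    have : Subsingleton (Sylow 3 ↥M) := (Nat.card_eq_one_iff_unique.mp h3).1
    have hnorm := (P.subtype hPM).normal_of_subsingleton
    rw [Sylow.coe_subtype] at hnorm
    have hle : M ≤ Subgroup.normalizer ((P : Subgroup G) : Set G) :=
      (Subgroup.normal_subgroupOf_iff_le_normalizer hPM).1 hnorm
    have := Subgroup.card_le_of_le hle
    rw [hM, card_normalizer3 h P] at this
    omega
  have hss := subsingleton_sylow2_of_card_twelve hM h3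
  obtain ⟨Q⟩ : Nonempty (Sylow 2 ↥M) := inferInstance
  have hQn : (Q : Subgroup ↥M).Normal := Q.normal_of_subsingleton
  have hQ4 : Nat.card ↥(Q : Subgroup ↥M) = 4 :=
    (sylow_card_of_card_eq_pow 3 2 (by rw [hM]; norm_num : Nat.card ↥M = 3 * 2 ^ 2) (by norm_num) Q).1
  have hW4 : Nat.card ↥((Q : Subgroup ↥M).map M.subtype) = 4 := by
    rw [Subgroup.card_map_of_injective M.subtype_injective]
    exact hQ4
  have hWM : (Q : Subgroup ↥M).map M.subtype ≤ M := Subgroup.map_subtype_le _
  have hMN : M ≤ Subgroup.normalizer (((Q : Subgroup ↥M).map M.subtype : Subgroup G) : Set G) := by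
    rw [← Subgroup.normal_subgroupOf_iff_le_normalizer hWM]
    have : ((Q : Subgroup ↥M).map M.subtype).subgroupOf M = (Q : Subgroup ↥M) :=
      Subgroup.comap_map_eq_self_of_injective M.subtype_injective _
    rw [this]
    exact hQn
  have hp : IsPGroup 2 ↥((Q : Subgroup ↥M).map M.subtype) := IsPGroup.of_card (n := 2) hW4
  obtain ⟨T, hT⟩ := hp.exists_le_sylow
  have hTN := le_normalizer_of_card_four (T : Subgroup G) (card_sylow2 h T) _ hT hW4
  have hK12 : 12 ∣ Nat.card ↥(Subgroup.normalizer
      (((Q : Subgroup ↥M).map M.subtype : Subgroup G) : Set G)) := hM ▸ Subgroup.card_dvd_of_le hMN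
  have hK8 : 8 ∣ Nat.card ↥(Subgroup.normalizer
      (((Q : Subgroup ↥M).map M.subtype : Subgroup G) : Set G)) :=
    card_sylow2 h T ▸ Subgroup.card_dvd_of_le hTN
  have hKtop : Subgroup.normalizer (((Q : Subgroup ↥M).map M.subtype : Subgroup G) : Set G) ≠ ⊤ := by
    intro hK
    rw [Subgroup.normalizer_eq_top_iff] at hK
    rcases hK.eq_bot_or_eq_top with h0 | h0
    · rw [h0, Subgroup.card_bot] at hW4
      omega
    · rw [h0, Subgroup.card_top, h] at hW4
      omega
  have hK24 := card_le_of_ne_top h _ hKtop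
  have hpos : 0 < Nat.card ↥(Subgroup.normalizer
      (((Q : Subgroup ↥M).map M.subtype : Subgroup G) : Set G)) := Nat.card_pos
  exact not_coatom_of_le h M _ hMN (by omega) (by omega)

/-- A subgroup of order 24 is a symmetric group of degree 4. -/
theorem equiv_perm_of_card (h : Nat.card G = 168) (M : Subgroup G) (hM : Nat.card ↥M = 24) :
    Nonempty (↥M ≃* Equiv.Perm (Fin 4)) := by
  apply Cfsg.Agent.S1012.result hM
  intro g hg
  have h6 : orderOf (g : G) = 6 := by rw [Subgroup.orderOf_coe]; exact hg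
  have := orderOf_mem h (g : G)
  omega

end Cfsg.Agent.Helper11.O168
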