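import Mathlib
import Cfsg.Agent.Helper11.Order168e

set_option autoImplicit false

/-!
A simple group of order 168: conjugacy classes of maximal subgroups.
-/

namespace Cfsg.Agent.Helper11.O168

open Cfsg.Agent.Helper11

set_option maxRecDepth 100000 in
/-- The normal Klein four-subgroup of the symmetric group of degree 4. -/
def permV4 : Subgroup (Equiv.Perm (Fin 4)) where
  carrier := {σ | σ * σ = 1 ∧ Equiv.Perm.sign σ = 1}
  one_mem' := by
    refine ⟨by simp, by simp⟩
  mul_mem' := by
    intro a b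
    simp only [Set.mem_ofPred_eq]
    revert a b
    decide
  inv_mem' := by
    intro a
    simp only [Set.mem_ofPred_eq]
    revert a
    decide

theorem mem_permV4 (σ : Equiv.Perm (Fin 4)) : σ ∈ permV4 ↔ σ * σ = 1 ∧ Equiv.Perm.sign σ = 1 :=
  Iff.rfl

theorem card_permV4 : Nat.card ↥permV4 = 4 := by
  have : Nat.card ↥permV4 = Nat.card {σ : Equiv.Perm (Fin 4) // σ * σ = 1 ∧ Equiv.Perm.sign σ = 1} :=
    rfl
  rw [this, Nat.card_eq_fintype_card]
  decide

theorem conj_mem_permV4 (g σ : Equiv.Perm (Fin 4)) (hσ : σ ∈ permV4) : g * σ * g⁻¹ ∈ permV4 := by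
  rw [mem_permV4] at *
  constructor
  · have : g * σ * g⁻¹ * (g * σ * g⁻¹) = g * (σ * σ) * g⁻¹ := by group
    rw [this, hσ.1]
    group
  · rw [map_mul, map_mul, hσ.2, map_inv]
    simp

section general

variable {G : Type*} [Group G]

theorem klein_sq (U : Subgroup G) [IsKleinFour ↥U] (u : G) (hu : u ∈ U) : u * u = 1 := by
  have h2 : (⟨u, hu⟩ : ↥U) ^ 2 = 1 := by
    have := Monoid.pow_exponent_eq_one (⟨u, hu⟩ : ↥U)
    rwa [IsKleinFour.exponent_two] at this
  have h3 : u ^ 2 = 1 := congrArg Subtype.val h2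
  rwa [pow_two] at h3

theorem isKleinFour_map_conj (U : Subgroup G) [IsKleinFour ↥U] (g : G) :
    IsKleinFour ↥(U.map (MulAut.conj g).toMonoidHom) := by
  apply isKleinFour_of_card_of_sq
  · rw [Subgroup.card_map_of_injective (MulAut.conj g).injective]
    exact IsKleinFour.card_four
  · rintro _ ⟨u, hu, rfl⟩
    change g * u * g⁻¹ * (g * u * g⁻¹) = 1
    have : g * u * g⁻¹ * (g * u * g⁻¹) = g * (u * u) * g⁻¹ := by group
    rw [this, klein_sq U u hu]
    group

theorem mem_normalizer_of_map_conj_eq (H : Subgroup G) (n : G)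
    (hn : H.map (MulAut.conj n).toMonoidHom = H) : n ∈ Subgroup.normalizer (H : Set G) := by
  rw [Subgroup.mem_normalizer_iff]
  intro x
  constructor
  · intro hx
    rw [← hn]
    exact ⟨x, hx, rfl⟩
  · intro hx
    rw [← hn] at hx
    obtain ⟨y, hy, hyx⟩ := hx
    have h1 : n * y * n⁻¹ = n * x * n⁻¹ := hyx
    have h2 : y = x := by
      have := congrArg (fun z => n⁻¹ * z * n) h1
      beta_reduce at this
      have e1 : n⁻¹ * (n * y * n⁻¹) * n = y := by group
      have e2 : n⁻¹ * (n * x * n⁻¹) * n = x := by group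
      rw [e1, e2] at this
      exact this
    exact h2 ▸ hy

theorem normalizer_inf_le_normalizer_sup (A B : Subgroup G) :
    Subgroup.normalizer (A : Set G) ⊓ Subgroup.normalizer (B : Set G) ≤
      Subgroup.normalizer ((A ⊔ B : Subgroup G) : Set G) := by
  intro n hn
  apply mem_normalizer_of_map_conj_eq
  rw [Subgroup.map_sup, map_conj_eq_of_mem_normalizer A n hn.1,
    map_conj_eq_of_mem_normalizer B n hn.2]

theorem normalizer_map_conj (U : Subgroup G) (g : G) :
    Subgroup.normalizer ((U.map (MulAut.conj g).toMonoidHom : Subgroup G) : Set G) =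
      (Subgroup.normalizer (U : Set G)).map (MulAut.conj g).toMonoidHom :=
  (Subgroup.map_equiv_normalizer_eq U (MulAut.conj g)).symm

end general

variable {G : Type*} [Group G] [Finite G] [IsSimpleGroup G]

/-- A subgroup of order 24 is maximal. -/
theorem coatom_of_card_twentyfour (h : Nat.card G = 168) (M : Subgroup G)
    (hM : Nat.card ↥M = 24) : IsCoatom M := by
  constructor
  · intro htop
    rw [htop, Subgroup.card_top, h] at hM
    omega
  · intro K hK
    by_contra hne
    have h1 := card_le_of_ne_top h K hne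
    have h2 : M = K := Subgroup.eq_of_le_of_card_ge hK.le (by rw [hM]; exact h1)
    exact hK.ne h2

/-- A subgroup of order 24 is the normalizer of a Klein four-subgroup. -/
theorem exists_klein_normalizer_eq (h : Nat.card G = 168) (M : Subgroup G)
    (hM : Nat.card ↥M = 24) :
    ∃ U : Subgroup G, IsKleinFour ↥U ∧ M = Subgroup.normalizer (U : Set G) := by
  obtain ⟨φ⟩ := equiv_perm_of_card h M hM
  have hsq : ∀ u ∈ tr M φ permV4, u * u = 1 := by
    intro u hu
    rw [mem_tr] at hu
    obtain ⟨t, ht, rfl⟩ := hu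
    have h1 := ht.1
    rw [← map_mul] at h1
    have h2 : t * t = 1 := φ.injective (by rw [h1, map_one])
    exact congrArg Subtype.val h2
  have hK : IsKleinFour ↥(tr M φ permV4) :=
    isKleinFour_of_card_of_sq _ (by rw [card_tr, card_permV4]) hsq
  refine ⟨tr M φ permV4, hK, ?_⟩
  have hle : M ≤ Subgroup.normalizer ((tr M φ permV4 : Subgroup G) : Set G) := by
    intro m hm
    apply mem_normalizer_of_map_conj_eq
    apply Subgroup.eq_of_le_of_card_ge
    · rintro _ ⟨u, hu, rfl⟩
      rw [SetLike.mem_coe, mem_tr] at hu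
      obtain ⟨t, ht, rfl⟩ := hu
      change m * (t : G) * m⁻¹ ∈ tr M φ permV4
      rw [mem_tr]
      refine ⟨⟨m, hm⟩ * t * ⟨m, hm⟩⁻¹, ?_, rfl⟩
      rw [map_mul, map_mul, map_inv]
      exact conj_mem_permV4 _ _ ht
    · rw [card_map_conj]
  exact Subgroup.eq_of_le_of_card_ge hle (by rw [hM, card_normalizer_klein h _])

/-- A maximal subgroup has order 21 or 24. -/
theorem card_coatom (h : Nat.card G = 168) (M : Subgroup G) (hM : IsCoatom M) :
    Nat.card ↥M = 21 ∨ Nat.card ↥M = 24 := by
  have hle := card_le_of_ne_top h M hM.1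
  have hdvd : Nat.card ↥M ∣ 168 := h ▸ Subgroup.card_subgroup_dvd_card M
  have hpos : 0 < Nat.card ↥M := Nat.card_pos
  have hcases : Nat.card ↥M = 2 ^ 0 ∨ Nat.card ↥M = 2 ^ 1 ∨ Nat.card ↥M = 2 ^ 2 ∨
      Nat.card ↥M = 2 ^ 3 ∨ Nat.card ↥M = 3 ∨ Nat.card ↥M = 7 ∨ Nat.card ↥M = 6 ∨
      Nat.card ↥M = 12 ∨ Nat.card ↥M = 14 ∨ Nat.card ↥M = 21 ∨ Nat.card ↥M = 24 := by
    revert hdvd hpos
    generalize Nat.card ↥M = c at hle ⊢
    intro hdvd hpos
    interval_cases c <;> omega
  rcases hcases with h1 | h1 | h1 | h1 | h1 | h1 | h1 | h1 | h1 | h1 | h1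
  · exact absurd hM (not_coatom_of_two_group h M 0 h1)
  · exact absurd hM (not_coatom_of_two_group h M 1 h1)
  · exact absurd hM (not_coatom_of_two_group h M 2 h1)
  · exact absurd hM (not_coatom_of_two_group h M 3 h1)
  · exact absurd hM (not_coatom_of_card_three h M h1)
  · exact absurd hM (not_coatom_of_card_seven h M h1)
  · exact absurd hM (not_coatom_of_card_six h M h1)
  · exact absurd hM (not_coatom_of_card_twelve h M h1)
  · exact absurd h1 (card_ne_fourteen h M)
  · exact Or.inl h1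
  · exact Or.inr h1

/-- The subgroups of order 24 form exactly two conjugacy classes. -/
theorem s4_classes (h : Nat.card G = 168) :
    ∃ M₁ M₂ : Subgroup G, Nat.card ↥M₁ = 24 ∧ Nat.card ↥M₂ = 24 ∧
      (∀ g : G, M₂ ≠ M₁.map (MulAut.conj g).toMonoidHom) ∧
      ∀ M : Subgroup G, Nat.card ↥M = 24 →
        ∃ g : G, M = M₁.map (MulAut.conj g).toMonoidHom ∨
          M = M₂.map (MulAut.conj g).toMonoidHom := by
  have : Fact (Nat.Prime 2) := ⟨by norm_num⟩
  obtain ⟨T⟩ : Nonempty (Sylow 2 G) := inferInstance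
  have hT8 := card_sylow2 h T
  obtain ⟨⟨U₁, hU₁T, hU₁K⟩, ⟨U₂, hU₂T, hU₂K⟩, hne, huniv⟩ :=
    Nat.card_eq_two_iff.1 (card_klein_in_sylow h T)
  have hne' : U₁ ≠ U₂ := fun hh => hne (Subtype.ext hh)
  have hall : ∀ W : Subgroup G, W ≤ (T : Subgroup G) → IsKleinFour ↥W → W = U₁ ∨ W = U₂ := by
    intro W hWT hWK
    have hmem : (⟨W, hWT, hWK⟩ : {U : Subgroup G // U ≤ (T : Subgroup G) ∧ IsKleinFour ↥U}) ∈
        (Set.univ : Set {U : Subgroup G // U ≤ (T : Subgroup G) ∧ IsKleinFour ↥U}) := Set.mem_univ _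
    rw [← huniv] at hmem
    rcases hmem with h1 | h1
    · left
      exact congrArg Subtype.val h1
    · right
      exact congrArg Subtype.val h1
  have hU₁4 : Nat.card ↥U₁ = 4 := IsKleinFour.card_four
  have hU₂4 : Nat.card ↥U₂ = 4 := IsKleinFour.card_four
  refine ⟨Subgroup.normalizer (U₁ : Set G), Subgroup.normalizer (U₂ : Set G),
    card_normalizer_klein h U₁, card_normalizer_klein h U₂, ?_, ?_⟩
  · intro g heq
    rw [← normalizer_map_conj] at heq
    have hWK := isKleinFour_map_conj U₁ g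
    have hW4 : Nat.card ↥(U₁.map (MulAut.conj g).toMonoidHom) = 4 := IsKleinFour.card_four
    have hTN₂ := le_normalizer_of_card_four (T : Subgroup G) hT8 U₂ hU₂T hU₂4
    have hTNW : (T : Subgroup G) ≤
        Subgroup.normalizer ((U₁.map (MulAut.conj g).toMonoidHom : Subgroup G) : Set G) :=
      heq ▸ hTN₂
    have hWp : IsPGroup 2 ↥(U₁.map (MulAut.conj g).toMonoidHom) := IsPGroup.of_card (n := 2) hW4
    have hsup : IsPGroup 2 ↥((T : Subgroup G) ⊔ U₁.map (MulAut.conj g).toMonoidHom) :=
      T.2.to_sup_of_normal_right' hWp hTNW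
    have hWT : U₁.map (MulAut.conj g).toMonoidHom ≤ (T : Subgroup G) := by
      have := T.3 hsup le_sup_left
      rw [← this]
      exact le_sup_right
    rcases hall _ hWT hWK with h1 | h1
    · rw [h1] at heq
      have hsupT : U₁ ⊔ U₂ = (T : Subgroup G) := by
        apply Subgroup.eq_of_le_of_card_ge (sup_le hU₁T hU₂T)
        rw [hT8]
        have h4 : 4 ∣ Nat.card ↥(U₁ ⊔ U₂) := hU₁4 ▸ Subgroup.card_dvd_of_le le_sup_left
        have hlt : 4 < Nat.card ↥(U₁ ⊔ U₂) := by
          by_contra hcon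
          push Not at hcon
          have e1 : U₁ = U₁ ⊔ U₂ :=
            Subgroup.eq_of_le_of_card_ge le_sup_left (by rw [hU₁4]; exact hcon)
          have e2 : U₂ = U₁ ⊔ U₂ :=
            Subgroup.eq_of_le_of_card_ge le_sup_right (by rw [hU₂4]; exact hcon)
          exact hne' (e1.trans e2.symm)
        omega
      have hN : Subgroup.normalizer (U₂ : Set G) ≤
          Subgroup.normalizer (((T : Subgroup G) : Subgroup G) : Set G) := by
        rw [← hsupT]
        refine le_trans ?_ (normalizer_inf_le_normalizer_sup U₁ U₂)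
        rw [← heq]
        exact le_inf le_rfl le_rfl
      rw [normalizer2_eq h T] at hN
      have := Subgroup.card_le_of_le hN
      rw [card_normalizer_klein h U₂, hT8] at this
      omega
    · exact klein_not_conj h T U₁ U₂ hU₁T hU₂T hne' g h1
  · intro M hM
    obtain ⟨U, hUK, hMU⟩ := exists_klein_normalizer_eq h M hM
    have hUp : IsPGroup 2 ↥U := IsPGroup.of_card (n := 2) IsKleinFour.card_four
    obtain ⟨x, hx⟩ := exists_conj_le_sylow 2 T U hUp
    have hWK := isKleinFour_map_conj U x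
    have hWT : U.map (MulAut.conj x).toMonoidHom ≤ (T : Subgroup G) := by
      rintro _ ⟨u, hu, rfl⟩
      exact hx u hu
    have hUW : (U.map (MulAut.conj x).toMonoidHom).map (MulAut.conj x⁻¹).toMonoidHom = U := by
      rw [← map_conj_mul, inv_mul_cancel]
      ext y
      simp
    refine ⟨x⁻¹, ?_⟩
    rcases hall _ hWT hWK with h1 | h1
    · left
      rw [hMU, ← normalizer_map_conj, ← h1, hUW]
    · right
      rw [hMU, ← normalizer_map_conj, ← h1, hUW]

end Cfsg.Agent.Helper11.O168
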