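import Mathlib
import Cfsg.Agent.Helper11.CoverB
import Cfsg.Agent.Helper11.SL2MultB
import Cfsg.Agent.S0495
import Cfsg.Agent.S0249
import Cfsg.Agent.S0243

/-! The Schur multiplier of `PSL₃(2) ≅ PSL₂(7)` is cyclic of order 2. -/

set_option autoImplicit false

namespace Cfsg.Agent.Helper11.Cover

open scoped commutatorElement
open Matrix

universe u v

/-- a perfect central extension `π : G → Q` with `G` having no nontrivial stem extensions
exhibits `ker π` as the Schur multiplier of `Q` -/
theorem hasSchurMultiplier_of_cover {G Q : Type u} [Group G] [Group Q] [Finite G]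
    (hG : commutator G = ⊤)
    (hM : ∀ (P : Type u) [Group P] [Finite P] (ρ : P →* G), Cfsg.IsStemExtension ρ → ρ.ker = ⊥)
    (π : G →* Q) (hπ : Function.Surjective π) (hker : π.ker ≤ Subgroup.center G)
    {A : Type v} [CommGroup A] (e : A ≃* π.ker) : Cfsg.HasSchurMultiplier Q A := by
  constructor
  · refine ⟨G, inferInstance, inferInstance, π, ⟨hπ, hker, ?_⟩, ⟨e.symm⟩⟩
    rw [hG]; exact le_top
  · intro Δ _ _ τ hτ
    obtain ⟨η, hη⟩ := exists_lift.{u, u, u} hG hM π τ hτ.1 hτ.2.1
    obtain ⟨θ, hθ⟩ := exists_ker_surjection π hπ τ hτ η hη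
    exact ⟨θ.comp e.toMonoidHom, hθ.comp e.surjective⟩

theorem psl3_two {F : Type u} [Field F] [Fintype F] (hF : Fintype.card F = 2) :
    Cfsg.HasCyclicSchurMultiplier (Matrix.ProjectiveSpecialLinearGroup (Fin 3) F) 2 := by
  classical
  have h2 : ((2 : ZMod 7)) ≠ 0 := by decide
  have h4 : ((2 : ZMod 7)) ^ 2 ≠ 1 := by decide
  -- a field with seven elements in the right universe
  have : Fact (Nat.Prime 7) := ⟨by norm_num⟩
  let K := ULift.{u} (ZMod 7)
  have hK : Fintype.card K = 7 := by
    rw [Fintype.card_ulift, ZMod.card]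
  -- `PSL₃(2)` is simple of order 168
  have hsimple : IsSimpleGroup (Matrix.ProjectiveSpecialLinearGroup (Fin 3) F) :=
    Cfsg.Agent.S0249.result 3 le_rfl
  have hcard : Nat.card (Matrix.ProjectiveSpecialLinearGroup (Fin 3) F) = 168 := by
    have h := Cfsg.Agent.S0243.result hF 3 (by norm_num)
    rw [Fin.prod_univ_three] at h
    norm_num at h
    rw [Nat.card_eq_fintype_card]
    exact h
  have hfin : Finite (Matrix.ProjectiveSpecialLinearGroup (Fin 3) F) :=
    Nat.finite_of_card_ne_zero (by rw [hcard]; norm_num)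
  obtain ⟨e⟩ := Cfsg.Agent.S0495.result hcard hK
  -- the cover `SL₂(7)`
  let G := Matrix.SpecialLinearGroup (Fin 2) K
  let π₀ : G →* Matrix.ProjectiveSpecialLinearGroup (Fin 2) K :=
    QuotientGroup.mk' (Subgroup.center G)
  let π : G →* Matrix.ProjectiveSpecialLinearGroup (Fin 3) F := e.symm.toMonoidHom.comp π₀
  have hπ : Function.Surjective π := e.symm.surjective.comp (QuotientGroup.mk'_surjective _)
  have hkerπ : π.ker = Subgroup.center G := by
    ext x
    rw [MonoidHom.mem_ker, MonoidHom.comp_apply]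
    change e.symm (π₀ x) = 1 ↔ _
    rw [e.symm.map_eq_one_iff, ← MonoidHom.mem_ker, QuotientGroup.ker_mk']
  have hG : commutator G = ⊤ := by
    apply Matrix.SL2.commutator_eq_top (a := (ULift.up (2 : ZMod 7) : K))
    · intro h
      exact h2 (congrArg ULift.down h)
    · intro h
      exact h4 (congrArg ULift.down h)
  have hM : ∀ (P : Type u) [Group P] [Finite P] (ρ : P →* G),
      Cfsg.IsStemExtension ρ → ρ.ker = ⊥ := by
    intro P _ _ ρ hρ
    exact Cfsg.Agent.Helper11.SzMult.sl2_ker_eq_bot ρ (by rw [hK]; norm_num)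
      (by rw [hK]; norm_num) hρ.1 hρ.2.1 hρ.2.2
  have hc2 : Nat.card π.ker = 2 := by
    rw [hkerπ, Cfsg.Agent.Helper2.card_center_SL 2 (by norm_num),
      Cfsg.Agent.Helper2.card_units_field, hK]
    norm_num
  have : Fact (Nat.Prime 2) := ⟨Nat.prime_two⟩
  have hcz : Nat.card (Multiplicative (ZMod 2)) = 2 := by
    rw [Nat.card_eq_fintype_card, Fintype.card_multiplicative, ZMod.card]
  let ee : Multiplicative (ZMod 2) ≃* π.ker := mulEquivOfPrimeCardEq hcz hc2
  exact hasSchurMultiplier_of_cover hG hM π hπ (by rw [hkerπ]) ee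

end Cfsg.Agent.Helper11.Cover
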