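import Mathlib
import Cfsg.Agent.Helper2.SLCard

/-! Piece CENTER of helper2's S2086 plan: the centre of `SL_n(F)` over a finite field is cyclic of
order `gcd(n, |F| - 1)`. -/

set_option autoImplicit false

namespace Cfsg.Agent.S2086P

open Matrix

theorem center_equiv_zmod {F : Type*} [Field F] [Fintype F] (n : ℕ) (hn : 1 ≤ n) :
    Nonempty (Multiplicative (ZMod (Nat.gcd n (Fintype.card F - 1))) ≃*
      Subgroup.center (Matrix.SpecialLinearGroup (Fin n) F)) := by
  classical
  have hcard : Nat.card (Subgroup.center (SpecialLinearGroup (Fin n) F)) =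
      Nat.gcd n (Fintype.card F - 1) := by
    rw [Cfsg.Agent.Helper2.card_center_SL n hn, Cfsg.Agent.Helper2.card_units_field]
  have e := SpecialLinearGroup.center_equiv_rootsOfUnity (n := Fin n) (R := F)
  have hcyc : IsCyclic (Subgroup.center (SpecialLinearGroup (Fin n) F)) :=
    isCyclic_of_surjective e.symm.toMonoidHom e.symm.surjective
  have e2 := zmodCyclicMulEquiv hcyc
  rw [hcard] at e2
  exact ⟨e2⟩

end Cfsg.Agent.S2086P
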