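import Mathlib
import Cfsg.Agent.Helper11.PSL32Mult
import Cfsg.Agent.Helper11.PSLMCENTER

/-! Piece N2 of helper2's S2086 plan: the Schur multiplier of `PSL₂(q)`, `q ≥ 5`, `q ≠ 9`, is cyclic
of order `gcd(2, q - 1)` (cover `SL₂(q)`, which has no non-trivial stem extension). -/

set_option autoImplicit false

namespace Cfsg.Agent.S2086P

open Matrix

universe u

theorem exists_sq_ne_one_of_four_le {F : Type*} [Field F] [Fintype F] (h4 : 4 ≤ Fintype.card F) :
    ∃ a : F, a ≠ 0 ∧ a ^ 2 ≠ 1 := by
  classical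
  by_contra hcon
  push Not at hcon
  have hsub : (Finset.univ : Finset F) ⊆ {0, 1, -1} := by
    intro a _
    by_cases ha : a = 0
    · simp [ha]
    · have h1 := hcon a ha
      have h2 : (a - 1) * (a + 1) = 0 := by linear_combination h1
      rcases mul_eq_zero.mp h2 with h | h
      · have : a = 1 := by linear_combination h
        simp [this]
      · have : a = -1 := by linear_combination h
        simp [this]
  have hc := Finset.card_le_card hsub
  rw [Finset.card_univ] at hc
  have h3 : ({0, 1, -1} : Finset F).card ≤ 3 := Finset.card_le_three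
  omega

theorem psl_two_case {F : Type u} [Field F] [Fintype F] {q : ℕ} (hF : Fintype.card F = q)
    (h4 : 4 ≤ q) (hne4 : q ≠ 4) (hne9 : q ≠ 9) :
    Cfsg.HasCyclicSchurMultiplier (Matrix.ProjectiveSpecialLinearGroup (Fin 2) F)
      (Nat.gcd 2 (q - 1)) := by
  classical
  subst hF
  let G := Matrix.SpecialLinearGroup (Fin 2) F
  let π : G →* Matrix.ProjectiveSpecialLinearGroup (Fin 2) F :=
    QuotientGroup.mk' (Subgroup.center G)
  have hπ : Function.Surjective π := QuotientGroup.mk'_surjective _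
  have hkerπ : π.ker = Subgroup.center G := QuotientGroup.ker_mk' _
  obtain ⟨a, ha, hasq⟩ := exists_sq_ne_one_of_four_le (F := F) h4
  have hG : commutator G = ⊤ := Matrix.SL2.commutator_eq_top ha hasq
  have hM : ∀ (P : Type u) [Group P] [Finite P] (ρ : P →* G),
      Cfsg.IsStemExtension ρ → ρ.ker = ⊥ := by
    intro P _ _ ρ hρ
    exact Cfsg.Agent.Helper11.SzMult.sl2_ker_eq_bot ρ hne4 hne9 hρ.1 hρ.2.1 hρ.2.2
  obtain ⟨e⟩ := center_equiv_zmod (F := F) 2 (by norm_num)
  have ee : Multiplicative (ZMod (Nat.gcd 2 (Fintype.card F - 1))) ≃* π.ker := by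
    rw [hkerπ]
    exact e
  exact Cfsg.Agent.Helper11.Cover.hasSchurMultiplier_of_cover hG hM π hπ (by rw [hkerπ]) ee

end Cfsg.Agent.S2086P
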