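import Mathlib
import Cfsg.Agent.Helper10.S2092.DefsM
import Cfsg.Agent.Helper15.S2092XMEM

set_option autoImplicit false
set_option linter.unusedSectionVars false
set_option linter.unusedVariables false

/-! S2092 piece MDRELC, first part: the coercions of the model root elements of `Sp_{2n}(F)`. -/

namespace Cfsg.Agent.S2092P

open scoped commutatorElement
open Matrix Cfsg.Agent.S3352P Cfsg.Agent.S2096P

variable {n : ℕ} {F : Type*} [Field F]

theorem coe_gS {a b : J n} (hab : IsRoot a b) (t : F) :
    ((gS a b t : symplecticGroup (Fin n) F) : Matrix (J n) (J n) F) = xs a b t := by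
  unfold gS
  rw [dif_pos (xs_mem hab t)]

theorem coe_gL (a : J n) (t : F) :
    ((gL a t : symplecticGroup (Fin n) F) : Matrix (J n) (J n) F) = xl a t := by
  unfold gL
  rw [dif_pos (xl_mem a t)]

end Cfsg.Agent.S2092P
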