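import Mathlib
import Cfsg.Agent.Helper10.S2092.DefsM
import Cfsg.Agent.Helper12.SpTwoB
import Cfsg.Agent.Helper11.S2092MDRELC0

set_option autoImplicit false
set_option linter.unusedSectionVars false
set_option linter.unusedVariables false

/-! S2092 piece GENSP: the root elements generate `Sp_{2n}(F)`. -/

namespace Cfsg.Agent.S2092P

open scoped commutatorElement
open Matrix Cfsg.Agent.S3352P Cfsg.Agent.S2096P

variable {n : ℕ} {F : Type*} [Field F]

namespace GENSP

open Cfsg.Agent.Helper2.Sp Cfsg.Agent.Helper12.SpTwo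

/-- the row `inl i` of `J` -/
theorem J_row_inl (i : Fin n) :
    (Matrix.J (Fin n) F).row (Sum.inl i) = -(Pi.single (Sum.inr i) (1 : F) : J n → F) := by
  ext y
  rcases y with j | j
  · simp [Matrix.J, Matrix.row, Matrix.fromBlocks]
  · by_cases h : i = j
    · subst h
      simp [Matrix.J, Matrix.row, Matrix.fromBlocks]
    · have h' : j ≠ i := fun e => h e.symm
      simp [Matrix.J, Matrix.row, Matrix.fromBlocks, h, h']

/-- the row `inr i` of `J` -/
theorem J_row_inr (i : Fin n) :
    (Matrix.J (Fin n) F).row (Sum.inr i) = (Pi.single (Sum.inl i) (1 : F) : J n → F) := by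
  ext y
  rcases y with j | j
  · by_cases h : i = j
    · subst h
      simp [Matrix.J, Matrix.row, Matrix.fromBlocks]
    · have h' : j ≠ i := fun e => h e.symm
      simp [Matrix.J, Matrix.row, Matrix.fromBlocks, h, h']
  · simp [Matrix.J, Matrix.row, Matrix.fromBlocks]

theorem T_eb (i : Fin n) (c : F) : T (eb i : J n → F) c = xl (Sum.inl i) (-c) := by
  unfold T eb xl
  rw [Matrix.single_one_vecMul, J_row_inl, Matrix.vecMulVec_neg,
    ← Matrix.single_eq_single_vecMulVec_single]
  simp [ng]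

theorem T_fb (i : Fin n) (c : F) : T (fb i : J n → F) c = xl (Sum.inr i) c := by
  unfold T fb xl
  rw [Matrix.single_one_vecMul, J_row_inr, ← Matrix.single_eq_single_vecMulVec_single]
  simp [ng]

theorem single_lr_mul (a b c d : Fin n) :
    Matrix.single (Sum.inl a : J n) (Sum.inr b : J n) (1 : F) *
      Matrix.single (Sum.inl c : J n) (Sum.inr d : J n) (1 : F) = 0 :=
  Matrix.single_mul_single_of_ne _ _ _ _ (by simp) _

theorem T_eb_add {i j : Fin n} (hij : i ≠ j) (c : F) :
    T ((eb i : J n → F) + eb j) c =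
      xl (Sum.inl i) (-c) * xl (Sum.inl j) (-c) * xs (Sum.inl i) (Sum.inr j) (-c) := by
  unfold T eb xl xs
  rw [Matrix.add_vecMul, Matrix.single_one_vecMul, Matrix.single_one_vecMul, J_row_inl, J_row_inl,
    Matrix.add_vecMulVec, Matrix.vecMulVec_add, Matrix.vecMulVec_add, Matrix.vecMulVec_neg,
    Matrix.vecMulVec_neg, Matrix.vecMulVec_neg, Matrix.vecMulVec_neg,
    ← Matrix.single_eq_single_vecMulVec_single, ← Matrix.single_eq_single_vecMulVec_single,
    ← Matrix.single_eq_single_vecMulVec_single, ← Matrix.single_eq_single_vecMulVec_single]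
  simp only [ng, Sum.swap_inl, Sum.swap_inr, sgF_inl, sgF_inr, mul_neg, mul_one, neg_smul, one_smul,
    sub_neg_eq_add]
  simp only [Matrix.mul_add, Matrix.add_mul, Matrix.mul_one, Matrix.one_mul, Matrix.smul_mul,
    Matrix.mul_smul, smul_add, Matrix.mul_neg, Matrix.neg_mul, smul_neg]
  simp only [single_lr_mul, smul_zero, neg_zero, add_zero, Matrix.zero_mul]
  abel

end GENSP

open GENSP Cfsg.Agent.Helper2.Sp Cfsg.Agent.Helper12.SpTwo

theorem closure_gS_eq_top (hn : 1 ≤ n) :
    Subgroup.closure (rootSet (gS (n := n) (F := F)) gL) = ⊤ := by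
  obtain ⟨k, rfl⟩ : ∃ k, n = k + 1 := ⟨n - 1, by omega⟩
  have hL : ∀ (a : J (k + 1)) (t : F),
      gL a t ∈ Subgroup.closure (rootSet (gS (n := k + 1) (F := F)) gL) :=
    fun a t => Subgroup.subset_closure (Or.inr ⟨a, t, rfl⟩)
  have hS : ∀ (a b : J (k + 1)) (t : F), IsRoot a b →
      gS a b t ∈ Subgroup.closure (rootSet (gS (n := k + 1) (F := F)) gL) :=
    fun a b t hab => Subgroup.subset_closure (Or.inl ⟨a, b, t, hab, rfl⟩)
  apply eq_top_of_chain
  · intro i c
    have : Tg (eb i : J (k + 1) → F) c = gL (Sum.inl i) (-c) := by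
      apply Subtype.ext
      rw [Tg_val, coe_gL, T_eb]
    show Tg (eb i : J (k + 1) → F) c ∈ _
    rw [this]
    exact hL _ _
  · intro i c
    have : Tg (fb i : J (k + 1) → F) c = gL (Sum.inr i) c := by
      apply Subtype.ext
      rw [Tg_val, coe_gL, T_fb]
    show Tg (fb i : J (k + 1) → F) c ∈ _
    rw [this]
    exact hL _ _
  · intro i
    refine ⟨eb i.castSucc, eb_mem_plane _, eb i.succ, eb_mem_plane _, eb_ne_zero _, eb_ne_zero _, ?_⟩
    intro c
    have hij : i.castSucc ≠ i.succ := (Fin.castSucc_lt_succ (i := i)).ne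
    have hroot : IsRoot (Sum.inl i.castSucc : J (k + 1)) (Sum.inr i.succ) := by
      refine ⟨by simp, ?_⟩
      simp only [ng_inr, ne_eq, Sum.inl.injEq]
      exact hij
    have : Tg ((eb i.castSucc : J (k + 1) → F) + eb i.succ) c =
        gL (Sum.inl i.castSucc) (-c) * gL (Sum.inl i.succ) (-c) *
          gS (Sum.inl i.castSucc) (Sum.inr i.succ) (-c) := by
      apply Subtype.ext
      rw [Tg_val, Submonoid.coe_mul, Submonoid.coe_mul, coe_gL, coe_gL, coe_gS hroot, T_eb_add hij]
    show Tg ((eb i.castSucc : J (k + 1) → F) + eb i.succ) c ∈ _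
    rw [this]
    exact Subgroup.mul_mem _ (Subgroup.mul_mem _ (hL _ _) (hL _ _)) (hS _ _ _ hroot)

end Cfsg.Agent.S2092P
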