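import Mathlib
import Cfsg.Agent.Helper10.S2092.DefsM
import Cfsg.Agent.Helper19.S2092XMATA
import Cfsg.Agent.Helper15.S2092XMATC
import Cfsg.Agent.Helper15.S2092XMATD
import Cfsg.Agent.Helper15.S2092XMEM
import Cfsg.Agent.Helper11.S2092MDRELC0
import Cfsg.Agent.Helper15.S2092XTOR
import Cfsg.Agent.Helper15.S2092XLIB

set_option autoImplicit false
set_option linter.unusedSectionVars false
set_option linter.unusedVariables false

/-! S2092 piece MDRELC: the relations of type `C_n` in the group `Sp_{2n}(F)`. -/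

namespace Cfsg.Agent.S2092P

open scoped commutatorElement
open Matrix Cfsg.Agent.S3352P Cfsg.Agent.S2096P

variable {n : ℕ} {F : Type*} [Field F]

namespace MDRELC

theorem comm_eq_of_mul_eq {G : Type*} [Group G] {x y z : G} (h : x * y = z * y * x) :
    ⁅x, y⁆ = z := by
  rw [commutatorElement_def, h]
  group

theorem isRoot_b_nga {a b : J n} (hab : IsRoot a b) : IsRoot b (ng a) :=
  ⟨fun h => hab.2 (by rw [h, ng_ng]), by rw [ng_ng]; exact hab.1.symm⟩

theorem isRoot_a_ngb {a b : J n} (hab : IsRoot a b) : IsRoot a (ng b) :=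
  ⟨hab.2, by rw [ng_ng]; exact hab.1⟩

open XLIB15

theorem xs_comm_h {a b c d : J n} (hab : IsRoot a b) (hcd : IsRoot c d) (h1 : b ≠ c) (h2 : a ≠ d)
    (h3 : a ≠ ng c) (h4 : a ≠ ng d) (h5 : b ≠ ng c) (h6 : b ≠ ng d) (s t : F) :
    xs a b s * xs c d t = xs c d t * xs a b s := by
  have hAB : (nm a b : Matrix (J n) (J n) F) * nm c d = 0 := by
    rw [nm_mul_nm, if_neg h1, if_neg h6, if_neg (fun h => h3 (ng_eq_iff.mp h)),
      if_neg (fun h => h2 (ng_injective h))]
    simp
  have hBA : (nm c d : Matrix (J n) (J n) F) * nm a b = 0 := by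
    rw [nm_mul_nm, if_neg (fun h => h2 h.symm), if_neg (fun h => h6 (by rw [h, ng_ng])),
      if_neg (fun h => h3 h.symm),
      if_neg (fun h => h1 (ng_injective h).symm)]
    simp
  rw [xs_eq, xs_eq, one_add_smul_mul, one_add_smul_mul, hAB, hBA, smul_zero, smul_zero]
  abel

theorem xs_mul_h {a b c : J n} (hab : IsRoot a b) (hbc : IsRoot b c) (hac : IsRoot a c) (s t : F) :
    xs a b s * xs b c t = xs a c (s * t) * xs b c t * xs a b s := by
  have hAB : (nm a b : Matrix (J n) (J n) F) * nm b c = Matrix.single a c (1 : F) := by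
    rw [nm_mul_nm, if_pos rfl, if_neg hbc.2, if_neg (fun h => hab.2 (ng_eq_iff.mp h)),
      if_neg (fun h => hac.1 (ng_injective h))]
    simp
  have hep : ep F b c * ep F a b = ep F a c := by
    unfold ep
    calc sgF F b * sgF F c * (sgF F a * sgF F b)
        = (sgF F b * sgF F b) * (sgF F a * sgF F c) := by ring
      _ = sgF F a * sgF F c := by rw [sgF_mul_self, one_mul]
  have hBA : (nm b c : Matrix (J n) (J n) F) * nm a b =
      ep F a c • Matrix.single (ng c) (ng a) (1 : F) := by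
    rw [nm_mul_nm, if_neg (fun h => hac.1 h.symm), if_neg (fun h => hbc.2 (by rw [h, ng_ng])),
      if_neg (fun h => hab.2 h.symm), if_pos rfl, hep]
    simp
  have hCB : (nm a c : Matrix (J n) (J n) F) * nm b c = 0 := by
    rw [nm_mul_nm, if_neg (fun h => hbc.1 h.symm), if_neg (fun h => ng_ne c h.symm),
      if_neg (fun h => hab.2 (ng_eq_iff.mp h)), if_neg (fun h => hac.1 (ng_injective h))]
    simp
  have hCA : (nm a c : Matrix (J n) (J n) F) * nm a b = 0 := by
    rw [nm_mul_nm, if_neg (fun h => hac.1 h.symm), if_neg (fun h => hbc.2 (by rw [h, ng_ng])),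
      if_neg (ng_ne a), if_neg (fun h => hab.1 (ng_injective h))]
    simp
  have hCS : (nm a c : Matrix (J n) (J n) F) * Matrix.single (ng c) (ng a) (1 : F) = 0 := by
    unfold nm
    rw [sub_mul, Matrix.smul_mul, single_mul, single_mul, if_neg (fun h => ng_ne c h.symm),
      if_neg (fun h => hac.1 (ng_injective h))]
    simp
  have hC : (nm a c : Matrix (J n) (J n) F) =
      Matrix.single a c (1 : F) - ep F a c • Matrix.single (ng c) (ng a) (1 : F) := rfl
  rw [mul_assoc, xs_eq, xs_eq, xs_eq, one_add_smul_mul, one_add_smul_mul, hAB, hBA]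
  simp only [mul_add, add_mul, mul_one, one_mul, Matrix.smul_mul, Matrix.mul_smul, hCB, hCA, hCS,
    smul_zero, add_zero, smul_smul]
  rw [hC]
  module

end MDRELC

open MDRELC

theorem cRel_gS : CRel (gS (n := n) (F := F)) gL := by
  refine ⟨?_, ?_, ?_, ?_, ?_, ?_, ?_, ?_, ?_⟩
  · intro a b hab t
    apply Subtype.ext
    rw [coe_gS hab.flip, coe_gS hab, xs_flip hab]
  · intro a b hab s t
    apply Subtype.ext
    rw [Submonoid.coe_mul, coe_gS hab, coe_gS hab, coe_gS hab, xs_add hab]
  · intro a s t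
    apply Subtype.ext
    rw [Submonoid.coe_mul, coe_gL, coe_gL, coe_gL, xl_add]
  · intro a b c hab hbc hac s t
    apply comm_eq_of_mul_eq
    apply Subtype.ext
    simp only [Submonoid.coe_mul]
    rw [coe_gS hab, coe_gS hbc, coe_gS hac, xs_mul_h hab hbc hac]
  · intro a b c d hab hcd h1 h2 h3 h4 h5 h6 s t
    apply Subtype.ext
    simp only [Submonoid.coe_mul]
    rw [coe_gS hab, coe_gS hcd, xs_comm_h hab hcd h1 h2 h3 h4 h5 h6]
  · intro a b hab s t
    apply comm_eq_of_mul_eq
    apply Subtype.ext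
    simp only [Submonoid.coe_mul]
    rw [coe_gS hab, coe_gS (isRoot_b_nga hab), coe_gL, xs_orthC hab]
  · intro a b hab s t
    apply comm_eq_of_mul_eq
    apply Subtype.ext
    simp only [Submonoid.coe_mul]
    rw [coe_gS hab, coe_gS (isRoot_a_ngb hab), coe_gL, coe_gL, xs_sl hab]
  · intro a b c hab h1 h2 s t
    apply Subtype.ext
    simp only [Submonoid.coe_mul]
    rw [coe_gS hab, coe_gL, xs_slcomm hab h1 h2]
  · intro a c h s t
    apply Subtype.ext
    simp only [Submonoid.coe_mul]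
    rw [coe_gL, coe_gL, xl_ll h]

theorem gH_conj_gS (d : Fin n → Fˣ) {a b : J n} (hab : IsRoot a b) (t : F) :
    gH n F d * gS a b t * (gH n F d)⁻¹ = gS a b (chi d a * (chi d b)⁻¹ * t) := by
  rw [mul_inv_eq_iff_eq_mul]
  apply Subtype.ext
  simp only [Submonoid.coe_mul]
  rw [coe_gS hab, coe_gS hab, coe_gH, hm_conj_xs d hab]

theorem gH_conj_gL (d : Fin n → Fˣ) (a : J n) (t : F) :
    gH n F d * gL a t * (gH n F d)⁻¹ = gL a (chi d a ^ 2 * t) := by
  rw [mul_inv_eq_iff_eq_mul]
  apply Subtype.ext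
  simp only [Submonoid.coe_mul]
  rw [coe_gL, coe_gL, coe_gH, hm_conj_xl d]

end Cfsg.Agent.S2092P
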