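import Mathlib
import Cfsg.Agent.Helper29.S2264Defs
import Cfsg.Agent.Helper26.S2264RECIP2
import Cfsg.Agent.Helper21.S2264SELFREC

/-! S2262 piece USELF (helper11): an irreducible polynomial `f` over `GF(q₀²)` with
`recip (σ f) = f`, `σ x = x ^ q₀`, has odd degree `k` and divides `X ^ (q₀ ^ k + 1) - 1`. -/

set_option autoImplicit false

namespace Cfsg.Agent.S2262P

open Polynomial Matrix
open Cfsg.Agent.S2264P

noncomputable section

namespace USELF

/-- `x ↦ x ^ (p ^ s)` is injective on a field of characteristic `p` -/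
theorem pow_ppow_inj {K : Type*} [Field K] (p s : ℕ) [ExpChar K p] {x y : K}
    (h : x ^ p ^ s = y ^ p ^ s) : x = y := by
  apply (iterateFrobenius K p s).injective
  rw [iterateFrobenius_def, iterateFrobenius_def, h]

/-- the semilinear substitution: `(f(a))^(p^s) = (σ f)(a^(p^s))` when `σ c = c^(p^s)` -/
theorem aeval_pow_map {F K : Type*} [Field F] [Field K] [Algebra F K] (p s : ℕ) [ExpChar K p]
    (σ : F ≃+* F) (hσ : ∀ x, σ x = x ^ p ^ s) (f : F[X]) (a : K) :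
    aeval (a ^ p ^ s) (f.map (σ : F →+* F)) = (aeval a f) ^ p ^ s := by
  rw [← iterateFrobenius_def (R := K) p s a, ← iterateFrobenius_def (R := K) p s (aeval a f),
    aeval_def, aeval_def, Polynomial.hom_eval₂, Polynomial.eval₂_map]
  congr 1
  ext c
  simp only [RingHom.comp_apply, RingHom.coe_coe, hσ, map_pow, iterateFrobenius_def]

end USELF

open USELF Cfsg.Agent.S2264P.SELFREC in
/-- USELF (deps: S2264 RECIP2; cf. `Helper21.S2264SELFREC`): irreducible `f` with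
`recip (σ f) = f`, `σ x = x ^ q₀`. -/
theorem uselfrec_odd {F : Type*} [Field F] [Fintype F] {q₀ : ℕ} (hF : Fintype.card F = q₀ ^ 2)
    (σ : F ≃+* F) (hσ : ∀ x, σ x = x ^ q₀) {f : F[X]} (hf : Irreducible f) (hm : f.Monic)
    (hr : recip (f.map (σ : F →+* F)) = f) :
    Odd f.natDegree ∧ f ∣ X ^ (q₀ ^ f.natDegree + 1) - 1 := by
  classical
  have : Fact (Irreducible f) := ⟨hf⟩
  have hf0 : f ≠ 0 := hm.ne_zero
  -- the characteristic
  obtain ⟨p, hp⟩ := CharP.exists F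
  haveI := hp
  obtain ⟨n, hpp, hcard⟩ := FiniteField.card F p
  haveI : Fact p.Prime := ⟨hpp⟩
  obtain ⟨s, -, hs⟩ : ∃ s ≤ (n : ℕ), q₀ = p ^ s := by
    rw [← Nat.dvd_prime_pow hpp, ← hcard, hF]
    exact Dvd.intro_left (q₀ ^ 1) (by ring)
  -- constant coefficients
  have h0' : (f.map (σ : F →+* F)).coeff 0 ≠ 0 := by
    intro hc
    apply hf0
    rw [← hr, recip, hc, _root_.inv_zero, map_zero, zero_mul]
  -- the field `K = F[X]/(f)`
  let pb := AdjoinRoot.powerBasis hf0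
  have : Module.Finite F (AdjoinRoot f) := pb.finite
  have : Finite (AdjoinRoot f) := Module.finite_of_finite F
  haveI : Fintype (AdjoinRoot f) := Fintype.ofFinite _
  have hdim : Module.finrank F (AdjoinRoot f) = f.natDegree := by
    rw [pb.finrank]; rfl
  haveI : CharP (AdjoinRoot f) p :=
    charP_of_injective_algebraMap (algebraMap F (AdjoinRoot f)).injective p
  haveI : ExpChar (AdjoinRoot f) p := ExpChar.prime hpp
  have hcardK : Fintype.card (AdjoinRoot f) = q₀ ^ (2 * f.natDegree) := by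
    rw [Module.card_eq_pow_finrank (K := F), hdim, hF, ← pow_mul]
  set k := f.natDegree with hk
  have hkpos : 0 < k := Irreducible.natDegree_pos hf
  set α : AdjoinRoot f := AdjoinRoot.root f with hα
  have hroot : aeval α f = 0 := by
    rw [AdjoinRoot.aeval_eq, AdjoinRoot.mk_self]
  have hα0 : α ≠ 0 := by
    intro h
    have h00 : f.coeff 0 = 0 := by
      rw [h, ← Polynomial.coeff_zero_eq_aeval_zero'] at hroot
      exact (map_eq_zero (algebraMap F (AdjoinRoot f))).mp hroot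
    apply h0'
    rw [Polynomial.coeff_map, h00, map_zero]
  have hdvd_of : ∀ g : F[X], aeval α g = 0 → f ∣ g := by
    intro g hg
    rwa [AdjoinRoot.aeval_eq, AdjoinRoot.mk_eq_zero] at hg
  -- `α ^ q₀` is a root of `σ f`
  have hroot2 : aeval (α ^ q₀) (f.map (σ : F →+* F)) = 0 := by
    rw [hs, aeval_pow_map p s σ (by intro x; rw [hσ, hs]) f α, hroot, zero_pow]
    exact (pow_pos hpp.pos s).ne'
  have hαq0 : α ^ q₀ ≠ 0 := pow_ne_zero _ hα0
  -- `(α ^ q₀)⁻¹` is a root of `f`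
  have hinv : aeval (α ^ q₀)⁻¹ f = 0 := by
    have := aeval_inv_recip (R := AdjoinRoot f) h0' (Units.mk0 (α ^ q₀) hαq0) (by simpa using hroot2)
    rw [hr] at this
    simpa using this
  -- the endomorphism `α ↦ (α ^ q₀)⁻¹`
  let ρ : AdjoinRoot f →ₐ[F] AdjoinRoot f :=
    AdjoinRoot.liftAlgHom f (Algebra.ofId F (AdjoinRoot f)) (α ^ q₀)⁻¹ (by
      rw [← hinv]; rfl)
  have hρ : ρ α = (α ^ q₀)⁻¹ := AdjoinRoot.liftAlgHom_root _ _ _ _
  obtain ⟨⟨j, hj⟩, hjρ⟩ := (FiniteField.bijective_frobeniusAlgHom_pow F (AdjoinRoot f)).2 ρ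
  simp only at hjρ
  rw [hdim] at hj
  have hαj : α ^ (q₀ ^ (2 * j)) = (α ^ q₀)⁻¹ := by
    rw [pow_mul, ← hF, ← frob_pow_apply, hjρ, hρ]
  -- normalise `j` to `1 ≤ j' ≤ k`
  obtain ⟨j', hj'1, hj'k, hαj'⟩ : ∃ j', 1 ≤ j' ∧ j' ≤ k ∧ α ^ (q₀ ^ (2 * j')) * α ^ q₀ = 1 := by
    by_cases hj0 : j = 0
    · refine ⟨k, hkpos, le_refl _, ?_⟩
      subst hj0
      rw [mul_zero, pow_zero, pow_one] at hαj
      have h1 : α * α ^ q₀ = (α ^ q₀)⁻¹ * α ^ q₀ := by rw [← hαj]
      rw [← hcardK, FiniteField.pow_card, h1, inv_mul_cancel₀ hαq0]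
    · exact ⟨j, by omega, hj.le, by rw [hαj, inv_mul_cancel₀ hαq0]⟩
  -- `α ^ (q₀ ^ i) * α = 1` with `i = 2 j' - 1`
  obtain ⟨i, hi⟩ : ∃ i, 2 * j' = i + 1 := ⟨2 * j' - 1, by omega⟩
  have hαi : α ^ (q₀ ^ i) * α = 1 := by
    apply pow_ppow_inj p s
    rw [one_pow, mul_pow, ← pow_mul, ← hs, ← pow_succ, ← hi]
    exact hαj'
  -- `α ^ (q₀ ^ (2 i)) = α`
  have hα2i : α ^ (q₀ ^ (2 * i)) = α := by
    have h1 : α ^ (q₀ ^ (2 * i)) * α ^ (q₀ ^ i) = 1 := by
      have := congrArg (fun x => x ^ (q₀ ^ i)) hαi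
      simp only [one_pow, mul_pow] at this
      rw [← pow_mul, ← pow_add q₀ i i, ← two_mul] at this
      exact this
    have h2 : α ^ (q₀ ^ i) ≠ 0 := pow_ne_zero _ hα0
    calc α ^ (q₀ ^ (2 * i)) = α ^ (q₀ ^ (2 * i)) * (α ^ (q₀ ^ i) * α) := by rw [hαi, mul_one]
      _ = (α ^ (q₀ ^ (2 * i)) * α ^ (q₀ ^ i)) * α := by ring
      _ = α := by rw [h1, one_mul]
  have h2 : FiniteField.frobeniusAlgHom F (AdjoinRoot f) ^ i = 1 := by
    apply AdjoinRoot.algHom_ext
    rw [frob_pow_apply, hF, ← pow_mul, hα2i]; rfl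
  have h3 : Module.finrank F (AdjoinRoot f) ∣ i := by
    rw [← FiniteField.orderOf_frobeniusAlgHom F (AdjoinRoot f)]
    exact orderOf_dvd_of_pow_eq_one h2
  rw [hdim] at h3
  obtain ⟨c, hc⟩ := h3
  have hc1 : c = 1 := by
    have hc0 : c ≠ 0 := by
      rintro rfl
      omega
    by_contra hne
    have : 2 ≤ c := by omega
    have : k * 2 ≤ k * c := Nat.mul_le_mul_left _ this
    omega
  subst hc1
  rw [mul_one] at hc
  subst hc
  refine ⟨⟨j' - 1, by omega⟩, ?_⟩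
  apply hdvd_of
  rw [map_sub, map_pow, Polynomial.aeval_X, map_one, pow_succ, hαi, sub_self]

end

end Cfsg.Agent.S2262P
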