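import Mathlib

set_option autoImplicit false
set_option linter.unusedSectionVars false
set_option linter.unusedVariables false

/-! # S2799 piece T1b (blueprint L10, helper10's board)

A "transvection" `a` on an abelian normal subgroup `K` (i.e. `|K : C_K(a)| = 2`) and a conjugate
`a' = g a g⁻¹` such that `⟨a, a'⟩` does not act on `K` as a `2`-group give a four-group
`⟨v, v'⟩ ≤ K` on which `a, a'` act as two distinct transvections (so `S₃` acts).

The degenerate configurations are killed by a stability-group argument for a chain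
`K ≥ W ≥ U ≥ 1` (`T1b_aux_Stab`). -/

namespace Cfsg.Agent.S2799P

open Subgroup MulAction

/-- Stability predicate for the chain `K ≥ W ≥ U ≥ 1`. -/
def T1b_aux_Stab {X : Type*} [Group X] (K U W : Subgroup X) (d : X) : Prop :=
  (∀ x ∈ U, d * x * d⁻¹ = x) ∧ (∀ w ∈ W, d * w * d⁻¹ * w⁻¹ ∈ U) ∧
    (∀ k ∈ K, d * k * d⁻¹ * k⁻¹ ∈ W)

theorem T1b_aux_stab_one {X : Type*} [Group X] (K U W : Subgroup X) :
    T1b_aux_Stab K U W 1 := by
  refine ⟨fun x _ => by simp, fun w _ => ?_, fun k _ => ?_⟩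
  · have : (1 : X) * w * 1⁻¹ * w⁻¹ = 1 := by group
    rw [this]; exact U.one_mem
  · have : (1 : X) * k * 1⁻¹ * k⁻¹ = 1 := by group
    rw [this]; exact W.one_mem

theorem T1b_aux_stab_mul {X : Type*} [Group X] (K U W : Subgroup X) (hUW : U ≤ W) {d₁ d₂ : X}
    (h₁ : T1b_aux_Stab K U W d₁) (h₂ : T1b_aux_Stab K U W d₂) :
    T1b_aux_Stab K U W (d₁ * d₂) := by
  obtain ⟨h1a, h1b, h1c⟩ := h₁
  obtain ⟨h2a, h2b, h2c⟩ := h₂
  refine ⟨fun x hx => ?_, fun w hw => ?_, fun k hk => ?_⟩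
  · have e : d₁ * d₂ * x * (d₁ * d₂)⁻¹ = d₁ * (d₂ * x * d₂⁻¹) * d₁⁻¹ := by group
    rw [e, h2a x hx, h1a x hx]
  · have e : d₁ * d₂ * w * (d₁ * d₂)⁻¹ * w⁻¹ =
        d₁ * (d₂ * w * d₂⁻¹ * w⁻¹) * d₁⁻¹ * (d₁ * w * d₁⁻¹ * w⁻¹) := by group
    rw [e, h1a _ (h2b w hw)]
    exact U.mul_mem (h2b w hw) (h1b w hw)
  · have e : d₁ * d₂ * k * (d₁ * d₂)⁻¹ * k⁻¹ =
        (d₁ * (d₂ * k * d₂⁻¹ * k⁻¹) * d₁⁻¹ * (d₂ * k * d₂⁻¹ * k⁻¹)⁻¹) *
          (d₂ * k * d₂⁻¹ * k⁻¹) * (d₁ * k * d₁⁻¹ * k⁻¹) := by group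
    rw [e]
    exact W.mul_mem (W.mul_mem (hUW (h1b _ (h2c k hk))) (h2c k hk)) (h1c k hk)

theorem T1b_aux_stab_pow {X : Type*} [Group X] (K U W : Subgroup X) (hUW : U ≤ W) {d : X}
    (h : T1b_aux_Stab K U W d) (n : ℕ) : T1b_aux_Stab K U W (d ^ n) := by
  induction n with
  | zero => rw [pow_zero]; exact T1b_aux_stab_one K U W
  | succ n ih => rw [pow_succ]; exact T1b_aux_stab_mul K U W hUW ih h

theorem T1b_aux_stab_inv {X : Type*} [Group X] [Finite X] (K U W : Subgroup X) (hUW : U ≤ W)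
    {d : X} (h : T1b_aux_Stab K U W d) : T1b_aux_Stab K U W d⁻¹ := by
  have h1 : d ^ (Nat.card X) = 1 := pow_card_eq_one'
  have hpos : 0 < Nat.card X := Nat.card_pos
  have e : d ^ (Nat.card X - 1) = d⁻¹ := by
    apply eq_inv_of_mul_eq_one_left
    rw [← pow_succ, Nat.sub_add_cancel hpos, h1]
  rw [← e]
  exact T1b_aux_stab_pow K U W hUW h _

theorem T1b_aux_stab_closure {X : Type*} [Group X] [Finite X] (K U W : Subgroup X) (hUW : U ≤ W)
    (S : Set X) (hS : ∀ d ∈ S, T1b_aux_Stab K U W d) :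
    ∀ d ∈ Subgroup.closure S, T1b_aux_Stab K U W d := by
  intro d hd
  induction hd using Subgroup.closure_induction with
  | mem x hx => exact hS x hx
  | one => exact T1b_aux_stab_one K U W
  | mul x y _ _ hx hy => exact T1b_aux_stab_mul K U W hUW hx hy
  | inv x _ hx => exact T1b_aux_stab_inv K U W hUW hx

theorem T1b_aux_stab_pow4 {X : Type*} [Group X] (K U W : Subgroup X) (hUW : U ≤ W)
    (hW2 : ∀ w ∈ W, w * w = 1) {d : X} (h : T1b_aux_Stab K U W d) :
    d ^ (2 ^ 2) ∈ centralizer (K : Set X) := by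
  obtain ⟨ha, hb, hc⟩ := h
  rw [Subgroup.mem_centralizer_iff]
  intro k hk
  have hwW : d * k * d⁻¹ * k⁻¹ ∈ W := hc k hk
  have hxU : d * (d * k * d⁻¹ * k⁻¹) * d⁻¹ * (d * k * d⁻¹ * k⁻¹)⁻¹ ∈ U := hb _ hwW
  have hfix := ha _ hxU
  have hww := hW2 _ hwW
  have hxx := hW2 _ (hUW hxU)
  generalize hw : d * k * d⁻¹ * k⁻¹ = w at *
  generalize hx : d * w * d⁻¹ * w⁻¹ = x at *
  have e1 : d * k = w * k * d := by rw [← hw]; group
  have e2 : d * w = x * w * d := by rw [← hx]; group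
  have e3 : d * x = x * d := by
    calc d * x = d * x * d⁻¹ * d := by group
      _ = x * d := by rw [hfix]
  have e4 : d * d * k = x * k * (d * d) := by
    calc d * d * k = d * (d * k) := by group
      _ = d * (w * k * d) := by rw [e1]
      _ = (d * w) * k * d := by group
      _ = (x * w * d) * k * d := by rw [e2]
      _ = x * w * (d * k) * d := by group
      _ = x * w * (w * k * d) * d := by rw [e1]
      _ = x * (w * w) * k * (d * d) := by group
      _ = x * k * (d * d) := by rw [hww]; group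
  have e5 : d * d * x = x * (d * d) := by
    calc d * d * x = d * (d * x) := by group
      _ = d * (x * d) := by rw [e3]
      _ = (d * x) * d := by group
      _ = x * d * d := by rw [e3]
      _ = x * (d * d) := by group
  have e6 : d ^ (2 ^ 2) = d * d * (d * d) := by
    norm_num [pow_succ, mul_assoc]
  rw [e6]
  symm
  calc d * d * (d * d) * k = d * d * (d * d * k) := by group
    _ = d * d * (x * k * (d * d)) := by rw [e4]
    _ = (d * d * x) * k * (d * d) := by group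
    _ = (x * (d * d)) * k * (d * d) := by rw [e5]
    _ = x * (d * d * k) * (d * d) := by group
    _ = x * (x * k * (d * d)) * (d * d) := by rw [e4]
    _ = (x * x) * k * (d * d * (d * d)) := by group
    _ = k * (d * d * (d * d)) := by rw [hxx]; group

/-- The commutator map `k ↦ d k d⁻¹ k⁻¹` is multiplicative on an abelian normal subgroup. -/
theorem T1b_aux_comm_mul {X : Type*} [Group X] (K : Subgroup X) [K.Normal]
    (hKab : ∀ x ∈ K, ∀ y ∈ K, x * y = y * x) (d : X) {x y : X} (hx : x ∈ K) (hy : y ∈ K) :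
    d * (x * y) * d⁻¹ * (x * y)⁻¹ = (d * x * d⁻¹ * x⁻¹) * (d * y * d⁻¹ * y⁻¹) := by
  have hcy : d * y * d⁻¹ * y⁻¹ ∈ K :=
    K.mul_mem (Subgroup.Normal.conj_mem ‹K.Normal› y hy d) (K.inv_mem hy)
  have hc := hKab _ hcy _ (K.inv_mem hx)
  calc d * (x * y) * d⁻¹ * (x * y)⁻¹ = d * x * d⁻¹ * ((d * y * d⁻¹ * y⁻¹) * x⁻¹) := by group
    _ = d * x * d⁻¹ * (x⁻¹ * (d * y * d⁻¹ * y⁻¹)) := by rw [hc]
    _ = _ := by group

theorem T1b_aux_comm_mem {X : Type*} [Group X] (K : Subgroup X) [K.Normal] (d : X) {x : X}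
    (hx : x ∈ K) : d * x * d⁻¹ * x⁻¹ ∈ K :=
  K.mul_mem (Subgroup.Normal.conj_mem ‹K.Normal› x hx d) (K.inv_mem hx)

/-- Elements fixed by `d` under conjugation form a subgroup. -/
theorem T1b_aux_fix {X : Type*} [Group X] (d : X) (S : Set X) (h : ∀ s ∈ S, d * s * d⁻¹ = s) :
    ∀ x ∈ Subgroup.closure S, d * x * d⁻¹ = x := by
  intro x hx
  induction hx using Subgroup.closure_induction with
  | mem x hx => exact h x hx
  | one => group
  | mul x y _ _ hx hy =>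
    calc d * (x * y) * d⁻¹ = (d * x * d⁻¹) * (d * y * d⁻¹) := by group
      _ = x * y := by rw [hx, hy]
  | inv x _ hx =>
    calc d * x⁻¹ * d⁻¹ = (d * x * d⁻¹)⁻¹ := by group
      _ = x⁻¹ := by rw [hx]

/-- A subgroup of an abelian subgroup generated by involutions has exponent 2. -/
theorem T1b_aux_exp2 {X : Type*} [Group X] (K : Subgroup X)
    (hKab : ∀ x ∈ K, ∀ y ∈ K, x * y = y * x) (S : Set X) (hSK : ∀ s ∈ S, s ∈ K)
    (hS2 : ∀ s ∈ S, s * s = 1) : ∀ w ∈ Subgroup.closure S, w ∈ K ∧ w * w = 1 := by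
  intro w hw
  induction hw using Subgroup.closure_induction with
  | mem x hx => exact ⟨hSK x hx, hS2 x hx⟩
  | one => exact ⟨K.one_mem, by group⟩
  | mul x y _ _ hx hy =>
    refine ⟨K.mul_mem hx.1 hy.1, ?_⟩
    calc x * y * (x * y) = x * (y * x) * y := by group
      _ = x * (x * y) * y := by rw [hKab y hy.1 x hx.1]
      _ = (x * x) * (y * y) := by group
      _ = 1 := by rw [hx.2, hy.2]; group
  | inv x _ hx =>
    refine ⟨K.inv_mem hx.1, ?_⟩
    calc x⁻¹ * x⁻¹ = (x * x)⁻¹ := by group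
      _ = 1 := by rw [hx.2]; group

/-- Commutators with `d` of a subgroup generated inside `K` land in `U` if the generators do. -/
theorem T1b_aux_commU {X : Type*} [Group X] (K : Subgroup X) [K.Normal]
    (hKab : ∀ x ∈ K, ∀ y ∈ K, x * y = y * x) (d : X) (S : Set X) (hSK : ∀ s ∈ S, s ∈ K)
    (U : Subgroup X) (h : ∀ s ∈ S, d * s * d⁻¹ * s⁻¹ ∈ U) :
    ∀ w ∈ Subgroup.closure S, w ∈ K ∧ d * w * d⁻¹ * w⁻¹ ∈ U := by
  intro w hw
  induction hw using Subgroup.closure_induction with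
  | mem x hx => exact ⟨hSK x hx, h x hx⟩
  | one =>
    refine ⟨K.one_mem, ?_⟩
    have : d * 1 * d⁻¹ * (1 : X)⁻¹ = 1 := by group
    rw [this]; exact U.one_mem
  | mul x y _ _ hx hy =>
    refine ⟨K.mul_mem hx.1 hy.1, ?_⟩
    rw [T1b_aux_comm_mul K hKab d hx.1 hy.1]
    exact U.mul_mem hx.2 hy.2
  | inv x _ hx =>
    refine ⟨K.inv_mem hx.1, ?_⟩
    have e := T1b_aux_comm_mul K hKab d hx.1 (K.inv_mem hx.1)
    have e1 : d * (x * x⁻¹) * d⁻¹ * (x * x⁻¹)⁻¹ = 1 := by group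
    rw [e1] at e
    have e2 : d * x⁻¹ * d⁻¹ * x⁻¹⁻¹ = (d * x * d⁻¹ * x⁻¹)⁻¹ :=
      (eq_inv_of_mul_eq_one_right e.symm)
    rw [e2]
    exact U.inv_mem hx.2

/-- The degenerate configuration: a stable chain, hence a `2`-group action. -/
theorem T1b_aux_two {X : Type*} [Group X] [Finite X] (K : Subgroup X) [K.Normal]
    (hKab : ∀ x ∈ K, ∀ y ∈ K, x * y = y * x) (d₁ d₂ u o : X)
    (huK : u ∈ K) (hoK : o ∈ K) (hu2 : u * u = 1) (ho2 : o * o = 1)
    (h1u : d₁ * u * d₁⁻¹ = u) (h2u : d₂ * u * d₂⁻¹ = u) (h1o : d₁ * o * d₁⁻¹ = o)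
    (h2o : d₂ * o * d₂⁻¹ * o⁻¹ = 1 ∨ d₂ * o * d₂⁻¹ * o⁻¹ = u)
    (h1K : ∀ k ∈ K, d₁ * k * d₁⁻¹ * k⁻¹ = 1 ∨ d₁ * k * d₁⁻¹ * k⁻¹ = o)
    (h2K : ∀ k ∈ K, d₂ * k * d₂⁻¹ * k⁻¹ = 1 ∨ d₂ * k * d₂⁻¹ * k⁻¹ = u) :
    ∀ d ∈ Subgroup.closure ({d₁, d₂} : Set X), d ^ (2 ^ 2) ∈ centralizer (K : Set X) := by
  set U : Subgroup X := Subgroup.closure {u} with hU
  set W : Subgroup X := Subgroup.closure {u, o} with hW
  have hUW : U ≤ W := Subgroup.closure_mono (by intro z hz; left; exact hz)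
  have huU : u ∈ U := Subgroup.subset_closure rfl
  have huW : u ∈ W := Subgroup.subset_closure (Or.inl rfl)
  have hoW : o ∈ W := Subgroup.subset_closure (Or.inr rfl)
  have hSK : ∀ s ∈ ({u, o} : Set X), s ∈ K := by
    intro s hs
    rcases hs with rfl | rfl
    · exact huK
    · exact hoK
  have hS2 : ∀ s ∈ ({u, o} : Set X), s * s = 1 := by
    intro s hs
    rcases hs with rfl | rfl
    · exact hu2
    · exact ho2
  have hW2 : ∀ w ∈ W, w * w = 1 := fun w hw => (T1b_aux_exp2 K hKab _ hSK hS2 w hw).2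
  have hst1 : T1b_aux_Stab K U W d₁ := by
    refine ⟨T1b_aux_fix d₁ {u} (by intro s hs; rw [Set.mem_singleton_iff.mp hs]; exact h1u),
      fun w hw => (T1b_aux_commU K hKab d₁ _ hSK U ?_ w hw).2, fun k hk => ?_⟩
    · intro s hs
      rcases hs with rfl | rfl
      · rw [h1u]; simp
      · rw [h1o]; simp
    · rcases h1K k hk with h | h
      · rw [h]; exact W.one_mem
      · rw [h]; exact hoW
  have hst2 : T1b_aux_Stab K U W d₂ := by
    refine ⟨T1b_aux_fix d₂ {u} (by intro s hs; rw [Set.mem_singleton_iff.mp hs]; exact h2u),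
      fun w hw => (T1b_aux_commU K hKab d₂ _ hSK U ?_ w hw).2, fun k hk => ?_⟩
    · intro s hs
      rcases hs with rfl | rfl
      · rw [h2u]; simp
      · rcases h2o with h | h
        · rw [h]; exact U.one_mem
        · rw [h]; exact huU
    · rcases h2K k hk with h | h
      · rw [h]; exact W.one_mem
      · rw [h]; exact huW
  intro d hd
  apply T1b_aux_stab_pow4 K U W hUW hW2
  apply T1b_aux_stab_closure K U W hUW _ _ d hd
  intro z hz
  rcases hz with rfl | rfl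
  · exact hst1
  · exact hst2

/-- T1b (blueprint L10): a transvection and a conjugate generating a non-2-group on `K`
give a four-group with `S₃` acting. -/
theorem T1b {X : Type*} [Group X] [Finite X] (K : Subgroup X) [K.Normal]
    (hKab : ∀ x ∈ K, ∀ y ∈ K, x * y = y * x) (a g : X)
    (hidx : (K ⊓ centralizer ({a} : Set X)).relIndex K = 2)
    (hng : ¬ ∀ d ∈ Subgroup.closure ({a, g * a * g⁻¹} : Set X),
      ∃ k : ℕ, d ^ (2 ^ k) ∈ centralizer (K : Set X)) :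
    ∃ v v' s t : X, v * v = 1 ∧ v' * v' = 1 ∧ v * v' = v' * v ∧ v ≠ 1 ∧ v' ≠ 1 ∧ v ≠ v' ∧
      s * v * s⁻¹ = v ∧ s * v' * s⁻¹ = v * v' ∧ t * v' * t⁻¹ = v' ∧ t * v * t⁻¹ = v * v' := by
  obtain ⟨k₀, hk₀K, hk₀⟩ := Subgroup.relIndex_eq_two_iff.mp hidx
  -- membership in `H = K ⊓ C(a)` for elements of `K`
  have memH : ∀ k ∈ K, (k ∈ K ⊓ centralizer ({a} : Set X) ↔ a * k * a⁻¹ * k⁻¹ = 1) := by
    intro k hk
    rw [Subgroup.mem_inf, Subgroup.mem_centralizer_iff]
    constructor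
    · rintro ⟨_, h⟩
      have := h a rfl
      rw [this]; group
    · intro h
      refine ⟨hk, ?_⟩
      intro z hz
      rw [Set.mem_singleton_iff.mp hz]
      have h1 : a * k * a⁻¹ = k := mul_inv_eq_one.mp h
      calc a * k = a * k * a⁻¹ * a := by group
        _ = k * a := by rw [h1]
  -- `k₀ ∉ H`, `k₀² ∈ H`
  have hk₀H : ¬ k₀ ∈ K ⊓ centralizer ({a} : Set X) := by
    have h1 := hk₀ 1 K.one_mem
    rw [one_mul] at h1
    rcases h1 with ⟨_, h⟩ | ⟨_, h⟩
    · exact absurd (Subgroup.one_mem _) h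
    · exact h
  have hk₀sq : k₀ * k₀ ∈ K ⊓ centralizer ({a} : Set X) := by
    rcases hk₀ k₀ hk₀K with ⟨h, _⟩ | ⟨h, _⟩
    · exact h
    · exact absurd h hk₀H
  set v : X := a * k₀ * a⁻¹ * k₀⁻¹ with hv
  have hvK : v ∈ K := T1b_aux_comm_mem K a hk₀K
  have hvne : v ≠ 1 := fun h => hk₀H ((memH k₀ hk₀K).mpr h)
  have hv2 : v * v = 1 := by
    have h1 := (memH _ (K.mul_mem hk₀K hk₀K)).mp hk₀sq
    rw [T1b_aux_comm_mul K hKab a hk₀K hk₀K] at h1
    exact h1
  have hvinv : v⁻¹ = v := inv_eq_of_mul_eq_one_right hv2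
  -- all commutators with `a` are `1` or `v`
  have hc : ∀ k ∈ K, a * k * a⁻¹ * k⁻¹ = 1 ∨ a * k * a⁻¹ * k⁻¹ = v := by
    intro k hk
    by_cases hkH : k ∈ K ⊓ centralizer ({a} : Set X)
    · left; exact (memH k hk).mp hkH
    · right
      have hkk : k * k₀ ∈ K ⊓ centralizer ({a} : Set X) := by
        rcases hk₀ k hk with ⟨h, _⟩ | ⟨h, _⟩
        · exact h
        · exact absurd h hkH
      have h1 := (memH _ (K.mul_mem hk hk₀K)).mp hkk
      rw [T1b_aux_comm_mul K hKab a hk hk₀K] at h1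
      rw [eq_inv_of_mul_eq_one_left h1, hvinv]
  have hav : a * v * a⁻¹ = v := by
    rcases hc v hvK with h | h
    · exact mul_inv_eq_one.mp h
    · exfalso
      have h1 : a * v * a⁻¹ = v * v := mul_inv_eq_iff_eq_mul.mp h
      rw [hv2] at h1
      exact hvne (conj_eq_one_iff.mp h1)
  -- the conjugate data
  set a' : X := g * a * g⁻¹ with ha'
  set v' : X := g * v * g⁻¹ with hv'
  have hv'K : v' ∈ K := Subgroup.Normal.conj_mem ‹K.Normal› v hvK g
  have hv'ne : v' ≠ 1 := fun h => hvne (conj_eq_one_iff.mp h)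
  have hv'2 : v' * v' = 1 := by
    calc v' * v' = g * (v * v) * g⁻¹ := by rw [hv']; group
      _ = 1 := by rw [hv2]; group
  have ha'v' : a' * v' * a'⁻¹ = v' := by
    calc a' * v' * a'⁻¹ = g * (a * v * a⁻¹) * g⁻¹ := by rw [ha', hv']; group
      _ = v' := by rw [hav]
  have hc' : ∀ k ∈ K, a' * k * a'⁻¹ * k⁻¹ = 1 ∨ a' * k * a'⁻¹ * k⁻¹ = v' := by
    intro k hk
    have hkg : g⁻¹ * k * g ∈ K := by
      have := Subgroup.Normal.conj_mem ‹K.Normal› k hk g⁻¹
      rwa [inv_inv] at this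
    have key : a' * k * a'⁻¹ * k⁻¹ =
        g * (a * (g⁻¹ * k * g) * a⁻¹ * (g⁻¹ * k * g)⁻¹) * g⁻¹ := by rw [ha']; group
    rcases hc _ hkg with h | h
    · left; rw [key, h]; group
    · right; rw [key, h]
  have hvv' : v * v' = v' * v := hKab v hvK v' hv'K
  by_cases h1 : a * v' * a⁻¹ = v'
  · exfalso
    apply hng
    intro d hd
    exact ⟨2, T1b_aux_two K hKab a a' v' v hv'K hvK hv'2 hv2 h1 ha'v' hav (hc' v hvK) hc hc' d hd⟩
  by_cases h2 : a' * v * a'⁻¹ = v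
  · exfalso
    apply hng
    intro d hd
    refine ⟨2, T1b_aux_two K hKab a' a v v' hvK hv'K hv2 hv'2 h2 hav ha'v' (hc v' hv'K) hc' hc d ?_⟩
    rwa [Set.pair_comm]
  · have e1 : a * v' * a⁻¹ = v * v' := by
      rcases hc v' hv'K with h | h
      · exact absurd (mul_inv_eq_one.mp h) h1
      · exact mul_inv_eq_iff_eq_mul.mp h
    have e2 : a' * v * a'⁻¹ = v * v' := by
      rcases hc' v hvK with h | h
      · exact absurd (mul_inv_eq_one.mp h) h2
      · rw [hvv']; exact mul_inv_eq_iff_eq_mul.mp h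
    have hne : v ≠ v' := by
      intro h
      apply h1
      rw [← h]; exact hav
    exact ⟨v, v', a, a', hv2, hv'2, hvv', hvne, hv'ne, hne, hav, e1, ha'v', e2⟩

end Cfsg.Agent.S2799P
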