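import Mathlib
import Cfsg.Agent.Helper29.TV2Basic
import Cfsg.Agent.Helper24.TV2_PMIN
import Cfsg.Agent.Helper24.TV2_DE
import Cfsg.Agent.Helper18.TV2_USPAN

/-! Board `tv2pieces`, row L0ND (helper11): `L0`, `ND_span`, `ND`. -/

set_option autoImplicit false
set_option linter.unusedSectionVars false

namespace Cfsg.Agent.TV2

variable {P : Type*} [Group P] [Finite P] {W : Type*} [AddCommGroup W] [Module (ZMod 2) W] [Finite W] [DistribMulAction P W]

/-- the subgroup of `E` fixing `U` pointwise. -/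
def L0ND_aux_N (C : Ctx P W) : Subgroup P where
  carrier := {e | e ∈ C.E ∧ ∀ u ∈ C.U, e • u = u}
  one_mem' := ⟨one_mem _, fun u _ => one_smul _ _⟩
  mul_mem' := fun {a b} ha hb =>
    ⟨mul_mem ha.1 hb.1, fun u hu => by rw [mul_smul, hb.2 u hu, ha.2 u hu]⟩
  inv_mem' := fun {a} ha =>
    ⟨inv_mem ha.1, fun u hu => by rw [inv_smul_eq_iff, ha.2 u hu]⟩

theorem L0ND_aux_mem (C : Ctx P W) {e : P} :
    e ∈ L0ND_aux_N C ↔ e ∈ C.E ∧ ∀ u ∈ C.U, e • u = u := Iff.rfl

theorem L0ND_aux_normal (C : Ctx P W) : (L0ND_aux_N C).Normal := by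
  refine ⟨fun e he g => ?_⟩
  have hE : C.E.Normal := DE_normal C
  refine ⟨hE.conj_mem e he.1 g, fun u hu => ?_⟩
  have hu' : g⁻¹ • u ∈ C.U := USPAN_U_inv C g⁻¹ hu
  rw [mul_smul, mul_smul, he.2 _ hu', smul_inv_smul]

theorem L0ND_aux_pow_four (C : Ctx P W) {e : P} (he : e ∈ L0ND_aux_N C) : e ^ 4 = 1 := by
  have hsq : e * e = 1 := by
    apply C.faith
    intro w
    have hn : e • w - w ∈ C.U := USPAN_E_sub_mem C he.1 w
    have h1 := he.2 _ hn
    rw [smul_sub] at h1
    -- e • e • w - e • w = e • w - w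
    rw [mul_smul]
    have h2 : e • e • w = e • w + e • w - w := by
      rw [sub_eq_iff_eq_add] at h1
      rw [h1]; abel
    rw [h2, add_self_W, zero_sub, neg_eq_W]
  calc e ^ 4 = (e * e) * (e * e) := by
        rw [show (4 : ℕ) = 2 + 2 from rfl, pow_add, pow_two]
    _ = 1 := by rw [hsq, one_mul]

theorem L0 (C : Ctx P W) {e : P} (he : e ∈ C.E) (h : ∀ u ∈ C.U, e • u = u) : e = 1 := by
  have hbot : L0ND_aux_N C = ⊥ :=
    PMIN_normal_two_group C (L0ND_aux_N C) (L0ND_aux_normal C) (fun g hg => L0ND_aux_pow_four C hg)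
  have hmem : e ∈ L0ND_aux_N C := ⟨he, h⟩
  rw [hbot] at hmem
  exact Subgroup.mem_bot.mp hmem

/-- nondegeneracy: no member of `D` has functional vanishing on a spanning set of centres. -/
theorem ND_span (C : Ctx P W) {d : P} (hd : d ∈ C.D) (S : Set P) (hS : C.U ≤ cspan W S) : ∃ d' ∈ S, B W d d' = 1 := by
  by_contra hcon
  have hdtv : Tv W d := DE_tv C hd
  have hzero : ∀ d' ∈ S, B W d d' = 0 := by
    intro d' hd'
    rcases zmod2_cases (B W d d') with h0 | h1
    · exact h0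
    · exact absurd ⟨d', hd', h1⟩ hcon
  have hvan : ∀ u ∈ cspan W S, fn W d u = 0 := by
    intro u hu
    unfold cspan at hu
    induction hu using AddSubgroup.closure_induction with
    | mem v hv =>
      obtain ⟨d', hd', rfl⟩ := hv
      exact hzero d' hd'
    | zero => exact map_zero _
    | add a b _ _ iha ihb => rw [map_add, iha, ihb, add_zero]
    | neg a _ iha => rw [map_neg, iha, neg_zero]
  have hfix : ∀ u ∈ C.U, d • u = u := fun u hu => (hdtv.fixed_iff u).mpr (hvan u (hS hu))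
  have hdE : d ∈ C.E := Subgroup.subset_closure hd
  exact hdtv.ne_one (L0 C hdE hfix)

theorem ND (C : Ctx P W) {d : P} (hd : d ∈ C.D) : ∃ d' ∈ C.D, B W d d' = 1 :=
  ND_span C hd C.D (le_of_eq (USPAN_U_eq C))

end Cfsg.Agent.TV2
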