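import Mathlib
import Cfsg.Agent.Helper29.TV2Basic
import Cfsg.Agent.Helper24.TV2_PMIN
import Cfsg.Agent.Helper24.TV2_DE
import Cfsg.Agent.Helper24.TV2_ZB
import Cfsg.Agent.Helper24.TV2_CA

/-! Board `tv2pieces`, row CB (helper11): `CB`, `CB_iff`. -/

set_option autoImplicit false

namespace Cfsg.Agent.TV2

variable {P : Type*} [Group P] [Finite P] {W : Type*} [AddCommGroup W] [Module (ZMod 2) W] [Finite W] [DistribMulAction P W]

/-- a `T`-fixed vector killed by the functional of some `x ∈ D1` is `P`-fixed. -/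
theorem CB_aux_fixed (C : Ctx P W) {x : P} (hx : x ∈ C.D1) {w : W}
    (hT : ∀ t ∈ (C.T : Subgroup P), t • w = w) (h0 : fn W x w = 0) (g : P) : g • w = w := by
  have hxtv : Tv W x := DE_tv C hx.1
  have hxw : x • w = w := (hxtv.fixed_iff w).mpr h0
  have htop : MulAction.stabilizer P w = ⊤ := by
    refine PMIN_gen C hx.2 (MulAction.stabilizer P w) ?_ ?_
    · intro t ht
      exact MulAction.mem_stabilizer_iff.mpr (hT t ht)
    · exact MulAction.mem_stabilizer_iff.mpr hxw
  have hg : g ∈ MulAction.stabilizer P w := by rw [htop]; exact Subgroup.mem_top g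
  exact MulAction.mem_stabilizer_iff.mp hg

theorem CB (C : Ctx P W) {z : W} (hz : C.IsBase z) {g : P} (hg : g • z = z) : g ∈ C.M := by
  apply C.hCT g
  intro w hw
  obtain ⟨x, hx⟩ := DE_exists_D1 C
  have hxz : fn W x z = 1 := ZB_fn C hz hx
  rcases zmod2_cases (fn W x w) with h0 | h1
  · exact CB_aux_fixed C hx hw h0 g
  · have hT' : ∀ t ∈ (C.T : Subgroup P), t • (w + z) = w + z := by
      intro t ht
      rw [smul_add, hw t ht, hz.fixT t ht]
    have h0' : fn W x (w + z) = 0 := by
      rw [map_add, h1, hxz]; rfl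
    have hfix := CB_aux_fixed C hx hT' h0' g
    rw [smul_add, hg] at hfix
    exact add_right_cancel hfix

theorem CB_iff (C : Ctx P W) {z : W} (hz : C.IsBase z) {d : P} (hd : d ∈ C.D) : d ∈ C.M ↔ fn W d z = 0 := by
  have hdtv : Tv W d := DE_tv C hd
  constructor
  · intro hdM
    exact (hdtv.fixed_iff z).mp (CA C hz hdM)
  · intro h0
    exact CB C hz ((hdtv.fixed_iff z).mpr h0)

end Cfsg.Agent.TV2
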