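import Mathlib
import Cfsg.Agent.Helper29.TV2Basic
import Cfsg.Agent.Helper24.TV2_DE
import Cfsg.Agent.Helper8.TV2_SYMM

/-! Board `tv2pieces`, row SYMC (helper11): `SYMC_commute`, `SYMC_two_group`. -/

set_option autoImplicit false
set_option linter.unusedSectionVars false

namespace Cfsg.Agent.TV2

variable {P : Type*} [Group P] [Finite P] {W : Type*} [AddCommGroup W] [Module (ZMod 2) W] [Finite W] [DistribMulAction P W]

theorem SYMC_commute (C : Ctx P W) {d e : P} (hd : d ∈ C.D) (he : e ∈ C.D) (h : B W d e = 0) : d * e = e * d := by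
  have h' : B W e d = 0 := by rw [← SYMM C hd he]; exact h
  exact commute_of_B_eq_zero C.faith (DE_tv C hd) (DE_tv C he) h h'

theorem SYMC_two_group (C : Ctx P W) (H : Subgroup P) (hH : IsPGroup 2 H) {d e : P} (hd : d ∈ C.D) (he : e ∈ C.D) (hdH : d ∈ H)
    (heH : e ∈ H) : B W d e = 0 := by
  have hdtv : Tv W d := DE_tv C hd
  have hetv : Tv W e := DE_tv C he
  rcases zmod2_cases (B W d e) with h0 | h1
  · exact h0
  · exfalso
    have h1' : B W e d = 1 := by rw [← SYMM C hd he]; exact h1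
    have h3 : (d * e) ^ 3 = 1 := pow_three_of_B_eq_one C.faith hdtv hetv h1 h1'
    obtain ⟨k, hk⟩ := hH ⟨d * e, mul_mem hdH heH⟩
    have hk' : (d * e) ^ (2 ^ k) = 1 := by
      have := congrArg Subtype.val hk
      simpa using this
    have ho3 : orderOf (d * e) ∣ 3 := orderOf_dvd_of_pow_eq_one h3
    have ho2 : orderOf (d * e) ∣ 2 ^ k := orderOf_dvd_of_pow_eq_one hk'
    have hcop : Nat.Coprime 3 (2 ^ k) := Nat.Coprime.pow_right k (by norm_num)
    have ho1 : orderOf (d * e) = 1 := Nat.eq_one_of_dvd_coprimes hcop ho3 ho2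
    have hde : d * e = 1 := orderOf_eq_one_iff.mp ho1
    have hdeq : d = e := by
      have : d = e⁻¹ := eq_inv_of_mul_eq_one_left hde
      rw [this, hetv.inv_eq C.faith]
    rw [hdeq, B_self hetv] at h1
    exact zero_ne_one h1

end Cfsg.Agent.TV2
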