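import Mathlib
import Cfsg.Agent.Helper29.TV2Basic
import Cfsg.Agent.Helper24.TV2_DE
import Cfsg.Agent.Helper18.TV2_K2A
import Cfsg.Agent.Helper24.TV2_K2B
import Cfsg.Agent.Helper11.TV2_SYMC

/-! Board `tv2pieces`, row K2 (helper11): `K2` from `K2A` + `K2B`. -/

set_option autoImplicit false

namespace Cfsg.Agent.TV2

variable {P : Type*} [Group P] [Finite P] {W : Type*} [AddCommGroup W] [Module (ZMod 2) W] [Finite W] [DistribMulAction P W]

/-- two commuting involutions generate a `2`-group. -/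
theorem K2_aux_two_group {e e' : P} (he : e * e = 1) (he' : e' * e' = 1) (hc : e * e' = e' * e) :
    IsPGroup 2 (Subgroup.closure ({e, e'} : Set P)) := by
  have hcomm : ∀ x ∈ ({e, e'} : Set P), ∀ y ∈ ({e, e'} : Set P), x * y = y * x := by
    intro x hx y hy
    rcases hx with rfl | rfl <;> rcases hy with rfl | rfl
    · rfl
    · exact hc
    · exact hc.symm
    · rfl
  have hcl : ∀ g ∈ Subgroup.closure ({e, e'} : Set P), ∀ h ∈ Subgroup.closure ({e, e'} : Set P), g * h = h * g := by
    intro g hg h hh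
    have := (Subgroup.closureCommGroupOfComm hcomm).mul_comm ⟨g, hg⟩ ⟨h, hh⟩
    exact congrArg Subtype.val this
  have hsq : ∀ g ∈ Subgroup.closure ({e, e'} : Set P), g ^ 2 = 1 := by
    intro g hg
    induction hg using Subgroup.closure_induction with
    | mem x hx =>
      rcases hx with rfl | rfl
      · rw [pow_two]; exact he
      · rw [pow_two]; exact he'
    | one => exact one_pow 2
    | mul x y hx hy ihx ihy =>
      have hxy : Commute x y := hcl x hx y hy
      rw [hxy.mul_pow, ihx, ihy, one_mul]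
    | inv x hx ihx => rw [inv_pow, ihx, inv_one]
  intro g
  refine ⟨1, ?_⟩
  apply Subtype.ext
  rw [pow_one, Subgroup.coe_pow, Subgroup.coe_one]
  exact hsq g.1 g.2

theorem K2 (C : Ctx P W) {z : W} (hz : C.IsBase z) {y e e' : P} (hy : y ∈ C.D1) (he : e ∈ C.D) (he' : e' ∈ C.D)
    (heM : e ∈ C.M) (heM' : e' ∈ C.M) (hne : e ≠ e') (h1 : B W y e = 1) (h2 : B W y e' = 1) (h3 : B W e e' = 0) :
    False := by
  have hytv : Tv W y := DE_tv C hy.1
  have hetv : Tv W e := DE_tv C he
  have hetv' : Tv W e' := DE_tv C he'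
  have hc : e * e' = e' * e := SYMC_commute C he he' h3
  have hQ : IsPGroup 2 (Subgroup.closure ({e, e'} : Set P)) :=
    K2_aux_two_group (hetv.mul_self C.faith) (hetv'.mul_self C.faith) hc
  have hQM : Subgroup.closure ({e, e'} : Set P) ≤ C.M := by
    rw [Subgroup.closure_le]
    intro x hx
    rcases hx with rfl | rfl
    · exact heM
    · exact heM'
  obtain ⟨m, hm, hmT⟩ := K2A C _ hQ hQM
  have heQ : e ∈ Subgroup.closure ({e, e'} : Set P) := Subgroup.subset_closure (Set.mem_insert _ _)
  have heQ' : e' ∈ Subgroup.closure ({e, e'} : Set P) :=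
    Subgroup.subset_closure (Set.mem_insert_of_mem _ (Set.mem_singleton _))
  refine K2B C hz (y := m * y * m⁻¹) (e := m * e * m⁻¹) (e' := m * e' * m⁻¹)
    (DE_conj_D1 C hy hm) (DE_conj C he m) (DE_conj C he' m) (hmT e heQ) (hmT e' heQ') ?_ ?_ ?_
  · intro h
    apply hne
    have := congrArg (fun g => m⁻¹ * g * m) h
    simpa [mul_assoc] using this
  · rw [Tv.B_conj hytv hetv]; exact h1
  · rw [Tv.B_conj hytv hetv']; exact h2

end Cfsg.Agent.TV2
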