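import Mathlib
import Cfsg.Agent.Helper29.TV2Basic
import Cfsg.Agent.Helper24.TV2_DE
import Cfsg.Agent.Helper24.TV2_ZB
import Cfsg.Agent.Helper8.TV2_SYMM
import Cfsg.Agent.Helper29.TV2_INJh
import Cfsg.Agent.Helper11.TV2_CB
import Cfsg.Agent.Helper11.TV2_K2

/-! Board `tv2pieces`, row TRANS (helper11): `TRANS`, `TRANS_K_eq`, `TRANS_B_one`, `TRANS_B_zero`, `TRANS_conj`. -/

set_option autoImplicit false
set_option linter.unusedSectionVars false

namespace Cfsg.Agent.TV2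

variable {P : Type*} [Group P] [Finite P] {W : Type*} [AddCommGroup W] [Module (ZMod 2) W] [Finite W] [DistribMulAction P W]

theorem TRANS_aux_one_add_one : (1 : ZMod 2) + 1 = 0 := rfl

theorem TRANS (C : Ctx P W) {x y w : P} (hx : x ∈ C.D1) (hy : y ∈ C.D1) (hw : w ∈ C.D1) (h1 : B W x y = 1)
    (h2 : B W y w = 1) (hne : x ≠ w) : B W x w = 1 := by
  rcases zmod2_cases (B W x w) with h0 | h
  swap
  · exact h
  exfalso
  obtain ⟨z, hz⟩ := ZB_exists C
  have hxtv : Tv W x := DE_tv C hx.1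
  have hytv : Tv W y := DE_tv C hy.1
  have hwtv : Tv W w := DE_tv C hw.1
  have hyx : B W y x = 1 := by rw [SYMM C hy.1 hx.1]; exact h1
  have hwy : B W w y = 1 := by rw [SYMM C hw.1 hy.1]; exact h2
  have hxz : fn W x z = 1 := ZB_fn C hz hx
  have hyz : fn W y z = 1 := ZB_fn C hz hy
  have hwz : fn W w z = 1 := ZB_fn C hz hw
  have heD : x * y * x⁻¹ ∈ C.D := DE_conj C hy.1 x
  have heD' : w * y * w⁻¹ ∈ C.D := DE_conj C hy.1 w
  -- centres
  have hce : cen W (x * y * x⁻¹) = cen W y + cen W x := by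
    rw [hytv.cen_conj_tv hxtv, h1, one_smul]
  have hce' : cen W (w * y * w⁻¹) = cen W y + cen W w := by
    rw [hytv.cen_conj_tv hwtv, hwy, one_smul]
  -- functionals
  have hfe : ∀ v, fn W (x * y * x⁻¹) v = fn W y v + fn W x v := by
    intro v; rw [hytv.fn_conj_tv hxtv, hyx, mul_one]
  have hfe' : ∀ v, fn W (w * y * w⁻¹) v = fn W y v + fn W w v := by
    intro v; rw [hytv.fn_conj_tv hwtv, h2, mul_one]
  have heM : x * y * x⁻¹ ∈ C.M := by
    rw [CB_iff C hz heD, hfe, hyz, hxz]; rfl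
  have heM' : w * y * w⁻¹ ∈ C.M := by
    rw [CB_iff C hz heD', hfe', hyz, hwz]; rfl
  have hyy : fn W y (cen W y) = 0 := hytv.fn_cen_self
  have hByx : fn W y (cen W x) = 1 := hyx
  have hByw : fn W y (cen W w) = 1 := h2
  have hBxy : fn W x (cen W y) = 1 := h1
  have hBxw : fn W x (cen W w) = 0 := h0
  have hBye : B W y (x * y * x⁻¹) = 1 := by
    unfold B
    rw [hce, map_add, hyy, hByx, zero_add]
  have hBye' : B W y (w * y * w⁻¹) = 1 := by
    unfold B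
    rw [hce', map_add, hyy, hByw, zero_add]
  have hBee' : B W (x * y * x⁻¹) (w * y * w⁻¹) = 0 := by
    unfold B
    rw [hce', hfe, map_add, map_add, hyy, hByw, hBxy, hBxw]; rfl
  have hnee : x * y * x⁻¹ ≠ w * y * w⁻¹ := by
    intro heq
    apply hne
    apply INJ_cen C hx.1 hw.1
    have := congrArg (cen W) heq
    rw [hce, hce'] at this
    exact add_left_cancel this
  exact K2 C hz hy heD heD' heM heM' hnee hBye hBye' hBee'

theorem TRANS_K_eq (C : Ctx P W) {x y : P} (hx : x ∈ C.D1) (hy : y ∈ C.K x) : C.K y = C.K x := by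
  obtain ⟨hy1, hyx⟩ := hy
  rcases hyx with rfl | hyx
  · rfl
  have hxy : B W x y = 1 := by rw [SYMM C hx.1 hy1.1]; exact hyx
  ext v
  constructor
  · rintro ⟨hv1, hv⟩
    refine ⟨hv1, ?_⟩
    rcases hv with rfl | hv
    · exact Or.inr hyx
    · by_cases hvx : v = x
      · exact Or.inl hvx
      · exact Or.inr (TRANS C hv1 hy1 hx hv hyx hvx)
  · rintro ⟨hv1, hv⟩
    refine ⟨hv1, ?_⟩
    rcases hv with rfl | hv
    · exact Or.inr hxy
    · by_cases hvy : v = y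
      · exact Or.inl hvy
      · exact Or.inr (TRANS C hv1 hx hy1 hv hxy hvy)

theorem TRANS_B_one (C : Ctx P W) {x y y' : P} (hx : x ∈ C.D1) (hy : y ∈ C.K x) (hy' : y' ∈ C.K x) (hne : y ≠ y') :
    B W y y' = 1 := by
  obtain ⟨hy1, hyx⟩ := hy
  obtain ⟨hy1', hyx'⟩ := hy'
  rcases hyx with rfl | hyx
  · rcases hyx' with rfl | hyx'
    · exact absurd rfl hne
    · rw [SYMM C hy1.1 hy1'.1]; exact hyx'
  · rcases hyx' with rfl | hyx'
    · exact hyx
    · have hxy' : B W x y' = 1 := by rw [SYMM C hx.1 hy1'.1]; exact hyx'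
      exact TRANS C hy1 hx hy1' hyx hxy' hne

theorem TRANS_B_zero (C : Ctx P W) {x y y' : P} (hx : x ∈ C.D1) (hy : y ∈ C.K x) (hy' : y' ∈ C.D1) (hn : y' ∉ C.K x) :
    B W y y' = 0 := by
  rcases zmod2_cases (B W y y') with h0 | h1
  · exact h0
  · exfalso
    apply hn
    rw [← TRANS_K_eq C hx hy]
    refine ⟨hy', Or.inr ?_⟩
    rw [SYMM C hy'.1 hy.1.1]; exact h1

theorem TRANS_conj (C : Ctx P W) {x : P} (hx : x ∈ C.D1) {m : P} (hm : m ∈ C.M) :
    C.K (m * x * m⁻¹) = {d | ∃ k ∈ C.K x, d = m * k * m⁻¹} := by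
  have hxtv : Tv W x := DE_tv C hx.1
  ext d
  constructor
  · rintro ⟨hd1, hd⟩
    have hk1 : m⁻¹ * d * (m⁻¹)⁻¹ ∈ C.D1 := DE_conj_D1 C hd1 (inv_mem hm)
    have hdk : d = m * (m⁻¹ * d * (m⁻¹)⁻¹) * m⁻¹ := by group
    refine ⟨m⁻¹ * d * (m⁻¹)⁻¹, ⟨hk1, ?_⟩, hdk⟩
    rcases hd with rfl | hd
    · left; group
    · right
      have hktv : Tv W (m⁻¹ * d * (m⁻¹)⁻¹) := DE_tv C hk1.1
      rw [← Tv.B_conj hktv hxtv m, ← hdk]
      exact hd
  · rintro ⟨k, ⟨hk1, hk⟩, rfl⟩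
    refine ⟨DE_conj_D1 C hk1 hm, ?_⟩
    rcases hk with rfl | hk
    · left; rfl
    · right
      rw [Tv.B_conj (DE_tv C hk1.1) hxtv m]
      exact hk

end Cfsg.Agent.TV2
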