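import Mathlib

set_option autoImplicit false

namespace Cfsg.Agent.S3557P

open MulAction

/-- A subgroup of index `p` of a finite `p`-group is normal. -/
theorem BETA_aux_normal {G : Type*} [Group G] [Finite G] (p : ℕ) [Fact p.Prime]
    (hG : IsPGroup p G) (H : Subgroup G) (hH : H.index = p) : H.Normal := by
  apply Subgroup.normal_of_index_eq_minFac_card
  rw [hH]
  obtain ⟨n, hn⟩ := IsPGroup.iff_card.mp hG
  have hp := (Fact.out : p.Prime)
  have hn0 : n ≠ 0 := by
    rintro rfl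
    have h1 : H.index ∣ Nat.card G := Subgroup.index_dvd_card _
    rw [hH, hn, pow_zero] at h1
    exact hp.one_lt.ne' (Nat.dvd_one.mp h1)
  rw [hn, Nat.Prime.pow_minFac hp hn0]

/-- A normal subgroup of prime index together with any element outside it generates everything:
every element is a power of `t` times an element of the subgroup. -/
theorem BETA_aux_gen {G : Type*} [Group G] (p : ℕ) [Fact p.Prime] (A : Subgroup G)
    (hA : A.Normal) (hAi : A.index = p) (t : G) (ht : t ∉ A) (g : G) :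
    ∃ k : ℤ, ∃ h ∈ A, g = t ^ k * h := by
  have := hA
  have hcard : Nat.card (G ⧸ A) = p := by rw [← Subgroup.index_eq_card]; exact hAi
  have hq : (QuotientGroup.mk t : G ⧸ A) ≠ 1 := by
    rw [Ne, QuotientGroup.eq_one_iff]; exact ht
  have htop := zpowers_eq_top_of_prime_card hcard hq
  have hmem : (QuotientGroup.mk g : G ⧸ A) ∈ Subgroup.zpowers (QuotientGroup.mk t : G ⧸ A) := by
    rw [htop]; trivial
  obtain ⟨k, hk⟩ := Subgroup.mem_zpowers_iff.mp hmem
  refine ⟨k, t ^ (-k) * g, ?_, ?_⟩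
  · rw [← QuotientGroup.eq_one_iff, QuotientGroup.mk_mul, QuotientGroup.mk_zpow, ← hk]
    simp
  · group

theorem BETA {P Ω : Type*} [Group P] [Finite P] [MulAction P Ω] [FaithfulSMul P Ω] (p : ℕ) [Fact p.Prime]
    (hP : IsPGroup p P) (horb : ∀ x : Ω, Nat.card (orbit P x) = p ^ 2) (a b : Ω)
    (hsplit : ∀ x : Ω, x ∈ orbit P a ∨ x ∈ orbit P b) (hab : b ∉ orbit P a)
    (z : P) (hz : z ∈ Subgroup.center P) (hzp : orderOf z = p) (hzb : z • b = b) (hza : z • a ≠ a)
    (hK1 : ∀ k : P, (∀ x ∈ orbit P a, k • x = x) → k = 1)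
    (M : Subgroup P) (hMn : M.Normal) (hMi : M.index = p)
    (hMa : ∀ x ∈ orbit P a, stabilizer P x ≤ M)
    (hMb : ∀ y ∈ orbit P b, ∀ y' ∈ orbit P b, ∃ m ∈ M, m • y = y') :
    ∀ v ∈ orbit P b, ∀ u ∈ orbit P a, ∀ u' ∈ orbit P a, ∃ s : P, s • v = v ∧ s • u = u' := by
  have hp := (Fact.out : p.Prime)
  -- (F2): point stabilizers of `orbit a` are normal of index `p` in `M`
  have hF2 : ∀ x ∈ orbit P a, ((stabilizer P x).subgroupOf M).Normal ∧
      ((stabilizer P x).subgroupOf M).index = p := by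
    intro x hx
    have hidx : (stabilizer P x).index = p ^ 2 := by
      rw [MulAction.index_stabilizer, ← Nat.card_coe_set_eq]; exact horb x
    have hrel : (stabilizer P x).relIndex M * M.index = (stabilizer P x).index :=
      Subgroup.relIndex_mul_index (hMa x hx)
    rw [hMi, hidx, pow_two] at hrel
    have hrel' : (stabilizer P x).relIndex M = p := Nat.eq_of_mul_eq_mul_right hp.pos hrel
    have hi : ((stabilizer P x).subgroupOf M).index = p := hrel'
    exact ⟨BETA_aux_normal p (hP.to_subgroup M) _ hi, hi⟩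
  -- conjugation consequence
  have hconj : ∀ x ∈ orbit P a, ∀ m ∈ M, ∀ h : P, h • x = x → (m * h * m⁻¹) • x = x := by
    intro x hx m hm h hh
    have hhM : h ∈ M := hMa x hx hh
    have h1 := (hF2 x hx).1.conj_mem ⟨h, hhM⟩
      (by rw [Subgroup.mem_subgroupOf]; exact hh) ⟨m, hm⟩
    rw [Subgroup.mem_subgroupOf] at h1
    exact h1
  -- generation consequence
  have hgen : ∀ x ∈ orbit P a, ∀ t ∈ M, t • x ≠ x → ∀ m ∈ M,
      ∃ k : ℤ, ∃ h : P, h • x = x ∧ m = t ^ k * h := by
    intro x hx t ht htx m hm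
    obtain ⟨k, h, hh, hmk⟩ := BETA_aux_gen p ((stabilizer P x).subgroupOf M) (hF2 x hx).1
      (hF2 x hx).2 ⟨t, ht⟩ (by rw [Subgroup.mem_subgroupOf]; exact htx) ⟨m, hm⟩
    rw [Subgroup.mem_subgroupOf] at hh
    refine ⟨k, (h : P), hh, ?_⟩
    have h2 := congrArg (Subtype.val : ↥M → P) hmk
    simpa using h2
  -- stabilizers are constant along `M`-orbits in `orbit a`
  have hfix : ∀ x ∈ orbit P a, ∀ m ∈ M, ∀ n : P, n • m • x = m • x ↔ n • x = x := by
    intro x hx m hm n
    constructor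
    · intro h
      have h0 : (m⁻¹ * n * m) • x = x := by
        rw [mul_smul, mul_smul, h, inv_smul_smul]
      have h1 := hconj x hx m hm _ h0
      have h2 : m * (m⁻¹ * n * m) * m⁻¹ = n := by group
      rw [h2] at h1
      exact h1
    · intro h
      have h1 := hconj x hx m⁻¹ (M.inv_mem hm) n h
      rw [inv_inv] at h1
      calc n • m • x = m • (m⁻¹ * n * m) • x := by simp [mul_smul]
      _ = m • x := by rw [h1]
  intro v hv
  -- `z` fixes `v`
  have hzv : z • v = v := by
    obtain ⟨g₀, rfl⟩ := hv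
    have hc : z * g₀ = g₀ * z := (Subgroup.mem_center_iff.mp hz g₀).symm
    show z • g₀ • b = g₀ • b
    rw [← mul_smul, hc, mul_smul, hzb]
  -- (F1): `P = P_v M`
  have hF1 : ∀ g : P, ∃ s : P, ∃ m ∈ M, s • v = v ∧ g = s * m := by
    intro g
    have hgv : g⁻¹ • v ∈ orbit P b := by
      obtain ⟨g₀, rfl⟩ := hv
      exact ⟨g⁻¹ * g₀, by simp [mul_smul]⟩
    obtain ⟨m', hm', hm'v⟩ := hMb v hv _ hgv
    refine ⟨g * m', m'⁻¹, M.inv_mem hm', ?_, by group⟩
    rw [mul_smul, hm'v, smul_inv_smul]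
  -- (F3)(a): some point of `orbit a` is moved by `M ∩ P_v`
  have hF3a : ∃ x₀ ∈ orbit P a, ∃ n ∈ M, n • v = v ∧ n • x₀ ≠ x₀ := by
    by_contra hcon
    push Not at hcon
    have hN1 : ∀ n ∈ M, n • v = v → n = 1 := by
      intro n hn hnv
      exact hK1 n (fun x hx => hcon x hx n hn hnv)
    have hzM : z ∉ M := by
      intro hzM
      have h1 := hN1 z hzM hzv
      rw [h1, orderOf_one] at hzp
      exact hp.one_lt.ne' hzp.symm
    have hPa : ∀ h : P, h • a = a → h = 1 := by
      intro h hh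
      apply hK1
      intro x hx
      obtain ⟨g, rfl⟩ := hx
      obtain ⟨k, m, hm, rfl⟩ := BETA_aux_gen p M hMn hMi z hzM g
      have hzk : z ^ k ∈ Subgroup.center P := Subgroup.zpow_mem _ hz k
      have hc : h * z ^ k = z ^ k * h := (Subgroup.mem_center_iff.mp hzk h)
      have h1 := hconj a (mem_orbit_self a) m⁻¹ (M.inv_mem hm) h hh
      rw [inv_inv] at h1
      show h • (z ^ k * m) • a = (z ^ k * m) • a
      calc h • (z ^ k * m) • a = (z ^ k * m) • (m⁻¹ * h * m) • a := by
            rw [← mul_smul, ← mul_smul]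
            congr 1
            calc h * (z ^ k * m) = (h * z ^ k) * m := by group
            _ = (z ^ k * h) * m := by rw [hc]
            _ = z ^ k * m * (m⁻¹ * h * m) := by group
      _ = (z ^ k * m) • a := by rw [h1]
    -- counting
    have hbot : stabilizer P a = ⊥ := by
      rw [Subgroup.eq_bot_iff_forall]
      intro h hh
      exact hPa h hh
    have hcardP : Nat.card P = p ^ 2 := by
      have hidx : (stabilizer P a).index = p ^ 2 := by
        rw [MulAction.index_stabilizer, ← Nat.card_coe_set_eq]; exact horb a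
      rw [hbot, Subgroup.index_bot] at hidx
      exact hidx
    have hcardM : Nat.card M = p := by
      have h1 : Nat.card M * M.index = Nat.card P := Subgroup.card_mul_index M
      rw [hMi, hcardP, pow_two] at h1
      exact Nat.eq_of_mul_eq_mul_right hp.pos h1
    have hsurj : Function.Surjective
        (fun m : ↥M => (⟨(m : P) • v, by
          obtain ⟨g₀, rfl⟩ := hv
          exact ⟨(m : P) * g₀, by simp [mul_smul]⟩⟩ : orbit P b)) := by
      rintro ⟨y, hy⟩
      obtain ⟨m, hm, hmy⟩ := hMb v hv y hy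
      exact ⟨⟨m, hm⟩, Subtype.ext hmy⟩
    have hle : Nat.card (orbit P b) ≤ Nat.card M := Nat.card_le_card_of_surjective _ hsurj
    rw [horb b, hcardM, pow_two] at hle
    have : p < p * p := by nlinarith [hp.one_lt]
    omega
  obtain ⟨x₀, hx₀, n, hnM, hnv, hnx₀⟩ := hF3a
  -- (F3)(b): every point of `orbit a` is moved by `M ∩ P_v`
  have hF3 : ∀ x ∈ orbit P a, ∃ t ∈ M, t • v = v ∧ t • x ≠ x := by
    intro x hx
    have hex : ∃ g : P, x = g • x₀ := by
      obtain ⟨g₁, rfl⟩ := hx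
      obtain ⟨g₀, rfl⟩ := hx₀
      exact ⟨g₁ * g₀⁻¹, by simp [mul_smul]⟩
    obtain ⟨g, rfl⟩ := hex
    obtain ⟨s, m, hm, hsv, rfl⟩ := hF1 g
    have hnm : n • m • x₀ ≠ m • x₀ := fun h => hnx₀ ((hfix x₀ hx₀ m hm n).mp h)
    refine ⟨s * n * s⁻¹, hMn.conj_mem n hnM s, ?_, ?_⟩
    · have hsv' : s⁻¹ • v = v := by
        conv_lhs => rw [← hsv]
        rw [inv_smul_smul]
      rw [mul_smul, mul_smul, hsv', hnv, hsv]
    · intro h
      apply hnm
      have h2 : (s * n * s⁻¹) • (s * m) • x₀ = s • n • m • x₀ := by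
        simp [mul_smul]
      rw [h2, mul_smul] at h
      exact smul_left_cancel s h
  intro u hu u' hu'
  have hex : ∃ g : P, u' = g • u := by
    obtain ⟨g₁, rfl⟩ := hu'
    obtain ⟨g₀, rfl⟩ := hu
    exact ⟨g₁ * g₀⁻¹, by simp [mul_smul]⟩
  obtain ⟨g, rfl⟩ := hex
  obtain ⟨s, m, hm, hsv, rfl⟩ := hF1 g
  obtain ⟨t, htM, htv, htu⟩ := hF3 u hu
  obtain ⟨k, h, hhu, rfl⟩ := hgen u hu t htM htu m hm
  have htkv : t ^ k • v = v := by
    have h1 : t ∈ stabilizer P v := htv
    exact (stabilizer P v).zpow_mem h1 k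
  refine ⟨s * t ^ k, ?_, ?_⟩
  · rw [mul_smul, htkv, hsv]
  · rw [mul_smul, mul_smul, mul_smul, hhu]

end Cfsg.Agent.S3557P
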