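import Mathlib

set_option autoImplicit false

namespace Cfsg.Agent.S3557P

open MulAction

/-- A stabilizer of index `p` in a finite `p`-group is normal. -/
theorem CODE_aux_normal {E Ω : Type*} [Group E] [Finite E] [MulAction E Ω] (p : ℕ) [Fact p.Prime]
    (hE : IsPGroup p E) (x : Ω) (hidx : (stabilizer E x).index = p) :
    (stabilizer E x).Normal := by
  apply Subgroup.normal_of_index_eq_minFac_card
  rw [hidx]
  obtain ⟨n, hn⟩ := IsPGroup.iff_card.mp hE
  have hp := (Fact.out : p.Prime)
  have hn0 : n ≠ 0 := by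
    rintro rfl
    have h1 : (stabilizer E x).index ∣ Nat.card E := Subgroup.index_dvd_card _
    rw [hidx, hn, pow_zero] at h1
    exact hp.one_lt.ne' (Nat.dvd_one.mp h1)
  rw [hn, Nat.Prime.pow_minFac hp hn0]

/-- A normal stabilizer does not change along the orbit. -/
theorem CODE_aux_stab_smul {E Ω : Type*} [Group E] [MulAction E Ω] (x : Ω)
    (hN : (stabilizer E x).Normal) (e : E) : stabilizer E (e • x) = stabilizer E x := by
  ext h
  simp only [mem_stabilizer_iff]
  constructor
  · intro hh
    have h0 : (e⁻¹ * h * e) • x = x := by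
      rw [mul_smul, mul_smul, hh, inv_smul_smul]
    have h1 : e⁻¹ * h * e ∈ stabilizer E x := h0
    have h2 := hN.conj_mem _ h1 e
    have h3 : e * (e⁻¹ * h * e) * e⁻¹ = h := by group
    rw [h3] at h2
    exact h2
  · intro hh
    have h1 : h ∈ stabilizer E x := hh
    have h2 := hN.conj_mem _ h1 e⁻¹
    have h3 : (e⁻¹ * h * e⁻¹⁻¹) • x = x := h2
    rw [inv_inv] at h3
    calc h • e • x = e • (e⁻¹ * h * e) • x := by simp [mul_smul]
    _ = e • x := by rw [h3]

/-- Two different normal subgroups of prime index generate everything, as a product set. -/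
theorem CODE_aux_prod {E : Type*} [Group E] [Finite E] (p : ℕ) [Fact p.Prime]
    (A B : Subgroup E) (hA : A.Normal) (hAi : A.index = p) (hBi : B.index = p) (hAB : A ≠ B)
    (g : E) : ∃ β ∈ B, ∃ α ∈ A, g = β * α := by
  have hp := (Fact.out : p.Prime)
  have htop : B ⊔ A = ⊤ := by
    by_contra hne
    have hdvd : (B ⊔ A).index ∣ A.index := Subgroup.index_dvd_of_le le_sup_right
    rw [hAi] at hdvd
    rcases (Nat.dvd_prime hp).mp hdvd with h1 | h1
    · exact hne (Subgroup.index_eq_one.mp h1)
    · -- index p: then A = B ⊔ A = B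
      have hA' : A = B ⊔ A := by
        have hrel : A.relIndex (B ⊔ A) * (B ⊔ A).index = A.index :=
          Subgroup.relIndex_mul_index le_sup_right
        rw [h1, hAi] at hrel
        have hrel1 : A.relIndex (B ⊔ A) = 1 := by
          have := hp.pos
          nlinarith [Nat.eq_of_mul_eq_mul_right hp.pos (by rw [one_mul]; exact hrel :
            A.relIndex (B ⊔ A) * p = 1 * p)]
        exact le_antisymm le_sup_right (Subgroup.relIndex_eq_one.mp hrel1)
      have hB' : B = B ⊔ A := by
        have hrel : B.relIndex (B ⊔ A) * (B ⊔ A).index = B.index :=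
          Subgroup.relIndex_mul_index le_sup_left
        rw [h1, hBi] at hrel
        have hrel1 : B.relIndex (B ⊔ A) = 1 :=
          Nat.eq_of_mul_eq_mul_right hp.pos (by rw [one_mul]; exact hrel)
        exact le_antisymm le_sup_left (Subgroup.relIndex_eq_one.mp hrel1)
      exact hAB (hA'.trans hB'.symm)
  have hg : g ∈ ((B ⊔ A : Subgroup E) : Set E) := by rw [htop]; trivial
  rw [Subgroup.mul_normal B A] at hg
  obtain ⟨β, hβ, α, hα, hβα⟩ := Set.mem_mul.mp hg
  exact ⟨β, hβ, α, hα, hβα.symm⟩

theorem CODE {E Ω : Type*} [Group E] [Finite E] [MulAction E Ω] (p : ℕ) [Fact p.Prime]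
    (hE : IsPGroup p E) (hidx : ∀ x : Ω, (stabilizer E x).index = p) :
    ∃ σ : Equiv.Perm Ω, (∀ a b : Ω, ∃ g : E, σ a = g • a ∧ σ b = g • b) ∧ (∀ x, σ x ≠ x) ∧
      ∀ x, (σ ^ p) x = x := by
  classical
  have hp := (Fact.out : p.Prime)
  have hN : ∀ x : Ω, (stabilizer E x).Normal := fun x => CODE_aux_normal p hE x (hidx x)
  have hst : ∀ (x : Ω) (e : E), stabilizer E (e • x) = stabilizer E x :=
    fun x e => CODE_aux_stab_smul x (hN x) e
  -- choice function
  let c : Subgroup E → E := fun H => if h : ∃ e : E, e ∉ H then h.choose else 1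
  have hc : ∀ x : Ω, c (stabilizer E x) ∉ stabilizer E x := by
    intro x
    have hex : ∃ e : E, e ∉ stabilizer E x := by
      by_contra hcon
      push Not at hcon
      have htop : stabilizer E x = ⊤ := by
        ext e; simp [hcon e]
      have h1 : (stabilizer E x).index = 1 := by rw [htop]; exact Subgroup.index_top
      rw [hidx x] at h1
      exact hp.one_lt.ne' h1
    show (if h : ∃ e : E, e ∉ stabilizer E x then h.choose else 1) ∉ stabilizer E x
    rw [dif_pos hex]
    exact hex.choose_spec
  let σ : Equiv.Perm Ω :=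
    { toFun := fun x => c (stabilizer E x) • x
      invFun := fun x => (c (stabilizer E x))⁻¹ • x
      left_inv := by
        intro x
        show (c (stabilizer E (c (stabilizer E x) • x)))⁻¹ • (c (stabilizer E x) • x) = x
        rw [hst x, inv_smul_smul]
      right_inv := by
        intro x
        show c (stabilizer E ((c (stabilizer E x))⁻¹ • x)) • ((c (stabilizer E x))⁻¹ • x) = x
        rw [hst x, smul_inv_smul] }
  have hσ : ∀ x, σ x = c (stabilizer E x) • x := fun x => rfl
  have hpow : ∀ (k : ℕ) (x : Ω), (σ ^ k) x = (c (stabilizer E x)) ^ k • x := by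
    intro k
    induction k with
    | zero => intro x; simp
    | succ k ih =>
      intro x
      rw [pow_succ', Equiv.Perm.mul_apply, ih x, hσ, hst x, pow_succ', mul_smul]
  refine ⟨σ, ?_, ?_, ?_⟩
  · intro a b
    by_cases hab : stabilizer E a = stabilizer E b
    · exact ⟨c (stabilizer E a), hσ a, by rw [hσ b, hab]⟩
    · obtain ⟨β, hβ, α, hα, hβα⟩ := CODE_aux_prod p (stabilizer E a) (stabilizer E b) (hN a)
        (hidx a) (hidx b) hab ((c (stabilizer E b))⁻¹ * c (stabilizer E a))
      -- c_A α⁻¹ = c_B β
      have hkey : c (stabilizer E a) * α⁻¹ = c (stabilizer E b) * β := by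
        have h1 : c (stabilizer E a) = c (stabilizer E b) * (β * α) := by
          rw [← hβα]; group
        rw [h1]; group
      refine ⟨c (stabilizer E a) * α⁻¹, ?_, ?_⟩
      · rw [hσ a, mul_smul]
        have : α⁻¹ • a = a := (stabilizer E a).inv_mem hα
        rw [this]
      · rw [hkey, hσ b, mul_smul]
        have : β • b = b := hβ
        rw [this]
  · intro x hx
    exact hc x (show c (stabilizer E x) • x = x from hx)
  · intro x
    rw [hpow p x]
    have hmem : (c (stabilizer E x)) ^ (stabilizer E x).index ∈ stabilizer E x :=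
      @Subgroup.pow_index_mem E _ (stabilizer E x) (hN x) _
    rw [hidx x] at hmem
    exact hmem

end Cfsg.Agent.S3557P
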