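import Cfsg.Agent.Helper11.S3818A4core

/-! # S3818 (Flavell, Theorem A), row A4 without A3: field or system of imprimitivity -/

set_option autoImplicit false

namespace Cfsg.Agent.S3818P

open Module

universe u v w

/-- a commutative algebra acting faithfully on an irreducible module and normalised by `G` is a field, or there is a
system of imprimitivity indexed by `G ⧸ H` with at least two blocks. -/
theorem A4_aux_core {G : Type u} [Group G] [Finite G] {k : Type v} [Field k] {V : Type w} [AddCommGroup V] [Module k V]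
    [FiniteDimensional k V] (ρ : Representation k G V) [ρ.IsIrreducible]
    {R : Type*} [CommRing R] [Algebra k R] (φ : R →ₐ[k] Module.End k V) (hφ : Function.Injective φ)
    (hnorm : ∀ (g : G) (r : R), ∃ r', A4_aux_Cj φ ρ g r r') :
    IsField R ∨ ∃ (H : Subgroup G) (S : G ⧸ H → Submodule k V), 2 ≤ Nat.card (G ⧸ H) ∧ iSupIndep S ∧
      ⨆ i, S i = ⊤ ∧ ∀ g i, (S i).map (ρ g) = S (g • i) := by
  have hV : Nontrivial V := Fld_aux_nontrivial ρ
  obtain ⟨𝔪₀, hmax, hne⟩ := A4_aux_exists_max φ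
  set S₀ := A4_aux_Vof φ 𝔪₀ with hS₀
  let H : Subgroup G :=
    { carrier := {g | S₀.map (ρ g) = S₀}
      one_mem' := A4_aux_map_one ρ S₀
      mul_mem' := fun {a b} ha hb => by
        have ha' : S₀.map (ρ a) = S₀ := ha
        have hb' : S₀.map (ρ b) = S₀ := hb
        show S₀.map (ρ (a * b)) = S₀
        rw [← A4_aux_map_mul, hb', ha']
      inv_mem' := fun {a} ha => by
        have ha' : S₀.map (ρ a) = S₀ := ha
        show S₀.map (ρ a⁻¹) = S₀
        have : (S₀.map (ρ a)).map (ρ a⁻¹) = S₀ := by rw [A4_aux_map_mul, inv_mul_cancel, A4_aux_map_one]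
        rwa [ha'] at this }
  have hH : ∀ g, g ∈ H ↔ S₀.map (ρ g) = S₀ := fun g => Iff.rfl
  let S : G ⧸ H → Submodule k V := fun i => Quotient.liftOn' i (fun g => S₀.map (ρ g)) (by
      intro a b hab
      rw [QuotientGroup.leftRel_apply] at hab
      have h1 := (hH _).mp hab
      show S₀.map (ρ a) = S₀.map (ρ b)
      calc S₀.map (ρ a) = (S₀.map (ρ (a⁻¹ * b))).map (ρ a) := by rw [h1]
        _ = S₀.map (ρ b) := by rw [A4_aux_map_mul, mul_inv_cancel_left])
  have hSmk : ∀ g : G, S (g : G ⧸ H) = S₀.map (ρ g) := fun g => rfl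
  have hSact : ∀ g i, (S i).map (ρ g) = S (g • i) := by
    intro g i
    induction i using QuotientGroup.induction_on with
    | H h =>
      rw [hSmk, A4_aux_map_mul, MulAction.Quotient.smul_mk, hSmk, smul_eq_mul]
  have hSinj : Function.Injective S := by
    intro i j hij
    induction i using QuotientGroup.induction_on with
    | H a =>
      induction j using QuotientGroup.induction_on with
      | H b =>
        rw [hSmk, hSmk] at hij
        rw [QuotientGroup.eq, hH]
        calc S₀.map (ρ (a⁻¹ * b)) = (S₀.map (ρ b)).map (ρ a⁻¹) := (A4_aux_map_mul ρ a⁻¹ b S₀).symm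
          _ = (S₀.map (ρ a)).map (ρ a⁻¹) := by rw [hij]
          _ = S₀ := by rw [A4_aux_map_mul, inv_mul_cancel, A4_aux_map_one]
  let 𝔪 : G ⧸ H → Ideal R := fun i => A4_aux_Ann φ (S i)
  have h𝔪 : ∀ i, (𝔪 i).IsMaximal ∧ A4_aux_Vof φ (𝔪 i) = S i := by
    intro i
    induction i using QuotientGroup.induction_on with
    | H g => exact A4_aux_conj_max hφ hnorm hmax hne g
  have h𝔪inj : Function.Injective 𝔪 := fun i j hij => hSinj (by rw [← (h𝔪 i).2, ← (h𝔪 j).2, hij])
  have hind : iSupIndep S := by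
    have := A4_aux_indep φ 𝔪 (fun i => (h𝔪 i).1) h𝔪inj
    have heq : (fun i => A4_aux_Vof φ (𝔪 i)) = S := funext fun i => (h𝔪 i).2
    rwa [heq] at this
  have htop : ⨆ i, S i = ⊤ := by
    rcases Fld_aux_invariant ρ (⨆ i, S i) (fun g v hv => by
        have h1 : ρ g v ∈ (⨆ i, S i).map (ρ g) := Submodule.mem_map_of_mem hv
        rw [Submodule.map_iSup] at h1
        refine (iSup_le fun i => ?_ : (⨆ i, (S i).map (ρ g)) ≤ ⨆ i, S i) h1
        rw [hSact]
        exact le_iSup S (g • i)) with h | h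
    · exfalso
      apply hne
      have : S ((1 : G) : G ⧸ H) ≤ ⨆ i, S i := le_iSup S _
      rw [h, hSmk, A4_aux_map_one] at this
      exact eq_bot_iff.mpr this
    · exact h
  by_cases hcard : 2 ≤ Nat.card (G ⧸ H)
  · right; exact ⟨H, S, hcard, hind, htop, hSact⟩
  · left
    have hsub : Subsingleton (G ⧸ H) := by
      have hpos : 0 < Nat.card (G ⧸ H) := Nat.card_pos
      have h1 : Nat.card (G ⧸ H) = 1 := by omega
      exact (Nat.card_eq_one_iff_unique.mp h1).1
    have hS0top : S₀ = ⊤ := by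
      rw [← htop]
      apply le_antisymm
      · have := le_iSup S ((1 : G) : G ⧸ H)
        rwa [hSmk, A4_aux_map_one] at this
      · refine iSup_le fun i => ?_
        rw [Subsingleton.elim i ((1 : G) : G ⧸ H), hSmk, A4_aux_map_one]
    have h𝔪0 : 𝔪₀ = ⊥ := by
      rw [eq_bot_iff]
      intro m hm
      rw [Ideal.mem_bot]
      apply hφ
      rw [map_zero]
      ext v
      have hv : v ∈ S₀ := by rw [hS0top]; trivial
      exact (A4_aux_mem_Vof φ).mp hv m hm
    have hR : Nontrivial R := by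
      refine ⟨⟨0, 1, fun h => ?_⟩⟩
      have h1 := congrArg φ h
      rw [map_zero, map_one] at h1
      exact zero_ne_one h1
    rw [Ring.isField_iff_maximal_bot, ← h𝔪0]
    exact hmax

open scoped IsMulCommutative in
/-- A4 without A3: the span of an abelian normal subgroup is a field, or `V` is imprimitive. -/
theorem A4_aux_main {G : Type u} [Group G] [Finite G] {k : Type v} [Field k] {V : Type w} [AddCommGroup V] [Module k V]
    [FiniteDimensional k V] (ρ : Representation k G V) [ρ.IsIrreducible] (N : Subgroup G) [N.Normal]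
    (hN : ∀ a ∈ N, ∀ b ∈ N, a * b = b * a) :
    IsField ↥(Algebra.adjoin k (ρ '' (N : Set G))) ∨
      ∃ (H : Subgroup G) (S : G ⧸ H → Submodule k V), 2 ≤ Nat.card (G ⧸ H) ∧ iSupIndep S ∧
        ⨆ i, S i = ⊤ ∧ ∀ g i, (S i).map (ρ g) = S (g • i) := by
  have hcommS : ∀ a ∈ ρ '' (N : Set G), ∀ b ∈ ρ '' (N : Set G), a * b = b * a := by
    rintro _ ⟨a, ha, rfl⟩ _ ⟨b, hb, rfl⟩
    rw [← map_mul, ← map_mul, hN a ha b hb]
  have hmc : IsMulCommutative ↥(Algebra.adjoin k (ρ '' (N : Set G))) := Algebra.isMulCommutative_adjoin k hcommS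
  let cR : CommRing ↥(Algebra.adjoin k (ρ '' (N : Set G))) := inferInstance
  -- `B` is normalised by `G`
  have hconj : ∀ (g : G) (b : Module.End k V), b ∈ Algebra.adjoin k (ρ '' (N : Set G)) →
      ρ g * b * ρ g⁻¹ ∈ Algebra.adjoin k (ρ '' (N : Set G)) := by
    intro g b hb
    have hgg : ρ g * ρ g⁻¹ = 1 := by rw [← map_mul, mul_inv_cancel, map_one]
    induction hb using Algebra.adjoin_induction with
    | mem x hx =>
      obtain ⟨n, hn, rfl⟩ := hx
      refine Algebra.subset_adjoin ⟨g * n * g⁻¹, ‹N.Normal›.conj_mem n hn g, ?_⟩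
      rw [map_mul, map_mul]
    | algebraMap r =>
      rw [← Algebra.commutes r (ρ g), mul_assoc, hgg, mul_one]
      exact Subalgebra.algebraMap_mem _ r
    | add x y _ _ hx hy =>
      rw [mul_add, add_mul]
      exact Subalgebra.add_mem _ hx hy
    | mul x y _ _ hx hy =>
      have : ρ g * (x * y) * ρ g⁻¹ = (ρ g * x * ρ g⁻¹) * (ρ g * y * ρ g⁻¹) := by
        have hgg' : ρ g⁻¹ * ρ g = 1 := by rw [← map_mul, inv_mul_cancel, map_one]
        calc ρ g * (x * y) * ρ g⁻¹ = ρ g * x * 1 * y * ρ g⁻¹ := by simp only [mul_one, mul_assoc]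
          _ = (ρ g * x * ρ g⁻¹) * (ρ g * y * ρ g⁻¹) := by rw [← hgg']; simp only [mul_assoc]
      rw [this]
      exact Subalgebra.mul_mem _ hx hy
  have hnorm : ∀ (g : G) (r : ↥(Algebra.adjoin k (ρ '' (N : Set G)))),
      ∃ r', A4_aux_Cj (Algebra.adjoin k (ρ '' (N : Set G))).val ρ g r r' := by
    intro g r
    refine ⟨⟨ρ g * r * ρ g⁻¹, hconj g r r.2⟩, fun v => ?_⟩
    show (ρ g * (r : Module.End k V) * ρ g⁻¹) (ρ g v) = ρ g ((r : Module.End k V) v)
    rw [Module.End.mul_apply, Module.End.mul_apply, A4_aux_rho_inv_apply]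
  rcases A4_aux_core ρ (Algebra.adjoin k (ρ '' (N : Set G))).val Subtype.val_injective hnorm with h | h
  · left; exact h
  · right; exact h

end Cfsg.Agent.S3818P
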