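import Cfsg.Agent.Helper14.S3818A3fin
import Cfsg.Agent.Helper11.S3818A4main

/-! # S3818 (Flavell, Theorem A), row A4: abelian normal subgroup: bound, or its span is a field -/

set_option autoImplicit false

namespace Cfsg.Agent.S3818P

open Module

universe u v w

/-- A4 (abelian normal subgroup: imprimitive or its span is a field). -/
theorem A4_abelian_normal {G : Type*} [Group G] [Finite G] [Group.IsSolvable G] {p : ℕ}
    (hp : p.Prime) (hp3 : 3 < p) (x : G) (hx : x ^ p = 1)
    (hgen : Subgroup.normalClosure ({x} : Set G) = ⊤)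
    {k : Type*} [Field k] {V : Type*} [AddCommGroup V] [Module k V] [FiniteDimensional k V]
    (ρ : Representation k G V) [ρ.IsIrreducible] (N : Subgroup G) [N.Normal]
    (hN : ∀ a ∈ N, ∀ b ∈ N, a * b = b * a) :
    Bound ρ x ∨ IsField ↥(Algebra.adjoin k (ρ '' (N : Set G))) := by
  classical
  rcases A4_aux_main ρ N hN with h | ⟨H, S, hcard, hind, htop, hS⟩
  · right; exact h
  · left
    have hV : Nontrivial V := Fld_aux_nontrivial ρ
    have : Fintype (G ⧸ H) := Fintype.ofFinite _
    refine A3_imprimitive hp hp3 x hx hgen ρ (ι := G ⧸ H) ?_ S hind htop hS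
    rw [← Nat.card_eq_fintype_card]
    exact hcard

end Cfsg.Agent.S3818P
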