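import Cfsg.Agent.Helper11.S3818Fld

/-! # S3818 (Flavell, Theorem A), row A7: the centre acts through a field `F`; replace `k` by `F` -/

set_option autoImplicit false

namespace Cfsg.Agent.S3818P

open Module

universe u v w

/-- abstract version: a field `F` embedded in `End_k(V)`, commuting with `ρ`, containing `ρ(Z(G))` -/
theorem A7_aux_abstract {G : Type u} [Group G] {k : Type v} [Field k] {V : Type w}
    [AddCommGroup V] [Module k V] (ρ : Representation k G V) [ρ.IsIrreducible]
    (F : Type w) [Field F] [Algebra k F] (ι : F →ₐ[k] Module.End k V)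
    (hcomm : ∀ a g, ι a * ρ g = ρ g * ι a) (hz : ∀ z ∈ Subgroup.center G, ∃ c : F, ρ z = ι c) :
    ∃ (_ : Module F V) (_ : IsScalarTower k F V) (ρF : Representation F G V),
      ρF.IsIrreducible ∧ (∀ g v, ρF g v = ρ g v) ∧
        (∀ z ∈ Subgroup.center G, ∃ c : F, ρF z = c • 1) := by
  let mF : Module F V := Module.compHom V (ι : F →+* Module.End k V)
  have hsmul : ∀ (a : F) (v : V), a • v = ι a v := fun a v => rfl
  have hst : IsScalarTower k F V := ⟨fun c a v => by
    rw [hsmul, hsmul, map_smul, LinearMap.smul_apply]⟩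
  let ρF : Representation F G V :=
    { toFun := fun g =>
        { toFun := fun v => ρ g v
          map_add' := fun v w => map_add _ v w
          map_smul' := fun a v => by
            show ρ g (ι a v) = ι a (ρ g v)
            exact (LinearMap.congr_fun (hcomm a g) v).symm }
      map_one' := by
        ext v
        show ρ 1 v = v
        rw [map_one, Module.End.one_apply]
      map_mul' := fun g h => by
        ext v
        show ρ (g * h) v = ρ g (ρ h v)
        rw [map_mul, Module.End.mul_apply] }
  have hρF : ∀ g v, ρF g v = ρ g v := fun g v => rfl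
  refine ⟨mF, hst, ρF, ?_, hρF, ?_⟩
  · rw [Fld_aux_irr_iff]
    refine ⟨Fld_aux_nontrivial ρ, fun W hW => ?_⟩
    rcases Fld_aux_invariant ρ (W.restrictScalars k) (fun g v hv => hW g v hv) with h | h
    · left; exact (Submodule.restrictScalars_eq_bot_iff k F V).mp h
    · right; exact (Submodule.restrictScalars_eq_top_iff k F V).mp h
  · intro z hzc
    obtain ⟨c, hc⟩ := hz z hzc
    refine ⟨c, ?_⟩
    ext v
    rw [hρF, hc, LinearMap.smul_apply, Module.End.one_apply, hsmul]

/-- A7 (the centre acts through a field `F`; replace `k` by `F`). -/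
theorem A7_scalars {G : Type u} [Group G] [Finite G] {k : Type v} [Field k] {V : Type w}
    [AddCommGroup V] [Module k V] [FiniteDimensional k V] (ρ : Representation k G V)
    [ρ.IsIrreducible] :
    ∃ (F : Type w) (_ : Field F) (_ : Algebra k F) (_ : Module F V) (_ : IsScalarTower k F V)
      (_ : FiniteDimensional k F) (ρF : Representation F G V),
      ρF.IsIrreducible ∧ (∀ g v, ρF g v = ρ g v) ∧
        (∀ z ∈ Subgroup.center G, ∃ c : F, ρF z = c • 1) := by
  have hV : Nontrivial V := Fld_aux_nontrivial ρ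
  let B : Subalgebra k (Module.End k V) := Algebra.adjoin k (ρ '' (Subgroup.center G : Set G))
  -- elements of `B` commute with `ρ g`
  have hBρ : ∀ b ∈ B, ∀ g, b * ρ g = ρ g * b := by
    intro b hb g
    refine (Algebra.commute_of_mem_adjoin_of_forall_mem_commute hb ?_).symm
    rintro _ ⟨z, hz, rfl⟩
    show ρ g * ρ z = ρ z * ρ g
    rw [← map_mul, ← map_mul, (Subgroup.mem_center_iff.mp hz) g]
  -- `B` is commutative
  have hBcomm : ∀ a ∈ B, ∀ b ∈ B, a * b = b * a := by
    intro a ha b hb
    refine Algebra.commute_of_mem_adjoin_of_forall_mem_commute hb ?_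
    rintro _ ⟨z, hz, rfl⟩
    exact (hBρ a ha z)
  have hBinj : ∀ b ∈ B, b ≠ 0 → Function.Injective b := fun b hb h0 =>
    Fld_aux_schur ρ b (hBρ b hb) h0
  have hF : IsField ↥B := Fld_aux_isField B hBcomm hBinj
  let fF : Field ↥B := hF.toField
  have hfd : FiniteDimensional k ↥B :=
    FiniteDimensional.of_injective B.val.toLinearMap Subtype.val_injective
  obtain ⟨m, t, ρF, h1, h2, h3⟩ := A7_aux_abstract ρ ↥B B.val (fun a g => hBρ a a.2 g)
    (fun z hz => ⟨⟨ρ z, Algebra.subset_adjoin ⟨z, hz, rfl⟩⟩, rfl⟩)
  exact ⟨↥B, fF, inferInstance, m, t, hfd, ρF, h1, h2, h3⟩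

end Cfsg.Agent.S3818P
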