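import Mathlib
import Cfsg.Agent.Helper21.BswGen5

/-!
Brauer–Suzuki–Wall, abstract form: the exotic shape of the coefficient vectors (five non-principal
characters of `K`, i.e. `k = 6`) is impossible (piece EXO of helper21's plan).
-/

set_option autoImplicit false
set_option linter.unusedSectionVars false
set_option linter.unusedVariables false

namespace Cfsg.Agent.Helper11.BswExo

open Cfsg Cfsg.Agent.Helper24 Cfsg.Agent.Helper8 Cfsg.Agent.Helper8.DihVec Cfsg.Agent.Helper21.Bsw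

universe u

variable {G : Type u} [Group G] [Fintype G] [Fintype (IrrCharacter G)]
  [DecidableEq (IrrCharacter G)] {t s : G} {K : Subgroup G} [Fintype K]
  [Fintype (IrrCharacter K)] [DecidableEq (IrrCharacter K)]

/-- sum against a three-term coefficient vector -/
theorem sum_mul_three {l : LK K} {ε : ℤ} {Y Λ : IrrCharacter G}
    (hc : ∀ χ, cL l χ = ind (trivIrr G) 1 χ + ind Y ε χ - ind Λ ε χ) (F : IrrCharacter G → ℂ) :
    ∑ χ, F χ * (cL l χ : ℂ) = F (trivIrr G) + (ε : ℂ) * F Y - (ε : ℂ) * F Λ := by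
  have : ∀ χ, F χ * (cL l χ : ℂ) = F χ * ((ind (trivIrr G) 1 χ : ℤ) : ℂ)
      + F χ * ((ind Y ε χ : ℤ) : ℂ) - F χ * ((ind Λ ε χ : ℤ) : ℂ) := by
    intro χ
    rw [hc χ]; push_cast; ring
  simp_rw [this]
  rw [Finset.sum_sub_distrib, Finset.sum_add_distrib, sum_mul_indC, sum_mul_indC, sum_mul_indC]
  push_cast; ring

/-- the degree relation of a three-term coefficient vector -/
theorem deg_three (h : Hyp t s K) {l : LK K} {ε : ℤ} (hε : ε = 1 ∨ ε = -1)
    {Y Λ : IrrCharacter G}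
    (hc : ∀ χ, cL l χ = ind (trivIrr G) 1 χ + ind Y ε χ - ind Λ ε χ) :
    (irrDeg Λ : ℤ) = irrDeg Y + ε := by
  have h1 := h.cf_deg (G := G) l.1
  have h2 : ((∑ χ : IrrCharacter G, cf K l.1 χ * (irrDeg χ : ℤ) : ℤ) : ℂ)
      = ∑ χ : IrrCharacter G, (irrDeg χ : ℂ) * (cL l χ : ℂ) := by
    push_cast
    refine Finset.sum_congr rfl fun χ _ => ?_
    unfold cL; ring
  rw [h1, sum_mul_three hc, irrDeg_trivIrr'] at h2
  have h3 : (0 : ℤ) = 1 + ε * irrDeg Y - ε * irrDeg Λ := by exact_mod_cast h2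
  have h4 : ε * ε = 1 := by rcases hε with h1 | h1 <;> rw [h1] <;> norm_num
  linear_combination ε * h3 - (irrDeg Λ - irrDeg Y : ℤ) * h4

/-- the structure equation of a three-term coefficient vector -/
theorem struct_three (h : Hyp t s K) {l : LK K} {ε : ℤ} {Y Λ : IrrCharacter G}
    (hc : ∀ χ, cL l χ = ind (trivIrr G) 1 χ + ind Y ε χ - ind Λ ε χ) :
    (1 : ℂ) + (ε : ℂ) * ((Y : G → ℂ) t ^ 2 / (irrDeg Y : ℂ))
        - (ε : ℂ) * ((Λ : G → ℂ) t ^ 2 / (irrDeg Λ : ℂ))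
      = 4 * (Nat.card K : ℂ) ^ 3 / (Nat.card G : ℂ) := by
  have h1 := h.struct_eq (G := G) l.2
  have h2 := sum_mul_three hc (fun χ => (χ : G → ℂ) t ^ 2 / (χ : G → ℂ) 1)
  have h3 : ∑ χ : IrrCharacter G, (χ : G → ℂ) t ^ 2 / (χ : G → ℂ) 1 * (cf K l.1 χ : ℂ)
      = ∑ χ : IrrCharacter G, (fun χ : IrrCharacter G => (χ : G → ℂ) t ^ 2 / (χ : G → ℂ) 1) χ
          * (cL l χ : ℂ) := rfl
  rw [h3, h2] at h1
  simp only [trivIrr_apply, irrDeg_spec] at h1
  rw [← h1]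
  norm_num

theorem cL_barL (h : Hyp t s K) (l : LK K) (χ : IrrCharacter G) : cL (barL l) χ = cL l χ :=
  h.cf_star l.1 χ

theorem val_barL (h : Hyp t s K) (l : LK K) :
    ((barL l).1 : K → ℂ) h.tK = (l.1 : K → ℂ) h.tK := by
  have hb : ((barL l).1 : K → ℂ) h.tK = (starRingEnd ℂ) ((l.1 : K → ℂ) h.tK) := rfl
  rw [hb, h.irrK_t_conj]

/-- the sum over the five non-principal characters -/
theorem sum_LK_five {l0 l1 l2 : LK K} (hfix : ∀ l : LK K, barL l = l ↔ l = l0)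
    (hl10 : l1 ≠ l0) (hl20 : l2 ≠ l0) (hl21 : l2 ≠ l1) (hl2b : l2 ≠ barL l1)
    (hall : ∀ l : LK K, l = l0 ∨ l = l1 ∨ l = barL l1 ∨ l = l2 ∨ l = barL l2) (F : LK K → ℂ) :
    ∑ l, F l = F l0 + F l1 + F (barL l1) + F l2 + F (barL l2) := by
  have hb0 : barL l0 = l0 := (hfix l0).mpr rfl
  have hb1 : barL l1 ≠ l1 := fun hh => hl10 ((hfix l1).mp hh)
  have hb2 : barL l2 ≠ l2 := fun hh => hl20 ((hfix l2).mp hh)
  have hb10 : barL l1 ≠ l0 := by
    intro hh
    apply hl10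
    rw [← barL_barL l1, hh, hb0]
  have hb20 : barL l2 ≠ l0 := by
    intro hh
    apply hl20
    rw [← barL_barL l2, hh, hb0]
  have hb21 : barL l2 ≠ l1 := by
    intro hh
    apply hl2b
    rw [← hh, barL_barL]
  have hb2b1 : barL l2 ≠ barL l1 := by
    intro hh
    apply hl21
    rw [← barL_barL l2, hh, barL_barL]
  have huniv : (Finset.univ : Finset (LK K)) = {l0, l1, barL l1, l2, barL l2} := by
    ext l
    simp only [Finset.mem_univ, Finset.mem_insert, Finset.mem_singleton, true_iff]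
    exact hall l
  rw [huniv, Finset.sum_insert, Finset.sum_insert, Finset.sum_insert, Finset.sum_insert,
    Finset.sum_singleton]
  · ring
  · simp only [Finset.mem_singleton]
    exact fun hh => hb2 hh.symm
  · simp only [Finset.mem_insert, Finset.mem_singleton, not_or]
    exact ⟨fun hh => hl2b hh.symm, hb2b1.symm⟩
  · simp only [Finset.mem_insert, Finset.mem_singleton, not_or]
    exact ⟨hb1.symm, hl21.symm, hb21.symm⟩
  · simp only [Finset.mem_insert, Finset.mem_singleton, not_or]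
    exact ⟨hl10.symm, hb10.symm, hl20.symm, hb20.symm⟩

theorem not_exotic (h : Hyp t s K) (l0 : LK K) (hfix : ∀ l : LK K, barL l = l ↔ l = l0) :
    ¬ Shape.Exotic (cL (G := G) (K := K)) (trivIrr G) barL l0 := by
  rintro ⟨ε, Y, l1, l2, Λ1, Λ2, E, e, hε, he, hl10, hl20, hl21, hl2b, hall, hY0, hΛ10, hΛ20, hE0,
    hΛ1Y, hΛ2Y, hEY, hΛ12, hEΛ1, hEΛ2, hc1, hc2, hc0⟩
  -- the values at the involution
  set a0 : ℂ := (l0.1 : K → ℂ) h.tK with ha0
  set a1 : ℂ := (l1.1 : K → ℂ) h.tK with ha1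
  set a2 : ℂ := (l2.1 : K → ℂ) h.tK with ha2
  have hsum := h.sum_LK h.tK_ne_one
  rw [sum_LK_five hfix hl10 hl20 hl21 hl2b hall (fun l => (l.1 : K → ℂ) h.tK)] at hsum
  simp only [val_barL h] at hsum
  have hεC : (ε : ℂ) * ε = 1 := by
    rcases hε with h1 | h1 <;> rw [h1] <;> norm_num
  -- a0 = -1, a1 + a2 = 0
  have ha0' : a0 = -1 ∧ a1 + a2 = 0 := by
    rcases h.irrK_t l0.1 with h0 | h0 <;> rcases h.irrK_t l1.1 with h1 | h1 <;>
      rcases h.irrK_t l2.1 with h2 | h2 <;>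
      simp only [← ha0, ← ha1, ← ha2] at h0 h1 h2 hsum <;> rw [h0, h1, h2] at hsum ⊢ <;>
      first
        | (exfalso; norm_num at hsum; done)
        | (constructor <;> norm_num)
  obtain ⟨h0, h12⟩ := ha0'
  -- the values of Y, Λ1, Λ2 at t
  have hYt : (Y : G → ℂ) t = 0 := by
    have := h.irr_apply_K' Y h.tK_ne_one
    rw [h.coe_tK, sum_LK_five hfix hl10 hl20 hl21 hl2b hall] at this
    simp only [val_barL h, cL_barL h] at this
    rw [hc0, hc1, hc2, ind_ne _ hY0, ind_ne _ hΛ1Y.symm, ind_ne _ hΛ2Y.symm, ind_ne _ hEY.symm,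
      ind_self] at this
    rw [this]
    push_cast
    linear_combination (-2 * (ε : ℂ)) * h12
  have hΛ1t : (Λ1 : G → ℂ) t = (ε : ℂ) * (2 * a1 - 1) := by
    have := h.irr_apply_K' Λ1 h.tK_ne_one
    rw [h.coe_tK, sum_LK_five hfix hl10 hl20 hl21 hl2b hall] at this
    simp only [val_barL h, cL_barL h] at this
    rw [hc0, hc1, hc2, ind_ne _ hΛ10, ind_ne _ hΛ1Y, ind_ne _ hΛ12, ind_ne _ hEΛ1.symm,
      ind_self] at this
    rw [this]
    push_cast
    linear_combination (ε : ℂ) * h0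
  have hΛ2t : (Λ2 : G → ℂ) t = (ε : ℂ) * (2 * a2 - 1) := by
    have := h.irr_apply_K' Λ2 h.tK_ne_one
    rw [h.coe_tK, sum_LK_five hfix hl10 hl20 hl21 hl2b hall] at this
    simp only [val_barL h, cL_barL h] at this
    rw [hc0, hc1, hc2, ind_ne _ hΛ20, ind_ne _ hΛ2Y, ind_ne _ hΛ12.symm, ind_ne _ hEΛ2.symm,
      ind_self] at this
    rw [this]
    push_cast
    linear_combination (ε : ℂ) * h0
  -- the degrees
  have hd1 := deg_three h hε hc1
  have hd2 := deg_three h hε hc2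
  have hd12 : (irrDeg Λ2 : ℂ) = (irrDeg Λ1 : ℂ) := by
    have : (irrDeg Λ2 : ℤ) = irrDeg Λ1 := by rw [hd1, hd2]
    exact_mod_cast this
  have hdpos : (irrDeg Λ1 : ℂ) ≠ 0 := by
    exact_mod_cast (irrDeg_pos Λ1).ne'
  -- the structure equations
  have hs1 := struct_three h hc1
  have hs2 := struct_three h hc2
  rw [hd12] at hs2
  have hkey : (Λ1 : G → ℂ) t ^ 2 = (Λ2 : G → ℂ) t ^ 2 := by
    have h5 : (ε : ℂ) * ((Λ1 : G → ℂ) t ^ 2 / (irrDeg Λ1 : ℂ))
        = (ε : ℂ) * ((Λ2 : G → ℂ) t ^ 2 / (irrDeg Λ1 : ℂ)) := by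
      linear_combination hs2 - hs1
    have h6 : (Λ1 : G → ℂ) t ^ 2 / (irrDeg Λ1 : ℂ) = (Λ2 : G → ℂ) t ^ 2 / (irrDeg Λ1 : ℂ) := by
      linear_combination (ε : ℂ) * h5 - ((Λ1 : G → ℂ) t ^ 2 / (irrDeg Λ1 : ℂ)
        - (Λ2 : G → ℂ) t ^ 2 / (irrDeg Λ1 : ℂ)) * hεC
    field_simp at h6
    exact h6
  rw [hΛ1t, hΛ2t] at hkey
  -- (2 a1 - 1)^2 = (2 a2 - 1)^2 with a2 = - a1, a1 = ±1
  have ha2' : a2 = -a1 := by linear_combination h12
  rw [ha2'] at hkey
  have h7 : a1 = 0 := by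
    have h8 : (ε : ℂ) ^ 2 = 1 := by rw [pow_two]; exact hεC
    have h9 : 8 * a1 = 0 := by
      linear_combination (-1 : ℂ) * hkey + (-8 * a1) * h8
    simpa using h9
  rcases h.irrK_t l1.1 with h1 | h1 <;> simp only [← ha1] at h1 <;> rw [h1] at h7 <;>
    norm_num at h7

end Cfsg.Agent.Helper11.BswExo
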