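import Mathlib

set_option autoImplicit false

/-! Board `s4394pieces`, piece NORM: for a `p'`-group `R₁` of automorphisms of a finite abelian
`p`-group `V`, `[V, R₁] ∩ C_V(R₁) = 1` (norm map). -/

namespace Cfsg.Agent.S4394P

/-- the norm map of a finite group of automorphisms of a commutative group -/
noncomputable def NORM_aux_nu {V : Type*} [CommGroup V] [Finite V] (R₁ : Subgroup (MulAut V)) :
    V →* V where
  toFun := fun v => (@Finset.univ R₁ (Fintype.ofFinite R₁)).prod (fun r => (r : MulAut V) v)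
  map_one' := by simp
  map_mul' := fun a b => by simp [Finset.prod_mul_distrib]

theorem NORM_aux_nu_fix {V : Type*} [CommGroup V] [Finite V] (R₁ : Subgroup (MulAut V)) (w : V)
    (hfix : ∀ r ∈ R₁, r w = w) : NORM_aux_nu R₁ w = w ^ Nat.card R₁ := by
  show (@Finset.univ R₁ (Fintype.ofFinite R₁)).prod (fun r => (r : MulAut V) w) = _
  rw [Finset.prod_congr rfl (fun (r : R₁) _ => hfix (r : MulAut V) r.2), Finset.prod_const,
    @Finset.card_univ _ (Fintype.ofFinite R₁), @Nat.card_eq_fintype_card _ (Fintype.ofFinite R₁)]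

theorem NORM_aux_nu_comm {V : Type*} [CommGroup V] [Finite V] (R₁ : Subgroup (MulAut V))
    (r₀ : MulAut V) (hr₀ : r₀ ∈ R₁) (v : V) : NORM_aux_nu R₁ (r₀ v * v⁻¹) = 1 := by
  rw [map_mul, map_inv, mul_inv_eq_one]
  show (@Finset.univ R₁ (Fintype.ofFinite R₁)).prod (fun r => (r : MulAut V) (r₀ v))
    = (@Finset.univ R₁ (Fintype.ofFinite R₁)).prod (fun r => (r : MulAut V) v)
  exact @Fintype.prod_equiv _ _ _ (Fintype.ofFinite R₁) (Fintype.ofFinite R₁) _
    (Equiv.mulRight (⟨r₀, hr₀⟩ : R₁)) _ _ (fun r => rfl)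

theorem NORM {p : ℕ} [Fact p.Prime] {V : Type*} [Group V] [Finite V]
    (hVc : ∀ a b : V, a * b = b * a) (hVp : IsPGroup p V) (R₁ : Subgroup (MulAut V))
    (hR₁ : ¬ p ∣ Nat.card R₁) (w : V)
    (hw : w ∈ Subgroup.closure {x : V | ∃ r ∈ R₁, ∃ v : V, x = r v * v⁻¹})
    (hfix : ∀ r ∈ R₁, r w = w) : w = 1 := by
  let _ : CommGroup V := { (inferInstance : Group V) with mul_comm := hVc }
  have hker : Subgroup.closure {x : V | ∃ r ∈ R₁, ∃ v : V, x = r v * v⁻¹} ≤ (NORM_aux_nu R₁).ker := by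
    rw [Subgroup.closure_le]
    rintro x ⟨r, hr, v, rfl⟩
    exact NORM_aux_nu_comm R₁ r hr v
  have h1 : NORM_aux_nu R₁ w = 1 := hker hw
  rw [NORM_aux_nu_fix R₁ w hfix] at h1
  obtain ⟨k, hk⟩ := hVp w
  have hdvd : orderOf w ∣ Nat.card R₁ := orderOf_dvd_of_pow_eq_one h1
  have hdvd2 : orderOf w ∣ p ^ k := orderOf_dvd_of_pow_eq_one hk
  obtain ⟨j, _, hj⟩ := (Nat.dvd_prime_pow (Fact.out : p.Prime)).mp hdvd2
  rcases Nat.eq_zero_or_pos j with rfl | hjpos
  · rw [pow_zero] at hj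
    exact orderOf_eq_one_iff.mp hj
  · exfalso
    apply hR₁
    refine dvd_trans ?_ hdvd
    rw [hj]
    exact dvd_pow_self p (Nat.pos_iff_ne_zero.mp hjpos)

end Cfsg.Agent.S4394P
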