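import Cfsg.Agent.Helper27.S5634BDefs

set_option autoImplicit false
set_option linter.unusedSectionVars false
set_option linter.unusedVariables false

/-! # S5634, half `m ≥ 2`, piece B_HMEM: elements of the stabiliser -/

namespace Cfsg.Agent.S5634P

open Matrix Cfsg.Agent.Helper28.SLMax
open scoped MatrixGroups

variable {F : Type*} [Field F] {n t m : ℕ} {D : Fin t → Submodule F (Fin n → F)}

namespace HMEM

theorem toLin_injective (g : GL (Fin n) F) :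
    Function.Injective (Matrix.toLin' (g : Matrix (Fin n) (Fin n) F)) := by
  intro x y hxy
  rw [Matrix.toLin'_apply, Matrix.toLin'_apply] at hxy
  have := congrArg (fun z => ((g⁻¹ : GL (Fin n) F) : Matrix (Fin n) (Fin n) F) *ᵥ z) hxy
  simpa only [Matrix.mulVec_mulVec, ← Units.val_mul, inv_mul_cancel, Units.val_one,
    Matrix.one_mulVec] using this

/-- a matrix mapping `D i` into `D j` maps it onto `D j` (equal finranks) -/
theorem map_eq (hD : Cfsg.Geo.IsMDecomposition m D) (g : GL (Fin n) F) {i j : Fin t}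
    (h : ∀ x ∈ D i, (g : Matrix (Fin n) (Fin n) F) *ᵥ x ∈ D j) :
    (D i).map (Matrix.toLin' (g : Matrix (Fin n) (Fin n) F)) = D j := by
  have hle : (D i).map (Matrix.toLin' (g : Matrix (Fin n) (Fin n) F)) ≤ D j := by
    rintro _ ⟨x, hx, rfl⟩
    rw [Matrix.toLin'_apply]
    exact h x hx
  have hfr : Module.finrank F ((D i).map (Matrix.toLin' (g : Matrix (Fin n) (Fin n) F))) =
      Module.finrank F (D j) := by
    rw [hD.finrank_eq j, ← hD.finrank_eq i]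
    exact (Submodule.equivMapOfInjective _ (toLin_injective g) (D i)).finrank_eq.symm
  exact Submodule.eq_of_le_of_finrank_eq hle hfr

theorem le_oth {b c : Fin t} (hbc : b ≠ c) : D b ≤ Oth D c := by
  unfold Oth
  exact le_iSup (fun b : {b : Fin t // b ≠ c} => D b.1) ⟨b, hbc⟩

/-- private copy of `EE.mem_SL` (piece B_EE1), so that this module does not wait for it -/
theorem EE_mem_SL' {v φ : Fin n → F} (h : φ ⬝ᵥ v = 0) :
    EE v φ ∈ Cfsg.Geo.specialLinear (Fin n) F := by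
  show EE v φ ∈ SL n F
  rw [mem_SL_iff, EE_val0 h, E_det, h, add_zero]

/-- private copy of `EE.mul_mem_SL` (piece B_EE1) -/
theorem EE_mul_mem_SL' {v φ v' φ' : Fin n → F} (h : (1 + φ ⬝ᵥ v) * (1 + φ' ⬝ᵥ v') = 1) :
    EE v φ * EE v' φ' ∈ Cfsg.Geo.specialLinear (Fin n) F := by
  have h1 : 1 + φ ⬝ᵥ v ≠ 0 := by
    intro h0
    rw [h0, zero_mul] at h
    exact zero_ne_one h
  have h2 : 1 + φ' ⬝ᵥ v' ≠ 0 := by
    intro h0
    rw [h0, mul_zero] at h
    exact zero_ne_one h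
  show EE v φ * EE v' φ' ∈ SL n F
  rw [mem_SL_iff, Units.val_mul, Matrix.det_mul, EE_val h1, EE_val h2, E_det, E_det, h]

end HMEM

/-- (the image of `D b` is inside `D (σ b)`, of the same finrank) -/
theorem HMEM.mem_stab_of_perm (hD : Cfsg.Geo.IsMDecomposition m D) (σ : Equiv.Perm (Fin t))
    (g : GL (Fin n) F) (h : ∀ b, ∀ x ∈ D b, (g : Matrix (Fin n) (Fin n) F) *ᵥ x ∈ D (σ b)) :
    g ∈ Cfsg.Geo.decompositionStabilizer D :=
  ⟨σ, fun i => HMEM.map_eq hD g (h i)⟩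

theorem HMEM.inv_maps (hD : Cfsg.Geo.IsMDecomposition m D) (σ : Equiv.Perm (Fin t))
    (g : GL (Fin n) F) (h : ∀ b, ∀ x ∈ D b, (g : Matrix (Fin n) (Fin n) F) *ᵥ x ∈ D (σ b)) :
    ∀ b, ∀ x ∈ D (σ b), ((g⁻¹ : GL (Fin n) F) : Matrix (Fin n) (Fin n) F) *ᵥ x ∈ D b := by
  intro b x hx
  rw [← HMEM.map_eq hD g (h b)] at hx
  obtain ⟨y, hy, rfl⟩ := hx
  rw [Matrix.toLin'_apply, Matrix.mulVec_mulVec, ← Units.val_mul, inv_mul_cancel, Units.val_one,
    Matrix.one_mulVec]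
  exact hy

theorem HMEM.dact_mem (hD : Cfsg.Geo.IsMDecomposition m D) (σ : Equiv.Perm (Fin t))
    (g : GL (Fin n) F) (h : ∀ b, ∀ x ∈ D b, (g : Matrix (Fin n) (Fin n) F) *ᵥ x ∈ D (σ b))
    {c : Fin t} {χ : Fin n → F} (hχ : χ ∈ Dl D c) : dact g χ ∈ Dl D (σ c) := by
  rw [mem_Dl]
  intro x hx
  unfold Oth at hx
  induction hx using Submodule.iSup_induction' with
  | mem b' y hy =>
    rw [dact_dot]
    have hb : σ (σ⁻¹ b'.1) = b'.1 := Equiv.apply_symm_apply σ b'.1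
    have hy' : y ∈ D (σ (σ⁻¹ b'.1)) := by rw [hb]; exact hy
    have h1 := HMEM.inv_maps hD σ g h (σ⁻¹ b'.1) y hy'
    have hne : σ⁻¹ b'.1 ≠ c := by
      intro hc
      apply b'.2
      rw [← hb, hc]
    exact hχ _ (HMEM.le_oth hne h1)
  | zero => exact dotProduct_zero _
  | add y z _ _ hy hz => rw [dotProduct_add, hy, hz, add_zero]

/-- block-supported rank one updates stabilise every block -/
theorem HMEM.EE_maps (hD : Cfsg.Geo.IsMDecomposition m D) {c : Fin t} {v φ : Fin n → F} (hv : v ∈ D c)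
    (hφ : φ ∈ Dl D c) : ∀ b, ∀ x ∈ D b, ((EE v φ : GL (Fin n) F) : Matrix (Fin n) (Fin n) F) *ᵥ x ∈ D b := by
  intro b x hx
  by_cases hne : 1 + φ ⬝ᵥ v ≠ 0
  · rw [EE_mulVec hne]
    by_cases hbc : b = c
    · subst hbc
      exact (D b).add_mem hx ((D b).smul_mem _ hv)
    · have : φ ⬝ᵥ x = 0 := hφ x (HMEM.le_oth hbc hx)
      rw [this, zero_smul, add_zero]
      exact hx
  · have : EE v φ = 1 := by
      rw [EE, dif_neg hne]
    rw [this, Units.val_one, Matrix.one_mulVec]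
    exact hx

theorem HMEM.EE_mem_HH (hD : Cfsg.Geo.IsMDecomposition m D) {c : Fin t} {v φ : Fin n → F} (hv : v ∈ D c)
    (hφ : φ ∈ Dl D c) (h : φ ⬝ᵥ v = 0) : EE v φ ∈ HH D := by
  refine ⟨HMEM.mem_stab_of_perm hD 1 _ (fun b x hx => ?_), HMEM.EE_mem_SL' h⟩
  rw [Equiv.Perm.one_apply]
  exact HMEM.EE_maps hD hv hφ b x hx

theorem HMEM.EE_mul_mem_HH (hD : Cfsg.Geo.IsMDecomposition m D) {c c' : Fin t} {v φ v' φ' : Fin n → F}
    (hv : v ∈ D c) (hφ : φ ∈ Dl D c) (hv' : v' ∈ D c') (hφ' : φ' ∈ Dl D c')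
    (h : (1 + φ ⬝ᵥ v) * (1 + φ' ⬝ᵥ v') = 1) : EE v φ * EE v' φ' ∈ HH D := by
  refine ⟨Subgroup.mul_mem _ ?_ ?_, HMEM.EE_mul_mem_SL' h⟩
  · refine HMEM.mem_stab_of_perm hD 1 _ (fun b x hx => ?_)
    rw [Equiv.Perm.one_apply]
    exact HMEM.EE_maps hD hv hφ b x hx
  · refine HMEM.mem_stab_of_perm hD 1 _ (fun b x hx => ?_)
    rw [Equiv.Perm.one_apply]
    exact HMEM.EE_maps hD hv' hφ' b x hx

end Cfsg.Agent.S5634P
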