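import Mathlib
import Cfsg.Prelude.Def_LieExceptional
import Cfsg.Prelude.Def_Involutions
import Cfsg.Agent.Helper18.AIDefs
import Cfsg.Agent.Helper1.UniqueOrderP

/-! S2202 piece LOC1: local structure around a non-cyclic, non-normal Sylow `2`-subgroup of a
group with abelian involution centralizers. -/

set_option autoImplicit false

open Cfsg Cfsg.Agent.Helper18.AI Cfsg.Agent.Helper18.CT MulAction

namespace Cfsg.Agent.Helper11.AI

variable {G : Type*} [Group G]

/-- a `2`-subgroup normalizing a Sylow `2`-subgroup lies in it -/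
theorem le_sylow_of_le_normalizer (T : Sylow 2 G) (Q : Subgroup G) (hQ : IsPGroup 2 ↥Q)
    (hQN : Q ≤ Subgroup.normalizer ((T : Subgroup G) : Set G)) : Q ≤ (T : Subgroup G) := by
  have h2 : IsPGroup 2 ↥(Q ⊔ (T : Subgroup G)) := IsPGroup.to_sup_of_normal_right' hQ T.2 hQN
  have h3 : Q ⊔ (T : Subgroup G) = (T : Subgroup G) := T.is_maximal' h2 le_sup_right
  exact le_sup_left.trans h3.le

/-- an involution normalizing a Sylow `2`-subgroup lies in it -/
theorem mem_sylow_of_involution [Finite G] (T : Sylow 2 G) (u : G) (hu : orderOf u = 2)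
    (hN : u ∈ Subgroup.normalizer ((T : Subgroup G) : Set G)) : u ∈ (T : Subgroup G) := by
  have hQ : IsPGroup 2 ↥(Subgroup.zpowers u) := by
    rw [IsPGroup.iff_card]
    exact ⟨1, by rw [Nat.card_zpowers, hu, pow_one]⟩
  have hle : Subgroup.zpowers u ≤ Subgroup.normalizer ((T : Subgroup G) : Set G) := by
    rw [Subgroup.zpowers_le]; exact hN
  exact le_sylow_of_le_normalizer T _ hQ hle (Subgroup.mem_zpowers u)

/-- a nontrivial `2`-group has a central involution -/
theorem exists_central_involution [Finite G] (T : Subgroup G) (hT : IsPGroup 2 ↥T) (hne : T ≠ ⊥) :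
    ∃ z ∈ T, orderOf z = 2 ∧ ∀ s ∈ T, s * z = z * s := by
  have : Nontrivial ↥T := (Subgroup.nontrivial_iff_ne_bot T).mpr hne
  have : Fact (Nat.Prime 2) := ⟨Nat.prime_two⟩
  have := hT.center_nontrivial
  obtain ⟨c, hc⟩ := exists_ne (1 : ↥(Subgroup.center ↥T))
  have hc1 : (c : ↥T) ≠ 1 := fun h => hc (Subtype.ext h)
  obtain ⟨k, hk⟩ := hT (c : ↥T)
  -- order of c is a power of 2, at least 2
  obtain ⟨j, hj⟩ : ∃ j, orderOf (c : ↥T) = 2 ^ j := by
    have hd : orderOf (c : ↥T) ∣ 2 ^ k := orderOf_dvd_of_pow_eq_one hk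
    obtain ⟨j, -, hj⟩ := (Nat.dvd_prime_pow Nat.prime_two).mp hd
    exact ⟨j, hj⟩
  have hj0 : j ≠ 0 := by
    intro h0
    rw [h0, pow_zero, orderOf_eq_one_iff] at hj
    exact hc1 hj
  obtain ⟨i, rfl⟩ : ∃ i, j = i + 1 := ⟨j - 1, by omega⟩
  set z : ↥T := (c : ↥T) ^ (2 ^ i) with hz
  have hzo : orderOf z = 2 := by
    rw [hz, orderOf_pow' _ (by positivity), hj, Nat.gcd_eq_right (by rw [pow_succ]; exact Dvd.intro _ rfl),
      pow_succ, Nat.mul_div_cancel_left _ (by positivity)]
  refine ⟨(z : G), z.2, ?_, ?_⟩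
  · rw [← hzo]; exact (Subgroup.orderOf_coe z)
  · intro s hs
    have hcz : z ∈ Subgroup.center ↥T := Subgroup.pow_mem _ c.2 _
    have := (Subgroup.mem_center_iff.mp hcz) ⟨s, hs⟩
    exact congrArg Subtype.val this


/-- conjugation preserves the order -/
theorem orderOf_conj' (g t : G) : orderOf (g * t * g⁻¹) = orderOf t := by
  have : g * t * g⁻¹ = MulAut.conj g t := by simp [MulAut.conj_apply]
  rw [this, MulEquiv.orderOf_eq]

theorem loc1_of_hyp [Finite G] (hG : Hyp G) (T : Sylow 2 G)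
    (hnc : ¬ IsCyclic ↥(T : Subgroup G)) (hnn : ¬ (T : Subgroup G).Normal) :
    ∃ e : ℕ, Loc1 T e := by
  classical
  have hTne : (T : Subgroup G) ≠ ⊥ := by
    intro h
    apply hnc
    rw [h]
    infer_instance
  obtain ⟨z, hzT, hzo, hzc⟩ := exists_central_involution (T : Subgroup G) T.2 hTne
  -- `T` is abelian
  have hTab : ∀ s ∈ (T : Subgroup G), ∀ s' ∈ (T : Subgroup G), s * s' = s' * s :=
    fun s hs s' hs' => hG.comm hzo (hzc s hs) (hzc s' hs')
  have hT_le : (T : Subgroup G) ≤ Subgroup.centralizer ((T : Subgroup G) : Set G) := by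
    intro s hs
    rw [Subgroup.mem_centralizer_iff]
    intro s' hs'
    exact hTab s' hs' s hs
  have hcent : ∀ t ∈ (T : Subgroup G), orderOf t = 2 → ∀ x : G, x * t = t * x →
      x ∈ Subgroup.centralizer ((T : Subgroup G) : Set G) := by
    intro t ht hto x hx
    rw [Subgroup.mem_centralizer_iff]
    intro s hs
    exact hG.comm hto (hTab s hs t ht) hx
  have hCN : Subgroup.centralizer ((T : Subgroup G) : Set G) ≤
      Subgroup.normalizer ((T : Subgroup G) : Set G) := Subgroup.centralizer_le_normalizer _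
  have hti : ∀ g : G, ∀ t ∈ (T : Subgroup G), orderOf t = 2 → g * t * g⁻¹ ∈ (T : Subgroup G) →
      g ∈ Subgroup.normalizer ((T : Subgroup G) : Set G) := by
    intro g t ht hto hgt
    set Tg : Subgroup G := (T : Subgroup G).map (MulAut.conj g).toMonoidHom with hTg
    have hTgP : IsPGroup 2 ↥Tg := T.2.map _
    have hTgN : Tg ≤ Subgroup.normalizer ((T : Subgroup G) : Set G) := by
      intro y hy
      obtain ⟨s, hs, rfl⟩ := Subgroup.mem_map.mp hy
      apply hCN
      apply hcent (g * t * g⁻¹) hgt (by rw [orderOf_conj', hto])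
      have h1 : s * t = t * s := hTab s hs t ht
      show (MulAut.conj g) s * (g * t * g⁻¹) = g * t * g⁻¹ * (MulAut.conj g) s
      rw [MulAut.conj_apply]
      calc g * s * g⁻¹ * (g * t * g⁻¹) = g * (s * t) * g⁻¹ := by group
        _ = g * (t * s) * g⁻¹ := by rw [h1]
        _ = g * t * g⁻¹ * (g * s * g⁻¹) := by group
    have hle : Tg ≤ (T : Subgroup G) := le_sylow_of_le_normalizer T Tg hTgP hTgN
    have hcard : Nat.card ↥Tg = Nat.card ↥(T : Subgroup G) := by
      rw [hTg]
      exact Subgroup.card_map_of_injective (MulAut.conj g).injective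
    have heq : Tg = (T : Subgroup G) := Subgroup.eq_of_le_of_card_ge hle hcard.ge
    rw [Subgroup.mem_normalizer_iff_map_conj_eq]
    exact heq
  have hconj : ∀ u : G, orderOf u = 2 → ∃ g : G, g * u * g⁻¹ ∈ (T : Subgroup G) := by
    intro u hu
    have hQ : IsPGroup 2 ↥(Subgroup.zpowers u) := by
      rw [IsPGroup.iff_card]
      exact ⟨1, by rw [Nat.card_zpowers, hu, pow_one]⟩
    obtain ⟨Q, hQ'⟩ := hQ.exists_le_sylow
    obtain ⟨g, hg⟩ := MulAction.exists_smul_eq G Q T
    refine ⟨g, ?_⟩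
    have huQ : u ∈ (Q : Subgroup G) := hQ' (Subgroup.mem_zpowers u)
    have : g * u * g⁻¹ ∈ ((g • Q : Sylow 2 G) : Subgroup G) := by
      rw [Sylow.coe_subgroup_smul]
      have := Subgroup.smul_mem_pointwise_smul u (MulAut.conj g) (Q : Subgroup G) huQ
      simpa [MulAut.smul_def, MulAut.conj_apply] using this
    rw [hg] at this
    exact this
  -- counting the involutions of `T`
  let E : Subgroup G :=
    { carrier := {x | x ∈ (T : Subgroup G) ∧ x ^ 2 = 1}
      mul_mem' := by
        rintro x y ⟨hx, hx2⟩ ⟨hy, hy2⟩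
        refine ⟨mul_mem hx hy, ?_⟩
        have hc : Commute x y := hTab x hx y hy
        rw [hc.mul_pow, hx2, hy2, one_mul]
      one_mem' := ⟨one_mem _, one_pow _⟩
      inv_mem' := by
        rintro x ⟨hx, hx2⟩
        exact ⟨inv_mem hx, by rw [inv_pow, hx2, inv_one]⟩ }
  have hEle : E ≤ (T : Subgroup G) := fun x hx => hx.1
  have hEP : IsPGroup 2 ↥E := T.2.to_le hEle
  obtain ⟨k, hk⟩ := IsPGroup.iff_card.mp hEP
  set S : Set G := {t : G | t ∈ (T : Subgroup G) ∧ orderOf t = 2} with hS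
  have hES : (E : Set G) = insert 1 S := by
    ext x
    simp only [Set.mem_insert_iff, hS, Set.mem_ofPred_eq]
    constructor
    · rintro ⟨hx, hx2⟩
      by_cases h1 : x = 1
      · exact Or.inl h1
      · exact Or.inr ⟨hx, orderOf_eq_prime hx2 h1⟩
    · rintro (rfl | ⟨hx, hxo⟩)
      · exact E.one_mem
      · exact ⟨hx, by rw [← hxo]; exact pow_orderOf_eq_one x⟩
  have h1S : (1 : G) ∉ S := by
    rintro ⟨-, h⟩
    rw [orderOf_one] at h
    omega
  have hcount : S.ncard + 1 = 2 ^ k := by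
    have h1 : Nat.card ↥E = (E : Set G).ncard := (_root_.Nat.card_coe_set_eq (E : Set G))
    rw [← hk, h1, hES, Set.ncard_insert_of_notMem h1S (Set.toFinite S)]
  have hzS : z ∈ S := ⟨hzT, hzo⟩
  have hSpos : 1 ≤ S.ncard := by
    have : 0 < S.ncard := (Set.ncard_pos (Set.toFinite S)).mpr ⟨z, hzS⟩
    omega
  have hk0 : k ≠ 0 := by
    intro h0
    rw [h0, pow_zero] at hcount
    omega
  have hk1 : k ≠ 1 := by
    intro h1
    rw [h1, pow_one] at hcount
    have hS1 : S.ncard = 1 := by omega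
    obtain ⟨a, ha⟩ := Set.ncard_eq_one.mp hS1
    have hall : ∀ t ∈ S, t = z := by
      intro t ht
      have h1 : t = a := by rw [ha] at ht; exact ht
      have h2 : z = a := by rw [ha] at hzS; exact hzS
      rw [h1, h2]
    apply hnc
    have : IsMulCommutative ↥(T : Subgroup G) :=
      ⟨⟨fun a b => Subtype.ext (hTab a a.2 b b.2)⟩⟩
    have : Fact (Nat.Prime 2) := ⟨Nat.prime_two⟩
    apply Cfsg.Agent.Helper1.UniqP.isCyclic_of_isMulCommutative T.2
    -- unique subgroup of order 2
    have key : ∀ H : Subgroup ↥(T : Subgroup G), Nat.card H = 2 →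
        H = Subgroup.zpowers (⟨z, hzT⟩ : ↥(T : Subgroup G)) := by
      intro H hH
      obtain ⟨x, hx⟩ := exists_prime_orderOf_dvd_card' (G := ↥H) 2 (by rw [hH])
      have hxo : orderOf (((x : ↥H) : ↥(T : Subgroup G)) : G) = 2 := by
        rw [Subgroup.orderOf_coe, Subgroup.orderOf_coe, hx]
      have hxz : (((x : ↥H) : ↥(T : Subgroup G)) : G) = z :=
        hall _ ⟨((x : ↥H) : ↥(T : Subgroup G)).2, hxo⟩
      have hzH : (⟨z, hzT⟩ : ↥(T : Subgroup G)) ∈ H := by
        have : (⟨z, hzT⟩ : ↥(T : Subgroup G)) = ((x : ↥H) : ↥(T : Subgroup G)) :=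
          Subtype.ext hxz.symm
        rw [this]
        exact x.2
      have hle : Subgroup.zpowers (⟨z, hzT⟩ : ↥(T : Subgroup G)) ≤ H := by
        rw [Subgroup.zpowers_le]; exact hzH
      have hzo' : orderOf (⟨z, hzT⟩ : ↥(T : Subgroup G)) = 2 := by
        have := Subgroup.orderOf_coe (⟨z, hzT⟩ : ↥(T : Subgroup G))
        simp only at this
        rw [← this, hzo]
      symm
      apply Subgroup.eq_of_le_of_card_ge hle
      rw [Nat.card_zpowers, hzo', hH]
    intro H K hH hK
    rw [key H hH, key K hK]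
  have hk2 : 2 ≤ k := by omega
  refine ⟨S.ncard, ?_⟩
  refine
    { comm := ?_
      T_le := hT_le
      cent := hcent
      inv_mem := fun u hu huo => mem_sylow_of_involution T u huo (hCN hu)
      inv_norm := fun u hu huo => mem_sylow_of_involution T u huo hu
      ti := hti
      inv_conj_mem := hconj
      inv_card := ?_
      e_ge := ?_
      e_odd := ?_
      ne_top := ?_ }
  · intro x hx y hy
    rw [Subgroup.mem_centralizer_iff] at hx hy
    exact hG.comm hzo (hx z hzT).symm (hy z hzT).symm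
  · exact _root_.Nat.card_coe_set_eq S
  · obtain ⟨j, rfl⟩ : ∃ j, k = j + 2 := ⟨k - 2, by omega⟩
    have : 4 ≤ 2 ^ (j + 2) := by
      rw [pow_add]
      have : 1 ≤ 2 ^ j := Nat.one_le_two_pow
      omega
    omega
  · obtain ⟨j, rfl⟩ : ∃ j, k = j + 1 := ⟨k - 1, by omega⟩
    rw [pow_succ] at hcount
    rw [Nat.odd_iff]
    omega
  · intro h
    exact hnn (Subgroup.normalizer_eq_top_iff.mp h)

end Cfsg.Agent.Helper11.AI
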