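import Mathlib
import Cfsg.Prelude.Def_LieExceptional
import Cfsg.Prelude.Def_Involutions
import Cfsg.Agent.Helper18.AIDefs
import Cfsg.Agent.Helper11.AILOC1

/-! S2202 piece QA1: the core of `N_G(T)` is odd, abelian and commutes with all involutions. -/

set_option autoImplicit false

open Cfsg Cfsg.Agent.Helper18.AI Cfsg.Agent.Helper18.CT MulAction

namespace Cfsg.Agent.Helper11.AI

variable {G : Type*} [Group G]

theorem core_facts [Finite G] (hG : Hyp G) (T : Sylow 2 G)
    (hnc : ¬ IsCyclic ↥(T : Subgroup G)) (hnn : ¬ (T : Subgroup G).Normal) :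
    Odd (Nat.card ↥(Subgroup.normalizer ((T : Subgroup G) : Set G)).normalCore) ∧
    (∀ n ∈ (Subgroup.normalizer ((T : Subgroup G) : Set G)).normalCore,
      ∀ t : G, orderOf t = 2 → n * t = t * n) ∧
    (∀ n ∈ (Subgroup.normalizer ((T : Subgroup G) : Set G)).normalCore,
      ∀ t ∈ (T : Subgroup G), n * t = t * n) ∧
    (∀ a ∈ (Subgroup.normalizer ((T : Subgroup G) : Set G)).normalCore,
      ∀ b ∈ (Subgroup.normalizer ((T : Subgroup G) : Set G)).normalCore, a * b = b * a) := by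
  classical
  obtain ⟨e, L⟩ := loc1_of_hyp hG T hnc hnn
  set H : Subgroup G := Subgroup.normalizer ((T : Subgroup G) : Set G) with hH
  set N : Subgroup G := H.normalCore with hN
  have hNH : N ≤ H := Subgroup.normalCore_le H
  have hNn : N.Normal := Subgroup.normalCore_normal H
  -- no involution in `N`
  have hnoinv : ∀ t ∈ N, orderOf t ≠ 2 := by
    intro t ht hto
    apply L.ne_top
    rw [Subgroup.eq_top_iff']
    intro g
    have ht' : t ∈ (T : Subgroup G) := L.inv_norm t (hNH ht) hto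
    have hc : g * t * g⁻¹ ∈ N := hNn.conj_mem t ht g
    have hc' : g * t * g⁻¹ ∈ (T : Subgroup G) :=
      L.inv_norm _ (hNH hc) (by rw [orderOf_conj', hto])
    exact L.ti g t ht' hto hc'
  have hodd : Odd (Nat.card ↥N) := by
    rw [← Nat.not_even_iff_odd]
    intro hev
    have h2 : 2 ∣ Nat.card ↥N := even_iff_two_dvd.mp hev
    have : Fact (Nat.Prime 2) := ⟨Nat.prime_two⟩
    obtain ⟨x, hx⟩ := exists_prime_orderOf_dvd_card' (G := ↥N) 2 h2
    exact hnoinv (x : G) x.2 (by rw [Subgroup.orderOf_coe, hx])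
  -- `T ∩ N = 1`
  have hTN : ∀ x ∈ (T : Subgroup G), x ∈ N → x = 1 := by
    intro x hxT hxN
    obtain ⟨k, hk⟩ := T.2 ⟨x, hxT⟩
    have hk' : x ^ 2 ^ k = 1 := congrArg Subtype.val hk
    have hd1 : orderOf x ∣ 2 ^ k := orderOf_dvd_of_pow_eq_one hk'
    have hd2 : orderOf x ∣ Nat.card ↥N := Subgroup.orderOf_dvd_natCard N hxN
    have hcop : Nat.Coprime (2 ^ k) (Nat.card ↥N) :=
      Nat.Coprime.pow_left k (Nat.coprime_two_left.mpr hodd)
    have := Nat.eq_one_of_dvd_coprimes hcop hd1 hd2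
    exact orderOf_eq_one_iff.mp this
  -- `N` centralizes `T`
  have hcT : ∀ n ∈ N, ∀ t ∈ (T : Subgroup G), n * t = t * n := by
    intro n hn t ht
    have h1 : n * t * n⁻¹ ∈ (T : Subgroup G) := by
      have hnH : n ∈ Subgroup.normalizer ((T : Subgroup G) : Set G) := hNH hn
      exact (Subgroup.mem_normalizer_iff.mp hnH t).mp ht
    have h2 : n * t * n⁻¹ * t⁻¹ ∈ (T : Subgroup G) := mul_mem h1 (inv_mem ht)
    have h3 : n * t * n⁻¹ * t⁻¹ ∈ N := by
      have : t * n⁻¹ * t⁻¹ ∈ N := hNn.conj_mem n⁻¹ (inv_mem hn) t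
      have h4 : n * t * n⁻¹ * t⁻¹ = n * (t * n⁻¹ * t⁻¹) := by group
      rw [h4]
      exact mul_mem hn this
    have h5 := hTN _ h2 h3
    have : n * t = (n * t * n⁻¹ * t⁻¹) * (t * n) := by group
    rw [this, h5, one_mul]
  have hcI : ∀ n ∈ N, ∀ t : G, orderOf t = 2 → n * t = t * n := by
    intro n hn t hto
    obtain ⟨g, hg⟩ := L.inv_conj_mem t hto
    have hn' : g * n * g⁻¹ ∈ N := hNn.conj_mem n hn g
    have h1 := hcT _ hn' _ hg
    have h2 : g * (n * t) * g⁻¹ = g * (t * n) * g⁻¹ := by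
      calc g * (n * t) * g⁻¹ = g * n * g⁻¹ * (g * t * g⁻¹) := by group
        _ = g * t * g⁻¹ * (g * n * g⁻¹) := h1
        _ = g * (t * n) * g⁻¹ := by group
    exact mul_left_cancel (mul_right_cancel h2)
  refine ⟨hodd, hcI, hcT, ?_⟩
  intro a ha b hb
  -- an involution of `T`
  have hne : Nonempty {t : G // t ∈ (T : Subgroup G) ∧ orderOf t = 2} := by
    have h3 := L.e_ge
    rw [← L.inv_card] at h3
    by_contra hcon
    rw [not_nonempty_iff] at hcon
    rw [Nat.card_of_isEmpty] at h3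
    omega
  obtain ⟨z, -, hzo⟩ := hne
  exact hG.comm hzo (hcI a ha z hzo) (hcI b hb z hzo)

end Cfsg.Agent.Helper11.AI
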