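import Mathlib

set_option autoImplicit false

/-!
The property "all `p`-subgroups are commutative" and its inheritance by sections.
-/

namespace Cfsg.Agent.Helper11

/-- All `p`-subgroups of `G` are commutative. -/
def AbP (p : ℕ) (G : Type*) [Group G] : Prop :=
  ∀ S : Subgroup G, IsPGroup p ↥S → ∀ a ∈ S, ∀ b ∈ S, a * b = b * a

theorem AbP.subgroup {p : ℕ} {G : Type*} [Group G] (h : AbP p G) (K : Subgroup G) : AbP p ↥K := by
  intro S hS a ha b hb
  have h1 : IsPGroup p ↥(S.map K.subtype) := hS.map K.subtype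
  have := h (S.map K.subtype) h1 a (Subgroup.mem_map_of_mem _ ha) b (Subgroup.mem_map_of_mem _ hb)
  exact Subtype.ext this

theorem AbP.of_surjective {p : ℕ} [Fact p.Prime] {G G' : Type*} [Group G] [Finite G] [Group G']
    (h : AbP p G) (f : G →* G') (hf : Function.Surjective f) : AbP p G' := by
  intro S hS a ha b hb
  have : Finite G' := Finite.of_surjective f hf
  obtain ⟨Q, hQ⟩ := hS.exists_le_sylow
  obtain ⟨P, hP⟩ := Sylow.mapSurjective_surjective hf p Q
  have hcoe : (P : Subgroup G).map f = (Q : Subgroup G') := by rw [← hP]; rfl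
  have haQ : a ∈ (P : Subgroup G).map f := by rw [hcoe]; exact hQ ha
  have hbQ : b ∈ (P : Subgroup G).map f := by rw [hcoe]; exact hQ hb
  obtain ⟨a', ha', rfl⟩ := Subgroup.mem_map.1 haQ
  obtain ⟨b', hb', rfl⟩ := Subgroup.mem_map.1 hbQ
  rw [← map_mul, ← map_mul, h P P.2 a' ha' b' hb']

theorem AbP.of_mulEquiv {p : ℕ} [Fact p.Prime] {G G' : Type*} [Group G] [Finite G] [Group G']
    (h : AbP p G) (e : G ≃* G') : AbP p G' :=
  h.of_surjective e.toMonoidHom e.surjective

/-- If all `p`-subgroups of `G` are commutative, the same holds in every section of `G`. -/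
theorem AbP.section {p : ℕ} [Fact p.Prime] {G : Type*} [Group G] [Finite G] (h : AbP p G)
    (K R : Subgroup G) [(R.subgroupOf K).Normal] : AbP p (↥K ⧸ R.subgroupOf K) :=
  (h.subgroup K).of_surjective (QuotientGroup.mk' _) (QuotientGroup.mk'_surjective _)

/-! ### Two-by-two matrices with a common fixed vector -/

theorem mul_eq_zero_of_common_kernel {K : Type*} [Field K] (N M : Matrix (Fin 2) (Fin 2) K)
    (v : Fin 2 → K) (hN : N.mulVec v = 0) (hM : M.mulVec v = 0) (htr : M 0 0 + M 1 1 = 0)
    (hv : v ≠ 0) : N * M = 0 := by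
  have hc : ∀ i, N i 0 * v 0 + N i 1 * v 1 = 0 := by
    intro i
    have := congrFun hN i
    simpa [Matrix.mulVec, dotProduct, Fin.sum_univ_two] using this
  have ha : M 0 0 * v 0 + M 0 1 * v 1 = 0 := by
    have := congrFun hM 0
    simpa [Matrix.mulVec, dotProduct, Fin.sum_univ_two] using this
  have hb : M 1 0 * v 0 + M 1 1 * v 1 = 0 := by
    have := congrFun hM 1
    simpa [Matrix.mulVec, dotProduct, Fin.sum_univ_two] using this
  have hv' : v 0 ≠ 0 ∨ v 1 ≠ 0 := by
    by_contra hcon
    push Not at hcon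
    apply hv
    ext i
    fin_cases i
    · exact hcon.1
    · exact hcon.2
  have key : ∀ e : K, v 0 * e = 0 → v 1 * e = 0 → e = 0 := by
    intro e h0 h1
    rcases hv' with h | h
    · exact (mul_eq_zero.1 h0).resolve_left h
    · exact (mul_eq_zero.1 h1).resolve_left h
  ext i j
  rw [Matrix.mul_apply, Fin.sum_univ_two, Matrix.zero_apply]
  fin_cases j
  · apply key
    · simp only [Fin.zero_eta]
      linear_combination M 0 0 * hc i + N i 1 * hb - N i 1 * v 1 * htr
    · simp only [Fin.zero_eta]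
      linear_combination M 1 0 * hc i - N i 0 * hb + N i 0 * v 1 * htr
  · apply key
    · simp only [Fin.mk_one]
      linear_combination M 0 1 * hc i - N i 1 * ha + N i 1 * v 0 * htr
    · simp only [Fin.mk_one]
      linear_combination M 1 1 * hc i + N i 0 * ha - N i 0 * v 0 * htr

theorem trace_sub_one_eq_zero {K : Type*} [Field K] (A : Matrix (Fin 2) (Fin 2) K)
    (hA : A.det = 1) (v : Fin 2 → K) (hAv : A.mulVec v = v) (hv : v ≠ 0) :
    (A - 1) 0 0 + (A - 1) 1 1 = 0 := by
  have h1 : A 0 0 * v 0 + A 0 1 * v 1 = v 0 := by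
    have := congrFun hAv 0
    simpa [Matrix.mulVec, dotProduct, Fin.sum_univ_two] using this
  have h2 : A 1 0 * v 0 + A 1 1 * v 1 = v 1 := by
    have := congrFun hAv 1
    simpa [Matrix.mulVec, dotProduct, Fin.sum_univ_two] using this
  rw [Matrix.det_fin_two] at hA
  have hv' : v 0 ≠ 0 ∨ v 1 ≠ 0 := by
    by_contra hcon
    push Not at hcon
    apply hv
    ext i
    fin_cases i
    · exact hcon.1
    · exact hcon.2
  simp only [Matrix.sub_apply, Matrix.one_apply_eq]
  have e0 : v 0 * (A 0 0 - 1 + (A 1 1 - 1)) = 0 := by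
    linear_combination (v 0) * hA - (A 1 1 - 1) * h1 + A 0 1 * h2
  have e1 : v 1 * (A 0 0 - 1 + (A 1 1 - 1)) = 0 := by
    linear_combination (v 1) * hA + A 1 0 * h1 - (A 0 0 - 1) * h2
  rcases hv' with h | h
  · exact (mul_eq_zero.1 e0).resolve_left h
  · exact (mul_eq_zero.1 e1).resolve_left h

/-- Two matrices of determinant one in dimension two with a common nonzero fixed vector commute. -/
theorem comm_of_common_fixed {K : Type*} [Field K] (A B : Matrix (Fin 2) (Fin 2) K)
    (hA : A.det = 1) (hB : B.det = 1) (v : Fin 2 → K) (hAv : A.mulVec v = v)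
    (hBv : B.mulVec v = v) (hv : v ≠ 0) : A * B = B * A := by
  have hN : (A - 1).mulVec v = 0 := by rw [Matrix.sub_mulVec, hAv, Matrix.one_mulVec, sub_self]
  have hM : (B - 1).mulVec v = 0 := by rw [Matrix.sub_mulVec, hBv, Matrix.one_mulVec, sub_self]
  have h1 := mul_eq_zero_of_common_kernel (A - 1) (B - 1) v hN hM
    (trace_sub_one_eq_zero B hB v hBv hv) hv
  have h2 := mul_eq_zero_of_common_kernel (B - 1) (A - 1) v hM hN
    (trace_sub_one_eq_zero A hA v hAv hv) hv
  have e1 : A * B = (A - 1) * (B - 1) + A + B - 1 := by noncomm_ring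
  have e2 : B * A = (B - 1) * (A - 1) + A + B - 1 := by noncomm_ring
  rw [e1, e2, h1, h2]

/-- All `p`-subgroups of `SL₂(K)`, `K` a finite field of characteristic `p`, are commutative. -/
theorem abP_sl2 {p : ℕ} [Fact p.Prime] {K : Type*} [Field K] [Finite K] [CharP K p] :
    AbP p (Matrix.SpecialLinearGroup (Fin 2) K) := by
  intro S hS a ha b hb
  let _ : MulAction ↥S (Fin 2 → K) :=
    { smul := fun g v => ((g : Matrix.SpecialLinearGroup (Fin 2) K) : Matrix (Fin 2) (Fin 2) K).mulVec v
      one_smul := fun v => by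
        change ((1 : Matrix.SpecialLinearGroup (Fin 2) K) : Matrix (Fin 2) (Fin 2) K).mulVec v = v
        simp
      mul_smul := fun g h v => by
        change (((g : Matrix.SpecialLinearGroup (Fin 2) K) * (h : Matrix.SpecialLinearGroup (Fin 2) K) :
          Matrix.SpecialLinearGroup (Fin 2) K) : Matrix (Fin 2) (Fin 2) K).mulVec v = _
        rw [Matrix.SpecialLinearGroup.coe_mul, ← Matrix.mulVec_mulVec]
        rfl }
  have hpK : p ∣ Nat.card K := by
    have h1 : p = addOrderOf (1 : K) := CharP.eq K inferInstance (CharP.addOrderOf_one K)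
    rw [h1]
    exact addOrderOf_dvd_natCard 1
  have hp : p ∣ Nat.card (Fin 2 → K) := by
    rw [Nat.card_fun, Nat.card_fin]
    exact dvd_pow hpK two_ne_zero
  have h0 : (0 : Fin 2 → K) ∈ MulAction.fixedPoints ↥S (Fin 2 → K) := by
    intro g
    exact Matrix.mulVec_zero _
  obtain ⟨v, hv, hv0⟩ := hS.exists_fixed_point_of_prime_dvd_card_of_fixed_point (Fin 2 → K) hp h0
  have hav : (a : Matrix (Fin 2) (Fin 2) K).mulVec v = v := hv ⟨a, ha⟩
  have hbv : (b : Matrix (Fin 2) (Fin 2) K).mulVec v = v := hv ⟨b, hb⟩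
  apply Subtype.ext
  rw [Matrix.SpecialLinearGroup.coe_mul, Matrix.SpecialLinearGroup.coe_mul]
  exact comm_of_common_fixed _ _ a.det_coe b.det_coe v hav hbv (Ne.symm hv0)

end Cfsg.Agent.Helper11
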