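import Mathlib
import Cfsg.Agent.Helper11.SzMultA
import Cfsg.Agent.Helper20.DihedralStem
import Cfsg.Agent.Helper15.SSolv1

/-!
# Bounding the kernel of a stem extension through Sylow subgroups

For a finite stem extension `σ : Γ → G` with kernel `K` and a subgroup `S ≤ G` of index prime to
`r` generated by two elements, the `r`-elements of `K` lie in every subgroup `N` of `Γ` that
contains the commutator of lifts of the two generators and is normalised by these lifts.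
Special cases: `S` abelian (`N` cyclic generated by the commutator), `S` dihedral of order 8.
-/

set_option autoImplicit false
set_option linter.unusedSectionVars false
set_option linter.unusedVariables false

namespace Cfsg.Agent.Helper11.MultBound

open scoped commutatorElement
open Cfsg.Agent.Helper11.SzMult

section closure

variable {Γ : Type*} [Group Γ] (x₁ x₂ : Γ) (N : Subgroup Γ)
  (h₁ : ∀ n ∈ N, x₁ * n * x₁⁻¹ ∈ N ∧ x₁⁻¹ * n * x₁ ∈ N)
  (h₂ : ∀ n ∈ N, x₂ * n * x₂⁻¹ ∈ N ∧ x₂⁻¹ * n * x₂ ∈ N)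

include h₁ h₂ in
theorem conj_mem_of_closure_pair : ∀ g ∈ Subgroup.closure ({x₁, x₂} : Set Γ), ∀ n ∈ N,
    g * n * g⁻¹ ∈ N ∧ g⁻¹ * n * g ∈ N := by
  intro g hg
  induction hg using Subgroup.closure_induction with
  | mem s hs =>
    rcases hs with rfl | rfl
    · exact h₁
    · exact h₂
  | one => intro x hx; simpa using hx
  | mul a b _ _ iha ihb =>
    intro x hx
    constructor
    · have := (iha _ (ihb x hx).1).1
      have e : a * b * x * (a * b)⁻¹ = a * (b * x * b⁻¹) * a⁻¹ := by group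
      rw [e]; exact this
    · have := (ihb _ (iha x hx).2).2
      have e : (a * b)⁻¹ * x * (a * b) = b⁻¹ * (a⁻¹ * x * a) * b := by group
      rw [e]; exact this
  | inv a _ iha =>
    intro x hx
    constructor
    · have := (iha x hx).2
      simpa using this
    · have := (iha x hx).1
      simpa using this

include h₁ h₂ in
theorem comm_mem_of_closure_pair (hc : ⁅x₁, x₂⁆ ∈ N) {a b : Γ}
    (ha : a ∈ Subgroup.closure ({x₁, x₂} : Set Γ)) (hb : b ∈ Subgroup.closure ({x₁, x₂} : Set Γ)) :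
    ⁅a, b⁆ ∈ N := by
  have hconj := conj_mem_of_closure_pair x₁ x₂ N h₁ h₂
  induction ha, hb using Subgroup.closure_induction₂ with
  | mem a b ha hb =>
    rcases ha with rfl | rfl <;> rcases hb with rfl | rfl
    · rw [commutatorElement_self]; exact N.one_mem
    · exact hc
    · rw [← commutatorElement_inv]; exact N.inv_mem hc
    · rw [commutatorElement_self]; exact N.one_mem
  | one_left => rw [commutatorElement_one_left]; exact N.one_mem
  | one_right => rw [commutatorElement_one_right]; exact N.one_mem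
  | mul_left a b c ha _ _ h1 h2 =>
    have e : ⁅a * b, c⁆ = a * ⁅b, c⁆ * a⁻¹ * ⁅a, c⁆ := by
      simp only [commutatorElement_def]; group
    rw [e]
    exact N.mul_mem (hconj a ha _ h2).1 h1
  | mul_right a b c ha _ _ h1 h2 =>
    have e : ⁅c, a * b⁆ = ⁅c, a⁆ * (a * ⁅c, b⁆ * a⁻¹) := by
      simp only [commutatorElement_def]; group
    rw [e]
    exact N.mul_mem h1 (hconj a ha _ h2).1
  | inv_left a c ha _ h =>
    have e : ⁅a⁻¹, c⁆ = a⁻¹ * ⁅a, c⁆⁻¹ * a := by
      simp only [commutatorElement_def]; group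
    rw [e]
    exact (hconj a ha _ (N.inv_mem h)).2
  | inv_right a c _ hc' h =>
    have e : ⁅a, c⁻¹⁆ = c⁻¹ * ⁅a, c⁆⁻¹ * c := by
      simp only [commutatorElement_def]; group
    rw [e]
    exact (hconj c hc' _ (N.inv_mem h)).2

end closure

section main

variable {Γ G : Type*} [Group Γ] [Group G] [Finite Γ] (σ : Γ →* G)
  (hσ : Function.Surjective σ) (hK : σ.ker ≤ Subgroup.center Γ) (hC : σ.ker ≤ commutator Γ)

include hσ hK hC in
/-- the main lemma -/
theorem primary_mem (r : ℕ) [hr : Fact r.Prime] (S : Subgroup G) (hidx : ¬ r ∣ S.index)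
    (x₁ x₂ : Γ) (hS : S ≤ Subgroup.closure ({σ x₁, σ x₂} : Set G)) (N : Subgroup Γ)
    (h₁ : ∀ n ∈ N, x₁ * n * x₁⁻¹ ∈ N ∧ x₁⁻¹ * n * x₁ ∈ N)
    (h₂ : ∀ n ∈ N, x₂ * n * x₂⁻¹ ∈ N ∧ x₂⁻¹ * n * x₂ ∈ N) (hc : ⁅x₁, x₂⁆ ∈ N)
    (a : Γ) (ha : a ∈ σ.ker) (har : ∃ k, orderOf a = r ^ k) : a ∈ N := by
  classical
  set L : Subgroup Γ := Subgroup.closure ({x₁, x₂} : Set Γ) with hL
  have hmapL : L.map σ = Subgroup.closure ({σ x₁, σ x₂} : Set G) := by
    rw [hL, MonoidHom.map_closure]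
    congr 1
    ext g
    simp only [Set.mem_image, Set.mem_insert_iff, Set.mem_singleton_iff]
    constructor
    · rintro ⟨y, rfl | rfl, rfl⟩
      · left; rfl
      · right; rfl
    · rintro (rfl | rfl)
      · exact ⟨x₁, Or.inl rfl, rfl⟩
      · exact ⟨x₂, Or.inr rfl, rfl⟩
  set H : Subgroup Γ := S.comap σ with hH
  have haH : a ∈ H := by
    rw [hH, Subgroup.mem_comap, MonoidHom.mem_ker.mp ha]
    exact Subgroup.one_mem _
  have htr := pow_index_mem_commutator H a (hK ha) (hC ha) haH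
  have hle : commutator ↥H ≤ N.comap H.subtype := by
    rw [commutator_eq_closure, Subgroup.closure_le]
    rintro _ ⟨x, y, rfl⟩
    rw [SetLike.mem_coe, Subgroup.mem_comap]
    have hx : σ x ∈ L.map σ := by rw [hmapL]; exact hS x.2
    have hy : σ y ∈ L.map σ := by rw [hmapL]; exact hS y.2
    obtain ⟨x', hx'L, hx'⟩ := hx
    obtain ⟨y', hy'L, hy'⟩ := hy
    have e : (H.subtype ⁅x, y⁆ : Γ) = ⁅x', y'⁆ := by
      rw [map_commutatorElement]
      apply comm_congr σ hK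
      · exact hx'.symm
      · exact hy'.symm
    rw [e]
    exact comm_mem_of_closure_pair x₁ x₂ N h₁ h₂ hc hx'L hy'L
  have h1 : a ^ H.index ∈ N := by
    have := hle htr
    rw [Subgroup.mem_comap] at this
    simpa using this
  have hidx' : ¬ r ∣ H.index := by
    rw [hH, Subgroup.index_comap_of_surjective _ hσ]
    exact hidx
  obtain ⟨k, hk⟩ := har
  have hcop : Nat.Coprime H.index (orderOf a) := by
    rw [hk]
    apply Nat.Coprime.pow_right
    rw [Nat.coprime_comm]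
    exact (Nat.Prime.coprime_iff_not_dvd hr.out).mpr hidx'
  obtain ⟨m, hm⟩ := exists_pow_eq_self_of_coprime hcop
  rw [← hm]
  exact Subgroup.pow_mem _ h1 _

include hσ hK hC in
/-- abelian two-generated subgroup of index prime to `r` -/
theorem abelian_pair_mem (r : ℕ) [hr : Fact r.Prime] (S : Subgroup G) (hidx : ¬ r ∣ S.index)
    (x₁ x₂ : Γ) (hS : S ≤ Subgroup.closure ({σ x₁, σ x₂} : Set G))
    (hcomm : σ x₁ * σ x₂ = σ x₂ * σ x₁)
    (a : Γ) (ha : a ∈ σ.ker) (har : ∃ k, orderOf a = r ^ k) :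
    a ∈ Subgroup.zpowers ⁅x₁, x₂⁆ := by
  have hz : ⁅x₁, x₂⁆ ∈ Subgroup.center Γ := commute_of_map_commute σ hK hcomm
  have hN : ∀ g : Γ, ∀ n ∈ Subgroup.zpowers ⁅x₁, x₂⁆,
      g * n * g⁻¹ ∈ Subgroup.zpowers ⁅x₁, x₂⁆ ∧ g⁻¹ * n * g ∈ Subgroup.zpowers ⁅x₁, x₂⁆ := by
    intro g n hn
    have hn' : n ∈ Subgroup.center Γ := by
      obtain ⟨j, rfl⟩ := hn
      exact Subgroup.zpow_mem _ hz j
    have hc := Subgroup.mem_center_iff.mp hn'
    constructor
    · rw [hc g, mul_inv_cancel_right]; exact hn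
    · rw [mul_assoc, ← hc g, inv_mul_cancel_left]; exact hn
  exact primary_mem σ hσ hK hC r S hidx x₁ x₂ hS _ (hN x₁) (hN x₂) (Subgroup.mem_zpowers _)
    a ha har

include hK in
/-- the commutator of lifts of commuting elements has order dividing the order of the first -/
theorem comm_pow_eq_one (x₁ x₂ : Γ) (hcomm : σ x₁ * σ x₂ = σ x₂ * σ x₁) (m : ℕ)
    (hm : σ x₁ ^ m = 1) : ⁅x₁, x₂⁆ ^ m = 1 := by
  have hz : ⁅x₁, x₂⁆ ∈ Subgroup.center Γ := commute_of_map_commute σ hK hcomm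
  have hcz : ∀ g : Γ, Commute g ⁅x₁, x₂⁆ := fun g => Subgroup.mem_center_iff.mp hz g
  have key : ∀ j : ℕ, ⁅x₁ ^ j, x₂⁆ = ⁅x₁, x₂⁆ ^ j := by
    intro j
    induction j with
    | zero => simp
    | succ j ih =>
      rw [pow_succ, comm_mul_left _ _ _ (hcz _), ih]
      first | rw [← pow_succ] | rw [← pow_succ']
  rw [← key]
  have hk : x₁ ^ m ∈ Subgroup.center Γ := by
    apply hK
    rw [MonoidHom.mem_ker, map_pow, hm]
  rw [commutatorElement_eq_one_iff_commute]
  exact (Subgroup.mem_center_iff.mp hk x₂).symm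

include hσ hK hC in
/-- dihedral subgroup of order 8 and odd index -/
theorem dihedral_mem (S : Subgroup G) (hidx : ¬ 2 ∣ S.index)
    (xρ xτ : Γ) (hS : S ≤ Subgroup.closure ({σ xτ, σ xρ} : Set G))
    (hrel : σ xτ * σ xρ * (σ xτ)⁻¹ * σ xρ = 1) (hρ4 : σ xρ ^ 4 = 1) (hρ2 : σ xρ ^ 2 ≠ 1)
    (a : Γ) (ha : a ∈ σ.ker) (har : ∃ k, orderOf a = 2 ^ k) :
    a ∈ Subgroup.zpowers (⁅xτ, xρ⁆ ^ 2) ∧ (⁅xτ, xρ⁆ ^ 2) ^ 2 = 1 := by
  have : Fact (Nat.Prime 2) := ⟨Nat.prime_two⟩
  have hk : xτ * xρ * xτ⁻¹ * xρ ∈ Subgroup.center Γ := by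
    apply hK
    rw [MonoidHom.mem_ker, map_mul, map_mul, map_mul, map_inv, hrel]
  have hcdef := Cfsg.Agent.Helper20.dihC_eq_comm xρ xτ
  have h1 := Cfsg.Agent.Helper20.dih_rho_comm xρ xτ hk
  have h2 := Cfsg.Agent.Helper20.dih_tau_inv xρ xτ hk
  rw [hcdef] at h1 h2
  set c : Γ := ⁅xτ, xρ⁆ with hc
  have hNτ : ∀ n ∈ Subgroup.zpowers c,
      xτ * n * xτ⁻¹ ∈ Subgroup.zpowers c ∧ xτ⁻¹ * n * xτ ∈ Subgroup.zpowers c := by
    apply Cfsg.Agent.Helper20.conj_mem_zpowers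
    · rw [h2]; exact Subgroup.inv_mem _ (Subgroup.mem_zpowers _)
    · have : xτ⁻¹ * c * xτ = c⁻¹ := by
        have e : xτ⁻¹ * (xτ * c * xτ⁻¹) * xτ = c := by group
        rw [h2] at e
        calc xτ⁻¹ * c * xτ = (xτ⁻¹ * c⁻¹ * xτ)⁻¹ := by group
          _ = c⁻¹ := by rw [e]
      rw [this]; exact Subgroup.inv_mem _ (Subgroup.mem_zpowers _)
  have hNρ : ∀ n ∈ Subgroup.zpowers c,
      xρ * n * xρ⁻¹ ∈ Subgroup.zpowers c ∧ xρ⁻¹ * n * xρ ∈ Subgroup.zpowers c := by
    apply Cfsg.Agent.Helper20.conj_mem_zpowers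
    · rw [h1]; exact Subgroup.mem_zpowers _
    · have : xρ⁻¹ * c * xρ = c := by
        have e : xρ⁻¹ * (xρ * c * xρ⁻¹) * xρ = c := by group
        rw [h1] at e
        exact e
      rw [this]; exact Subgroup.mem_zpowers _
  have hmem := primary_mem σ hσ hK hC 2 S hidx xτ xρ hS _ hNτ hNρ (Subgroup.mem_zpowers _)
    a ha har
  -- `c ^ 4 = 1`
  have hc4 : c ^ 4 = 1 := by
    have hcen : xρ ^ 4 ∈ Subgroup.center Γ := by
      apply hK
      rw [MonoidHom.mem_ker, map_pow, hρ4]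
    have he : xτ * xρ ^ 4 * xτ⁻¹ = xρ ^ 4 := by
      rw [Subgroup.mem_center_iff.mp hcen xτ, mul_inv_cancel_right]
    have := Cfsg.Agent.Helper20.dih_pow_eq_one xρ xτ hk 4 he
    rw [hcdef] at this
    exact this
  refine ⟨?_, by rw [← pow_mul]; exact hc4⟩
  -- the exponent is even
  obtain ⟨j, hj⟩ := Subgroup.mem_zpowers_iff.mp hmem
  have hσc : σ c = (σ xρ ^ 2)⁻¹ := by
    rw [hc, map_commutatorElement, commutatorElement_def]
    have e : σ xτ * σ xρ * (σ xτ)⁻¹ = (σ xρ)⁻¹ := by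
      rw [eq_inv_iff_mul_eq_one]; exact hrel
    rw [e, pow_two, mul_inv_rev]
  have hord : orderOf (σ c) = 2 := by
    apply orderOf_eq_prime
    · rw [hσc, inv_pow, ← pow_mul, hρ4, inv_one]
    · rw [hσc]
      intro h
      exact hρ2 (inv_eq_one.mp h)
  have h1' : σ c ^ j = 1 := by
    rw [← map_zpow, hj]
    exact MonoidHom.mem_ker.mp ha
  have hdvd : (2 : ℤ) ∣ j := by
    have := orderOf_dvd_iff_zpow_eq_one.mpr h1'
    rw [hord] at this
    exact_mod_cast this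
  obtain ⟨i, rfl⟩ := hdvd
  refine Subgroup.mem_zpowers_iff.mpr ⟨i, ?_⟩
  rw [← hj, zpow_mul]
  norm_cast

end main

end Cfsg.Agent.Helper11.MultBound
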