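import Mathlib
import Cfsg.Agent.Helper11.CoverB

/-! Existence of the universal central extension of a finite perfect group. -/

set_option autoImplicit false
set_option linter.unusedSectionVars false

namespace Cfsg.Agent.Helper11.Cover

open scoped commutatorElement
open Cfsg.Agent.Helper11.SzMult

universe u

section

variable {Q : Type u} [Group Q]

/-- the canonical map from the free group on `Q` -/
noncomputable def phiF : FreeGroup Q →* Q := FreeGroup.lift id

theorem phiF_surjective : Function.Surjective (phiF (Q := Q)) := fun q =>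
  ⟨FreeGroup.of q, by simp [phiF]⟩

/-- `[F, R]` -/
noncomputable def relN : Subgroup (FreeGroup Q) := ⁅(⊤ : Subgroup (FreeGroup Q)), (phiF (Q := Q)).ker⁆

instance : (relN (Q := Q)).Normal := by
  unfold relN; infer_instance

theorem relN_le_ker : relN (Q := Q) ≤ (phiF (Q := Q)).ker := Subgroup.commutator_le_right _ _

/-- `F / [F, R]` -/
abbrev extE (Q : Type u) [Group Q] : Type u := FreeGroup Q ⧸ relN (Q := Q)

/-- the central extension `F / [F, R] → Q` -/
noncomputable def pE : extE Q →* Q := QuotientGroup.lift relN phiF relN_le_ker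

theorem pE_mk (f : FreeGroup Q) : pE (QuotientGroup.mk f : extE Q) = phiF f := rfl

theorem pE_surjective : Function.Surjective (pE (Q := Q)) := fun q => by
  obtain ⟨f, hf⟩ := phiF_surjective q
  exact ⟨QuotientGroup.mk f, hf⟩

theorem pE_ker_le_center : (pE (Q := Q)).ker ≤ Subgroup.center (extE Q) := by
  intro x hx
  obtain ⟨r, rfl⟩ := QuotientGroup.mk_surjective x
  rw [MonoidHom.mem_ker, pE_mk] at hx
  rw [Subgroup.mem_center_iff]
  intro y
  obtain ⟨f, rfl⟩ := QuotientGroup.mk_surjective y
  have h1 : ⁅f, r⁆ ∈ relN (Q := Q) :=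
    Subgroup.commutator_mem_commutator (Subgroup.mem_top f) (MonoidHom.mem_ker.mpr hx)
  have h2 : (QuotientGroup.mk ⁅f, r⁆ : extE Q) = 1 := (QuotientGroup.eq_one_iff _).mpr h1
  rw [commutatorElement_def] at h2
  have h3 : (QuotientGroup.mk f : extE Q) * QuotientGroup.mk r * (QuotientGroup.mk f)⁻¹ *
      (QuotientGroup.mk r)⁻¹ = 1 := by
    simpa using h2
  have h4 : (QuotientGroup.mk f : extE Q) * QuotientGroup.mk r =
      QuotientGroup.mk r * QuotientGroup.mk f := by
    have := congrArg (fun w => w * (QuotientGroup.mk r : extE Q) * QuotientGroup.mk f) h3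
    simpa [mul_assoc] using this
  exact h4

end

/-- a finite perfect group has a universal central extension -/
theorem exists_universal {Q : Type u} [Group Q] [Finite Q] (hQ : commutator Q = ⊤) :
    ∃ (G : Type u) (_ : Group G) (_ : Finite G) (π : G →* Q), commutator G = ⊤ ∧
      Function.Surjective π ∧ π.ker ≤ Subgroup.center G ∧
      ∀ (X : Type u) [Group X] (ξ : X →* Q), Function.Surjective ξ →
        ξ.ker ≤ Subgroup.center X → ∃! η : G →* X, ξ.comp η = π := by
  classical
  have hfin : Finite ↥(commutator (extE Q)) :=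
    finite_commutator (pE (Q := Q)) pE_surjective pE_ker_le_center
  have hperf := commutator_perfect (pE (Q := Q)) pE_surjective pE_ker_le_center hQ
  refine ⟨↥(commutator (extE Q)), inferInstance, hfin, rho pE, hperf,
    rho_surjective pE pE_surjective hQ, rho_ker_le_center pE pE_ker_le_center, ?_⟩
  intro X _ ξ hξ hξk
  -- existence
  let s : Q → X := Function.surjInv hξ
  have hs : ∀ q, ξ (s q) = q := Function.surjInv_eq hξ
  let ψ : FreeGroup Q →* X := FreeGroup.lift s
  have hψ : ξ.comp ψ = phiF := by
    ext q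
    simp [ψ, phiF, hs]
  have hψv : ∀ f, ξ (ψ f) = phiF f := fun f => DFunLike.congr_fun hψ f
  have hN : relN (Q := Q) ≤ ψ.ker := by
    unfold relN
    rw [Subgroup.commutator_le]
    intro f _ r hr
    rw [MonoidHom.mem_ker, map_commutatorElement, commutatorElement_eq_one_iff_commute]
    have hc : ψ r ∈ Subgroup.center X := by
      apply hξk
      rw [MonoidHom.mem_ker, hψv]
      exact MonoidHom.mem_ker.mp hr
    exact Subgroup.mem_center_iff.mp hc (ψ f)
  let ψbar : extE Q →* X := QuotientGroup.lift relN ψ hN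
  have hψbar : ∀ x, ξ (ψbar x) = pE x := by
    intro x
    obtain ⟨f, rfl⟩ := QuotientGroup.mk_surjective x
    exact hψv f
  let η : ↥(commutator (extE Q)) →* X := ψbar.comp (commutator (extE Q)).subtype
  refine ⟨η, ?_, ?_⟩
  · ext x
    exact hψbar x
  · intro η' hη'
    have hv : ∀ g, ξ (η' g) = ξ (η g) := by
      intro g
      have h1 : ξ (η' g) = rho pE g := DFunLike.congr_fun hη' g
      rw [h1]
      exact (hψbar g).symm
    have hf : ∀ g, η' g * (η g)⁻¹ ∈ Subgroup.center X := by
      intro g
      apply hξk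
      rw [MonoidHom.mem_ker, map_mul, map_inv, hv, mul_inv_cancel]
    have hmul : ∀ a b, η' (a * b) * (η (a * b))⁻¹ = η' a * (η a)⁻¹ * (η' b * (η b)⁻¹) := by
      intro a b
      have hc := Subgroup.mem_center_iff.mp (hf b) (η a)⁻¹
      rw [map_mul, map_mul, mul_inv_rev]
      calc η' a * η' b * ((η b)⁻¹ * (η a)⁻¹) = η' a * ((η' b * (η b)⁻¹) * (η a)⁻¹) := by group
        _ = η' a * ((η a)⁻¹ * (η' b * (η b)⁻¹)) := by rw [hc]
        _ = η' a * (η a)⁻¹ * (η' b * (η b)⁻¹) := by group
    ext g
    have key := perfect_hom_center_trivial hperf (fun g => η' g * (η g)⁻¹) hf hmul g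
    exact mul_inv_eq_one.mp key

end Cfsg.Agent.Helper11.Cover
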