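import Mathlib
import Cfsg.Prelude.Def_KGroupFacts
import Cfsg.Agent.Helper11.MultBound
import Cfsg.Agent.Helper11.SL2MultA
import Cfsg.Agent.Helper8.HopfMult

/-!
# Criteria for a cyclic Schur multiplier

* `six_bound`: a finite group with Sylow 2-subgroup dihedral of order 8, Sylow 3-subgroup
  generated by two commuting elements one of which has order 3, and all other Sylow subgroups of
  prime or trivial order: the kernel of every finite stem extension is a quotient of `ZMod 6`.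
* `hasCyclic_of_bounds`: upper bound + divisibility of the order of the Hopf multiplier.
* `dvd_card_mult`: an element of `ker ∩ commutator` of a central extension gives a divisor.
-/

set_option autoImplicit false
set_option linter.unusedSectionVars false
set_option linter.unusedVariables false

namespace Cfsg.Agent.Helper11.MultCrit

open scoped commutatorElement
open Cfsg Cfsg.Agent.Helper11.SzMult Cfsg.Agent.Helper11.MultBound Cfsg.Agent.Helper8.Hopf

universe u w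

theorem isCyclic_sylow_of_sq_not_dvd {G : Type*} [Group G] [Finite G] (r : ℕ) [hr : Fact r.Prime]
    (h : ¬ r ^ 2 ∣ Nat.card G) (R : Sylow r G) : IsCyclic ↥(R : Subgroup G) := by
  have hcard := Sylow.card_eq_multiplicity R
  have hle : (Nat.card G).factorization r ≤ 1 := by
    by_contra hcon
    push Not at hcon
    apply h
    have : r ^ 2 ∣ r ^ (Nat.card G).factorization r := pow_dvd_pow r hcon
    exact this.trans (Nat.ordProj_dvd _ _)
  interval_cases hf : (Nat.card G).factorization r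
  · rw [pow_zero] at hcard
    have : Subsingleton ↥(R : Subgroup G) := (Nat.card_eq_one_iff_unique.mp hcard).1
    infer_instance
  · rw [pow_one] at hcard
    exact isCyclic_of_prime_card hcard

section six

variable {Γ G : Type*} [Group Γ] [Group G] [Finite Γ] [Finite G] (σ : Γ →* G)

theorem six_bound (hσ : IsStemExtension σ)
    (S₂ : Subgroup G) (h2 : ¬ 2 ∣ S₂.index) (ρ τ : G)
    (hS₂ : S₂ ≤ Subgroup.closure ({τ, ρ} : Set G)) (hrel : τ * ρ * τ⁻¹ * ρ = 1)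
    (hρ4 : ρ ^ 4 = 1) (hρ2 : ρ ^ 2 ≠ 1)
    (S₃ : Subgroup G) (h3 : ¬ 3 ∣ S₃.index) (g₁ g₂ : G)
    (hS₃ : S₃ ≤ Subgroup.closure ({g₁, g₂} : Set G)) (hcomm : g₁ * g₂ = g₂ * g₁)
    (hg₁ : g₁ ^ 3 = 1)
    (hr : ∀ r : ℕ, r.Prime → r ≠ 2 → r ≠ 3 → ¬ r ^ 2 ∣ Nat.card G) :
    ∃ π : Multiplicative (ZMod 6) →* σ.ker, Function.Surjective π := by
  classical
  obtain ⟨hs, hK, hC⟩ := hσ
  obtain ⟨xρ, rfl⟩ := hs ρ
  obtain ⟨xτ, rfl⟩ := hs τ
  obtain ⟨x₁, rfl⟩ := hs g₁
  obtain ⟨x₂, rfl⟩ := hs g₂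
  set w₂ : Γ := ⁅xτ, xρ⁆ ^ 2 with hw₂
  set w₃ : Γ := ⁅x₁, x₂⁆ with hw₃
  have hw₃3 : w₃ ^ 3 = 1 := comm_pow_eq_one σ hK x₁ x₂ hcomm 3 hg₁
  have hw₃K : w₃ ∈ σ.ker := by
    rw [MonoidHom.mem_ker, hw₃, map_commutatorElement, commutatorElement_eq_one_iff_commute]
    exact hcomm
  have hw₂2 : w₂ ^ 2 = 1 := by
    have h1 : (1 : Γ) ∈ σ.ker := Subgroup.one_mem _
    exact (dihedral_mem σ hs hK hC S₂ h2 xρ xτ hS₂ hrel hρ4 hρ2 1 h1 ⟨0, by simp⟩).2
  have hw₂K : w₂ ∈ σ.ker := by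
    rw [MonoidHom.mem_ker, hw₂, map_pow, map_commutatorElement, commutatorElement_def]
    have e : σ xτ * σ xρ * (σ xτ)⁻¹ = (σ xρ)⁻¹ := by
      rw [eq_inv_iff_mul_eq_one]; exact hrel
    rw [e, ← mul_inv_rev, inv_pow, ← pow_two, ← pow_mul, hρ4, inv_one]
  set w : Γ := w₂ * w₃ with hw
  have hcw : Commute w₂ w₃ := (Subgroup.mem_center_iff.mp (hK hw₃K) w₂)
  have hwK : w ∈ σ.ker := Subgroup.mul_mem _ hw₂K hw₃K
  have hw6 : w ^ 6 = 1 := by
    rw [hw, hcw.mul_pow]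
    have e2 : w₂ ^ 6 = 1 := by
      have : (6 : ℕ) = 2 * 3 := rfl
      rw [this, pow_mul, hw₂2, one_pow]
    have e3 : w₃ ^ 6 = 1 := by
      have : (6 : ℕ) = 3 * 2 := rfl
      rw [this, pow_mul, hw₃3, one_pow]
    rw [e2, e3, one_mul]
  have hw₂w : w₂ ∈ Subgroup.zpowers w := by
    have : w₂ = w ^ 3 := by
      rw [hw, hcw.mul_pow, hw₃3, mul_one]
      have : (3 : ℕ) = 2 + 1 := rfl
      rw [this, pow_succ, hw₂2, one_mul]
    rw [this]
    exact Subgroup.pow_mem _ (Subgroup.mem_zpowers w) 3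
  have hw₃w : w₃ ∈ Subgroup.zpowers w := by
    have : w₃ = w ^ 4 := by
      rw [hw, hcw.mul_pow]
      have h4 : (4 : ℕ) = 2 * 2 := rfl
      have h4' : (4 : ℕ) = 3 + 1 := rfl
      rw [show w₂ ^ 4 = 1 by rw [h4, pow_mul, hw₂2, one_pow],
        show w₃ ^ 4 = w₃ by rw [h4', pow_succ, hw₃3, one_mul], one_mul]
    rw [this]
    exact Subgroup.pow_mem _ (Subgroup.mem_zpowers w) 4
  have hall : ∀ a ∈ σ.ker, a ∈ Subgroup.zpowers w := by
    intro a ha
    apply Cfsg.Agent.Helper15.SSolv.mem_of_primary (Subgroup.zpowers w) (orderOf a) a rfl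
    rintro k ⟨q, e, hq, hord⟩
    have hak : a ^ k ∈ σ.ker := Subgroup.pow_mem _ ha k
    by_cases hq2 : q = 2
    · subst hq2
      have := (dihedral_mem σ hs hK hC S₂ h2 xρ xτ hS₂ hrel hρ4 hρ2 (a ^ k) hak ⟨e, hord⟩).1
      exact (Subgroup.zpowers_le.mpr hw₂w) this
    by_cases hq3 : q = 3
    · subst hq3
      have : Fact (Nat.Prime 3) := ⟨Nat.prime_three⟩
      have := abelian_pair_mem σ hs hK hC 3 S₃ h3 x₁ x₂ hS₃ hcomm (a ^ k) hak ⟨e, hord⟩
      exact (Subgroup.zpowers_le.mpr hw₃w) this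
    -- other primes: cyclic Sylow subgroups
    have : Fact q.Prime := ⟨hq⟩
    rcases Nat.eq_zero_or_pos e with he | he
    · rw [he, pow_zero, orderOf_eq_one_iff] at hord
      rw [hord]
      exact Subgroup.one_mem _
    · exfalso
      let R : Sylow q G := Classical.arbitrary _
      have hcyc := isCyclic_sylow_of_sq_not_dvd q (hr q hq hq2 hq3) R
      set b : Γ := (a ^ k) ^ q ^ (e - 1) with hb
      have hbK : b ∈ σ.ker := Subgroup.pow_mem _ hak _
      have hbq : b ^ q = 1 := by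
        rw [hb, ← pow_mul, ← pow_succ, Nat.sub_add_cancel he, ← hord, pow_orderOf_eq_one]
      have hb1 := cyclic_sylow_part σ hs hK q R hcyc b hbK (hC hbK) hbq
      have hdvd := orderOf_dvd_of_pow_eq_one hb1
      rw [hord] at hdvd
      have hlt : q ^ (e - 1) < q ^ e := Nat.pow_lt_pow_right hq.one_lt (by omega)
      exact absurd (Nat.le_of_dvd (Nat.pos_of_ne_zero (pow_ne_zero _ hq.ne_zero)) hdvd) (by omega)
  refine Cfsg.Agent.Helper20.exists_surj_of_zpowers (K := σ.ker) 6 ⟨w, hwK⟩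
    (Subtype.ext (by simpa using hw6)) ?_
  intro k
  obtain ⟨j, hj⟩ := Subgroup.mem_zpowers_iff.mp (hall k.1 k.2)
  exact Subgroup.mem_zpowers_iff.mpr ⟨j, Subtype.ext (by simpa using hj)⟩

end six

section crit

variable {Q : Type u} [Group Q] [Finite Q]

theorem dvd_card_mult {X : Type w} [Group X] [Finite X] (ξ : X →* Q) (hξ : Function.Surjective ξ)
    (hk : ξ.ker ≤ Subgroup.center X) (x : X) (hx : x ∈ ξ.ker) (hxc : x ∈ commutator X) :
    orderOf x ∣ Nat.card (mult Q) := by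
  obtain ⟨π, hπ⟩ := exists_mult_surjection ξ hξ hk
  have h1 : Nat.card ↥(ξ.ker ⊓ commutator X) ∣ Nat.card (mult Q) :=
    Subgroup.card_dvd_of_surjective π hπ
  have h2 : orderOf (⟨x, ⟨hx, hxc⟩⟩ : ↥(ξ.ker ⊓ commutator X)) ∣
      Nat.card ↥(ξ.ker ⊓ commutator X) := orderOf_dvd_natCard _
  have h3 : orderOf (⟨x, ⟨hx, hxc⟩⟩ : ↥(ξ.ker ⊓ commutator X)) = orderOf x :=
    Subgroup.orderOf_mk x _
  rw [h3] at h2
  exact h2.trans h1

theorem hasCyclic_of_bounds (n : ℕ) [NeZero n]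
    (hU : ∀ (Γ : Type u) [Group Γ] [Finite Γ] (σ : Γ →* Q), IsStemExtension σ →
      ∃ π : Multiplicative (ZMod n) →* σ.ker, Function.Surjective π)
    (hL : n ∣ Nat.card (mult Q)) : HasCyclicSchurMultiplier Q n := by
  classical
  obtain ⟨Γ₀, i1, i2, σ₀, hσ₀, ⟨e₀⟩⟩ := exists_cover (Q := Q)
  obtain ⟨π, hπ⟩ := hU Γ₀ σ₀ hσ₀
  have hc1 : Nat.card σ₀.ker = Nat.card (mult Q) := Nat.card_congr e₀.toEquiv
  have hpos : 0 < Nat.card (mult Q) := Nat.card_pos
  have hle : n ≤ Nat.card σ₀.ker := by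
    rw [hc1]; exact Nat.le_of_dvd hpos hL
  have hcn : Nat.card (Multiplicative (ZMod n)) = n := by
    rw [Nat.card_eq_fintype_card, Fintype.card_multiplicative]
    exact ZMod.card n
  have hbij : Function.Bijective π := by
    apply hπ.bijective_of_nat_card_le
    rw [hcn]; exact hle
  refine ⟨⟨Γ₀, i1, i2, σ₀, hσ₀, ⟨(MulEquiv.ofBijective π hbij).symm⟩⟩, ?_⟩
  intro Γ _ _ σ hσ
  exact hU Γ σ hσ

end crit

end Cfsg.Agent.Helper11.MultCrit
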