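import Mathlib
import Cfsg.Prelude.Def_KGroupFacts
import Cfsg.Agent.Helper11.MultCrit

/-!
# Upper bound for the Schur multipliers of `A₆` and `A₇`

The kernel of every finite stem extension of `A₆` or `A₇` is a quotient of `ZMod 6`: the Sylow
2-subgroups are dihedral of order 8, the Sylow 3-subgroups elementary abelian of order 9, the
others of prime order.
-/

set_option autoImplicit false
set_option linter.unusedSectionVars false
set_option linter.unusedVariables false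

namespace Cfsg.Agent.Helper11.AltBound

open Cfsg

/-- a finite subgroup given by a list closed under the operations -/
def listSubgroup {G : Type*} [Group G] [DecidableEq G] (L : List G) (h1 : 1 ∈ L)
    (hmul : ∀ a ∈ L, ∀ b ∈ L, a * b ∈ L) (hinv : ∀ a ∈ L, a⁻¹ ∈ L) : Subgroup G where
  carrier := {g | g ∈ L}
  mul_mem' := fun ha hb => hmul _ ha _ hb
  one_mem' := h1
  inv_mem' := fun ha => hinv _ ha

theorem mem_listSubgroup {G : Type*} [Group G] [DecidableEq G] (L : List G) (h1 : 1 ∈ L)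
    (hmul : ∀ a ∈ L, ∀ b ∈ L, a * b ∈ L) (hinv : ∀ a ∈ L, a⁻¹ ∈ L) (g : G) :
    g ∈ listSubgroup L h1 hmul hinv ↔ g ∈ L := Iff.rfl

theorem card_listSubgroup {G : Type*} [Group G] [DecidableEq G] (L : List G) (h1 : 1 ∈ L)
    (hmul : ∀ a ∈ L, ∀ b ∈ L, a * b ∈ L) (hinv : ∀ a ∈ L, a⁻¹ ∈ L) (hnd : L.Nodup) :
    Nat.card (listSubgroup L h1 hmul hinv) = L.length := by
  have : Nat.card (listSubgroup L h1 hmul hinv) = Nat.card {g // g ∈ L.toFinset} := by
    apply Nat.card_congr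
    exact Equiv.subtypeEquivRight (fun g => by rw [mem_listSubgroup, List.mem_toFinset])
  rw [this, Nat.card_eq_fintype_card, Fintype.card_coe, List.toFinset_card_of_nodup hnd]

/-- Boolean closure checks (fast in the kernel) -/
def chkMul {G : Type*} [Group G] [DecidableEq G] (L : List G) : Bool :=
  L.all fun a => L.all fun b => decide (a * b ∈ L)

def chkInv {G : Type*} [Group G] [DecidableEq G] (L : List G) : Bool :=
  L.all fun a => decide (a⁻¹ ∈ L)

theorem mul_of_chk {G : Type*} [Group G] [DecidableEq G] (L : List G) (h : chkMul L = true) :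
    ∀ a ∈ L, ∀ b ∈ L, a * b ∈ L := by
  intro a ha b hb
  simp only [chkMul, List.all_eq_true, decide_eq_true_eq] at h
  exact h a ha b hb

theorem inv_of_chk {G : Type*} [Group G] [DecidableEq G] (L : List G) (h : chkInv L = true) :
    ∀ a ∈ L, a⁻¹ ∈ L := by
  intro a ha
  simp only [chkInv, List.all_eq_true, decide_eq_true_eq] at h
  exact h a ha

theorem sq_not_dvd_360 (r : ℕ) (hr : r.Prime) (h2 : r ≠ 2) (h3 : r ≠ 3) : ¬ r ^ 2 ∣ 360 := by
  intro h
  have hle : r ^ 2 ≤ 360 := Nat.le_of_dvd (by norm_num) h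
  have hr19 : r < 19 := by nlinarith
  interval_cases r <;> first | omega | (norm_num at hr)

theorem sq_not_dvd_2520 (r : ℕ) (hr : r.Prime) (h2 : r ≠ 2) (h3 : r ≠ 3) : ¬ r ^ 2 ∣ 2520 := by
  intro h
  have hle : r ^ 2 ≤ 2520 := Nat.le_of_dvd (by norm_num) h
  have hr51 : r < 51 := by nlinarith
  interval_cases r <;> first | omega | (norm_num at hr)

section n6

/-- permutations by tables -/
def mk6 (f g : Fin 6 → Fin 6) (h1 : ∀ i, g (f i) = i) (h2 : ∀ i, f (g i) = i) :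
    Equiv.Perm (Fin 6) := ⟨f, g, h1, h2⟩

abbrev Q6 := alternatingGroup (Fin 6)

def rho6 : Q6 := ⟨mk6 ![1, 2, 3, 0, 5, 4] ![3, 0, 1, 2, 5, 4] (by decide) (by decide),
  Equiv.Perm.mem_alternatingGroup.mpr (by decide)⟩
def tau6 : Q6 := ⟨mk6 ![0, 3, 2, 1, 5, 4] ![0, 3, 2, 1, 5, 4] (by decide) (by decide),
  Equiv.Perm.mem_alternatingGroup.mpr (by decide)⟩
def ga6 : Q6 := ⟨mk6 ![1, 2, 0, 3, 4, 5] ![2, 0, 1, 3, 4, 5] (by decide) (by decide),
  Equiv.Perm.mem_alternatingGroup.mpr (by decide)⟩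
def gb6 : Q6 := ⟨mk6 ![0, 1, 2, 4, 5, 3] ![0, 1, 2, 5, 3, 4] (by decide) (by decide),
  Equiv.Perm.mem_alternatingGroup.mpr (by decide)⟩

def L2_6 : List Q6 := [1, rho6, rho6 ^ 2, rho6 ^ 3, tau6, rho6 * tau6,
  rho6 ^ 2 * tau6, rho6 ^ 3 * tau6]

def L3_6 : List Q6 := [1, ga6, ga6 ^ 2, gb6, ga6 * gb6, ga6 ^ 2 * gb6, gb6 ^ 2,
  ga6 * gb6 ^ 2, ga6 ^ 2 * gb6 ^ 2]

set_option maxRecDepth 100000 in
theorem L2_6_one : (1 : Q6) ∈ L2_6 := by decide +kernel
set_option maxRecDepth 100000 in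
theorem L2_6_mul : ∀ a ∈ L2_6, ∀ b ∈ L2_6, a * b ∈ L2_6 :=
  mul_of_chk _ (by decide +kernel)
set_option maxRecDepth 100000 in
theorem L2_6_inv : ∀ a ∈ L2_6, a⁻¹ ∈ L2_6 :=
  inv_of_chk _ (by decide +kernel)
set_option maxRecDepth 100000 in
theorem L2_6_nodup : L2_6.Nodup := by decide +kernel
set_option maxRecDepth 100000 in
theorem L3_6_one : (1 : Q6) ∈ L3_6 := by decide +kernel
set_option maxRecDepth 100000 in
theorem L3_6_mul : ∀ a ∈ L3_6, ∀ b ∈ L3_6, a * b ∈ L3_6 :=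
  mul_of_chk _ (by decide +kernel)
set_option maxRecDepth 100000 in
theorem L3_6_inv : ∀ a ∈ L3_6, a⁻¹ ∈ L3_6 :=
  inv_of_chk _ (by decide +kernel)
set_option maxRecDepth 100000 in
theorem L3_6_nodup : L3_6.Nodup := by decide +kernel

def S2_6 : Subgroup Q6 := listSubgroup L2_6 L2_6_one L2_6_mul L2_6_inv
def S3_6 : Subgroup Q6 := listSubgroup L3_6 L3_6_one L3_6_mul L3_6_inv

theorem card_Q6 : Nat.card Q6 = 360 := by
  rw [nat_card_alternatingGroup, Nat.card_eq_fintype_card, Fintype.card_fin]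
  decide

theorem index_S2_6 : S2_6.index = 45 := by
  have h := Subgroup.card_mul_index S2_6
  have hc : Nat.card S2_6 = 8 := card_listSubgroup _ _ _ _ L2_6_nodup
  rw [hc, card_Q6] at h
  omega

theorem index_S3_6 : S3_6.index = 40 := by
  have h := Subgroup.card_mul_index S3_6
  have hc : Nat.card S3_6 = 9 := card_listSubgroup _ _ _ _ L3_6_nodup
  rw [hc, card_Q6] at h
  omega

theorem S2_6_le : S2_6 ≤ Subgroup.closure ({tau6, rho6} : Set Q6) := by
  intro g hg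
  have hr : rho6 ∈ Subgroup.closure ({tau6, rho6} : Set Q6) :=
    Subgroup.subset_closure (by simp)
  have ht : tau6 ∈ Subgroup.closure ({tau6, rho6} : Set Q6) :=
    Subgroup.subset_closure (by simp)
  change g ∈ L2_6 at hg
  simp only [L2_6, List.mem_cons, List.not_mem_nil, or_false] at hg
  rcases hg with rfl | rfl | rfl | rfl | rfl | rfl | rfl | rfl
  · exact Subgroup.one_mem _
  · exact hr
  · exact Subgroup.pow_mem _ hr _
  · exact Subgroup.pow_mem _ hr _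
  · exact ht
  · exact Subgroup.mul_mem _ hr ht
  · exact Subgroup.mul_mem _ (Subgroup.pow_mem _ hr _) ht
  · exact Subgroup.mul_mem _ (Subgroup.pow_mem _ hr _) ht

theorem S3_6_le : S3_6 ≤ Subgroup.closure ({ga6, gb6} : Set Q6) := by
  intro g hg
  have ha : ga6 ∈ Subgroup.closure ({ga6, gb6} : Set Q6) :=
    Subgroup.subset_closure (by simp)
  have hb : gb6 ∈ Subgroup.closure ({ga6, gb6} : Set Q6) :=
    Subgroup.subset_closure (by simp)
  change g ∈ L3_6 at hg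
  simp only [L3_6, List.mem_cons, List.not_mem_nil, or_false] at hg
  rcases hg with rfl | rfl | rfl | rfl | rfl | rfl | rfl | rfl | rfl
  · exact Subgroup.one_mem _
  · exact ha
  · exact Subgroup.pow_mem _ ha _
  · exact hb
  · exact Subgroup.mul_mem _ ha hb
  · exact Subgroup.mul_mem _ (Subgroup.pow_mem _ ha _) hb
  · exact Subgroup.pow_mem _ hb _
  · exact Subgroup.mul_mem _ ha (Subgroup.pow_mem _ hb _)
  · exact Subgroup.mul_mem _ (Subgroup.pow_mem _ ha _) (Subgroup.pow_mem _ hb _)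

set_option maxRecDepth 100000 in
theorem rel_6 : tau6 * rho6 * tau6⁻¹ * rho6 = 1 ∧ rho6 ^ 4 = 1 ∧ rho6 ^ 2 ≠ 1 ∧
    ga6 * gb6 = gb6 * ga6 ∧ ga6 ^ 3 = 1 := by decide +kernel

/-- the kernel of a finite stem extension of `A_6` is a quotient of `ZMod 6` -/
theorem bound_6 {Γ : Type*} [Group Γ] [Finite Γ] (σ : Γ →* Q6) (hσ : IsStemExtension σ) :
    ∃ π : Multiplicative (ZMod 6) →* σ.ker, Function.Surjective π := by
  obtain ⟨r1, r2, r3, r4, r5⟩ := rel_6
  refine Cfsg.Agent.Helper11.MultCrit.six_bound σ hσ S2_6 ?_ rho6 tau6 S2_6_le r1 r2 r3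
    S3_6 ?_ ga6 gb6 S3_6_le r4 r5 ?_
  · rw [index_S2_6]; decide
  · rw [index_S3_6]; decide
  · intro r hr h2 h3
    rw [card_Q6]
    exact sq_not_dvd_360 r hr h2 h3

end n6

section n7

/-- permutations by tables -/
def mk7 (f g : Fin 7 → Fin 7) (h1 : ∀ i, g (f i) = i) (h2 : ∀ i, f (g i) = i) :
    Equiv.Perm (Fin 7) := ⟨f, g, h1, h2⟩

abbrev Q7 := alternatingGroup (Fin 7)

def rho7 : Q7 := ⟨mk7 ![1, 2, 3, 0, 5, 4, 6] ![3, 0, 1, 2, 5, 4, 6] (by decide) (by decide),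
  Equiv.Perm.mem_alternatingGroup.mpr (by decide)⟩
def tau7 : Q7 := ⟨mk7 ![0, 3, 2, 1, 5, 4, 6] ![0, 3, 2, 1, 5, 4, 6] (by decide) (by decide),
  Equiv.Perm.mem_alternatingGroup.mpr (by decide)⟩
def ga7 : Q7 := ⟨mk7 ![1, 2, 0, 3, 4, 5, 6] ![2, 0, 1, 3, 4, 5, 6] (by decide) (by decide),
  Equiv.Perm.mem_alternatingGroup.mpr (by decide)⟩
def gb7 : Q7 := ⟨mk7 ![0, 1, 2, 4, 5, 3, 6] ![0, 1, 2, 5, 3, 4, 6] (by decide) (by decide),
  Equiv.Perm.mem_alternatingGroup.mpr (by decide)⟩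

def L2_7 : List Q7 := [1, rho7, rho7 ^ 2, rho7 ^ 3, tau7, rho7 * tau7,
  rho7 ^ 2 * tau7, rho7 ^ 3 * tau7]

def L3_7 : List Q7 := [1, ga7, ga7 ^ 2, gb7, ga7 * gb7, ga7 ^ 2 * gb7, gb7 ^ 2,
  ga7 * gb7 ^ 2, ga7 ^ 2 * gb7 ^ 2]

set_option maxRecDepth 100000 in
theorem L2_7_one : (1 : Q7) ∈ L2_7 := by decide +kernel
set_option maxRecDepth 100000 in
theorem L2_7_mul : ∀ a ∈ L2_7, ∀ b ∈ L2_7, a * b ∈ L2_7 :=
  mul_of_chk _ (by decide +kernel)
set_option maxRecDepth 100000 in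
theorem L2_7_inv : ∀ a ∈ L2_7, a⁻¹ ∈ L2_7 :=
  inv_of_chk _ (by decide +kernel)
set_option maxRecDepth 100000 in
theorem L2_7_nodup : L2_7.Nodup := by decide +kernel
set_option maxRecDepth 100000 in
theorem L3_7_one : (1 : Q7) ∈ L3_7 := by decide +kernel
set_option maxRecDepth 100000 in
theorem L3_7_mul : ∀ a ∈ L3_7, ∀ b ∈ L3_7, a * b ∈ L3_7 :=
  mul_of_chk _ (by decide +kernel)
set_option maxRecDepth 100000 in
theorem L3_7_inv : ∀ a ∈ L3_7, a⁻¹ ∈ L3_7 :=
  inv_of_chk _ (by decide +kernel)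
set_option maxRecDepth 100000 in
theorem L3_7_nodup : L3_7.Nodup := by decide +kernel

def S2_7 : Subgroup Q7 := listSubgroup L2_7 L2_7_one L2_7_mul L2_7_inv
def S3_7 : Subgroup Q7 := listSubgroup L3_7 L3_7_one L3_7_mul L3_7_inv

theorem card_Q7 : Nat.card Q7 = 2520 := by
  rw [nat_card_alternatingGroup, Nat.card_eq_fintype_card, Fintype.card_fin]
  decide

theorem index_S2_7 : S2_7.index = 315 := by
  have h := Subgroup.card_mul_index S2_7
  have hc : Nat.card S2_7 = 8 := card_listSubgroup _ _ _ _ L2_7_nodup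
  rw [hc, card_Q7] at h
  omega

theorem index_S3_7 : S3_7.index = 280 := by
  have h := Subgroup.card_mul_index S3_7
  have hc : Nat.card S3_7 = 9 := card_listSubgroup _ _ _ _ L3_7_nodup
  rw [hc, card_Q7] at h
  omega

theorem S2_7_le : S2_7 ≤ Subgroup.closure ({tau7, rho7} : Set Q7) := by
  intro g hg
  have hr : rho7 ∈ Subgroup.closure ({tau7, rho7} : Set Q7) :=
    Subgroup.subset_closure (by simp)
  have ht : tau7 ∈ Subgroup.closure ({tau7, rho7} : Set Q7) :=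
    Subgroup.subset_closure (by simp)
  change g ∈ L2_7 at hg
  simp only [L2_7, List.mem_cons, List.not_mem_nil, or_false] at hg
  rcases hg with rfl | rfl | rfl | rfl | rfl | rfl | rfl | rfl
  · exact Subgroup.one_mem _
  · exact hr
  · exact Subgroup.pow_mem _ hr _
  · exact Subgroup.pow_mem _ hr _
  · exact ht
  · exact Subgroup.mul_mem _ hr ht
  · exact Subgroup.mul_mem _ (Subgroup.pow_mem _ hr _) ht
  · exact Subgroup.mul_mem _ (Subgroup.pow_mem _ hr _) ht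

theorem S3_7_le : S3_7 ≤ Subgroup.closure ({ga7, gb7} : Set Q7) := by
  intro g hg
  have ha : ga7 ∈ Subgroup.closure ({ga7, gb7} : Set Q7) :=
    Subgroup.subset_closure (by simp)
  have hb : gb7 ∈ Subgroup.closure ({ga7, gb7} : Set Q7) :=
    Subgroup.subset_closure (by simp)
  change g ∈ L3_7 at hg
  simp only [L3_7, List.mem_cons, List.not_mem_nil, or_false] at hg
  rcases hg with rfl | rfl | rfl | rfl | rfl | rfl | rfl | rfl | rfl
  · exact Subgroup.one_mem _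
  · exact ha
  · exact Subgroup.pow_mem _ ha _
  · exact hb
  · exact Subgroup.mul_mem _ ha hb
  · exact Subgroup.mul_mem _ (Subgroup.pow_mem _ ha _) hb
  · exact Subgroup.pow_mem _ hb _
  · exact Subgroup.mul_mem _ ha (Subgroup.pow_mem _ hb _)
  · exact Subgroup.mul_mem _ (Subgroup.pow_mem _ ha _) (Subgroup.pow_mem _ hb _)

set_option maxRecDepth 100000 in
theorem rel_7 : tau7 * rho7 * tau7⁻¹ * rho7 = 1 ∧ rho7 ^ 4 = 1 ∧ rho7 ^ 2 ≠ 1 ∧
    ga7 * gb7 = gb7 * ga7 ∧ ga7 ^ 3 = 1 := by decide +kernel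

/-- the kernel of a finite stem extension of `A_7` is a quotient of `ZMod 6` -/
theorem bound_7 {Γ : Type*} [Group Γ] [Finite Γ] (σ : Γ →* Q7) (hσ : IsStemExtension σ) :
    ∃ π : Multiplicative (ZMod 6) →* σ.ker, Function.Surjective π := by
  obtain ⟨r1, r2, r3, r4, r5⟩ := rel_7
  refine Cfsg.Agent.Helper11.MultCrit.six_bound σ hσ S2_7 ?_ rho7 tau7 S2_7_le r1 r2 r3
    S3_7 ?_ ga7 gb7 S3_7_le r4 r5 ?_
  · rw [index_S2_7]; decide
  · rw [index_S3_7]; decide
  · intro r hr h2 h3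
    rw [card_Q7]
    exact sq_not_dvd_2520 r hr h2 h3

end n7

end Cfsg.Agent.Helper11.AltBound
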