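import Mathlib

set_option autoImplicit false

namespace Cfsg.Agent.Helper11.AltRank

open Module

universe u v

variable {F : Type u} [Field F]

theorem alt_skew {V : Type v} [AddCommGroup V] [Module F V] (B : V →ₗ[F] V →ₗ[F] F)
    (hB : ∀ x, B x x = 0) (x y : V) : B x y = - B y x := by
  have h := hB (x + y)
  simp only [map_add, LinearMap.add_apply, hB, zero_add, add_zero] at h
  exact eq_neg_of_add_eq_zero_right h

/-- the rank of an alternating bilinear form is even (stated through the radical) -/
theorem alt_finrank (n : ℕ) : ∀ (V : Type v) [AddCommGroup V] [Module F V] [FiniteDimensional F V]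
    (B : V →ₗ[F] V →ₗ[F] F), (∀ x, B x x = 0) → finrank F V = n →
    ∃ k, finrank F V = finrank F (LinearMap.ker B) + 2 * k := by
  induction n using Nat.strong_induction_on with
  | _ n ih =>
    intro V _ _ _ B hB hn
    by_cases h0 : B = 0
    · refine ⟨0, ?_⟩
      rw [h0, LinearMap.ker_zero, finrank_top]
      rfl
    · obtain ⟨u, hu⟩ : ∃ u, B u ≠ 0 := by
        by_contra h
        push Not at h
        exact h0 (LinearMap.ext h)
      obtain ⟨w, hw⟩ : ∃ w, B u w ≠ 0 := by
        by_contra h
        push Not at h
        exact hu (LinearMap.ext h)
      have hsk := alt_skew B hB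
      have hwu : B w u ≠ 0 := by
        rw [hsk w u]
        exact neg_ne_zero.2 hw
      -- the hyperplane intersection
      let π : V →ₗ[F] F × F := (B u).prod (B w)
      have hπx : ∀ x, π x = (B u x, B w x) := fun x => rfl
      have hπ : Function.Surjective π := by
        rintro ⟨α, β⟩
        refine ⟨(α / B u w) • w + (β / B w u) • u, ?_⟩
        rw [hπx]
        simp only [map_add, map_smul, smul_eq_mul, hB,
          mul_zero, add_zero, zero_add, Prod.mk.injEq]
        exact ⟨div_mul_cancel₀ α hw, div_mul_cancel₀ β hwu⟩
      set W := LinearMap.ker π with hW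
      have hmemW : ∀ x, x ∈ W ↔ B u x = 0 ∧ B w x = 0 := by
        intro x
        rw [hW, LinearMap.mem_ker, hπx, Prod.mk_eq_zero]
      have hdimW : finrank F V = 2 + finrank F W := by
        have h1 := LinearMap.finrank_range_add_finrank_ker π
        rw [LinearMap.range_eq_top.2 hπ, finrank_top, Module.finrank_prod, Module.finrank_self,
          ← hW] at h1
        omega
      let B' : W →ₗ[F] W →ₗ[F] F := B.compl₁₂ W.subtype W.subtype
      have hB' : ∀ x, B' x x = 0 := fun x => hB x.1
      have hlt : finrank F W < n := by omega
      obtain ⟨k, hk⟩ := ih _ hlt W B' hB' rfl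
      -- the radicals agree
      have hkerle : LinearMap.ker B ≤ W := by
        intro x hx
        rw [LinearMap.mem_ker] at hx
        rw [hmemW]
        constructor
        · rw [hsk u x, hx]; simp
        · rw [hsk w x, hx]; simp
      have hker : LinearMap.ker B' = (LinearMap.ker B).comap W.subtype := by
        ext x
        rw [LinearMap.mem_ker, Submodule.mem_comap, LinearMap.mem_ker]
        constructor
        · intro hx
          apply LinearMap.ext
          intro y
          rw [LinearMap.zero_apply]
          have hxW := (hmemW x.1).1 x.2
          -- decompose y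
          let α := B u y / B u w
          let β := B w y / B w u
          let y' : V := y - α • w - β • u
          have hy'W : y' ∈ W := by
            rw [hmemW]
            constructor
            · simp only [y', map_sub, map_smul, smul_eq_mul, hB, mul_zero, sub_zero, α]
              rw [div_mul_cancel₀ _ hw, sub_self]
            · simp only [y', map_sub, map_smul, smul_eq_mul, hB, mul_zero, sub_zero, β]
              rw [div_mul_cancel₀ _ hwu, sub_self]
          have hy : y = y' + α • w + β • u := by
            simp only [y']; abel
          have h1 : B x.1 y' = 0 := by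
            have := LinearMap.congr_fun hx ⟨y', hy'W⟩
            exact this
          rw [hy]
          simp only [map_add, map_smul, smul_eq_mul, W.subtype_apply]
          rw [h1, hsk x.1 w, hsk x.1 u, hxW.1, hxW.2]
          simp
        · intro hx
          apply LinearMap.ext
          intro y
          change B x.1 y.1 = 0
          have := LinearMap.congr_fun hx y.1
          exact this
      have hfr : finrank F (LinearMap.ker B') = finrank F (LinearMap.ker B) := by
        rw [hker]
        exact (Submodule.comapSubtypeEquivOfLe hkerle).finrank_eq
      refine ⟨k + 1, ?_⟩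
      rw [hdimW, hk, hfr]
      ring

end Cfsg.Agent.Helper11.AltRank

namespace Cfsg.Agent.Helper11.AltRank

open Module Matrix

universe u

variable {F : Type u} [Field F]

/-- a matrix whose quadratic form vanishes identically has even rank -/
theorem even_rank_of_alt {n : Type*} [Fintype n] [DecidableEq n] (G : Matrix n n F)
    (hG : ∀ v : n → F, v ⬝ᵥ (G *ᵥ v) = 0) : Even G.rank := by
  let B : (n → F) →ₗ[F] (n → F) →ₗ[F] F :=
    LinearMap.mk₂ F (fun u v => (G *ᵥ u) ⬝ᵥ v)
      (fun u u' v => by simp only [Matrix.mulVec_add, add_dotProduct])
      (fun c u v => by simp only [Matrix.mulVec_smul, smul_dotProduct])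
      (fun u v v' => by simp only [dotProduct_add])
      (fun c u v => by simp only [dotProduct_smul])
  have hBapp : ∀ u v, B u v = (G *ᵥ u) ⬝ᵥ v := fun u v => rfl
  have hB : ∀ x, B x x = 0 := by
    intro x
    rw [hBapp, dotProduct_comm]
    exact hG x
  obtain ⟨k, hk⟩ := alt_finrank (finrank F (n → F)) (n → F) B hB rfl
  have hker : LinearMap.ker B = LinearMap.ker (Matrix.toLin' G) := by
    ext x
    rw [LinearMap.mem_ker, LinearMap.mem_ker, Matrix.toLin'_apply]
    constructor
    · intro hx
      funext i
      have := LinearMap.congr_fun hx (Pi.single i 1)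
      rw [hBapp, dotProduct_single_one] at this
      exact this
    · intro hx
      apply LinearMap.ext
      intro y
      rw [hBapp, hx, zero_dotProduct]
      rfl
  have hrn := LinearMap.finrank_range_add_finrank_ker (Matrix.toLin' G)
  have hrank : G.rank = finrank F (LinearMap.range (Matrix.toLin' G)) := rfl
  rw [hker] at hk
  refine ⟨k, ?_⟩
  omega

end Cfsg.Agent.Helper11.AltRank
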