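import Mathlib
import Cfsg.Agent.Helper22.HexAut

/-!
# The group `3.A₆` of monomial automorphisms of the hexacode, as a group

`hexG ω` is the subgroup of the wreath product `Fˣ ≀ Perm (Fin 6)` of code-preserving monomial
maps; it maps onto `A₆` with kernel the scalars, and the scalars lie in its commutator subgroup.
-/

set_option autoImplicit false
set_option linter.unusedSectionVars false

namespace Cfsg.Agent.Helper11.HexGroup

open Cfsg Cfsg.Agent.Helper22.F4 Cfsg.Agent.Helper22.Hexa Cfsg.Agent.Helper22.HexMono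
  Cfsg.Agent.Helper22.HexAut

open scoped commutatorElement

/-- the action of permutations on functions -/
def act (A : Type*) [Group A] : Equiv.Perm (Fin 6) →* MulAut (Fin 6 → A) where
  toFun σ :=
    { toFun := fun B => B ∘ σ.symm
      invFun := fun B => B ∘ σ
      left_inv := fun B => by funext i; simp
      right_inv := fun B => by funext i; simp
      map_mul' := fun _ _ => rfl }
  map_one' := rfl
  map_mul' σ τ := by
    ext B i
    rfl

/-- the monomial group -/
abbrev Mon (A : Type*) [Group A] := (Fin 6 → A) ⋊[act A] Equiv.Perm (Fin 6)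

theorem act_apply {A : Type*} [Group A] (σ : Equiv.Perm (Fin 6)) (f : Fin 6 → A) (i : Fin 6) :
    act A σ f i = f (σ.symm i) := rfl

variable {F : Type*} [Field F] [Fintype F] {ω : F}

/-- the monomial automorphism group of the hexacode -/
def hexG (ω : F) : Subgroup (Mon Fˣ) where
  carrier := {w | Good ω w.right w.left}
  mul_mem' := by
    intro a b ha hb
    exact good_mul ha hb
  one_mem' := good_one
  inv_mem' := by
    intro a ha
    exact good_inv ha

theorem mem_hexG (w : Mon Fˣ) : w ∈ hexG ω ↔ Good ω w.right w.left := Iff.rfl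

/-- scalars -/
def sc (l : Fˣ) : hexG ω := ⟨⟨fun _ => l, 1⟩, by
  have := good_scalar (ω := ω) good_one l
  simpa [mem_hexG] using this⟩

theorem sc_mul_comm (l : Fˣ) (w : hexG ω) : sc l * w = w * sc l := by
  apply Subtype.ext
  apply SemidirectProduct.ext
  · funext i
    simp only [sc, Subgroup.coe_mul, SemidirectProduct.mul_left, Pi.mul_apply, act_apply]
    rw [mul_comm]
    rfl
  · simp [sc]

theorem sc_pow (l : Fˣ) (n : ℕ) : (sc l : hexG ω) ^ n = sc (l ^ n) := by
  induction n with
  | zero =>
    rw [pow_zero, pow_zero]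
    apply Subtype.ext
    apply SemidirectProduct.ext <;> rfl
  | succ n ih =>
    rw [pow_succ, ih, pow_succ]
    apply Subtype.ext
    apply SemidirectProduct.ext
    · funext i
      simp only [sc, Subgroup.coe_mul, SemidirectProduct.mul_left, Pi.mul_apply, act_apply]
    · simp [sc]

theorem sc_injective : Function.Injective (sc (ω := ω)) := by
  intro l l' h
  have := congrArg (fun w : hexG ω => w.1.left 0) h
  exact this

section bridge

variable (hF : Fintype.card F = 4) (hω : ω ^ 2 + ω + 1 = 0)
include hF hω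

/-- the projection onto `A₆` -/
noncomputable def rho : hexG ω →* alternatingGroup (Fin 6) :=
  (SemidirectProduct.rightHom.comp (hexG ω).subtype).codRestrict (alternatingGroup (Fin 6))
    (fun w => by
      rw [← permPart_eq hF hω]
      exact ⟨w.1.left, w.2⟩)

theorem rho_val (w : hexG ω) : ((rho hF hω w : alternatingGroup (Fin 6)) : Equiv.Perm (Fin 6)) =
    w.1.right := rfl

theorem rho_surjective : Function.Surjective (rho hF hω) := by
  rintro ⟨τ, hτ⟩
  rw [← permPart_eq hF hω] at hτ
  obtain ⟨c, hc⟩ := hτ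
  exact ⟨⟨⟨c, τ⟩, hc⟩, Subtype.ext rfl⟩

theorem eq_sc_of_rho_eq_one (w : hexG ω) (hw : rho hF hω w = 1) : ∃ l : Fˣ, w = sc l := by
  have hr : w.1.right = 1 := by
    have := congrArg Subtype.val hw
    exact this
  have hg : Good ω 1 w.1.left := by
    have := w.2
    rw [mem_hexG, hr] at this
    exact this
  have hconst := diag_scalar hF hω _ hg
  refine ⟨w.1.left 0, ?_⟩
  apply Subtype.ext
  apply SemidirectProduct.ext
  · funext i
    exact hconst i 0
  · exact hr

theorem rho_sc (l : Fˣ) : rho hF hω (sc l) = 1 := Subtype.ext rfl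

theorem card_units : Nat.card Fˣ = 3 := by
  rw [Nat.card_units, Nat.card_eq_fintype_card, hF]

theorem units_pow_three (l : Fˣ) : l ^ 3 = 1 := by
  rw [← card_units hF hω]
  exact pow_card_eq_one'

/-- explicit lifts of two commuting three-cycles whose commutator is a non-trivial scalar -/
theorem exists_comm : ∃ (m₁ m₂ : hexG ω) (l : Fˣ), l ≠ 1 ∧ m₁ * m₂ = sc l * (m₂ * m₁) := by
  have h1 := three_ok 0 1 2 (by decide) (by decide) (by decide)
  have h2 := three_ok 3 4 5 (by decide) (by decide) (by decide)
  let c1 : Fin 6 → Fˣ := fun i =>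
    Units.mk0 (el ω (witF 0 1 2 i)) (fun h => h1.1 i ((el_eq_zero_iff hF hω _).mp h))
  let c2 : Fin 6 → Fˣ := fun i =>
    Units.mk0 (el ω (witF 3 4 5 i)) (fun h => h2.1 i ((el_eq_zero_iff hF hω _).mp h))
  let s1 : Equiv.Perm (Fin 6) := Equiv.swap 0 1 * Equiv.swap 1 2
  let s2 : Equiv.Perm (Fin 6) := Equiv.swap 3 4 * Equiv.swap 4 5
  have g1 : Good ω s1 c1 := by
    rw [good_iff hF hω _ c1 (witF 0 1 2) (fun i => rfl)]
    have : (⇑s1.symm : Fin 6 → Fin 6) = fun i => swF 1 2 (swF 0 1 i) := by
      funext i
      show (Equiv.swap (0 : Fin 6) 1 * Equiv.swap 1 2).symm i = _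
      rw [Equiv.Perm.mul_def, Equiv.symm_trans_apply, Equiv.symm_swap, Equiv.symm_swap,
        swap_eq_swF, swap_eq_swF]
    rw [this]
    exact h1.2
  have g2 : Good ω s2 c2 := by
    rw [good_iff hF hω _ c2 (witF 3 4 5) (fun i => rfl)]
    have : (⇑s2.symm : Fin 6 → Fin 6) = fun i => swF 4 5 (swF 3 4 i) := by
      funext i
      show (Equiv.swap (3 : Fin 6) 4 * Equiv.swap 4 5).symm i = _
      rw [Equiv.Perm.mul_def, Equiv.symm_trans_apply, Equiv.symm_swap, Equiv.symm_swap,
        swap_eq_swF, swap_eq_swF]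
    rw [this]
    exact h2.2
  have h3ne : el ω 3 ≠ 0 := fun h => by
    have := (el_eq_zero_iff hF hω 3).mp h
    exact absurd this (by decide)
  refine ⟨⟨⟨c1, s1⟩, g1⟩, ⟨⟨c2, s2⟩, g2⟩, Units.mk0 (el ω 3) h3ne, ?_, ?_⟩
  · intro h
    have h' : el ω 3 = el ω 1 := by
      have := congrArg Units.val h
      simpa [el_one] using this
    exact absurd (el_injective hF hω h') (by decide)
  · apply Subtype.ext
    apply SemidirectProduct.ext
    · funext i
      apply Units.ext
      simp only [sc, Subgroup.coe_mul, SemidirectProduct.mul_left, Pi.mul_apply, act_apply,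
        Units.val_mul, c1, c2, Units.val_mk0]
      rw [← el_mul hF hω, ← el_mul hF hω, ← el_mul hF hω]
      congr 1
      have key : ∀ i : Fin 6, mul4 (witF 0 1 2 i) (witF 3 4 5 (s1.symm i)) =
          mul4 3 (mul4 (witF 3 4 5 ((1 : Equiv.Perm (Fin 6)).symm i))
            (witF 0 1 2 (s2.symm ((1 : Equiv.Perm (Fin 6)).symm i)))) := by
        decide +kernel
      exact key i
    · show s1 * s2 = 1 * (s2 * s1)
      rw [one_mul]
      decide +kernel

end bridge

end Cfsg.Agent.Helper11.HexGroup
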