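import Mathlib
import Cfsg.Agent.Helper17.SchreierSims

/-!
# The triple cover `3.A₇` as a permutation group on `45 + 7` points

Generated data (strong generating set and transversal words) with a verified Schreier–Sims chain.
The group is `G3 = closure (range gen2) ≤ Perm (Fin 45) × Perm (Fin 7)`; its order is `7560`, the
projection to `Perm (Fin 7)` has kernel generated by the central element `gen2 0` of order `3`,
which is a commutator.
-/

set_option autoImplicit false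

namespace Cfsg.Agent.Helper11.TripleA7

open Cfsg.Agent.Helper17

abbrev P45 := Equiv.Perm (Fin 45)
abbrev P7 := Equiv.Perm (Fin 7)
abbrev P2 := P45 × P7
abbrev Om := Fin 45 ⊕ Fin 7
abbrev P := Equiv.Perm Om

instance decMemOm (a : Om) (l : List Om) : Decidable (a ∈ l) :=
  @List.instDecidableMemOfLawfulBEq Om (@instBEqOfDecidableEq Om inferInstance) inferInstance a l

/-- a permutation given by a table and the inverse table -/
def mk45 (f g : Fin 45 → Fin 45) (h1 : ∀ i, g (f i) = i) (h2 : ∀ i, f (g i) = i) : P45 :=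
  ⟨f, g, h1, h2⟩
def mk7 (f g : Fin 7 → Fin 7) (h1 : ∀ i, g (f i) = i) (h2 : ∀ i, f (g i) = i) : P7 :=
  ⟨f, g, h1, h2⟩

set_option maxRecDepth 100000 in
def a0 : P45 := mk45 ![1, 2, 0, 4, 5, 3, 7, 8, 6, 10, 11, 9, 13, 14, 12, 16, 17, 15, 19, 20, 18, 22, 23, 21, 25, 26, 24, 28, 29, 27, 31, 32, 30, 34, 35, 33, 37, 38, 36, 40, 41, 39, 43, 44, 42]
  ![2, 0, 1, 5, 3, 4, 8, 6, 7, 11, 9, 10, 14, 12, 13, 17, 15, 16, 20, 18, 19, 23, 21, 22, 26, 24, 25, 29, 27, 28, 32, 30, 31, 35, 33, 34, 38, 36, 37, 41, 39, 40, 44, 42, 43] (by decide +kernel) (by decide +kernel)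
def b0 : P7 := mk7 ![0, 1, 2, 3, 4, 5, 6] ![0, 1, 2, 3, 4, 5, 6] (by decide) (by decide)
set_option maxRecDepth 100000 in
def a1 : P45 := mk45 ![27, 28, 29, 30, 31, 32, 36, 37, 38, 16, 17, 15, 5, 3, 4, 24, 25, 26, 1, 2, 0, 6, 7, 8, 11, 9, 10, 20, 18, 19, 13, 14, 12, 41, 39, 40, 21, 22, 23, 43, 44, 42, 33, 34, 35]
  ![20, 18, 19, 13, 14, 12, 21, 22, 23, 25, 26, 24, 32, 30, 31, 11, 9, 10, 28, 29, 27, 36, 37, 38, 15, 16, 17, 0, 1, 2, 3, 4, 5, 42, 43, 44, 6, 7, 8, 34, 35, 33, 41, 39, 40] (by decide +kernel) (by decide +kernel)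
def b1 : P7 := mk7 ![0, 1, 2, 3, 5, 6, 4] ![0, 1, 2, 3, 6, 4, 5] (by decide) (by decide)
set_option maxRecDepth 100000 in
def a2 : P45 := mk45 ![33, 34, 35, 43, 44, 42, 41, 39, 40, 25, 26, 24, 0, 1, 2, 11, 9, 10, 7, 8, 6, 5, 3, 4, 15, 16, 17, 32, 30, 31, 37, 38, 36, 12, 13, 14, 27, 28, 29, 18, 19, 20, 21, 22, 23]
  ![12, 13, 14, 22, 23, 21, 20, 18, 19, 16, 17, 15, 33, 34, 35, 24, 25, 26, 39, 40, 41, 42, 43, 44, 11, 9, 10, 36, 37, 38, 28, 29, 27, 0, 1, 2, 32, 30, 31, 7, 8, 6, 5, 3, 4] (by decide +kernel) (by decide +kernel)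
def b2 : P7 := mk7 ![0, 1, 2, 4, 5, 3, 6] ![0, 1, 2, 5, 3, 4, 6] (by decide) (by decide)
set_option maxRecDepth 100000 in
def a3 : P45 := mk45 ![30, 31, 32, 23, 21, 22, 25, 26, 24, 2, 0, 1, 39, 40, 41, 18, 19, 20, 35, 33, 34, 43, 44, 42, 28, 29, 27, 7, 8, 6, 10, 11, 9, 16, 17, 15, 13, 14, 12, 38, 36, 37, 3, 4, 5]
  ![10, 11, 9, 42, 43, 44, 29, 27, 28, 32, 30, 31, 38, 36, 37, 35, 33, 34, 15, 16, 17, 4, 5, 3, 8, 6, 7, 26, 24, 25, 0, 1, 2, 19, 20, 18, 40, 41, 39, 12, 13, 14, 23, 21, 22] (by decide +kernel) (by decide +kernel)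
def b3 : P7 := mk7 ![0, 1, 3, 4, 2, 5, 6] ![0, 1, 4, 2, 3, 5, 6] (by decide) (by decide)
set_option maxRecDepth 100000 in
def a4 : P45 := mk45 ![15, 16, 17, 14, 12, 13, 28, 29, 27, 36, 37, 38, 32, 30, 31, 21, 22, 23, 11, 9, 10, 0, 1, 2, 7, 8, 6, 25, 26, 24, 5, 3, 4, 41, 39, 40, 19, 20, 18, 44, 42, 43, 35, 33, 34]
  ![21, 22, 23, 31, 32, 30, 26, 24, 25, 19, 20, 18, 4, 5, 3, 0, 1, 2, 38, 36, 37, 15, 16, 17, 29, 27, 28, 8, 6, 7, 13, 14, 12, 43, 44, 42, 9, 10, 11, 34, 35, 33, 40, 41, 39] (by decide +kernel) (by decide +kernel)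
def b4 : P7 := mk7 ![0, 2, 3, 1, 4, 5, 6] ![0, 3, 1, 2, 4, 5, 6] (by decide) (by decide)
set_option maxRecDepth 100000 in
def a5 : P45 := mk45 ![3, 4, 5, 6, 7, 8, 0, 1, 2, 15, 16, 17, 21, 22, 23, 25, 26, 24, 12, 13, 14, 18, 19, 20, 11, 9, 10, 32, 30, 31, 38, 36, 37, 44, 42, 43, 29, 27, 28, 35, 33, 34, 41, 39, 40]
  ![6, 7, 8, 0, 1, 2, 3, 4, 5, 25, 26, 24, 18, 19, 20, 9, 10, 11, 21, 22, 23, 12, 13, 14, 17, 15, 16, 37, 38, 36, 28, 29, 27, 40, 41, 39, 31, 32, 30, 43, 44, 42, 34, 35, 33] (by decide +kernel) (by decide +kernel)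
def b5 : P7 := mk7 ![1, 2, 0, 3, 4, 5, 6] ![2, 0, 1, 3, 4, 5, 6] (by decide) (by decide)

/-- the strong generators: `gen2 0` is the central element, `gen2 j` a lift of a three-cycle -/
def gen2 : Fin 6 → P2 := ![(a0, b0), (a1, b1), (a2, b2), (a3, b3), (a4, b4), (a5, b5)]

/-- the embedding into permutations of the disjoint union -/
def iota : P2 →* P := Equiv.Perm.sumCongrHom (Fin 45) (Fin 7)

theorem iota_injective : Function.Injective iota := Equiv.Perm.sumCongrHom_injective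

theorem iota_inl (g : P2) (i : Fin 45) : iota g (Sum.inl i) = Sum.inl (g.1 i) := rfl
theorem iota_inr (g : P2) (i : Fin 7) : iota g (Sum.inr i) = Sum.inr (g.2 i) := rfl

def gen (j : Fin 6) : P := iota (gen2 j)

/-- number of generators used at level `l` -/
def ngen : ℕ → ℕ
  | l => l + 1

/-- number of generators of the lower group at level `l` -/
def ngen' : ℕ → ℕ
  | l => l

/-- base points -/
def base : ℕ → Om
  | 0 => Sum.inl 0
  | 1 => Sum.inr 4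
  | 2 => Sum.inr 3
  | 3 => Sum.inr 2
  | 4 => Sum.inr 1
  | _ => Sum.inr 0

/-- the basic orbits -/
def orb : ℕ → List Om
  | 0 => [Sum.inl 0, Sum.inl 1, Sum.inl 2]
  | 1 => [Sum.inr 4, Sum.inr 5, Sum.inr 6]
  | 2 => [Sum.inr 3, Sum.inr 4, Sum.inr 5, Sum.inr 6]
  | 3 => [Sum.inr 2, Sum.inr 3, Sum.inr 4, Sum.inr 5, Sum.inr 6]
  | 4 => [Sum.inr 1, Sum.inr 2, Sum.inr 3, Sum.inr 4, Sum.inr 5, Sum.inr 6]
  | 5 => [Sum.inr 0, Sum.inr 1, Sum.inr 2, Sum.inr 3, Sum.inr 4, Sum.inr 5, Sum.inr 6]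
  | _ => []

/-- transversal words -/
def W : ℕ → Om → List (Fin 6)
  | 0, Sum.inl i => if i = 1 then [0] else if i = 2 then [0, 0] else []
  | 1, Sum.inr j => (![[], [], [], [], [], [1], [1, 1]] : Fin 7 → List (Fin 6)) j
  | 2, Sum.inr j => (![[], [], [], [], [2], [1, 2], [1, 1, 2]] : Fin 7 → List (Fin 6)) j
  | 3, Sum.inr j => (![[], [], [], [3], [2, 3], [1, 2, 3], [1, 1, 2, 3]] : Fin 7 → List (Fin 6)) j
  | 4, Sum.inr j => (![[], [], [4], [3, 4], [2, 3, 4], [1, 2, 3, 4], [1, 1, 2, 3, 4]] : Fin 7 → List (Fin 6)) j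
  | 5, Sum.inr j => (![[], [5], [4, 5], [3, 4, 5], [2, 3, 4, 5], [1, 2, 3, 4, 5], [1, 1, 2, 3, 4, 5]] : Fin 7 → List (Fin 6)) j
  | _, _ => []

/-- transversal elements -/
def T (l : ℕ) (β : Om) : P := ((W l β).map gen).prod

/-- sifting through the lower levels -/
def sift : ℕ → P → P
  | 0, g => g
  | l + 1, g => sift l ((T l (g (base l)))⁻¹ * g)

set_option maxRecDepth 100000 in
theorem check_W : ∀ l < 6, ∀ β : Om, ∀ j ∈ W l β, j.val < ngen l := by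
  decide +kernel

set_option maxRecDepth 100000 in
theorem check_T : ∀ l < 6, ∀ β ∈ orb l, T l β (base l) = β := by
  decide +kernel

set_option maxRecDepth 100000 in
theorem check_base : ∀ l < 6, W l (base l) = [] ∧ base l ∈ orb l := by
  decide +kernel

set_option maxRecDepth 100000 in
theorem check_fix : ∀ l < 6, ∀ j : Fin 6, j.val < ngen' l → gen j (base l) = base l := by
  decide +kernel

/-- the Schreier check for the generator `j` at the point `β` of the level-`l` orbit -/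
def chk (l : ℕ) (β : Om) (j : Fin 6) : Bool :=
  decide (gen j β ∈ orb l) && decide (sift l ((T l (gen j β))⁻¹ * gen j * T l β) = 1)

set_option maxRecDepth 100000 in
theorem check_schreier' : ∀ l < 6, ∀ β ∈ orb l, ∀ j : Fin 6, j.val < ngen l → chk l β j = true := by
  decide +kernel

end Cfsg.Agent.Helper11.TripleA7
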