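import Mathlib
import Cfsg.Agent.Helper11.TripleA7A

/-!
# The triple cover `3.A₇`: the stabiliser chain and its consequences
-/

set_option autoImplicit false

namespace Cfsg.Agent.Helper11.TripleA7

open Cfsg.Agent.Helper17

theorem check_schreier : ∀ l < 6, ∀ β ∈ orb l, ∀ j : Fin 6, j.val < ngen l →
    gen j β ∈ orb l ∧ sift l ((T l (gen j β))⁻¹ * gen j * T l β) = 1 := by
  intro l hl β hβ j hj
  have h := check_schreier' l hl β hβ j hj
  unfold chk at h
  rw [Bool.and_eq_true, decide_eq_true_eq, decide_eq_true_eq] at h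
  exact h

/-- generators of level `l` -/
def Y (l : ℕ) : Set P := {g | ∃ j : Fin 6, j.val < ngen l ∧ gen j = g}

/-- the chain of subgroups: `Hn 0 = ⊥`, `Hn 6 = 3.A₇` -/
def Hn : ℕ → Subgroup P
  | 0 => ⊥
  | l + 1 => Subgroup.closure (Y l)

theorem ngen'_le (l : ℕ) : ngen' l ≤ ngen l := by
  simp [ngen, ngen']

theorem Hn_le_succ (l : ℕ) : Hn l ≤ Hn (l + 1) := by
  rcases l with _ | l
  · exact bot_le
  · apply Subgroup.closure_mono
    rintro g ⟨j, hj, rfl⟩
    exact ⟨j, lt_of_lt_of_le hj (ngen'_le (l + 1)), rfl⟩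

theorem T_mem {l : ℕ} (hl : l < 6) (β : Om) : T l β ∈ Hn (l + 1) := by
  unfold T
  apply Subgroup.list_prod_mem
  intro g hg
  rw [List.mem_map] at hg
  obtain ⟨j, hj, rfl⟩ := hg
  exact Subgroup.subset_closure ⟨j, check_W l hl β j hj, rfl⟩

theorem sift_sound : ∀ l ≤ 6, ∀ g : P, sift l g = 1 → g ∈ Hn l := by
  intro l
  induction l with
  | zero =>
    intro _ g hg
    change g = 1 at hg
    rw [hg]
    exact Subgroup.one_mem _
  | succ l ih =>
    intro hl g hg
    have h1 : (T l (g (base l)))⁻¹ * g ∈ Hn l := ih (by omega) _ hg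
    have h2 := Hn_le_succ l h1
    have h3 := T_mem (by omega : l < 6) (g (base l))
    have h4 : g = T l (g (base l)) * ((T l (g (base l)))⁻¹ * g) := by group
    rw [h4]
    exact Subgroup.mul_mem _ h3 h2

theorem Hn_fix {l : ℕ} (hl : l < 6) : ∀ h ∈ Hn l, h (base l) = base l := by
  intro h hh
  rcases l with _ | l
  · change h ∈ (⊥ : Subgroup P) at hh
    rw [Subgroup.mem_bot] at hh
    rw [hh]; rfl
  · change h ∈ Subgroup.closure (Y l) at hh
    have hle : Subgroup.closure (Y l) ≤ MulAction.stabilizer P (base (l + 1)) := by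
      rw [Subgroup.closure_le]
      rintro g ⟨j, hj, rfl⟩
      exact check_fix (l + 1) hl j hj
    exact hle hh

theorem T_base {l : ℕ} (hl : l < 6) : T l (base l) = 1 := by
  unfold T
  rw [(check_base l hl).1]
  rfl

theorem schreier_hyp {l : ℕ} (hl : l < 6) : ∀ β ∈ (orb l).toFinset, ∀ y ∈ Y l,
    y β ∈ (orb l).toFinset ∧ (T l (y β))⁻¹ * y * T l β ∈ Hn l := by
  rintro β hβ _ ⟨j, hj, rfl⟩
  rw [List.mem_toFinset] at hβ ⊢
  obtain ⟨h1, h2⟩ := check_schreier l hl β hβ j hj
  exact ⟨h1, sift_sound l (by omega) _ h2⟩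

/-- the stabiliser of the base point at each level -/
theorem stab_eq {l : ℕ} (hl : l < 6) :
    Hn (l + 1) ⊓ MulAction.stabilizer P (base l) = Hn l :=
  SchreierSims.stabilizer_eq (Y l) (Hn l) (base l) (orb l).toFinset (T l)
    (List.mem_toFinset.2 (check_base l hl).2) (T_base hl)
    (fun β hβ => check_T l hl β (List.mem_toFinset.1 hβ)) (schreier_hyp hl) (Hn_fix hl)
    (Hn_le_succ l)

theorem card_succ {l : ℕ} (hl : l < 6) :
    Nat.card (Hn (l + 1)) = (orb l).toFinset.card * Nat.card (Hn l) :=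
  SchreierSims.card_eq (Y l) (Hn l) (base l) (orb l).toFinset (T l)
    (List.mem_toFinset.2 (check_base l hl).2) (T_base hl)
    (fun β hβ => check_T l hl β (List.mem_toFinset.1 hβ)) (fun β _ => T_mem hl β)
    (schreier_hyp hl) (Hn_fix hl) (Hn_le_succ l)

theorem orb_card : ∀ l < 6, (orb l).toFinset.card = if l = 0 then 3 else l + 2 := by decide

theorem card_Hn6 : Nat.card (Hn 6) = 7560 := by
  rw [card_succ (by norm_num), card_succ (by norm_num), card_succ (by norm_num),
    card_succ (by norm_num), card_succ (by norm_num), card_succ (by norm_num),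
    orb_card 5 (by norm_num), orb_card 4 (by norm_num), orb_card 3 (by norm_num),
    orb_card 2 (by norm_num), orb_card 1 (by norm_num), orb_card 0 (by norm_num)]
  change _ * (_ * (_ * (_ * (_ * (_ * Nat.card (⊥ : Subgroup P)))))) = _
  rw [Subgroup.card_bot]
  norm_num

/-- an element of `Hn 6` fixing the five base points `inr 0, …, inr 4` lies in `Hn 1` -/
theorem mem_Hn1_of_fix {g : P} (hg : g ∈ Hn 6) (h0 : g (Sum.inr 0) = Sum.inr 0)
    (h1 : g (Sum.inr 1) = Sum.inr 1) (h2 : g (Sum.inr 2) = Sum.inr 2)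
    (h3 : g (Sum.inr 3) = Sum.inr 3) (h4 : g (Sum.inr 4) = Sum.inr 4) : g ∈ Hn 1 := by
  have a5 : g ∈ Hn 5 := by
    rw [← stab_eq (l := 5) (by norm_num)]
    exact ⟨hg, h0⟩
  have a4 : g ∈ Hn 4 := by
    rw [← stab_eq (l := 4) (by norm_num)]
    exact ⟨a5, h1⟩
  have a3 : g ∈ Hn 3 := by
    rw [← stab_eq (l := 3) (by norm_num)]
    exact ⟨a4, h2⟩
  have a2 : g ∈ Hn 2 := by
    rw [← stab_eq (l := 2) (by norm_num)]
    exact ⟨a3, h3⟩
  rw [← stab_eq (l := 1) (by norm_num)]
  exact ⟨a2, h4⟩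

theorem Y0_eq : Y 0 = {gen 0} := by
  ext g
  simp only [Y, Set.mem_ofPred_eq, Set.mem_singleton_iff, ngen]
  constructor
  · rintro ⟨j, hj, rfl⟩
    have : j = 0 := by
      apply Fin.ext
      simp only [Fin.val_zero]
      omega
    rw [this]
  · rintro rfl
    exact ⟨0, by simp, rfl⟩

theorem Y5_eq : Y 5 = Set.range gen := by
  ext g
  simp only [Y, Set.mem_ofPred_eq, Set.mem_range, ngen]
  constructor
  · rintro ⟨j, -, rfl⟩
    exact ⟨j, rfl⟩
  · rintro ⟨j, rfl⟩
    exact ⟨j, by omega, rfl⟩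

theorem Hn1_eq : Hn 1 = Subgroup.zpowers (gen 0) := by
  change Subgroup.closure (Y 0) = _
  rw [Y0_eq, Subgroup.zpowers_eq_closure]

theorem Hn6_eq : Hn 6 = Subgroup.closure (Set.range gen) := by
  change Subgroup.closure (Y 5) = _
  rw [Y5_eq]

end Cfsg.Agent.Helper11.TripleA7
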