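import Mathlib
import Cfsg.Agent.Helper11.TripleA7B

/-!
# The triple cover `3.A₇` as a central extension of `A₇`
-/

set_option autoImplicit false

namespace Cfsg.Agent.Helper11.TripleA7

open scoped commutatorElement

/-- the group `3.A₇` -/
def G3 : Subgroup P2 := Subgroup.closure (Set.range gen2)

theorem map_G3 : G3.map iota = Hn 6 := by
  rw [Hn6_eq, G3, MonoidHom.map_closure]
  congr 1
  ext g
  simp only [Set.mem_image, Set.mem_range, gen]
  constructor
  · rintro ⟨_, ⟨j, rfl⟩, rfl⟩
    exact ⟨j, rfl⟩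
  · rintro ⟨j, rfl⟩
    exact ⟨_, ⟨j, rfl⟩, rfl⟩

theorem card_G3 : Nat.card G3 = 7560 := by
  rw [← card_Hn6, ← map_G3]
  exact (Subgroup.card_map_of_injective iota_injective).symm

set_option maxRecDepth 100000 in
theorem gen2_snd_even : ∀ j, Equiv.Perm.sign (gen2 j).2 = 1 := by decide +kernel

theorem snd_mem_alt (g : P2) (hg : g ∈ G3) : g.2 ∈ alternatingGroup (Fin 7) := by
  have hle : G3 ≤ (alternatingGroup (Fin 7)).comap (MonoidHom.snd P45 P7) := by
    rw [G3, Subgroup.closure_le]
    rintro _ ⟨j, rfl⟩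
    rw [SetLike.mem_coe, Subgroup.mem_comap, Equiv.Perm.mem_alternatingGroup]
    exact gen2_snd_even j
  exact hle hg

/-- the projection onto `A₇` -/
noncomputable def xi : G3 →* alternatingGroup (Fin 7) :=
  ((MonoidHom.snd P45 P7).comp G3.subtype).codRestrict _ (fun g => snd_mem_alt g.1 g.2)

theorem xi_val (g : G3) : ((xi g : alternatingGroup (Fin 7)) : Equiv.Perm (Fin 7)) = g.1.2 := rfl

/-- the central element -/
def zz : G3 := ⟨gen2 0, Subgroup.subset_closure ⟨0, rfl⟩⟩

set_option maxRecDepth 100000 in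
theorem gen2_comm : ∀ j, gen2 j * gen2 0 = gen2 0 * gen2 j := by decide +kernel

theorem zz_central (g : G3) : zz * g = g * zz := by
  have hle : G3 ≤ Subgroup.centralizer {gen2 0} := by
    rw [G3, Subgroup.closure_le]
    rintro _ ⟨j, rfl⟩
    rw [SetLike.mem_coe, Subgroup.mem_centralizer_iff]
    intro h hh
    rw [Set.mem_singleton_iff] at hh
    rw [hh]
    exact (gen2_comm j).symm
  have := hle g.2
  rw [Subgroup.mem_centralizer_iff] at this
  apply Subtype.ext
  exact this _ rfl

set_option maxRecDepth 100000 in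
theorem gen2_zero_pow : gen2 0 ^ 3 = 1 := by decide +kernel

set_option maxRecDepth 100000 in
theorem gen2_zero_ne : gen2 0 ≠ 1 := by decide +kernel

theorem zz_pow : zz ^ 3 = 1 := Subtype.ext gen2_zero_pow

theorem zz_ne : zz ≠ 1 := fun h => gen2_zero_ne (congrArg Subtype.val h)

theorem orderOf_zz : orderOf zz = 3 := orderOf_eq_prime zz_pow zz_ne

set_option maxRecDepth 100000 in
theorem gen2_commutator : ⁅gen2 5, gen2 1⁆ = gen2 0 * gen2 0 := by decide +kernel

theorem zz_sq_mem_commutator : zz * zz ∈ commutator G3 := by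
  have h : zz * zz = ⁅(⟨gen2 5, Subgroup.subset_closure ⟨5, rfl⟩⟩ : G3),
      (⟨gen2 1, Subgroup.subset_closure ⟨1, rfl⟩⟩ : G3)⁆ := by
    apply Subtype.ext
    exact gen2_commutator.symm
  rw [h, commutator_eq_closure]
  exact Subgroup.subset_closure ⟨_, _, rfl⟩

theorem zz_mem_commutator : zz ∈ commutator G3 := by
  have h : zz = (zz * zz) ^ 2 := by
    rw [← pow_two, ← pow_mul]
    have : zz ^ (2 * 2) = zz ^ 3 * zz := by rw [← pow_succ]
    rw [this, zz_pow, one_mul]
  rw [h]
  exact Subgroup.pow_mem _ zz_sq_mem_commutator 2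

theorem gen2_zero_snd : (gen2 0).2 = 1 := by decide +kernel

theorem xi_zz : xi zz = 1 := by
  apply Subtype.ext
  rw [xi_val]
  exact gen2_zero_snd

theorem mem_zpowers_of_xi_eq_one (g : G3) (hg : xi g = 1) : g ∈ Subgroup.zpowers zz := by
  have h2 : g.1.2 = 1 := by
    have := congrArg Subtype.val hg
    exact this
  have hm : iota g.1 ∈ Hn 6 := by
    rw [← map_G3]
    exact Subgroup.mem_map_of_mem _ g.2
  have hfix : ∀ i : Fin 7, iota g.1 (Sum.inr i) = Sum.inr i := by
    intro i
    rw [iota_inr, h2]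
    rfl
  have h1 := mem_Hn1_of_fix hm (hfix 0) (hfix 1) (hfix 2) (hfix 3) (hfix 4)
  rw [Hn1_eq] at h1
  obtain ⟨k, hk⟩ := h1
  refine ⟨k, ?_⟩
  apply Subtype.ext
  apply iota_injective
  rw [← hk]
  simp only [Subgroup.coe_zpow, map_zpow]
  rfl

theorem ker_xi : xi.ker = Subgroup.zpowers zz := by
  apply le_antisymm
  · intro g hg
    exact mem_zpowers_of_xi_eq_one g (MonoidHom.mem_ker.mp hg)
  · rw [Subgroup.zpowers_le]
    exact MonoidHom.mem_ker.mpr xi_zz

theorem xi_surjective : Function.Surjective xi := by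
  classical
  rw [← MonoidHom.range_eq_top]
  apply Subgroup.eq_top_of_card_eq
  have h1 : Nat.card xi.ker = 3 := by
    rw [ker_xi, Nat.card_zpowers, orderOf_zz]
  have h2 := Subgroup.card_mul_index xi.ker
  rw [Subgroup.index_ker, h1, card_G3] at h2
  have h3 : Nat.card (alternatingGroup (Fin 7)) = 2520 := by
    rw [nat_card_alternatingGroup, Nat.card_eq_fintype_card, Fintype.card_fin]
    decide
  rw [h3]
  omega

theorem ker_xi_le_center : xi.ker ≤ Subgroup.center G3 := by
  rw [ker_xi, Subgroup.zpowers_le, Subgroup.mem_center_iff]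
  intro g
  exact (zz_central g).symm

end Cfsg.Agent.Helper11.TripleA7
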