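import Mathlib
import Cfsg.Prelude.Def_KGroupFacts
import Cfsg.Agent.Helper11.AltBound
import Cfsg.Agent.Helper11.HexGroup
import Cfsg.Agent.Helper11.TripleA7C
import Cfsg.Agent.Helper9.DcF

/-! The Schur multipliers of `A₆` and `A₇` are cyclic of order 6. -/

set_option autoImplicit false
set_option linter.unusedSectionVars false
set_option linter.unusedVariables false
set_option linter.style.haveILetI false

namespace Cfsg.Agent.Helper11.AltSixSeven

open scoped commutatorElement
open Cfsg Cfsg.Agent.Helper8.Hopf Cfsg.Agent.Helper11.MultCrit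

/-- the double cover gives a factor 2 -/
theorem two_dvd (n : ℕ) (hn : 4 ≤ n) : 2 ∣ Nat.card (mult (alternatingGroup (Fin n))) := by
  classical
  have hker : (Cfsg.Agent.Helper9.Dc.phi n).ker = Subgroup.zpowers (Cfsg.Agent.Helper9.Dc.zG hn) :=
    Cfsg.Agent.Helper9.Dc.ker_phi.trans (Cfsg.Agent.Helper9.Dc.ker_rhoG hn)
  have hc : (Cfsg.Agent.Helper9.Dc.phi n).ker ≤ Subgroup.center (Cfsg.Agent.Helper9.Dc.Gam n) := by
    rw [hker, Subgroup.zpowers_le]
    exact Cfsg.Agent.Helper9.Dc.zG_center hn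
  have hz : Cfsg.Agent.Helper9.Dc.zG hn ∈ (Cfsg.Agent.Helper9.Dc.phi n).ker := by
    rw [hker]; exact Subgroup.mem_zpowers _
  have := dvd_card_mult (Cfsg.Agent.Helper9.Dc.phi n) Cfsg.Agent.Helper9.Dc.phi_surjective hc
    (Cfsg.Agent.Helper9.Dc.zG hn) hz (Cfsg.Agent.Helper9.Dc.zG_mem_commutator hn)
  rw [Cfsg.Agent.Helper9.Dc.orderOf_zG hn] at this
  exact this

/-- the hexacode group gives a factor 3 for `A₆` -/
theorem three_dvd_six : 3 ∣ Nat.card (mult (alternatingGroup (Fin 6))) := by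
  classical
  haveI : Fact (Nat.Prime 2) := ⟨Nat.prime_two⟩
  let K := GaloisField 2 2
  haveI : Fintype K := Fintype.ofFinite K
  have hK : Fintype.card K = 4 := by
    rw [← Nat.card_eq_fintype_card, GaloisField.card 2 2 (by norm_num)]
    norm_num
  have hu3 : Nat.card Kˣ = 3 := by
    rw [Nat.card_units, Nat.card_eq_fintype_card, hK]
  obtain ⟨ω', hω'⟩ : ∃ l : Kˣ, l ≠ 1 := by
    by_contra hcon
    push Not at hcon
    have : Subsingleton Kˣ := ⟨fun a b => (hcon a).trans (hcon b).symm⟩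
    have := Nat.card_unique (α := Kˣ)
    omega
  have hω3 : ω' ^ 3 = 1 := by
    rw [← hu3]; exact pow_card_eq_one'
  set ω : K := (ω' : K) with hωdef
  have hω : ω ^ 2 + ω + 1 = 0 := by
    have h1 : ω ^ 3 = 1 := by
      have := congrArg Units.val hω3
      simpa using this
    have h2 : ω ≠ 1 := fun h => hω' (Units.ext h)
    have h3 : (ω - 1) * (ω ^ 2 + ω + 1) = 0 := by
      linear_combination h1
    rcases mul_eq_zero.mp h3 with h | h
    · exact absurd (sub_eq_zero.mp h) h2
    · exact h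
  haveI : Finite (HexGroup.Mon Kˣ) := Finite.of_equiv _ SemidirectProduct.equivProd.symm
  let ρ : HexGroup.hexG ω →* alternatingGroup (Fin 6) := HexGroup.rho hK hω
  have hρs : Function.Surjective ρ := HexGroup.rho_surjective hK hω
  have hρk : ρ.ker ≤ Subgroup.center (HexGroup.hexG ω) := by
    intro x hx
    obtain ⟨l, rfl⟩ := HexGroup.eq_sc_of_rho_eq_one hK hω x (MonoidHom.mem_ker.mp hx)
    rw [Subgroup.mem_center_iff]
    intro g
    exact (HexGroup.sc_mul_comm l g).symm
  obtain ⟨m₁, m₂, l₀, hl₀, hm⟩ := HexGroup.exists_comm hK hω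
  have hcm : ⁅m₁, m₂⁆ = HexGroup.sc l₀ := by
    rw [commutatorElement_def, hm]
    group
  have hl₀3 : l₀ ^ 3 = 1 := by
    rw [← hu3]; exact pow_card_eq_one'
  have hz3 : (HexGroup.sc l₀ : HexGroup.hexG ω) ^ 3 = 1 := by
    rw [HexGroup.sc_pow, hl₀3]
    apply Subtype.ext
    rfl
  have hz1 : (HexGroup.sc l₀ : HexGroup.hexG ω) ≠ 1 := by
    intro h
    have h2 : (HexGroup.sc l₀ : HexGroup.hexG ω) = HexGroup.sc 1 := by
      rw [h]
      apply Subtype.ext
      rfl
    exact hl₀ (HexGroup.sc_injective h2)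
  have hord : orderOf (HexGroup.sc l₀ : HexGroup.hexG ω) = 3 := by
    haveI : Fact (Nat.Prime 3) := ⟨Nat.prime_three⟩
    exact orderOf_eq_prime hz3 hz1
  have hzk : (HexGroup.sc l₀ : HexGroup.hexG ω) ∈ ρ.ker :=
    MonoidHom.mem_ker.mpr (HexGroup.rho_sc hK hω l₀)
  have hzc : (HexGroup.sc l₀ : HexGroup.hexG ω) ∈ commutator (HexGroup.hexG ω) := by
    rw [← hcm, commutator_eq_closure]
    exact Subgroup.subset_closure ⟨m₁, m₂, rfl⟩
  have := dvd_card_mult ρ hρs hρk _ hzk hzc
  rw [hord] at this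
  exact this

/-- the triple cover gives a factor 3 for `A₇` -/
theorem three_dvd_seven : 3 ∣ Nat.card (mult (alternatingGroup (Fin 7))) := by
  have := dvd_card_mult TripleA7.xi TripleA7.xi_surjective TripleA7.ker_xi_le_center TripleA7.zz
    (MonoidHom.mem_ker.mpr TripleA7.xi_zz) TripleA7.zz_mem_commutator
  rw [TripleA7.orderOf_zz] at this
  exact this

theorem result_six : HasCyclicSchurMultiplier (alternatingGroup (Fin 6)) 6 := by
  apply hasCyclic_of_bounds 6
  · intro Γ _ _ σ hσ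
    exact AltBound.bound_6 σ hσ
  · exact Nat.Coprime.mul_dvd_of_dvd_of_dvd (by norm_num) (two_dvd 6 (by norm_num)) three_dvd_six

theorem result_seven : HasCyclicSchurMultiplier (alternatingGroup (Fin 7)) 6 := by
  apply hasCyclic_of_bounds 6
  · intro Γ _ _ σ hσ
    exact AltBound.bound_7 σ hσ
  · exact Nat.Coprime.mul_dvd_of_dvd_of_dvd (by norm_num) (two_dvd 7 (by norm_num)) three_dvd_seven

end Cfsg.Agent.Helper11.AltSixSeven
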