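import Mathlib
import Cfsg.Agent.S2270
import Cfsg.Agent.Helper11.DihedralLift
import Cfsg.Agent.Helper11.Transfer
import Cfsg.Agent.Helper11.SimpleTools
import Cfsg.Agent.Helper11.NoSimple
import Cfsg.Agent.Helper11.PermSylow
import Cfsg.Agent.Helper17.A5Spec

set_option autoImplicit false

namespace Cfsg.Agent.Helper11.AltSylow

open Equiv

/-- An even permutation of odd prime order `p` on `n ≥ p + 2` points is conjugate to its inverse
inside the alternating group. -/
theorem exists_alt_conj_inv {n p : ℕ} (hp : p.Prime) (hn : p + 2 ≤ n)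
    (x : alternatingGroup (Fin n)) (hx : orderOf x = p) :
    ∃ g : alternatingGroup (Fin n), g⁻¹ * x * g = x⁻¹ := by
  classical
  set σ : Perm (Fin n) := (x : Perm (Fin n)) with hσ
  have hσo : orderOf σ = p := by rw [hσ, Subgroup.orderOf_coe]; exact hx
  have hconj : IsConj σ σ⁻¹ := by
    rw [Perm.isConj_iff_cycleType_eq, Perm.cycleType_inv]
  obtain ⟨c, hc⟩ := isConj_iff.mp hconj
  obtain ⟨k, hk⟩ := Perm.cycleType_prime_order (σ := σ) (by rw [hσo]; exact hp)
  rw [hσo] at hk
  have hnot : ¬ (Subgroup.centralizer {σ} ≤ alternatingGroup (Fin n)) := by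
    intro hle
    rw [Perm.centralizer_le_alternating_iff] at hle
    obtain ⟨_, h2, h3⟩ := hle
    have h4 := h3 p
    rw [hk, Multiset.count_replicate_self] at h4
    have hk0 : k = 0 := by omega
    rw [hk, hk0, Fintype.card_fin] at h2
    simp only [zero_add, Multiset.replicate_one, Multiset.sum_singleton] at h2
    omega
  obtain ⟨τ, hτc, hτs⟩ : ∃ τ ∈ Subgroup.centralizer {σ}, τ ∉ alternatingGroup (Fin n) := by
    by_contra hno
    push Not at hno
    exact hnot hno
  have hτσ : τ * σ * τ⁻¹ = σ := by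
    rw [Subgroup.mem_centralizer_iff] at hτc
    have := hτc σ rfl
    rw [← this, mul_inv_cancel_right]
  have hτsign : Perm.sign τ = -1 := by
    rw [Perm.mem_alternatingGroup] at hτs
    rcases Int.units_eq_one_or (Perm.sign τ) with h | h
    · exact absurd h hτs
    · exact h
  -- an even conjugator
  obtain ⟨d, hdσ, hds⟩ : ∃ d : Perm (Fin n), d * σ * d⁻¹ = σ⁻¹ ∧ Perm.sign d = 1 := by
    rcases Int.units_eq_one_or (Perm.sign c) with h | h
    · exact ⟨c, hc, h⟩
    · refine ⟨c * τ, ?_, ?_⟩
      · calc c * τ * σ * (c * τ)⁻¹ = c * (τ * σ * τ⁻¹) * c⁻¹ := by group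
          _ = σ⁻¹ := by rw [hτσ, hc]
      · rw [map_mul, h, hτsign]; rfl
  let g : alternatingGroup (Fin n) := ⟨d⁻¹, by
    rw [Perm.mem_alternatingGroup, map_inv, hds, inv_one]⟩
  refine ⟨g, ?_⟩
  apply Subtype.ext
  change (d⁻¹)⁻¹ * σ * d⁻¹ = σ⁻¹
  rw [inv_inv, hdσ]

end Cfsg.Agent.Helper11.AltSylow

namespace Cfsg.Agent.Helper11.AltSylow

open Equiv

theorem sq_not_dvd_factorial_succ {p : ℕ} (hp : p.Prime) : ¬ p ^ 2 ∣ (p + 1).factorial := by
  intro h
  obtain ⟨q, rfl⟩ : ∃ q, p = q + 1 := ⟨p - 1, by have := hp.pos; omega⟩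
  rw [Nat.factorial_succ, Nat.factorial_succ, pow_two] at h
  have h1 : (q + 1) * (q + 1) ∣ (q + 1) * ((q + 1 + 1) * q.factorial) := by
    have : (q + 1 + 1) * ((q + 1) * q.factorial) = (q + 1) * ((q + 1 + 1) * q.factorial) := by ring
    rwa [this] at h
  have h2 : (q + 1) ∣ (q + 1 + 1) * q.factorial :=
    (Nat.mul_dvd_mul_iff_left (Nat.succ_pos q)).1 h1
  rcases (Nat.Prime.dvd_mul hp).1 h2 with h3 | h3
  · have h4 : (q + 1) ∣ 1 := by
      have := (Nat.dvd_add_right (dvd_refl (q + 1))).1 h3
      exact this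
    have := Nat.le_of_dvd (by norm_num) h4
    have := hp.two_le
    omega
  · have := (hp.dvd_factorial).1 h3
    omega

theorem card_alt_dvd_factorial (n : ℕ) :
    Nat.card (alternatingGroup (Fin n)) ∣ n.factorial := by
  have h1 : Nat.card (alternatingGroup (Fin n)) ∣ Nat.card (Perm (Fin n)) :=
    Subgroup.card_subgroup_dvd_card _
  rwa [Nat.card_eq_fintype_card (α := Perm (Fin n)), Fintype.card_perm, Fintype.card_fin] at h1

theorem odd_case (n : ℕ) (hn : 5 ≤ n) {p : ℕ} [Fact p.Prime] (hp2 : p ≠ 2)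
    (P : Sylow p (alternatingGroup (Fin n)))
    (hP : IsMulCommutative (P : Subgroup (alternatingGroup (Fin n)))) :
    2 ∣ ((Subgroup.centralizer ((P : Subgroup (alternatingGroup (Fin n))) :
        Set (alternatingGroup (Fin n)))).subgroupOf
        (Subgroup.normalizer ((P : Subgroup (alternatingGroup (Fin n))) :
        Set (alternatingGroup (Fin n))))).index ∨
      IsCyclic (P : Subgroup (alternatingGroup (Fin n))) := by
  classical
  have hpp : p.Prime := Fact.out
  by_cases hnp : p + 2 ≤ n
  · left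
    have : Nontrivial (Fin n) := Fin.nontrivial_iff_two_le.2 (by omega)
    have h2card : 2 * Nat.card (alternatingGroup (Fin n)) = n.factorial := by
      rw [Nat.card_eq_fintype_card, two_mul_card_alternatingGroup, Fintype.card_perm,
        Fintype.card_fin]
    have hdvd : p ∣ Nat.card (alternatingGroup (Fin n)) := by
      have h1 : p ∣ 2 * Nat.card (alternatingGroup (Fin n)) := by
        rw [h2card]
        exact (hpp.dvd_factorial).2 (by omega)
      rcases (Nat.Prime.dvd_mul hpp).1 h1 with h | h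
      · exact absurd ((Nat.prime_dvd_prime_iff_eq hpp Nat.prime_two).1 h) hp2
      · exact h
    have hPdvd : p ∣ Nat.card ↥(P : Subgroup (alternatingGroup (Fin n))) := by
      have hne := P.ne_bot_of_dvd_card hdvd
      obtain ⟨k, hk⟩ := P.2.exists_card_eq
      rw [hk]
      rcases k with _ | k
      · exfalso
        apply hne
        rw [pow_zero] at hk
        exact Subgroup.card_eq_one.mp hk
      · exact dvd_pow_self p (Nat.succ_ne_zero k)
    obtain ⟨x, hx⟩ := exists_prime_orderOf_dvd_card'
      (G := ↥(P : Subgroup (alternatingGroup (Fin n)))) p hPdvd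
    have hxo : orderOf (x : alternatingGroup (Fin n)) = p := by
      rw [Subgroup.orderOf_coe]; exact hx
    obtain ⟨g, hg⟩ := exists_alt_conj_inv hpp hnp (x : alternatingGroup (Fin n)) hxo
    have hne : (x : alternatingGroup (Fin n))⁻¹ ≠ (x : alternatingGroup (Fin n)) := by
      intro h
      have h2 : (x : alternatingGroup (Fin n)) ^ 2 = 1 := by
        rw [pow_two]
        nth_rewrite 1 [← h]
        exact inv_mul_cancel _
      have h3 : p ∣ 2 := hxo ▸ orderOf_dvd_of_pow_eq_one h2
      exact hp2 ((Nat.prime_dvd_prime_iff_eq hpp Nat.prime_two).mp h3)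
    exact Cfsg.Agent.S2270.even_automizer P hP (x : alternatingGroup (Fin n)) g x.2 hg hne
  · right
    obtain ⟨k, hk⟩ := P.2.exists_card_eq
    have hk1 : k ≤ 1 := by
      by_contra hk2
      push Not at hk2
      apply sq_not_dvd_factorial_succ hpp
      have h1 : p ^ 2 ∣ p ^ k := pow_dvd_pow p hk2
      have h2 : p ^ k ∣ Nat.card (alternatingGroup (Fin n)) :=
        hk ▸ Subgroup.card_subgroup_dvd_card _
      have h3 : n.factorial ∣ (p + 1).factorial := Nat.factorial_dvd_factorial (by omega)
      exact h1.trans (h2.trans ((card_alt_dvd_factorial n).trans h3))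
    rcases Nat.le_one_iff_eq_zero_or_eq_one.1 hk1 with h0 | h1
    · rw [h0, pow_zero] at hk
      have : Subsingleton ↥(P : Subgroup (alternatingGroup (Fin n))) :=
        (Nat.card_eq_one_iff_unique.1 hk).1
      exact isCyclic_of_subsingleton
    · rw [h1, pow_one] at hk
      exact isCyclic_of_prime_card hk

end Cfsg.Agent.Helper11.AltSylow

namespace Cfsg.Agent.Helper11.AltSylow

open Equiv

/-- `(0 1 2 3)(4 5)` -/
def a₆ : Perm (Fin 6) := swap 0 1 * swap 1 2 * swap 2 3 * swap 4 5

/-- `(0 2)(4 5)` -/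
def b₆ : Perm (Fin 6) := swap 0 2 * swap 4 5

theorem a₆_pow : a₆ ^ 4 = 1 := by decide
theorem b₆_sq : b₆ * b₆ = 1 := by decide
theorem b₆a₆ : b₆ * a₆ * b₆ = a₆⁻¹ := by decide
theorem a₆b₆_ne : a₆ * b₆ ≠ b₆ * a₆ := by decide
theorem sign_a₆ : Perm.sign a₆ = 1 := by decide
theorem sign_b₆ : Perm.sign b₆ = 1 := by decide

theorem sign_viaEmbeddingHom {α β : Type*} [Fintype α] [DecidableEq α] [Fintype β] [DecidableEq β]
    (ι : α ↪ β) (σ : Perm α) : Perm.sign (Perm.viaEmbeddingHom ι σ) = Perm.sign σ := by
  rw [Perm.viaEmbeddingHom_apply]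
  unfold Perm.viaEmbedding
  simp only [Perm.extendDomain, Perm.sign_subtypeCongr, Perm.sign_permCongr, Perm.sign_refl,
    mul_one]

end Cfsg.Agent.Helper11.AltSylow

namespace Cfsg.Agent.Helper11.AltSylow

open Equiv Cfsg.Agent.Helper11
open scoped Pointwise

/-- For `n ≥ 6` the Sylow 2-subgroups of the alternating group are not abelian. -/
theorem sylow2_not_comm (n : ℕ) (hn : 6 ≤ n) (P : Sylow 2 (alternatingGroup (Fin n))) :
    ¬ IsMulCommutative (P : Subgroup (alternatingGroup (Fin n))) := by
  classical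
  have : Fact (Nat.Prime 2) := ⟨Nat.prime_two⟩
  intro hP
  let ι : Fin 6 ↪ Fin n := Fin.castLEEmb hn
  let ψ : Perm (Fin 6) →* Perm (Fin n) := Perm.viaEmbeddingHom ι
  have hψinj : Function.Injective ψ := Perm.viaEmbeddingHom_injective ι
  have hsign : ∀ σ, Perm.sign (ψ σ) = Perm.sign σ := sign_viaEmbeddingHom ι
  let a : alternatingGroup (Fin n) := ⟨ψ a₆, by
    rw [Perm.mem_alternatingGroup, hsign, sign_a₆]⟩
  let b : alternatingGroup (Fin n) := ⟨ψ b₆, by
    rw [Perm.mem_alternatingGroup, hsign, sign_b₆]⟩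
  have ha : a ^ 4 = 1 := by
    apply Subtype.ext
    change (ψ a₆) ^ 4 = 1
    rw [← map_pow, a₆_pow, map_one]
  have hb : b * b = 1 := by
    apply Subtype.ext
    change ψ b₆ * ψ b₆ = 1
    rw [← map_mul, b₆_sq, map_one]
  have hab : b * a * b = a⁻¹ := by
    apply Subtype.ext
    change ψ b₆ * ψ a₆ * ψ b₆ = (ψ a₆)⁻¹
    rw [← map_mul, ← map_mul, b₆a₆, map_inv]
  have hne : a * b ≠ b * a := by
    intro h
    have h1 : ψ a₆ * ψ b₆ = ψ b₆ * ψ a₆ := congrArg Subtype.val h
    rw [← map_mul, ← map_mul] at h1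
    exact a₆b₆_ne (hψinj h1)
  let φ := dihedralLift 4 a b ha hb hab
  have hD : IsPGroup 2 (DihedralGroup 4) :=
    IsPGroup.of_card (n := 3) (by rw [DihedralGroup.nat_card]; norm_num)
  have hQ : IsPGroup 2 ↥φ.range := hD.of_surjective φ.rangeRestrict φ.rangeRestrict_surjective
  obtain ⟨P', hP'⟩ := hQ.exists_le_sylow
  obtain ⟨g, hg⟩ := MulAction.exists_smul_eq (alternatingGroup (Fin n)) P P'
  have haφ : a ∈ φ.range := by
    refine ⟨DihedralGroup.r 1, ?_⟩
    change (zmodPow 4 a ha 1).toMul = a
    rw [zmodPow_eq_zpow]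
    have : (ZMod.cast (1 : ZMod 4) : ℤ) = 1 := by decide
    rw [this, zpow_one]
  have hbφ : b ∈ φ.range := by
    refine ⟨DihedralGroup.sr 0, ?_⟩
    change b * (zmodPow 4 a ha 0).toMul = b
    rw [zmodPow_zero, mul_one]
  have haP' : a ∈ (P' : Subgroup (alternatingGroup (Fin n))) := hP' haφ
  have hbP' : b ∈ (P' : Subgroup (alternatingGroup (Fin n))) := hP' hbφ
  rw [← hg, Sylow.smul_def] at haP' hbP'
  change a ∈ MulAut.conj g • (P : Subgroup (alternatingGroup (Fin n))) at haP'
  change b ∈ MulAut.conj g • (P : Subgroup (alternatingGroup (Fin n))) at hbP'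
  rw [Subgroup.mem_smul_pointwise_iff_exists] at haP' hbP'
  obtain ⟨x, hxP, hxa⟩ := haP'
  obtain ⟨y, hyP, hyb⟩ := hbP'
  apply hne
  have hxy : x * y = y * x := by
    have := hP.is_comm.comm ⟨x, hxP⟩ ⟨y, hyP⟩
    exact congrArg Subtype.val this
  rw [← hxa, ← hyb, ← smul_mul', ← smul_mul', hxy]

end Cfsg.Agent.Helper11.AltSylow

namespace Cfsg.Agent.Helper11.AltSylow

open Equiv Cfsg.Agent.Helper11

theorem card_alt_five : Nat.card (alternatingGroup (Fin 5)) = 60 := by
  have h := two_mul_card_alternatingGroup (α := Fin 5)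
  rw [Fintype.card_perm, Fintype.card_fin] at h
  rw [Nat.card_eq_fintype_card]
  have : (5 : ℕ).factorial = 120 := by decide
  omega

/-- The Sylow 2-subgroups of `A₅` are four-groups with automizer of order 3. -/
theorem a5_case (P : Sylow 2 (alternatingGroup (Fin 5)))
    (hP : IsMulCommutative (P : Subgroup (alternatingGroup (Fin 5)))) :
    ((Subgroup.centralizer ((P : Subgroup (alternatingGroup (Fin 5))) :
        Set (alternatingGroup (Fin 5)))).subgroupOf
        (Subgroup.normalizer ((P : Subgroup (alternatingGroup (Fin 5))) :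
        Set (alternatingGroup (Fin 5))))).index = 3 ∧
      IsKleinFour (P : Subgroup (alternatingGroup (Fin 5))) := by
  classical
  have : Fact (Nat.Prime 2) := ⟨Nat.prime_two⟩
  have h60 := card_alt_five
  have hP4 : Nat.card ↥(P : Subgroup (alternatingGroup (Fin 5))) = 4 := by
    have := (sylow_card_of_card_eq_pow 15 2 (by rw [h60]; norm_num) (by norm_num) P).1
    rw [this]; norm_num
  have hsq : ∀ u ∈ (P : Subgroup (alternatingGroup (Fin 5))), u * u = 1 := by
    intro u hu
    have ho : orderOf u ∣ 4 := by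
      rw [← hP4]
      exact Subgroup.orderOf_dvd_natCard _ hu
    have hmem := Cfsg.Agent.Helper17.a5_orderOf_mem u
    simp only [Set.mem_insert_iff, Set.mem_singleton_iff] at hmem
    have h2 : orderOf u ∣ 2 := by
      rcases hmem with h | h | h | h
      · rw [h]; norm_num
      · rw [h]
      · rw [h] at ho; norm_num at ho
      · rw [h] at ho; norm_num at ho
    have := orderOf_dvd_iff_pow_eq_one.1 h2
    rwa [pow_two] at this
  constructor
  · set C := Subgroup.centralizer ((P : Subgroup (alternatingGroup (Fin 5))) :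
        Set (alternatingGroup (Fin 5))) with hC
    set N := Subgroup.normalizer ((P : Subgroup (alternatingGroup (Fin 5))) :
        Set (alternatingGroup (Fin 5))) with hN
    change C.relIndex N = 3
    have hCN : C ≤ N := Subgroup.centralizer_le_normalizer _
    have hPC : (P : Subgroup (alternatingGroup (Fin 5))) ≤ C := by
      intro x hx
      rw [hC, Subgroup.mem_centralizer_iff]
      intro y hy
      have := hP.is_comm.comm ⟨y, hy⟩ ⟨x, hx⟩
      exact congrArg Subtype.val this
    have h1 : C.relIndex N ∣ 6 := by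
      have h1 := relIndex_centralizer_normalizer_dvd_card_mulAut
        (P : Subgroup (alternatingGroup (Fin 5)))
      have h2 := card_mulAut_dvd_factorial ↥(P : Subgroup (alternatingGroup (Fin 5)))
      rw [hP4] at h2
      exact h1.trans h2
    have h2 : C.relIndex N ∣ 15 := by
      have h3 := relIndex_mul_card hCN
      have h4 : Nat.card ↥N ∣ 60 := h60 ▸ Subgroup.card_subgroup_dvd_card N
      have h5 : 4 ∣ Nat.card ↥C := hP4 ▸ Subgroup.card_dvd_of_le hPC
      obtain ⟨c, hc⟩ := h5
      rw [← h3, hc] at h4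
      have h6 : 4 * (C.relIndex N * c) ∣ 4 * 15 := by
        have : C.relIndex N * (4 * c) = 4 * (C.relIndex N * c) := by ring
        rw [this] at h4
        exact h4
      have h7 := (Nat.mul_dvd_mul_iff_left (by norm_num : 0 < 4)).1 h6
      exact (Dvd.intro _ rfl).trans h7
    have h3 : C.relIndex N ≠ 1 := by
      intro h
      rw [Subgroup.relIndex_eq_one] at h
      have hnc : ¬ IsMulCommutative (alternatingGroup (Fin 5)) :=
        simple_noncomm_of_card (by rw [h60]; norm_num)
      exact simple_not_normalizer_le_centralizer hnc 2 P (by rw [h60]; norm_num) h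
    have h4 : C.relIndex N ∣ 3 := by
      have := Nat.dvd_gcd h1 h2
      norm_num at this
      exact this
    rcases (Nat.dvd_prime Nat.prime_three).1 h4 with h | h
    · exact absurd h h3
    · exact h
  · exact
      { card_four := hP4
        exponent_two := by
          have hdvd : Monoid.exponent ↥(P : Subgroup (alternatingGroup (Fin 5))) ∣ 2 := by
            apply Monoid.exponent_dvd_of_forall_pow_eq_one
            rintro ⟨u, hu⟩
            apply Subtype.ext
            rw [pow_two]
            exact hsq u hu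
          have hne : Monoid.exponent ↥(P : Subgroup (alternatingGroup (Fin 5))) ≠ 1 := by
            intro h1
            have hsub : Subsingleton ↥(P : Subgroup (alternatingGroup (Fin 5))) :=
              Monoid.exp_eq_one_iff.1 h1
            have : Nat.card ↥(P : Subgroup (alternatingGroup (Fin 5))) ≤ 1 :=
              Finite.card_le_one_iff_subsingleton.2 hsub
            omega
          rcases (Nat.dvd_prime Nat.prime_two).1 hdvd with h | h
          · exact absurd h hne
          · exact h }

end Cfsg.Agent.Helper11.AltSylow
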