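import Mathlib
import Cfsg.Agent.Helper6.Chev.TablesBN
import Cfsg.Agent.Helper6.Chev.BNPairDef
import Cfsg.Agent.S0311
import Cfsg.Agent.S1027
import Cfsg.Agent.S1036

/-!
# `U` is a Sylow `p`-subgroup of a tabulated Chevalley group in characteristic `p`

Without the order of the group: `U` is a maximal `p`-subgroup because `N_G(U) = B = UH`
(from the `(B, N)`-pair) and `H` has exponent dividing `q - 1`.
-/

set_option autoImplicit false

namespace Cfsg.Agent.Helper11.ChevSylow

open Cfsg.Lie Cfsg.Agent.Helper6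

variable {D : ChevalleyDatum} {F : Type*} [Field F]

/-- the normaliser of `U` in the Chevalley group is `B` -/
theorem normalizer_posUnipotent (hD : D ∈ [chevG2, chevB2, chevD4, chevF4, chevE6, chevE7, chevE8]) :
    Subgroup.normalizer (((D.posUnipotent F).subgroupOf (D.group F) : Subgroup ↥(D.group F)) :
      Set ↥(D.group F)) = (D.borelSubgroup F).subgroupOf (D.group F) := by
  have hDt : IsTabulated D := hD
  have Δ := bnData_of_tabulated F hDt
  have hB := Δ.hB
  set P : Cfsg.BNPair ↥(D.group F) := Δ.bnPair with hP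
  have hPB : P.B = (D.borelSubgroup F).subgroupOf (D.group F) := rfl
  have hPS : P.S = {n : ↥(D.group F) | ∃ i < D.rank,
      ((n : GL D.Idx F) : Matrix D.Idx D.Idx F) = D.nMat F (D.simple i) 1} := rfl
  have hnormH := (Cfsg.Agent.S1036.result (F := F) D hD).1
  -- B normalises U
  have hBle : P.B ≤ Subgroup.normalizer (((D.posUnipotent F).subgroupOf (D.group F) :
      Subgroup ↥(D.group F)) : Set ↥(D.group F)) := by
    intro b hb
    rw [hPB, Subgroup.mem_subgroupOf] at hb
    have hb' : (b : GL D.Idx F) ∈ Subgroup.normalizer ((D.posUnipotent F : Subgroup (GL D.Idx F)) :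
        Set (GL D.Idx F)) := by
      have : D.borelSubgroup F ≤ Subgroup.normalizer ((D.posUnipotent F : Subgroup (GL D.Idx F)) :
          Set (GL D.Idx F)) := by
        unfold ChevalleyDatum.borelSubgroup
        exact sup_le Subgroup.le_normalizer hnormH
      exact this hb
    rw [Subgroup.mem_normalizer_iff] at hb' ⊢
    intro u
    simp only [Subgroup.mem_subgroupOf]
    have := hb' (u : GL D.Idx F)
    simpa using this
  obtain ⟨J, hJ, hM⟩ := Cfsg.Agent.S0311.result P _ hBle
  have hJe : J = ∅ := by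
    by_contra hne
    obtain ⟨s, hs⟩ := Set.nonempty_iff_ne_empty.2 hne
    have hsS := hJ hs
    rw [hPS] at hsS
    obtain ⟨i, hi, hsv⟩ := hsS
    have hA := Δ.hAll i hi
    have hp : D.simple i < D.nroots := hA.hS.1
    have hsn : (s : GL D.Idx F) = nU hB (D.simple i) (one_ne_zero (α := F)) :=
      Units.ext (by rw [hsv, nU_val])
    have hsM : s ∈ P.parabolic J := by
      unfold Cfsg.BNPair.parabolic
      exact Subgroup.mem_sup_right (Subgroup.subset_closure hs)
    rw [← hM, Subgroup.mem_normalizer_iff] at hsM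
    -- the element x_{p_i}(1) of U
    have hx : xU hB (D.simple i) (1 : F) ∈ D.posUnipotent F :=
      Subgroup.subset_closure ⟨D.simple i, 1, (Δ.hsign' _ hp).2 (Δ.hpN i hi), rfl⟩
    have hxG : xU hB (D.simple i) (1 : F) ∈ D.group F := xU_mem_group hB hp 1
    have h1 := (hsM ⟨_, hxG⟩).1 (by rw [Subgroup.mem_subgroupOf]; exact hx)
    rw [Subgroup.mem_subgroupOf] at h1
    simp only [Subgroup.coe_mul, Subgroup.coe_inv, hsn] at h1
    rw [nU_conj_xU hB hA hp] at h1
    have hw : wR D (D.simple i) (D.simple i) = D.neg (D.simple i) := by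
      unfold wR; rw [if_pos rfl]
    rw [hw] at h1
    have hnp : D.neg (D.simple i) < D.nroots := (hB.neg _ hp).1
    have h2 : xU hB (D.neg (D.simple i)) (((etaR D (D.simple i) (D.simple i) : ℤ) : F) * 1) ∈
        D.borelSubgroup F := by
      unfold ChevalleyDatum.borelSubgroup
      exact Subgroup.mem_sup_left h1
    have h3 := Δ.eq_zero_of_xU_neg_mem_borel hnp (Δ.hnp hi) h2
    rcases (hA.hE.2 _ hp).1 with h4 | h4 <;> rw [h4] at h3 <;> simp at h3
  rw [hM, hJe]
  simp [Cfsg.BNPair.parabolic, hPB]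

/-- elements of `H` have order dividing `q - 1` -/
theorem pow_card_sub_one_eq_one [Fintype F] (hD : IsTabulated D) {h : GL D.Idx F}
    (hh : h ∈ D.diagonalSubgroup F) : h ^ (Fintype.card F - 1) = 1 := by
  have hB := basicOK_of_tabulated hD
  obtain ⟨c, hc, hv⟩ := exists_torMat_of_mem_diagonal hB
    (fun r hr => hDiag_of_tabulated hD hr) hh
  apply Units.ext
  rw [Units.val_pow_eq_pow_val, hv, Units.val_one]
  have hpow : ∀ n : ℕ, (torMat D F c) ^ n = torMat D F (fun i => c i ^ n) := by
    intro n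
    induction n with
    | zero => simp [torMat_one]
    | succ n ih => rw [pow_succ, ih, torMat_mul]; congr 1; funext i; rw [pow_succ]
  rw [hpow]
  have : (fun i => c i ^ (Fintype.card F - 1)) = fun _ => (1 : F) := by
    funext i
    exact FiniteField.pow_card_sub_one_eq_one (c i) (hc i)
  rw [this, torMat_one]

/-- `U` is a Sylow `p`-subgroup -/
theorem exists_sylow [Fintype F] (p : ℕ) [Fact p.Prime] [CharP F p]
    (hD : D ∈ [chevG2, chevB2, chevD4, chevF4, chevE6, chevE7, chevE8]) :
    ∃ P : Sylow p ↥(D.group F),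
      (P : Subgroup ↥(D.group F)) = (D.posUnipotent F).subgroupOf (D.group F) := by
  have hDt : IsTabulated D := hD
  have hB := basicOK_of_tabulated hDt
  set U' : Subgroup ↥(D.group F) := (D.posUnipotent F).subgroupOf (D.group F) with hU'
  have hUle : D.posUnipotent F ≤ D.group F := posUnipotent_le_group hB
  -- U' is a p-group
  have hUp : IsPGroup p U' := by
    obtain ⟨n, hn⟩ := FiniteField.card F p
    have hcard : Nat.card U' = (p ^ (n : ℕ)) ^ (D.nroots / 2) := by
      rw [hU', Nat.card_congr (Subgroup.subgroupOfEquivOfLe hUle).toEquiv,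
        Cfsg.Agent.S1027.result D hD, hn.2]
    rw [← pow_mul] at hcard
    exact IsPGroup.of_card hcard
  obtain ⟨Q, hQ⟩ := hUp.exists_le_sylow
  refine ⟨Q, ?_⟩
  by_contra hne
  have hlt : U' < (Q : Subgroup ↥(D.group F)) := lt_of_le_of_ne hQ (Ne.symm hne)
  -- normalisers grow in the p-group Q
  have hQnil : Group.IsNilpotent (Q : Subgroup ↥(D.group F)) := Q.2.isNilpotent
  have hcond := Group.normalizerCondition_of_isNilpotent (G := (Q : Subgroup ↥(D.group F)))
  have hlt' : U'.subgroupOf (Q : Subgroup ↥(D.group F)) < ⊤ := by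
    rw [lt_top_iff_ne_top]
    intro h
    rw [Subgroup.subgroupOf_eq_top] at h
    exact hne (le_antisymm h hQ)
  have h1 := hcond _ hlt'
  obtain ⟨x, hxN, hxU⟩ := SetLike.exists_of_lt h1
  -- x ∈ Q normalises U', x ∉ U'
  have hxN' : (x : ↥(D.group F)) ∈ Subgroup.normalizer (U' : Set ↥(D.group F)) := by
    rw [Subgroup.mem_normalizer_iff] at hxN ⊢
    intro u
    constructor
    · intro hu
      have := (hxN ⟨u, hQ hu⟩).1 (by rw [Subgroup.mem_subgroupOf]; exact hu)
      rw [Subgroup.mem_subgroupOf] at this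
      simpa using this
    · intro hu
      have huQ : u ∈ (Q : Subgroup ↥(D.group F)) := by
        have h2 : (x : ↥(D.group F)) * u * (x : ↥(D.group F))⁻¹ ∈ (Q : Subgroup ↥(D.group F)) := hQ hu
        have h3 : u = (x : ↥(D.group F))⁻¹ * ((x : ↥(D.group F)) * u * (x : ↥(D.group F))⁻¹) *
            (x : ↥(D.group F)) := by group
        rw [h3]
        exact Subgroup.mul_mem _ (Subgroup.mul_mem _ (Subgroup.inv_mem _ x.2) h2) x.2
      have := (hxN ⟨u, huQ⟩).2 (by rw [Subgroup.mem_subgroupOf]; simpa using hu)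
      rw [Subgroup.mem_subgroupOf] at this
      exact this
  rw [hU', normalizer_posUnipotent hD, Subgroup.mem_subgroupOf] at hxN'
  have hxU' : ((x : ↥(D.group F)) : GL D.Idx F) ∉ D.posUnipotent F := by
    intro h
    apply hxU
    rw [Subgroup.mem_subgroupOf, hU', Subgroup.mem_subgroupOf]
    exact h
  -- decompose x = u h
  have hnormH := (Cfsg.Agent.S1036.result (F := F) D hD).1
  have hx2 : ((x : ↥(D.group F)) : GL D.Idx F) ∈ D.posUnipotent F ⊔ D.diagonalSubgroup F := hxN'
  rw [← SetLike.mem_coe, Subgroup.coe_mul_of_right_le_normalizer_left _ _ hnormH] at hx2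
  obtain ⟨u, hu, h, hh, hxe⟩ := hx2
  have huG : u ∈ D.group F := hUle hu
  have hhG : h ∈ D.group F := diagonalSubgroup_le_group hB hh
  -- h ∈ Q, so h has p-power order; also h^(q-1) = 1
  have hhQ : (⟨h, hhG⟩ : ↥(D.group F)) ∈ (Q : Subgroup ↥(D.group F)) := by
    have huQ : (⟨u, huG⟩ : ↥(D.group F)) ∈ (Q : Subgroup ↥(D.group F)) :=
      hQ (by rw [hU', Subgroup.mem_subgroupOf]; exact hu)
    have : (⟨h, hhG⟩ : ↥(D.group F)) = (⟨u, huG⟩ : ↥(D.group F))⁻¹ * (x : ↥(D.group F)) := by
      apply Subtype.ext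
      simp only [Subgroup.coe_mul, Subgroup.coe_inv]
      rw [← hxe]
      show h = u⁻¹ * (u * h)
      group
    rw [this]
    exact Subgroup.mul_mem _ (Subgroup.inv_mem _ huQ) x.2
  obtain ⟨k, hk⟩ := Q.2 ⟨⟨h, hhG⟩, hhQ⟩
  have hk' : h ^ p ^ k = 1 := by
    have := congrArg (fun y : (Q : Subgroup ↥(D.group F)) => ((y : ↥(D.group F)) : GL D.Idx F)) hk
    simpa using this
  have hq1 := pow_card_sub_one_eq_one hDt hh
  have hcop : Nat.Coprime (p ^ k) (Fintype.card F - 1) := by
    obtain ⟨n, hn⟩ := FiniteField.card F p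
    apply Nat.Coprime.pow_left
    rw [hn.2]
    have hp := (Fact.out : p.Prime)
    have h1 : 1 ≤ p ^ (n : ℕ) := Nat.one_le_pow _ _ hp.pos
    rw [Nat.Prime.coprime_iff_not_dvd hp]
    intro hd
    have h2 : p ∣ p ^ (n : ℕ) := dvd_pow_self p n.ne_zero
    have h3 := Nat.dvd_sub h2 hd
    rw [Nat.sub_sub_self h1] at h3
    exact hp.one_lt.ne' (Nat.dvd_one.1 h3)
  have hh1 : h = 1 := by
    have h1 := orderOf_dvd_of_pow_eq_one hk'
    have h2 := orderOf_dvd_of_pow_eq_one hq1
    have := Nat.eq_one_of_dvd_coprimes hcop h1 h2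
    exact orderOf_eq_one_iff.1 this
  apply hxU'
  rw [← hxe, hh1]
  show u * 1 ∈ _
  rw [mul_one]
  exact hu

end Cfsg.Agent.Helper11.ChevSylow
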