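import Mathlib
import Cfsg.Agent.Helper11.ChevSylow
import Cfsg.Agent.S1053
import Cfsg.Agent.Helper6.Chev.BorelNeg
import Cfsg.Agent.Helper6.Chev.Core
import Cfsg.Agent.Helper6.Chev.TablesReach
import Cfsg.Agent.Helper6.Chev.TablesAddC

set_option autoImplicit false
set_option linter.unusedSectionVars false
set_option linter.unusedSimpArgs false
set_option linter.unusedVariables false

/-! Automorphisms of a tabulated Chevalley group stabilising `U` and `V`; the inner ones among
them are the conjugations by elements of `H`. -/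

namespace Cfsg.Agent.Helper11.AutStab

open Cfsg.Lie Cfsg.Agent.Helper6

variable {D : ChevalleyDatum} {F : Type*} [Field F]

/-- `U` inside the group -/
abbrev UG (D : ChevalleyDatum) (F : Type*) [Field F] : Subgroup ↥(D.group F) :=
  (D.posUnipotent F).subgroupOf (D.group F)

/-- `V` inside the group -/
abbrev VG (D : ChevalleyDatum) (F : Type*) [Field F] : Subgroup ↥(D.group F) :=
  (D.negUnipotent F).subgroupOf (D.group F)

/-- the automorphism stabilises `U` and `V` -/
def Stab (θ : ↥(D.group F) ≃* ↥(D.group F)) : Prop :=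
  (∀ g, g ∈ UG D F ↔ θ g ∈ UG D F) ∧ (∀ g, g ∈ VG D F ↔ θ g ∈ VG D F)

theorem Stab.refl : Stab (MulEquiv.refl ↥(D.group F)) := ⟨fun _ => Iff.rfl, fun _ => Iff.rfl⟩

theorem Stab.trans {θ ψ : ↥(D.group F) ≃* ↥(D.group F)} (h1 : Stab θ) (h2 : Stab ψ) :
    Stab (θ.trans ψ) :=
  ⟨fun g => (h1.1 g).trans (h2.1 (θ g)), fun g => (h1.2 g).trans (h2.2 (θ g))⟩

theorem Stab.symm {θ : ↥(D.group F) ≃* ↥(D.group F)} (h : Stab θ) : Stab θ.symm :=
  ⟨fun g => by rw [h.1 (θ.symm g), MulEquiv.apply_symm_apply],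
   fun g => by rw [h.2 (θ.symm g), MulEquiv.apply_symm_apply]⟩

theorem negUnipotent_le_group (hB : BasicOK D) : D.negUnipotent F ≤ D.group F := by
  unfold ChevalleyDatum.negUnipotent
  rw [Subgroup.closure_le]
  rintro g ⟨r, t, hr, hg⟩
  apply Subgroup.subset_closure
  exact ⟨⟨r, hr.1⟩, t, by rw [hg, x_of_lt hr.1]⟩

/-- an element of the group whose conjugation stabilises `U` and `V` lies in `H` -/
theorem mem_diagonal_of_stab (hD : IsTabulated D) (x : ↥(D.group F))
    (h : Stab (MulAut.conj x)) : (x : GL D.Idx F) ∈ D.diagonalSubgroup F := by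
  have hB := basicOK_of_tabulated hD
  have hAll : ∀ i < D.rank, SimpleAll D i := fun i hi => simpleAll_of_tabulated hD hi
  have hAdd : ∀ i < D.rank, AddOK D i := fun i hi => addOK_of_tabulated hD hi
  have hH : ∀ r < D.nroots, HDiag D F r (aOf D r) := fun r hr => hDiag_of_tabulated hD hr
  have hReach : ∀ r < D.nroots, Reach D r := fun r hr => reach_of_tabulated hD hr
  have hG := Chev.good2_of_mem hD
  obtain ⟨n, hnN, hnU⟩ := Cfsg.Agent.S1053.result (F := F) D hD
  have hnG : n ∈ D.group F := monomialSubgroup_le_group hB hnN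
  have hnH := monomial_le_normalizer hB hAll hH hReach hnN
  have hUG := posUnipotent_le_group (F := F) hB
  have hVG := negUnipotent_le_group (F := F) hB
  -- conjugation by `n` exchanges `U` and `V`
  have hnUV : ∀ u ∈ D.posUnipotent F, n * u * n⁻¹ ∈ D.negUnipotent F := by
    intro u hu
    rw [← hnU]
    exact ⟨u, hu, rfl⟩
  have hnVU : ∀ v ∈ D.negUnipotent F, n⁻¹ * v * n ∈ D.posUnipotent F := by
    intro v hv
    rw [← hnU] at hv
    obtain ⟨u, hu, rfl⟩ := hv
    have : n⁻¹ * ((MulAut.conj n).toMonoidHom u) * n = u := by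
      simp [MulAut.conj_apply]; group
    rw [this]; exact hu
  -- `x` and `x⁻¹` conjugate `V` into `V`
  have hxV : ∀ v ∈ D.negUnipotent F, (x : GL D.Idx F) * v * (x : GL D.Idx F)⁻¹ ∈ D.negUnipotent F := by
    intro v hv
    have := (h.2 ⟨v, hVG hv⟩).1 (Subgroup.mem_subgroupOf.2 hv)
    rw [Subgroup.mem_subgroupOf] at this
    simpa [MulAut.conj_apply] using this
  have hxV' : ∀ v ∈ D.negUnipotent F, (x : GL D.Idx F)⁻¹ * v * (x : GL D.Idx F) ∈ D.negUnipotent F := by
    intro v hv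
    have key := (h.2 (x⁻¹ * ⟨v, hVG hv⟩ * x)).2 (by
      rw [Subgroup.mem_subgroupOf]
      have : ((MulAut.conj x) (x⁻¹ * ⟨v, hVG hv⟩ * x) : ↥(D.group F)) = ⟨v, hVG hv⟩ := by
        simp [MulAut.conj_apply]; group
      rw [this]; exact hv)
    rw [Subgroup.mem_subgroupOf] at key
    simpa using key
  have hxU : ∀ u ∈ D.posUnipotent F, (x : GL D.Idx F) * u * (x : GL D.Idx F)⁻¹ ∈ D.posUnipotent F := by
    intro u hu
    have := (h.1 ⟨u, hUG hu⟩).1 (Subgroup.mem_subgroupOf.2 hu)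
    rw [Subgroup.mem_subgroupOf] at this
    simpa [MulAut.conj_apply] using this
  have hxU' : ∀ u ∈ D.posUnipotent F, (x : GL D.Idx F)⁻¹ * u * (x : GL D.Idx F) ∈ D.posUnipotent F := by
    intro u hu
    have key := (h.1 (x⁻¹ * ⟨u, hUG hu⟩ * x)).2 (by
      rw [Subgroup.mem_subgroupOf]
      have : ((MulAut.conj x) (x⁻¹ * ⟨u, hUG hu⟩ * x) : ↥(D.group F)) = ⟨u, hUG hu⟩ := by
        simp [MulAut.conj_apply]; group
      rw [this]; exact hu)
    rw [Subgroup.mem_subgroupOf] at key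
    simpa using key
  -- a general criterion for membership in `B`
  have hnorm : ∀ y : ↥(D.group F),
      (∀ u ∈ D.posUnipotent F, (y : GL D.Idx F) * u * (y : GL D.Idx F)⁻¹ ∈ D.posUnipotent F) →
      (∀ u ∈ D.posUnipotent F, (y : GL D.Idx F)⁻¹ * u * (y : GL D.Idx F) ∈ D.posUnipotent F) →
      (y : GL D.Idx F) ∈ D.borelSubgroup F := by
    intro y h1 h2
    have hy : y ∈ Subgroup.normalizer (((D.posUnipotent F).subgroupOf (D.group F) :
        Subgroup ↥(D.group F)) : Set ↥(D.group F)) := by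
      rw [Subgroup.mem_normalizer_iff]
      intro g
      simp only [Subgroup.mem_subgroupOf, Subgroup.coe_mul, Subgroup.coe_inv]
      constructor
      · intro hg; exact h1 _ hg
      · intro hg
        have := h2 _ hg
        have e : (y : GL D.Idx F)⁻¹ * ((y : GL D.Idx F) * (g : GL D.Idx F) * (y : GL D.Idx F)⁻¹) *
            (y : GL D.Idx F) = (g : GL D.Idx F) := by group
        rwa [e] at this
    rw [ChevSylow.normalizer_posUnipotent hD, Subgroup.mem_subgroupOf] at hy
    exact hy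
  have hxB : (x : GL D.Idx F) ∈ D.borelSubgroup F := hnorm x hxU hxU'
  -- `n⁻¹ x n ∈ B`
  have hyB : n⁻¹ * (x : GL D.Idx F) * n ∈ D.borelSubgroup F := by
    have := hnorm (⟨n, hnG⟩⁻¹ * x * ⟨n, hnG⟩) (by
      intro u hu
      simp only [Subgroup.coe_mul, Subgroup.coe_inv]
      have h1 := hnVU _ (hxV _ (hnUV u hu))
      have e : n⁻¹ * ((x : GL D.Idx F) * (n * u * n⁻¹) * (x : GL D.Idx F)⁻¹) * n =
          n⁻¹ * (x : GL D.Idx F) * n * u * (n⁻¹ * (x : GL D.Idx F) * n)⁻¹ := by group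
      rwa [e] at h1) (by
      intro u hu
      simp only [Subgroup.coe_mul, Subgroup.coe_inv]
      have h1 := hnVU _ (hxV' _ (hnUV u hu))
      have e : n⁻¹ * ((x : GL D.Idx F)⁻¹ * (n * u * n⁻¹) * (x : GL D.Idx F)) * n =
          (n⁻¹ * (x : GL D.Idx F) * n)⁻¹ * u * (n⁻¹ * (x : GL D.Idx F) * n) := by group
      rwa [e] at h1)
    simpa using this
  -- hence `x ∈ V H`
  have hxVH : (x : GL D.Idx F) ∈ D.negUnipotent F ⊔ D.diagonalSubgroup F := by
    have h1 : n⁻¹ * (x : GL D.Idx F) * n ∈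
        ((D.posUnipotent F ⊔ D.diagonalSubgroup F : Subgroup (GL D.Idx F)) : Set (GL D.Idx F)) := hyB
    rw [Subgroup.coe_mul_of_right_le_normalizer_left _ _
      (diagonal_le_normalizer_posUnipotent hB hAll hAdd hH), Set.mem_mul] at h1
    obtain ⟨u, hu, k, hk, huk⟩ := h1
    have e : (x : GL D.Idx F) = (n * u * n⁻¹) * (n * k * n⁻¹) := by
      have : (x : GL D.Idx F) = n * (n⁻¹ * (x : GL D.Idx F) * n) * n⁻¹ := by group
      rw [this, ← huk]; group
    rw [e]
    apply Subgroup.mul_mem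
    · exact Subgroup.mem_sup_left (hnUV u hu)
    · apply Subgroup.mem_sup_right
      exact (Subgroup.mem_normalizer_iff.1 (hnH) k).1 hk
  have := borel_inf_negBorel (F := F) hB hAll hAdd hH hG
  rw [← this]
  exact ⟨hxB, hxVH⟩

end Cfsg.Agent.Helper11.AutStab
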