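import Mathlib
import Cfsg.Prelude.Def_ChevAutomorphisms
import Cfsg.Agent.Helper6.Chev.GLvl
import Cfsg.Agent.Helper6.Chev.TablesReach

/-!
# The tabulated Chevalley groups are generated by the fundamental root elements

`closure_fundSet`: for a tabulated datum `D`, the group `D.group F` is generated by the elements
`x_{±p_i}(t)`, `p_i` fundamental.  (Uses helper6's `nU_conj_xU` and `Reach`.)
-/

set_option autoImplicit false

namespace Cfsg.Agent.Helper11.ChevGen

open Cfsg.Lie Cfsg.Agent.Helper6

variable {D : ChevalleyDatum} {F : Type*} [Field F]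

/-- the fundamental root elements and their negatives, inside the Chevalley group -/
def fundSet (D : ChevalleyDatum) (F : Type*) [Field F] : Set ↥(D.group F) :=
  {y | ∃ (i : Fin D.rank) (t : F),
      ((y : GL D.Idx F) : Matrix D.Idx D.Idx F) = D.x F (D.simple i) t ∨
      ((y : GL D.Idx F) : Matrix D.Idx D.Idx F) = D.x F (D.neg (D.simple i)) t}

/-- root element as an element of the Chevalley group -/
def mk (hB : BasicOK D) (r : ℕ) (hr : r < D.nroots) (t : F) : ↥(D.group F) :=
  ⟨xU hB r t, xU_mem_group hB hr t⟩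

theorem mk_val (hB : BasicOK D) (r : ℕ) (hr : r < D.nroots) (t : F) :
    (((mk hB r hr t : ↥(D.group F)) : GL D.Idx F) : Matrix D.Idx D.Idx F) = D.x F r t := rfl

theorem nU_eq (hB : BasicOK D) (r : ℕ) :
    nU hB r (one_ne_zero (α := F)) = xU hB r 1 * xU hB (D.neg r) (-(1 : F)⁻¹) * xU hB r 1 := by
  apply Units.ext
  simp only [nU_val, Units.val_mul, xU_val, ChevalleyDatum.nMat, ChevalleyDatum.wordMat,
    ChevalleyDatum.nWord, List.map_cons, List.map_nil, List.prod_cons, List.prod_nil, mul_one,
    mul_assoc]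

theorem mk_mem_of_reach (hD : IsTabulated D) {r : ℕ} (h : Reach D r) :
    ∀ (hr : r < D.nroots) (t : F),
      mk (basicOK_of_tabulated hD) r hr t ∈ Subgroup.closure (fundSet D F) := by
  have hB := basicOK_of_tabulated hD
  have hA : ∀ i < D.rank, SimpleAll D i := fun i hi => simpleAll_of_tabulated hD hi
  induction h with
  | @simple i hi =>
    intro hr t
    apply Subgroup.subset_closure
    exact ⟨⟨i, hi⟩, t, Or.inl rfl⟩
  | @step i s hi hs hreach ih =>
    intro hr t
    have hp : D.simple i < D.nroots := (hA i hi).hS.1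
    have hnp : D.neg (D.simple i) < D.nroots := (hB.neg _ hp).1
    have hη := ((hA i hi).hE.2 s hs).1
    set η : ℤ := etaR D (D.simple i) s with hηdef
    have hηη : ((η : ℤ) : F) * ((η : ℤ) : F) = 1 := by
      rcases hη with h1 | h1 <;> rw [h1] <;> simp
    have hconj := nU_conj_xU (F := F) hB (hA i hi) hs (((η : ℤ) : F) * t)
    rw [← mul_assoc, hηη, one_mul] at hconj
    -- the element n in the subgroup
    have h1 : mk hB (D.simple i) hp (1 : F) ∈ Subgroup.closure (fundSet D F) :=
      Subgroup.subset_closure ⟨⟨i, hi⟩, 1, Or.inl rfl⟩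
    have h2 : mk hB (D.neg (D.simple i)) hnp (-(1 : F)⁻¹) ∈ Subgroup.closure (fundSet D F) :=
      Subgroup.subset_closure ⟨⟨i, hi⟩, _, Or.inr rfl⟩
    have hn : mk hB (D.simple i) hp (1 : F) * mk hB (D.neg (D.simple i)) hnp (-(1 : F)⁻¹) *
        mk hB (D.simple i) hp (1 : F) ∈ Subgroup.closure (fundSet D F) :=
      Subgroup.mul_mem _ (Subgroup.mul_mem _ h1 h2) h1
    have hs' := ih hs (((η : ℤ) : F) * t)
    have hfin := Subgroup.mul_mem _ (Subgroup.mul_mem _ hn hs') (Subgroup.inv_mem _ hn)
    convert hfin using 1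
    apply Subtype.ext
    show xU hB (wR D (D.simple i) s) t = _
    rw [← hconj, nU_eq]
    rfl

theorem closure_fundSet (hD : IsTabulated D) : Subgroup.closure (fundSet D F) = ⊤ := by
  have hB := basicOK_of_tabulated hD
  rw [eq_top_iff]
  rintro ⟨y, hy⟩ -
  have key : ∀ (g : GL D.Idx F) (hg : g ∈ D.group F),
      (⟨g, hg⟩ : ↥(D.group F)) ∈ Subgroup.closure (fundSet D F) := by
    intro g hg
    induction hg using Subgroup.closure_induction with
    | mem g hg =>
      obtain ⟨r, t, hgr⟩ := hg
      have : (⟨g, Subgroup.subset_closure ⟨r, t, hgr⟩⟩ : ↥(D.group F)) = mk hB r.val r.isLt t := by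
        apply Subtype.ext
        apply Units.ext
        show (g : Matrix D.Idx D.Idx F) = D.x F r.val t
        rw [hgr, x_of_lt r.isLt]
      rw [this]
      exact mk_mem_of_reach hD (reach_of_tabulated hD r.isLt) r.isLt t
    | one => exact Subgroup.one_mem _
    | mul a b ha hb iha ihb => exact Subgroup.mul_mem _ iha ihb
    | inv a ha iha => exact Subgroup.inv_mem _ iha
  exact key y hy

end Cfsg.Agent.Helper11.ChevGen
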