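import Mathlib
import Cfsg.Prelude.Def_ChevAutomorphisms
import Cfsg.Agent.Helper11.ChevGen
import Cfsg.Agent.Helper11.AutStab
import Cfsg.Agent.Helper6.Ree.UgeWord
import Cfsg.Agent.Helper2.Stb.Coll

set_option autoImplicit false
set_option linter.unusedSectionVars false
set_option linter.unusedSimpArgs false
set_option linter.unusedVariables false

/-! Automorphisms of tabulated Chevalley groups through their action on root elements. -/

namespace Cfsg.Agent.Helper11.AutAct

open Cfsg.Lie Cfsg.Agent.Helper6 Cfsg.Agent.Helper11.ChevGen Cfsg.Agent.Helper11.AutStab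

variable {D : ChevalleyDatum} {F : Type*} [Field F]

/-- an element of the group with the matrix of a root element is that root element -/
theorem eq_mk (hB : BasicOK D) {y : ↥(D.group F)} {r : ℕ} (hr : r < D.nroots) {t : F}
    (h : ((y : GL D.Idx F) : Matrix D.Idx D.Idx F) = D.x F r t) : y = mk hB r hr t := by
  apply Subtype.ext
  apply Units.ext
  rw [h]; rfl

/-- automorphisms agreeing on the fundamental root elements and their negatives are equal -/
theorem ext_fund (hD : IsTabulated D) {θ ψ : ↥(D.group F) ≃* ↥(D.group F)}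
    (h : ∀ y ∈ fundSet D F, θ y = ψ y) : θ = ψ := by
  have key : θ.toMonoidHom = ψ.toMonoidHom :=
    MonoidHom.eq_of_eqOn_dense (closure_fundSet (F := F) hD) h
  apply MulEquiv.ext
  intro y
  exact DFunLike.congr_fun key y

theorem hom_ext_fund (hD : IsTabulated D) {M : Type*} [Monoid M] {θ ψ : ↥(D.group F) →* M}
    (h : ∀ y ∈ fundSet D F, θ y = ψ y) : θ = ψ :=
  MonoidHom.eq_of_eqOn_dense (closure_fundSet (F := F) hD) h

/-- distinct positive root elements: equal matrices force equal roots and parameters -/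
theorem x_eq_x (hD : IsTabulated D) {r r' : ℕ} (hN : D.nroots / 2 ≤ r) (hN' : D.nroots / 2 ≤ r')
    (hr : r < D.nroots) (hr' : r' < D.nroots) {s s' : F} (hs : s ≠ 0)
    (h : D.x F r s = D.x F r' s') : r = r' ∧ s = s' := by
  have hB := basicOK_of_tabulated hD
  have hx : xU hB r s = xU hB r' s' := Units.ext (by rw [xU_val, xU_val, h])
  have hrr : r = r' := by
    rcases lt_trichotomy r r' with hlt | heq | hgt
    · exfalso
      apply hs
      apply Cfsg.Agent.Helper6.Ree.xU_mem_uge_succ hD hN hr
      rw [hx]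
      exact xU_mem_Uge hB (by omega) hr' s'
    · exact heq
    · exfalso
      have hs'0 : s' = 0 := by
        apply Cfsg.Agent.Helper6.Ree.xU_mem_uge_succ hD hN' hr'
        rw [← hx]
        exact xU_mem_Uge hB (by omega) hr s
      apply hs
      apply Cfsg.Agent.Helper2.Stb.eq_zero_of_xU_eq_one hB hr
      rw [hx, hs'0]
      apply Units.ext
      rw [xU_val, Units.val_one]
      have := Cfsg.Agent.Helper6.xU_zero (F := F) hB r'
      rw [← xU_val hB, this, Units.val_one]
  subst hrr
  exact ⟨rfl, Cfsg.Agent.Helper2.Stb.xU_inj hB hr hx⟩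

/-- images of generators decide where a subgroup generated inside the group is mapped -/
theorem map_mem_of_gen {S : Set (GL D.Idx F)} (hS : Subgroup.closure S ≤ D.group F)
    (T : Subgroup ↥(D.group F)) (θ : ↥(D.group F) ≃* ↥(D.group F))
    (h : ∀ y (hy : y ∈ S), θ ⟨y, hS (Subgroup.subset_closure hy)⟩ ∈ T) :
    ∀ (g : GL D.Idx F) (hg : g ∈ Subgroup.closure S), θ ⟨g, hS hg⟩ ∈ T := by
  intro g hg
  induction hg using Subgroup.closure_induction with
  | mem y hy => exact h y hy
  | one =>
    have : (⟨1, hS (Subgroup.one_mem _)⟩ : ↥(D.group F)) = 1 := rfl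
    rw [this, map_one]; exact Subgroup.one_mem _
  | mul a b ha hb iha ihb =>
    have : (⟨a * b, hS (Subgroup.mul_mem _ ha hb)⟩ : ↥(D.group F)) = ⟨a, hS ha⟩ * ⟨b, hS hb⟩ := rfl
    rw [this, map_mul]; exact Subgroup.mul_mem _ iha ihb
  | inv a ha iha =>
    have : (⟨a⁻¹, hS (Subgroup.inv_mem _ ha)⟩ : ↥(D.group F)) = (⟨a, hS ha⟩ : ↥(D.group F))⁻¹ := rfl
    rw [this, map_inv]; exact Subgroup.inv_mem _ iha

/-- an injective self-map of a finite subgroup is onto -/
theorem mem_iff_of_map_mem [Finite F] (T : Subgroup ↥(D.group F))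
    (θ : ↥(D.group F) ≃* ↥(D.group F)) (h : ∀ g ∈ T, θ g ∈ T) (g : ↥(D.group F)) :
    g ∈ T ↔ θ g ∈ T := by
  constructor
  · exact h g
  · intro hg
    let f : T → T := fun u => ⟨θ u, h u u.2⟩
    have hinj : Function.Injective f := by
      intro a b hab
      have := congrArg Subtype.val hab
      exact Subtype.ext (θ.injective this)
    have hsurj := Finite.injective_iff_surjective.1 hinj
    obtain ⟨u, hu⟩ := hsurj ⟨θ g, hg⟩
    have : θ u = θ g := congrArg Subtype.val hu
    rw [← θ.injective this]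
    exact u.2

/-- an automorphism sending positive root elements into `U` and negative ones into `V`
stabilises `U` and `V` -/
theorem stab_of_gen [Finite F] (hD : IsTabulated D) (θ : ↥(D.group F) ≃* ↥(D.group F))
    (hpos : ∀ r (hr : r < D.nroots), D.nroots / 2 ≤ r → ∀ t : F,
      ((θ (mk (basicOK_of_tabulated hD) r hr t) : ↥(D.group F)) : GL D.Idx F) ∈ D.posUnipotent F)
    (hneg : ∀ r (hr : r < D.nroots), r < D.nroots / 2 → ∀ t : F,
      ((θ (mk (basicOK_of_tabulated hD) r hr t) : ↥(D.group F)) : GL D.Idx F) ∈ D.negUnipotent F) :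
    Stab θ := by
  have hB := basicOK_of_tabulated hD
  have hsign := sign_iff_of_tabulated hD
  constructor
  · apply mem_iff_of_map_mem
    intro g hg
    have hU : Subgroup.closure {g : GL D.Idx F | ∃ (r : ℕ) (t : F), D.IsPosRoot r ∧
        (g : Matrix D.Idx D.Idx F) = D.x F r t} ≤ D.group F := posUnipotent_le_group hB
    have := map_mem_of_gen hU (UG D F) θ (by
      rintro y ⟨r, t, hr, hy⟩
      rw [Subgroup.mem_subgroupOf]
      have e : (⟨y, hU (Subgroup.subset_closure ⟨r, t, hr, hy⟩)⟩ : ↥(D.group F)) =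
          mk hB r hr.1 t := eq_mk hB hr.1 hy
      rw [e]
      exact hpos r hr.1 (((hsign r hr.1).1).1 hr) t) g.val (Subgroup.mem_subgroupOf.1 hg)
    exact this
  · apply mem_iff_of_map_mem
    intro g hg
    have hV : Subgroup.closure {g : GL D.Idx F | ∃ (r : ℕ) (t : F), D.IsNegRoot r ∧
        (g : Matrix D.Idx D.Idx F) = D.x F r t} ≤ D.group F := negUnipotent_le_group hB
    have := map_mem_of_gen hV (VG D F) θ (by
      rintro y ⟨r, t, hr, hy⟩
      rw [Subgroup.mem_subgroupOf]
      have e : (⟨y, hV (Subgroup.subset_closure ⟨r, t, hr, hy⟩)⟩ : ↥(D.group F)) =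
          mk hB r hr.1 t := eq_mk hB hr.1 hy
      rw [e]
      exact hneg r hr.1 (((hsign r hr.1).2).1 hr) t) g.val (Subgroup.mem_subgroupOf.1 hg)
    exact this

end Cfsg.Agent.Helper11.AutAct
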