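import Mathlib
import Cfsg.Prelude.Def_ChevAutomorphisms
import Cfsg.Agent.Helper2.Levi.B

set_option autoImplicit false
set_option linter.unusedSectionVars false
set_option linter.unusedSimpArgs false
set_option linter.unusedVariables false

/-! Root characters of the tabulated Chevalley data: every assignment of values on the fundamental
roots extends uniquely to a character of the root lattice. -/

namespace Cfsg.Agent.Helper11.AutChar

open Cfsg.Lie Cfsg.Agent.Helper6 Cfsg.Agent.Helper2.Levi

/-- root coordinate `m_k(r)`: the scaled coordinate divided by the scale `d` -/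
def mco (D : ChevalleyDatum) (C : List (List ℤ)) (d : ℤ) (k r : ℕ) : ℤ := coord D C k r / d

/-- table check: the scale is non-zero, divides every scaled coordinate, the fundamental roots have
coordinates the unit vectors, and every positive non-fundamental root is a fundamental root plus a
positive root of smaller index -/
def mcoChk (D : ChevalleyDatum) (C : List (List ℤ)) (d : ℤ) : Bool :=
  decide (d ≠ 0) &&
  (allLt D.nroots fun r => allLt D.rank fun k => decide (coord D C k r % d = 0)) &&
  (allLt D.rank fun i => allLt D.rank fun k =>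
    decide (coord D C k (D.simple i) = if i = k then d else 0)) &&
  (allLt D.nroots fun r => Nat.blt r (D.nroots / 2) ||
    ((List.range D.rank).any fun i => r == D.simple i) ||
    ((List.range D.rank).any fun i => (List.range r).any fun s =>
      Nat.ble (D.nroots / 2) s && (D.chainRoot (D.simple i) s 1 == some r))) &&
  (allLt D.nroots fun r => Nat.ble (D.nroots / 2) r || Nat.ble (D.nroots / 2) (D.neg r)) &&
  (allLt D.rank fun i => Nat.blt (D.simple i) D.nroots)

structure MOK (D : ChevalleyDatum) (C : List (List ℤ)) (d : ℤ) : Prop where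
  hd : d ≠ 0
  hdiv : ∀ r < D.nroots, ∀ k < D.rank, coord D C k r = d * mco D C d k r
  hsimple : ∀ i < D.rank, ∀ k < D.rank, mco D C d k (D.simple i) = if i = k then 1 else 0
  hstep : ∀ r < D.nroots, D.nroots / 2 ≤ r → (∃ i < D.rank, r = D.simple i) ∨
    ∃ i < D.rank, ∃ s < r, D.nroots / 2 ≤ s ∧ D.chainRoot (D.simple i) s 1 = some r
  hneg : ∀ r < D.nroots, r < D.nroots / 2 → D.nroots / 2 ≤ D.neg r
  hslt : ∀ i < D.rank, D.simple i < D.nroots

theorem mOK_of_chk {D : ChevalleyDatum} {C : List (List ℤ)} {d : ℤ} (h : mcoChk D C d = true) :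
    MOK D C d := by
  simp only [mcoChk, Bool.and_eq_true, decide_eq_true_eq, allLt_iff, Bool.or_eq_true,
    List.any_eq_true, List.mem_range, beq_iff_eq, Nat.blt_eq, Nat.ble_eq] at h
  obtain ⟨⟨⟨⟨⟨h1, h2⟩, h3⟩, h4⟩, h5⟩, h6⟩ := h
  have hdiv : ∀ r < D.nroots, ∀ k < D.rank, coord D C k r = d * mco D C d k r := by
    intro r hr k hk
    unfold mco
    rw [Int.mul_ediv_cancel' (Int.dvd_of_emod_eq_zero (h2 r hr k hk))]
  refine ⟨h1, hdiv, ?_, ?_, ?_, h6⟩
  · intro i hi k hk
    have := h3 i hi k hk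
    rw [hdiv _ (h6 i hi) k hk] at this
    split_ifs at this ⊢ with hik
    · exact mul_left_cancel₀ h1 (by rw [this, mul_one])
    · exact (mul_eq_zero.1 this).resolve_left h1
  · intro r hr hN
    rcases h4 r hr with (h | ⟨i, hi, h⟩) | ⟨i, hi, s, hs, h, h'⟩
    · omega
    · exact Or.inl ⟨i, hi, h⟩
    · exact Or.inr ⟨i, hi, s, hs, h, h'⟩
  · intro r hr hN
    rcases h5 r hr with h | h
    · omega
    · exact h

variable {D : ChevalleyDatum} {C : List (List ℤ)} {d : ℤ} {F : Type*} [Field F]

theorem mco_add (hM : MOK D C d) (hB : BasicOK D) (hAdd : ∀ i < D.rank, AddOK D i) {r s q : ℕ}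
    (hr : r < D.nroots) (hs : s < D.nroots) (h : D.chainRoot r s 1 = some q) {k : ℕ}
    (hk : k < D.rank) : mco D C d k q = mco D C d k r + mco D C d k s := by
  obtain ⟨hq, hc⟩ := chainRoot_spec hB hAdd hr s 0 h
  have h1 := coord_lin (D := D) C k (q := q) (r := r) (s := s) (a := 1) (b := 1)
    (fun i hi => by rw [hc i hi]; push_cast; ring)
  rw [hM.hdiv q hq k hk, hM.hdiv r hr k hk, hM.hdiv s hs k hk] at h1
  apply mul_left_cancel₀ hM.hd
  rw [h1]; ring

theorem mco_neg (hM : MOK D C d) (hB : BasicOK D) {r : ℕ} (hr : r < D.nroots) {k : ℕ}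
    (hk : k < D.rank) : mco D C d k (D.neg r) = - mco D C d k r := by
  have h1 := coord_lin (D := D) C k (q := D.neg r) (r := r) (s := r) (a := -1) (b := 0)
    (fun i hi => by rw [(hB.negTab r hr).1 i hi]; ring)
  rw [hM.hdiv _ (hB.neg r hr).1 k hk, hM.hdiv r hr k hk] at h1
  apply mul_left_cancel₀ hM.hd
  rw [h1]; ring

/-- the character of the root lattice with prescribed values on the fundamental roots -/
def chiOf (D : ChevalleyDatum) (C : List (List ℤ)) (d : ℤ) (c : ℕ → Fˣ) (r : ℕ) : Fˣ :=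
  ∏ k ∈ Finset.range D.rank, c k ^ mco D C d k r

theorem isRootCharacter_chiOf (hM : MOK D C d) (hB : BasicOK D) (hAdd : ∀ i < D.rank, AddOK D i)
    (c : ℕ → Fˣ) : D.IsRootCharacter (chiOf D C d c) := by
  constructor
  · intro r hr
    unfold chiOf
    rw [← Finset.prod_inv_distrib]
    apply Finset.prod_congr rfl
    intro k hk
    rw [mco_neg hM hB hr (Finset.mem_range.1 hk), zpow_neg]
  · intro r s k hr hs h
    unfold chiOf
    rw [← Finset.prod_mul_distrib]
    apply Finset.prod_congr rfl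
    intro j hj
    rw [mco_add hM hB hAdd hr hs h (Finset.mem_range.1 hj), zpow_add]

theorem chiOf_simple (hM : MOK D C d) (c : ℕ → Fˣ) {i : ℕ} (hi : i < D.rank) :
    chiOf D C d c (D.simple i) = c i := by
  unfold chiOf
  rw [Finset.prod_eq_single i]
  · rw [hM.hsimple i hi i hi, if_pos rfl, zpow_one]
  · intro k hk hki
    rw [hM.hsimple i hi k (Finset.mem_range.1 hk), if_neg (Ne.symm hki), zpow_zero]
  · intro h
    exact absurd (Finset.mem_range.2 hi) h

/-- a character of the root lattice is determined by its values on the fundamental roots -/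
theorem eq_chiOf (hM : MOK D C d) (hB : BasicOK D) (hAdd : ∀ i < D.rank, AddOK D i)
    {χ : ℕ → Fˣ} (hχ : D.IsRootCharacter χ) :
    ∀ r < D.nroots, χ r = chiOf D C d (fun k => χ (D.simple k)) r := by
  have hc := isRootCharacter_chiOf (F := F) hM hB hAdd (fun k => χ (D.simple k))
  have hpos : ∀ r, r < D.nroots → D.nroots / 2 ≤ r →
      χ r = chiOf D C d (fun k => χ (D.simple k)) r := by
    intro r
    induction r using Nat.strong_induction_on with
    | _ r ih =>
      intro hr hN
      rcases hM.hstep r hr hN with ⟨i, hi, rfl⟩ | ⟨i, hi, s, hs, hsN, hch⟩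
      · rw [chiOf_simple hM _ hi]
      · have hs' : s < D.nroots := lt_trans hs hr
        rw [hχ.2 _ _ _ (hM.hslt i hi) hs' hch, hc.2 _ _ _ (hM.hslt i hi) hs' hch,
          ih s hs hs' hsN, chiOf_simple hM _ hi]
  intro r hr
  by_cases hN : D.nroots / 2 ≤ r
  · exact hpos r hr hN
  · have hn := hB.neg r hr
    have h1 := hpos (D.neg r) hn.1 (hM.hneg r hr (by omega))
    have h2 := hχ.1 (D.neg r) hn.1
    have h3 := hc.1 (D.neg r) hn.1
    rw [hn.2.2] at h2 h3
    rw [h2, h3, h1]

theorem eq_of_simple (hM : MOK D C d) (hB : BasicOK D) (hAdd : ∀ i < D.rank, AddOK D i)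
    {χ χ' : ℕ → Fˣ} (hχ : D.IsRootCharacter χ) (hχ' : D.IsRootCharacter χ')
    (h : ∀ i < D.rank, χ (D.simple i) = χ' (D.simple i)) :
    ∀ r < D.nroots, χ r = χ' r := by
  intro r hr
  rw [eq_chiOf hM hB hAdd hχ r hr, eq_chiOf hM hB hAdd hχ' r hr]
  unfold chiOf
  apply Finset.prod_congr rfl
  intro k hk
  show χ (D.simple k) ^ _ = χ' (D.simple k) ^ _
  rw [h k (Finset.mem_range.1 hk)]

theorem mcoChk_G2 : mcoChk chevG2 cG2 1 = true := by decide +kernel
theorem mcoChk_B2 : mcoChk chevB2 cB2 2 = true := by decide +kernel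
theorem mcoChk_D4 : mcoChk chevD4 cD4 2 = true := by decide +kernel
theorem mcoChk_F4 : mcoChk chevF4 cF4 1 = true := by decide +kernel
theorem mcoChk_E6 : mcoChk chevE6 cE6 3 = true := by decide +kernel
theorem mcoChk_E7 : mcoChk chevE7 cE7 2 = true := by decide +kernel
theorem mcoChk_E8 : mcoChk chevE8 cE8 1 = true := by decide +kernel

theorem exists_mOK {D : ChevalleyDatum} (hD : IsTabulated D) :
    ∃ (C : List (List ℤ)) (d : ℤ), MOK D C d := by
  unfold IsTabulated at hD
  simp only [List.mem_cons, List.not_mem_nil, or_false] at hD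
  rcases hD with rfl | rfl | rfl | rfl | rfl | rfl | rfl
  · exact ⟨_, _, mOK_of_chk mcoChk_G2⟩
  · exact ⟨_, _, mOK_of_chk mcoChk_B2⟩
  · exact ⟨_, _, mOK_of_chk mcoChk_D4⟩
  · exact ⟨_, _, mOK_of_chk mcoChk_F4⟩
  · exact ⟨_, _, mOK_of_chk mcoChk_E6⟩
  · exact ⟨_, _, mOK_of_chk mcoChk_E7⟩
  · exact ⟨_, _, mOK_of_chk mcoChk_E8⟩

/-- every assignment of units to the fundamental roots extends to a character of the root lattice -/
theorem exists_rootCharacter {D : ChevalleyDatum} (hD : IsTabulated D) {F : Type*} [Field F]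
    (c : ℕ → Fˣ) : ∃ χ : ℕ → Fˣ, D.IsRootCharacter χ ∧ ∀ i < D.rank, χ (D.simple i) = c i := by
  obtain ⟨C, d, hM⟩ := exists_mOK hD
  have hB := basicOK_of_tabulated hD
  have hAdd : ∀ i < D.rank, AddOK D i := fun i hi => addOK_of_tabulated hD hi
  exact ⟨chiOf D C d c, isRootCharacter_chiOf hM hB hAdd c, fun i hi => chiOf_simple hM c hi⟩

/-- a character of the root lattice is determined by its values on the fundamental roots -/
theorem rootCharacter_ext {D : ChevalleyDatum} (hD : IsTabulated D) {F : Type*} [Field F]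
    {χ χ' : ℕ → Fˣ} (hχ : D.IsRootCharacter χ) (hχ' : D.IsRootCharacter χ')
    (h : ∀ i < D.rank, χ (D.simple i) = χ' (D.simple i)) : ∀ r < D.nroots, χ r = χ' r := by
  obtain ⟨C, d, hM⟩ := exists_mOK hD
  have hB := basicOK_of_tabulated hD
  have hAdd : ∀ i < D.rank, AddOK D i := fun i hi => addOK_of_tabulated hD hi
  exact eq_of_simple hM hB hAdd hχ hχ' h

end Cfsg.Agent.Helper11.AutChar
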