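import Mathlib
import Cfsg.Prelude.Def_ChevAutomorphisms
import Cfsg.Agent.Helper6.Chev.Borel
import Cfsg.Agent.Helper6.Chev.TablesReach

/-!
# Diagonal matrices of root characters normalise `U`, `H` and `B`

`charDiag_mul_x`: `ĥ(χ) x_r(t) = x_r(χ(r) t) ĥ(χ)` for a character `χ` of the root lattice.
`conj_borel_mem`: conjugation by a unit with matrix `ĥ(χ)` maps `B = UH` into itself.
`eq_one_of_diag_of_mem_posUnipotent`: a diagonal matrix in `U` is the identity.
-/

set_option autoImplicit false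

namespace Cfsg.Agent.Helper11.ChevCharDiag

open Cfsg.Lie Cfsg.Agent.Helper6

variable {D : ChevalleyDatum} {F : Type*} [Field F]

theorem charDiag_eq_dMat (χ : ℕ → Fˣ) :
    D.charDiag F χ = dMat D F 1 (fun r => ((χ r : Fˣ) : F)) := rfl

theorem chainRoot_one_of_map_fst {r s u : ℕ} {L : List ℕ}
    (h : (D.chainEntry r s).map Prod.fst = u :: L) : D.chainRoot r s 1 = some u := by
  unfold ChevalleyDatum.chainRoot
  have : ((D.chainEntry r s).map Prod.fst)[0]? = some u := by rw [h]; rfl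
  rw [List.getElem?_map] at this
  exact this

/-- values of a root character along a chain -/
theorem chi_chain (hB : BasicOK D) {χ : ℕ → Fˣ} (hχ : D.IsRootCharacter χ) {r s' : ℕ}
    (hr : r < D.nroots) (hs' : MemOK D r s') (k : ℕ) (q : ℕ × ℤ)
    (hq : (D.chainEntry r s')[k]? = some q) : χ q.1 = χ r ^ (k + 1) * χ s' := by
  have hrel := chainRel_chainEntry hB.chain hr s'
  have hadd := hχ.2
  match hL : D.chainEntry r s', hrel, hq with
  | [], _, hq => simp at hq
  | [a], hrel, hq =>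
    have h0 : D.chainRoot r s' 1 = some a.1 := chainRoot_one_of_map_fst (L := []) (by rw [hL]; rfl)
    have e0 := hadd r s' a.1 hr hs'.1 h0
    match k, hq with
    | 0, hq =>
      simp only [List.getElem?_cons_zero, Option.some.injEq] at hq
      rw [← hq, e0]; simp
    | (k + 1), hq => simp at hq
  | [a, b], hrel, hq =>
    obtain ⟨ha, hb, h1, _, _⟩ := hrel
    have h0 : D.chainRoot r s' 1 = some a.1 := chainRoot_one_of_map_fst (L := [b.1]) (by rw [hL]; rfl)
    have e0 := hadd r s' a.1 hr hs'.1 h0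
    have e1 := hadd r a.1 b.1 hr ha.1 (chainRoot_one_of_map_fst h1)
    match k, hq with
    | 0, hq =>
      simp only [List.getElem?_cons_zero, Option.some.injEq] at hq
      rw [← hq, e0]; simp
    | 1, hq =>
      simp only [List.getElem?_cons_succ, List.getElem?_cons_zero, Option.some.injEq] at hq
      rw [← hq, e1, e0]; simp only [pow_succ, pow_zero, one_mul, mul_assoc]
    | (k + 2), hq => simp at hq
  | [a, b, c], hrel, hq =>
    obtain ⟨ha, hb, hc, h1, _, h2, _, _⟩ := hrel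
    have h0 : D.chainRoot r s' 1 = some a.1 :=
      chainRoot_one_of_map_fst (L := [b.1, c.1]) (by rw [hL]; rfl)
    have e0 := hadd r s' a.1 hr hs'.1 h0
    have e1 := hadd r a.1 b.1 hr ha.1 (chainRoot_one_of_map_fst h1)
    have e2 := hadd r b.1 c.1 hr hb.1 (chainRoot_one_of_map_fst h2)
    match k, hq with
    | 0, hq =>
      simp only [List.getElem?_cons_zero, Option.some.injEq] at hq
      rw [← hq, e0]; simp
    | 1, hq =>
      simp only [List.getElem?_cons_succ, List.getElem?_cons_zero, Option.some.injEq] at hq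
      rw [← hq, e1, e0]; simp only [pow_succ, pow_zero, one_mul, mul_assoc]
    | 2, hq =>
      simp only [List.getElem?_cons_succ, List.getElem?_cons_zero, Option.some.injEq] at hq
      rw [← hq, e2, e1, e0]; simp only [pow_succ, pow_zero, one_mul, mul_assoc]
    | (k + 3), hq => simp at hq
  | _ :: _ :: _ :: _ :: _, hrel, _ => exact absurd hrel (by simp [ChainRel])

/-- `ĥ(χ) x_r(t) = x_r(χ(r) t) ĥ(χ)` -/
theorem charDiag_mul_x (hB : BasicOK D) {χ : ℕ → Fˣ} (hχ : D.IsRootCharacter χ) {r : ℕ}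
    (hr : r < D.nroots) (t : F) :
    D.charDiag F χ * D.x F r t = D.x F r (((χ r : Fˣ) : F) * t) * D.charDiag F χ := by
  rw [x_of_lt hr, x_of_lt hr, charDiag_eq_dMat]
  apply dMat_mul_xMat hB.neg hB.keys 1 _ ((χ r : Fˣ) : F) ⟨r, hr⟩
  · simp
  · show (1 : F) = ((χ r : Fˣ) : F) * ((χ (D.neg r) : Fˣ) : F)
    rw [hχ.1 r hr]; simp
  · intro s' hs' k q hq
    have := chi_chain hB hχ hr hs' k q hq
    show ((χ q.1 : Fˣ) : F) = ((χ r : Fˣ) : F) ^ (k + 1) * ((χ s' : Fˣ) : F)
    rw [this]; push_cast; rfl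

theorem isRootCharacter_inv {χ : ℕ → Fˣ} (hχ : D.IsRootCharacter χ) :
    D.IsRootCharacter (fun r => (χ r)⁻¹) := by
  refine ⟨fun r hr => by show (χ (D.neg r))⁻¹ = ((χ r)⁻¹)⁻¹; rw [hχ.1 r hr], fun r s k hr hs hk => ?_⟩
  show (χ k)⁻¹ = (χ r)⁻¹ * (χ s)⁻¹
  rw [hχ.2 r s k hr hs hk, mul_inv]

theorem charDiag_mul_inv (χ : ℕ → Fˣ) :
    D.charDiag F χ * D.charDiag F (fun r => (χ r)⁻¹) = 1 := by
  rw [charDiag_eq_dMat, charDiag_eq_dMat, dMat_mul_dMat, one_mul, ← dMat_one_one]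
  congr 1
  funext u
  simp

/-- the inverse of a unit with matrix `ĥ(χ)` has matrix `ĥ(χ⁻¹)` -/
theorem inv_val_eq {g : GL D.Idx F} {χ : ℕ → Fˣ}
    (hg : (g : Matrix D.Idx D.Idx F) = D.charDiag F χ) :
    ((g⁻¹ : GL D.Idx F) : Matrix D.Idx D.Idx F) = D.charDiag F (fun r => (χ r)⁻¹) := by
  have h1 : ((g⁻¹ : GL D.Idx F) : Matrix D.Idx D.Idx F) * (g : Matrix D.Idx D.Idx F) = 1 := by
    rw [← Units.val_mul, inv_mul_cancel, Units.val_one]
  calc ((g⁻¹ : GL D.Idx F) : Matrix D.Idx D.Idx F)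
      = ((g⁻¹ : GL D.Idx F) : Matrix D.Idx D.Idx F) *
          (D.charDiag F χ * D.charDiag F (fun r => (χ r)⁻¹)) := by rw [charDiag_mul_inv, mul_one]
    _ = D.charDiag F (fun r => (χ r)⁻¹) := by rw [← mul_assoc, ← hg, h1, one_mul]

theorem conj_xU (hB : BasicOK D) {g : GL D.Idx F} {χ : ℕ → Fˣ} (hχ : D.IsRootCharacter χ)
    (hg : (g : Matrix D.Idx D.Idx F) = D.charDiag F χ) {r : ℕ} (hr : r < D.nroots) (t : F) :
    g * xU hB r t * g⁻¹ = xU hB r (((χ r : Fˣ) : F) * t) := by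
  rw [mul_inv_eq_iff_eq_mul]
  apply Units.ext
  simp only [Units.val_mul, xU_val, hg]
  exact charDiag_mul_x hB hχ hr t

/-- conjugation by `ĥ(χ)` maps `U` into `U` -/
theorem conj_posUnipotent_mem (hB : BasicOK D) {g : GL D.Idx F} {χ : ℕ → Fˣ}
    (hχ : D.IsRootCharacter χ) (hg : (g : Matrix D.Idx D.Idx F) = D.charDiag F χ)
    {u : GL D.Idx F} (hu : u ∈ D.posUnipotent F) : g * u * g⁻¹ ∈ D.posUnipotent F := by
  unfold ChevalleyDatum.posUnipotent at hu ⊢
  induction hu using Subgroup.closure_induction with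
  | mem y hy =>
    obtain ⟨r, t, hr, hy⟩ := hy
    have : y = xU hB r t := Units.ext (by rw [hy, xU_val])
    rw [this, conj_xU hB hχ hg hr.1 t]
    exact Subgroup.subset_closure ⟨r, _, hr, rfl⟩
  | one => simp
  | mul a b _ _ iha ihb =>
    have : g * (a * b) * g⁻¹ = (g * a * g⁻¹) * (g * b * g⁻¹) := by group
    rw [this]; exact Subgroup.mul_mem _ iha ihb
  | inv a _ iha =>
    have : g * a⁻¹ * g⁻¹ = (g * a * g⁻¹)⁻¹ := by group
    rw [this]; exact Subgroup.inv_mem _ iha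

/-- `ĥ(χ)` commutes with the elements of `H` -/
theorem conj_diagonal_eq (hB : BasicOK D) (hH : ∀ r < D.nroots, HDiag D F r (aOf D r))
    {g : GL D.Idx F} {χ : ℕ → Fˣ} (hg : (g : Matrix D.Idx D.Idx F) = D.charDiag F χ)
    {h : GL D.Idx F} (hh : h ∈ D.diagonalSubgroup F) : g * h * g⁻¹ = h := by
  obtain ⟨c, _, hv⟩ := exists_torMat_of_mem_diagonal hB hH hh
  rw [mul_inv_eq_iff_eq_mul]
  apply Units.ext
  simp only [Units.val_mul, hg, hv]
  unfold torMat
  rw [charDiag_eq_dMat, dMat_mul_dMat, dMat_mul_dMat]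
  congr 1
  · funext u; exact mul_comm _ _

/-- conjugation by `ĥ(χ)` maps `B = UH` into `B` -/
theorem conj_borel_mem (hB : BasicOK D) (hH : ∀ r < D.nroots, HDiag D F r (aOf D r))
    {g : GL D.Idx F} {χ : ℕ → Fˣ}
    (hχ : D.IsRootCharacter χ) (hg : (g : Matrix D.Idx D.Idx F) = D.charDiag F χ)
    {b : GL D.Idx F} (hb : b ∈ D.borelSubgroup F) : g * b * g⁻¹ ∈ D.borelSubgroup F := by
  have key : (D.borelSubgroup F).map (MulAut.conj g).toMonoidHom ≤ D.borelSubgroup F := by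
    unfold ChevalleyDatum.borelSubgroup
    rw [Subgroup.map_sup]
    apply sup_le
    · refine le_trans ?_ le_sup_left
      rintro _ ⟨u, hu, rfl⟩
      exact conj_posUnipotent_mem hB hχ hg hu
    · refine le_trans ?_ le_sup_right
      rintro _ ⟨h, hh, rfl⟩
      show g * h * g⁻¹ ∈ _
      rw [conj_diagonal_eq hB hH hg hh]
      exact hh
  exact key ⟨b, hb, rfl⟩

/-- a diagonal matrix in `U` is the identity -/
theorem eq_one_of_diag_of_mem_posUnipotent (hG : Chev.Good D) {u : GL D.Idx F}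
    (hu : u ∈ D.posUnipotent F)
    (hd : ∀ i j, i ≠ j → (u : Matrix D.Idx D.Idx F) i j = 0) : u = 1 := by
  obtain ⟨N, hN, hNle, hrk⟩ := hG.ex
  have hUT := Chev.posUnipotent_le_UT (F := F) D N hN hNle hrk hu
  obtain ⟨hr1, _⟩ := Chev.mem_UT.1 hUT
  apply Units.ext
  rw [Units.val_one]
  ext i j
  by_cases hij : i = j
  · subst hij
    by_contra hne
    have : ((u : Matrix D.Idx D.Idx F) - 1) i i ≠ 0 := by
      rw [Matrix.sub_apply, Matrix.one_apply_eq]
      intro h0
      apply hne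
      rw [Matrix.one_apply_eq]
      exact sub_eq_zero.1 h0
    have := hr1 i i this
    omega
  · rw [hd i j hij, Matrix.one_apply_ne hij]

end Cfsg.Agent.Helper11.ChevCharDiag
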