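import Mathlib
import Cfsg.Prelude.Def_ChevAutomorphisms
import Cfsg.Agent.Helper6.Chev.TablesAdd

set_option autoImplicit false

namespace Cfsg.Agent.Helper11.ChevDiag

open Cfsg.Lie Cfsg.Agent.Helper6

variable {D : ChevalleyDatum} {F : Type*} [Field F]

theorem charDiag_mulVec (χ : ℕ → Fˣ) (v : D.Idx → F) :
    (D.charDiag F χ).mulVec v =
      fun idx => (Sum.elim (fun _ => (1 : F)) (fun r : Fin D.nroots => (χ r.val : F)) idx) * v idx := by
  unfold ChevalleyDatum.charDiag
  funext idx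
  rw [Matrix.mulVec_diagonal]

theorem charDiag_mulVec_ev (χ : ℕ → Fˣ) (u : ℕ) :
    (D.charDiag F χ).mulVec (ev D F u) = (χ u : F) • ev D F u := by
  rw [charDiag_mulVec]
  funext idx
  rcases idx with i | v
  · simp [ev_apply_inl]
  · simp only [Sum.elim_inr, Pi.smul_apply, ev_apply_inr, smul_eq_mul]
    by_cases h : v.val = u
    · simp [h]
    · simp [h]

theorem charDiag_mulVec_hv (χ : ℕ → Fˣ) (i : ℕ) :
    (D.charDiag F χ).mulVec (hv D F i) = hv D F i := by
  rw [charDiag_mulVec]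
  funext idx
  rcases idx with j | v
  · simp
  · simp [hv_apply_inr]

theorem charDiag_mulVec_hr (χ : ℕ → Fˣ) (r : ℕ) :
    (D.charDiag F χ).mulVec (hr D F r) = hr D F r := by
  unfold hr
  rw [Matrix.mulVec_sum]
  apply Finset.sum_congr rfl
  intro i _
  rw [Matrix.mulVec_smul, charDiag_mulVec_hv]

end Cfsg.Agent.Helper11.ChevDiag

namespace Cfsg.Agent.Helper11.ChevDiag

open Cfsg.Lie Cfsg.Agent.Helper6

variable {D : ChevalleyDatum} {F : Type*} [Field F]

theorem chainRoot_one_of_cons {r s : ℕ} {a : ℕ × ℤ} {L : List (ℕ × ℤ)}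
    (h : D.chainEntry r s = a :: L) : D.chainRoot r s 1 = some a.1 := by
  unfold ChevalleyDatum.chainRoot
  rw [h]
  rfl

theorem chainRoot_one_of_map_cons {r s : ℕ} {b : ℕ} {L : List ℕ}
    (h : (D.chainEntry r s).map Prod.fst = b :: L) : D.chainRoot r s 1 = some b := by
  unfold ChevalleyDatum.chainRoot
  match hL : D.chainEntry r s, h with
  | a :: L', h =>
    simp only [List.map_cons, List.cons.injEq] at h
    simp [h.1]

/-- conjugation on `e_s`, `s ≠ ±r` -/
theorem conj_ev (hK : KeysOK D) (hC : ChainOK D) (χ : ℕ → Fˣ) (hχ : D.IsRootCharacter χ)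
    (r : Fin D.nroots) (t : F) {s : ℕ} (hs : MemOK D r.val s) :
    (D.charDiag F χ).mulVec ((D.xMat F r t).mulVec
        ((D.charDiag F (fun s => (χ s)⁻¹)).mulVec (ev D F s))) =
      (D.xMat F r ((χ r.val : F) * t)).mulVec (ev D F s) := by
  rw [charDiag_mulVec_ev, Matrix.mulVec_smul, x_mulVec_ev' hK r t hs,
    x_mulVec_ev' hK r _ hs, Matrix.mulVec_smul, Matrix.mulVec_add, charDiag_mulVec_ev]
  have hrel := chainRel_chainEntry hC r.isLt s
  have hs0 : ((χ s)⁻¹ : Fˣ) * χ s = 1 := inv_mul_cancel _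
  have hs1 : (((χ s)⁻¹ : Fˣ) : F) * (χ s : F) = 1 := by
    rw [← Units.val_mul, hs0, Units.val_one]
  match hL : D.chainEntry r.val s, hrel with
  | [], _ =>
    simp only [chainVec, add_zero, Matrix.mulVec_zero]
    rw [smul_smul, hs1, one_smul]
  | [a], hrel =>
    obtain ⟨ha, hae⟩ := hrel
    have h1 : χ a.1 = χ r.val * χ s := hχ.2 r.val s a.1 r.isLt hs.1 (chainRoot_one_of_cons hL)
    have h1' : (χ a.1 : F) = (χ r.val : F) * (χ s : F) := by rw [h1, Units.val_mul]
    simp only [chainVec, add_zero, Matrix.mulVec_smul, charDiag_mulVec_ev, zero_add, h1']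
    linear_combination (norm := module) (hs1) • ev D F s +
      (((a.2 : ℤ) : F) * t * (χ r.val : F) * hs1) • ev D F a.1
  | [a, b], hrel =>
    obtain ⟨ha, hb, hab, _, hbe⟩ := hrel
    have h1 : χ a.1 = χ r.val * χ s := hχ.2 r.val s a.1 r.isLt hs.1 (chainRoot_one_of_cons hL)
    have h1' : (χ a.1 : F) = (χ r.val : F) * (χ s : F) := by rw [h1, Units.val_mul]
    have h2 : χ b.1 = χ r.val * χ a.1 :=
      hχ.2 r.val a.1 b.1 r.isLt ha.1 (chainRoot_one_of_map_cons hab)
    have h2' : (χ b.1 : F) = (χ r.val : F) * ((χ r.val : F) * (χ s : F)) := by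
      rw [h2, Units.val_mul, h1']
    simp only [chainVec, add_zero, Matrix.mulVec_smul, Matrix.mulVec_add, charDiag_mulVec_ev,
      zero_add, h1', h2']
    linear_combination (norm := module) (hs1) • ev D F s +
      (((a.2 : ℤ) : F) * t * (χ r.val : F) * hs1) • ev D F a.1 +
      (((b.2 : ℤ) : F) * t ^ 2 * (χ r.val : F) ^ 2 * hs1) • ev D F b.1
  | [a, b, c], hrel =>
    obtain ⟨ha, hb, hc, hab, _, hbc, _, hce⟩ := hrel
    have h1 : χ a.1 = χ r.val * χ s := hχ.2 r.val s a.1 r.isLt hs.1 (chainRoot_one_of_cons hL)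
    have h1' : (χ a.1 : F) = (χ r.val : F) * (χ s : F) := by rw [h1, Units.val_mul]
    have h2 : χ b.1 = χ r.val * χ a.1 :=
      hχ.2 r.val a.1 b.1 r.isLt ha.1 (chainRoot_one_of_map_cons hab)
    have h2' : (χ b.1 : F) = (χ r.val : F) * ((χ r.val : F) * (χ s : F)) := by
      rw [h2, Units.val_mul, h1']
    have h3 : χ c.1 = χ r.val * χ b.1 :=
      hχ.2 r.val b.1 c.1 r.isLt hb.1 (chainRoot_one_of_map_cons hbc)
    have h3' : (χ c.1 : F) = (χ r.val : F) * ((χ r.val : F) * ((χ r.val : F) * (χ s : F))) := by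
      rw [h3, Units.val_mul, h2']
    simp only [chainVec, add_zero, Matrix.mulVec_smul, Matrix.mulVec_add, charDiag_mulVec_ev,
      zero_add, h1', h2', h3']
    linear_combination (norm := module) (hs1) • ev D F s +
      (((a.2 : ℤ) : F) * t * (χ r.val : F) * hs1) • ev D F a.1 +
      (((b.2 : ℤ) : F) * t ^ 2 * (χ r.val : F) ^ 2 * hs1) • ev D F b.1 +
      (((c.2 : ℤ) : F) * t ^ 3 * (χ r.val : F) ^ 3 * hs1) • ev D F c.1

end Cfsg.Agent.Helper11.ChevDiag

namespace Cfsg.Agent.Helper11.ChevDiag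

open Cfsg.Lie Cfsg.Agent.Helper6

variable {D : ChevalleyDatum} {F : Type*} [Field F]

theorem conj_xMat (hN : NegOK D) (hK : KeysOK D) (hC : ChainOK D) (χ : ℕ → Fˣ)
    (hχ : D.IsRootCharacter χ) (r : Fin D.nroots) (t : F) :
    D.charDiag F χ * D.xMat F r t * D.charDiag F (fun s => (χ s)⁻¹) =
      D.xMat F r ((χ r.val : F) * t) := by
  have hr1 : (((χ r.val)⁻¹ : Fˣ) : F) * (χ r.val : F) = 1 := by
    rw [← Units.val_mul, inv_mul_cancel, Units.val_one]
  apply matrix_ext_basis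
  · intro i hi
    rw [← Matrix.mulVec_mulVec, ← Matrix.mulVec_mulVec, charDiag_mulVec_hv,
      xMat_mulVec_hv r t hi, xMat_mulVec_hv r _ hi, Matrix.mulVec_sub, Matrix.mulVec_smul,
      charDiag_mulVec_hv, charDiag_mulVec_ev]
    module
  · intro s hs
    rw [← Matrix.mulVec_mulVec, ← Matrix.mulVec_mulVec]
    by_cases h1 : s = r.val
    · subst h1
      rw [charDiag_mulVec_ev, Matrix.mulVec_smul, xMat_mulVec_ev_self, xMat_mulVec_ev_self,
        Matrix.mulVec_smul, charDiag_mulVec_ev, smul_smul, hr1, one_smul]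
    · by_cases h2 : s = D.neg r.val
      · subst h2
        have hneg : χ (D.neg r.val) = (χ r.val)⁻¹ := hχ.1 r.val r.isLt
        have hneg' : (χ (D.neg r.val) : F) * (χ r.val : F) = 1 := by
          rw [hneg]; exact hr1
        have hinv : (((χ (D.neg r.val))⁻¹ : Fˣ) : F) = (χ r.val : F) := by
          rw [hneg, inv_inv]
        rw [charDiag_mulVec_ev, Matrix.mulVec_smul, xMat_mulVec_ev_neg hN r t,
          xMat_mulVec_ev_neg hN r _, Matrix.mulVec_smul, Matrix.mulVec_sub, Matrix.mulVec_add,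
          Matrix.mulVec_smul, Matrix.mulVec_smul, charDiag_mulVec_ev, charDiag_mulVec_hr,
          charDiag_mulVec_ev]
        simp only [hinv]
        linear_combination (norm := module) (hneg') • ev D F (D.neg r.val)
      · exact conj_ev hK hC χ hχ r t ⟨hs, h1, h2⟩

theorem conj_x (hD : IsTabulated D) (χ : ℕ → Fˣ) (hχ : D.IsRootCharacter χ) (r : ℕ)
    (hr : r < D.nroots) (t : F) :
    D.charDiag F χ * D.x F r t * D.charDiag F (fun s => (χ s)⁻¹) =
      D.x F r ((χ r : F) * t) := by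
  unfold ChevalleyDatum.x
  rw [dif_pos hr, dif_pos hr]
  exact conj_xMat (negOK_of_tabulated hD) (keysOK_of_tabulated hD) (chainOK_of_tabulated hD)
    χ hχ ⟨r, hr⟩ t

end Cfsg.Agent.Helper11.ChevDiag
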