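import Mathlib
import Cfsg.Prelude.Def_ChevAutomorphisms
import Cfsg.Agent.Helper11.AutAct
import Cfsg.Agent.Helper11.ChevDiag
import Cfsg.Agent.Helper11.ChevCharDiag
import Cfsg.Agent.Helper6.Chev.Borel

set_option autoImplicit false
set_option linter.unusedSectionVars false
set_option linter.unusedSimpArgs false
set_option linter.unusedVariables false

/-! Diagonal automorphisms of tabulated Chevalley groups. -/

namespace Cfsg.Agent.Helper11.AutDiag

open Cfsg.Lie Cfsg.Agent.Helper6 Cfsg.Agent.Helper11.ChevGen Cfsg.Agent.Helper11.AutStab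
  Cfsg.Agent.Helper11.AutAct Cfsg.Agent.Helper11.ChevCharDiag

variable {D : ChevalleyDatum} {F : Type*} [Field F]

/-- `ĥ(χ)` as a unit -/
def hHat (D : ChevalleyDatum) (F : Type*) [Field F] (χ : ℕ → Fˣ) : GL D.Idx F :=
  ⟨D.charDiag F χ, D.charDiag F (fun r => (χ r)⁻¹), charDiag_mul_inv χ, by
    have := charDiag_mul_inv (D := D) (F := F) (fun r => (χ r)⁻¹)
    simpa only [inv_inv] using this⟩

theorem hHat_val (χ : ℕ → Fˣ) : ((hHat D F χ : GL D.Idx F) : Matrix D.Idx D.Idx F) = D.charDiag F χ :=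
  rfl

theorem hHat_inv (χ : ℕ → Fˣ) : (hHat D F χ)⁻¹ = hHat D F (fun r => (χ r)⁻¹) := by
  apply Units.ext
  rfl

theorem conj_mem_group (hB : BasicOK D) {χ : ℕ → Fˣ} (hχ : D.IsRootCharacter χ) {g : GL D.Idx F}
    (hg : g ∈ D.group F) : hHat D F χ * g * (hHat D F χ)⁻¹ ∈ D.group F := by
  unfold ChevalleyDatum.group at hg
  induction hg using Subgroup.closure_induction with
  | mem y hy =>
    obtain ⟨r, t, hy⟩ := hy
    have : y = xU hB r.val t := Units.ext (by rw [hy, xU_val, x_of_lt r.isLt])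
    rw [this, conj_xU hB hχ (hHat_val χ) r.isLt t]
    exact xU_mem_group hB r.isLt _
  | one => simp
  | mul a b _ _ iha ihb =>
    have : hHat D F χ * (a * b) * (hHat D F χ)⁻¹ =
        (hHat D F χ * a * (hHat D F χ)⁻¹) * (hHat D F χ * b * (hHat D F χ)⁻¹) := by group
    rw [this]; exact Subgroup.mul_mem _ iha ihb
  | inv a _ iha =>
    have : hHat D F χ * a⁻¹ * (hHat D F χ)⁻¹ = (hHat D F χ * a * (hHat D F χ)⁻¹)⁻¹ := by group
    rw [this]; exact Subgroup.inv_mem _ iha

/-- the diagonal automorphism attached to a character of the root lattice -/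
def dAut (hB : BasicOK D) (χ : ℕ → Fˣ) (hχ : D.IsRootCharacter χ) :
    ↥(D.group F) ≃* ↥(D.group F) where
  toFun g := ⟨hHat D F χ * g * (hHat D F χ)⁻¹, conj_mem_group hB hχ g.2⟩
  invFun g := ⟨(hHat D F χ)⁻¹ * g * hHat D F χ, by
    have := conj_mem_group hB (isRootCharacter_inv hχ) g.2
    rw [← hHat_inv, inv_inv] at this
    exact this⟩
  left_inv g := by
    apply Subtype.ext
    show (hHat D F χ)⁻¹ * (hHat D F χ * g * (hHat D F χ)⁻¹) * hHat D F χ = g
    group
  right_inv g := by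
    apply Subtype.ext
    show hHat D F χ * ((hHat D F χ)⁻¹ * g * hHat D F χ) * (hHat D F χ)⁻¹ = g
    group
  map_mul' a b := by
    apply Subtype.ext
    show hHat D F χ * (a * b : ↥(D.group F)) * (hHat D F χ)⁻¹ = _
    simp only [Subgroup.coe_mul]
    group

theorem dAut_val (hB : BasicOK D) (χ : ℕ → Fˣ) (hχ : D.IsRootCharacter χ) (g : ↥(D.group F)) :
    ((dAut hB χ hχ g : GL D.Idx F) : Matrix D.Idx D.Idx F) =
      D.charDiag F χ * ((g : GL D.Idx F) : Matrix D.Idx D.Idx F) * D.charDiag F (fun r => (χ r)⁻¹) := by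
  show ((hHat D F χ * g * (hHat D F χ)⁻¹ : GL D.Idx F) : Matrix D.Idx D.Idx F) = _
  rw [hHat_inv]
  rfl

theorem isDiagonalAut_dAut (hB : BasicOK D) (χ : ℕ → Fˣ) (hχ : D.IsRootCharacter χ) :
    D.IsDiagonalAut (dAut (F := F) hB χ hχ) :=
  ⟨χ, hχ, dAut_val hB χ hχ⟩

/-- the action of a diagonal automorphism on root elements -/
theorem diag_act (hD : IsTabulated D) {d : ↥(D.group F) ≃* ↥(D.group F)} {χ : ℕ → Fˣ}
    (hχ : D.IsRootCharacter χ)
    (hd : ∀ g : ↥(D.group F), ((d g : GL D.Idx F) : Matrix D.Idx D.Idx F) =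
      D.charDiag F χ * ((g : GL D.Idx F) : Matrix D.Idx D.Idx F) * D.charDiag F (fun r => (χ r)⁻¹))
    {r : ℕ} (hr : r < D.nroots) (t : F) :
    ((d (mk (basicOK_of_tabulated hD) r hr t) : GL D.Idx F) : Matrix D.Idx D.Idx F) =
      D.x F r (((χ r : Fˣ) : F) * t) := by
  rw [hd, mk_val]
  exact Cfsg.Agent.Helper11.ChevDiag.conj_x hD χ hχ r hr t

/-- diagonal automorphisms stabilise `U` and `V` -/
theorem stab_diag [Finite F] (hD : IsTabulated D) {d : ↥(D.group F) ≃* ↥(D.group F)}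
    (hd : D.IsDiagonalAut d) : Stab d := by
  obtain ⟨χ, hχ, hd⟩ := hd
  have hsign := sign_iff_of_tabulated hD
  apply stab_of_gen hD
  · intro r hr hN t
    apply Subgroup.subset_closure
    exact ⟨r, _, ((hsign r hr).1).2 hN, diag_act hD hχ hd hr t⟩
  · intro r hr hN t
    apply Subgroup.subset_closure
    exact ⟨r, _, ((hsign r hr).2).2 hN, diag_act hD hχ hd hr t⟩

/-- conjugation by an element of `H` acts on the root elements through a torus character -/
theorem conjH_act (hD : IsTabulated D) {h : ↥(D.group F)}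
    (hh : (h : GL D.Idx F) ∈ D.diagonalSubgroup F) :
    ∃ c : ℕ → F, (∀ k, c k ≠ 0) ∧ ∀ (r : ℕ) (hr : r < D.nroots) (t : F),
      ((MulAut.conj h (mk (basicOK_of_tabulated hD) r hr t) : GL D.Idx F) :
        Matrix D.Idx D.Idx F) = D.x F r (torChar D c r * t) := by
  have hB := basicOK_of_tabulated hD
  have hAdd : ∀ i < D.rank, AddOK D i := fun i hi => addOK_of_tabulated hD hi
  have hH : ∀ r < D.nroots, HDiag D F r (aOf D r) := fun r hr => hDiag_of_tabulated hD hr
  obtain ⟨c, hc, hv⟩ := exists_torMat_of_mem_diagonal hB hH hh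
  refine ⟨c, hc, fun r hr t => ?_⟩
  have e : (h : GL D.Idx F) * xU hB r t = xU hB r (torChar D c r * t) * (h : GL D.Idx F) := by
    apply Units.ext
    simp only [Units.val_mul, xU_val, hv]
    exact torMat_mul_x hB hAdd hc hr t
  show (((h : GL D.Idx F) * xU hB r t * (h : GL D.Idx F)⁻¹ : GL D.Idx F) :
    Matrix D.Idx D.Idx F) = _
  rw [e, mul_inv_cancel_right, xU_val]

end Cfsg.Agent.Helper11.AutDiag
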