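import Mathlib
import Cfsg.Prelude.Def_ChevAutomorphisms
import Cfsg.Agent.Helper11.AutDiag
import Cfsg.Agent.Helper6.Chev.TablesIrred

set_option autoImplicit false
set_option linter.unusedSectionVars false
set_option linter.unusedSimpArgs false
set_option linter.unusedVariables false

/-! The triple (diagram symmetry, torus parameters, field automorphism) describing the action of
an automorphism on the fundamental root elements. -/

namespace Cfsg.Agent.Helper11.AutTriple

open Cfsg.Lie Cfsg.Agent.Helper6 Cfsg.Agent.Helper11.ChevGen Cfsg.Agent.Helper11.AutStab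
  Cfsg.Agent.Helper11.AutAct Cfsg.Agent.Helper11.AutDiag

/-- table facts on the fundamental roots -/
def simpChk (D : ChevalleyDatum) : Bool :=
  allLt D.rank fun i => Nat.ble (D.nroots / 2) (D.simple i) && Nat.blt (D.simple i) D.nroots &&
    allLt D.rank fun j => decide (i = j) || decide (D.simple i ≠ D.simple j)

structure SimpOK (D : ChevalleyDatum) : Prop where
  pos : ∀ i < D.rank, D.nroots / 2 ≤ D.simple i
  lt : ∀ i < D.rank, D.simple i < D.nroots
  inj : ∀ i < D.rank, ∀ j < D.rank, D.simple i = D.simple j → i = j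

theorem simpOK_of_chk {D : ChevalleyDatum} (h : simpChk D = true) : SimpOK D := by
  simp only [simpChk, allLt_iff, Bool.and_eq_true, Nat.ble_eq, Nat.blt_eq, Bool.or_eq_true,
    decide_eq_true_eq] at h
  refine ⟨fun i hi => (h i hi).1.1, fun i hi => (h i hi).1.2, fun i hi j hj hij => ?_⟩
  rcases (h i hi).2 j hj with h1 | h1
  · exact h1
  · exact absurd hij h1

theorem simpOK_of_tabulated {D : ChevalleyDatum} (hD : IsTabulated D) : SimpOK D := by
  apply simpOK_of_chk
  simp only [IsTabulated, List.mem_cons, List.not_mem_nil, or_false] at hD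
  rcases hD with rfl | rfl | rfl | rfl | rfl | rfl | rfl <;> decide +kernel

variable {D : ChevalleyDatum} {F : Type*} [Field F]

/-- `θ` acts on the fundamental root elements through the triple `(π, c, σ)`, with exponents
`graphExp p` -/
def ActsBy (hB : BasicOK D) (hS : SimpOK D) (p : ℕ) (θ : ↥(D.group F) ≃* ↥(D.group F))
    (π : Equiv.Perm (Fin D.rank)) (c : Fin D.rank → Fˣ) (σ : F ≃+* F) : Prop :=
  ∀ (i : Fin D.rank) (t : F),
    (((θ (mk hB (D.simple i) (hS.lt i i.2) t) : ↥(D.group F)) : GL D.Idx F) :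
        Matrix D.Idx D.Idx F) =
      D.x F (D.simple (π i)) (((c (π i) : Fˣ) : F) * (σ t) ^ D.graphExp p i (π i)) ∧
    (((θ (mk hB (D.neg (D.simple i)) (hB.neg _ (hS.lt i i.2)).1 t) : ↥(D.group F)) : GL D.Idx F) :
        Matrix D.Idx D.Idx F) =
      D.x F (D.neg (D.simple (π i)))
        ((((c (π i))⁻¹ : Fˣ) : F) * (σ t) ^ D.graphExp p i (π i))

/-- the triple determines the automorphism -/
theorem actsBy_inj (hD : IsTabulated D) (hS : SimpOK D) {p : ℕ}
    {θ θ' : ↥(D.group F) ≃* ↥(D.group F)} {π : Equiv.Perm (Fin D.rank)} {c : Fin D.rank → Fˣ}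
    {σ : F ≃+* F} (h : ActsBy (basicOK_of_tabulated hD) hS p θ π c σ)
    (h' : ActsBy (basicOK_of_tabulated hD) hS p θ' π c σ) : θ = θ' := by
  have hB := basicOK_of_tabulated hD
  apply ext_fund hD
  rintro y ⟨i, t, hy | hy⟩
  · rw [eq_mk hB (hS.lt i i.2) hy]
    apply Subtype.ext
    apply Units.ext
    rw [(h i t).1, (h' i t).1]
  · rw [eq_mk hB (hB.neg _ (hS.lt i i.2)).1 hy]
    apply Subtype.ext
    apply Units.ext
    rw [(h i t).2, (h' i t).2]

theorem graphExp_cases (p i j : ℕ) : D.graphExp p i j = p ∨ D.graphExp p i j = 1 := by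
  unfold ChevalleyDatum.graphExp
  split_ifs
  · exact Or.inl rfl
  · exact Or.inr rfl

/-- the automorphism determines the triple -/
theorem actsBy_unique (hD : IsTabulated D) (hS : SimpOK D) (p : ℕ) [Fact p.Prime] [CharP F p]
    {θ : ↥(D.group F) ≃* ↥(D.group F)} {π π' : Equiv.Perm (Fin D.rank)} {c c' : Fin D.rank → Fˣ}
    {σ σ' : F ≃+* F} (h : ActsBy (basicOK_of_tabulated hD) hS p θ π c σ)
    (h' : ActsBy (basicOK_of_tabulated hD) hS p θ π' c' σ') : π = π' ∧ c = c' ∧ σ = σ' := by
  have hB := basicOK_of_tabulated hD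
  have key : ∀ (i : Fin D.rank) (t : F), t ≠ 0 → π i = π' i ∧
      ((c (π i) : Fˣ) : F) * (σ t) ^ D.graphExp p i (π i) =
        ((c' (π' i) : Fˣ) : F) * (σ' t) ^ D.graphExp p i (π' i) := by
    intro i t ht
    have e := ((h i t).1).symm.trans (h' i t).1
    have hne : ((c (π i) : Fˣ) : F) * (σ t) ^ D.graphExp p i (π i) ≠ 0 :=
      mul_ne_zero (Units.ne_zero _) (pow_ne_zero _ ((map_ne_zero σ).2 ht))
    obtain ⟨h1, h2⟩ := x_eq_x hD (hS.pos _ (π i).2) (hS.pos _ (π' i).2) (hS.lt _ (π i).2)
      (hS.lt _ (π' i).2) hne e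
    exact ⟨Fin.ext (hS.inj _ (π i).2 _ (π' i).2 h1), h2⟩
  have hπ : π = π' := Equiv.ext fun i => (key i 1 one_ne_zero).1
  subst hπ
  have hc : c = c' := by
    funext j
    have := (key (π.symm j) 1 one_ne_zero).2
    simp only [Equiv.apply_symm_apply, map_one, one_pow, mul_one] at this
    exact Units.ext this
  subst hc
  refine ⟨rfl, rfl, ?_⟩
  have hrank : 0 < D.rank := rank_pos_of_tabulated hD
  apply RingEquiv.ext
  intro t
  by_cases ht : t = 0
  · rw [ht, map_zero, map_zero]
  · have := (key ⟨0, hrank⟩ t ht).2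
    have h2 := mul_left_cancel₀ (Units.ne_zero _) this
    rcases graphExp_cases (D := D) p (⟨0, hrank⟩ : Fin D.rank) (π ⟨0, hrank⟩) with he | he
    · rw [he] at h2
      exact frobenius_inj F p h2
    · rw [he, pow_one, pow_one] at h2
      exact h2

end Cfsg.Agent.Helper11.AutTriple
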