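import Mathlib
import Cfsg.Prelude.Def_ChevAutomorphisms
import Cfsg.Agent.Helper11.AutTriple

set_option autoImplicit false
set_option linter.unusedSectionVars false
set_option linter.unusedSimpArgs false
set_option linter.unusedVariables false

/-! The triple of a composite `diagonal ∘ graph ∘ field`, and of its composite with conjugation by
an element of `H`. -/

namespace Cfsg.Agent.Helper11.AutComp

open Cfsg.Lie Cfsg.Agent.Helper6 Cfsg.Agent.Helper11.ChevGen Cfsg.Agent.Helper11.AutStab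
  Cfsg.Agent.Helper11.AutAct Cfsg.Agent.Helper11.AutDiag Cfsg.Agent.Helper11.AutTriple

variable {D : ChevalleyDatum} {F : Type*} [Field F]

/-- `g` is a graph automorphism for the permutation `π` of the nodes, with exponents `graphExp p` -/
def GraphWith (p : ℕ) (g : ↥(D.group F) ≃* ↥(D.group F)) (π : Equiv.Perm (Fin D.rank)) : Prop :=
  ∀ (y : ↥(D.group F)) (i : Fin D.rank) (t : F),
    (((y : GL D.Idx F) : Matrix D.Idx D.Idx F) = D.x F (D.simple i) t →
      ((g y : GL D.Idx F) : Matrix D.Idx D.Idx F) =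
        D.x F (D.simple (π i)) (t ^ D.graphExp p i (π i))) ∧
    (((y : GL D.Idx F) : Matrix D.Idx D.Idx F) = D.x F (D.neg (D.simple i)) t →
      ((g y : GL D.Idx F) : Matrix D.Idx D.Idx F) =
        D.x F (D.neg (D.simple (π i))) (t ^ D.graphExp p i (π i)))

theorem isGraphAut_iff (p : ℕ) [CharP F p] (g : ↥(D.group F) ≃* ↥(D.group F)) :
    D.IsGraphAut g ↔ ∃ π : Equiv.Perm (Fin D.rank), D.IsDiagramSymmetry π ∧ GraphWith p g π := by
  unfold ChevalleyDatum.IsGraphAut GraphWith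
  rw [ringChar.eq F p]

theorem torChar_neg (hB : BasicOK D) {c : ℕ → F} (hc : ∀ k, c k ≠ 0) {r : ℕ} (hr : r < D.nroots) :
    torChar D c (D.neg r) = (torChar D c r)⁻¹ := by
  apply eq_inv_of_mul_eq_one_left
  unfold torChar
  rw [← Finset.prod_mul_distrib]
  apply Finset.prod_eq_one
  intro k hk
  rw [(hB.negTab r hr).1 k (Finset.mem_range.1 hk), zpow_neg,
    inv_mul_cancel₀ (zpow_ne_zero _ (hc k))]

/-- the triple of `d ∘ g ∘ f` -/
theorem actsBy_dgf (hD : IsTabulated D) (hS : SimpOK D) (p : ℕ) [CharP F p]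
    {d g f : ↥(D.group F) ≃* ↥(D.group F)} {χ : ℕ → Fˣ} (hχ : D.IsRootCharacter χ)
    (hd : ∀ y : ↥(D.group F), ((d y : GL D.Idx F) : Matrix D.Idx D.Idx F) =
      D.charDiag F χ * ((y : GL D.Idx F) : Matrix D.Idx D.Idx F) * D.charDiag F (fun r => (χ r)⁻¹))
    {π : Equiv.Perm (Fin D.rank)} (hg : GraphWith p g π) {σ : F ≃+* F}
    (hf : ∀ (y : ↥(D.group F)) (r : ℕ) (t : F), r < D.nroots →
      ((y : GL D.Idx F) : Matrix D.Idx D.Idx F) = D.x F r t →
        ((f y : GL D.Idx F) : Matrix D.Idx D.Idx F) = D.x F r (σ t)) :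
    ActsBy (basicOK_of_tabulated hD) hS p (f.trans (g.trans d)) π (fun j => χ (D.simple j)) σ := by
  have hB := basicOK_of_tabulated hD
  intro i t
  constructor
  · have h1 := hf (mk hB (D.simple i) (hS.lt i i.2) t) _ t (hS.lt i i.2) (mk_val hB _ _ t)
    have h2 := (hg _ i (σ t)).1 h1
    have h3 := eq_mk hB (hS.lt _ (π i).2) h2
    show ((d (g (f (mk hB (D.simple i) (hS.lt i i.2) t))) : GL D.Idx F) :
      Matrix D.Idx D.Idx F) = _
    rw [h3]
    exact diag_act hD hχ hd (hS.lt _ (π i).2) _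
  · have hn := (hB.neg _ (hS.lt i i.2)).1
    have hn' := (hB.neg _ (hS.lt _ (π i).2)).1
    have h1 := hf (mk hB (D.neg (D.simple i)) hn t) _ t hn (mk_val hB _ _ t)
    have h2 := (hg _ i (σ t)).2 h1
    have h3 := eq_mk hB hn' h2
    show ((d (g (f (mk hB (D.neg (D.simple i)) hn t))) : GL D.Idx F) :
      Matrix D.Idx D.Idx F) = _
    rw [h3, diag_act hD hχ hd hn', hχ.1 _ (hS.lt _ (π i).2)]

/-- composing with the conjugation by an element of `H` changes only the torus parameters -/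
theorem actsBy_conjH (hD : IsTabulated D) (hS : SimpOK D) (p : ℕ)
    {θ : ↥(D.group F) ≃* ↥(D.group F)} {π : Equiv.Perm (Fin D.rank)} {c : Fin D.rank → Fˣ}
    {σ : F ≃+* F} (h : ActsBy (basicOK_of_tabulated hD) hS p θ π c σ) {x : ↥(D.group F)}
    (hx : (x : GL D.Idx F) ∈ D.diagonalSubgroup F) :
    ∃ c' : Fin D.rank → Fˣ,
      ActsBy (basicOK_of_tabulated hD) hS p (θ.trans (MulAut.conj x)) π c' σ := by
  have hB := basicOK_of_tabulated hD
  obtain ⟨c₀, hc₀, hact⟩ := conjH_act hD hx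
  refine ⟨fun j => Units.mk0 (torChar D c₀ (D.simple j)) (torChar_ne_zero hc₀ _) * c j, ?_⟩
  intro i t
  constructor
  · have h1 := (h i t).1
    have h3 := eq_mk hB (hS.lt _ (π i).2) h1
    show ((MulAut.conj x (θ (mk hB (D.simple i) (hS.lt i i.2) t)) : GL D.Idx F) :
      Matrix D.Idx D.Idx F) = _
    rw [h3, hact]
    congr 1
    simp only [Units.val_mul, Units.val_mk0]
    ring
  · have hn := (hB.neg _ (hS.lt i i.2)).1
    have hn' := (hB.neg _ (hS.lt _ (π i).2)).1
    have h1 := (h i t).2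
    have h3 := eq_mk hB hn' h1
    show ((MulAut.conj x (θ (mk hB (D.neg (D.simple i)) hn t)) : GL D.Idx F) :
      Matrix D.Idx D.Idx F) = _
    rw [h3, hact, torChar_neg hB hc₀ (hS.lt _ (π i).2)]
    congr 1
    simp only [mul_inv, Units.val_mul, Units.val_inv_eq_inv_val, Units.val_mk0]
    ring

end Cfsg.Agent.Helper11.AutComp
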