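import Mathlib
import Cfsg.Prelude.Def_ChevAutomorphisms
import Cfsg.Agent.Helper11.AutAct

set_option autoImplicit false
set_option linter.unusedSectionVars false
set_option linter.unusedSimpArgs false
set_option linter.unusedVariables false

/-! Field automorphisms of tabulated Chevalley groups; the number of automorphisms of a finite
field. -/

namespace Cfsg.Agent.Helper11.AutField

open Cfsg.Lie Cfsg.Agent.Helper6 Cfsg.Agent.Helper11.ChevGen Cfsg.Agent.Helper11.AutStab
  Cfsg.Agent.Helper11.AutAct

variable {D : ChevalleyDatum} {F : Type*} [Field F]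

/-- field automorphisms stabilise `U` and `V` -/
theorem stab_field [Finite F] (hD : IsTabulated D) {f : ↥(D.group F) ≃* ↥(D.group F)}
    (hf : D.IsFieldAut f) : Stab f := by
  obtain ⟨σ, hσ⟩ := hf
  have hB := basicOK_of_tabulated hD
  have hsign := sign_iff_of_tabulated hD
  apply stab_of_gen hD
  · intro r hr hN t
    apply Subgroup.subset_closure
    exact ⟨r, _, ((hsign r hr).1).2 hN, hσ _ r t hr (mk_val hB r hr t)⟩
  · intro r hr hN t
    apply Subgroup.subset_closure
    exact ⟨r, _, ((hsign r hr).2).2 hN, hσ _ r t hr (mk_val hB r hr t)⟩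

/-- a finite field with `p ^ f` elements has exactly `f` automorphisms -/
theorem card_ringAut [Fintype F] {p f : ℕ} [Fact p.Prime] (hF : Fintype.card F = p ^ f) :
    Nat.card (F ≃+* F) = f := by
  have hchar : CharP F p := charP_of_card_eq_prime_pow hF
  let _ : Algebra (ZMod p) F := ZMod.algebra F p
  have hK : ∀ (σ : F ≃+* F) (k : ZMod p),
      σ (algebraMap (ZMod p) F k) = algebraMap (ZMod p) F k := by
    intro σ k
    exact RingHom.congr_fun
      (Subsingleton.elim ((σ : F →+* F).comp (algebraMap (ZMod p) F)) (algebraMap (ZMod p) F)) k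
  have hΓ : Nat.card (F ≃ₐ[ZMod p] F) = f := by
    rw [IsGalois.card_aut_eq_finrank]
    have h1 := Module.card_eq_pow_finrank (K := ZMod p) (V := F)
    rw [hF, ZMod.card] at h1
    exact (Nat.pow_right_injective (Fact.out : p.Prime).two_le h1).symm
  let e₁ : (F ≃+* F) ≃ (F ≃ₐ[ZMod p] F) :=
    { toFun := fun σ => AlgEquiv.ofRingEquiv (f := σ) (hK σ)
      invFun := fun γ => γ.toRingEquiv
      left_inv := fun σ => by ext x; rfl
      right_inv := fun γ => by ext x; rfl }
  rw [Nat.card_congr e₁, hΓ]

end Cfsg.Agent.Helper11.AutField
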