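import Mathlib
import Cfsg.Prelude.Def_ChevAutomorphisms
import Cfsg.Prelude.Def_KGroupFacts
import Cfsg.Agent.Helper11.AutComp
import Cfsg.Agent.Helper11.AutField
import Cfsg.Agent.Helper11.AutChar
import Cfsg.Agent.Helper2.Stb.Center
import Cfsg.Agent.S1080

set_option autoImplicit false
set_option linter.unusedSectionVars false
set_option linter.unusedSimpArgs false
set_option linter.unusedVariables false

/-! The order of the outer automorphism group of a tabulated Chevalley group, given that every
automorphism is a product of an inner, a diagonal, a graph and a field automorphism. -/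

namespace Cfsg.Agent.Helper11.AutCount

open Cfsg.Lie Cfsg.Agent.Helper6 Cfsg.Agent.Helper11.ChevGen Cfsg.Agent.Helper11.AutStab
  Cfsg.Agent.Helper11.AutAct Cfsg.Agent.Helper11.AutDiag Cfsg.Agent.Helper11.AutTriple
  Cfsg.Agent.Helper11.AutComp Cfsg.Agent.Helper11.AutField

variable {D : ChevalleyDatum} {F : Type*} [Field F]

/-- the automorphisms stabilising `U` and `V` -/
def stabSub (D : ChevalleyDatum) (F : Type*) [Field F] : Subgroup (MulAut ↥(D.group F)) where
  carrier := {θ | Stab θ}
  one_mem' := Stab.refl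
  mul_mem' := by
    intro a b ha hb
    show Stab (b.trans a)
    exact Stab.trans hb ha
  inv_mem' := by
    intro a ha
    show Stab a.symm
    exact Stab.symm ha

theorem mem_stabSub {θ : MulAut ↥(D.group F)} : θ ∈ stabSub D F ↔ Stab θ := Iff.rfl

/-- conjugation by an element of `H` stabilises `U` and `V` -/
theorem stab_conjH [Finite F] (hD : IsTabulated D) {x : ↥(D.group F)}
    (hx : (x : GL D.Idx F) ∈ D.diagonalSubgroup F) : Stab (MulAut.conj x) := by
  obtain ⟨c, hc, hact⟩ := conjH_act hD hx
  have hsign := sign_iff_of_tabulated hD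
  apply stab_of_gen hD
  · intro r hr hN t
    apply Subgroup.subset_closure
    exact ⟨r, _, ((hsign r hr).1).2 hN, hact r hr t⟩
  · intro r hr hN t
    apply Subgroup.subset_closure
    exact ⟨r, _, ((hsign r hr).2).2 hN, hact r hr t⟩

theorem conj_injective (hD : IsTabulated D) :
    Function.Injective (MulAut.conj : ↥(D.group F) →* MulAut ↥(D.group F)) := by
  rw [injective_iff_map_eq_one]
  intro x hx
  have : x ∈ Subgroup.center ↥(D.group F) := by
    rw [Subgroup.mem_center_iff]
    intro g
    have := DFunLike.congr_fun hx g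
    rw [MulAut.conj_apply, MulAut.one_apply] at this
    calc g * x = (x * g * x⁻¹) * x := by rw [this]
      _ = x * g := by group
  rw [Cfsg.Agent.Helper2.Stb.center_group_eq_bot hD, Subgroup.mem_bot] at this
  exact this

/-- the inner automorphisms stabilising `U` and `V` are the conjugations by elements of `H` -/
theorem inn_inf_stab [Finite F] (hD : IsTabulated D) :
    Cfsg.Inn ↥(D.group F) ⊓ stabSub D F =
      ((D.diagonalSubgroup F).subgroupOf (D.group F)).map MulAut.conj := by
  ext θ
  constructor
  · rintro ⟨⟨x, rfl⟩, hS⟩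
    exact ⟨x, Subgroup.mem_subgroupOf.2 (mem_diagonal_of_stab hD x hS), rfl⟩
  · rintro ⟨x, hx, rfl⟩
    exact ⟨⟨x, rfl⟩, stab_conjH hD (Subgroup.mem_subgroupOf.1 hx)⟩

theorem card_inn_inf_stab [Finite F] (hD : IsTabulated D) :
    Nat.card ↥(Cfsg.Inn ↥(D.group F) ⊓ stabSub D F) = Nat.card (D.diagonalSubgroup F) := by
  rw [inn_inf_stab hD]
  have hB := basicOK_of_tabulated hD
  rw [← Nat.card_congr (Subgroup.equivMapOfInjective _ _ (conj_injective hD)).toEquiv]
  exact Nat.card_congr (Subgroup.subgroupOfEquivOfLe (diagonalSubgroup_le_group hB)).toEquiv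

/-- the counting identity `|Out| · |H| = |S|` -/
theorem card_out_mul [Finite F] (hD : IsTabulated D)
    (htop : stabSub D F ⊔ Cfsg.Inn ↥(D.group F) = ⊤) :
    Nat.card (Cfsg.Out ↥(D.group F)) * Nat.card (D.diagonalSubgroup F) =
      Nat.card ↥(stabSub D F) := by
  have h1 : Nat.card (Cfsg.Out ↥(D.group F)) = (Cfsg.Inn ↥(D.group F)).index := rfl
  have h2 : (Cfsg.Inn ↥(D.group F)).index = (Cfsg.Inn ↥(D.group F)).relIndex (stabSub D F) := by
    rw [← Subgroup.relIndex_top_right, ← htop, Subgroup.relIndex_sup_right]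
  have h3 := Subgroup.card_mul_index ((Cfsg.Inn ↥(D.group F)).subgroupOf (stabSub D F))
  have h4 : Nat.card ↥((Cfsg.Inn ↥(D.group F)).subgroupOf (stabSub D F)) =
      Nat.card (D.diagonalSubgroup F) := by
    rw [← card_inn_inf_stab hD, ← Subgroup.inf_subgroupOf_right]
    exact Nat.card_congr (Subgroup.subgroupOfEquivOfLe inf_le_right).toEquiv
  rw [h1, h2, Subgroup.relIndex, ← h3, h4, mul_comm]

end Cfsg.Agent.Helper11.AutCount
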