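import Mathlib
import Cfsg.Agent.Helper11.AutCount

set_option autoImplicit false
set_option linter.unusedSectionVars false
set_option linter.unusedSimpArgs false
set_option linter.unusedVariables false

/-! The automorphisms stabilising `U` and `V` are parametrised by the triples
(realised diagram symmetry, torus parameters, field automorphism). -/

namespace Cfsg.Agent.Helper11.AutCount

open Cfsg.Lie Cfsg.Agent.Helper6 Cfsg.Agent.Helper11.ChevGen Cfsg.Agent.Helper11.AutStab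
  Cfsg.Agent.Helper11.AutAct Cfsg.Agent.Helper11.AutDiag Cfsg.Agent.Helper11.AutTriple
  Cfsg.Agent.Helper11.AutComp Cfsg.Agent.Helper11.AutField

variable {D : ChevalleyDatum} {F : Type*} [Field F]

/-- the statement that every automorphism is inner ∘ diagonal ∘ graph ∘ field -/
def Steinberg (D : ChevalleyDatum) (F : Type*) [Field F] : Prop :=
  ∀ θ : ↥(D.group F) ≃* ↥(D.group F),
    ∃ (x : ↥(D.group F)) (d g f : ↥(D.group F) ≃* ↥(D.group F)),
      D.IsDiagonalAut d ∧ D.IsGraphAut g ∧ D.IsFieldAut f ∧ ∀ y : ↥(D.group F), θ y = x * d (g (f y)) * x⁻¹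

/-- the diagram symmetries realised by a graph automorphism -/
def realised (D : ChevalleyDatum) (F : Type*) [Field F] (p : ℕ) : Set (Equiv.Perm (Fin D.rank)) :=
  {π | D.IsDiagramSymmetry π ∧ ∃ g : ↥(D.group F) ≃* ↥(D.group F), GraphWith p g π}

theorem exists_triple [Finite F] (hD : IsTabulated D) (hS : SimpOK D) (p : ℕ) [CharP F p]
    (hst : Steinberg D F) (hgs : ∀ g : ↥(D.group F) ≃* ↥(D.group F), D.IsGraphAut g → Stab g)
    (θ : ↥(D.group F) ≃* ↥(D.group F)) (hθ : Stab θ) :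
    ∃ (π : Equiv.Perm (Fin D.rank)) (c : Fin D.rank → Fˣ) (σ : F ≃+* F),
      π ∈ realised D F p ∧ ActsBy (basicOK_of_tabulated hD) hS p θ π c σ := by
  obtain ⟨x, d, g, f, hd, hg, hf, hθ'⟩ := hst θ
  have hψ : Stab (f.trans (g.trans d)) :=
    Stab.trans (stab_field hD hf) (Stab.trans (hgs g hg) (stab_diag hD hd))
  have e1 : θ = (f.trans (g.trans d)).trans (MulAut.conj x) := by
    apply MulEquiv.ext
    intro y
    rw [hθ' y]
    rfl
  have e2 : (MulAut.conj x : ↥(D.group F) ≃* ↥(D.group F)) =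
      (f.trans (g.trans d)).symm.trans θ := by
    apply MulEquiv.ext
    intro y
    rw [e1]
    simp only [MulEquiv.trans_apply, MulEquiv.apply_symm_apply]
  have hx : (x : GL D.Idx F) ∈ D.diagonalSubgroup F := by
    apply mem_diagonal_of_stab hD x
    rw [e2]
    exact Stab.trans (Stab.symm hψ) hθ
  obtain ⟨χ, hχ, hd'⟩ := hd
  obtain ⟨π, hπ, hg'⟩ := (isGraphAut_iff p g).1 hg
  obtain ⟨σ, hσ⟩ := hf
  have h1 := actsBy_dgf hD hS p hχ hd' hg' hσ
  obtain ⟨c', h2⟩ := actsBy_conjH hD hS p h1 hx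
  rw [← e1] at h2
  exact ⟨π, c', σ, ⟨hπ, g, hg'⟩, h2⟩

theorem exists_aut [Finite F] (hD : IsTabulated D) (hS : SimpOK D) (p : ℕ) [CharP F p]
    (hgs : ∀ g : ↥(D.group F) ≃* ↥(D.group F), D.IsGraphAut g → Stab g)
    {π : Equiv.Perm (Fin D.rank)} (hπ : π ∈ realised D F p) (c : Fin D.rank → Fˣ) (σ : F ≃+* F) :
    ∃ θ : ↥(D.group F) ≃* ↥(D.group F), Stab θ ∧
      ActsBy (basicOK_of_tabulated hD) hS p θ π c σ := by
  have hB := basicOK_of_tabulated hD
  obtain ⟨hπs, g, hg⟩ := hπ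
  obtain ⟨χ, hχ, hχc⟩ := AutChar.exists_rootCharacter hD (F := F)
    (fun k => if h : k < D.rank then c ⟨k, h⟩ else 1)
  obtain ⟨f, hf⟩ := Cfsg.Agent.S1080.result (F := F) D hD σ
  have hgA : D.IsGraphAut g := (isGraphAut_iff p g).2 ⟨π, hπs, hg⟩
  refine ⟨f.trans (g.trans (dAut hB χ hχ)), ?_, ?_⟩
  · exact Stab.trans (stab_field hD ⟨σ, hf⟩)
      (Stab.trans (hgs g hgA) (stab_diag hD (isDiagonalAut_dAut hB χ hχ)))
  · have h1 := actsBy_dgf hD hS p hχ (dAut_val hB χ hχ) hg hf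
    have e : (fun j : Fin D.rank => χ (D.simple j)) = c := by
      funext j
      rw [hχc j j.2, dif_pos j.2]
    rw [e] at h1
    exact h1

/-- the parametrisation of the stabiliser -/
theorem card_stabSub [Fintype F] (hD : IsTabulated D) (p : ℕ) [Fact p.Prime] [CharP F p]
    (hst : Steinberg D F) (hgs : ∀ g : ↥(D.group F) ≃* ↥(D.group F), D.IsGraphAut g → Stab g) :
    Nat.card ↥(stabSub D F) =
      Nat.card ↥(realised D F p) * (Fintype.card F - 1) ^ D.rank * Nat.card (F ≃+* F) := by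
  have hS := simpOK_of_tabulated hD
  have hB := basicOK_of_tabulated hD
  have key : ∀ θ : ↥(stabSub D F), ∃ τ : ↥(realised D F p) × (Fin D.rank → Fˣ) × (F ≃+* F),
      ActsBy hB hS p θ.1 τ.1.1 τ.2.1 τ.2.2 := by
    rintro ⟨θ, hθ⟩
    obtain ⟨π, c, σ, hπ, h⟩ := exists_triple hD hS p hst hgs θ hθ
    exact ⟨(⟨π, hπ⟩, c, σ), h⟩
  choose Φ hΦ using key
  have hbij : Function.Bijective Φ := by
    constructor
    · intro θ θ' h
      have h1 := hΦ θ
      have h2 := hΦ θ'
      rw [h] at h1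
      exact Subtype.ext (actsBy_inj hD hS h1 h2)
    · rintro ⟨⟨π, hπ⟩, c, σ⟩
      obtain ⟨θ, hθ, h⟩ := exists_aut hD hS p hgs hπ c σ
      refine ⟨⟨θ, hθ⟩, ?_⟩
      have h1 := hΦ ⟨θ, hθ⟩
      obtain ⟨e1, e2, e3⟩ := actsBy_unique hD hS p h1 h
      apply Prod.ext
      · exact Subtype.ext e1
      · exact Prod.ext e2 e3
  rw [Nat.card_congr (Equiv.ofBijective Φ hbij), Nat.card_prod, Nat.card_prod, Nat.card_fun,
    Nat.card_eq_fintype_card (α := Fin D.rank), Fintype.card_fin, Nat.card_units,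
    Nat.card_eq_fintype_card (α := F), mul_assoc]

/-- the order of the outer automorphism group, in terms of the realised diagram symmetries -/
theorem card_out [Fintype F] (hD : IsTabulated D) (p : ℕ) [Fact p.Prime] [CharP F p]
    (hst : Steinberg D F) (hgs : ∀ g : ↥(D.group F) ≃* ↥(D.group F), D.IsGraphAut g → Stab g) :
    Nat.card (Cfsg.Out ↥(D.group F)) * Nat.card (D.diagonalSubgroup F) =
      Nat.card ↥(realised D F p) * (Fintype.card F - 1) ^ D.rank * Nat.card (F ≃+* F) := by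
  rw [← card_stabSub hD p hst hgs]
  apply card_out_mul hD
  rw [eq_top_iff]
  intro θ _
  obtain ⟨x, d, g, f, hd, hg, hf, hθ'⟩ := hst θ
  have e : θ = MulAut.conj x * (d * g * f) := by
    apply MulEquiv.ext
    intro y
    rw [hθ' y]
    rfl
  rw [e, sup_comm]
  apply Subgroup.mul_mem_sup
  · exact ⟨x, rfl⟩
  · show Stab (d * g * f)
    have : (d * g * f : MulAut ↥(D.group F)) = f.trans (g.trans d) := rfl
    rw [this]
    exact Stab.trans (stab_field hD hf) (Stab.trans (hgs g hg) (stab_diag hD hd))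

end Cfsg.Agent.Helper11.AutCount
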