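import Mathlib
import Cfsg.Agent.Helper2.ChevSL2
import Cfsg.Agent.Helper2.Stb.Coll
import Cfsg.Agent.Helper6.Chev.BorelNeg
import Cfsg.Agent.Helper6.Chev.UProd

set_option autoImplicit false
set_option linter.unusedSectionVars false
set_option linter.unusedSimpArgs false
set_option linter.unusedVariables false

/-! Rank-one relations in the tabulated Chevalley groups, through the homomorphisms from `SL₂`. -/

namespace Cfsg.Agent.Helper11.AutSt

open Cfsg.Lie Cfsg.Agent.Helper6 Cfsg.Agent.Helper2.St2F Cfsg.Agent.Helper2.ChevSL2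

section sl2

variable {K : Type*} [Field K]

/-- the diagonal element of `SL₂` -/
def diagSL (d : K) (hd : d ≠ 0) : Matrix.SpecialLinearGroup (Fin 2) K :=
  ⟨!![d, 0; 0, d⁻¹], by rw [Matrix.det_fin_two_of]; simp [hd]⟩

theorem diagSL_coe (d : K) (hd : d ≠ 0) :
    ((diagSL d hd : Matrix.SpecialLinearGroup (Fin 2) K) : Matrix (Fin 2) (Fin 2) K) =
      !![d, 0; 0, d⁻¹] := rfl

theorem sl2_big_cell (a b : K) (hd : 1 + a * b ≠ 0) :
    upperSL a * lowerSL b * upperSL a =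
      lowerSL (b / (1 + a * b)) * diagSL (1 + a * b) hd * upperSL (a * (2 + a * b) / (1 + a * b)) := by
  apply Subtype.ext
  simp only [Matrix.SpecialLinearGroup.coe_mul, upperSL_coe, lowerSL_coe, diagSL_coe,
    Matrix.mul_fin_two]
  generalize hδ : 1 + a * b = δ at hd ⊢
  congr 1
  simp only [mul_one, mul_zero, add_zero, zero_add, one_mul, zero_mul]
  have h2 : b / δ * δ = b := by field_simp
  have h3 : δ * (a * (2 + a * b) / δ) = a * (2 + a * b) := by field_simp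
  rw [h2, h3, hδ]
  have h4 : b * (a * (2 + a * b) / δ) + δ⁻¹ = δ := by
    field_simp
    rw [← hδ]; ring
  rw [h4]
  have h5 : δ * a + a = a * (2 + a * b) := by rw [← hδ]; ring
  have h6 : b * a + 1 = δ := by rw [← hδ]; ring
  rw [h5, h6]

theorem sl2_diag_conj (d : K) (hd : d ≠ 0) (c : K) :
    diagSL d hd * upperSL c * (diagSL d hd)⁻¹ = upperSL (d ^ 2 * c) := by
  rw [mul_inv_eq_iff_eq_mul]
  apply Subtype.ext
  simp only [Matrix.SpecialLinearGroup.coe_mul, upperSL_coe, lowerSL_coe, diagSL_coe,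
    Matrix.mul_fin_two]
  congr 1
  simp only [mul_one, mul_zero, add_zero, zero_add, one_mul, zero_mul]
  have h : d ^ 2 * c * d⁻¹ = d * c := by field_simp
  rw [h]

/-- the monomial element `w(t)` -/
def wSL (t : K) : Matrix.SpecialLinearGroup (Fin 2) K := upperSL t * lowerSL (-t⁻¹) * upperSL t

theorem wSL_coe (t : K) (ht : t ≠ 0) :
    ((wSL t : Matrix.SpecialLinearGroup (Fin 2) K) : Matrix (Fin 2) (Fin 2) K) =
      !![0, t; -t⁻¹, 0] := by
  simp only [wSL, Matrix.SpecialLinearGroup.coe_mul, upperSL_coe, lowerSL_coe, Matrix.mul_fin_two]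
  congr 1
  simp only [mul_one, mul_zero, add_zero, zero_add, one_mul, zero_mul]
  have h1 : 1 + t * -t⁻¹ = 0 := by field_simp; ring
  have h2 : -t⁻¹ * t + 1 = 0 := by field_simp; ring
  rw [h1, h2]
  simp

theorem sl2_w_conj (t : K) (ht : t ≠ 0) (s : K) :
    wSL t * upperSL s * (wSL t)⁻¹ = lowerSL (-(t ^ 2)⁻¹ * s) := by
  rw [mul_inv_eq_iff_eq_mul]
  apply Subtype.ext
  simp only [Matrix.SpecialLinearGroup.coe_mul, wSL_coe t ht, upperSL_coe, lowerSL_coe,
    Matrix.mul_fin_two]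
  congr 1
  simp only [mul_one, mul_zero, add_zero, zero_add, one_mul, zero_mul]
  have h : -(t ^ 2)⁻¹ * s * t = -t⁻¹ * s := by field_simp
  rw [h]

theorem sl2_w_mul_w (a c : K) (ha : a ≠ 0) (hc : c ≠ 0) :
    wSL a * wSL (-c) = diagSL (a / c) (div_ne_zero ha hc) := by
  apply Subtype.ext
  simp only [Matrix.SpecialLinearGroup.coe_mul, wSL_coe a ha,
    wSL_coe (-c : K) (neg_ne_zero.2 hc), diagSL_coe, Matrix.mul_fin_two]
  congr 1
  simp only [mul_one, mul_zero, add_zero, zero_add, one_mul, zero_mul, neg_neg, inv_neg,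
    neg_mul_neg, neg_zero]
  have h1 : a * c⁻¹ = a / c := by rw [div_eq_mul_inv]
  have h2 : a⁻¹ * c = (a / c)⁻¹ := by rw [inv_div, div_eq_mul_inv, mul_comm]
  rw [h1, h2]

/-- conjugating an upper unitriangular element by `x(a) y(b) x(a)` when `1 + ab ≠ 0` -/
theorem sl2_key (a b c : K) (hd : 1 + a * b ≠ 0) :
    (upperSL a * lowerSL b * upperSL a) * upperSL c * (upperSL a * lowerSL b * upperSL a)⁻¹ =
      lowerSL (b / (1 + a * b)) * upperSL ((1 + a * b) ^ 2 * c) *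
        (lowerSL (b / (1 + a * b)))⁻¹ := by
  rw [sl2_big_cell a b hd, ← sl2_diag_conj (1 + a * b) hd c]
  have hcomm : upperSL (a * (2 + a * b) / (1 + a * b)) * upperSL c *
      (upperSL (a * (2 + a * b) / (1 + a * b)))⁻¹ = upperSL c := by
    rw [mul_inv_eq_iff_eq_mul]
    apply Subtype.ext
    simp only [Matrix.SpecialLinearGroup.coe_mul, upperSL_coe, Matrix.mul_fin_two]
    congr 1
    simp only [mul_one, mul_zero, add_zero, zero_add, one_mul, zero_mul]
    rw [add_comm]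
  calc _ = lowerSL (b / (1 + a * b)) * (diagSL (1 + a * b) hd *
        (upperSL (a * (2 + a * b) / (1 + a * b)) * upperSL c *
          (upperSL (a * (2 + a * b) / (1 + a * b)))⁻¹) * (diagSL (1 + a * b) hd)⁻¹) *
        (lowerSL (b / (1 + a * b)))⁻¹ := by group
    _ = _ := by rw [hcomm]

end sl2

variable {D : ChevalleyDatum} {F : Type*} [Field F]

/-- the element `n_r(t) = x_r(t) x_{-r}(-t⁻¹) x_r(t)` -/
def nG (hB : BasicOK D) (r : ℕ) (t : F) : GL D.Idx F :=
  xU hB r t * xU hB (D.neg r) (-t⁻¹) * xU hB r t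

theorem map_wSL (hB : BasicOK D) {r : ℕ} {φ : Matrix.SpecialLinearGroup (Fin 2) F →* GL D.Idx F}
    (h1 : ∀ t, φ (upperSL t) = xU hB r t) (h2 : ∀ t, φ (lowerSL t) = xU hB (D.neg r) t) (t : F) :
    φ (wSL t) = nG hB r t := by
  unfold wSL nG
  rw [map_mul, map_mul, h1, h2]

/-- `n_r(t) x_r(s) n_r(t)⁻¹ = x_{-r}(-t⁻² s)` -/
theorem nG_conj (hB : BasicOK D) {r : ℕ} (hsl : HasSL2 F hB r) {t : F} (ht : t ≠ 0) (s : F) :
    nG hB r t * xU hB r s * (nG hB r t)⁻¹ = xU hB (D.neg r) (-(t ^ 2)⁻¹ * s) := by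
  obtain ⟨φ, h1, h2⟩ := hsl
  rw [← map_wSL hB h1 h2, ← h1, ← map_inv, ← map_mul, ← map_mul, sl2_w_conj t ht s, h2]

/-- `n_r(a) n_r(-c) = n_r(a/c) n_r(-1)` -/
theorem nG_mul_nG (hB : BasicOK D) {r : ℕ} (hsl : HasSL2 F hB r) {a c : F} (ha : a ≠ 0)
    (hc : c ≠ 0) : nG hB r a * nG hB r (-c) = nG hB r (a / c) * nG hB r (-1) := by
  obtain ⟨φ, h1, h2⟩ := hsl
  rw [← map_wSL hB h1 h2, ← map_wSL hB h1 h2, ← map_wSL hB h1 h2, ← map_wSL hB h1 h2, ← map_mul,
    ← map_mul, sl2_w_mul_w a c ha hc, sl2_w_mul_w (a / c) 1 (div_ne_zero ha hc) one_ne_zero]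
  congr 1
  apply Subtype.ext
  simp only [diagSL_coe, div_one]

/-- `n_r(-1) n_r(1) = 1` -/
theorem nG_neg_one_mul (hB : BasicOK D) {r : ℕ} (hsl : HasSL2 F hB r) :
    nG hB r (-1 : F) * nG hB r 1 = 1 := by
  obtain ⟨φ, h1, h2⟩ := hsl
  rw [← map_wSL hB h1 h2, ← map_wSL hB h1 h2, ← map_mul]
  have e : wSL (1 : F) * wSL (-1) = 1 := by
    rw [sl2_w_mul_w 1 1 one_ne_zero one_ne_zero]
    apply Subtype.ext
    simp only [diagSL_coe, div_one, inv_one, Matrix.SpecialLinearGroup.coe_one]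
    exact Matrix.one_fin_two.symm
  have e2 : wSL (-1 : F) * wSL 1 = 1 := by
    rw [eq_inv_of_mul_eq_one_right e, inv_mul_cancel]
  rw [e2, map_one]

/-- the matrix of `n_r(t) n_r(-1)` is `h_r(t)` -/
theorem nG_mul_nG_val (hB : BasicOK D) (r : ℕ) (t : F) :
    ((nG hB r t * nG hB r (-1) : GL D.Idx F) : Matrix D.Idx D.Idx F) = D.hMat F r t := by
  simp only [nG, Units.val_mul, xU_val, ChevalleyDatum.hMat, ChevalleyDatum.hWord,
    ChevalleyDatum.nWord, ChevalleyDatum.wordMat, List.cons_append, List.nil_append,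
    List.map_cons, List.map_nil, List.prod_cons, List.prod_nil, mul_one, mul_assoc]

/-- the rank-one key fact: if `x_r(a) x_{-r}(b) x_r(a)` conjugates a non-trivial element of `X_r`
into `X_{-r}`, then `a b = -1` -/
theorem rk1_key (hB : BasicOK D) {r : ℕ} (hsl : HasSL2 F hB r)
    (hdisj : ∀ s e : F, xU hB r s = xU hB (D.neg r) e → s = 0)
    {a b c e : F} (hc : c ≠ 0)
    (h : (xU hB r a * xU hB (D.neg r) b * xU hB r a) * xU hB r c *
      (xU hB r a * xU hB (D.neg r) b * xU hB r a)⁻¹ = xU hB (D.neg r) e) : a * b = -1 := by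
  by_contra hab
  have hd : 1 + a * b ≠ 0 := by
    intro h0
    apply hab
    linear_combination h0
  obtain ⟨φ, h1, h2⟩ := hsl
  have key := congrArg φ (sl2_key a b c hd)
  simp only [map_mul, map_inv, h1, h2] at key
  rw [h] at key
  have e2 : xU hB r ((1 + a * b) ^ 2 * c) = xU hB (D.neg r) e := by
    have e3 : xU hB r ((1 + a * b) ^ 2 * c) =
        (xU hB (D.neg r) (b / (1 + a * b)))⁻¹ * xU hB (D.neg r) e *
          xU hB (D.neg r) (b / (1 + a * b)) := by
      rw [key]; group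
    rw [e3, xU_inv, Cfsg.Agent.Helper6.xU_mul, Cfsg.Agent.Helper6.xU_mul]
    congr 1
    ring
  have := hdisj _ _ e2
  exact mul_ne_zero (pow_ne_zero 2 hd) hc this

end Cfsg.Agent.Helper11.AutSt
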