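import Mathlib
import Cfsg.Agent.Helper11.AutRk1
import Cfsg.Agent.Helper11.AutTriple
import Cfsg.Agent.S1032
import Cfsg.Agent.Helper6.Chev.BruhatNF
import Cfsg.Agent.Helper6.Chev.TablesBN

set_option autoImplicit false
set_option linter.unusedSectionVars false
set_option linter.unusedSimpArgs false
set_option linter.unusedVariables false

/-! Automorphisms permuting the fundamental root subgroups: rank-one consequences and the
functional equations coming from the torus action. -/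

namespace Cfsg.Agent.Helper11.AutSt

open Cfsg.Lie Cfsg.Agent.Helper6 Cfsg.Agent.Helper11.ChevGen Cfsg.Agent.Helper11.AutStab
  Cfsg.Agent.Helper11.AutAct Cfsg.Agent.Helper11.AutTriple Cfsg.Agent.Helper2.ChevSL2

variable {D : ChevalleyDatum} {F : Type*} [Field F]

theorem mk_mul (hB : BasicOK D) {r : ℕ} (hr : r < D.nroots) (t u : F) :
    mk hB r hr t * mk hB r hr u = mk hB r hr (t + u) :=
  Subtype.ext (Cfsg.Agent.Helper6.xU_mul hB r t u)

theorem mk_inj (hB : BasicOK D) {r : ℕ} (hr : r < D.nroots) {t u : F}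
    (h : mk hB r hr t = mk hB r hr u) : t = u :=
  Cfsg.Agent.Helper2.Stb.xU_inj hB hr (congrArg Subtype.val h)

theorem mk_zero (hB : BasicOK D) {r : ℕ} (hr : r < D.nroots) : mk hB r hr (0 : F) = 1 :=
  Subtype.ext (Cfsg.Agent.Helper6.xU_zero hB r)

/-- the element `n_r(t)` of the group -/
def nE (hB : BasicOK D) (r : ℕ) (hr : r < D.nroots) (t : F) : ↥(D.group F) :=
  mk hB r hr t * mk hB (D.neg r) (hB.neg r hr).1 (-t⁻¹) * mk hB r hr t

theorem nE_val (hB : BasicOK D) (r : ℕ) (hr : r < D.nroots) (t : F) :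
    ((nE hB r hr t : ↥(D.group F)) : GL D.Idx F) = nG hB r t := rfl

/-- the element `h_r(t) = n_r(t) n_r(-1)` of the group -/
def hE (hB : BasicOK D) (r : ℕ) (hr : r < D.nroots) (t : F) : ↥(D.group F) :=
  nE hB r hr t * nE hB r hr (-1)

theorem hE_val (hB : BasicOK D) (r : ℕ) (hr : r < D.nroots) (t : F) :
    (((hE hB r hr t : ↥(D.group F)) : GL D.Idx F) : Matrix D.Idx D.Idx F) = D.hMat F r t :=
  nG_mul_nG_val hB r t

/-- conjugation by `h_{p_i}(c)` -/
theorem hE_conj (hD : IsTabulated D) {i : ℕ} (hi : i < D.rank) (hr : D.simple i < D.nroots)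
    {s : ℕ} (hs : s < D.nroots) {c : F} (hc : c ≠ 0) (t : F) :
    hE (basicOK_of_tabulated hD) (D.simple i) hr c * mk (basicOK_of_tabulated hD) s hs t *
      (hE (basicOK_of_tabulated hD) (D.simple i) hr c)⁻¹ =
        mk (basicOK_of_tabulated hD) s hs (c ^ (D.cartan i s) * t) := by
  have hB := basicOK_of_tabulated hD
  rw [mul_inv_eq_iff_eq_mul]
  apply Subtype.ext
  apply Units.ext
  simp only [Subgroup.coe_mul, Units.val_mul, hE_val, mk_val]
  exact Cfsg.Agent.S1032.result D hD i s hi hs c hc t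

/-- `θ` permutes the fundamental root subgroups and their negatives according to `ρ`, with
parameter maps `f` and `g` -/
structure PermBy (hB : BasicOK D) (hS : SimpOK D) (θ : ↥(D.group F) ≃* ↥(D.group F))
    (ρ : Equiv.Perm (Fin D.rank)) (f g : Fin D.rank → F → F) : Prop where
  pos : ∀ (i : Fin D.rank) (t : F), θ (mk hB (D.simple i) (hS.lt i i.2) t) =
    mk hB (D.simple (ρ i)) (hS.lt _ (ρ i).2) (f i t)
  neg : ∀ (i : Fin D.rank) (t : F),
    θ (mk hB (D.neg (D.simple i)) (hB.neg _ (hS.lt i i.2)).1 t) =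
      mk hB (D.neg (D.simple (ρ i))) (hB.neg _ (hS.lt _ (ρ i).2)).1 (g i t)

namespace PermBy

variable {hB : BasicOK D} {hS : SimpOK D} {θ : ↥(D.group F) ≃* ↥(D.group F)}
  {ρ : Equiv.Perm (Fin D.rank)} {f g : Fin D.rank → F → F}

theorem f_add (h : PermBy hB hS θ ρ f g) (i : Fin D.rank) (t u : F) :
    f i (t + u) = f i t + f i u := by
  apply mk_inj hB (hS.lt _ (ρ i).2)
  rw [← h.pos, ← mk_mul, map_mul, h.pos, h.pos, mk_mul]

theorem g_add (h : PermBy hB hS θ ρ f g) (i : Fin D.rank) (t u : F) :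
    g i (t + u) = g i t + g i u := by
  apply mk_inj hB (hB.neg _ (hS.lt _ (ρ i).2)).1
  rw [← h.neg, ← mk_mul, map_mul, h.neg, h.neg, mk_mul]

theorem f_zero (h : PermBy hB hS θ ρ f g) (i : Fin D.rank) : f i 0 = 0 := by
  have := h.f_add i 0 0
  rw [add_zero] at this
  exact left_eq_add.mp this

theorem g_zero (h : PermBy hB hS θ ρ f g) (i : Fin D.rank) : g i 0 = 0 := by
  have := h.g_add i 0 0
  rw [add_zero] at this
  exact left_eq_add.mp this

theorem f_neg (h : PermBy hB hS θ ρ f g) (i : Fin D.rank) (t : F) : f i (-t) = -f i t := by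
  have := h.f_add i t (-t)
  rw [add_neg_cancel, h.f_zero] at this
  exact eq_neg_of_add_eq_zero_right this.symm

theorem g_neg (h : PermBy hB hS θ ρ f g) (i : Fin D.rank) (t : F) : g i (-t) = -g i t := by
  have := h.g_add i t (-t)
  rw [add_neg_cancel, h.g_zero] at this
  exact eq_neg_of_add_eq_zero_right this.symm

theorem f_inj (h : PermBy hB hS θ ρ f g) (i : Fin D.rank) : Function.Injective (f i) := by
  intro t u htu
  apply mk_inj hB (hS.lt i i.2)
  apply θ.injective
  rw [h.pos, h.pos, htu]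

theorem g_inj (h : PermBy hB hS θ ρ f g) (i : Fin D.rank) : Function.Injective (g i) := by
  intro t u htu
  apply mk_inj hB (hB.neg _ (hS.lt i i.2)).1
  apply θ.injective
  rw [h.neg, h.neg, htu]

theorem f_ne_zero (h : PermBy hB hS θ ρ f g) (i : Fin D.rank) {t : F} (ht : t ≠ 0) :
    f i t ≠ 0 := by
  intro h0
  apply ht
  apply h.f_inj i
  rw [h0, h.f_zero]

end PermBy

/-- a positive and a negative root element with equal matrices are trivial -/
theorem disj_of_tabulated (hD : IsTabulated D) {r : ℕ} (hr : D.IsPosRoot r) (s e : F)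
    (h : xU (basicOK_of_tabulated hD) r s = xU (basicOK_of_tabulated hD) (D.neg r) e) : s = 0 := by
  have hB := basicOK_of_tabulated hD
  have hH : ∀ r < D.nroots, HDiag D F r (aOf D r) := fun r hr => hDiag_of_tabulated hD hr
  have hG := Chev.good2_of_mem hD
  have hnr : D.IsNegRoot (D.neg r) := (bnData_of_tabulated F hD).isNegRoot_neg hr
  have h1 : xU hB r s ∈ D.borelSubgroup F ⊓ D.negUnipotent F := by
    constructor
    · apply Subgroup.mem_sup_left
      exact Subgroup.subset_closure ⟨r, s, hr, rfl⟩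
    · rw [h]
      exact Subgroup.subset_closure ⟨D.neg r, e, hnr, rfl⟩
  rw [borel_inf_negUnipotent hB hH hG, Subgroup.mem_bot] at h1
  exact Cfsg.Agent.Helper2.Stb.eq_zero_of_xU_eq_one hB hr.1 h1

theorem isPos_simple (hD : IsTabulated D) (hS : SimpOK D) (i : Fin D.rank) :
    D.IsPosRoot (D.simple i) :=
  ((sign_iff_of_tabulated hD _ (hS.lt i i.2)).1).2 (hS.pos i i.2)

namespace PermBy

variable {hS : SimpOK D} {θ : ↥(D.group F) ≃* ↥(D.group F)}
  {ρ : Equiv.Perm (Fin D.rank)} {f g : Fin D.rank → F → F}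

/-- the rank-one relation between the parameter maps on `X_{p_i}` and `X_{-p_i}` -/
theorem f_mul_g (hD : IsTabulated D) (h : PermBy (basicOK_of_tabulated hD) hS θ ρ f g)
    (i : Fin D.rank) {t : F} (ht : t ≠ 0) : f i t * g i (-t⁻¹) = -1 := by
  have hB := basicOK_of_tabulated hD
  have hsl := hasSL2_of_tabulated (F := F) hD (hS.lt i i.2)
  have hsl' := hasSL2_of_tabulated (F := F) hD (hS.lt _ (ρ i).2)
  have e1 : nE hB (D.simple i) (hS.lt i i.2) t * ChevGen.mk hB (D.simple i) (hS.lt i i.2) 1 *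
      (nE hB (D.simple i) (hS.lt i i.2) t)⁻¹ =
        ChevGen.mk hB (D.neg (D.simple i)) (hB.neg _ (hS.lt i i.2)).1 (-(t ^ 2)⁻¹ * 1) :=
    Subtype.ext (nG_conj hB hsl ht 1)
  have e3 : θ (nE hB (D.simple i) (hS.lt i i.2) t) =
      ChevGen.mk hB (D.simple (ρ i)) (hS.lt _ (ρ i).2) (f i t) *
        ChevGen.mk hB (D.neg (D.simple (ρ i))) (hB.neg _ (hS.lt _ (ρ i).2)).1 (g i (-t⁻¹)) *
        ChevGen.mk hB (D.simple (ρ i)) (hS.lt _ (ρ i).2) (f i t) := by
    unfold nE
    rw [map_mul, map_mul, h.pos, h.neg]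
  have e2 := congrArg θ e1
  rw [map_mul, map_mul, map_inv, e3, h.pos, h.neg] at e2
  exact rk1_key hB hsl' (disj_of_tabulated hD (isPos_simple hD hS (ρ i)))
    (h.f_ne_zero i one_ne_zero) (congrArg Subtype.val e2)

theorem g_eq (hD : IsTabulated D) (h : PermBy (basicOK_of_tabulated hD) hS θ ρ f g)
    (i : Fin D.rank) {t : F} (ht : t ≠ 0) : g i (-t⁻¹) = -(f i t)⁻¹ := by
  have h1 := h.f_mul_g hD i ht
  have h2 := h.f_ne_zero i ht
  rw [eq_neg_iff_add_eq_zero, ← mul_right_inj' h2, mul_add, h1, mul_inv_cancel₀ h2, mul_zero]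
  ring

/-- the image of `n_{p_i}(t)` -/
theorem map_nE (hD : IsTabulated D) (h : PermBy (basicOK_of_tabulated hD) hS θ ρ f g)
    (i : Fin D.rank) {t : F} (ht : t ≠ 0) :
    θ (nE (basicOK_of_tabulated hD) (D.simple i) (hS.lt i i.2) t) =
      nE (basicOK_of_tabulated hD) (D.simple (ρ i)) (hS.lt _ (ρ i).2) (f i t) := by
  unfold nE
  rw [map_mul, map_mul, h.pos, h.neg, h.g_eq hD i ht]

/-- the image of `h_{p_i}(t)` -/
theorem map_hE (hD : IsTabulated D) (h : PermBy (basicOK_of_tabulated hD) hS θ ρ f g)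
    (i : Fin D.rank) {t : F} (ht : t ≠ 0) :
    θ (hE (basicOK_of_tabulated hD) (D.simple i) (hS.lt i i.2) t) =
      hE (basicOK_of_tabulated hD) (D.simple (ρ i)) (hS.lt _ (ρ i).2) (f i t / f i 1) := by
  have hB := basicOK_of_tabulated hD
  have hsl' := hasSL2_of_tabulated (F := F) hD (hS.lt _ (ρ i).2)
  unfold hE
  rw [map_mul, h.map_nE hD i ht, h.map_nE hD i (neg_ne_zero.2 one_ne_zero), h.f_neg]
  exact Subtype.ext (nG_mul_nG hB hsl' (h.f_ne_zero i ht) (h.f_ne_zero i one_ne_zero))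

/-- the functional equations coming from the action of the torus -/
theorem fun_eq (hD : IsTabulated D) (h : PermBy (basicOK_of_tabulated hD) hS θ ρ f g)
    (i j : Fin D.rank) {t : F} (ht : t ≠ 0) (u : F) :
    f j (t ^ (D.cartan i (D.simple j)) * u) =
      (f i t / f i 1) ^ (D.cartan (ρ i) (D.simple (ρ j))) * f j u := by
  have hB := basicOK_of_tabulated hD
  have e1 := hE_conj hD i.2 (hS.lt i i.2) (hS.lt j j.2) ht u
  have e2 := congrArg θ e1
  have hc : f i t / f i 1 ≠ 0 := div_ne_zero (h.f_ne_zero i ht) (h.f_ne_zero i one_ne_zero)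
  rw [map_mul, map_mul, map_inv, h.map_hE hD i ht, h.pos, h.pos,
    hE_conj hD (ρ i).2 (hS.lt _ (ρ i).2) (hS.lt _ (ρ j).2) hc] at e2
  exact (mk_inj hB _ e2).symm

end PermBy

end Cfsg.Agent.Helper11.AutSt
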