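import Mathlib
import Cfsg.Prelude.Def_ChevAutomorphisms
import Cfsg.Agent.Helper11.ChevGen

/-!
# Graph automorphisms of `D₄` and `E₆`: images of all root elements

If an automorphism permutes the fundamental root elements (and their negatives) according to a
diagram symmetry `π`, it sends `x_r(t)` to `x_{π r}(± t)` for every root `r`.
-/

set_option autoImplicit false

namespace Cfsg.Agent.Helper11.ChevGraph

open Cfsg.Lie Cfsg.Agent.Helper6 Cfsg.Agent.Helper11.ChevGen

instance (D : ChevalleyDatum) (π : Equiv.Perm (Fin D.rank)) : Decidable (D.IsDiagramSymmetry π) := by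
  unfold ChevalleyDatum.IsDiagramSymmetry; infer_instance

/-- the table facts needed for a diagram symmetry -/
def graphChk (D : ChevalleyDatum) (π : Equiv.Perm (Fin D.rank)) : Bool :=
  ((List.finRange D.rank).all fun i =>
     Nat.beq (D.permRoot π (D.simple i)) (D.simple (π i)) &&
     (List.range D.nroots).all fun s =>
       Nat.beq (wR D (D.simple (π i)) (D.permRoot π s)) (D.permRoot π (wR D (D.simple i) s))) &&
  (List.range D.nroots).all fun s => Nat.blt (D.permRoot π s) D.nroots

set_option maxRecDepth 100000 in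
theorem graphChk_D4 : ∀ π : Equiv.Perm (Fin chevD4.rank), chevD4.IsDiagramSymmetry π →
    graphChk chevD4 π = true := by decide +kernel

set_option maxRecDepth 100000 in
theorem graphChk_E6 : ∀ π : Equiv.Perm (Fin chevE6.rank), chevE6.IsDiagramSymmetry π →
    graphChk chevE6 π = true := by decide +kernel

variable {D : ChevalleyDatum} {F : Type*} [Field F]

theorem graphChk_spec {π : Equiv.Perm (Fin D.rank)} (h : graphChk D π = true) :
    (∀ i : Fin D.rank, D.permRoot π (D.simple i) = D.simple (π i)) ∧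
    (∀ i : Fin D.rank, ∀ s < D.nroots,
      wR D (D.simple (π i)) (D.permRoot π s) = D.permRoot π (wR D (D.simple i) s)) ∧
    (∀ s < D.nroots, D.permRoot π s < D.nroots) := by
  simp only [graphChk, Bool.and_eq_true, List.all_eq_true, List.mem_finRange, true_implies,
    List.mem_range, Nat.beq_eq, Nat.blt_eq] at h
  exact ⟨fun i => (h.1 i).1, fun i s hs => (h.1 i).2 s hs, h.2⟩

/-- the element `n_{p_i}` in the Chevalley group -/
noncomputable def nS (hB : BasicOK D) {i : ℕ} (hA : SimpleAll D i) : ↥(D.group F) :=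
  mk hB (D.simple i) hA.hS.1 (1 : F) * mk hB (D.neg (D.simple i)) (hB.neg _ hA.hS.1).1 (-(1 : F)⁻¹) *
    mk hB (D.simple i) hA.hS.1 (1 : F)

theorem conj_mk (hB : BasicOK D) {i : ℕ} (hA : SimpleAll D i) {s : ℕ} (hs : s < D.nroots) (u : F) :
    nS hB hA * mk hB s hs u * (nS (F := F) hB hA)⁻¹ =
      mk hB (wR D (D.simple i) s) (wR_lt hB hA.hS.1 hA.hR hs)
        (((etaR D (D.simple i) s : ℤ) : F) * u) := by
  apply Subtype.ext
  show xU hB (D.simple i) 1 * xU hB (D.neg (D.simple i)) (-(1 : F)⁻¹) * xU hB (D.simple i) 1 *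
      xU hB s u * (xU hB (D.simple i) 1 * xU hB (D.neg (D.simple i)) (-(1 : F)⁻¹) *
        xU hB (D.simple i) 1)⁻¹ = xU hB (wR D (D.simple i) s) _
  rw [← nU_eq]
  exact nU_conj_xU hB hA hs u

theorem eta_sq (hA : ∀ i < D.rank, SimpleAll D i) {i : ℕ} (hi : i < D.rank) {s : ℕ}
    (hs : s < D.nroots) :
    ((etaR D (D.simple i) s : ℤ) : F) = 1 ∨ ((etaR D (D.simple i) s : ℤ) : F) = -1 := by
  rcases ((hA i hi).hE.2 s hs).1 with h | h <;> rw [h] <;> simp

theorem main (hD : D ∈ [chevD4, chevE6]) (π : Equiv.Perm (Fin D.rank))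
    (hπ : D.IsDiagramSymmetry π) (φ : ↥(D.group F) ≃* ↥(D.group F))
    (hφ : ∀ (g : ↥(D.group F)) (i : Fin D.rank) (t : F),
      (((g : GL D.Idx F) : Matrix D.Idx D.Idx F) = D.x F (D.simple i) t →
        ((φ g : GL D.Idx F) : Matrix D.Idx D.Idx F) = D.x F (D.simple (π i)) t) ∧
      (((g : GL D.Idx F) : Matrix D.Idx D.Idx F) = D.x F (D.neg (D.simple i)) t →
        ((φ g : GL D.Idx F) : Matrix D.Idx D.Idx F) = D.x F (D.neg (D.simple (π i))) t))
    (r : ℕ) (hr : r < D.nroots) :
    ∃ ε : F, (ε = 1 ∨ ε = -1) ∧ ∀ (g : ↥(D.group F)) (t : F),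
      ((g : GL D.Idx F) : Matrix D.Idx D.Idx F) = D.x F r t →
        ((φ g : GL D.Idx F) : Matrix D.Idx D.Idx F) = D.x F (D.permRoot π r) (ε * t) := by
  have hD' : IsTabulated D := by
    simp only [List.mem_cons, List.not_mem_nil, or_false] at hD
    simp only [IsTabulated, List.mem_cons, List.not_mem_nil, or_false]
    rcases hD with rfl | rfl <;> simp
  have hchk : graphChk D π = true := by
    simp only [List.mem_cons, List.not_mem_nil, or_false] at hD
    rcases hD with rfl | rfl
    · exact graphChk_D4 π hπ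
    · exact graphChk_E6 π hπ
  obtain ⟨T1, T2, T3⟩ := graphChk_spec hchk
  have hB := basicOK_of_tabulated hD'
  have hA : ∀ i < D.rank, SimpleAll D i := fun i hi => simpleAll_of_tabulated hD' hi
  -- images of the generators
  have himg1 : ∀ (i : Fin D.rank) (t : F),
      φ (mk hB (D.simple i) (hA i.val i.isLt).hS.1 t) =
        mk hB (D.simple (π i)) (hA (π i).val (π i).isLt).hS.1 t := by
    intro i t
    apply Subtype.ext
    apply Units.ext
    exact (hφ _ i t).1 rfl
  have himg2 : ∀ (i : Fin D.rank) (t : F),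
      φ (mk hB (D.neg (D.simple i)) (hB.neg _ (hA i.val i.isLt).hS.1).1 t) =
        mk hB (D.neg (D.simple (π i))) (hB.neg _ (hA (π i).val (π i).isLt).hS.1).1 t := by
    intro i t
    apply Subtype.ext
    apply Units.ext
    exact (hφ _ i t).2 rfl
  have himgn : ∀ i : Fin D.rank, φ (nS (F := F) hB (hA i.val i.isLt)) =
      nS hB (hA (π i).val (π i).isLt) := by
    intro i
    unfold nS
    rw [map_mul, map_mul, himg1, himg2]
  -- the induction
  have key : ∀ r, Reach D r → ∃ ε : F, (ε = 1 ∨ ε = -1) ∧ ∀ (hr : r < D.nroots) (t : F),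
      φ (mk hB r hr t) = mk hB (D.permRoot π r) (T3 r hr) (ε * t) := by
    intro r h
    induction h with
    | @simple i hi =>
      refine ⟨1, Or.inl rfl, fun hr t => ?_⟩
      have := himg1 ⟨i, hi⟩ t
      rw [this]
      apply Subtype.ext
      apply Units.ext
      show D.x F (D.simple (π ⟨i, hi⟩)) t = D.x F (D.permRoot π (D.simple i)) (1 * t)
      rw [one_mul, T1 ⟨i, hi⟩]
    | @step i s hi hs hreach ih =>
      obtain ⟨ε, hε, ihs⟩ := ih
      have hs' : D.permRoot π s < D.nroots := T3 s hs
      have hπi : (π ⟨i, hi⟩).val < D.rank := (π ⟨i, hi⟩).isLt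
      refine ⟨((etaR D (D.simple (π ⟨i, hi⟩)) (D.permRoot π s) : ℤ) : F) * ε *
        ((etaR D (D.simple i) s : ℤ) : F), ?_, fun hr t => ?_⟩
      · rcases eta_sq (F := F) hA hπi hs' with h1 | h1 <;> rcases hε with h2 | h2 <;>
          rcases eta_sq (F := F) hA hi hs with h3 | h3 <;> rw [h1, h2, h3] <;> simp
      · have hηη : ((etaR D (D.simple i) s : ℤ) : F) * (((etaR D (D.simple i) s : ℤ) : F) * t) = t := by
          rcases eta_sq (F := F) hA hi hs with h3 | h3 <;> rw [h3] <;> simp
        have h1 := conj_mk (F := F) hB (hA i hi) hs (((etaR D (D.simple i) s : ℤ) : F) * t)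
        have h2 : mk hB (wR D (D.simple i) s) hr t =
            nS hB (hA i hi) * mk hB s hs (((etaR D (D.simple i) s : ℤ) : F) * t) *
              (nS (F := F) hB (hA i hi))⁻¹ := by
          rw [h1]
          apply Subtype.ext
          apply Units.ext
          show D.x F _ t = D.x F _ _
          rw [hηη]
        rw [h2, map_mul, map_mul, map_inv, himgn ⟨i, hi⟩, ihs hs,
          conj_mk (F := F) hB (hA _ hπi) hs']
        apply Subtype.ext
        apply Units.ext
        show D.x F _ _ = D.x F _ _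
        rw [T2 ⟨i, hi⟩ s hs]
        congr 1
        ring
  obtain ⟨ε, hε, hkey⟩ := key r (reach_of_tabulated hD' hr)
  refine ⟨ε, hε, fun g t hg => ?_⟩
  have : g = mk hB r hr t := by
    apply Subtype.ext
    apply Units.ext
    exact hg
  rw [this, hkey hr t]
  rfl

end Cfsg.Agent.Helper11.ChevGraph
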