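import Mathlib
import Cfsg.Agent.Helper11.AutPerm
import Cfsg.Agent.Helper11.ChevGraph

set_option autoImplicit false
set_option linter.unusedSectionVars false
set_option linter.unusedSimpArgs false
set_option linter.unusedVariables false

/-! An automorphism permuting the fundamental root subgroups induces a symmetry of the diagram. -/

namespace Cfsg.Agent.Helper11.AutSt

open Cfsg.Lie Cfsg.Agent.Helper6 Cfsg.Agent.Helper11.ChevGen Cfsg.Agent.Helper11.AutStab
  Cfsg.Agent.Helper11.AutAct Cfsg.Agent.Helper11.AutTriple Cfsg.Agent.Helper2.ChevSL2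
  Cfsg.Agent.Helper11.ChevGraph

/-- table facts about the reflections of the fundamental roots -/
def reflChk (D : ChevalleyDatum) : Bool :=
  allLt D.rank fun i => allLt D.rank fun j => decide (i = j) ||
    (Nat.ble (D.nroots / 2) (wR D (D.simple i) (D.simple j)) &&
      decide (D.cartan i (D.simple j) = 0 ↔ wR D (D.simple i) (D.simple j) = D.simple j) &&
      decide (D.cartan i (D.simple j) = 0 ↔ D.cartan j (D.simple i) = 0) &&
      decide (D.cartan i (D.simple j) ≤ 0) &&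
      decide (D.bonds i j = 0 ↔ D.cartan i (D.simple j) = 0))

theorem reflChk_spec {D : ChevalleyDatum} (h : reflChk D = true) (i j : Fin D.rank) (hij : i ≠ j) :
    D.nroots / 2 ≤ wR D (D.simple i) (D.simple j) ∧
    (D.cartan i (D.simple j) = 0 ↔ wR D (D.simple i) (D.simple j) = D.simple j) ∧
    (D.cartan i (D.simple j) = 0 ↔ D.cartan j (D.simple i) = 0) ∧
    D.cartan i (D.simple j) ≤ 0 ∧ (D.bonds i j = 0 ↔ D.cartan i (D.simple j) = 0) := by
  simp only [reflChk, allLt_iff, Bool.or_eq_true, Bool.and_eq_true, decide_eq_true_eq,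
    Nat.ble_eq] at h
  rcases h i i.2 j j.2 with h1 | h1
  · exact absurd (Fin.ext h1) hij
  · exact ⟨h1.1.1.1.1, h1.1.1.1.2, h1.1.1.2, h1.1.2, h1.2⟩

theorem reflChk_of_tabulated {D : ChevalleyDatum} (hD : IsTabulated D) : reflChk D = true := by
  simp only [IsTabulated, List.mem_cons, List.not_mem_nil, or_false] at hD
  rcases hD with rfl | rfl | rfl | rfl | rfl | rfl | rfl <;> decide +kernel

variable {D : ChevalleyDatum} {F : Type*} [Field F]

/-- `n_r(c) = h_r(c) n_r(1)` -/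
theorem nE_eq (hD : IsTabulated D) {r : ℕ} (hr : r < D.nroots) (c : F) :
    nE (basicOK_of_tabulated hD) r hr c =
      hE (basicOK_of_tabulated hD) r hr c * nE (basicOK_of_tabulated hD) r hr 1 := by
  have hB := basicOK_of_tabulated hD
  have hsl := hasSL2_of_tabulated (F := F) hD hr
  unfold hE
  rw [mul_assoc]
  have : nE hB r hr (-1 : F) * nE hB r hr 1 = 1 := Subtype.ext (nG_neg_one_mul hB hsl)
  rw [this, mul_one]

namespace PermBy

variable {hS : SimpOK D} {θ : ↥(D.group F) ≃* ↥(D.group F)}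
  {ρ : Equiv.Perm (Fin D.rank)} {f g : Fin D.rank → F → F}

/-- non-adjacent nodes go to non-adjacent nodes -/
theorem cartan_zero (hD : IsTabulated D) (h : PermBy (basicOK_of_tabulated hD) hS θ ρ f g)
    (i j : Fin D.rank) (hij : i ≠ j) (h0 : D.cartan i (D.simple j) = 0) :
    D.cartan (ρ i) (D.simple (ρ j)) = 0 := by
  have hB := basicOK_of_tabulated hD
  have hA : ∀ i < D.rank, SimpleAll D i := fun i hi => simpleAll_of_tabulated hD hi
  have hT := reflChk_of_tabulated hD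
  have hρij : ρ i ≠ ρ j := fun hc => hij (ρ.injective hc)
  obtain ⟨-, T2, -, -, -⟩ := reflChk_spec hT i j hij
  obtain ⟨T1', T2', -, -, -⟩ := reflChk_spec hT (ρ i) (ρ j) hρij
  have hw : wR D (D.simple i) (D.simple j) = D.simple j := T2.1 h0
  -- the source relation
  have e1 := conj_mk (F := F) hB (hA i i.2) (hS.lt j j.2) 1
  have e1' : nE hB (D.simple i) (hS.lt i i.2) (1 : F) *
      ChevGen.mk hB (D.simple j) (hS.lt j j.2) 1 * (nE hB (D.simple i) (hS.lt i i.2) (1 : F))⁻¹ =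
      ChevGen.mk hB (D.simple j) (hS.lt j j.2) (((etaR D (D.simple i) (D.simple j) : ℤ) : F) * 1) := by
    apply eq_mk hB
    have := congrArg (fun y : ↥(D.group F) => ((y : GL D.Idx F) : Matrix D.Idx D.Idx F)) e1
    simp only [mk_val] at this
    rw [hw] at this
    exact this
  have e2 := congrArg θ e1'
  have hc : f i 1 ≠ 0 := h.f_ne_zero i one_ne_zero
  rw [map_mul, map_mul, map_inv, h.map_nE hD i one_ne_zero, h.pos, h.pos, nE_eq hD] at e2
  -- compute the left side
  have e3 := conj_mk (F := F) hB (hA _ (ρ i).2) (hS.lt _ (ρ j).2) (f j 1)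
  have hwlt : wR D (D.simple (ρ i)) (D.simple (ρ j)) < D.nroots :=
    wR_lt hB (hA _ (ρ i).2).hS.1 (hA _ (ρ i).2).hR (hS.lt _ (ρ j).2)
  have e4 : hE hB (D.simple (ρ i)) (hS.lt _ (ρ i).2) (f i 1) *
      nE hB (D.simple (ρ i)) (hS.lt _ (ρ i).2) 1 *
      ChevGen.mk hB (D.simple (ρ j)) (hS.lt _ (ρ j).2) (f j 1) *
      (hE hB (D.simple (ρ i)) (hS.lt _ (ρ i).2) (f i 1) *
        nE hB (D.simple (ρ i)) (hS.lt _ (ρ i).2) 1)⁻¹ =
      ChevGen.mk hB (wR D (D.simple (ρ i)) (D.simple (ρ j))) hwlt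
        (f i 1 ^ D.cartan (ρ i) (wR D (D.simple (ρ i)) (D.simple (ρ j))) *
          (((etaR D (D.simple (ρ i)) (D.simple (ρ j)) : ℤ) : F) * f j 1)) := by
    rw [← hE_conj hD (ρ i).2 (hS.lt _ (ρ i).2) hwlt hc, ← e3]
    unfold nS nE
    group
  rw [e4] at e2
  have hη : ((etaR D (D.simple (ρ i)) (D.simple (ρ j)) : ℤ) : F) ≠ 0 := by
    rcases eta_sq (F := F) hA (ρ i).2 (hS.lt _ (ρ j).2) with h1 | h1 <;> rw [h1] <;> simp
  have hne : f i 1 ^ D.cartan (ρ i) (wR D (D.simple (ρ i)) (D.simple (ρ j))) *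
      (((etaR D (D.simple (ρ i)) (D.simple (ρ j)) : ℤ) : F) * f j 1) ≠ 0 :=
    mul_ne_zero (zpow_ne_zero _ hc) (mul_ne_zero hη (h.f_ne_zero j one_ne_zero))
  have e5 := congrArg (fun y : ↥(D.group F) => ((y : GL D.Idx F) : Matrix D.Idx D.Idx F)) e2
  simp only [mk_val] at e5
  obtain ⟨h6, -⟩ := x_eq_x hD T1' (hS.pos _ (ρ j).2) hwlt (hS.lt _ (ρ j).2) hne e5
  exact T2'.2 h6

end PermBy

end Cfsg.Agent.Helper11.AutSt
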