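import Mathlib
import Cfsg.Agent.Helper11.AutPermSym

set_option autoImplicit false
set_option linter.unusedSectionVars false
set_option linter.unusedSimpArgs false
set_option linter.unusedVariables false

/-! A permutation of the nodes preserving non-adjacency is a symmetry of the diagram. -/

namespace Cfsg.Agent.Helper11.AutSt

open Cfsg.Lie Cfsg.Agent.Helper6 Cfsg.Agent.Helper11.ChevGen Cfsg.Agent.Helper11.AutStab
  Cfsg.Agent.Helper11.AutAct Cfsg.Agent.Helper11.AutTriple Cfsg.Agent.Helper11.ChevGraph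

/-- a relation preserved by a permutation of a finite type is reflected by it -/
theorem both_dirs {n : ℕ} (ρ : Equiv.Perm (Fin n)) (Z : Fin n → Fin n → Prop)
    (h : ∀ i j, Z i j → Z (ρ i) (ρ j)) : ∀ i j, Z (ρ i) (ρ j) → Z i j := by
  intro i j hz
  let S := {q : Fin n × Fin n // Z q.1 q.2}
  let Φ : S → S := fun q => ⟨(ρ q.1.1, ρ q.1.2), h _ _ q.2⟩
  have hinj : Function.Injective Φ := by
    rintro ⟨⟨a, b⟩, hab⟩ ⟨⟨a', b'⟩, hab'⟩ he
    have he' := congrArg Subtype.val he
    simp only [Φ, Prod.mk.injEq] at he'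
    apply Subtype.ext
    exact Prod.ext (ρ.injective he'.1) (ρ.injective he'.2)
  obtain ⟨⟨⟨a, b⟩, hab⟩, he⟩ := (Finite.injective_iff_surjective.1 hinj) ⟨(ρ i, ρ j), hz⟩
  have he' := congrArg Subtype.val he
  simp only [Φ, Prod.mk.injEq] at he'
  rw [← ρ.injective he'.1, ← ρ.injective he'.2]
  exact hab

/-- all bonds are simple -/
def slChk (D : ChevalleyDatum) : Bool :=
  allLt D.rank fun i => allLt D.rank fun j =>
    decide (i = j) || decide (D.bonds i j = 0) || decide (D.bonds i j = 1)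

theorem isSym_of_slChk {D : ChevalleyDatum} (h : slChk D = true) (ρ : Equiv.Perm (Fin D.rank))
    (h0 : ∀ i j : Fin D.rank, i ≠ j → D.bonds i j = 0 → D.bonds (ρ i) (ρ j) = 0) :
    D.IsDiagramSymmetry ρ := by
  simp only [slChk, allLt_iff, Bool.or_eq_true, decide_eq_true_eq] at h
  have h1 := both_dirs ρ (fun i j => i ≠ j ∧ D.bonds i j = 0)
    (fun i j hz => ⟨fun hc => hz.1 (ρ.injective hc), h0 i j hz.1 hz.2⟩)
  intro i j hij
  have hρij : ρ i ≠ ρ j := fun hc => hij (ρ.injective hc)
  rcases h i i.2 j j.2 with (h2 | h2) | h2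
  · exact absurd (Fin.ext h2) hij
  · rw [h2, h0 i j hij h2]
  · rcases h (ρ i) (ρ i).2 (ρ j) (ρ j).2 with (h3 | h3) | h3
    · exact absurd (Fin.ext h3) hρij
    · have := (h1 i j ⟨hρij, h3⟩).2
      rw [h2] at this
      exact absurd this one_ne_zero
    · rw [h2, h3]

theorem isSym_G2 : ∀ ρ : Equiv.Perm (Fin chevG2.rank), chevG2.IsDiagramSymmetry ρ := by
  decide +kernel

theorem isSym_B2 : ∀ ρ : Equiv.Perm (Fin chevB2.rank), chevB2.IsDiagramSymmetry ρ := by
  decide +kernel

theorem isSym_F4 : ∀ ρ : Equiv.Perm (Fin chevF4.rank),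
    (∀ i j : Fin chevF4.rank, i ≠ j → chevF4.bonds i j = 0 → chevF4.bonds (ρ i) (ρ j) = 0) →
      chevF4.IsDiagramSymmetry ρ := by
  decide +kernel

/-- a permutation of the nodes preserving non-adjacency is a symmetry of the diagram -/
theorem isSym_of_adj {D : ChevalleyDatum} (hD : IsTabulated D) (ρ : Equiv.Perm (Fin D.rank))
    (h0 : ∀ i j : Fin D.rank, i ≠ j → D.bonds i j = 0 → D.bonds (ρ i) (ρ j) = 0) :
    D.IsDiagramSymmetry ρ := by
  simp only [IsTabulated, List.mem_cons, List.not_mem_nil, or_false] at hD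
  rcases hD with rfl | rfl | rfl | rfl | rfl | rfl | rfl
  · exact isSym_G2 ρ
  · exact isSym_B2 ρ
  · exact isSym_of_slChk (by decide +kernel) ρ h0
  · exact isSym_F4 ρ h0
  · exact isSym_of_slChk (by decide +kernel) ρ h0
  · exact isSym_of_slChk (by decide +kernel) ρ h0
  · exact isSym_of_slChk (by decide +kernel) ρ h0

variable {D : ChevalleyDatum} {F : Type*} [Field F]

/-- the permutation induced by an automorphism permuting the fundamental root subgroups is a
symmetry of the diagram -/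
theorem PermBy.isSym {hS : SimpOK D} {θ : ↥(D.group F) ≃* ↥(D.group F)}
    {ρ : Equiv.Perm (Fin D.rank)} {f g : Fin D.rank → F → F} (hD : IsTabulated D)
    (h : PermBy (basicOK_of_tabulated hD) hS θ ρ f g) : D.IsDiagramSymmetry ρ := by
  apply isSym_of_adj hD
  intro i j hij hb
  have hT := reflChk_of_tabulated hD
  have hρij : ρ i ≠ ρ j := fun hc => hij (ρ.injective hc)
  obtain ⟨-, -, -, -, T5⟩ := reflChk_spec hT i j hij
  obtain ⟨-, -, -, -, T5'⟩ := reflChk_spec hT (ρ i) (ρ j) hρij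
  exact T5'.2 (h.cartan_zero hD i j hij (T5.1 hb))

end Cfsg.Agent.Helper11.AutSt
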