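import Mathlib
import Cfsg.Prelude.Def_ChevAutomorphisms
import Cfsg.Agent.Helper6.Chev.Tables
import Cfsg.Agent.Helper6.Chev.Fast

set_option autoImplicit false
set_option linter.unusedSectionVars false
set_option linter.unusedSimpArgs false
set_option linter.unusedVariables false

/-! The functional equations satisfied by the parameter maps of an automorphism permuting the
fundamental root subgroups: they are all given by one field automorphism, up to the exponents of
a graph automorphism. -/

namespace Cfsg.Agent.Helper11.AutSt

open Cfsg.Lie Cfsg.Agent.Helper6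

section field

variable {F : Type*} [Field F]

/-- if `x ↦ x ^ 2` or `x ↦ x ^ 3` is additive on a field of characteristic `p`, it is the
Frobenius map -/
theorem pow_eq_pow_char (p : ℕ) [Fact p.Prime] [CharP F p] {E : ℕ} (hE : E = 2 ∨ E = 3)
    (hadd : ∀ x y : F, (x + y) ^ E = x ^ E + y ^ E) (x : F) : x ^ E = x ^ p := by
  have hp : p.Prime := Fact.out
  rcases hE with rfl | rfl
  · -- 2 = 0
    have h1 := hadd 1 1
    have h2 : ((2 : ℕ) : F) = 0 := by
      have : (2 : F) = 0 := by linear_combination h1
      exact_mod_cast this
    have h3 := (CharP.cast_eq_zero_iff F p 2).1 h2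
    have : p = 2 := (Nat.prime_dvd_prime_iff_eq hp Nat.prime_two).1 h3
    rw [this]
  · have h1 := hadd 1 1
    have h2 : ((6 : ℕ) : F) = 0 := by
      have : (6 : F) = 0 := by linear_combination h1
      exact_mod_cast this
    have h3 := (CharP.cast_eq_zero_iff F p 6).1 h2
    have h4 : p ∣ 2 * 3 := by norm_num; exact h3
    rcases (Nat.Prime.dvd_mul hp).1 h4 with h5 | h5
    · have hp2 : p = 2 := (Nat.prime_dvd_prime_iff_eq hp Nat.prime_two).1 h5
      have h6 := hadd x 1
      have h7 : ((2 : ℕ) : F) = 0 := by rw [← hp2]; exact CharP.cast_eq_zero F p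
      have h8 : (2 : F) = 0 := by exact_mod_cast h7
      have h9 : x ^ 2 + x = 0 := by
        have : 3 * (x ^ 2 + x) = 0 := by linear_combination h6
        have h3' : (3 : F) = 1 := by linear_combination h8
        rw [h3', one_mul] at this
        exact this
      rw [hp2]
      have : x ^ 3 = x * x ^ 2 := by ring
      rw [this]
      have h10 : x ^ 2 = -x := by linear_combination h9
      have h11 : -x = x := by linear_combination -x * h8
      rw [h10, h11]
      linear_combination h9 - x * h8
    · have : p = 3 := (Nat.prime_dvd_prime_iff_eq hp Nat.prime_three).1 h5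
      rw [this]

end field

/-! ### table facts -/

/-- the flag deciding the exponent of a graph automorphism from node `i` to node `i'` -/
def expFlag (D : ChevalleyDatum) (i i' : ℕ) : Bool :=
  D.isLong (D.simple i') && !D.isLong (D.simple i)

theorem graphExp_eq (D : ChevalleyDatum) (p i i' : ℕ) :
    D.graphExp p i i' = if expFlag D i i' then p else 1 := rfl

/-- local classification of the edges: the number of bonds determines the relative lengths -/
def edgeChk (D : ChevalleyDatum) : Bool :=
  let L := (List.range D.rank).map fun k => D.isLong (D.simple k)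
  allLt D.rank fun i => allLt D.rank fun j => allLt D.rank fun i' => allLt D.rank fun j' =>
    decide (i = j) || decide (i' = j') || !decide (D.cartan i (D.simple j) = -1) ||
      !decide (D.bonds i' j' = D.bonds i j) ||
      (let bi := L.getD i' false && !L.getD i false
       let bj := L.getD j' false && !L.getD j false
       (decide (D.cartan i' (D.simple j') = -1) && (bi == bj)) ||
       ((decide (D.cartan i' (D.simple j') = -2) || decide (D.cartan i' (D.simple j') = -3)) &&
         !bi && bj))

theorem edgeChk_spec {D : ChevalleyDatum} (h : edgeChk D = true) {i j i' j' : ℕ}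
    (hi : i < D.rank) (hj : j < D.rank) (hi' : i' < D.rank) (hj' : j' < D.rank)
    (hij : i ≠ j) (hij' : i' ≠ j') (hA : D.cartan i (D.simple j) = -1)
    (hb : D.bonds i' j' = D.bonds i j) :
    (D.cartan i' (D.simple j') = -1 ∧ expFlag D i i' = expFlag D j j') ∨
    ((D.cartan i' (D.simple j') = -2 ∨ D.cartan i' (D.simple j') = -3) ∧
      expFlag D i i' = false ∧ expFlag D j j' = true) := by
  simp only [edgeChk, allLt_iff] at h
  have h1 := h i hi j hj i' hi' j' hj'
  have hL : ∀ k < D.rank, ((List.range D.rank).map fun k => D.isLong (D.simple k)).getD k false =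
      D.isLong (D.simple k) := by
    intro k hk
    rw [List.getD_eq_getElem?_getD, List.getElem?_map, List.getElem?_range hk]
    rfl
  rw [hL i hi, hL j hj, hL i' hi', hL j' hj'] at h1
  simp only [Bool.or_eq_true, Bool.and_eq_true, decide_eq_true_eq, Bool.not_eq_true',
    decide_eq_false_iff_not, beq_iff_eq, Bool.not_eq_eq_eq_not, Bool.not_true] at h1
  unfold expFlag
  rcases h1 with (((h1 | h1) | h1) | h1) | h1
  · exact absurd h1 hij
  · exact absurd h1 hij'
  · exact absurd hA h1
  · exact absurd hb h1
  · rcases h1 with ⟨h2, h3⟩ | ⟨⟨h2, h3⟩, h4⟩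
    · exact Or.inl ⟨h2, h3⟩
    · refine Or.inr ⟨h2, ?_, ?_⟩
      · simpa using h3
      · simpa using h4

set_option maxRecDepth 100000 in
theorem edgeChk_of_tabulated {D : ChevalleyDatum} (hD : IsTabulated D) : edgeChk D = true := by
  simp only [IsTabulated, List.mem_cons, List.not_mem_nil, or_false] at hD
  rcases hD with rfl | rfl | rfl | rfl | rfl | rfl | rfl <;> decide +kernel

/-- adjacency of two nodes through a Cartan integer `-1` -/
def adjB (D : ChevalleyDatum) (i j : ℕ) : Bool :=
  decide (D.cartan i (D.simple j) = -1) || decide (D.cartan j (D.simple i) = -1)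

/-- one step of the closure of a set of nodes under adjacency -/
def grow (D : ChevalleyDatum) (S : List ℕ) : List ℕ :=
  (List.range D.rank).filter fun j => S.contains j || S.any fun i => adjB D i j

/-- the nodes reached from `s` in at most `k` steps -/
def reachN (D : ChevalleyDatum) (s : ℕ) : ℕ → List ℕ
  | 0 => [s]
  | k + 1 => grow D (reachN D s k)

/-- a pair `(i₀, j₀)` with Cartan integer `-1` -/
def startPair (D : ChevalleyDatum) : ℕ × ℕ :=
  (((List.range D.rank).flatMap fun i => (List.range D.rank).map fun j => (i, j)).find?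
    (fun q => decide (D.cartan q.1 (D.simple q.2) = -1))).getD (0, 0)

/-- the diagram is connected, starting from the second node of the start pair -/
def linkChk (D : ChevalleyDatum) : Bool :=
  decide ((startPair D).1 < D.rank) && decide ((startPair D).2 < D.rank) &&
    decide ((startPair D).1 ≠ (startPair D).2) &&
    decide (D.cartan (startPair D).1 (D.simple (startPair D).2) = -1) &&
    allLt D.rank fun i => (reachN D (startPair D).2 D.rank).contains i

theorem linkChk_of_tabulated {D : ChevalleyDatum} (hD : IsTabulated D) : linkChk D = true := by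
  simp only [IsTabulated, List.mem_cons, List.not_mem_nil, or_false] at hD
  rcases hD with rfl | rfl | rfl | rfl | rfl | rfl | rfl <;> decide +kernel

theorem reach_induction {D : ChevalleyDatum} {s : ℕ} (hs : s < D.rank) (P : ℕ → Prop) (h0 : P s)
    (hstep : ∀ i < D.rank, ∀ j < D.rank, adjB D i j = true → P i → P j) :
    ∀ k, ∀ x ∈ reachN D s k, x < D.rank ∧ P x := by
  intro k
  induction k with
  | zero =>
    intro x hx
    simp only [reachN, List.mem_singleton] at hx
    rw [hx]
    exact ⟨hs, h0⟩
  | succ k ih =>
    intro x hx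
    simp only [reachN, grow, List.mem_filter, List.mem_range, Bool.or_eq_true,
      List.contains_eq_mem, decide_eq_true_eq, List.any_eq_true] at hx
    obtain ⟨hx1, hx2 | ⟨i, hi, hadj⟩⟩ := hx
    · exact ih x hx2
    · exact ⟨hx1, hstep i (ih i hi).1 x hx1 hadj (ih i hi).2⟩

theorem linkChk_spec {D : ChevalleyDatum} (h : linkChk D = true) :
    ∃ i₀ j₀ : ℕ, i₀ < D.rank ∧ j₀ < D.rank ∧ i₀ ≠ j₀ ∧ D.cartan i₀ (D.simple j₀) = -1 ∧
      ∀ P : ℕ → Prop, P j₀ →
        (∀ i < D.rank, ∀ j < D.rank, adjB D i j = true → P i → P j) → ∀ x < D.rank, P x := by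
  simp only [linkChk, Bool.and_eq_true, decide_eq_true_eq, allLt_iff, List.contains_eq_mem] at h
  obtain ⟨⟨⟨⟨h1, h2⟩, h3⟩, h4⟩, h5⟩ := h
  refine ⟨_, _, h1, h2, h3, h4, fun P h0 hstep x hx => ?_⟩
  exact (reach_induction h2 P h0 hstep D.rank x (h5 x hx)).2

end Cfsg.Agent.Helper11.AutSt
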