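import Mathlib
import Cfsg.Agent.Helper11.AutFunEq

set_option autoImplicit false
set_option linter.unusedSectionVars false
set_option linter.unusedSimpArgs false
set_option linter.unusedVariables false

/-! Solving the functional equations: one field automorphism governs all the parameter maps. -/

namespace Cfsg.Agent.Helper11.AutSt

open Cfsg.Lie Cfsg.Agent.Helper6

variable {F : Type*} [Field F]

/-- propagation of the shape of the parameter maps along an edge of the diagram -/
theorem prop_core [Finite F] (p : ℕ) [Fact p.Prime] [CharP F p] (Fi Fj : F → F)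
    (haddi : ∀ t u, Fi (t + u) = Fi t + Fi u) (haddj : ∀ t u, Fj (t + u) = Fj t + Fj u)
    (hinji : Function.Injective Fi) (σ' : F ≃+* F) (ei ej E : ℕ)
    (hrel : ∀ t : F, t ≠ 0 → Fj t⁻¹ = (Fi t) ^ (-(E : ℤ)))
    (hcase : (E = 1 ∧ ei = ej) ∨ ((E = 2 ∨ E = 3) ∧ ei = 1 ∧ ej = p)) (hei : 0 < ei)
    (hej : 0 < ej) :
    ((∀ t, Fi t = σ' t ^ ei) → (∀ t, Fj t = σ' t ^ ej)) ∧
      ((∀ t, Fj t = σ' t ^ ej) → (∀ t, Fi t = σ' t ^ ei)) := by
  have hp : p.Prime := Fact.out
  have hzi : Fi 0 = 0 := by
    have := haddi 0 0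
    rw [add_zero] at this
    exact left_eq_add.mp this
  have hzj : Fj 0 = 0 := by
    have := haddj 0 0
    rw [add_zero] at this
    exact left_eq_add.mp this
  have hsurji : Function.Surjective Fi := Finite.injective_iff_surjective.1 hinji
  have hE0 : 0 < E := by
    rcases hcase with ⟨h, -⟩ | ⟨h | h, -⟩ <;> omega
  constructor
  · intro hPi
    have key : ∀ s, Fj s = σ' s ^ (ei * E) := by
      intro s
      by_cases hs : s = 0
      · rw [hs, hzj, map_zero, zero_pow (Nat.mul_ne_zero hei.ne' hE0.ne')]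
      · have h1 := hrel s⁻¹ (inv_ne_zero hs)
        rw [inv_inv, hPi, map_inv₀] at h1
        rw [h1, zpow_neg, zpow_natCast, inv_pow, inv_pow, inv_inv, ← pow_mul]
    rcases hcase with ⟨h1, h2⟩ | ⟨h1, h2, h3⟩
    · intro t
      rw [key, h1, mul_one, h2]
    · have hadd : ∀ x y : F, (x + y) ^ E = x ^ E + y ^ E := by
        intro x y
        obtain ⟨a, rfl⟩ := σ'.surjective x
        obtain ⟨b, rfl⟩ := σ'.surjective y
        have e1 := key (a + b)
        rw [h2, one_mul, map_add] at e1
        rw [← e1, haddj, key, key, h2, one_mul]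
      intro t
      rw [key, h2, one_mul, h3]
      exact pow_eq_pow_char p h1 hadd _
  · intro hPj
    have key : ∀ t, (Fi t) ^ E = σ' t ^ ej := by
      intro t
      by_cases ht : t = 0
      · rw [ht, hzi, map_zero, zero_pow hE0.ne', zero_pow hej.ne']
      · have h1 := hrel t ht
        rw [hPj, map_inv₀, zpow_neg, zpow_natCast, inv_pow] at h1
        exact (inv_injective h1).symm
    rcases hcase with ⟨h1, h2⟩ | ⟨h1, h2, h3⟩
    · intro t
      have := key t
      rw [h1, pow_one] at this
      rw [this, h2]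
    · have hadd : ∀ x y : F, (x + y) ^ E = x ^ E + y ^ E := by
        intro x y
        obtain ⟨a, rfl⟩ := hsurji x
        obtain ⟨b, rfl⟩ := hsurji y
        rw [← haddi, key, key, key, h3, map_add, add_pow_char]
      intro t
      rw [h2, pow_one]
      have e1 := key t
      rw [pow_eq_pow_char p h1 hadd, h3] at e1
      exact frobenius_inj F p e1

/-- the solution of the functional equations -/
theorem exists_sigma [Finite F] (p : ℕ) [Fact p.Prime] [CharP F p] {D : ChevalleyDatum}
    (hD : IsTabulated D) (ρ : Equiv.Perm (Fin D.rank)) (hρ : D.IsDiagramSymmetry ρ)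
    (Fn : Fin D.rank → F → F)
    (hadd : ∀ i t u, Fn i (t + u) = Fn i t + Fn i u) (hone : ∀ i, Fn i 1 = 1)
    (hinj : ∀ i, Function.Injective (Fn i))
    (hE : ∀ (i j : Fin D.rank) (t : F), t ≠ 0 → ∀ u : F,
      Fn j (t ^ (D.cartan i (D.simple j)) * u) =
        (Fn i t) ^ (D.cartan (ρ i) (D.simple (ρ j))) * Fn j u) :
    ∃ σ' : F ≃+* F, ∀ (i : Fin D.rank) (t : F), Fn i t = σ' t ^ D.graphExp p i (ρ i) := by
  have hp : p.Prime := Fact.out
  have hzero : ∀ i, Fn i 0 = 0 := by
    intro i
    have := hadd i 0 0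
    rw [add_zero] at this
    exact left_eq_add.mp this
  have hsurj : ∀ i, Function.Surjective (Fn i) := fun i =>
    Finite.injective_iff_surjective.1 (hinj i)
  have hgpos : ∀ i i' : ℕ, 0 < D.graphExp p i i' := by
    intro i i'
    rw [graphExp_eq]
    split_ifs
    · exact hp.pos
    · exact Nat.one_pos
  -- the relation along a pair with Cartan integer -1
  have hrel : ∀ (i j : Fin D.rank), D.cartan i (D.simple j) = -1 → ∀ t : F, t ≠ 0 →
      Fn j t⁻¹ = (Fn i t) ^ (D.cartan (ρ i) (D.simple (ρ j))) := by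
    intro i j hA t ht
    have := hE i j t ht 1
    rw [hA, zpow_neg_one, mul_one, hone, mul_one] at this
    exact this
  obtain ⟨i₀, j₀, hi₀, hj₀, hne₀, hA₀, hind⟩ := linkChk_spec (linkChk_of_tabulated hD)
  -- the start node has a multiplicative parameter map
  have hmul : ∀ a u : F, Fn ⟨j₀, hj₀⟩ (a * u) = Fn ⟨j₀, hj₀⟩ a * Fn ⟨j₀, hj₀⟩ u := by
    intro a u
    by_cases ha : a = 0
    · rw [ha, zero_mul, hzero, zero_mul]
    · have h1 := hE ⟨i₀, hi₀⟩ ⟨j₀, hj₀⟩ a⁻¹ (inv_ne_zero ha) u
      have h2 := hrel ⟨i₀, hi₀⟩ ⟨j₀, hj₀⟩ hA₀ a⁻¹ (inv_ne_zero ha)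
      rw [inv_inv] at h2
      simp only at h1
      rw [hA₀, zpow_neg_one, inv_inv] at h1
      rw [h1, h2]
  let τh : F →+* F :=
    { toFun := Fn ⟨j₀, hj₀⟩
      map_one' := hone _
      map_mul' := hmul
      map_zero' := hzero _
      map_add' := hadd _ }
  let τ : F ≃+* F := RingEquiv.ofBijective τh ⟨hinj _, hsurj _⟩
  have hτ : ∀ t, τ t = Fn ⟨j₀, hj₀⟩ t := fun t => rfl
  -- the field automorphism
  obtain ⟨σ', hσ'⟩ : ∃ σ' : F ≃+* F, ∀ t, Fn ⟨j₀, hj₀⟩ t =
      σ' t ^ D.graphExp p j₀ (ρ ⟨j₀, hj₀⟩) := by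
    rw [graphExp_eq]
    by_cases hfl : expFlag D j₀ (ρ ⟨j₀, hj₀⟩) = true
    · rw [if_pos hfl]
      refine ⟨τ.trans (frobeniusEquiv F p).symm, fun t => ?_⟩
      rw [RingEquiv.trans_apply, frobeniusEquiv_symm_pow_p, hτ]
    · rw [if_neg hfl]
      exact ⟨τ, fun t => by rw [pow_one, hτ]⟩
  refine ⟨σ', ?_⟩
  -- propagation
  have hall := hind (fun x => ∀ hx : x < D.rank, ∀ t, Fn ⟨x, hx⟩ t =
      σ' t ^ D.graphExp p x (ρ ⟨x, hx⟩)) (fun _ t => hσ' t) (by
    intro i hi j hj hadj hPi hj' t
    by_cases hij : i = j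
    · subst hij
      exact hPi hi t
    · -- the two directions
      have core : ∀ (a b : Fin D.rank), a ≠ b → D.cartan a (D.simple b) = -1 →
          ((∀ t, Fn a t = σ' t ^ D.graphExp p a (ρ a)) →
            (∀ t, Fn b t = σ' t ^ D.graphExp p b (ρ b))) ∧
          ((∀ t, Fn b t = σ' t ^ D.graphExp p b (ρ b)) →
            (∀ t, Fn a t = σ' t ^ D.graphExp p a (ρ a))) := by
        intro a b hab hA
        have hab' : (a : ℕ) ≠ b := fun h => hab (Fin.ext h)
        have hρab : ((ρ a : Fin D.rank) : ℕ) ≠ ρ b := fun h => hab (ρ.injective (Fin.ext h))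
        have hcl := edgeChk_spec (edgeChk_of_tabulated hD) a.2 b.2 (ρ a).2 (ρ b).2 hab' hρab hA
          (hρ a b hab)
        rw [graphExp_eq, graphExp_eq]
        rcases hcl with ⟨h1, h2⟩ | ⟨h1, h2, h3⟩
        · apply prop_core p (Fn a) (Fn b) (hadd a) (hadd b) (hinj a) σ' _ _ 1
          · intro t ht
            rw [hrel a b hA t ht, h1]
            rfl
          · left
            exact ⟨rfl, by rw [h2]⟩
          · split_ifs
            · exact hp.pos
            · exact Nat.one_pos
          · split_ifs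
            · exact hp.pos
            · exact Nat.one_pos
        · rw [h2, h3]
          simp only [Bool.false_eq_true, if_false, if_true]
          rcases h1 with h1 | h1
          · apply prop_core p (Fn a) (Fn b) (hadd a) (hadd b) (hinj a) σ' _ _ 2
            · intro t ht
              rw [hrel a b hA t ht, h1]
              rfl
            · right
              exact ⟨Or.inl rfl, rfl, rfl⟩
            · exact Nat.one_pos
            · exact hp.pos
          · apply prop_core p (Fn a) (Fn b) (hadd a) (hadd b) (hinj a) σ' _ _ 3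
            · intro t ht
              rw [hrel a b hA t ht, h1]
              rfl
            · right
              exact ⟨Or.inr rfl, rfl, rfl⟩
            · exact Nat.one_pos
            · exact hp.pos
      simp only [adjB, Bool.or_eq_true, decide_eq_true_eq] at hadj
      rcases hadj with hA | hA
      · exact (core ⟨i, hi⟩ ⟨j, hj⟩ (fun h => hij (congrArg Fin.val h)) hA).1 (hPi hi) t
      · exact (core ⟨j, hj⟩ ⟨i, hi⟩ (fun h => hij (congrArg Fin.val h).symm) hA).2 (hPi hi) t)
  intro i t
  exact hall i i.2 i.2 t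

end Cfsg.Agent.Helper11.AutSt
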