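import Mathlib
import Cfsg.Agent.Helper11.AutDiagSym
import Cfsg.Agent.Helper11.AutFunEq2
import Cfsg.Agent.Helper11.AutComp
import Cfsg.Agent.Helper11.AutChar
import Cfsg.Agent.S1080

set_option autoImplicit false
set_option linter.unusedSectionVars false
set_option linter.unusedSimpArgs false
set_option linter.unusedVariables false

/-! An automorphism permuting the fundamental root subgroups (and their negatives) is the product
of a diagonal, a graph and a field automorphism. -/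

namespace Cfsg.Agent.Helper11.AutSt

open Cfsg.Lie Cfsg.Agent.Helper6 Cfsg.Agent.Helper11.ChevGen Cfsg.Agent.Helper11.AutStab
  Cfsg.Agent.Helper11.AutAct Cfsg.Agent.Helper11.AutTriple Cfsg.Agent.Helper11.AutComp
  Cfsg.Agent.Helper11.AutDiag

variable {D : ChevalleyDatum} {F : Type*} [Field F]

namespace PermBy

variable {hS : SimpOK D} {θ : ↥(D.group F) ≃* ↥(D.group F)}
  {ρ : Equiv.Perm (Fin D.rank)} {f g : Fin D.rank → F → F}

/-- the shape of the parameter maps -/
theorem shape [Finite F] (hD : IsTabulated D) (p : ℕ) [Fact p.Prime] [CharP F p]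
    (h : PermBy (basicOK_of_tabulated hD) hS θ ρ f g) :
    ∃ σ' : F ≃+* F, ∀ (i : Fin D.rank) (t : F),
      f i t = f i 1 * σ' t ^ D.graphExp p i (ρ i) ∧
      g i t = (f i 1)⁻¹ * σ' t ^ D.graphExp p i (ρ i) := by
  have hp : p.Prime := Fact.out
  have hρ := h.isSym hD
  have hc : ∀ i, f i 1 ≠ 0 := fun i => h.f_ne_zero i one_ne_zero
  obtain ⟨σ', hσ'⟩ := exists_sigma p hD ρ hρ (fun i t => f i t / f i 1)
    (fun i t u => by simp only [h.f_add, add_div])
    (fun i => div_self (hc i))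
    (fun i t u htu => h.f_inj i (by
      simp only at htu
      exact (div_left_inj' (hc i)).1 htu))
    (fun i j t ht u => by
      show f j _ / f j 1 = _
      rw [h.fun_eq hD i j ht u, mul_div_assoc])
  have hf : ∀ (i : Fin D.rank) (t : F), f i t = f i 1 * σ' t ^ D.graphExp p i (ρ i) := by
    intro i t
    have : f i t / f i 1 = σ' t ^ D.graphExp p i (ρ i) := hσ' i t
    rw [← this, mul_div_cancel₀ _ (hc i)]
  refine ⟨σ', fun i t => ⟨hf i t, ?_⟩⟩
  have hepos : 0 < D.graphExp p i (ρ i) := by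
    rcases graphExp_cases (D := D) p i (ρ i) with he | he <;> rw [he]
    · exact hp.pos
    · exact Nat.one_pos
  have hneg1 : (-1 : F) ^ D.graphExp p i (ρ i) = -1 := by
    rcases graphExp_cases (D := D) p i (ρ i) with he | he <;> rw [he]
    · exact neg_one_pow_char F p
    · exact pow_one _
  by_cases ht : t = 0
  · rw [ht, h.g_zero, map_zero, zero_pow hepos.ne', mul_zero]
  · have hs : -t⁻¹ ≠ 0 := neg_ne_zero.2 (inv_ne_zero ht)
    have e1 := h.g_eq hD i hs
    have e2 : -(-t⁻¹)⁻¹ = t := by rw [inv_neg, inv_inv, neg_neg]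
    rw [e2, hf i (-t⁻¹), map_neg, map_inv₀] at e1
    rw [e1]
    have hx : σ' t ≠ 0 := (map_ne_zero σ').2 ht
    have e3 : (-(σ' t)⁻¹) ^ D.graphExp p i (ρ i) = -((σ' t) ^ D.graphExp p i (ρ i))⁻¹ := by
      rw [neg_eq_neg_one_mul, mul_pow, hneg1, inv_pow]
      ring
    rw [e3]
    have hx' : σ' t ^ D.graphExp p i (ρ i) ≠ 0 := pow_ne_zero _ hx
    field_simp

/-- the decomposition -/
theorem decomp [Finite F] (hD : IsTabulated D) (p : ℕ) [Fact p.Prime] [CharP F p]
    (h : PermBy (basicOK_of_tabulated hD) hS θ ρ f g) :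
    ∃ d gg ff : ↥(D.group F) ≃* ↥(D.group F), D.IsDiagonalAut d ∧ D.IsGraphAut gg ∧
      D.IsFieldAut ff ∧ ∀ y : ↥(D.group F), θ y = d (gg (ff y)) := by
  have hB := basicOK_of_tabulated hD
  have hρ := h.isSym hD
  have hc : ∀ i, f i 1 ≠ 0 := fun i => h.f_ne_zero i one_ne_zero
  obtain ⟨σ', hsh⟩ := h.shape hD p
  obtain ⟨χ, hχ, hχc⟩ := AutChar.exists_rootCharacter hD (F := F)
    (fun k => if hk : k < D.rank then Units.mk0 (f (ρ.symm ⟨k, hk⟩) 1) (hc _) else 1)
  have hχ' : ∀ i : Fin D.rank, ((χ (D.simple (ρ i)) : Fˣ) : F) = f i 1 := by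
    intro i
    rw [hχc _ (ρ i).2, dif_pos (ρ i).2]
    simp only [Fin.eta, Equiv.symm_apply_apply, Units.val_mk0]
  obtain ⟨ff, hff⟩ := Cfsg.Agent.S1080.result (F := F) D hD σ'
  let d := dAut (F := F) hB χ hχ
  have hd : ∀ (r : ℕ) (hr : r < D.nroots) (u : F),
      d (ChevGen.mk hB r hr u) = ChevGen.mk hB r hr (((χ r : Fˣ) : F) * u) := by
    intro r hr u
    exact eq_mk hB hr (diag_act hD hχ (dAut_val hB χ hχ) hr u)
  have hdsymm : ∀ (r : ℕ) (hr : r < D.nroots) (u : F),
      d.symm (ChevGen.mk hB r hr u) = ChevGen.mk hB r hr ((((χ r)⁻¹ : Fˣ) : F) * u) := by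
    intro r hr u
    rw [MulEquiv.symm_apply_eq, hd]
    congr 1
    rw [← mul_assoc, ← Units.val_mul, mul_inv_cancel, Units.val_one, one_mul]
  have hffm : ∀ (r : ℕ) (hr : r < D.nroots) (u : F),
      ff (ChevGen.mk hB r hr u) = ChevGen.mk hB r hr (σ' u) := by
    intro r hr u
    exact eq_mk hB hr (hff _ r u hr (mk_val hB r hr u))
  have hffsymm : ∀ (r : ℕ) (hr : r < D.nroots) (u : F),
      ff.symm (ChevGen.mk hB r hr u) = ChevGen.mk hB r hr (σ'.symm u) := by
    intro r hr u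
    rw [MulEquiv.symm_apply_eq, hffm, RingEquiv.apply_symm_apply]
  refine ⟨d, (ff.symm.trans θ).trans d.symm, ff, isDiagonalAut_dAut hB χ hχ, ?_, ⟨σ', hff⟩, ?_⟩
  · rw [isGraphAut_iff p]
    refine ⟨ρ, hρ, ?_⟩
    intro y i t
    constructor
    · intro hy
      rw [eq_mk hB (hS.lt i i.2) hy]
      show (((d.symm (θ (ff.symm (ChevGen.mk hB (D.simple i) (hS.lt i i.2) t))) :
        ↥(D.group F)) : GL D.Idx F) : Matrix D.Idx D.Idx F) = _
      rw [hffsymm, h.pos, hdsymm, mk_val, (hsh i _).1, RingEquiv.apply_symm_apply]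
      congr 1
      rw [Units.val_inv_eq_inv_val, hχ' i, ← mul_assoc, inv_mul_cancel₀ (hc i), one_mul]
    · intro hy
      rw [eq_mk hB (hB.neg _ (hS.lt i i.2)).1 hy]
      show (((d.symm (θ (ff.symm (ChevGen.mk hB (D.neg (D.simple i))
        (hB.neg _ (hS.lt i i.2)).1 t))) : ↥(D.group F)) : GL D.Idx F) :
          Matrix D.Idx D.Idx F) = _
      rw [hffsymm, h.neg, hdsymm, mk_val, (hsh i _).2, RingEquiv.apply_symm_apply,
        hχ.1 _ (hS.lt _ (ρ i).2), inv_inv]
      congr 1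
      rw [hχ' i, ← mul_assoc, mul_inv_cancel₀ (hc i), one_mul]
  · intro y
    show θ y = d (d.symm (θ (ff.symm (ff y))))
    rw [MulEquiv.symm_apply_apply, MulEquiv.apply_symm_apply]

end PermBy

end Cfsg.Agent.Helper11.AutSt
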