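import Mathlib
import Cfsg.Prelude.Def_ChevAutomorphisms
import Cfsg.Agent.Helper11.AutComp

set_option autoImplicit false
set_option linter.unusedSectionVars false
set_option linter.unusedSimpArgs false
set_option linter.unusedVariables false

/-! Symmetries of the Dynkin diagrams of the tabulated data, and the graph automorphisms attached
to the trivial symmetry. -/

namespace Cfsg.Agent.Helper11.AutSym

open Cfsg.Lie Cfsg.Agent.Helper6 Cfsg.Agent.Helper11.ChevGen Cfsg.Agent.Helper11.AutStab
  Cfsg.Agent.Helper11.AutAct Cfsg.Agent.Helper11.AutTriple Cfsg.Agent.Helper11.AutComp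

/-- one step of colour refinement on the diagram -/
def refineL (D : ChevalleyDatum) (f : Fin D.rank → ℕ) : Fin D.rank → ℕ := fun i =>
  ((List.finRange D.rank).map fun j => if (j ≠ i ∧ D.bonds i j ≠ 0) then f j else 0).sum

/-- iterated colour refinement -/
def invL (D : ChevalleyDatum) : ℕ → Fin D.rank → ℕ
  | 0 => fun _ => 1
  | k + 1 => refineL D (invL D k)

theorem refineL_inv {D : ChevalleyDatum} {π : Equiv.Perm (Fin D.rank)}
    (hπ : D.IsDiagramSymmetry π) {f : Fin D.rank → ℕ} (hf : ∀ i, f (π i) = f i) (i : Fin D.rank) :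
    refineL D f (π i) = refineL D f i := by
  unfold refineL
  rw [← Fin.sum_univ_def, ← Fin.sum_univ_def, ← Equiv.sum_comp π]
  apply Finset.sum_congr rfl
  intro k _
  by_cases hk : k = i
  · subst hk
    simp
  · have h1 : π k ≠ π i := fun h => hk (π.injective h)
    have h2 : D.bonds (π i) (π k) = D.bonds i k := hπ i k (Ne.symm hk)
    simp only [h1, hk, ne_eq, not_false_eq_true, true_and, h2, hf]

theorem invL_inv {D : ChevalleyDatum} {π : Equiv.Perm (Fin D.rank)}
    (hπ : D.IsDiagramSymmetry π) : ∀ (k : ℕ) (i : Fin D.rank), invL D k (π i) = invL D k i := by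
  intro k
  induction k with
  | zero => intro i; rfl
  | succ k ih => intro i; exact refineL_inv hπ ih i

theorem injE8 : ∀ i j : Fin chevE8.rank, invL chevE8 3 i = invL chevE8 3 j → i = j := by
  decide +kernel

theorem injE7 : ∀ i j : Fin chevE7.rank, invL chevE7 3 i = invL chevE7 3 j →
    invL chevE7 4 i = invL chevE7 4 j → i = j := by decide +kernel

theorem symE8 (π : Equiv.Perm (Fin chevE8.rank)) (hπ : chevE8.IsDiagramSymmetry π) : π = 1 := by
  apply Equiv.ext
  intro i
  exact injE8 _ _ (invL_inv hπ 3 i)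

theorem symE7 (π : Equiv.Perm (Fin chevE7.rank)) (hπ : chevE7.IsDiagramSymmetry π) : π = 1 := by
  apply Equiv.ext
  intro i
  exact injE7 _ _ (invL_inv hπ 3 i) (invL_inv hπ 4 i)

/-- an involutive permutation of the nodes given by a list -/
def permOfList (D : ChevalleyDatum) (L : List ℕ) (h : ∀ i < D.rank, L.getD i 0 < D.rank)
    (h2 : ∀ i < D.rank, L.getD (L.getD i 0) 0 = i) : Equiv.Perm (Fin D.rank) where
  toFun i := ⟨L.getD i 0, h i i.2⟩
  invFun i := ⟨L.getD i 0, h i i.2⟩
  left_inv i := Fin.ext (h2 i i.2)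
  right_inv i := Fin.ext (h2 i i.2)

/-- the non-trivial symmetry of the diagram of type `E₆` -/
def flipE6 : Equiv.Perm (Fin chevE6.rank) :=
  permOfList chevE6 [5, 1, 4, 3, 2, 0] (by decide) (by decide)

/-- the non-trivial symmetry of the diagram of type `F₄` -/
def flipF4 : Equiv.Perm (Fin chevF4.rank) :=
  permOfList chevF4 [3, 2, 1, 0] (by decide) (by decide)

/-- the non-trivial symmetry of the diagram of type `G₂` -/
def flipG2 : Equiv.Perm (Fin chevG2.rank) :=
  permOfList chevG2 [1, 0] (by decide) (by decide)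

instance (D : ChevalleyDatum) (π : Equiv.Perm (Fin D.rank)) : Decidable (D.IsDiagramSymmetry π) := by
  unfold ChevalleyDatum.IsDiagramSymmetry; infer_instance

set_option maxRecDepth 100000 in
theorem symE6 : ∀ π : Equiv.Perm (Fin chevE6.rank), chevE6.IsDiagramSymmetry π →
    π = 1 ∨ π = flipE6 := by decide +kernel

set_option maxRecDepth 100000 in
theorem symF4 : ∀ π : Equiv.Perm (Fin chevF4.rank), chevF4.IsDiagramSymmetry π →
    π = 1 ∨ π = flipF4 := by decide +kernel

set_option maxRecDepth 100000 in
theorem symG2 : ∀ π : Equiv.Perm (Fin chevG2.rank), chevG2.IsDiagramSymmetry π →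
    π = 1 ∨ π = flipG2 := by decide +kernel

theorem isSym_one (D : ChevalleyDatum) : D.IsDiagramSymmetry 1 := fun _ _ _ => rfl

theorem isSym_flipE6 : chevE6.IsDiagramSymmetry flipE6 := by decide +kernel
theorem isSym_flipF4 : chevF4.IsDiagramSymmetry flipF4 := by decide +kernel
theorem isSym_flipG2 : chevG2.IsDiagramSymmetry flipG2 := by decide +kernel

variable {D : ChevalleyDatum} {F : Type*} [Field F]

theorem graphExp_self (p i : ℕ) : D.graphExp p i i = 1 := by
  unfold ChevalleyDatum.graphExp
  simp

/-- the identity is the graph automorphism of the trivial symmetry -/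
theorem graphWith_refl (p : ℕ) : GraphWith p (MulEquiv.refl ↥(D.group F)) 1 := by
  intro y i t
  simp only [Equiv.Perm.coe_one, id_eq, graphExp_self, pow_one, MulEquiv.refl_apply]
  exact ⟨id, id⟩

/-- a graph automorphism of the trivial symmetry is the identity -/
theorem eq_refl_of_graphWith_one (hD : IsTabulated D) {p : ℕ} {g : ↥(D.group F) ≃* ↥(D.group F)}
    (hg : GraphWith p g 1) : g = MulEquiv.refl _ := by
  apply ext_fund hD
  rintro y ⟨i, t, hy | hy⟩
  · have := (hg y i t).1 hy
    simp only [Equiv.Perm.coe_one, id_eq, graphExp_self, pow_one] at this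
    apply Subtype.ext
    apply Units.ext
    rw [this, MulEquiv.refl_apply, hy]
  · have := (hg y i t).2 hy
    simp only [Equiv.Perm.coe_one, id_eq, graphExp_self, pow_one] at this
    apply Subtype.ext
    apply Units.ext
    rw [this, MulEquiv.refl_apply, hy]

/-- two graph automorphisms for the same symmetry coincide -/
theorem graphWith_unique (hD : IsTabulated D) {p : ℕ} {g g' : ↥(D.group F) ≃* ↥(D.group F)}
    {π : Equiv.Perm (Fin D.rank)} (hg : GraphWith p g π) (hg' : GraphWith p g' π) : g = g' := by
  apply ext_fund hD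
  rintro y ⟨i, t, hy | hy⟩
  · apply Subtype.ext
    apply Units.ext
    rw [(hg y i t).1 hy, (hg' y i t).1 hy]
  · apply Subtype.ext
    apply Units.ext
    rw [(hg y i t).2 hy, (hg' y i t).2 hy]

end Cfsg.Agent.Helper11.AutSym
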