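import Mathlib
import Cfsg.Agent.Helper11.AutSym
import Cfsg.Agent.Helper11.ChevGraph
import Cfsg.Agent.Helper6.Chev.TablesComm

set_option autoImplicit false
set_option linter.unusedSectionVars false
set_option linter.unusedSimpArgs false
set_option linter.unusedVariables false

/-! Images of root elements under a graph automorphism, and the obstruction to a length-changing
graph automorphism coming from a commutator relation. -/

namespace Cfsg.Agent.Helper11.AutImg

open Cfsg.Lie Cfsg.Agent.Helper6 Cfsg.Agent.Helper11.ChevGen Cfsg.Agent.Helper11.AutStab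
  Cfsg.Agent.Helper11.AutAct Cfsg.Agent.Helper11.AutTriple Cfsg.Agent.Helper11.AutComp
  Cfsg.Agent.Helper11.ChevGraph

variable {D : ChevalleyDatum} {F : Type*} [Field F]

/-- `g` maps `x_s(u)` to `x_{s'}(ε u^e)` for a sign `ε` -/
def ImgS (hB : BasicOK D) (g : ↥(D.group F) ≃* ↥(D.group F)) (s s' e : ℕ) : Prop :=
  s' < D.nroots ∧ ∃ (hs : s < D.nroots) (ε : F), (ε = 1 ∨ ε = -1) ∧
    ∀ u : F, ((g (mk hB s hs u) : GL D.Idx F) : Matrix D.Idx D.Idx F) = D.x F s' (ε * u ^ e)

theorem imgS_simple (hD : IsTabulated D) (hS : SimpOK D) {p : ℕ} {g : ↥(D.group F) ≃* ↥(D.group F)}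
    {π : Equiv.Perm (Fin D.rank)} (hg : GraphWith p g π) (i : Fin D.rank) :
    ImgS (basicOK_of_tabulated hD) g (D.simple i) (D.simple (π i)) (D.graphExp p i (π i)) := by
  refine ⟨hS.lt _ (π i).2, hS.lt _ i.2, 1, Or.inl rfl, fun u => ?_⟩
  rw [one_mul]
  exact (hg _ i u).1 rfl

theorem map_nS (hD : IsTabulated D) (p : ℕ) [Fact p.Prime] [CharP F p]
    {g : ↥(D.group F) ≃* ↥(D.group F)} {π : Equiv.Perm (Fin D.rank)} (hg : GraphWith p g π)
    (i : Fin D.rank) :
    g (nS (F := F) (basicOK_of_tabulated hD) (simpleAll_of_tabulated hD i.2)) =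
      nS (basicOK_of_tabulated hD) (simpleAll_of_tabulated hD (π i).2) := by
  have hB := basicOK_of_tabulated hD
  have hA : ∀ i < D.rank, SimpleAll D i := fun i hi => simpleAll_of_tabulated hD hi
  have hpow : (-(1 : F)⁻¹) ^ D.graphExp p i (π i) = -(1 : F)⁻¹ := by
    rw [inv_one]
    rcases graphExp_cases (D := D) p i (π i) with he | he
    · rw [he]; exact neg_one_pow_char F p
    · rw [he, pow_one]
  unfold nS
  rw [map_mul, map_mul]
  have h1 : g (mk hB (D.simple i) (hA i i.2).hS.1 (1 : F)) =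
      mk hB (D.simple (π i)) (hA (π i) (π i).2).hS.1 (1 : F) := by
    apply Subtype.ext
    apply Units.ext
    rw [(hg _ i 1).1 rfl, one_pow]
    rfl
  have h2 : g (mk hB (D.neg (D.simple i)) (hB.neg _ (hA i i.2).hS.1).1 (-(1 : F)⁻¹)) =
      mk hB (D.neg (D.simple (π i))) (hB.neg _ (hA (π i) (π i).2).hS.1).1 (-(1 : F)⁻¹) := by
    apply Subtype.ext
    apply Units.ext
    rw [(hg _ i _).2 rfl, hpow]
    rfl
  rw [h1, h2]

theorem imgS_step (hD : IsTabulated D) (p : ℕ) [Fact p.Prime] [CharP F p]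
    {g : ↥(D.group F) ≃* ↥(D.group F)} {π : Equiv.Perm (Fin D.rank)} (hg : GraphWith p g π)
    (i : Fin D.rank) {s s' e : ℕ} (h : ImgS (basicOK_of_tabulated hD) g s s' e) :
    ImgS (basicOK_of_tabulated hD) g (wR D (D.simple i) s) (wR D (D.simple (π i)) s') e := by
  have hB := basicOK_of_tabulated hD
  have hA : ∀ i < D.rank, SimpleAll D i := fun i hi => simpleAll_of_tabulated hD hi
  obtain ⟨hs', hs, ε, hε, himg⟩ := h
  have hw : wR D (D.simple i) s < D.nroots := wR_lt hB (hA i i.2).hS.1 (hA i i.2).hR hs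
  have hw' : wR D (D.simple (π i)) s' < D.nroots :=
    wR_lt hB (hA _ (π i).2).hS.1 (hA _ (π i).2).hR hs'
  set η : F := ((etaR D (D.simple i) s : ℤ) : F) with hη
  set η' : F := ((etaR D (D.simple (π i)) s' : ℤ) : F) with hη'
  have hη1 : η = 1 ∨ η = -1 := eta_sq (F := F) hA i.2 hs
  have hη'1 : η' = 1 ∨ η' = -1 := eta_sq (F := F) hA (π i).2 hs'
  have hηe : η ^ e = 1 ∨ η ^ e = -1 := by
    rcases hη1 with h1 | h1
    · left; rw [h1, one_pow]
    · rw [h1]; exact neg_one_pow_eq_or F e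
  refine ⟨hw', hw, η' * ε * η ^ e, ?_, fun u => ?_⟩
  · rcases hη'1 with h1 | h1 <;> rcases hε with h2 | h2 <;> rcases hηe with h3 | h3 <;>
      rw [h1, h2, h3] <;> simp
  · have hηη : η * (η * u) = u := by
      rcases hη1 with h3 | h3 <;> rw [h3] <;> simp
    have h1 := conj_mk (F := F) hB (hA i i.2) hs (η * u)
    have h2 : mk hB (wR D (D.simple i) s) hw u =
        nS hB (hA i i.2) * mk hB s hs (η * u) * (nS (F := F) hB (hA i i.2))⁻¹ := by
      rw [h1]
      apply Subtype.ext
      apply Units.ext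
      show D.x F _ u = D.x F _ (η * (η * u))
      rw [hηη]
    have h3 : g (mk hB s hs (η * u)) = mk hB s' hs' (ε * (η * u) ^ e) :=
      eq_mk hB hs' (himg (η * u))
    rw [h2, map_mul, map_mul, map_inv, map_nS hD p hg i, h3,
      conj_mk (F := F) hB (hA _ (π i).2) hs']
    show D.x F _ _ = D.x F _ _
    congr 1
    rw [mul_pow]
    ring

/-- the obstruction: if `[x_r, x_s]` is a single root element with coefficient `C` while the
images of `x_r` and `x_s` commute, then `C = 0` in the field -/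
theorem coeff_eq_zero (hD : IsTabulated D) {g : ↥(D.group F) ≃* ↥(D.group F)}
    {r s r' s' e e' q : ℕ} {C : ℤ}
    (h1 : ImgS (basicOK_of_tabulated hD) g r r' e) (h2 : ImgS (basicOK_of_tabulated hD) g s s' e')
    (hsr : s ≠ r) (hsnr : s ≠ D.neg r) (hq : q < D.nroots)
    (hT : D.commTerms r s = [(q, C, 1, 1)])
    (hsr' : s' ≠ r') (hsnr' : s' ≠ D.neg r') (hT' : D.commTerms r' s' = []) :
    ((C : ℤ) : F) = 0 := by
  have hB := basicOK_of_tabulated hD
  obtain ⟨hr', hr, ε₁, hε₁, himg1⟩ := h1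
  obtain ⟨hs', hs, ε₂, hε₂, himg2⟩ := h2
  have hc := commF_of_tabulated (F := F) hD hr hs hsr hsnr
  have hc' := commF_of_tabulated (F := F) hD hr' hs' hsr' hsnr'
  -- the relation among the sources
  have e1 : mk hB s hs (1 : F) * mk hB r hr (1 : F) =
      mk hB r hr 1 * mk hB s hs 1 * mk hB q hq (((C : ℤ) : F) * (-1) ^ 1 * 1 ^ 1) := by
    apply Subtype.ext
    apply Units.ext
    have := hc 1 1
    simp only [ChevalleyDatum.commWord, hT, List.map_cons, List.map_nil,
      ChevalleyDatum.wordMat, List.prod_cons, List.prod_nil, mul_one] at this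
    simp only [Subgroup.coe_mul, Units.val_mul]
    exact this
  -- the images commute
  have e2 : g (mk hB s hs (1 : F)) * g (mk hB r hr (1 : F)) =
      g (mk hB r hr 1) * g (mk hB s hs 1) := by
    rw [eq_mk hB hr' (himg1 1), eq_mk hB hs' (himg2 1)]
    apply Subtype.ext
    apply Units.ext
    have := hc' (ε₁ * 1 ^ e) (ε₂ * 1 ^ e')
    simp only [ChevalleyDatum.commWord, hT', List.map_nil, ChevalleyDatum.wordMat,
      List.prod_nil, mul_one] at this
    simp only [Subgroup.coe_mul, Units.val_mul]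
    exact this
  have e3 := congrArg g e1
  rw [map_mul, map_mul, map_mul, e2] at e3
  have e4 : g (mk hB q hq (((C : ℤ) : F) * (-1) ^ 1 * 1 ^ 1)) = 1 := by
    have := mul_left_cancel (a := g (mk hB r hr 1) * g (mk hB s hs 1)) (b := 1)
      (c := g (mk hB q hq (((C : ℤ) : F) * (-1) ^ 1 * 1 ^ 1))) (by rw [mul_one]; exact e3)
    exact this.symm
  have e5 : mk hB q hq (((C : ℤ) : F) * (-1) ^ 1 * 1 ^ 1) = 1 := by
    rw [← map_one g] at e4
    exact g.injective e4
  have e6 : xU hB q (((C : ℤ) : F) * (-1) ^ 1 * 1 ^ 1) = 1 := congrArg Subtype.val e5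
  have := Cfsg.Agent.Helper2.Stb.eq_zero_of_xU_eq_one hB hq e6
  simpa using this

end Cfsg.Agent.Helper11.AutImg
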