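import Mathlib
import Cfsg.Agent.Helper11.AutCount2
import Cfsg.Agent.Helper11.AutSym
import Cfsg.Agent.S1035

set_option autoImplicit false
set_option linter.unusedSectionVars false
set_option linter.unusedSimpArgs false
set_option linter.unusedVariables false

/-! Outer automorphism groups of `E₇(q)` and `E₈(q)`, given Steinberg's theorem. -/

namespace Cfsg.Agent.Helper11.AutOut

open Cfsg.Lie Cfsg.Agent.Helper6 Cfsg.Agent.Helper11.ChevGen Cfsg.Agent.Helper11.AutStab
  Cfsg.Agent.Helper11.AutAct Cfsg.Agent.Helper11.AutTriple Cfsg.Agent.Helper11.AutComp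
  Cfsg.Agent.Helper11.AutCount Cfsg.Agent.Helper11.AutSym Cfsg.Agent.Helper11.AutField

variable {D : ChevalleyDatum} {F : Type*} [Field F]

/-- when the diagram has no symmetry, graph automorphisms are trivial -/
theorem stab_graph_of_rigid (hD : IsTabulated D) (p : ℕ) [CharP F p]
    (hsym : ∀ π : Equiv.Perm (Fin D.rank), D.IsDiagramSymmetry π → π = 1)
    (g : ↥(D.group F) ≃* ↥(D.group F)) (hg : D.IsGraphAut g) : Stab g := by
  obtain ⟨π, hπ, hg'⟩ := (isGraphAut_iff p g).1 hg
  rw [hsym π hπ] at hg'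
  rw [eq_refl_of_graphWith_one hD hg']
  exact Stab.refl

theorem realised_of_rigid (p : ℕ)
    (hsym : ∀ π : Equiv.Perm (Fin D.rank), D.IsDiagramSymmetry π → π = 1) :
    realised D F p = {1} := by
  ext π
  constructor
  · rintro ⟨hπ, -⟩
    exact hsym π hπ
  · rintro rfl
    exact ⟨isSym_one D, MulEquiv.refl _, graphWith_refl p⟩

/-- the order of `Out` for a rigid diagram -/
theorem card_out_rigid [Fintype F] (hD : IsTabulated D) (p : ℕ) [Fact p.Prime] [CharP F p]
    (hst : Steinberg D F)
    (hsym : ∀ π : Equiv.Perm (Fin D.rank), D.IsDiagramSymmetry π → π = 1) :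
    Nat.card (Cfsg.Out ↥(D.group F)) * Nat.card (D.diagonalSubgroup F) =
      (Fintype.card F - 1) ^ D.rank * Nat.card (F ≃+* F) := by
  have h := card_out hD p hst (stab_graph_of_rigid hD p hsym)
  rw [realised_of_rigid p hsym] at h
  simpa using h

theorem card_out_E8 [Fintype F] (p f : ℕ) [Fact p.Prime] [CharP F p]
    (hF : Fintype.card F = p ^ f) (hst : Steinberg chevE8 F) :
    Nat.card (Cfsg.Out ↥(chevE8.group F)) = f := by
  have hD : IsTabulated chevE8 := by simp [IsTabulated]
  have h := card_out_rigid hD p hst symE8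
  have h2 := Cfsg.Agent.S1035.result (F := F) rfl (chevE8, 1) (by simp)
  simp only [one_mul] at h2
  rw [card_ringAut hF, h2] at h
  have hpos : 0 < (Fintype.card F - 1) ^ chevE8.rank := by
    rw [← h2]
    exact Nat.card_pos
  rw [mul_comm] at h
  exact Nat.eq_of_mul_eq_mul_left hpos h

theorem card_out_E7 [Fintype F] (p f : ℕ) [Fact p.Prime] [CharP F p]
    (hF : Fintype.card F = p ^ f) (hst : Steinberg chevE7 F) :
    Nat.card (Cfsg.Out ↥(chevE7.group F)) = Nat.gcd 2 (p ^ f - 1) * f := by
  have hD : IsTabulated chevE7 := by simp [IsTabulated]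
  have h := card_out_rigid hD p hst symE7
  have h2 := Cfsg.Agent.S1035.result (F := F) rfl (chevE7, Nat.gcd 2 (Fintype.card F - 1)) (by simp)
  simp only at h2
  rw [card_ringAut hF, ← h2, hF] at h
  have hpos : 0 < Nat.card (chevE7.diagonalSubgroup F) := Nat.card_pos
  have h' : Nat.card (chevE7.diagonalSubgroup F) * Nat.card (Cfsg.Out ↥(chevE7.group F)) =
      Nat.card (chevE7.diagonalSubgroup F) * (Nat.gcd 2 (p ^ f - 1) * f) := by
    rw [mul_comm, h]; ring
  exact Nat.eq_of_mul_eq_mul_left hpos h'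

end Cfsg.Agent.Helper11.AutOut
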