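import Mathlib
import Cfsg.Agent.Helper2.Stb.Graph

set_option autoImplicit false
set_option linter.unusedSectionVars false
set_option linter.unusedVariables false

/-! The twisted automorphism `x_r(t) ↦ x_{ρ r}(t^{p^m λ_r})` of a Chevalley group of type `B₂`,
`F₄` (characteristic 2) or `G₂` (characteristic 3) over a finite field: the graph automorphism
composed with a power of the Frobenius field automorphism. -/

namespace Cfsg.Agent.Helper11.TwSigGen

open Cfsg.Lie Cfsg.Agent.Helper6 Cfsg.Agent.Helper2.Stb

variable {D : ChevalleyDatum} {K : Type*} [Field K]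

theorem perf_of_finite (p : ℕ) [Fact p.Prime] [CharP K p] [Finite K] (x : K) :
    ∃ y : K, y ^ p = x := by
  have hinj : Function.Injective (frobenius K p) := frobenius_inj K p
  obtain ⟨y, hy⟩ := (Finite.injective_iff_surjective.1 hinj) x
  exact ⟨y, by rw [← frobenius_def]; exact hy⟩

/-- the field automorphism `t ↦ t ^ p ^ m` of a finite field -/
noncomputable def frobPow (K : Type*) [Field K] (p : ℕ) [Fact p.Prime] [CharP K p] [Finite K]
    (m : ℕ) : K ≃+* K :=
  RingEquiv.ofBijective (iterateFrobenius K p m)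
    (Finite.injective_iff_bijective.1 (iterateFrobenius_inj K p m))

theorem frobPow_apply (p : ℕ) [Fact p.Prime] [CharP K p] [Finite K] (m : ℕ) (t : K) :
    frobPow K p m t = t ^ p ^ m := by
  unfold frobPow
  rw [RingEquiv.ofBijective_apply, iterateFrobenius_def]

/-- the twisted automorphism on all the root elements -/
theorem exists_sigma (p : ℕ) [Fact p.Prime] [CharP K p] [Finite K] (hD : IsTabulated D)
    (hDm : D ∈ [chevG2, chevB2, chevD4, chevF4, chevE6, chevE7, chevE8])
    {rho lam : ℕ → ℕ} (hG : GraphOK D p rho lam) (m : ℕ) :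
    ∃ σ : ↥(D.group K) ≃* ↥(D.group K), ∀ r < D.nroots, ∀ t : K,
      σ (gX (basicOK_of_tabulated hD) K r t) =
        gX (basicOK_of_tabulated hD) K (rho r) (t ^ (p ^ m * lam r)) := by
  have hB := basicOK_of_tabulated hD
  obtain ⟨α, hα⟩ := exists_graph_aut (K := K) p hD hG (perf_of_finite (K := K) p)
  obtain ⟨β, hβ⟩ := Cfsg.Agent.S1080.result D hDm (frobPow K p m)
  refine ⟨β.trans α, ?_⟩
  intro r hr t
  have e : β (gX hB K r t) = gX hB K r (t ^ p ^ m) := by
    apply Subtype.ext
    apply Units.ext
    rw [hβ (gX hB K r t) r t hr (by rw [gX_val, xU_val]), gX_val, xU_val, frobPow_apply]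
  rw [MulEquiv.trans_apply, e, hα r hr, ← pow_mul]

end Cfsg.Agent.Helper11.TwSigGen
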