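import Mathlib
import Cfsg.Agent.Helper11.AutImg
import Cfsg.Agent.Helper11.AutCount2
import Cfsg.Agent.Helper11.TwSigGen
import Cfsg.Agent.Helper2.Stb.Graph

set_option autoImplicit false
set_option linter.unusedSectionVars false
set_option linter.unusedSimpArgs false
set_option linter.unusedVariables false

/-! Graph automorphisms of the groups of type `F₄` and `G₂`: the length-changing symmetry is
realised exactly in characteristic 2, respectively 3. -/

namespace Cfsg.Agent.Helper11.AutOut

open Cfsg.Lie Cfsg.Agent.Helper6 Cfsg.Agent.Helper11.ChevGen Cfsg.Agent.Helper11.AutStab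
  Cfsg.Agent.Helper11.AutAct Cfsg.Agent.Helper11.AutTriple Cfsg.Agent.Helper11.AutComp
  Cfsg.Agent.Helper11.AutCount Cfsg.Agent.Helper11.AutSym Cfsg.Agent.Helper11.AutImg
  Cfsg.Agent.Helper2.Stb

/-- table facts for the explicit length-changing graph automorphism -/
def excChk (D : ChevalleyDatum) (flip : Equiv.Perm (Fin D.rank)) (p₀ : ℕ) : Bool :=
  ((List.finRange D.rank).all fun i =>
    decide (rhoG D (D.simple i) = D.simple (flip i)) &&
    decide (lamG D (D.simple i) = D.graphExp p₀ i (flip i)) &&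
    decide (rhoG D (D.neg (D.simple i)) = D.neg (D.simple (flip i))) &&
    decide (lamG D (D.neg (D.simple i)) = D.graphExp p₀ i (flip i))) &&
  allLt D.nroots fun r => Nat.blt (rhoG D r) D.nroots &&
    (Nat.ble (D.nroots / 2) (rhoG D r) == Nat.ble (D.nroots / 2) r)

theorem excChk_F4 : excChk chevF4 flipF4 2 = true := by decide +kernel
theorem excChk_G2 : excChk chevG2 flipG2 3 = true := by decide +kernel

variable {D : ChevalleyDatum} {F : Type*} [Field F]

theorem excChk_spec {flip : Equiv.Perm (Fin D.rank)} {p₀ : ℕ} (h : excChk D flip p₀ = true) :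
    (∀ i : Fin D.rank, rhoG D (D.simple i) = D.simple (flip i) ∧
      lamG D (D.simple i) = D.graphExp p₀ i (flip i) ∧
      rhoG D (D.neg (D.simple i)) = D.neg (D.simple (flip i)) ∧
      lamG D (D.neg (D.simple i)) = D.graphExp p₀ i (flip i)) ∧
    ∀ r < D.nroots, rhoG D r < D.nroots ∧ (D.nroots / 2 ≤ rhoG D r ↔ D.nroots / 2 ≤ r) := by
  simp only [excChk, Bool.and_eq_true, List.all_eq_true, List.mem_finRange, true_implies,
    decide_eq_true_eq, allLt_iff, Nat.blt_eq, beq_iff_eq] at h
  refine ⟨fun i => ⟨(h.1 i).1.1.1, (h.1 i).1.1.2, (h.1 i).1.2, (h.1 i).2⟩, fun r hr => ?_⟩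
  refine ⟨(h.2 r hr).1, ?_⟩
  have := (h.2 r hr).2
  rw [← Nat.ble_eq, ← Nat.ble_eq, this]

/-- the explicit automorphism is the graph automorphism of the flip and stabilises `U`, `V` -/
theorem graphWith_of_table [Finite F] (hD : IsTabulated D) {flip : Equiv.Perm (Fin D.rank)}
    {p₀ : ℕ} (h : excChk D flip p₀ = true) {α : ↥(D.group F) ≃* ↥(D.group F)}
    (hα : ∀ r < D.nroots, ∀ t : F,
      ((α (gX (basicOK_of_tabulated hD) F r t) : GL D.Idx F) : Matrix D.Idx D.Idx F) =
        D.x F (rhoG D r) (t ^ lamG D r)) :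
    GraphWith p₀ α flip ∧ Stab α := by
  have hB := basicOK_of_tabulated hD
  have hS := simpOK_of_tabulated hD
  obtain ⟨T1, T2⟩ := excChk_spec h
  have hsign := sign_iff_of_tabulated hD
  constructor
  · intro y i t
    constructor
    · intro hy
      exact graph_aut_apply hD hα y (hS.lt _ i.2) (T1 i).1 (T1 i).2.1 t hy
    · intro hy
      exact graph_aut_apply hD hα y (hB.neg _ (hS.lt _ i.2)).1 (T1 i).2.2.1 (T1 i).2.2.2 t hy
  · apply stab_of_gen hD
    · intro r hr hN t
      apply Subgroup.subset_closure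
      refine ⟨rhoG D r, t ^ lamG D r, ((hsign _ (T2 r hr).1).1).2 ((T2 r hr).2.2 hN), ?_⟩
      exact graph_aut_apply hD hα _ hr rfl rfl t (mk_val hB r hr t)
    · intro r hr hN t
      apply Subgroup.subset_closure
      refine ⟨rhoG D r, t ^ lamG D r, ((hsign _ (T2 r hr).1).2).2 ?_, ?_⟩
      · by_contra hcon
        have := (T2 r hr).2.1 (by omega)
        omega
      · exact graph_aut_apply hD hα _ hr rfl rfl t (mk_val hB r hr t)

/-- if the non-trivial symmetry is realised by an automorphism stabilising `U`, `V`, then both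
symmetries are realised and all graph automorphisms stabilise `U`, `V` -/
theorem exc_good_of (hD : IsTabulated D) {flip : Equiv.Perm (Fin D.rank)} (p₀ : ℕ)
    [CharP F p₀] (hflip : D.IsDiagramSymmetry flip)
    (hsym : ∀ π : Equiv.Perm (Fin D.rank), D.IsDiagramSymmetry π → π = 1 ∨ π = flip)
    {α : ↥(D.group F) ≃* ↥(D.group F)} (hgw : GraphWith p₀ α flip) (hst : Stab α) :
    realised D F p₀ = {1, flip} ∧
      ∀ g : ↥(D.group F) ≃* ↥(D.group F), D.IsGraphAut g → Stab g := by
  constructor
  · ext π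
    constructor
    · rintro ⟨hπ, -⟩
      rcases hsym π hπ with rfl | rfl
      · exact Or.inl rfl
      · exact Or.inr rfl
    · rintro (rfl | rfl)
      · exact ⟨isSym_one D, MulEquiv.refl _, graphWith_refl p₀⟩
      · exact ⟨hflip, α, hgw⟩
  · intro g hg
    obtain ⟨π, hπ, hg'⟩ := (isGraphAut_iff p₀ g).1 hg
    rcases hsym π hπ with rfl | rfl
    · rw [eq_refl_of_graphWith_one hD hg']
      exact Stab.refl
    · rw [graphWith_unique hD hg' hgw]
      exact hst

/-- in the good characteristic both symmetries are realised and all graph automorphisms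
stabilise `U`, `V` -/
theorem exc_good [Finite F] (hD : IsTabulated D) {flip : Equiv.Perm (Fin D.rank)} {p₀ : ℕ}
    [CharP F p₀] (h : excChk D flip p₀ = true) (hflip : D.IsDiagramSymmetry flip)
    (hsym : ∀ π : Equiv.Perm (Fin D.rank), D.IsDiagramSymmetry π → π = 1 ∨ π = flip)
    {α : ↥(D.group F) ≃* ↥(D.group F)}
    (hα : ∀ r < D.nroots, ∀ t : F,
      ((α (gX (basicOK_of_tabulated hD) F r t) : GL D.Idx F) : Matrix D.Idx D.Idx F) =
        D.x F (rhoG D r) (t ^ lamG D r)) :
    realised D F p₀ = {1, flip} ∧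
      ∀ g : ↥(D.group F) ≃* ↥(D.group F), D.IsGraphAut g → Stab g := by
  obtain ⟨hgw, hst⟩ := graphWith_of_table hD h hα
  exact exc_good_of hD p₀ hflip hsym hgw hst

/-- in the other characteristics only the trivial symmetry is realised -/
theorem exc_bad (hD : IsTabulated D) {flip : Equiv.Perm (Fin D.rank)} (p : ℕ) [CharP F p]
    (hsym : ∀ π : Equiv.Perm (Fin D.rank), D.IsDiagramSymmetry π → π = 1 ∨ π = flip)
    (hno : ∀ g : ↥(D.group F) ≃* ↥(D.group F), ¬ GraphWith p g flip) :
    realised D F p = {1} ∧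
      ∀ g : ↥(D.group F) ≃* ↥(D.group F), D.IsGraphAut g → Stab g := by
  constructor
  · ext π
    constructor
    · rintro ⟨hπ, g, hg⟩
      rcases hsym π hπ with rfl | rfl
      · rfl
      · exact absurd hg (hno g)
    · rintro rfl
      exact ⟨isSym_one D, MulEquiv.refl _, graphWith_refl p⟩
  · intro g hg
    obtain ⟨π, hπ, hg'⟩ := (isGraphAut_iff p g).1 hg
    rcases hsym π hπ with rfl | rfl
    · rw [eq_refl_of_graphWith_one hD hg']
      exact Stab.refl
    · exact absurd hg' (hno g)

end Cfsg.Agent.Helper11.AutOut
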