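import Mathlib
import Cfsg.Agent.Helper11.ChevGen

/-!
# Graph automorphisms of the tabulated Chevalley groups as conjugation by signed permutation matrices

For a datum `D`, maps `ρ` (on nodes), `σ` (on roots) and signs `ε` (on roots), `pMat` is the matrix
`h_i ↦ h_{ρ i}`, `e_s ↦ ε_s e_{σ s}`.  Under the table conditions `GraphOK`, one has
`pMat * x_p(t) = x_{σ p}(t) * pMat` for `p` or `-p` fundamental (`pMat_mul_x`).  With inverse data
(`InvOK`), `pMat` is invertible and conjugation by it is an automorphism of the Chevalley group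
(`graphAut`).
-/

set_option autoImplicit false

namespace Cfsg.Agent.Helper11.ChevGraphAut

open Cfsg.Lie Cfsg.Agent.Helper6

variable {D : ChevalleyDatum} {F : Type*} [Field F]

/-- the matrix `h_i ↦ h_{ρ i}`, `e_s ↦ ε_s e_{σ s}` -/
def pMat (D : ChevalleyDatum) (F : Type*) [Field F] (ρ σ : ℕ → ℕ) (ε : ℕ → ℤ) :
    Matrix D.Idx D.Idx F :=
  Matrix.of fun row col =>
    match col with
    | Sum.inl i => hv D F (ρ i.val) row
    | Sum.inr s => ((ε s.val : ℤ) : F) * ev D F (σ s.val) row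

theorem pMat_mulVec_hv (ρ σ : ℕ → ℕ) (ε : ℕ → ℤ) {i : ℕ} (hi : i < D.rank) :
    (pMat D F ρ σ ε).mulVec (hv D F i) = hv D F (ρ i) := by
  rw [mulVec_hv _ hi]
  funext row
  simp [pMat]

theorem pMat_mulVec_ev (ρ σ : ℕ → ℕ) (ε : ℕ → ℤ) {s : ℕ} (hs : s < D.nroots) :
    (pMat D F ρ σ ε).mulVec (ev D F s) = ((ε s : ℤ) : F) • ev D F (σ s) := by
  rw [mulVec_ev _ hs]
  funext row
  simp [pMat]

/-- the conditions at the root `p` (meant for `p` or `-p` fundamental) -/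
def RootOK (D : ChevalleyDatum) (ρ σ : ℕ → ℕ) (ε : ℕ → ℤ) (p : ℕ) : Prop :=
  ε p = 1 ∧ ε (D.neg p) = 1 ∧ σ (D.neg p) = D.neg (σ p) ∧
  (∀ i < D.rank, D.cartan (ρ i) (σ p) = D.cartan i p) ∧
  (∀ i < D.rank, corootC D (σ p) (ρ i) = corootC D p i) ∧
  (∀ s < D.nroots, s = p ∨ s = D.neg p ∨
    (σ s ≠ σ p ∧ σ s ≠ D.neg (σ p) ∧
    D.chainEntry (σ p) (σ s) = (D.chainEntry p s).map fun q => (σ q.1, q.2 * ε q.1 * ε s)))

instance (D : ChevalleyDatum) (ρ σ : ℕ → ℕ) (ε : ℕ → ℤ) (p : ℕ) : Decidable (RootOK D ρ σ ε p) := by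
  unfold RootOK; infer_instance

/-- the table conditions making `pMat` intertwine the fundamental root elements -/
def GraphOK (D : ChevalleyDatum) (ρ ρ' σ : ℕ → ℕ) (ε : ℕ → ℤ) : Prop :=
  (∀ i < D.rank, ρ i < D.rank ∧ ρ' i < D.rank ∧ ρ' (ρ i) = i ∧ ρ (ρ' i) = i) ∧
  (∀ s < D.nroots, σ s < D.nroots ∧ (ε s = 1 ∨ ε s = -1)) ∧
  (∀ i < D.rank, σ (D.simple i) = D.simple (ρ i) ∧
    RootOK D ρ σ ε (D.simple i) ∧ RootOK D ρ σ ε (D.neg (D.simple i)))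

instance (D : ChevalleyDatum) (ρ ρ' σ : ℕ → ℕ) (ε : ℕ → ℤ) : Decidable (GraphOK D ρ ρ' σ ε) := by
  unfold GraphOK; infer_instance

theorem chainVec_map_mul (t : F) (f : ℕ → ℕ) (c : ℤ) (k : ℕ) (L : List (ℕ × ℤ)) (g : ℕ → ℤ) :
    chainVec D F t k (L.map fun q => (f q.1, q.2 * g q.1 * c)) =
      ((c : ℤ) : F) • chainVec D F t k (L.map fun q => (f q.1, q.2 * g q.1)) := by
  induction L generalizing k with
  | nil => simp [chainVec]
  | cons q L ih =>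
    simp only [List.map_cons, chainVec, smul_add, ih (k + 1), smul_smul]
    congr 2
    push_cast
    ring

theorem pMat_mulVec_chainVec (ρ σ : ℕ → ℕ) (ε : ℕ → ℤ) (t : F) (k : ℕ) (L : List (ℕ × ℤ))
    (hL : ∀ q ∈ L, q.1 < D.nroots) :
    (pMat D F ρ σ ε).mulVec (chainVec D F t k L) =
      chainVec D F t k (L.map fun q => (σ q.1, q.2 * ε q.1)) := by
  induction L generalizing k with
  | nil => simp [chainVec]
  | cons q L ih =>
    simp only [List.map_cons, chainVec, Matrix.mulVec_add, Matrix.mulVec_smul]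
    rw [ih (k + 1) (fun x hx => hL x (List.mem_cons_of_mem _ hx)),
      pMat_mulVec_ev ρ σ ε (hL q List.mem_cons_self), smul_smul]
    congr 2
    push_cast
    ring

theorem pMat_mulVec_hr {ρ ρ' σ : ℕ → ℕ} {ε : ℕ → ℤ}
    (hρ : ∀ i < D.rank, ρ i < D.rank ∧ ρ' i < D.rank ∧ ρ' (ρ i) = i ∧ ρ (ρ' i) = i) {p : ℕ}
    (hco : ∀ i < D.rank, corootC D (σ p) (ρ i) = corootC D p i) :
    (pMat D F ρ σ ε).mulVec (hr D F p) = hr D F (σ p) := by
  unfold hr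
  rw [Matrix.mulVec_sum]
  have h1 : ∀ i ∈ Finset.range D.rank,
      (pMat D F ρ σ ε).mulVec (((corootC D p i : ℤ) : F) • hv D F i) =
        ((corootC D (σ p) (ρ i) : ℤ) : F) • hv D F (ρ i) := by
    intro i hi
    rw [Matrix.mulVec_smul, pMat_mulVec_hv ρ σ ε (Finset.mem_range.1 hi),
      hco i (Finset.mem_range.1 hi)]
  rw [Finset.sum_congr rfl h1]
  exact Finset.sum_nbij' ρ ρ'
    (fun i hi => Finset.mem_range.2 (hρ i (Finset.mem_range.1 hi)).1)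
    (fun i hi => Finset.mem_range.2 (hρ i (Finset.mem_range.1 hi)).2.1)
    (fun i hi => (hρ i (Finset.mem_range.1 hi)).2.2.1)
    (fun i hi => (hρ i (Finset.mem_range.1 hi)).2.2.2)
    (fun i _ => rfl)

/-- `P x_p(t) = x_{σ p}(t) P` -/
theorem pMat_mul_x (hB : BasicOK D) {ρ ρ' σ : ℕ → ℕ} {ε : ℕ → ℤ}
    (hρ : ∀ i < D.rank, ρ i < D.rank ∧ ρ' i < D.rank ∧ ρ' (ρ i) = i ∧ ρ (ρ' i) = i)
    (hσ : ∀ s < D.nroots, σ s < D.nroots ∧ (ε s = 1 ∨ ε s = -1))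
    {p : ℕ} (hp : p < D.nroots) (hR : RootOK D ρ σ ε p) (t : F) :
    pMat D F ρ σ ε * D.x F p t = D.x F (σ p) t * pMat D F ρ σ ε := by
  obtain ⟨he1, he2, hneg, hca, hco, hch⟩ := hR
  have hσp := (hσ p hp).1
  have hnp := (hB.neg p hp).1
  apply matrix_ext_basis
  · intro j hj
    rw [← Matrix.mulVec_mulVec, ← Matrix.mulVec_mulVec, x_mulVec_hv hB hp t hj,
      pMat_mulVec_hv ρ σ ε hj, Matrix.mulVec_sub, Matrix.mulVec_smul, pMat_mulVec_hv ρ σ ε hj,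
      pMat_mulVec_ev ρ σ ε hp, x_mulVec_hv hB hσp t (hρ j hj).1, hca j hj, he1]
    simp
  · intro u hu
    rw [← Matrix.mulVec_mulVec, ← Matrix.mulVec_mulVec, pMat_mulVec_ev ρ σ ε hu,
      Matrix.mulVec_smul]
    by_cases h1 : u = p
    · subst h1
      rw [x_mulVec_ev_self hB hu, x_mulVec_ev_self hB hσp, pMat_mulVec_ev ρ σ ε hu]
    · by_cases h2 : u = D.neg p
      · subst h2
        rw [x_mulVec_ev_neg hB hp, hneg, x_mulVec_ev_neg hB hσp, Matrix.mulVec_sub,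
          Matrix.mulVec_add, Matrix.mulVec_smul, Matrix.mulVec_smul,
          pMat_mulVec_ev ρ σ ε hu, pMat_mulVec_ev ρ σ ε hp, pMat_mulVec_hr hρ hco, hneg, he1, he2]
        simp
      · obtain ⟨h3, h4, h5⟩ := (hch u hu).resolve_left h1 |>.resolve_left h2
        have hm : MemOK D p u := ⟨hu, h1, h2⟩
        have hm' : MemOK D (σ p) (σ u) := ⟨(hσ u hu).1, h3, h4⟩
        rw [x_of_lt hp, x_mulVec_ev' hB.keys ⟨p, hp⟩ t hm, x_of_lt hσp,
          x_mulVec_ev' hB.keys ⟨_, hσp⟩ t hm', Matrix.mulVec_add, pMat_mulVec_ev ρ σ ε hu,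
          smul_add]
        congr 1
        have hmem : ∀ q ∈ D.chainEntry p u, q.1 < D.nroots := fun q hq =>
          (chainRel_mem (chainRel_chainEntry hB.chain hp u) q hq).1
        show (pMat D F ρ σ ε).mulVec (chainVec D F t 0 (D.chainEntry p u)) = _
        rw [pMat_mulVec_chainVec ρ σ ε t 0 _ hmem, h5, chainVec_map_mul, smul_smul]
        have hsq : ((ε u : ℤ) : F) * ((ε u : ℤ) : F) = 1 := by
          rcases (hσ u hu).2 with h | h <;> rw [h] <;> simp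
        rw [hsq, one_smul]

/-- inverse data -/
def InvOK (D : ChevalleyDatum) (σ σ' : ℕ → ℕ) (ε ε' : ℕ → ℤ) : Prop :=
  ∀ s < D.nroots, σ s < D.nroots ∧ σ' s < D.nroots ∧ σ' (σ s) = s ∧ σ (σ' s) = s ∧
    ε s * ε' (σ s) = 1 ∧ ε' s * ε (σ' s) = 1

instance (D : ChevalleyDatum) (σ σ' : ℕ → ℕ) (ε ε' : ℕ → ℤ) : Decidable (InvOK D σ σ' ε ε') := by
  unfold InvOK; infer_instance

theorem InvOK.symm {σ σ' : ℕ → ℕ} {ε ε' : ℕ → ℤ} (h : InvOK D σ σ' ε ε') : InvOK D σ' σ ε' ε :=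
  fun s hs => ⟨(h s hs).2.1, (h s hs).1, (h s hs).2.2.2.1, (h s hs).2.2.1, (h s hs).2.2.2.2.2,
    (h s hs).2.2.2.2.1⟩

theorem pMat_mul_pMat {ρ ρ' σ σ' : ℕ → ℕ} {ε ε' : ℕ → ℤ}
    (hρ : ∀ i < D.rank, ρ i < D.rank ∧ ρ' i < D.rank ∧ ρ' (ρ i) = i ∧ ρ (ρ' i) = i)
    (hI : InvOK D σ σ' ε ε') : pMat D F ρ σ ε * pMat D F ρ' σ' ε' = 1 := by
  apply matrix_ext_basis
  · intro j hj
    rw [← Matrix.mulVec_mulVec, pMat_mulVec_hv ρ' σ' ε' hj, pMat_mulVec_hv ρ σ ε (hρ j hj).2.1,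
      (hρ j hj).2.2.2, Matrix.one_mulVec]
  · intro s hs
    obtain ⟨_, h2, _, h4, _, h6⟩ := hI s hs
    rw [← Matrix.mulVec_mulVec, pMat_mulVec_ev ρ' σ' ε' hs, Matrix.mulVec_smul,
      pMat_mulVec_ev ρ σ ε h2, h4, Matrix.one_mulVec, smul_smul]
    have := congrArg (Int.cast : ℤ → F) h6
    push_cast at this
    rw [this, one_smul]

theorem rho_symm {ρ ρ' : ℕ → ℕ}
    (hρ : ∀ i < D.rank, ρ i < D.rank ∧ ρ' i < D.rank ∧ ρ' (ρ i) = i ∧ ρ (ρ' i) = i) :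
    ∀ i < D.rank, ρ' i < D.rank ∧ ρ i < D.rank ∧ ρ (ρ' i) = i ∧ ρ' (ρ i) = i :=
  fun i hi => ⟨(hρ i hi).2.1, (hρ i hi).1, (hρ i hi).2.2.2, (hρ i hi).2.2.1⟩

/-- the signed permutation matrix as a unit -/
def pU {ρ ρ' σ σ' : ℕ → ℕ} {ε ε' : ℕ → ℤ}
    (hρ : ∀ i < D.rank, ρ i < D.rank ∧ ρ' i < D.rank ∧ ρ' (ρ i) = i ∧ ρ (ρ' i) = i)
    (hI : InvOK D σ σ' ε ε') : GL D.Idx F :=
  ⟨pMat D F ρ σ ε, pMat D F ρ' σ' ε', pMat_mul_pMat hρ hI, pMat_mul_pMat (rho_symm hρ) hI.symm⟩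

theorem pU_conj_xU (hB : BasicOK D) {ρ ρ' σ σ' : ℕ → ℕ} {ε ε' : ℕ → ℤ}
    (hρ : ∀ i < D.rank, ρ i < D.rank ∧ ρ' i < D.rank ∧ ρ' (ρ i) = i ∧ ρ (ρ' i) = i)
    (hI : InvOK D σ σ' ε ε')
    (hσ : ∀ s < D.nroots, σ s < D.nroots ∧ (ε s = 1 ∨ ε s = -1))
    {p : ℕ} (hp : p < D.nroots) (hR : RootOK D ρ σ ε p) (t : F) :
    pU (F := F) hρ hI * xU hB p t * (pU (F := F) hρ hI)⁻¹ = xU hB (σ p) t := by
  rw [mul_inv_eq_iff_eq_mul]
  apply Units.ext
  simp only [Units.val_mul, xU_val]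
  exact pMat_mul_x hB hρ hσ hp hR t

/-- conjugation by `pU` preserves the Chevalley group -/
theorem pU_conj_mem (hD : IsTabulated D) {ρ ρ' σ σ' : ℕ → ℕ} {ε ε' : ℕ → ℤ}
    (hG : GraphOK D ρ ρ' σ ε) (hI : InvOK D σ σ' ε ε') {g : GL D.Idx F} (hg : g ∈ D.group F) :
    pU (F := F) hG.1 hI * g * (pU (F := F) hG.1 hI)⁻¹ ∈ D.group F := by
  have hB := basicOK_of_tabulated hD
  have hA : ∀ i < D.rank, SimpleAll D i := fun i hi => simpleAll_of_tabulated hD hi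
  have hmem : (⟨g, hg⟩ : ↥(D.group F)) ∈ Subgroup.closure (ChevGen.fundSet D F) := by
    rw [ChevGen.closure_fundSet hD]; trivial
  have key : ∀ y : ↥(D.group F), y ∈ Subgroup.closure (ChevGen.fundSet D F) →
      pU (F := F) hG.1 hI * (y : GL D.Idx F) * (pU (F := F) hG.1 hI)⁻¹ ∈ D.group F := by
    intro y hy
    induction hy using Subgroup.closure_induction with
    | mem y hy =>
      obtain ⟨i, t, h | h⟩ := hy
      · have hp : D.simple i < D.nroots := (hA i i.isLt).hS.1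
        have : (y : GL D.Idx F) = xU hB (D.simple i) t := Units.ext (by rw [h, xU_val])
        rw [this, pU_conj_xU hB hG.1 hI hG.2.1 hp (hG.2.2 i i.isLt).2.1 t]
        exact xU_mem_group hB (hG.2.1 _ hp).1 t
      · have hp : D.simple i < D.nroots := (hA i i.isLt).hS.1
        have hnp : D.neg (D.simple i) < D.nroots := (hB.neg _ hp).1
        have : (y : GL D.Idx F) = xU hB (D.neg (D.simple i)) t := Units.ext (by rw [h, xU_val])
        rw [this, pU_conj_xU hB hG.1 hI hG.2.1 hnp (hG.2.2 i i.isLt).2.2 t]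
        exact xU_mem_group hB (hG.2.1 _ hnp).1 t
    | one => simp [Subgroup.one_mem]
    | mul a b _ _ iha ihb =>
      have : pU (F := F) hG.1 hI * ((a * b : ↥(D.group F)) : GL D.Idx F) * (pU (F := F) hG.1 hI)⁻¹ =
          (pU (F := F) hG.1 hI * (a : GL D.Idx F) * (pU (F := F) hG.1 hI)⁻¹) *
          (pU (F := F) hG.1 hI * (b : GL D.Idx F) * (pU (F := F) hG.1 hI)⁻¹) := by
        rw [Subgroup.coe_mul]; group
      rw [this]
      exact Subgroup.mul_mem _ iha ihb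
    | inv a _ iha =>
      have : pU (F := F) hG.1 hI * ((a⁻¹ : ↥(D.group F)) : GL D.Idx F) * (pU (F := F) hG.1 hI)⁻¹ =
          (pU (F := F) hG.1 hI * (a : GL D.Idx F) * (pU (F := F) hG.1 hI)⁻¹)⁻¹ := by
        rw [Subgroup.coe_inv]; group
      rw [this]
      exact Subgroup.inv_mem _ iha
  exact key ⟨g, hg⟩ hmem

theorem pU_inv {ρ ρ' σ σ' : ℕ → ℕ} {ε ε' : ℕ → ℤ}
    (hρ : ∀ i < D.rank, ρ i < D.rank ∧ ρ' i < D.rank ∧ ρ' (ρ i) = i ∧ ρ (ρ' i) = i)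
    (hI : InvOK D σ σ' ε ε') :
    (pU (F := F) hρ hI)⁻¹ = pU (F := F) (rho_symm hρ) hI.symm := rfl

/-- the graph automorphism: conjugation by the signed permutation matrix -/
def graphAut (hD : IsTabulated D) {ρ ρ' σ σ' : ℕ → ℕ} {ε ε' : ℕ → ℤ}
    (hG : GraphOK D ρ ρ' σ ε) (hG' : GraphOK D ρ' ρ σ' ε') (hI : InvOK D σ σ' ε ε') :
    ↥(D.group F) ≃* ↥(D.group F) where
  toFun g := ⟨pU (F := F) hG.1 hI * g * (pU (F := F) hG.1 hI)⁻¹, pU_conj_mem hD hG hI g.2⟩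
  invFun g := ⟨(pU (F := F) hG.1 hI)⁻¹ * g * pU (F := F) hG.1 hI, by
    have := pU_conj_mem (F := F) hD hG' hI.symm g.2
    have h1 : pU (F := F) hG'.1 hI.symm = (pU (F := F) hG.1 hI)⁻¹ := rfl
    rw [h1, inv_inv] at this
    exact this⟩
  left_inv g := by
    apply Subtype.ext
    simp only
    group
  right_inv g := by
    apply Subtype.ext
    simp only
    group
  map_mul' a b := by
    apply Subtype.ext
    simp only [Subgroup.coe_mul]
    group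

theorem graphAut_apply (hD : IsTabulated D) {ρ ρ' σ σ' : ℕ → ℕ} {ε ε' : ℕ → ℤ}
    (hG : GraphOK D ρ ρ' σ ε) (hG' : GraphOK D ρ' ρ σ' ε') (hI : InvOK D σ σ' ε ε')
    (g : ↥(D.group F)) :
    ((graphAut (F := F) hD hG hG' hI g : ↥(D.group F)) : GL D.Idx F) =
      pU (F := F) hG.1 hI * g * (pU (F := F) hG.1 hI)⁻¹ := rfl

/-- the graph automorphism on the fundamental root elements and their negatives -/
theorem graphAut_spec (hD : IsTabulated D) {ρ ρ' σ σ' : ℕ → ℕ} {ε ε' : ℕ → ℤ}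
    (hG : GraphOK D ρ ρ' σ ε) (hG' : GraphOK D ρ' ρ σ' ε') (hI : InvOK D σ σ' ε ε')
    (g : ↥(D.group F)) (i : ℕ) (t : F) (hi : i < D.rank) :
    (((g : GL D.Idx F) : Matrix D.Idx D.Idx F) = D.x F (D.simple i) t →
      ((graphAut (F := F) hD hG hG' hI g : GL D.Idx F) : Matrix D.Idx D.Idx F) =
        D.x F (D.simple (ρ i)) t) ∧
    (((g : GL D.Idx F) : Matrix D.Idx D.Idx F) = D.x F (D.neg (D.simple i)) t →
      ((graphAut (F := F) hD hG hG' hI g : GL D.Idx F) : Matrix D.Idx D.Idx F) =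
        D.x F (D.neg (D.simple (ρ i))) t) := by
  have hB := basicOK_of_tabulated hD
  have hA : ∀ i < D.rank, SimpleAll D i := fun i hi => simpleAll_of_tabulated hD hi
  have hp : D.simple i < D.nroots := (hA i hi).hS.1
  have hnp : D.neg (D.simple i) < D.nroots := (hB.neg _ hp).1
  obtain ⟨hs, hR1, hR2⟩ := hG.2.2 i hi
  constructor
  · intro h
    have : (g : GL D.Idx F) = xU hB (D.simple i) t := Units.ext (by rw [h, xU_val])
    rw [graphAut_apply, this, pU_conj_xU hB hG.1 hI hG.2.1 hp hR1 t, xU_val, hs]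
  · intro h
    have : (g : GL D.Idx F) = xU hB (D.neg (D.simple i)) t := Units.ext (by rw [h, xU_val])
    rw [graphAut_apply, this, pU_conj_xU hB hG.1 hI hG.2.1 hnp hR2 t, xU_val, hR1.2.2.1, hs]

end Cfsg.Agent.Helper11.ChevGraphAut
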