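import Mathlib
import Cfsg.Agent.Helper11.ChevGraphAut

/-!
# Sign tables for the graph automorphisms of E₆ and D₄, with their kernel-checked certificates
-/

set_option autoImplicit false

namespace Cfsg.Agent.Helper11.ChevGraphAut

open Cfsg.Lie Cfsg.Agent.Helper6

def rho_E6 (i : ℕ) : ℕ := [5, 1, 4, 3, 2, 0].getD i 0
def sig_E6 (s : ℕ) : ℕ := [0, 1, 2, 5, 16, 3, 6, 17, 8, 19, 22, 11, 26, 30, 33, 35, 4, 7, 18, 9, 20, 23, 10, 21, 24, 25, 12, 27, 31, 34, 13, 28, 32, 14, 29, 15, 56, 42, 57, 39, 43, 58, 37, 40, 44, 59, 46, 47, 50, 61, 48, 51, 62, 53, 64, 67, 36, 38, 41, 45, 60, 49, 52, 63, 54, 65, 68, 55, 66, 69, 70, 71].getD s 0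
def eps_E6 (s : ℕ) : ℤ := [(1 : ℤ), 1, 1, 1, -1, 1, 1, -1, 1, -1, -1, 1, -1, 1, -1, 1, -1, -1, 1, -1, 1, 1, -1, 1, 1, 1, -1, 1, -1, 1, 1, -1, 1, -1, 1, 1, 1, 1, -1, 1, -1, 1, 1, -1, 1, -1, 1, 1, 1, -1, 1, 1, -1, 1, -1, -1, 1, -1, 1, -1, 1, -1, -1, 1, -1, 1, 1, -1, 1, 1, 1, 1].getD s 0

def rho_D4a (i : ℕ) : ℕ := [2, 1, 3, 0].getD i 0
def sig_D4a (s : ℕ) : ℕ := [0, 1, 6, 2, 7, 10, 3, 8, 4, 9, 11, 5, 18, 12, 14, 19, 15, 20, 13, 16, 21, 17, 22, 23].getD s 0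
def eps_D4a (s : ℕ) : ℤ := [(1 : ℤ), 1, -1, 1, -1, 1, -1, 1, -1, 1, 1, 1, 1, 1, 1, -1, 1, -1, 1, -1, 1, -1, 1, 1].getD s 0

def rho_D4b (i : ℕ) : ℕ := [3, 1, 0, 2].getD i 0
def sig_D4b (s : ℕ) : ℕ := [0, 1, 3, 6, 8, 11, 2, 4, 7, 9, 5, 10, 13, 18, 14, 16, 19, 21, 12, 15, 17, 20, 22, 23].getD s 0
def eps_D4b (s : ℕ) : ℤ := [(1 : ℤ), 1, 1, -1, -1, 1, -1, -1, 1, 1, 1, 1, 1, 1, 1, 1, -1, -1, 1, -1, -1, 1, 1, 1].getD s 0

set_option maxRecDepth 100000 in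
theorem graphOK_E6 : GraphOK chevE6 rho_E6 rho_E6 sig_E6 eps_E6 := by decide +kernel

set_option maxRecDepth 100000 in
theorem graphOK_D4a : GraphOK chevD4 rho_D4a rho_D4b sig_D4a eps_D4a := by decide +kernel

set_option maxRecDepth 100000 in
theorem graphOK_D4b : GraphOK chevD4 rho_D4b rho_D4a sig_D4b eps_D4b := by decide +kernel

set_option maxRecDepth 100000 in
theorem invOK_E6 : InvOK chevE6 sig_E6 sig_E6 eps_E6 eps_E6 := by decide +kernel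

set_option maxRecDepth 100000 in
theorem invOK_D4a : InvOK chevD4 sig_D4a sig_D4b eps_D4a eps_D4b := by decide +kernel

end Cfsg.Agent.Helper11.ChevGraphAut
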