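import Mathlib
import Cfsg.Agent.Helper11.AutOutX
import Cfsg.Agent.Helper11.AutOutE
import Cfsg.Agent.S1081

set_option autoImplicit false
set_option linter.unusedSectionVars false
set_option linter.unusedSimpArgs false
set_option linter.unusedVariables false

/-! Outer automorphism group of `E₆(q)`, given Steinberg's theorem. -/

namespace Cfsg.Agent.Helper11.AutOut

open Cfsg.Lie Cfsg.Agent.Helper6 Cfsg.Agent.Helper11.ChevGen Cfsg.Agent.Helper11.AutStab
  Cfsg.Agent.Helper11.AutAct Cfsg.Agent.Helper11.AutTriple Cfsg.Agent.Helper11.AutComp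
  Cfsg.Agent.Helper11.AutCount Cfsg.Agent.Helper11.AutSym Cfsg.Agent.Helper11.AutImg
  Cfsg.Agent.Helper11.AutField Cfsg.Agent.Helper11.ChevGraph

variable {F : Type*} [Field F]

theorem isTab_E6 : IsTabulated chevE6 := by simp [IsTabulated]

theorem notLong_E6 : ∀ i : Fin chevE6.rank, chevE6.isLong (chevE6.simple i) = false := by
  decide +kernel

theorem graphExp_E6 (p : ℕ) (i j : Fin chevE6.rank) : chevE6.graphExp p i j = 1 := by
  unfold ChevalleyDatum.graphExp
  rw [notLong_E6 j]
  simp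

/-- the symmetry preserves the sign of roots -/
def permChk (D : ChevalleyDatum) (π : Equiv.Perm (Fin D.rank)) : Bool :=
  allLt D.nroots fun r => Nat.blt (D.permRoot π r) D.nroots &&
    (Nat.ble (D.nroots / 2) (D.permRoot π r) == Nat.ble (D.nroots / 2) r)

theorem permChk_E6 : permChk chevE6 flipE6 = true := by decide +kernel

theorem permChk_spec {D : ChevalleyDatum} {π : Equiv.Perm (Fin D.rank)}
    (h : permChk D π = true) :
    ∀ r < D.nroots, D.permRoot π r < D.nroots ∧
      (D.nroots / 2 ≤ D.permRoot π r ↔ D.nroots / 2 ≤ r) := by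
  simp only [permChk, allLt_iff, Bool.and_eq_true, Nat.blt_eq, beq_iff_eq] at h
  intro r hr
  refine ⟨(h r hr).1, ?_⟩
  have := (h r hr).2
  rw [← Nat.ble_eq, ← Nat.ble_eq, this]

/-- the graph automorphism of `E₆` -/
theorem exists_flip_E6 [Finite F] (p : ℕ) :
    ∃ α : ↥(chevE6.group F) ≃* ↥(chevE6.group F), GraphWith p α flipE6 ∧ Stab α := by
  have hD := isTab_E6
  have hB := basicOK_of_tabulated hD
  have hsign := sign_iff_of_tabulated hD
  obtain ⟨α, hα⟩ := Cfsg.Agent.S1081.result (F := F) (chevE6, [5, 1, 4, 3, 2, 0]) (by simp)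
  have hα' : ∀ (g : ↥(chevE6.group F)) (i : Fin chevE6.rank) (t : F),
      (((g : GL chevE6.Idx F) : Matrix chevE6.Idx chevE6.Idx F) = chevE6.x F (chevE6.simple i) t →
        ((α g : GL chevE6.Idx F) : Matrix chevE6.Idx chevE6.Idx F) =
          chevE6.x F (chevE6.simple (flipE6 i)) t) ∧
      (((g : GL chevE6.Idx F) : Matrix chevE6.Idx chevE6.Idx F) =
          chevE6.x F (chevE6.neg (chevE6.simple i)) t →
        ((α g : GL chevE6.Idx F) : Matrix chevE6.Idx chevE6.Idx F) =
          chevE6.x F (chevE6.neg (chevE6.simple (flipE6 i))) t) :=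
    fun g i t => hα g i t i.2
  refine ⟨α, ?_, ?_⟩
  · intro y i t
    rw [graphExp_E6, pow_one]
    exact hα' y i t
  · have T := permChk_spec permChk_E6
    apply stab_of_gen hD
    · intro r hr hN t
      obtain ⟨ε, -, hε⟩ := ChevGraph.main (F := F) (D := chevE6) (by simp) flipE6 isSym_flipE6 α hα' r hr
      apply Subgroup.subset_closure
      refine ⟨chevE6.permRoot flipE6 r, ε * t, ((hsign _ (T r hr).1).1).2 ((T r hr).2.2 hN), ?_⟩
      exact hε _ t (mk_val hB r hr t)
    · intro r hr hN t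
      obtain ⟨ε, -, hε⟩ := ChevGraph.main (F := F) (D := chevE6) (by simp) flipE6 isSym_flipE6 α hα' r hr
      apply Subgroup.subset_closure
      refine ⟨chevE6.permRoot flipE6 r, ε * t, ((hsign _ (T r hr).1).2).2 ?_, ?_⟩
      · by_contra hcon
        have := (T r hr).2.1 (by omega)
        omega
      · exact hε _ t (mk_val hB r hr t)

theorem one_ne_flipE6 : (1 : Equiv.Perm (Fin chevE6.rank)) ≠ flipE6 := by decide

theorem card_out_E6 [Fintype F] (p f : ℕ) [Fact p.Prime] [CharP F p]
    (hF : Fintype.card F = p ^ f) (hst : Steinberg chevE6 F) :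
    Nat.card (Cfsg.Out ↥(chevE6.group F)) = 2 * Nat.gcd 3 (p ^ f - 1) * f := by
  have hD := isTab_E6
  obtain ⟨α, hgw, hsα⟩ := exists_flip_E6 (F := F) p
  obtain ⟨hre, hgs⟩ := exc_good_of (F := F) hD p isSym_flipE6 symE6 hgw hsα
  have h := card_out hD p hst hgs
  have h2 := Cfsg.Agent.S1035.result (F := F) rfl (chevE6, Nat.gcd 3 (Fintype.card F - 1)) (by simp)
  simp only at h2
  rw [card_ringAut hF, ← h2, hF, hre, Nat.card_coe_set_eq, Set.ncard_pair one_ne_flipE6] at h
  have hpos : 0 < Nat.card (chevE6.diagonalSubgroup F) := Nat.card_pos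
  have h' : Nat.card (chevE6.diagonalSubgroup F) * Nat.card (Cfsg.Out ↥(chevE6.group F)) =
      Nat.card (chevE6.diagonalSubgroup F) * (2 * Nat.gcd 3 (p ^ f - 1) * f) := by
    rw [mul_comm, h]; ring
  exact Nat.eq_of_mul_eq_mul_left hpos h'

end Cfsg.Agent.Helper11.AutOut
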