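import Mathlib
import Cfsg.Agent.Helper11.AutOutX
import Cfsg.Agent.Helper11.AutOutE

set_option autoImplicit false
set_option linter.unusedSectionVars false
set_option linter.unusedSimpArgs false
set_option linter.unusedVariables false

/-! Outer automorphism groups of `F₄(q)` and `G₂(q)`, given Steinberg's theorem. -/

namespace Cfsg.Agent.Helper11.AutOut

open Cfsg.Lie Cfsg.Agent.Helper6 Cfsg.Agent.Helper11.ChevGen Cfsg.Agent.Helper11.AutStab
  Cfsg.Agent.Helper11.AutAct Cfsg.Agent.Helper11.AutTriple Cfsg.Agent.Helper11.AutComp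
  Cfsg.Agent.Helper11.AutCount Cfsg.Agent.Helper11.AutSym Cfsg.Agent.Helper11.AutImg
  Cfsg.Agent.Helper11.AutField Cfsg.Agent.Helper2.Stb

variable {F : Type*} [Field F]

/-- no length-changing graph automorphism of `F₄` in odd characteristic -/
theorem no_flip_F4 (p : ℕ) [Fact p.Prime] [CharP F p] (hp : p ≠ 2)
    (g : ↥(chevF4.group F) ≃* ↥(chevF4.group F)) : ¬ GraphWith p g flipF4 := by
  intro hg
  have hD := isTab_F4
  have hS := simpOK_of_tabulated hD
  have h1 := imgS_simple (F := F) hD hS hg ⟨1, by decide⟩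
  have h2 := imgS_step (F := F) hD p hg ⟨2, by decide⟩ h1
  have e1 : chevF4.simple ((⟨1, by decide⟩ : Fin chevF4.rank) : ℕ) = 27 := by decide
  have e2 : chevF4.simple ((flipF4 ⟨1, by decide⟩ : Fin chevF4.rank) : ℕ) = 25 := by decide
  have e3 : wR chevF4 (chevF4.simple ((⟨2, by decide⟩ : Fin chevF4.rank) : ℕ))
      (chevF4.simple ((⟨1, by decide⟩ : Fin chevF4.rank) : ℕ)) = 28 := by decide
  have e4 : wR chevF4 (chevF4.simple ((flipF4 ⟨2, by decide⟩ : Fin chevF4.rank) : ℕ))
      (chevF4.simple ((flipF4 ⟨1, by decide⟩ : Fin chevF4.rank) : ℕ)) = 30 := by decide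
  rw [e1, e2] at h1
  rw [e3, e4] at h2
  have h0 := coeff_eq_zero (F := F) hD h1 h2 (q := 30) (C := 2) (by decide) (by decide) (by decide)
    (by decide +kernel) (by decide) (by decide) (by decide +kernel)
  have h3 : ((2 : ℕ) : F) = 0 := by
    have : ((2 : ℤ) : F) = ((2 : ℕ) : F) := by norm_num
    rw [← this]; exact h0
  have h4 := (CharP.cast_eq_zero_iff F p 2).1 h3
  exact hp ((Nat.prime_dvd_prime_iff_eq (Fact.out) Nat.prime_two).1 h4)

/-- no length-changing graph automorphism of `G₂` in characteristic other than 3 -/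
theorem no_flip_G2 (p : ℕ) [Fact p.Prime] [CharP F p] (hp : p ≠ 3)
    (g : ↥(chevG2.group F) ≃* ↥(chevG2.group F)) : ¬ GraphWith p g flipG2 := by
  intro hg
  have hD := isTab_G2
  have hS := simpOK_of_tabulated hD
  have h1 := imgS_simple (F := F) hD hS hg ⟨0, by decide⟩
  have h2 := imgS_step (F := F) hD p hg ⟨0, by decide⟩
    (imgS_step (F := F) hD p hg ⟨1, by decide⟩ h1)
  have e1 : chevG2.simple ((⟨0, by decide⟩ : Fin chevG2.rank) : ℕ) = 7 := by decide
  have e2 : chevG2.simple ((flipG2 ⟨0, by decide⟩ : Fin chevG2.rank) : ℕ) = 6 := by decide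
  have e3 : wR chevG2 (chevG2.simple ((⟨0, by decide⟩ : Fin chevG2.rank) : ℕ))
      (wR chevG2 (chevG2.simple ((⟨1, by decide⟩ : Fin chevG2.rank) : ℕ))
        (chevG2.simple ((⟨0, by decide⟩ : Fin chevG2.rank) : ℕ))) = 9 := by decide
  have e4 : wR chevG2 (chevG2.simple ((flipG2 ⟨0, by decide⟩ : Fin chevG2.rank) : ℕ))
      (wR chevG2 (chevG2.simple ((flipG2 ⟨1, by decide⟩ : Fin chevG2.rank) : ℕ))
        (chevG2.simple ((flipG2 ⟨0, by decide⟩ : Fin chevG2.rank) : ℕ))) = 11 := by decide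
  rw [e1, e2] at h1
  rw [e3, e4] at h2
  have h0 := coeff_eq_zero (F := F) hD h1 h2 (q := 10) (C := 3) (by decide) (by decide) (by decide)
    (by decide +kernel) (by decide) (by decide) (by decide +kernel)
  have h3 : ((3 : ℕ) : F) = 0 := by
    have : ((3 : ℤ) : F) = ((3 : ℕ) : F) := by norm_num
    rw [← this]; exact h0
  have h4 := (CharP.cast_eq_zero_iff F p 3).1 h3
  exact hp ((Nat.prime_dvd_prime_iff_eq (Fact.out) Nat.prime_three).1 h4)

theorem one_ne_flipF4 : (1 : Equiv.Perm (Fin chevF4.rank)) ≠ flipF4 := by decide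
theorem one_ne_flipG2 : (1 : Equiv.Perm (Fin chevG2.rank)) ≠ flipG2 := by decide

/-- cancelling the order of the diagonal subgroup for the types with `d = 1` -/
theorem card_out_of_d_one {D : ChevalleyDatum} [Fintype F] (hD : IsTabulated D)
    (p f : ℕ) [Fact p.Prime] [CharP F p] (hF : Fintype.card F = p ^ f)
    (hst : Steinberg D F) (hgs : ∀ g : ↥(D.group F) ≃* ↥(D.group F), D.IsGraphAut g → Stab g)
    (hH : Nat.card (D.diagonalSubgroup F) = (Fintype.card F - 1) ^ D.rank) :
    Nat.card (Cfsg.Out ↥(D.group F)) = Nat.card ↥(realised D F p) * f := by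
  have h := card_out hD p hst hgs
  rw [card_ringAut hF, hH] at h
  have hpos : 0 < (Fintype.card F - 1) ^ D.rank := by
    rw [← hH]
    exact Nat.card_pos
  have h' : (Fintype.card F - 1) ^ D.rank * Nat.card (Cfsg.Out ↥(D.group F)) =
      (Fintype.card F - 1) ^ D.rank * (Nat.card ↥(realised D F p) * f) := by
    rw [mul_comm, h]; ring
  exact Nat.eq_of_mul_eq_mul_left hpos h'

theorem card_out_F4 [Fintype F] (p f : ℕ) [Fact p.Prime] [CharP F p]
    (hF : Fintype.card F = p ^ f) (hst : Steinberg chevF4 F) :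
    Nat.card (Cfsg.Out ↥(chevF4.group F)) = Nat.gcd 2 p * f := by
  have hD := isTab_F4
  have h2 := Cfsg.Agent.S1035.result (F := F) rfl (chevF4, 1) (by simp)
  simp only [one_mul] at h2
  by_cases hp : p = 2
  · subst hp
    obtain ⟨α, hα⟩ := graph_aut_F4 (K := F) (Cfsg.Agent.Helper11.TwSigGen.perf_of_finite 2)
    obtain ⟨hre, hgs⟩ := exc_good (F := F) hD excChk_F4 isSym_flipF4 symF4 hα
    rw [card_out_of_d_one hD 2 f hF hst hgs h2, hre, Nat.card_coe_set_eq,
      Set.ncard_pair one_ne_flipF4, Nat.gcd_self]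
  · obtain ⟨hre, hgs⟩ := exc_bad (F := F) hD p symF4 (no_flip_F4 p hp)
    rw [card_out_of_d_one hD p f hF hst hgs h2, hre, Nat.card_coe_set_eq, Set.ncard_singleton]
    have : Nat.gcd 2 p = 1 := by
      rw [Nat.coprime_primes Nat.prime_two Fact.out |>.2 (Ne.symm hp)]
    rw [this]

theorem card_out_G2 [Fintype F] (p f : ℕ) [Fact p.Prime] [CharP F p]
    (hF : Fintype.card F = p ^ f) (hst : Steinberg chevG2 F) :
    Nat.card (Cfsg.Out ↥(chevG2.group F)) = if p = 3 then 2 * f else f := by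
  have hD := isTab_G2
  have h2 := Cfsg.Agent.S1035.result (F := F) rfl (chevG2, 1) (by simp)
  simp only [one_mul] at h2
  by_cases hp : p = 3
  · subst hp
    obtain ⟨α, hα⟩ := graph_aut_G2 (K := F) (Cfsg.Agent.Helper11.TwSigGen.perf_of_finite 3)
    obtain ⟨hre, hgs⟩ := exc_good (F := F) hD excChk_G2 isSym_flipG2 symG2 hα
    rw [card_out_of_d_one hD 3 f hF hst hgs h2, hre, Nat.card_coe_set_eq,
      Set.ncard_pair one_ne_flipG2, if_pos rfl]
  · obtain ⟨hre, hgs⟩ := exc_bad (F := F) hD p symG2 (no_flip_G2 p hp)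
    rw [card_out_of_d_one hD p f hF hst hgs h2, hre, Nat.card_coe_set_eq, Set.ncard_singleton,
      if_neg hp, one_mul]

end Cfsg.Agent.Helper11.AutOut
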