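import Mathlib
import Cfsg.Agent.Helper11.OrderP

/-!
# Groups in which the centralizer of every involution is an elementary abelian 2-group (part A)

Basic structure: Sylow 2-subgroups are elementary abelian, self-centralizing, TI; involutions fix
exactly one Sylow 2-subgroup under conjugation.
-/

set_option autoImplicit false
set_option linter.unusedSectionVars false

namespace Cfsg.Agent.Helper11.CIT

open Subgroup MulAction

variable {G : Type*} [Group G]

/-- the hypothesis: everything commuting with an involution squares to one -/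
def Hyp (G : Type*) [Group G] : Prop :=
  ∀ t c : G, orderOf t = 2 → Commute c t → c ^ 2 = 1

theorem sq_eq_one_of_orderOf {t : G} (ht : orderOf t = 2) : t ^ 2 = 1 := by
  rw [← ht]; exact pow_orderOf_eq_one t

theorem orderOf_eq_two_of_sq {t : G} (h : t ^ 2 = 1) (h1 : t ≠ 1) : orderOf t = 2 :=
  orderOf_eq_prime h h1

theorem inv_eq_self_of_sq {t : G} (h : t ^ 2 = 1) : t⁻¹ = t := by
  rw [inv_eq_iff_mul_eq_one, ← sq]; exact h

variable [Finite G]

/-- a nontrivial Sylow 2-subgroup has exponent 2 -/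
theorem sq_eq_one_of_mem (hG : Hyp G) (P : Sylow 2 G) (hP : (P : Subgroup G) ≠ ⊥)
    {x : G} (hx : x ∈ P) : x ^ 2 = 1 := by
  have hnt : Nontrivial ↥(P : Subgroup G) := (Subgroup.nontrivial_iff_ne_bot _).mpr hP
  have hc : Nontrivial ↥(center ↥(P : Subgroup G)) := P.2.center_nontrivial
  have h2 : 2 ∣ Nat.card ↥(center ↥(P : Subgroup G)) := by
    have hpg : IsPGroup 2 ↥(center ↥(P : Subgroup G)) := P.2.to_subgroup _
    obtain ⟨k, hk⟩ := IsPGroup.iff_card.mp hpg
    rw [hk]
    have hk0 : k ≠ 0 := by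
      rintro rfl
      rw [pow_zero] at hk
      have := Finite.one_lt_card (α := ↥(center ↥(P : Subgroup G)))
      omega
    exact dvd_pow_self 2 hk0
  obtain ⟨z, hz⟩ := exists_prime_orderOf_dvd_card' 2 h2
  have hz' : orderOf ((z : ↥(P : Subgroup G)) : G) = 2 := by
    rw [Subgroup.orderOf_coe, Subgroup.orderOf_coe]; exact hz
  refine hG _ x hz' ?_
  have hcz := (Subgroup.mem_center_iff.mp z.2) ⟨x, hx⟩
  have := congrArg (Subtype.val) hcz
  simpa [Commute, SemiconjBy] using this

/-- a nontrivial Sylow 2-subgroup is abelian -/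
theorem commute_of_mem (hG : Hyp G) (P : Sylow 2 G) (hP : (P : Subgroup G) ≠ ⊥)
    {x y : G} (hx : x ∈ P) (hy : y ∈ P) : Commute x y := by
  have h1 := sq_eq_one_of_mem hG P hP hx
  have h2 := sq_eq_one_of_mem hG P hP hy
  have h3 := sq_eq_one_of_mem hG P hP (mul_mem hx hy)
  have hx' := inv_eq_self_of_sq h1
  have hy' := inv_eq_self_of_sq h2
  have hxy' := inv_eq_self_of_sq h3
  show x * y = y * x
  calc x * y = (x * y)⁻¹ := hxy'.symm
    _ = y⁻¹ * x⁻¹ := mul_inv_rev x y
    _ = y * x := by rw [hx', hy']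

/-- the centralizer of an involution is a 2-group -/
theorem isPGroup_centralizer (hG : Hyp G) {t : G} (ht : orderOf t = 2) :
    IsPGroup 2 ↥(centralizer ({t} : Set G)) := by
  intro c
  refine ⟨1, ?_⟩
  have hc : Commute (c : G) t := by
    have := c.2
    rw [mem_centralizer_iff] at this
    exact (this t rfl).symm
  have := hG t c ht hc
  rw [pow_one]
  exact Subtype.ext this

/-- the centralizer of an involution `t ∈ P` is `P` -/
theorem centralizer_eq (hG : Hyp G) (P : Sylow 2 G) {t : G} (ht : orderOf t = 2) (htP : t ∈ P) :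
    centralizer ({t} : Set G) = P := by
  have hP : (P : Subgroup G) ≠ ⊥ := by
    intro h
    have : t ∈ (⊥ : Subgroup G) := h ▸ htP
    rw [mem_bot] at this
    rw [this, orderOf_one] at ht
    omega
  have hle : (P : Subgroup G) ≤ centralizer ({t} : Set G) := by
    intro x hx
    rw [mem_centralizer_iff]
    intro y hy
    rw [Set.mem_singleton_iff] at hy
    subst hy
    exact (commute_of_mem hG P hP htP hx)
  exact P.3 (isPGroup_centralizer hG ht) hle

/-- an involution normalizing a Sylow 2-subgroup lies in it -/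
theorem mem_of_mem_normalizer (P : Sylow 2 G) {s : G} (hs : orderOf s = 2)
    (h : s ∈ normalizer (P : Set G)) : s ∈ P := by
  have h1 : IsPGroup 2 ↥(zpowers s) := by
    refine IsPGroup.of_card (n := 1) ?_
    rw [Nat.card_zpowers, hs, pow_one]
  have h2 : zpowers s ≤ normalizer (P : Set G) := (zpowers_le).mpr h
  have h3 : IsPGroup 2 ↥(zpowers s ⊔ (P : Subgroup G)) := h1.to_sup_of_normal_right' P.2 h2
  have h4 : zpowers s ⊔ (P : Subgroup G) = P := P.3 h3 le_sup_right
  have : s ∈ zpowers s ⊔ (P : Subgroup G) := (le_sup_left : zpowers s ≤ _) (mem_zpowers s)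
  rw [h4] at this
  exact this

/-- an involution fixes `P` iff it lies in `P` -/
theorem smul_eq_iff (P : Sylow 2 G) {s : G} (hs : orderOf s = 2) : s • P = P ↔ s ∈ P := by
  rw [Sylow.smul_eq_iff_mem_normalizer]
  exact ⟨mem_of_mem_normalizer P hs, fun h => le_normalizer h⟩

/-- distinct Sylow 2-subgroups intersect trivially -/
theorem eq_of_mem_of_mem (hG : Hyp G) (P Q : Sylow 2 G) (hP : (P : Subgroup G) ≠ ⊥)
    {x : G} (hxP : x ∈ P) (hxQ : x ∈ Q) (hx1 : x ≠ 1) : P = Q := by
  have hx2 : orderOf x = 2 := orderOf_eq_two_of_sq (sq_eq_one_of_mem hG P hP hxP) hx1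
  have h1 := centralizer_eq hG P hx2 hxP
  have h2 := centralizer_eq hG Q hx2 hxQ
  exact Sylow.ext (h1.symm.trans h2)

/-- every involution lies in a Sylow 2-subgroup -/
theorem exists_sylow_mem {s : G} (hs : orderOf s = 2) : ∃ P : Sylow 2 G, s ∈ P := by
  have h1 : IsPGroup 2 ↥(zpowers s) := by
    refine IsPGroup.of_card (n := 1) ?_
    rw [Nat.card_zpowers, hs, pow_one]
  obtain ⟨P, hP⟩ := h1.exists_le_sylow
  exact ⟨P, hP (mem_zpowers s)⟩

/-- if an involution fixes two Sylow 2-subgroups they coincide -/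
theorem eq_of_smul_eq (hG : Hyp G) (P Q : Sylow 2 G) {s : G} (hs : orderOf s = 2)
    (hP : s • P = P) (hQ : s • Q = Q) : P = Q := by
  have h1 := (smul_eq_iff P hs).mp hP
  have h2 := (smul_eq_iff Q hs).mp hQ
  have hs1 : s ≠ 1 := by
    rintro rfl
    rw [orderOf_one] at hs
    omega
  have hPne : (P : Subgroup G) ≠ ⊥ := by
    intro h
    have : s ∈ (⊥ : Subgroup G) := h ▸ h1
    exact hs1 (mem_bot.mp this)
  exact eq_of_mem_of_mem hG P Q hPne h1 h2 hs1

/-- no involution commutes with an element whose square is not one -/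
theorem not_commute_of_sq_ne (hG : Hyp G) {g a : G} (hg : g ^ 2 ≠ 1) (ha : orderOf a = 2) :
    ¬ Commute g a := fun h => hg (hG a g ha h)

end Cfsg.Agent.Helper11.CIT
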