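import Mathlib
import Cfsg.Agent.Helper11.CITA

/-!
# Groups in which the centralizer of every involution is an elementary abelian 2-group (part B)

Counting: number of involutions, bound on the normalizer of a Sylow 2-subgroup, and the squeeze giving
`|G_{γδ}| = q - 1` for all pairs of distinct Sylow 2-subgroups.
-/

set_option autoImplicit false
set_option linter.unusedSectionVars false

namespace Cfsg.Agent.Helper11.CIT

open Subgroup MulAction
open scoped Classical

variable {G : Type*} [Group G]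

/-- general: two subgroups of `L` meeting trivially -/
theorem card_mul_card_le [Finite G] {H K L : Subgroup G} (hH : H ≤ L) (hK : K ≤ L)
    (hHK : ∀ x, x ∈ H → x ∈ K → x = 1) : Nat.card H * Nat.card K ≤ Nat.card L := by
  rw [← Nat.card_prod]
  refine Nat.card_le_card_of_injective
    (fun p : H × K => (⟨(p.1 : G) * (p.2 : G), mul_mem (hH p.1.2) (hK p.2.2)⟩ : L)) ?_
  rintro ⟨h, k⟩ ⟨h', k'⟩ hp
  have hp' : (h : G) * k = h' * k' := congrArg Subtype.val hp
  have h1 : (h' : G)⁻¹ * h = k' * (k : G)⁻¹ := by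
    rw [inv_mul_eq_iff_eq_mul, ← mul_assoc, ← hp', mul_assoc, mul_inv_cancel, mul_one]
  have h2 : (h' : G)⁻¹ * h = 1 :=
    hHK _ (mul_mem (inv_mem h'.2) h.2) (h1 ▸ mul_mem k'.2 (inv_mem k.2))
  have h3 : (k' : G) * (k : G)⁻¹ = 1 := h1 ▸ h2
  have e1 : (h : G) = h' := by
    rw [inv_mul_eq_one] at h2; exact h2.symm
  have e2 : (k : G) = k' := by
    rw [mul_inv_eq_one] at h3; exact h3.symm
  exact Prod.ext (Subtype.ext e1) (Subtype.ext e2)

variable [Fintype G] [Fintype (Sylow 2 G)]

/-- the set of involutions -/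
noncomputable def invs (G : Type*) [Group G] [Fintype G] : Finset G :=
  Finset.univ.filter (fun s => orderOf s = 2)

theorem mem_invs {s : G} : s ∈ invs G ↔ orderOf s = 2 := by
  simp [invs]

/-- nonidentity elements of a Sylow subgroup, as a finset -/
noncomputable def nonid (P : Sylow 2 G) : Finset G :=
  Finset.univ.filter (fun s => s ∈ P ∧ s ≠ 1)

theorem mem_nonid {P : Sylow 2 G} {s : G} : s ∈ nonid P ↔ s ∈ P ∧ s ≠ 1 := by
  simp [nonid]

theorem card_nonid (P : Sylow 2 G) : (nonid P).card = Nat.card P - 1 := by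
  have h1 : nonid P = (Finset.univ.filter (fun s => s ∈ (P : Subgroup G))).erase 1 := by
    ext s
    simp only [mem_nonid, Finset.mem_erase, Finset.mem_filter, Finset.mem_univ, true_and]
    tauto
  rw [h1, Finset.card_erase_of_mem]
  · congr 1
    rw [Nat.card_eq_fintype_card, Fintype.card_subtype]
  · simp [one_mem]

/-- data: all Sylow 2-subgroups have order `q` -/
structure Data (G : Type*) [Group G] (q : ℕ) : Prop where
  hyp : Hyp G
  card : ∀ P : Sylow 2 G, Nat.card P = q
  four_le : 4 ≤ q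
  even : Even q

variable {q : ℕ}

theorem Data.ne_bot (D : Data G q) (P : Sylow 2 G) : (P : Subgroup G) ≠ ⊥ := by
  intro h
  have := D.card P
  rw [h, Subgroup.card_bot] at this
  have := D.four_le
  omega

theorem Data.orderOf_eq_two (D : Data G q) (P : Sylow 2 G) {x : G} (hx : x ∈ P) (hx1 : x ≠ 1) :
    orderOf x = 2 :=
  orderOf_eq_two_of_sq (sq_eq_one_of_mem D.hyp P (D.ne_bot P) hx) hx1

theorem invs_eq_biUnion (D : Data G q) :
    invs G = (Finset.univ : Finset (Sylow 2 G)).biUnion nonid := by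
  ext s
  simp only [mem_invs, Finset.mem_biUnion, Finset.mem_univ, true_and, mem_nonid]
  constructor
  · intro hs
    obtain ⟨P, hP⟩ := exists_sylow_mem hs
    refine ⟨P, hP, ?_⟩
    rintro rfl
    rw [orderOf_one] at hs
    omega
  · rintro ⟨P, hP, hs1⟩
    exact D.orderOf_eq_two P hP hs1

/-- number of involutions -/
theorem card_invs (D : Data G q) : (invs G).card = Fintype.card (Sylow 2 G) * (q - 1) := by
  rw [invs_eq_biUnion D, Finset.card_biUnion]
  · rw [Finset.sum_congr rfl (fun P _ => (card_nonid P).trans (by rw [D.card P]))]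
    rw [Finset.sum_const, Finset.card_univ, smul_eq_mul]
  · intro P _ Q _ hPQ
    rw [Function.onFun, Finset.disjoint_left]
    intro s hsP hsQ
    rw [mem_nonid] at hsP hsQ
    exact hPQ (eq_of_mem_of_mem D.hyp P Q (D.ne_bot P) hsP.1 hsQ.1 hsP.2)

/-- there is an involution in each Sylow 2-subgroup -/
theorem Data.exists_invol (D : Data G q) (P : Sylow 2 G) : ∃ t, t ∈ P ∧ orderOf t = 2 := by
  have h : 0 < (nonid P).card := by
    rw [card_nonid, D.card P]
    have := D.four_le
    omega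
  obtain ⟨t, ht⟩ := Finset.card_pos.mp h
  rw [mem_nonid] at ht
  exact ⟨t, ht.1, D.orderOf_eq_two P ht.1 ht.2⟩

/-- `|N(P)| ≤ q (q - 1)` -/
theorem card_normalizer_le (D : Data G q) (P : Sylow 2 G) :
    Nat.card (normalizer (P : Set G)) ≤ q * (q - 1) := by
  obtain ⟨t, htP, ht⟩ := D.exists_invol P
  have h1 := Cfsg.Agent.Helper11.card_isConj_mul_card_centralizer t
  rw [centralizer_eq D.hyp P ht htP, D.card P] at h1
  have h2 : Nat.card {h : G // IsConj t h} ≤ (invs G).card := by
    rw [Nat.card_eq_fintype_card, Fintype.card_subtype]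
    apply Finset.card_le_card
    intro h hh
    rw [Finset.mem_filter] at hh
    rw [mem_invs, ← ht]
    obtain ⟨c, hc⟩ := hh.2
    exact (hc.orderOf_eq).symm
  rw [card_invs D] at h2
  have h3 : Nat.card (Sylow 2 G) * Nat.card (normalizer (P : Set G)) = Nat.card G := by
    rw [P.card_eq_index_normalizer]
    exact Subgroup.index_mul_card _
  rw [Nat.card_eq_fintype_card (α := Sylow 2 G)] at h3
  have hn : 0 < Fintype.card (Sylow 2 G) := Fintype.card_pos
  have h4 : Fintype.card (Sylow 2 G) * Nat.card (normalizer (P : Set G))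
      ≤ Fintype.card (Sylow 2 G) * (q * (q - 1)) := by
    rw [h3, ← h1]
    calc Nat.card {h : G // IsConj t h} * q ≤ (Fintype.card (Sylow 2 G) * (q - 1)) * q :=
          Nat.mul_le_mul_right _ h2
      _ = Fintype.card (Sylow 2 G) * (q * (q - 1)) := by ring
  exact Nat.le_of_mul_le_mul_left h4 hn

/-- two-point stabilizer as a subgroup -/
def stab2 (γ δ : Sylow 2 G) : Subgroup G := stabilizer G γ ⊓ stabilizer G δ

theorem mem_stab2 {γ δ : Sylow 2 G} {g : G} : g ∈ stab2 γ δ ↔ g • γ = γ ∧ g • δ = δ := by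
  simp [stab2, mem_stabilizer_iff]

/-- an element of `γ` fixing `δ ≠ γ` is trivial -/
theorem eq_one_of_mem_of_smul (D : Data G q) {γ δ : Sylow 2 G} (hne : γ ≠ δ) {x : G}
    (hx : x ∈ γ) (hδ : x • δ = δ) : x = 1 := by
  by_contra hx1
  have h2 := D.orderOf_eq_two γ hx hx1
  have hγ : x • γ = γ := (smul_eq_iff γ h2).mpr hx
  exact hne (eq_of_smul_eq D.hyp γ δ h2 hγ hδ)

theorem card_stab2_mul_le (D : Data G q) {γ δ : Sylow 2 G} (hne : γ ≠ δ) :
    Nat.card (stab2 γ δ) * q ≤ Nat.card (normalizer ((γ : Subgroup G) : Set G)) := by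
  rw [← D.card γ]
  refine card_mul_card_le (H := stab2 γ δ) (K := (γ : Subgroup G)) ?_ le_normalizer ?_
  · intro g hg
    rw [mem_stab2] at hg
    exact Sylow.smul_eq_iff_mem_normalizer.mp hg.1
  · intro x hx hxγ
    rw [mem_stab2] at hx
    exact eq_one_of_mem_of_smul D hne hxγ hx.2

theorem card_stab2_le (D : Data G q) {γ δ : Sylow 2 G} (hne : γ ≠ δ) :
    Nat.card (stab2 γ δ) ≤ q - 1 := by
  have h1 := card_stab2_mul_le D hne
  have h2 := card_normalizer_le D γ
  have h3 : Nat.card (stab2 γ δ) * q ≤ (q - 1) * q := by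
    rw [mul_comm (q - 1)]; exact h1.trans h2
  have := D.four_le
  exact Nat.le_of_mul_le_mul_right h3 (by omega)

/-- involutions mapping `γ` to `δ` -/
noncomputable def swaps (γ δ : Sylow 2 G) : Finset G :=
  (invs G).filter (fun s => s • γ = δ)

theorem mem_swaps {γ δ : Sylow 2 G} {s : G} : s ∈ swaps γ δ ↔ orderOf s = 2 ∧ s • γ = δ := by
  simp [swaps, mem_invs]

theorem smul_of_mem_swaps {γ δ : Sylow 2 G} {s : G} (hs : s ∈ swaps γ δ) : s • δ = γ := by
  rw [mem_swaps] at hs
  rw [← hs.2, smul_smul, ← sq, sq_eq_one_of_orderOf hs.1, one_smul]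

theorem inv_of_mem_swaps {γ δ : Sylow 2 G} {s : G} (hs : s ∈ swaps γ δ) : s⁻¹ = s :=
  inv_eq_self_of_sq (sq_eq_one_of_orderOf (mem_swaps.mp hs).1)

/-- two-point stabilizer as a finset -/
noncomputable def stab2F (γ δ : Sylow 2 G) : Finset G :=
  Finset.univ.filter (fun g => g • γ = γ ∧ g • δ = δ)

theorem mem_stab2F {γ δ : Sylow 2 G} {g : G} : g ∈ stab2F γ δ ↔ g • γ = γ ∧ g • δ = δ := by
  simp [stab2F]

theorem card_stab2F (γ δ : Sylow 2 G) : (stab2F γ δ).card = Nat.card (stab2 γ δ) := by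
  rw [Nat.card_eq_fintype_card, Fintype.card_subtype]
  congr 1
  ext g
  simp [mem_stab2F, mem_stab2]

/-- `s ↦ s₀⁻¹ s` maps `swaps γ δ` into the two-point stabilizer -/
theorem inv_mul_mem_stab2F {γ δ : Sylow 2 G} {s₀ s : G} (hs₀ : s₀ ∈ swaps γ δ)
    (hs : s ∈ swaps γ δ) : s₀⁻¹ * s ∈ stab2F γ δ := by
  rw [mem_stab2F, inv_of_mem_swaps hs₀, mul_smul, mul_smul, (mem_swaps.mp hs).2,
    smul_of_mem_swaps hs, smul_of_mem_swaps hs₀, (mem_swaps.mp hs₀).2]
  exact ⟨rfl, rfl⟩

theorem card_swaps_le (γ δ : Sylow 2 G) : (swaps γ δ).card ≤ (stab2F γ δ).card := by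
  by_cases h : (swaps γ δ).Nonempty
  · obtain ⟨s₀, hs₀⟩ := h
    refine Finset.card_le_card_of_injOn (fun s => s₀⁻¹ * s) ?_ ?_
    · intro s hs
      exact inv_mul_mem_stab2F hs₀ hs
    · intro s _ s' _ hss
      exact mul_left_cancel hss
  · rw [Finset.not_nonempty_iff_eq_empty] at h
    rw [h, Finset.card_empty]
    exact Nat.zero_le _

/-- an involution moves all but one point -/
theorem card_moved (D : Data G q) {s : G} (hs : orderOf s = 2) :
    (Finset.univ.filter (fun γ : Sylow 2 G => s • γ ≠ γ)).card = Fintype.card (Sylow 2 G) - 1 := by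
  obtain ⟨P, hP⟩ := exists_sylow_mem hs
  have h1 : Finset.univ.filter (fun γ : Sylow 2 G => s • γ ≠ γ) = Finset.univ.erase P := by
    ext γ
    simp only [Finset.mem_filter, Finset.mem_univ, true_and, Finset.mem_erase, and_true]
    constructor
    · intro h hγ
      subst hγ
      exact h ((smul_eq_iff γ hs).mpr hP)
    · intro h hγ
      exact h (eq_of_smul_eq D.hyp γ P hs hγ ((smul_eq_iff P hs).mpr hP))
  rw [h1, Finset.card_erase_of_mem (Finset.mem_univ _), Finset.card_univ]

/-- double counting: pairs swapped by involutions -/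
theorem sum_card_swaps (D : Data G q) :
    ∑ p ∈ (Finset.univ : Finset (Sylow 2 G)).offDiag, (swaps p.1 p.2).card
      = (invs G).card * (Fintype.card (Sylow 2 G) - 1) := by
  have h1 : ∀ p : Sylow 2 G × Sylow 2 G, (swaps p.1 p.2).card
      = ∑ s ∈ invs G, if s • p.1 = p.2 then 1 else 0 := by
    intro p
    rw [swaps, Finset.card_filter]
  rw [Finset.sum_congr rfl (fun p _ => h1 p), Finset.sum_comm]
  rw [← smul_eq_mul, ← Finset.sum_const]
  refine Finset.sum_congr rfl (fun s hs => ?_)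
  rw [mem_invs] at hs
  rw [← card_moved D hs, ← Finset.card_filter]
  refine Finset.card_bij' (fun p _ => p.1) (fun γ _ => (γ, s • γ)) ?_ ?_ ?_ ?_
  · intro p hp
    rw [Finset.mem_filter, Finset.mem_offDiag] at hp
    rw [Finset.mem_filter]
    refine ⟨Finset.mem_univ _, ?_⟩
    rw [hp.2]
    exact fun h => hp.1.2.2 h.symm
  · intro γ hγ
    rw [Finset.mem_filter] at hγ
    rw [Finset.mem_filter, Finset.mem_offDiag]
    exact ⟨⟨Finset.mem_univ _, Finset.mem_univ _, fun h => hγ.2 h.symm⟩, rfl⟩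
  · intro p hp
    rw [Finset.mem_filter] at hp
    exact Prod.ext rfl hp.2
  · intro γ _
    rfl

/-- the squeeze -/
theorem squeeze (D : Data G q) {γ δ : Sylow 2 G} (hne : γ ≠ δ) :
    (swaps γ δ).card = q - 1 ∧ Nat.card (stab2 γ δ) = q - 1 := by
  have hsum := sum_card_swaps D
  rw [card_invs D] at hsum
  have hle1 : ∀ p ∈ (Finset.univ : Finset (Sylow 2 G)).offDiag,
      (swaps p.1 p.2).card ≤ Nat.card (stab2 p.1 p.2) := by
    intro p _
    rw [← card_stab2F]
    exact card_swaps_le _ _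
  have hle2 : ∀ p ∈ (Finset.univ : Finset (Sylow 2 G)).offDiag,
      Nat.card (stab2 p.1 p.2) ≤ q - 1 := by
    intro p hp
    rw [Finset.mem_offDiag] at hp
    exact card_stab2_le D hp.2.2
  have hconst : ∑ _p ∈ (Finset.univ : Finset (Sylow 2 G)).offDiag, (q - 1)
      = Fintype.card (Sylow 2 G) * (q - 1) * (Fintype.card (Sylow 2 G) - 1) := by
    rw [Finset.sum_const, Finset.offDiag_card, Finset.card_univ, smul_eq_mul,
      ← Nat.mul_sub_one]
    ring
  have hle12 : ∀ p ∈ (Finset.univ : Finset (Sylow 2 G)).offDiag,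
      (swaps p.1 p.2).card ≤ q - 1 := fun p hp => (hle1 p hp).trans (hle2 p hp)
  have heq : ∀ p ∈ (Finset.univ : Finset (Sylow 2 G)).offDiag, (swaps p.1 p.2).card = q - 1 :=
    (Finset.sum_eq_sum_iff_of_le hle12).mp (hsum.trans hconst.symm)
  have hp : (γ, δ) ∈ (Finset.univ : Finset (Sylow 2 G)).offDiag := by
    rw [Finset.mem_offDiag]
    exact ⟨Finset.mem_univ _, Finset.mem_univ _, hne⟩
  have e1 : (swaps γ δ).card = q - 1 := heq (γ, δ) hp
  have e2 : (swaps γ δ).card ≤ Nat.card (stab2 γ δ) := hle1 (γ, δ) hp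
  have e3 : Nat.card (stab2 γ δ) ≤ q - 1 := hle2 (γ, δ) hp
  exact ⟨e1, le_antisymm e3 (e1 ▸ e2)⟩

/-- `|N(γ)| = q (q - 1)` when there are at least two Sylow 2-subgroups -/
theorem card_normalizer (D : Data G q) {γ δ : Sylow 2 G} (hne : γ ≠ δ) :
    Nat.card (normalizer ((γ : Subgroup G) : Set G)) = q * (q - 1) := by
  refine le_antisymm (card_normalizer_le D γ) ?_
  have h1 := card_stab2_mul_le D hne
  rw [(squeeze D hne).2, mul_comm] at h1
  exact h1

/-- `s₀ * e` is again a swapping involution -/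
theorem mul_mem_swaps (D : Data G q) {γ δ : Sylow 2 G} (hne : γ ≠ δ) {s₀ e : G}
    (hs₀ : s₀ ∈ swaps γ δ) (he : e ∈ stab2 γ δ) : s₀ * e ∈ swaps γ δ := by
  have hcard : (swaps γ δ).card = (stab2F γ δ).card := by
    rw [card_stab2F, (squeeze D hne).1, (squeeze D hne).2]
  have himg : (swaps γ δ).image (fun s => s₀⁻¹ * s) = stab2F γ δ := by
    apply Finset.eq_of_subset_of_card_le
    · intro x hx
      rw [Finset.mem_image] at hx
      obtain ⟨s, hs, rfl⟩ := hx
      exact inv_mul_mem_stab2F hs₀ hs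
    · rw [Finset.card_image_of_injective _ (fun a b hab => mul_left_cancel hab), hcard]
  have he' : e ∈ stab2F γ δ := by
    rw [mem_stab2F]; exact mem_stab2.mp he
  rw [← himg, Finset.mem_image] at he'
  obtain ⟨s, hs, hse⟩ := he'
  have : s₀ * e = s := by rw [← hse, mul_inv_cancel_left]
  rw [this]
  exact hs

/-- swapping involutions invert the two-point stabilizer -/
theorem conj_eq_inv (D : Data G q) {γ δ : Sylow 2 G} (hne : γ ≠ δ) {s e : G}
    (hs : s ∈ swaps γ δ) (he : e ∈ stab2 γ δ) : s * e * s⁻¹ = e⁻¹ := by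
  have h1 := mul_mem_swaps D hne hs he
  have h2 : (s * e) ^ 2 = 1 := sq_eq_one_of_orderOf (mem_swaps.mp h1).1
  rw [inv_of_mem_swaps hs]
  rw [sq] at h2
  have : s * e * s * e = 1 := by rw [← h2]; group
  exact eq_inv_of_mul_eq_one_left this

theorem swaps_nonempty (D : Data G q) {γ δ : Sylow 2 G} (hne : γ ≠ δ) : (swaps γ δ).Nonempty := by
  rw [← Finset.card_pos, (squeeze D hne).1]
  have := D.four_le
  omega

/-- the two-point stabilizer is abelian -/
theorem commute_of_mem_stab2 (D : Data G q) {γ δ : Sylow 2 G} (hne : γ ≠ δ) {e f : G}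
    (he : e ∈ stab2 γ δ) (hf : f ∈ stab2 γ δ) : Commute e f := by
  obtain ⟨s, hs⟩ := swaps_nonempty D hne
  have h1 := conj_eq_inv D hne hs he
  have h2 := conj_eq_inv D hne hs hf
  have h3 := conj_eq_inv D hne hs (mul_mem he hf)
  have h4 : s * (e * f) * s⁻¹ = (s * e * s⁻¹) * (s * f * s⁻¹) := by group
  rw [h3, h1, h2, mul_inv_rev] at h4
  have h5 : f * e = e * f := by
    have := congrArg (fun x => x⁻¹) h4
    simpa [mul_inv_rev] using this.symm
  exact h5.symm

end Cfsg.Agent.Helper11.CIT
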