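import Mathlib
import Cfsg.Agent.Helper11.CITB

/-!
# Groups in which the centralizer of every involution is an elementary abelian 2-group (part C)

No nonidentity element fixes three Sylow 2-subgroups; the number of Sylow 2-subgroups is `q + 1`.
-/

set_option autoImplicit false
set_option linter.unusedSectionVars false

namespace Cfsg.Agent.Helper11.CIT

open Subgroup MulAction
open scoped Classical

variable {G : Type*} [Group G]

/-- if `w` inverts `e` then so does every odd power of `w` -/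
theorem pow_conj_of_odd {w e : G} (h : w * e * w⁻¹ = e⁻¹) {k : ℕ} (hk : Odd k) :
    w ^ k * e * (w ^ k)⁻¹ = e⁻¹ := by
  have h2 : ∀ j : ℕ, w ^ (2 * j) * e * (w ^ (2 * j))⁻¹ = e := by
    intro j
    induction j with
    | zero => simp
    | succ j ih =>
      have e1 : w ^ (2 * (j + 1)) = w * w * w ^ (2 * j) := by
        rw [← sq, ← pow_add]; congr 1; ring
      rw [e1]
      have e2 : w * w * w ^ (2 * j) * e * (w * w * w ^ (2 * j))⁻¹
          = w * (w * (w ^ (2 * j) * e * (w ^ (2 * j))⁻¹) * w⁻¹) * w⁻¹ := by group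
      rw [e2, ih, h]
      have e3 : w * e⁻¹ * w⁻¹ = (w * e * w⁻¹)⁻¹ := by group
      rw [e3, h, inv_inv]
  obtain ⟨j, rfl⟩ := hk
  have e1 : w ^ (2 * j + 1) = w ^ (2 * j) * w := pow_succ w (2 * j)
  rw [e1]
  have e2 : w ^ (2 * j) * w * e * (w ^ (2 * j) * w)⁻¹
      = w ^ (2 * j) * (w * e * w⁻¹) * (w ^ (2 * j))⁻¹ := by group
  rw [e2, h]
  have e3 : w ^ (2 * j) * e⁻¹ * (w ^ (2 * j))⁻¹ = (w ^ (2 * j) * e * (w ^ (2 * j))⁻¹)⁻¹ := by
    group
  rw [e3, h2 j]

variable [Fintype G] [Fintype (Sylow 2 G)] {q : ℕ}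

/-- elements of the normalizer of `α` raised to `q - 1` land in `α` -/
theorem pow_mem_of_mem_normalizer (D : Data G q) {α β : Sylow 2 G} (hab : α ≠ β) {w : G}
    (hw : w ∈ normalizer ((α : Subgroup G) : Set G)) : w ^ (q - 1) ∈ α := by
  have hN : ((α : Subgroup G).subgroupOf (normalizer ((α : Subgroup G) : Set G))).Normal :=
    Subgroup.normal_in_normalizer
  have h1 := Subgroup.pow_index_mem
    ((α : Subgroup G).subgroupOf (normalizer ((α : Subgroup G) : Set G))) ⟨w, hw⟩
  have h2 : ((α : Subgroup G).subgroupOf (normalizer ((α : Subgroup G) : Set G))).index = q - 1 := by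
    have h3 := Subgroup.index_mul_card
      ((α : Subgroup G).subgroupOf (normalizer ((α : Subgroup G) : Set G)))
    rw [card_normalizer D hab,
      Nat.card_congr (Subgroup.subgroupOfEquivOfLe (le_normalizer)).toEquiv, D.card α] at h3
    have hq := D.four_le
    have h4 : ((α : Subgroup G).subgroupOf (normalizer ((α : Subgroup G) : Set G))).index * q
        = (q - 1) * q := by rw [h3]; ring
    exact Nat.eq_of_mul_eq_mul_right (by omega) h4
  rw [h2] at h1
  rw [mem_subgroupOf] at h1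
  exact (by simpa using h1 : w ^ (q - 1) ∈ (α : Subgroup G))

/-- a nonidentity element fixes at most two Sylow 2-subgroups -/
theorem no_three_fixed (D : Data G q) {α β γ : Sylow 2 G} (hab : α ≠ β) (hac : α ≠ γ)
    (hbc : β ≠ γ) {g : G} (hg1 : g ≠ 1) (ha : g • α = α) (hb : g • β = β) (hc : g • γ = γ) :
    False := by
  -- step 1
  have hg2 : g ^ 2 ≠ 1 := by
    intro h
    have h2 := orderOf_eq_two_of_sq h hg1
    exact hab (eq_of_smul_eq D.hyp α β h2 ha hb)
  have hgE : g ∈ stab2 α β := mem_stab2.mpr ⟨ha, hb⟩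
  have hgE' : g ∈ stab2 α γ := mem_stab2.mpr ⟨ha, hc⟩
  -- step 2
  set M := normalizer ((α : Subgroup G) : Set G) with hM
  set Cg := centralizer ({g} : Set G) ⊓ M with hCg
  have hsubM : ∀ δ : Sylow 2 G, stab2 α δ ≤ M := by
    intro δ e he
    exact Sylow.smul_eq_iff_mem_normalizer.mp (mem_stab2.mp he).1
  have hE : stab2 α β ≤ Cg := by
    intro e he
    refine mem_inf.mpr ⟨?_, hsubM β he⟩
    rw [mem_centralizer_iff]
    intro y hy
    rw [Set.mem_singleton_iff] at hy
    subst hy
    exact (commute_of_mem_stab2 D hab hgE he)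
  have hE' : stab2 α γ ≤ Cg := by
    intro e he
    refine mem_inf.mpr ⟨?_, hsubM γ he⟩
    rw [mem_centralizer_iff]
    intro y hy
    rw [Set.mem_singleton_iff] at hy
    subst hy
    exact (commute_of_mem_stab2 D hac hgE' he)
  have hCgT : ∀ x, x ∈ Cg → x ∈ (α : Subgroup G) → x = 1 := by
    intro x hx hxα
    by_contra hx1
    have h2 := D.orderOf_eq_two α hxα hx1
    have hcomm : Commute g x := by
      have := (mem_inf.mp hx).1
      rw [mem_centralizer_iff] at this
      exact this g rfl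
    exact not_commute_of_sq_ne D.hyp hg2 h2 hcomm
  have hcardCg : Nat.card Cg ≤ q - 1 := by
    have h1 : Nat.card Cg * Nat.card (α : Subgroup G) ≤ Nat.card M :=
      card_mul_card_le (inf_le_right) le_normalizer hCgT
    rw [D.card α, hM, card_normalizer D hab] at h1
    have h3 : Nat.card Cg * q ≤ (q - 1) * q := by rw [mul_comm (q - 1)]; exact h1
    have := D.four_le
    exact Nat.le_of_mul_le_mul_right h3 (by omega)
  have hEeq : stab2 α β = Cg :=
    Subgroup.eq_of_le_of_card_ge hE (by rw [(squeeze D hab).2]; exact hcardCg)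
  have hE'eq : stab2 α γ = Cg :=
    Subgroup.eq_of_le_of_card_ge hE' (by rw [(squeeze D hac).2]; exact hcardCg)
  have hEE' : stab2 α β = stab2 α γ := hEeq.trans hE'eq.symm
  -- step 3
  obtain ⟨s1, hs1⟩ := swaps_nonempty D hab
  obtain ⟨s2, hs2⟩ := swaps_nonempty D hac
  set δ := s2 • β with hδ
  have hs2γ : s2 • γ = α := smul_of_mem_swaps hs2
  have hs2α : s2 • α = γ := (mem_swaps.mp hs2).2
  have hs2δ : s2 • δ = β := by
    rw [hδ, smul_smul, ← sq, sq_eq_one_of_orderOf (mem_swaps.mp hs2).1, one_smul]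
  have had : α ≠ δ := by
    intro h
    have : s2 • α = β := by rw [h]; exact hs2δ
    rw [hs2α] at this
    exact hbc this.symm
  have hEδ : stab2 α β ≤ stab2 α δ := by
    intro e he
    have he' : e ∈ stab2 α γ := hEE' ▸ he
    have hinv := conj_eq_inv D hac hs2 he'
    have heinv : e⁻¹ ∈ stab2 α β := inv_mem he
    refine mem_stab2.mpr ⟨(mem_stab2.mp he).1, ?_⟩
    have e1 : e * s2 = s2 * e⁻¹ := by
      rw [← hinv, inv_of_mem_swaps hs2]
      have := sq_eq_one_of_orderOf (mem_swaps.mp hs2).1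
      rw [sq] at this
      rw [mul_assoc s2 e s2, ← mul_assoc s2 s2, this, one_mul]
    rw [hδ, smul_smul, e1, mul_smul, (mem_stab2.mp heinv).2]
  have hEδeq : stab2 α β = stab2 α δ :=
    Subgroup.eq_of_le_of_card_ge hEδ (by rw [(squeeze D hab).2, (squeeze D had).2])
  obtain ⟨s3, hs3⟩ := swaps_nonempty D had
  set w := s1 * s2 * s3 with hw
  have hwα : w • α = α := by
    rw [hw, mul_smul, mul_smul, (mem_swaps.mp hs3).2, hs2δ, smul_of_mem_swaps hs1]
  have hwinv : w * g * w⁻¹ = g⁻¹ := by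
    have h3 : s3 * g * s3⁻¹ = g⁻¹ := conj_eq_inv D had hs3 (hEδeq ▸ hgE)
    have h2 : s2 * g⁻¹ * s2⁻¹ = g⁻¹⁻¹ := conj_eq_inv D hac hs2 (inv_mem hgE')
    have h1 : s1 * g * s1⁻¹ = g⁻¹ := conj_eq_inv D hab hs1 hgE
    have e1 : w * g * w⁻¹ = s1 * (s2 * (s3 * g * s3⁻¹) * s2⁻¹) * s1⁻¹ := by
      rw [hw]; group
    rw [e1, h3, h2, inv_inv, h1]
  -- step 4
  have hwM : w ∈ M := Sylow.smul_eq_iff_mem_normalizer.mp hwα
  have haα : w ^ (q - 1) ∈ α := pow_mem_of_mem_normalizer D hab hwM
  have hodd : Odd (q - 1) := by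
    obtain ⟨r, hr⟩ := D.even
    have := D.four_le
    exact ⟨r - 1, by omega⟩
  have hainv : w ^ (q - 1) * g * (w ^ (q - 1))⁻¹ = g⁻¹ := pow_conj_of_odd hwinv hodd
  set a := w ^ (q - 1) with hadef
  have hgM : g ∈ M := Sylow.smul_eq_iff_mem_normalizer.mp ha
  have h1 : g * a⁻¹ * g⁻¹ ∈ (α : Subgroup G) := by
    have := (mem_normalizer_iff.mp hgM a⁻¹).mp (inv_mem haα)
    exact this
  have h2 : a * (g * a⁻¹ * g⁻¹) ∈ (α : Subgroup G) := mul_mem haα h1
  have h3 : a * (g * a⁻¹ * g⁻¹) = g⁻¹ * g⁻¹ := by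
    have : a * (g * a⁻¹ * g⁻¹) = (a * g * a⁻¹) * g⁻¹ := by group
    rw [this, hainv]
  rw [h3] at h2
  have h4 : (g⁻¹ * g⁻¹) • β = β := by
    rw [mul_smul, inv_smul_eq_iff.mpr hb.symm, inv_smul_eq_iff.mpr hb.symm]
  have h5 := eq_one_of_mem_of_smul D hab h2 h4
  apply hg2
  have : (g ^ 2)⁻¹ = 1 := by rw [sq, mul_inv_rev]; exact h5
  exact inv_eq_one.mp this

/-- the fixed points of `g` -/
noncomputable def fixF (g : G) : Finset (Sylow 2 G) :=
  Finset.univ.filter (fun γ => g • γ = γ)

theorem mem_fixF {g : G} {γ : Sylow 2 G} : γ ∈ fixF g ↔ g • γ = γ := by simp [fixF]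

theorem card_fixF_le (D : Data G q) {g : G} (hg : g ≠ 1) : (fixF g).card ≤ 2 := by
  by_contra h
  rw [not_le, Finset.two_lt_card] at h
  obtain ⟨a, ha, b, hb, c, hc, hab, hac, hbc⟩ := h
  exact no_three_fixed D hab hac hbc hg (mem_fixF.mp ha) (mem_fixF.mp hb) (mem_fixF.mp hc)

theorem card_fixF_invol (D : Data G q) {s : G} (hs : orderOf s = 2) : (fixF s).card = 1 := by
  obtain ⟨P, hP⟩ := exists_sylow_mem hs
  rw [Finset.card_eq_one]
  refine ⟨P, ?_⟩
  ext γ
  rw [mem_fixF, Finset.mem_singleton]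
  constructor
  · intro h
    exact eq_of_smul_eq D.hyp γ P hs h ((smul_eq_iff P hs).mpr hP)
  · rintro rfl
    exact (smul_eq_iff γ hs).mpr hP

theorem card_stabF (D : Data G q) {γ δ : Sylow 2 G} (hne : γ ≠ δ) :
    (Finset.univ.filter (fun g : G => g • γ = γ)).card = q * (q - 1) := by
  rw [← card_normalizer D hne, Nat.card_eq_fintype_card, Fintype.card_subtype]
  congr 1
  ext g
  simp only [Finset.mem_filter, Finset.mem_univ, true_and]
  exact Sylow.smul_eq_iff_mem_normalizer

/-- first count -/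
theorem sum_card_fixF (D : Data G q) (hn : 2 ≤ Fintype.card (Sylow 2 G)) :
    ∑ g : G, (fixF g).card = Fintype.card (Sylow 2 G) * (q * (q - 1)) := by
  have h1 : ∀ g : G, (fixF g).card = ∑ γ : Sylow 2 G, if g • γ = γ then 1 else 0 := by
    intro g
    rw [fixF, Finset.card_filter]
  rw [Finset.sum_congr rfl (fun g _ => h1 g), Finset.sum_comm]
  have h2 : ∀ γ : Sylow 2 G, (∑ g : G, if g • γ = γ then 1 else 0) = q * (q - 1) := by
    intro γ
    have : Nontrivial (Sylow 2 G) := Fintype.one_lt_card_iff_nontrivial.mp (by omega)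
    obtain ⟨δ, hδ⟩ := exists_ne γ
    rw [← Finset.card_filter]
    exact card_stabF D hδ.symm
  rw [Finset.sum_congr rfl (fun γ _ => h2 γ), Finset.sum_const, Finset.card_univ, smul_eq_mul]

/-- second count -/
theorem sum_card_offDiag_fixF (D : Data G q) :
    ∑ g : G, ((fixF g).offDiag).card
      = (Fintype.card (Sylow 2 G) * Fintype.card (Sylow 2 G) - Fintype.card (Sylow 2 G))
        * (q - 1) := by
  have h1 : ∀ g : G, ((fixF g).offDiag).card
      = ∑ p ∈ (Finset.univ : Finset (Sylow 2 G)).offDiag,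
          if g • p.1 = p.1 ∧ g • p.2 = p.2 then 1 else 0 := by
    intro g
    rw [← Finset.card_filter]
    congr 1
    ext p
    simp only [Finset.mem_offDiag, mem_fixF, Finset.mem_filter, Finset.mem_univ, true_and]
    tauto
  rw [Finset.sum_congr rfl (fun g _ => h1 g), Finset.sum_comm]
  have h2 : ∀ p ∈ (Finset.univ : Finset (Sylow 2 G)).offDiag,
      (∑ g : G, if g • p.1 = p.1 ∧ g • p.2 = p.2 then 1 else 0) = q - 1 := by
    intro p hp
    rw [Finset.mem_offDiag] at hp
    rw [← Finset.card_filter]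
    have := card_stab2F p.1 p.2
    rw [stab2F] at this
    rw [this, (squeeze D hp.2.2).2]
  rw [Finset.sum_congr rfl h2, Finset.sum_const, Finset.offDiag_card, Finset.card_univ,
    smul_eq_mul]

/-- the number of Sylow 2-subgroups is at most `q + 1` -/
theorem card_sylow_le (D : Data G q) (hn : 2 ≤ Fintype.card (Sylow 2 G)) :
    Fintype.card (Sylow 2 G) ≤ q + 1 := by
  set n := Fintype.card (Sylow 2 G) with hn'
  have key : ∀ g : G, ((fixF g).offDiag).card + (if g ∈ invs G then 1 else 0)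
      ≤ (fixF g).card + (if g = 1 then n * (n - 2) else 0) := by
    intro g
    rw [Finset.offDiag_card]
    by_cases hg1 : g = 1
    · subst hg1
      have h1 : fixF (1 : G) = Finset.univ := by
        ext γ; simp [mem_fixF]
      have h2 : (1 : G) ∉ invs G := by
        rw [mem_invs, orderOf_one]; omega
      rw [h1, Finset.card_univ, if_neg h2, if_pos rfl, ← hn']
      obtain ⟨m, hm⟩ : ∃ m, n = m + 2 := ⟨n - 2, by omega⟩
      rw [hm]
      simp only [Nat.add_sub_cancel, add_zero]
      have : (m + 2) * (m + 2) - (m + 2) = (m + 2) + (m + 2) * m := by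
        rw [Nat.sub_eq_iff_eq_add (Nat.le_mul_of_pos_left _ (by omega))]; ring
      rw [this]
    · rw [if_neg hg1, add_zero]
      by_cases hgI : g ∈ invs G
      · rw [if_pos hgI, card_fixF_invol D (mem_invs.mp hgI)]
      · rw [if_neg hgI, add_zero]
        have := card_fixF_le D hg1
        interval_cases (fixF g).card <;> simp
  have hsum := Finset.sum_le_sum (fun g (_ : g ∈ (Finset.univ : Finset G)) => key g)
  rw [Finset.sum_add_distrib, Finset.sum_add_distrib, sum_card_offDiag_fixF D,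
    sum_card_fixF D hn, ← Finset.card_filter] at hsum
  have hI : (Finset.univ.filter (fun g : G => g ∈ invs G)).card = n * (q - 1) := by
    rw [← card_invs D]
    congr 1
    ext g
    simp
  rw [hI, Finset.sum_ite_eq' Finset.univ (1 : G) (fun _ => n * (n - 2)),
    if_pos (Finset.mem_univ _), ← hn'] at hsum
  -- arithmetic
  have hq := D.four_le
  obtain ⟨m, hm⟩ : ∃ m, n = m + 2 := ⟨n - 2, by omega⟩
  obtain ⟨r, hr⟩ : ∃ r, q = r + 4 := ⟨q - 4, by omega⟩
  rw [hm, hr] at hsum
  simp only [Nat.add_sub_cancel] at hsum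
  have e1 : (m + 2) * (m + 2) - (m + 2) = (m + 2) * (m + 1) := by
    rw [Nat.sub_eq_iff_eq_add (Nat.le_mul_of_pos_left _ (by omega))]; ring
  have e2 : r + 4 - 1 = r + 3 := by omega
  rw [e1, e2] at hsum
  rw [hm, hr]
  by_contra hcon
  rw [not_le] at hcon
  have hm' : r + 4 ≤ m := by omega
  have hsum' : (m + 2) * ((m + 1) * (r + 3) + (r + 3)) ≤ (m + 2) * ((r + 4) * (r + 3) + m) := by
    calc (m + 2) * ((m + 1) * (r + 3) + (r + 3))
        = (m + 2) * (m + 1) * (r + 3) + (m + 2) * (r + 3) := by ring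
      _ ≤ (m + 2) * ((r + 4) * (r + 3)) + (m + 2) * m := hsum
      _ = (m + 2) * ((r + 4) * (r + 3) + m) := by ring
  have h6 := Nat.le_of_mul_le_mul_left hsum' (by omega)
  have h7 := Nat.mul_le_mul_right (r + 2) hm'
  nlinarith [h6, h7]

/-- the number of Sylow 2-subgroups is at least `q + 1` -/
theorem le_card_sylow (D : Data G q) {α β : Sylow 2 G} (hab : α ≠ β) :
    q + 1 ≤ Fintype.card (Sylow 2 G) := by
  have h1 : Nat.card (α : Subgroup G) ≤ Nat.card {γ : Sylow 2 G // γ ≠ α} := by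
    refine Nat.card_le_card_of_injective
      (fun a : (α : Subgroup G) => (⟨(a : G) • β, ?_⟩ : {γ : Sylow 2 G // γ ≠ α})) ?_
    · intro h
      have h2 : (a : G)⁻¹ • α = α :=
        Sylow.smul_eq_iff_mem_normalizer.mpr (le_normalizer (inv_mem a.2))
      have : β = α := by
        calc β = (a : G)⁻¹ • ((a : G) • β) := by rw [smul_smul, inv_mul_cancel, one_smul]
          _ = (a : G)⁻¹ • α := by rw [h]
          _ = α := h2
      exact hab this.symm
    · intro a b hab'
      have h2 : (a : G) • β = (b : G) • β := congrArg Subtype.val hab'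
      have h3 : ((b : G)⁻¹ * a) • β = β := by
        rw [mul_smul, h2, smul_smul, inv_mul_cancel, one_smul]
      have h4 := eq_one_of_mem_of_smul D hab (mul_mem (inv_mem b.2) a.2) h3
      rw [inv_mul_eq_one] at h4
      exact Subtype.ext h4.symm
  rw [D.card α, Nat.card_eq_fintype_card, Fintype.card_subtype_compl, Fintype.card_subtype_eq]
    at h1
  have : 0 < Fintype.card (Sylow 2 G) := Fintype.card_pos
  omega

end Cfsg.Agent.Helper11.CIT
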