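import Mathlib
import Cfsg.Agent.Helper11.CITC

/-!
# Groups in which the centralizer of every involution is an elementary abelian 2-group (part D)

The action on Sylow 2-subgroups is sharply 3-transitive; `PGL₂ ≃* PSL₂` over finite fields of
characteristic two.
-/

set_option autoImplicit false
set_option linter.unusedSectionVars false

namespace Cfsg.Agent.Helper11.CIT

open Subgroup MulAction
open scoped Classical

/-- `PGL₂(F) ≃* PSL₂(F)` for a finite field of characteristic two -/
theorem nonempty_pgl_equiv_psl {F : Type*} [Field F] [Fintype F] (hF : ringChar F = 2) :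
    Nonempty (Matrix.ProjGenLinGroup (Fin 2) F ≃* Matrix.ProjectiveSpecialLinearGroup (Fin 2) F) := by
  refine ⟨(MulEquiv.ofBijective Matrix.ProjectiveSpecialLinearGroup.toPGL
    ⟨Matrix.ProjectiveSpecialLinearGroup.toPGL_injective,
      Matrix.ProjectiveSpecialLinearGroup.toPGL_surj_of_roots ?_⟩).symm⟩
  intro r
  obtain ⟨k, hk⟩ := FiniteField.isSquare_of_char_two hF (r : F)
  have hk0 : k ≠ 0 := by
    rintro rfl
    rw [mul_zero] at hk
    exact r.ne_zero hk
  refine ⟨Units.mk0 k hk0, ?_⟩
  apply Units.ext
  rw [Fintype.card_fin, Units.val_pow_eq_pow_val, Units.val_mk0, sq]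
  exact hk.symm

variable {G : Type*} [Group G] [Fintype G] [Fintype (Sylow 2 G)] {q : ℕ}

theorem card_sylow_eq (D : Data G q) {α β : Sylow 2 G} (hab : α ≠ β) :
    Fintype.card (Sylow 2 G) = q + 1 := by
  have hn : 2 ≤ Fintype.card (Sylow 2 G) := by
    have : Nontrivial (Sylow 2 G) := ⟨⟨α, β, hab⟩⟩
    exact Fintype.one_lt_card
  exact le_antisymm (card_sylow_le D hn) (le_card_sylow D hab)

theorem card_group_eq (D : Data G q) {α β : Sylow 2 G} (hab : α ≠ β) :
    Fintype.card G = (q + 1) * q * (q - 1) := by
  have h3 : Nat.card (Sylow 2 G) * Nat.card (normalizer ((α : Subgroup G) : Set G)) = Nat.card G := by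
    rw [α.card_eq_index_normalizer]
    exact Subgroup.index_mul_card _
  rw [card_normalizer D hab, Nat.card_eq_fintype_card, card_sylow_eq D hab,
    Nat.card_eq_fintype_card] at h3
  rw [← h3]; ring

/-- an element fixing the three points of an embedding is trivial -/
theorem eq_one_of_fix (D : Data G q) (x : Fin 3 ↪ Sylow 2 G) {g : G} (hg : ∀ i, g • x i = x i) :
    g = 1 := by
  by_contra hg1
  have h01 : x 0 ≠ x 1 := fun h => by
    have := x.injective h
    exact absurd this (by decide)
  have h02 : x 0 ≠ x 2 := fun h => by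
    have := x.injective h
    exact absurd this (by decide)
  have h12 : x 1 ≠ x 2 := fun h => by
    have := x.injective h
    exact absurd this (by decide)
  exact no_three_fixed D h01 h02 h12 hg1 (hg 0) (hg 1) (hg 2)

/-- the action on triples is transitive -/
theorem exists_smul_eq (D : Data G q) {α β : Sylow 2 G} (hab : α ≠ β)
    (x y : Fin 3 ↪ Sylow 2 G) : ∃ g : G, ∀ i, g • x i = y i := by
  have hstab : stabilizer G x = ⊥ := by
    rw [eq_bot_iff]
    intro g hg
    rw [mem_stabilizer_iff] at hg
    rw [mem_bot]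
    refine eq_one_of_fix D x (fun i => ?_)
    have := congrArg (fun e : Fin 3 ↪ Sylow 2 G => e i) hg
    simpa using this
  have h1 := MulAction.card_orbit_mul_card_stabilizer_eq_card_group G x
  have h2 : Fintype.card (stabilizer G x) = 1 := by
    rw [← Nat.card_eq_fintype_card, hstab, Subgroup.card_bot]
  rw [h2, mul_one, card_group_eq D hab] at h1
  have h3 : Fintype.card (Fin 3 ↪ Sylow 2 G) = (q + 1) * q * (q - 1) := by
    rw [Fintype.card_embedding_eq, Fintype.card_fin, card_sylow_eq D hab]
    have hq := D.four_le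
    obtain ⟨r, rfl⟩ : ∃ r, q = r + 1 := ⟨q - 1, by omega⟩
    simp [Nat.descFactorial]
    ring
  have h4 : (orbit G x) = Set.univ := by
    have h5 : (orbit G x).toFinset = Finset.univ := by
      apply Finset.eq_univ_of_card
      rw [Set.toFinset_card, h1, h3]
    rw [← Set.toFinset_univ] at h5
    exact Set.toFinset_inj.mp h5
  have hy : y ∈ orbit G x := h4 ▸ Set.mem_univ y
  obtain ⟨g, hg⟩ := hy
  refine ⟨g, fun i => ?_⟩
  have := congrArg (fun e : Fin 3 ↪ Sylow 2 G => e i) hg
  simpa using this

end Cfsg.Agent.Helper11.CIT
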