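import Mathlib
import Cfsg.Agent.Helper6.Chev.TablesCommD4c0
import Cfsg.Agent.Helper6.Chev.TablesCommD4w
import Cfsg.Agent.Helper6.Chev.TablesCommE6c0
import Cfsg.Agent.Helper6.Chev.TablesCommE6w
import Cfsg.Agent.Helper6.Chev.TablesConj

/-!
# Chevalley's commutator formula for the types D₄, E₆ only

The same proof as helper6's `commF_of_tabulated`, restricted to the two types carrying the graph
automorphisms used for the twisted groups, so that the (heavy) tables of the types E₇, E₈ are not
imported.
-/

set_option autoImplicit false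

namespace Cfsg.Agent.Helper11.ChevCommDE

open Cfsg.Lie Cfsg.Agent.Helper6

theorem rowChk_D4' : ∀ r < chevD4.nroots, rowChkG chevD4 (ceLit chevD4 commPRow_D4)
    (wLit commW_D4 chevD4.nroots) (eLit commE_D4 chevD4.nroots) (depLit commDepRow_D4) commBases_D4 r = true := by
  apply rowChk_of_chunks 24 1 (by decide)
  intro j hj
  interval_cases j
  · exact reach2ChkR_D4_0

theorem rowChk_E6' : ∀ r < chevE6.nroots, rowChkG chevE6 (ceLit chevE6 commPRow_E6)
    (wLit commW_E6 chevE6.nroots) (eLit commE_E6 chevE6.nroots) (depLit commDepRow_E6) commBases_E6 r = true := by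
  apply rowChk_of_chunks 36 2 (by decide)
  intro j hj
  interval_cases j
  · exact reach2ChkR_E6_0
  · exact reach2ChkR_E6_1

/-- Chevalley's commutator formula for every pair of independent roots, types D₄, E₆ -/
theorem commF_DE {D : ChevalleyDatum} {F : Type*} [Field F]
    (hD : D ∈ [chevD4, chevE6])
    {r s : ℕ} (hr : r < D.nroots) (hs : s < D.nroots) (h1 : s ≠ r) (h2 : s ≠ D.neg r) :
    CommF D F r s := by
  have hD' : IsTabulated D := by
    simp only [List.mem_cons, List.not_mem_nil, or_false] at hD
    simp only [IsTabulated, List.mem_cons, List.not_mem_nil, or_false]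
    rcases hD with rfl | rfl <;> simp
  have hB := basicOK_of_tabulated hD'
  have hF := fastOK_of_tabulated hD'
  have hn := nroots_le_of_tabulated hD'
  have hA : ∀ i < D.rank, SimpleAll D i := fun i hi => simpleAll_of_tabulated hD' hi
  have key : ∃ (P : ℕ → ℕ) (W E : ℕ) (dep : ℕ → ℕ → ℕ) (bases : List (ℕ × ℕ)), litChkC D P = true ∧ (∀ i < D.rank, litChkW D W E i = true) ∧
      (∀ r < D.nroots, rowChkG D (ceLit D P) (wLit W D.nroots) (eLit E D.nroots) dep bases r = true) ∧
      basesChk D bases = true := by
    simp only [List.mem_cons, List.not_mem_nil, or_false] at hD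
    rcases hD with rfl | rfl
    · exact ⟨_, _, _, _, _, litChkC_D4, litChkW_D4, rowChk_D4', basesChk_D4⟩
    · exact ⟨_, _, _, _, _, litChkC_E6, litChkW_E6, rowChk_E6', basesChk_E6⟩
  obtain ⟨P, W, E, dep, bases, k0, k0', k1, k2⟩ := key
  exact commF_of_litChk hB hF hn hA k0 k0' k1 (commF_of_basesChk hB hF k2) r hr s hs h1 h2

end Cfsg.Agent.Helper11.ChevCommDE
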