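import Mathlib
import Cfsg.Agent.Helper6.Chev.TablesCommG2c0
import Cfsg.Agent.Helper6.Chev.TablesCommG2w
import Cfsg.Agent.Helper6.Chev.TablesCommB2c0
import Cfsg.Agent.Helper6.Chev.TablesCommB2w
import Cfsg.Agent.Helper6.Chev.TablesCommF4c0
import Cfsg.Agent.Helper6.Chev.TablesCommF4w
import Cfsg.Agent.Helper6.Chev.TablesConj

/-!
# Chevalley's commutator formula for the types G₂, B₂, F₄ only

The same proof as helper6's `commF_of_tabulated`, restricted to the three types with two root
lengths, so that the (heavy) tables of the types E₆, E₇, E₈ are not imported.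
-/

set_option autoImplicit false

namespace Cfsg.Agent.Helper11.ChevCommSmall

open Cfsg.Lie Cfsg.Agent.Helper6

theorem rowChk_G2' : ∀ r < chevG2.nroots, rowChkG chevG2 (ceLit chevG2 commPRow_G2)
    (wLit commW_G2 chevG2.nroots) (eLit commE_G2 chevG2.nroots) (depLit commDepRow_G2) commBases_G2 r = true := by
  apply rowChk_of_chunks 12 1 (by decide)
  intro j hj
  interval_cases j
  · exact reach2ChkR_G2_0

theorem rowChk_B2' : ∀ r < chevB2.nroots, rowChkG chevB2 (ceLit chevB2 commPRow_B2)
    (wLit commW_B2 chevB2.nroots) (eLit commE_B2 chevB2.nroots) (depLit commDepRow_B2) commBases_B2 r = true := by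
  apply rowChk_of_chunks 8 1 (by decide)
  intro j hj
  interval_cases j
  · exact reach2ChkR_B2_0

theorem rowChk_F4' : ∀ r < chevF4.nroots, rowChkG chevF4 (ceLit chevF4 commPRow_F4)
    (wLit commW_F4 chevF4.nroots) (eLit commE_F4 chevF4.nroots) (depLit commDepRow_F4) commBases_F4 r = true := by
  apply rowChk_of_chunks 48 1 (by decide)
  intro j hj
  interval_cases j
  · exact reach2ChkR_F4_0

/-- Chevalley's commutator formula for every pair of independent roots, types G₂, B₂, F₄ -/
theorem commF_small {D : ChevalleyDatum} {F : Type*} [Field F]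
    (hD : D ∈ [chevG2, chevB2, chevF4])
    {r s : ℕ} (hr : r < D.nroots) (hs : s < D.nroots) (h1 : s ≠ r) (h2 : s ≠ D.neg r) :
    CommF D F r s := by
  have hD' : IsTabulated D := by
    simp only [List.mem_cons, List.not_mem_nil, or_false] at hD
    simp only [IsTabulated, List.mem_cons, List.not_mem_nil, or_false]
    rcases hD with rfl | rfl | rfl <;> simp
  have hB := basicOK_of_tabulated hD'
  have hF := fastOK_of_tabulated hD'
  have hn := nroots_le_of_tabulated hD'
  have hA : ∀ i < D.rank, SimpleAll D i := fun i hi => simpleAll_of_tabulated hD' hi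
  have key : ∃ (P : ℕ → ℕ) (W E : ℕ) (dep : ℕ → ℕ → ℕ) (bases : List (ℕ × ℕ)), litChkC D P = true ∧ (∀ i < D.rank, litChkW D W E i = true) ∧
      (∀ r < D.nroots, rowChkG D (ceLit D P) (wLit W D.nroots) (eLit E D.nroots) dep bases r = true) ∧
      basesChk D bases = true := by
    simp only [List.mem_cons, List.not_mem_nil, or_false] at hD
    rcases hD with rfl | rfl | rfl
    · exact ⟨_, _, _, _, _, litChkC_G2, litChkW_G2, rowChk_G2', basesChk_G2⟩
    · exact ⟨_, _, _, _, _, litChkC_B2, litChkW_B2, rowChk_B2', basesChk_B2⟩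
    · exact ⟨_, _, _, _, _, litChkC_F4, litChkW_F4, rowChk_F4', basesChk_F4⟩
  obtain ⟨P, W, E, dep, bases, k0, k0', k1, k2⟩ := key
  exact commF_of_litChk hB hF hn hA k0 k0' k1 (commF_of_basesChk hB hF k2) r hr s hs h1 h2

end Cfsg.Agent.Helper11.ChevCommSmall
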