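import Mathlib
import Cfsg.Agent.Helper6.Chev.NCols

/-!
# A verified evaluator for words in root elements with integer coefficients

Words `[(r₁, c₁), (r₂, c₂), …]` with integer coefficients are applied to the basis vectors of the
adjoint module, the result being kept as a sparse list of `(code, coefficient)` reduced modulo `p`.
Two words whose results agree modulo `p` on every basis vector define the same matrix over every
field of characteristic `p`.
-/

set_option autoImplicit false
set_option linter.unusedSectionVars false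
set_option linter.unusedVariables false

namespace Cfsg.Agent.Helper11.ChevEval

open Cfsg.Lie Cfsg.Agent.Helper6

variable (D : ChevalleyDatum) (F : Type*) [Field F]

/-- the basis vector with code `k`: `h_k` for `k < rank`, `e_{k - rank}` otherwise -/
def bv (k : ℕ) : D.Idx → F := if k < D.rank then hv D F k else ev D F (k - D.rank)

/-- the code of a coordinate -/
def codeOf (i : D.Idx) : ℕ := Sum.elim (fun i => i.val) (fun s => D.rank + s.val) i

variable {D F}

theorem codeOf_inl (j : Fin D.rank) : codeOf D (Sum.inl j) = j.val := rfl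

theorem codeOf_inr (s : Fin D.nroots) : codeOf D (Sum.inr s) = D.rank + s.val := rfl

theorem bv_apply (k : ℕ) (i : D.Idx) : bv D F k i = if codeOf D i = k then 1 else 0 := by
  unfold bv
  rcases i with j | s
  · have := j.isLt
    rw [codeOf_inl]
    by_cases hk : k < D.rank
    · rw [if_pos hk, hv_apply_inl]
    · rw [if_neg hk, ev_apply_inl, if_neg (by omega)]
  · rw [codeOf_inr]
    by_cases hk : k < D.rank
    · rw [if_pos hk, hv_apply_inr, if_neg (by omega)]
    · rw [if_neg hk, ev_apply_inr]
      by_cases h : s.val = k - D.rank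
      · rw [if_pos h, if_pos (by omega)]
      · rw [if_neg h, if_neg (by omega)]

theorem bv_of_lt {k : ℕ} (hk : k < D.rank) : bv D F k = hv D F k := by
  unfold bv; rw [if_pos hk]

theorem bv_add (r : ℕ) : bv D F (D.rank + r) = ev D F r := by
  unfold bv; rw [if_neg (by omega), Nat.add_sub_cancel_left]

theorem bv_of_ge {k : ℕ} (hk : D.rank + D.nroots ≤ k) : bv D F k = 0 := by
  funext i
  rw [bv_apply]
  have : codeOf D i < D.rank + D.nroots := by
    rcases i with j | s
    · have := j.isLt; simp only [codeOf, Sum.elim_inl]; omega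
    · have := s.isLt; simp only [codeOf, Sum.elim_inr]; omega
  rw [if_neg (by omega)]; rfl

/-- formal vectors -/
abbrev FV := List (ℕ × ℤ)

variable (D F)

/-- the vector denoted by a formal vector -/
def evalFV (v : FV) : D.Idx → F := (v.map fun q => ((q.2 : ℤ) : F) • bv D F q.1).sum

variable {D F}

/-- the total coefficient of the basis vector with code `k` -/
def coefB (v : FV) (k : ℕ) : ℤ := ((v.filter fun q => q.1 == k).map Prod.snd).sum

theorem evalFV_nil : evalFV D F [] = 0 := rfl

theorem evalFV_cons (q : ℕ × ℤ) (v : FV) :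
    evalFV D F (q :: v) = ((q.2 : ℤ) : F) • bv D F q.1 + evalFV D F v := by
  simp [evalFV]

theorem evalFV_append (v w : FV) : evalFV D F (v ++ w) = evalFV D F v + evalFV D F w := by
  simp [evalFV]

theorem evalFV_flatMap (v : FV) (f : ℕ × ℤ → FV) :
    evalFV D F (v.flatMap f) = (v.map fun q => evalFV D F (f q)).sum := by
  induction v with
  | nil => rfl
  | cons q v ih => rw [List.flatMap_cons, evalFV_append, ih, List.map_cons, List.sum_cons]

theorem coefB_nil (k : ℕ) : coefB [] k = 0 := rfl

theorem coefB_cons (q : ℕ × ℤ) (v : FV) (k : ℕ) :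
    coefB (q :: v) k = (if q.1 = k then q.2 else 0) + coefB v k := by
  unfold coefB
  by_cases h : q.1 = k
  · rw [List.filter_cons_of_pos (by simpa using h)]; simp [h]
  · rw [List.filter_cons_of_neg (by simpa using h)]; simp [h]

theorem evalFV_apply (v : FV) (i : D.Idx) : evalFV D F v i = ((coefB v (codeOf D i) : ℤ) : F) := by
  induction v with
  | nil => simp [evalFV_nil, coefB_nil]
  | cons q v ih =>
    rw [evalFV_cons, coefB_cons, Pi.add_apply, ih, Pi.smul_apply, bv_apply]
    by_cases h : codeOf D i = q.1
    · rw [if_pos h, if_pos h.symm]; push_cast; simp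
    · rw [if_neg h, if_neg (fun e => h e.symm)]; push_cast; simp

/-- two formal vectors with coefficients congruent modulo `p` denote the same vector -/
theorem evalFV_congr {p : ℕ} [CharP F p] {v w : FV}
    (h : ∀ k < D.rank + D.nroots, (p : ℤ) ∣ coefB v k - coefB w k) :
    evalFV D F v = evalFV D F w := by
  funext i
  rw [evalFV_apply, evalFV_apply]
  have hlt : codeOf D i < D.rank + D.nroots := by
    rcases i with j | s
    · have := j.isLt; simp only [codeOf, Sum.elim_inl]; omega
    · have := s.isLt; simp only [codeOf, Sum.elim_inr]; omega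
  have h0 : ((coefB v (codeOf D i) - coefB w (codeOf D i) : ℤ) : F) = 0 :=
    (CharP.intCast_eq_zero_iff F p _).2 (h _ hlt)
  push_cast at h0
  exact sub_eq_zero.1 h0

variable (D)

/-- the column of `x_r(c)` at a formal basis vector -/
def colF (r : ℕ) (c : ℤ) (q : ℕ × ℤ) : FV :=
  if q.1 < D.rank then [q, (D.rank + r, -(q.2 * D.cartan q.1 r * c))]
  else
    if q.1 - D.rank = r then [q]
    else if q.1 - D.rank = D.neg r then
      q :: (((List.range D.rank).map fun i => (i, q.2 * c * corootC D r i)) ++
        [(D.rank + r, -(q.2 * c ^ 2))])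
    else q :: ((D.chainEntry r (q.1 - D.rank)).zipIdx.map fun e =>
      (D.rank + e.1.1, q.2 * e.1.2 * c ^ (e.2 + 1)))

/-- one step: apply `x_r(c)` -/
def stepFV (r : ℕ) (c : ℤ) (v : FV) : FV :=
  (v.filter fun q => q.1 < D.rank + D.nroots).flatMap (colF D r c)

/-- collect the coefficients and reduce them modulo `p` -/
def normFV (p : ℕ) (v : FV) : FV :=
  (List.range (D.rank + D.nroots)).filterMap fun k =>
    if coefB v k % (p : ℤ) = 0 then none else some (k, coefB v k % (p : ℤ))

/-- apply a word to the basis vector with code `k` -/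
def runFV (p : ℕ) (w : List (ℕ × ℤ)) (k : ℕ) : FV :=
  w.foldr (fun rc v => normFV D p (stepFV D rc.1 rc.2 v)) [(k, 1)]

/-- the check that two words agree modulo `p` -/
def checkW (p : ℕ) (w₁ w₂ : List (ℕ × ℤ)) : Bool :=
  (List.range (D.rank + D.nroots)).all fun k =>
    (List.range (D.rank + D.nroots)).all fun j =>
      (coefB (runFV D p w₁ k) j - coefB (runFV D p w₂ k) j) % (p : ℤ) == 0

variable {D}

theorem hr_eq_list (r : ℕ) :
    hr D F r = ((List.range D.rank).map fun i => ((corootC D r i : ℤ) : F) • hv D F i).sum := by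
  unfold hr
  generalize D.rank = n
  induction n with
  | zero => simp
  | succ n ih => rw [Finset.sum_range_succ, ih, List.range_succ, List.map_append, List.sum_append]; simp

theorem chainVec_eq_list (t : F) (k : ℕ) (L : List (ℕ × ℤ)) :
    chainVec D F t k L =
      ((L.zipIdx k).map fun e => (((e.1.2 : ℤ) : F) * t ^ (e.2 + 1)) • ev D F e.1.1).sum := by
  induction L generalizing k with
  | nil => simp [chainVec]
  | cons q L ih =>
    simp only [chainVec, List.zipIdx_cons, List.map_cons, List.sum_cons]
    rw [ih (k + 1)]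

theorem evalFV_map_hv (a c : ℤ) (r n : ℕ) (hn : n ≤ D.rank) :
    evalFV D F ((List.range n).map fun i => (i, a * c * corootC D r i)) =
      (((a : ℤ) : F) * ((c : ℤ) : F)) •
        ((List.range n).map fun i => ((corootC D r i : ℤ) : F) • hv D F i).sum := by
  induction n with
  | zero => simp [evalFV_nil]
  | succ n ih =>
    rw [List.range_succ, List.map_append, List.map_append, evalFV_append, List.sum_append, smul_add,
      ih (by omega)]
    congr 1
    simp only [List.map_cons, List.map_nil, List.sum_cons, List.sum_nil, add_zero]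
    rw [evalFV_cons, evalFV_nil, add_zero, bv_of_lt (by omega)]
    push_cast
    rw [smul_smul]

theorem evalFV_map_chain (a c : ℤ) (k : ℕ) (L : List (ℕ × ℤ)) :
    evalFV D F ((L.zipIdx k).map fun e => (D.rank + e.1.1, a * e.1.2 * c ^ (e.2 + 1))) =
      ((a : ℤ) : F) • ((L.zipIdx k).map fun e =>
        (((e.1.2 : ℤ) : F) * ((c : ℤ) : F) ^ (e.2 + 1)) • ev D F e.1.1).sum := by
  induction L generalizing k with
  | nil => simp [evalFV_nil]
  | cons q L ih =>
    simp only [List.zipIdx_cons, List.map_cons, List.sum_cons]
    rw [evalFV_cons, ih (k + 1), smul_add, bv_add]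
    congr 1
    push_cast
    rw [smul_smul]
    congr 1
    ring

/-- the column lemma -/
theorem mulVec_colF (hB : BasicOK D) (r : Fin D.nroots) (c : ℤ) (q : ℕ × ℤ)
    (hq : q.1 < D.rank + D.nroots) :
    (D.xMat F r ((c : ℤ) : F)).mulVec (((q.2 : ℤ) : F) • bv D F q.1) =
      evalFV D F (colF D r.val c q) := by
  rw [Matrix.mulVec_smul]
  unfold colF
  by_cases h1 : q.1 < D.rank
  · rw [if_pos h1, bv_of_lt h1, xMat_mulVec_hv r _ h1, evalFV_cons, evalFV_cons, evalFV_nil, add_zero,
      bv_of_lt h1, bv_add, smul_sub, sub_eq_add_neg]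
    congr 1
    push_cast
    rw [smul_smul, ← neg_smul]
    congr 1
    ring
  · rw [if_neg h1]
    have e1 : bv D F q.1 = ev D F (q.1 - D.rank) := by unfold bv; rw [if_neg h1]
    have hs : q.1 - D.rank < D.nroots := by omega
    rw [e1]
    by_cases h2 : q.1 - D.rank = r.val
    · rw [if_pos h2, h2, xMat_mulVec_ev_self, evalFV_cons, evalFV_nil, add_zero, e1, h2]
    · rw [if_neg h2]
      by_cases h3 : q.1 - D.rank = D.neg r.val
      · rw [if_pos h3, h3, xMat_mulVec_ev_neg hB.neg, evalFV_cons, evalFV_append, evalFV_cons,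
          evalFV_nil, add_zero, e1, h3, bv_add, evalFV_map_hv _ _ _ _ le_rfl, ← hr_eq_list,
          smul_sub, smul_add, sub_eq_add_neg, add_assoc]
        congr 1
        congr 1
        · rw [smul_smul]
        · push_cast
          rw [smul_smul, ← neg_smul]
      · rw [if_neg h3, xMat_mulVec_ev hB.keys r _ hs h2 h3, evalFV_cons, e1, smul_add,
          chainVec_eq_list, evalFV_map_chain]

theorem evalFV_filter (v : FV) :
    evalFV D F (v.filter fun q => q.1 < D.rank + D.nroots) = evalFV D F v := by
  induction v with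
  | nil => rfl
  | cons q v ih =>
    by_cases h : q.1 < D.rank + D.nroots
    · rw [List.filter_cons_of_pos (by simpa using h), evalFV_cons, evalFV_cons, ih]
    · rw [List.filter_cons_of_neg (by simpa using h), evalFV_cons, ih, bv_of_ge (by omega),
        smul_zero, zero_add]

theorem mulVec_evalFV (hB : BasicOK D) (r : Fin D.nroots) (c : ℤ) (v : FV) :
    (D.xMat F r ((c : ℤ) : F)).mulVec (evalFV D F v) = evalFV D F (stepFV D r.val c v) := by
  unfold stepFV
  rw [← evalFV_filter v, evalFV_flatMap]
  generalize hv' : (v.filter fun q => q.1 < D.rank + D.nroots) = v'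
  have hall : ∀ q ∈ v', q.1 < D.rank + D.nroots := by
    intro q hq
    rw [← hv'] at hq
    simpa using (List.mem_filter.1 hq).2
  clear hv'
  induction v' with
  | nil => simp [evalFV_nil]
  | cons q v' ih =>
    rw [evalFV_cons, Matrix.mulVec_add, List.map_cons, List.sum_cons,
      mulVec_colF hB r c q (hall q List.mem_cons_self),
      ih (fun q' hq' => hall q' (List.mem_cons_of_mem _ hq'))]

theorem coefB_filterMap (g : ℕ → ℤ) : ∀ (L : List ℕ), L.Nodup → ∀ k,
    coefB (L.filterMap fun j => if g j = 0 then none else some (j, g j)) k =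
      if k ∈ L then g k else 0 := by
  intro L
  induction L with
  | nil => intro _ k; simp [coefB_nil]
  | cons j L ih =>
    intro hnd k
    rw [List.nodup_cons] at hnd
    rw [List.filterMap_cons]
    by_cases hg : g j = 0
    · rw [if_pos hg, ih hnd.2 k]
      by_cases hk : k = j
      · subst hk
        rw [if_neg hnd.1, if_pos List.mem_cons_self, hg]
      · simp only [List.mem_cons, hk, false_or]
    · rw [if_neg hg]
      simp only
      rw [coefB_cons, ih hnd.2 k]
      by_cases hk : k = j
      · subst hk
        rw [if_pos rfl, if_neg hnd.1, if_pos List.mem_cons_self, add_zero]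
      · rw [if_neg (fun e => hk e.symm), zero_add]
        simp only [List.mem_cons, hk, false_or]

theorem evalFV_normFV {p : ℕ} [CharP F p] (v : FV) : evalFV D F (normFV D p v) = evalFV D F v := by
  apply evalFV_congr (p := p)
  intro k hk
  unfold normFV
  rw [coefB_filterMap (fun k => coefB v k % (p : ℤ)) _ List.nodup_range k,
    if_pos (List.mem_range.2 hk)]
  have h := Int.emod_add_mul_ediv (coefB v k) (p : ℤ)
  exact ⟨-(coefB v k / (p : ℤ)), by rw [mul_neg]; linarith⟩

theorem evalFV_single (k : ℕ) : evalFV D F [(k, 1)] = bv D F k := by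
  rw [evalFV_cons, evalFV_nil, add_zero]; simp

/-- the result of the evaluator is the image of the basis vector -/
theorem wordMat_mulVec (hB : BasicOK D) {p : ℕ} [CharP F p] (w : List (ℕ × ℤ))
    (hw : ∀ q ∈ w, q.1 < D.nroots) (k : ℕ) :
    (D.wordMat F (w.map fun q => (q.1, ((q.2 : ℤ) : F)))).mulVec (bv D F k) =
      evalFV D F (runFV D p w k) := by
  induction w with
  | nil =>
    simp only [List.map_nil, ChevalleyDatum.wordMat, List.prod_nil, Matrix.one_mulVec, runFV,
      List.foldr_nil]
    exact (evalFV_single k).symm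
  | cons q w ih =>
    have hq := hw q List.mem_cons_self
    have e : D.wordMat F ((q :: w).map fun q => (q.1, ((q.2 : ℤ) : F))) =
        D.xMat F ⟨q.1, hq⟩ ((q.2 : ℤ) : F) * D.wordMat F (w.map fun q => (q.1, ((q.2 : ℤ) : F))) := by
      unfold ChevalleyDatum.wordMat
      rw [List.map_cons, List.map_cons, List.prod_cons, x_of_lt hq]
    rw [e, ← Matrix.mulVec_mulVec, ih (fun q' hq' => hw q' (List.mem_cons_of_mem _ hq')),
      mulVec_evalFV hB]
    unfold runFV
    rw [List.foldr_cons, evalFV_normFV]

/-- two words which pass the check define the same matrix in characteristic `p` -/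
theorem wordMat_eq_of_check (hB : BasicOK D) {p : ℕ} [CharP F p] {w₁ w₂ : List (ℕ × ℤ)}
    (hw₁ : ∀ q ∈ w₁, q.1 < D.nroots) (hw₂ : ∀ q ∈ w₂, q.1 < D.nroots)
    (h : checkW D p w₁ w₂ = true) :
    D.wordMat F (w₁.map fun q => (q.1, ((q.2 : ℤ) : F))) =
      D.wordMat F (w₂.map fun q => (q.1, ((q.2 : ℤ) : F))) := by
  unfold checkW at h
  rw [List.all_eq_true] at h
  have key : ∀ k < D.rank + D.nroots,
      (D.wordMat F (w₁.map fun q => (q.1, ((q.2 : ℤ) : F)))).mulVec (bv D F k) =
      (D.wordMat F (w₂.map fun q => (q.1, ((q.2 : ℤ) : F)))).mulVec (bv D F k) := by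
    intro k hk
    rw [wordMat_mulVec hB (p := p) w₁ hw₁, wordMat_mulVec hB (p := p) w₂ hw₂]
    apply evalFV_congr (p := p)
    intro j hj
    have h1 := h k (List.mem_range.2 hk)
    rw [List.all_eq_true] at h1
    have h2 := h1 j (List.mem_range.2 hj)
    rw [beq_iff_eq] at h2
    exact Int.dvd_of_emod_eq_zero h2
  apply matrix_ext_basis
  · intro i hi
    have := key i (by omega)
    rwa [bv_of_lt hi] at this
  · intro s hs
    have := key (D.rank + s) (by omega)
    rwa [bv_add] at this

end Cfsg.Agent.Helper11.ChevEval
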