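import Mathlib
import Cfsg.Agent.Helper11.ChevOrbitTables
import Cfsg.Agent.Helper11.ChevCommSmall

/-!
# Generation of the tabulated Chevalley groups by `N` and one or two root subgroups
-/

set_option autoImplicit false

namespace Cfsg.Agent.Helper11.ChevOrbit

open Cfsg.Lie Cfsg.Agent.Helper6

variable {D : ChevalleyDatum} {F : Type*} [Field F]

/-- one orbit covering all roots -/
theorem group_le_of_one (hD : IsTabulated D) {M : Subgroup (GL D.Idx F)}
    (hN : D.monomialSubgroup F ≤ M) {p Tp : ℕ}
    (hcp : lvlChk D p Tp 255 = true)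
    (hcov : allLt D.nroots (fun r => Nat.blt (lvlOf Tp r) 255) = true)
    (hp : ∀ t : F, xU (basicOK_of_tabulated hD) p t ∈ M) : D.group F ≤ M := by
  have hB := basicOK_of_tabulated hD
  have hA : ∀ i < D.rank, SimpleAll D i := fun i hi => simpleAll_of_tabulated hD hi
  simp only [allLt_iff, Nat.blt_eq] at hcov
  apply group_le_of_cover hB
  intro r hr t
  exact xU_mem_of_reachFrom hB hA hN hp
    (reachFrom_of_lvlChk hB (fastOK_of_tabulated hD) (nroots_le_of_tabulated hD) hA hcp r hr
      (hcov r hr)) t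

/-- two orbits covering all roots -/
theorem group_le_of_two (hD : IsTabulated D) {M : Subgroup (GL D.Idx F)}
    (hN : D.monomialSubgroup F ≤ M) {p q Tp Tq : ℕ}
    (hcp : lvlChk D p Tp 255 = true) (hcq : lvlChk D q Tq 255 = true)
    (hcov : allLt D.nroots
      (fun r => Nat.blt (lvlOf Tp r) 255 || Nat.blt (lvlOf Tq r) 255) = true)
    (hp : ∀ t : F, xU (basicOK_of_tabulated hD) p t ∈ M)
    (hq : ∀ t : F, xU (basicOK_of_tabulated hD) q t ∈ M) : D.group F ≤ M := by
  have hB := basicOK_of_tabulated hD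
  have hA : ∀ i < D.rank, SimpleAll D i := fun i hi => simpleAll_of_tabulated hD hi
  simp only [allLt_iff, Nat.blt_eq, Bool.or_eq_true] at hcov
  apply group_le_of_cover hB
  intro r hr t
  rcases hcov r hr with h | h
  · exact xU_mem_of_reachFrom hB hA hN hp
      (reachFrom_of_lvlChk hB (fastOK_of_tabulated hD) (nroots_le_of_tabulated hD) hA hcp r hr h) t
  · exact xU_mem_of_reachFrom hB hA hN hq
      (reachFrom_of_lvlChk hB (fastOK_of_tabulated hD) (nroots_le_of_tabulated hD) hA hcq r hr h) t

/-- two orbits covering all roots, the second reached from the first by the commutator formula -/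
theorem group_le_of_comm (hD : D ∈ [chevG2, chevB2, chevF4]) (hDt : IsTabulated D)
    {M : Subgroup (GL D.Idx F)}
    (hN : D.monomialSubgroup F ≤ M) {p q Tp Tq a b : ℕ} {c : ℤ}
    (hcp : lvlChk D p Tp 255 = true) (hcq : lvlChk D q Tq 255 = true)
    (hcov : allLt D.nroots
      (fun r => Nat.blt (lvlOf Tp r) 255 || Nat.blt (lvlOf Tq r) 255) = true)
    (ha : a < D.nroots) (hb : b < D.nroots) (hab : b ≠ a) (hab' : b ≠ D.neg a)
    (hla : lvlOf Tp a < 255) (hlb : lvlOf Tp b < 255)
    (hterms : D.commTerms a b = [(q, c, 1, 1)]) (hc : (c : F) ≠ 0)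
    (hp : ∀ t : F, xU (basicOK_of_tabulated hDt) p t ∈ M) : D.group F ≤ M := by
  have hB := basicOK_of_tabulated hDt
  have hA : ∀ i < D.rank, SimpleAll D i := fun i hi => simpleAll_of_tabulated hDt hi
  have hreach := reachFrom_of_lvlChk hB (fastOK_of_tabulated hDt) (nroots_le_of_tabulated hDt) hA hcp
  have hxa := xU_mem_of_reachFrom hB hA hN hp (hreach a ha hla)
  have hxb := xU_mem_of_reachFrom hB hA hN hp (hreach b hb hlb)
  have hq := xU_mem_of_commF hB hc
    (Cfsg.Agent.Helper11.ChevCommSmall.commF_small (F := F) hD ha hb hab hab') hterms hxa hxb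
  exact group_le_of_two hDt hN hcp hcq hcov hp hq

end Cfsg.Agent.Helper11.ChevOrbit
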