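import Mathlib
import Cfsg.Agent.Helper6.Chev.GLvl
import Cfsg.Agent.Helper6.Chev.TablesReach
import Cfsg.Agent.Helper6.Chev.CommTrans

/-!
# Orbits of roots under the fundamental reflections, and generation of the tabulated Chevalley groups

`ReachFrom D p r`: the root `r` is obtained from the root `p` by reflections in fundamental roots.
`reachFrom_of_lvlChk`: a level table certificate (checked by the kernel) gives `ReachFrom`.
`xU_mem_of_reachFrom`: a subgroup containing `N` and `X_p` contains `X_r` for `r` reachable from `p`.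
`group_le_of_cover`: a subgroup containing `X_r` for all roots `r` contains the Chevalley group.
`xU_mem_of_commF`: from the commutator formula `[x_a, x_b] = x_r(c t u)` with `c ≠ 0`.
-/

set_option autoImplicit false

namespace Cfsg.Agent.Helper11.ChevOrbit

open Cfsg.Lie Cfsg.Agent.Helper6

/-- roots reachable from the root `p` by reflections in fundamental roots -/
inductive ReachFrom (D : ChevalleyDatum) (p : ℕ) : ℕ → Prop
  | base : ReachFrom D p p
  | step {i s : ℕ} (hi : i < D.rank) (hs : s < D.nroots) :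
      ReachFrom D p s → ReachFrom D p (wR D (D.simple i) s)

/-- level table packed in base 256 -/
def lvlOf (T : ℕ) (r : ℕ) : ℕ := digitN 256 T r

/-- the level certificate: a root of level `< big` is `p` or is sent by a fundamental reflection to
a root of smaller level -/
def lvlChk (D : ChevalleyDatum) (p T big : ℕ) : Bool :=
  allLt D.nroots fun r =>
    Nat.ble big (lvlOf T r) || Nat.beq r p ||
      anyLt D.rank fun i => Nat.blt (lvlOf T (wD D i r)) (lvlOf T r)

variable {D : ChevalleyDatum} {F : Type*} [Field F]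

theorem reachFrom_of_lvlChk (hB : BasicOK D) (hF : FastOK D) (hn : D.nroots ≤ 256)
    (hA : ∀ i < D.rank, SimpleAll D i) {p T big : ℕ} (h : lvlChk D p T big = true) :
    ∀ r < D.nroots, lvlOf T r < big → ReachFrom D p r := by
  simp only [lvlChk, allLt_iff, Bool.or_eq_true, Nat.ble_eq, Nat.beq_eq, anyLt_iff,
    Nat.blt_eq] at h
  have hw : ∀ i < D.rank, ∀ s < D.nroots, wD D i s = wR D (D.simple i) s := fun i hi s hs =>
    wD_eq hF hn (fun s hs => wR_lt hB (hA i hi).hS.1 (hA i hi).hR hs) hs
  intro r
  induction hl : lvlOf T r using Nat.strong_induction_on generalizing r with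
  | _ l ih =>
    intro hr hlt
    rcases h r hr with (h1 | h1) | ⟨i, hi, h1⟩
    · omega
    · rw [h1]; exact ReachFrom.base
    · rw [hw i hi r hr] at h1
      have hwr : wR D (D.simple i) r < D.nroots := wR_lt hB (hA i hi).hS.1 (hA i hi).hR hr
      have := ReachFrom.step hi hwr
        (ih _ (by omega) (wR D (D.simple i) r) rfl hwr (by omega))
      rwa [wR_wR hB (hA i hi) hr] at this

/-- a subgroup containing `N` and the root subgroup `X_p` contains `X_r` for every `r` reachable
from `p` -/
theorem xU_mem_of_reachFrom (hB : BasicOK D) (hA : ∀ i < D.rank, SimpleAll D i)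
    {M : Subgroup (GL D.Idx F)} (hN : D.monomialSubgroup F ≤ M) {p r : ℕ}
    (hp : ∀ t : F, xU hB p t ∈ M) (h : ReachFrom D p r) : ∀ t : F, xU hB r t ∈ M := by
  induction h with
  | base => exact hp
  | @step i s hi hs _ ih =>
    intro t
    have hη := ((hA i hi).hE.2 s hs).1
    set η : ℤ := etaR D (D.simple i) s with hηdef
    have hηη : ((η : ℤ) : F) * ((η : ℤ) : F) = 1 := by
      rcases hη with h1 | h1 <;> rw [h1] <;> simp
    have hconj := nU_conj_xU (F := F) hB (hA i hi) hs (((η : ℤ) : F) * t)
    rw [← mul_assoc, hηη, one_mul] at hconj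
    have hn : nU hB (D.simple i) (one_ne_zero (α := F)) ∈ M :=
      hN (nU_one_mem_monomial hB (hA i hi).hS.1)
    rw [← hconj]
    exact Subgroup.mul_mem _ (Subgroup.mul_mem _ hn (ih _)) (Subgroup.inv_mem _ hn)

/-- a subgroup containing all root elements contains the Chevalley group -/
theorem group_le_of_cover (hB : BasicOK D) {M : Subgroup (GL D.Idx F)}
    (h : ∀ r < D.nroots, ∀ t : F, xU hB r t ∈ M) : D.group F ≤ M := by
  unfold ChevalleyDatum.group
  rw [Subgroup.closure_le]
  rintro g ⟨r, t, hgr⟩
  have : g = xU hB r.val t := by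
    apply Units.ext
    rw [hgr, xU_val, x_of_lt r.isLt]
  rw [this]
  exact h r.val r.isLt t

theorem xU_mem_rootSubgroup (hB : BasicOK D) (p : ℕ) (t : F) :
    xU hB p t ∈ D.rootSubgroup F p :=
  Subgroup.subset_closure ⟨t, rfl⟩

/-- from the commutator formula `[x_a(t), x_b(u)] = x_r(± c t u)`: if `c ≠ 0` in `F`, a subgroup
containing `X_a` and `X_b` contains `X_r` -/
theorem xU_mem_of_commF (hB : BasicOK D) {a b r : ℕ} {c : ℤ} (hc : (c : F) ≠ 0)
    (hcomm : CommF D F a b) (hterms : D.commTerms a b = [(r, c, 1, 1)])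
    {M : Subgroup (GL D.Idx F)} (ha : ∀ t : F, xU hB a t ∈ M) (hb : ∀ t : F, xU hB b t ∈ M) :
    ∀ v : F, xU hB r v ∈ M := by
  intro v
  have h1 := hcomm (-(v / (c : F))) 1
  have hw : D.commWord F a b (-(v / (c : F))) 1 = [(r, v)] := by
    unfold ChevalleyDatum.commWord
    rw [hterms]
    simp only [List.map_cons, List.map_nil, neg_neg, pow_one, mul_one]
    rw [mul_div_cancel₀ _ hc]
  rw [hw] at h1
  have h2 : xU hB b 1 * xU hB a (-(v / (c : F))) =
      xU hB a (-(v / (c : F))) * xU hB b 1 * xU hB r v := by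
    apply Units.ext
    simp only [Units.val_mul, xU_val]
    rw [h1]
    simp [ChevalleyDatum.wordMat]
  have h3 : xU hB r v = (xU hB a (-(v / (c : F))) * xU hB b 1)⁻¹ *
      (xU hB b 1 * xU hB a (-(v / (c : F)))) := by
    rw [h2]; group
  rw [h3]
  exact Subgroup.mul_mem _ (Subgroup.inv_mem _ (Subgroup.mul_mem _ (ha _) (hb _)))
    (Subgroup.mul_mem _ (hb _) (ha _))

end Cfsg.Agent.Helper11.ChevOrbit
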