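import Mathlib

set_option autoImplicit false

namespace Cfsg.Agent.Helper11.CoprimePairs

open scoped BigOperators

variable {M : Type*} [CommGroup M]

/-- `|G| = |ker f| * |range f|`. -/
theorem card_ker_mul_card_range {G H : Type*} [Group G] [Group H] (f : G →* H) :
    Nat.card f.ker * Nat.card f.range = Nat.card G := by
  rw [← Nat.card_congr (QuotientGroup.quotientKerEquivRange f).toEquiv, mul_comm]
  exact (Subgroup.card_eq_card_quotient_mul_card_subgroup f.ker).symm

/-- If `n` is coprime to `|M|` and `m ^ n ∈ H` then `m ∈ H`. -/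
theorem mem_of_pow_mem_of_coprime (H : Subgroup M) (n : ℕ) (hn : (Nat.card M).Coprime n) (m : M)
    (hm : m ^ n ∈ H) : m ∈ H := by
  have h1 : (powCoprime hn).symm ((powCoprime hn) m) = m := Equiv.symm_apply_apply _ _
  have h2 : (powCoprime hn).symm ((powCoprime hn) m) = (m ^ n) ^ ((Nat.card M).gcdB n) := rfl
  rw [← h1, h2]
  exact H.zpow_mem hm _

section avg

variable [Finite M]

variable (A : Subgroup (MulAut M))

/-- The norm (averaging) map `m ↦ ∏_{a ∈ A} a m`. -/
noncomputable def norm : M →* M :=
  letI : Fintype A := Fintype.ofFinite A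
  { toFun := fun m => ∏ a : A, (a : MulAut M) m
    map_one' := by simp
    map_mul' := fun x y => by simp [Finset.prod_mul_distrib] }

theorem norm_apply (m : M) :
    letI : Fintype A := Fintype.ofFinite A
    norm A m = ∏ a : A, (a : MulAut M) m := rfl

theorem norm_comp (b : MulAut M) (hb : b ∈ A) (m : M) : norm A (b m) = norm A m := by
  let _ : Fintype A := Fintype.ofFinite A
  rw [norm_apply, norm_apply]
  exact Fintype.prod_equiv (Equiv.mulRight (⟨b, hb⟩ : A)) _ _ (fun a => rfl)

theorem comp_norm (b : MulAut M) (hb : b ∈ A) (m : M) : b (norm A m) = norm A m := by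
  let _ : Fintype A := Fintype.ofFinite A
  rw [norm_apply, map_prod]
  exact Fintype.prod_equiv (Equiv.mulLeft (⟨b, hb⟩ : A)) _ _ (fun a => rfl)

theorem norm_of_fixed (m : M) (hm : ∀ a ∈ A, a m = m) : norm A m = m ^ Nat.card A := by
  let _ : Fintype A := Fintype.ofFinite A
  rw [norm_apply, Finset.prod_congr rfl (fun a _ => hm a.1 a.2), Finset.prod_const, Finset.card_univ,
    Nat.card_eq_fintype_card]

theorem prod_div_norm (m : M) :
    letI : Fintype A := Fintype.ofFinite A
    ∏ a : A, (m / (a : MulAut M) m) = m ^ Nat.card A / norm A m := by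
  let _ : Fintype A := Fintype.ofFinite A
  rw [Finset.prod_div_distrib, Finset.prod_const, Finset.card_univ, Nat.card_eq_fintype_card]
  rfl

end avg


section main

/-- The homomorphism `(v, w) ↦ (v / β v) / (w / α w)`. -/
def phi (α β : MulAut M) : M × M →* M where
  toFun p := (p.1 / β p.1) / (p.2 / α p.2)
  map_one' := by simp
  map_mul' x y := by
    simp only [Prod.fst_mul, Prod.snd_mul, map_mul]
    rw [mul_div_mul_comm, mul_div_mul_comm, mul_div_mul_comm]

theorem phi_apply (α β : MulAut M) (p : M × M) :
    phi α β p = (p.1 / β p.1) / (p.2 / α p.2) := rfl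

/-- Elements `a` of `closure {α, β}` satisfy `m / a m ∈ range (phi α β)`. -/
theorem div_mem_range (α β : MulAut M) (hαβ : α * β = β * α) (a : MulAut M)
    (ha : a ∈ Subgroup.closure ({α, β} : Set (MulAut M))) :
    (∀ x ∈ (phi α β).range, a x ∈ (phi α β).range) ∧ (∀ x ∈ (phi α β).range, a⁻¹ x ∈ (phi α β).range) ∧
      ∀ m, m / a m ∈ (phi α β).range := by
  have hαβ' : ∀ m, α (β m) = β (α m) := fun m => by
    have := congrArg (fun f : MulAut M => f m) hαβ
    simpa using this
  have hαinv : ∀ m, α⁻¹ (β m) = β (α⁻¹ m) := fun m => by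
    apply α.injective
    rw [hαβ']
    simp
  have hβinv : ∀ m, β⁻¹ (α m) = α (β⁻¹ m) := fun m => by
    apply β.injective
    rw [← hαβ']
    simp
  -- invariance under a commuting automorphism
  have hinv : ∀ c : MulAut M, (∀ m, c (β m) = β (c m)) → (∀ m, c (α m) = α (c m)) →
      ∀ x ∈ (phi α β).range, c x ∈ (phi α β).range := by
    rintro c h1 h2 _ ⟨p, rfl⟩
    refine ⟨(c p.1, c p.2), ?_⟩
    simp only [phi_apply, map_div, h1, h2]
  induction ha using Subgroup.closure_induction with
  | mem x hx =>
    rcases hx with rfl | hx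
    · refine ⟨hinv _ hαβ' (fun _ => rfl), hinv _ hαinv (fun m => by simp), fun m => ?_⟩
      have : m / x m = (phi x β (1, m))⁻¹ := by simp [phi_apply]
      rw [this]
      exact inv_mem ⟨_, rfl⟩
    · rw [Set.mem_singleton_iff] at hx
      subst hx
      refine ⟨hinv _ (fun _ => rfl) (fun m => (hαβ' m).symm), hinv _ (fun m => by simp) hβinv,
        fun m => ?_⟩
      exact ⟨(m, 1), by simp [phi_apply]⟩
  | one => exact ⟨fun x hx => hx, fun x hx => by simpa using hx, fun m => by simp⟩
  | mul a b _ _ iha ihb =>
    refine ⟨fun x hx => iha.1 _ (ihb.1 x hx), fun x hx => ?_, fun m => ?_⟩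
    · rw [mul_inv_rev]
      exact ihb.2.1 _ (iha.2.1 x hx)
    · have : m / (a * b) m = (m / a m) * a (m / b m) := by
        simp [MulAut.mul_apply, map_div]
      rw [this]
      exact mul_mem (iha.2.2 m) (iha.1 _ (ihb.2.2 m))
  | inv a _ iha =>
    refine ⟨iha.2.1, fun x hx => by simpa using iha.1 x hx, fun m => ?_⟩
    have : m / a⁻¹ m = a⁻¹ ((m / a m)⁻¹) := by
      simp [map_div]
    rw [this]
    exact iha.2.1 _ (inv_mem (iha.2.2 m))


variable [Finite M]

/-- **Counting lemma.** For commuting automorphisms `α, β` of a finite abelian group `M` lying in a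
subgroup of `MulAut M` of order coprime to `|M|`, the number of pairs `(v, w)` with
`v / β v = w / α w` is `|M| * |C_M(α, β)|`. -/
theorem card_pairs (B : Subgroup (MulAut M)) (hcop : (Nat.card B).Coprime (Nat.card M))
    (α β : MulAut M) (hα : α ∈ B) (hβ : β ∈ B) (hαβ : α * β = β * α) :
    Nat.card {p : M × M // p.1 / β p.1 = p.2 / α p.2} =
      Nat.card M * Nat.card {m : M // α m = m ∧ β m = m} := by
  set A : Subgroup (MulAut M) := Subgroup.closure ({α, β} : Set (MulAut M)) with hA
  have hAB : A ≤ B := by
    rw [hA, Subgroup.closure_le]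
    rintro x (rfl | hx)
    · exact hα
    · rw [Set.mem_singleton_iff] at hx; subst hx; exact hβ
  have hαA : α ∈ A := Subgroup.subset_closure (by simp)
  have hβA : β ∈ A := Subgroup.subset_closure (by simp)
  have hcopA : (Nat.card M).Coprime (Nat.card A) :=
    (Nat.Coprime.coprime_dvd_left (Subgroup.card_dvd_of_le hAB) hcop).symm
  have hfix : ∀ m : M, (α m = m ∧ β m = m) → ∀ a ∈ A, a m = m := by
    intro m hm a ha
    induction ha using Subgroup.closure_induction with
    | mem x hx =>
      rcases hx with rfl | hx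
      · exact hm.1
      · rw [Set.mem_singleton_iff] at hx; subst hx; exact hm.2
    | one => rfl
    | mul a b _ _ iha ihb => rw [MulAut.mul_apply, ihb, iha]
    | inv a _ iha =>
      apply a.injective
      rw [iha]; simp
  -- range φ = ker (norm A)
  have hrange : (phi α β).range = (norm A).ker := by
    apply le_antisymm
    · rintro _ ⟨p, rfl⟩
      rw [MonoidHom.mem_ker, phi_apply, map_div, map_div, map_div, norm_comp A β hβA,
        norm_comp A α hαA]
      simp
    · intro m hm
      rw [MonoidHom.mem_ker] at hm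
      apply mem_of_pow_mem_of_coprime _ (Nat.card A) hcopA
      letI : Fintype A := Fintype.ofFinite A
      have h1 := prod_div_norm A m
      rw [hm, div_one] at h1
      rw [← h1]
      apply Subgroup.prod_mem
      intro a _
      exact (div_mem_range α β hαβ a.1 a.2).2.2 m
  -- range (norm A) = fixed points
  have hcard_fix : Nat.card (norm A).range = Nat.card {m : M // α m = m ∧ β m = m} := by
    apply Nat.card_congr
    refine Equiv.subtypeEquivRight (fun m => ?_)
    constructor
    · rintro ⟨x, rfl⟩
      exact ⟨comp_norm A α hαA x, comp_norm A β hβA x⟩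
    · intro hm
      have hfixm := hfix m hm
      refine ⟨(powCoprime hcopA).symm m, ?_⟩
      have h2 : ∀ a ∈ A, a ((powCoprime hcopA).symm m) = (powCoprime hcopA).symm m := by
        intro a ha
        have : (powCoprime hcopA).symm m = m ^ ((Nat.card M).gcdB (Nat.card A)) := rfl
        rw [this, map_zpow, hfixm a ha]
      rw [norm_of_fixed A _ h2]
      exact (powCoprime hcopA).apply_symm_apply m
  have h1 := card_ker_mul_card_range (phi α β)
  have h2 := card_ker_mul_card_range (norm A)
  rw [hrange, Nat.card_prod] at h1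
  rw [hcard_fix] at h2
  have hker : Nat.card {p : M × M // p.1 / β p.1 = p.2 / α p.2} = Nat.card (phi α β).ker := by
    apply Nat.card_congr
    refine Equiv.subtypeEquivRight (fun p => ?_)
    rw [MonoidHom.mem_ker, phi_apply, div_eq_one]
  rw [hker]
  have hpos : 0 < Nat.card (norm A).ker := Nat.card_pos
  apply Nat.eq_of_mul_eq_mul_right hpos
  rw [h1, mul_assoc, mul_comm (Nat.card _) (Nat.card (norm A).ker), h2]

end main

end Cfsg.Agent.Helper11.CoprimePairs
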