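import Mathlib
import Cfsg.Agent.Helper11.CoprimePairs

set_option autoImplicit false

namespace Cfsg.Agent.Helper11.ClassCount

open scoped BigOperators

variable {X : Type*} [Group X] [Finite X] (V G : Subgroup X)

/-- commuting condition on the `G`-parts. -/
def CG (gh : ↥G × ↥G) : Prop := gh.1 * gh.2 = gh.2 * gh.1

/-- commuting condition on the `V`-parts. -/
def DV (gh : ↥G × ↥G) (q : ↥V × ↥V) : Prop :=
  (q.1 : X) * ((gh.1 : X) * q.2 * (gh.1 : X)⁻¹) = (q.2 : X) * ((gh.2 : X) * q.1 * (gh.2 : X)⁻¹)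

/-- centralizing condition. -/
def ZV (gh : ↥G × ↥G) (x : X) : Prop :=
  (gh.1 : X) * x = x * gh.1 ∧ (gh.2 : X) * x = x * gh.2

variable {V G}

theorem commute_iff [V.Normal] (hGV : Subgroup.IsComplement' V G) (v w : ↥V) (g h : ↥G) :
    Commute ((v : X) * g) ((w : X) * h) ↔ CG G (g, h) ∧ DV V G (g, h) (v, w) := by
  have hinj : Function.Injective (fun x : ↥V × ↥G => (x.1 : X) * x.2) := hGV.1
  have h1 : (v : X) * g * ((w : X) * h) =
      ((v : X) * ((g : X) * w * (g : X)⁻¹)) * ((g : X) * h) := by group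
  have h2 : (w : X) * h * ((v : X) * g) =
      ((w : X) * ((h : X) * v * (h : X)⁻¹)) * ((h : X) * g) := by group
  have hm1 : (v : X) * ((g : X) * w * (g : X)⁻¹) ∈ V :=
    V.mul_mem v.2 (Subgroup.Normal.conj_mem inferInstance _ w.2 _)
  have hm2 : (w : X) * ((h : X) * v * (h : X)⁻¹) ∈ V :=
    V.mul_mem w.2 (Subgroup.Normal.conj_mem inferInstance _ v.2 _)
  unfold CG DV
  constructor
  · intro hc
    have hc' : (v : X) * g * ((w : X) * h) = (w : X) * h * ((v : X) * g) := hc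
    rw [h1, h2] at hc'
    have := @hinj (⟨_, hm1⟩, g * h) (⟨_, hm2⟩, h * g) hc'
    rw [Prod.mk.injEq] at this
    exact ⟨this.2, congrArg Subtype.val this.1⟩
  · rintro ⟨hc, hd⟩
    show (v : X) * g * ((w : X) * h) = (w : X) * h * ((v : X) * g)
    rw [h1, h2]
    simp only at hc hd
    rw [hd]
    congr 1
    exact congrArg Subtype.val hc

/-- Step 1: decompose the set of commuting pairs of `X = V ⋊ G`. -/
theorem step1 [V.Normal] (hGV : Subgroup.IsComplement' V G) :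
    Nat.card {p : X × X // Commute p.1 p.2} =
      ∑ᶠ gh : ↥G × ↥G, Nat.card {q : ↥V × ↥V // CG G gh ∧ DV V G gh q} := by
  classical
  letI : Fintype (↥G × ↥G) := Fintype.ofFinite _
  have hbij : Function.Bijective (fun x : ↥V × ↥G => (x.1 : X) * x.2) := hGV
  let e : ↥V × ↥G ≃ X := Equiv.ofBijective _ hbij
  have he : ∀ x : ↥V × ↥G, e x = (x.1 : X) * x.2 := fun x => rfl
  rw [finsum_eq_sum_of_fintype]
  calc Nat.card {p : X × X // Commute p.1 p.2}
      = Nat.card {t : (↥V × ↥G) × (↥V × ↥G) // Commute (e t.1) (e t.2)} := by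
        apply Nat.card_congr
        exact (Equiv.subtypeEquiv (Equiv.prodCongr e e) (fun t => by simp)).symm
    _ = Nat.card {t : (↥G × ↥G) × (↥V × ↥V) // CG G t.1 ∧ DV V G t.1 t.2} := by
        apply Nat.card_congr
        refine Equiv.subtypeEquiv
          ((Equiv.prodProdProdComm ↥V ↥G ↥V ↥G).trans (Equiv.prodComm _ _)) ?_
        rintro ⟨⟨v, g⟩, ⟨w, h⟩⟩
        simp only [he]
        exact commute_iff hGV v w g h
    _ = Nat.card (Σ gh : ↥G × ↥G, {q : ↥V × ↥V // CG G gh ∧ DV V G gh q}) :=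
        Nat.card_congr (Equiv.subtypeProdEquivSigmaSubtype
          (fun (gh : ↥G × ↥G) (q : ↥V × ↥V) => CG G gh ∧ DV V G gh q))
    _ = _ := Nat.card_sigma


/-- Step 1b: the coprime-action count. -/
theorem step1b [V.Normal] (hab : ∀ a ∈ V, ∀ b ∈ V, a * b = b * a)
    (hcop : (Nat.card V).Coprime (Nat.card G)) (gh : ↥G × ↥G) :
    Nat.card {q : ↥V × ↥V // CG G gh ∧ DV V G gh q} =
      Nat.card V * Nat.card {v : ↥V // CG G gh ∧ ZV G gh (v : X)} := by
  by_cases hc : CG G gh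
  swap
  · have h1 : IsEmpty {q : ↥V × ↥V // CG G gh ∧ DV V G gh q} := ⟨fun q => hc q.2.1⟩
    have h2 : IsEmpty {v : ↥V // CG G gh ∧ ZV G gh (v : X)} := ⟨fun q => hc q.2.1⟩
    rw [@Nat.card_of_isEmpty _ h1, @Nat.card_of_isEmpty _ h2, mul_zero]
  obtain ⟨g, h⟩ := gh
  letI : CommGroup ↥V :=
    { (inferInstance : Group ↥V) with mul_comm := fun a b => Subtype.ext (hab a a.2 b b.2) }
  let ρ : ↥G →* MulAut ↥V := (MulAut.conjNormal (H := V)).comp G.subtype
  have hcopB : (Nat.card ρ.range).Coprime (Nat.card ↥V) :=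
    (Nat.Coprime.coprime_dvd_right (Subgroup.card_range_dvd ρ) hcop).symm
  have hαβ : ρ g * ρ h = ρ h * ρ g := by
    rw [← map_mul, ← map_mul]
    exact congrArg ρ hc
  have key := CoprimePairs.card_pairs ρ.range hcopB (ρ g) (ρ h) ⟨g, rfl⟩ ⟨h, rfl⟩ hαβ
  have hρ : ∀ (a : ↥G) (v : ↥V), ((ρ a v : ↥V) : X) = (a : X) * v * (a : X)⁻¹ := fun a v =>
    MulAut.conjNormal_apply (a : X) v
  have e1 : Nat.card {q : ↥V × ↥V // CG G (g, h) ∧ DV V G (g, h) q} =
      Nat.card {p : ↥V × ↥V // p.1 / ρ h p.1 = p.2 / ρ g p.2} := by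
    apply Nat.card_congr
    refine Equiv.subtypeEquivRight (fun q => ?_)
    rw [div_eq_div_iff_mul_eq_mul]
    constructor
    · rintro ⟨-, hd⟩
      apply Subtype.ext
      rw [Subgroup.coe_mul, Subgroup.coe_mul, hρ, hρ]
      exact hd
    · intro hd
      refine ⟨hc, ?_⟩
      have := congrArg Subtype.val hd
      rw [Subgroup.coe_mul, Subgroup.coe_mul, hρ, hρ] at this
      exact this
  have e2 : Nat.card {v : ↥V // CG G (g, h) ∧ ZV G (g, h) (v : X)} =
      Nat.card {m : ↥V // ρ g m = m ∧ ρ h m = m} := by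
    apply Nat.card_congr
    refine Equiv.subtypeEquivRight (fun v => ?_)
    have hiff : ∀ a : ↥G, ρ a v = v ↔ (a : X) * v = v * a := by
      intro a
      rw [Subtype.ext_iff, hρ, mul_inv_eq_iff_eq_mul]
    rw [hiff, hiff]
    unfold ZV
    constructor
    · rintro ⟨-, hz⟩; exact hz
    · intro hz; exact ⟨hc, hz⟩
  rw [e1, e2]
  exact key


variable (G) in
/-- number of commuting pairs of `G` centralizing `x`. -/
noncomputable def Fp (x : X) : ℕ := Nat.card {gh : ↥G × ↥G // CG G gh ∧ ZV G gh x}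

/-- Step 2: swap the order of summation. -/
theorem step2 : ∑ᶠ gh : ↥G × ↥G, Nat.card {v : ↥V // CG G gh ∧ ZV G gh (v : X)} =
    ∑ᶠ v : ↥V, Fp G (v : X) := by
  classical
  letI : Fintype (↥G × ↥G) := Fintype.ofFinite _
  letI : Fintype ↥V := Fintype.ofFinite _
  rw [finsum_eq_sum_of_fintype, finsum_eq_sum_of_fintype]
  unfold Fp
  rw [← Nat.card_sigma, ← Nat.card_sigma]
  apply Nat.card_congr
  calc (Σ gh : ↥G × ↥G, {v : ↥V // CG G gh ∧ ZV G gh (v : X)})
      ≃ {t : (↥G × ↥G) × ↥V // CG G t.1 ∧ ZV G t.1 (t.2 : X)} :=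
        (Equiv.subtypeProdEquivSigmaSubtype
          (fun (gh : ↥G × ↥G) (v : ↥V) => CG G gh ∧ ZV G gh (v : X))).symm
    _ ≃ {t : ↥V × (↥G × ↥G) // CG G t.2 ∧ ZV G t.2 (t.1 : X)} :=
        Equiv.subtypeEquiv (Equiv.prodComm _ _) (fun t => Iff.rfl)
    _ ≃ (Σ v : ↥V, {gh : ↥G × ↥G // CG G gh ∧ ZV G gh (v : X)}) :=
        Equiv.subtypeProdEquivSigmaSubtype
          (fun (v : ↥V) (gh : ↥G × ↥G) => CG G gh ∧ ZV G gh (v : X))

/-- `Fp G x = k(C_G(x)) * |C_G(x)|`. -/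
theorem Fp_eq (x : X) :
    Fp G x = Nat.card (ConjClasses ↥(G ⊓ Subgroup.centralizer ({x} : Set X))) *
      Nat.card ↥(G ⊓ Subgroup.centralizer ({x} : Set X)) := by
  rw [← card_comm_eq_card_conjClasses_mul_card]
  unfold Fp
  apply Nat.card_congr
  have hmem : ∀ a : ↥G, (a : X) * x = x * a → (a : X) ∈ G ⊓ Subgroup.centralizer ({x} : Set X) :=
    fun a ha => ⟨a.2, Subgroup.mem_centralizer_singleton_iff.mpr ha⟩
  refine
    { toFun := fun t => ⟨(⟨t.1.1, hmem _ t.2.2.1⟩, ⟨t.1.2, hmem _ t.2.2.2⟩), ?_⟩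
      invFun := fun p => ⟨(⟨p.1.1, p.1.1.2.1⟩, ⟨p.1.2, p.1.2.2.1⟩), ?_, ?_, ?_⟩
      left_inv := fun t => rfl
      right_inv := fun p => rfl }
  · have h := t.2.1
    unfold CG at h
    have h' : (t.1.1 : X) * t.1.2 = t.1.2 * t.1.1 := by simpa using congrArg Subtype.val h
    show _ * _ = _ * _
    exact Subtype.ext h'
  · have h : p.1.1 * p.1.2 = p.1.2 * p.1.1 := p.2
    have h' : ((p.1.1 : X)) * p.1.2 = p.1.2 * p.1.1 := by simpa using congrArg Subtype.val h
    unfold CG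
    exact Subtype.ext h'
  · exact Subgroup.mem_centralizer_singleton_iff.mp p.1.1.2.2
  · exact Subgroup.mem_centralizer_singleton_iff.mp p.1.2.2.2

/-- `Fp` is invariant under conjugation by elements of `G`. -/
theorem Fp_conj (a : X) (ha : a ∈ G) (x : X) : Fp G (a * x * a⁻¹) = Fp G x := by
  unfold Fp
  apply Nat.card_congr
  have hconj : ∀ g : ↥G, a⁻¹ * g * a ∈ G := fun g => G.mul_mem (G.mul_mem (G.inv_mem ha) g.2) ha
  have hconj' : ∀ g : ↥G, a * g * a⁻¹ ∈ G := fun g => G.mul_mem (G.mul_mem ha g.2) (G.inv_mem ha)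
  refine
    { toFun := fun t => ⟨(⟨a⁻¹ * t.1.1 * a, hconj _⟩, ⟨a⁻¹ * t.1.2 * a, hconj _⟩), ?_, ?_, ?_⟩
      invFun := fun t => ⟨(⟨a * t.1.1 * a⁻¹, hconj' _⟩, ⟨a * t.1.2 * a⁻¹, hconj' _⟩), ?_, ?_, ?_⟩
      left_inv := fun t => by
        apply Subtype.ext; apply Prod.ext <;> apply Subtype.ext <;> simp [mul_assoc]
      right_inv := fun t => by
        apply Subtype.ext; apply Prod.ext <;> apply Subtype.ext <;> simp [mul_assoc] }
  · have h := congrArg Subtype.val t.2.1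
    unfold CG
    apply Subtype.ext
    simp only [Subgroup.coe_mul] at h ⊢
    calc a⁻¹ * ↑t.1.1 * a * (a⁻¹ * ↑t.1.2 * a) = a⁻¹ * (↑t.1.1 * ↑t.1.2) * a := by group
      _ = a⁻¹ * (↑t.1.2 * ↑t.1.1) * a := by rw [h]
      _ = _ := by group
  · have h := t.2.2.1
    show a⁻¹ * ↑t.1.1 * a * x = x * (a⁻¹ * ↑t.1.1 * a)
    calc a⁻¹ * ↑t.1.1 * a * x = a⁻¹ * (↑t.1.1 * (a * x * a⁻¹)) * a := by group
      _ = a⁻¹ * ((a * x * a⁻¹) * ↑t.1.1) * a := by rw [h]
      _ = _ := by group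
  · have h := t.2.2.2
    show a⁻¹ * ↑t.1.2 * a * x = x * (a⁻¹ * ↑t.1.2 * a)
    calc a⁻¹ * ↑t.1.2 * a * x = a⁻¹ * (↑t.1.2 * (a * x * a⁻¹)) * a := by group
      _ = a⁻¹ * ((a * x * a⁻¹) * ↑t.1.2) * a := by rw [h]
      _ = _ := by group
  · have h := congrArg Subtype.val t.2.1
    unfold CG
    apply Subtype.ext
    simp only [Subgroup.coe_mul] at h ⊢
    calc a * ↑t.1.1 * a⁻¹ * (a * ↑t.1.2 * a⁻¹) = a * (↑t.1.1 * ↑t.1.2) * a⁻¹ := by group
      _ = a * (↑t.1.2 * ↑t.1.1) * a⁻¹ := by rw [h]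
      _ = _ := by group
  · have h : (t.1.1 : X) * x = x * t.1.1 := t.2.2.1
    show a * ↑t.1.1 * a⁻¹ * (a * x * a⁻¹) = a * x * a⁻¹ * (a * ↑t.1.1 * a⁻¹)
    calc a * ↑t.1.1 * a⁻¹ * (a * x * a⁻¹) = a * (↑t.1.1 * x) * a⁻¹ := by group
      _ = a * (x * ↑t.1.1) * a⁻¹ := by rw [h]
      _ = _ := by group
  · have h : (t.1.2 : X) * x = x * t.1.2 := t.2.2.2
    show a * ↑t.1.2 * a⁻¹ * (a * x * a⁻¹) = a * x * a⁻¹ * (a * ↑t.1.2 * a⁻¹)
    calc a * ↑t.1.2 * a⁻¹ * (a * x * a⁻¹) = a * (↑t.1.2 * x) * a⁻¹ := by group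
      _ = a * (x * ↑t.1.2) * a⁻¹ := by rw [h]
      _ = _ := by group


/-- Orbit–stabilizer, by hand: the number of `v ∈ V` conjugate under `G` to `s`, times
`|C_G(s)|`, is `|G|`. -/
theorem orbit_count [V.Normal] (s : X) (hs : s ∈ V) :
    Nat.card {v : ↥V // ∃ g ∈ G, g * (v : X) * g⁻¹ = s} *
      Nat.card ↥(G ⊓ Subgroup.centralizer ({s} : Set X)) = Nat.card ↥G := by
  classical
  let T := {v : ↥V // ∃ g ∈ G, g * (v : X) * g⁻¹ = s}
  letI : Fintype T := Fintype.ofFinite _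
  let f : ↥G → T := fun a =>
    ⟨⟨(a : X)⁻¹ * s * a, by
      have := Subgroup.Normal.conj_mem (inferInstance : V.Normal) s hs (a : X)⁻¹
      simpa using this⟩, a, a.2, by simp [mul_assoc]⟩
  have hfib : ∀ v : T, Nat.card {a : ↥G // f a = v} =
      Nat.card ↥(G ⊓ Subgroup.centralizer ({s} : Set X)) := by
    intro v
    obtain ⟨g, hg, hgv⟩ := v.2
    have hv : (v.1 : X) = g⁻¹ * s * g := by
      calc (v.1 : X) = g⁻¹ * (g * (v.1 : X) * g⁻¹) * g := by group
        _ = _ := by rw [hgv]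
    have hiff : ∀ a : ↥G, f a = v ↔ (a : X)⁻¹ * s * a = g⁻¹ * s * g := by
      intro a
      rw [← hv, Subtype.ext_iff, Subtype.ext_iff]
    apply Nat.card_congr
    refine
      { toFun := fun a => ⟨(a.1 : X) * g⁻¹,
          Subgroup.mem_inf.mpr ⟨G.mul_mem a.1.2 (G.inv_mem hg), ?_⟩⟩
        invFun := fun c => ⟨⟨(c : X) * g, G.mul_mem c.2.1 hg⟩, ?_⟩
        left_inv := fun a => by apply Subtype.ext; apply Subtype.ext; simp
        right_inv := fun c => by apply Subtype.ext; simp }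
    · rw [Subgroup.mem_centralizer_singleton_iff]
      have h := (hiff a.1).mp a.2
      calc (a.1 : X) * g⁻¹ * s = (a.1 : X) * (g⁻¹ * s * g) * g⁻¹ := by group
        _ = (a.1 : X) * ((a.1 : X)⁻¹ * s * a.1) * g⁻¹ := by rw [h]
        _ = _ := by group
    · rw [hiff]
      have h := Subgroup.mem_centralizer_singleton_iff.mp c.2.2
      show ((c : X) * g)⁻¹ * s * ((c : X) * g) = g⁻¹ * s * g
      calc ((c : X) * g)⁻¹ * s * ((c : X) * g) = g⁻¹ * ((c : X)⁻¹ * (s * c)) * g := by group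
        _ = g⁻¹ * ((c : X)⁻¹ * (c * s)) * g := by rw [← h]
        _ = _ := by group
  have h1 : Nat.card ↥G = Nat.card (Σ v : T, {a : ↥G // f a = v}) :=
    Nat.card_congr (Equiv.sigmaFiberEquiv f).symm
  rw [h1, Nat.card_sigma]
  simp only [hfib, Finset.sum_const, Finset.card_univ, smul_eq_mul]
  rw [← Nat.card_eq_fintype_card]

/-- Step 4: grouping the sum over `V` by orbit representatives. -/
theorem step4 [V.Normal] (S : Finset X) (hSV : ∀ s ∈ S, s ∈ V)
    (hrep : ∀ v ∈ V, ∃! s, s ∈ S ∧ ∃ g ∈ G, g * v * g⁻¹ = s) :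
    ∑ᶠ v : ↥V, Fp G (v : X) =
      Nat.card ↥G * ∑ s ∈ S, Nat.card (ConjClasses ↥(G ⊓ Subgroup.centralizer ({s} : Set X))) := by
  classical
  letI : Fintype ↥V := Fintype.ofFinite _
  rw [finsum_eq_sum_of_fintype]
  let r : ↥V → X := fun v => Classical.choose (hrep v v.2).exists
  have hr : ∀ v : ↥V, r v ∈ S ∧ ∃ g ∈ G, g * (v : X) * g⁻¹ = r v :=
    fun v => Classical.choose_spec (hrep v v.2).exists
  have hr3 : ∀ (v : ↥V) (s : X), s ∈ S → (∃ g ∈ G, g * (v : X) * g⁻¹ = s) → r v = s := by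
    intro v s hs hg
    exact (hrep v v.2).unique (hr v) ⟨hs, hg⟩
  have h1 : ∀ v : ↥V, Fp G (v : X) = Fp G (r v) := by
    intro v
    obtain ⟨g, hg, hgv⟩ := (hr v).2
    rw [← hgv, Fp_conj g hg]
  calc ∑ v : ↥V, Fp G (v : X) = ∑ v : ↥V, Fp G (r v) := Finset.sum_congr rfl (fun v _ => h1 v)
    _ = ∑ s ∈ S, ∑ v ∈ Finset.univ.filter (fun v : ↥V => r v = s), Fp G (r v) :=
        (Finset.sum_fiberwise_of_maps_to (fun v _ => (hr v).1) _).symm
    _ = ∑ s ∈ S, Nat.card ↥G *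
          Nat.card (ConjClasses ↥(G ⊓ Subgroup.centralizer ({s} : Set X))) := by
        apply Finset.sum_congr rfl
        intro s hs
        have h2 : ∑ v ∈ Finset.univ.filter (fun v : ↥V => r v = s), Fp G (r v) =
            (Finset.univ.filter (fun v : ↥V => r v = s)).card * Fp G s := by
          rw [Finset.sum_congr rfl (fun v hv => by rw [(Finset.mem_filter.mp hv).2]),
            Finset.sum_const, smul_eq_mul]
        have h3 : (Finset.univ.filter (fun v : ↥V => r v = s)).card =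
            Nat.card {v : ↥V // ∃ g ∈ G, g * (v : X) * g⁻¹ = s} := by
          rw [Nat.card_eq_fintype_card, Fintype.card_subtype]
          congr 1
          ext v
          simp only [Finset.mem_filter, Finset.mem_univ, true_and]
          constructor
          · intro h; rw [← h]; exact (hr v).2
          · intro h; exact hr3 v s hs h
        have h4 := orbit_count (V := V) (G := G) s (hSV s hs)
        rw [h2, h3, Fp_eq, ← h4]
        ring
    _ = _ := by rw [Finset.mul_sum]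


/-- `k(VG) = ∑_{s} k(C_G(s))` for a coprime complement `G` of an abelian normal subgroup `V`,
`s` running over representatives of the `G`-orbits on `V`. -/
theorem card_conjClasses_eq [V.Normal] (hab : ∀ a ∈ V, ∀ b ∈ V, a * b = b * a)
    (hGV : Subgroup.IsComplement' V G) (hcop : (Nat.card V).Coprime (Nat.card G))
    (S : Finset X) (hSV : ∀ s ∈ S, s ∈ V)
    (hrep : ∀ v ∈ V, ∃! s, s ∈ S ∧ ∃ g ∈ G, g * v * g⁻¹ = s) :
    Nat.card (ConjClasses X) =
      ∑ s ∈ S, Nat.card (ConjClasses ↥(G ⊓ Subgroup.centralizer ({s} : Set X))) := by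
  have h0 := card_comm_eq_card_conjClasses_mul_card X
  rw [step1 hGV] at h0
  have h1 : ∑ᶠ gh : ↥G × ↥G, Nat.card {q : ↥V × ↥V // CG G gh ∧ DV V G gh q} =
      Nat.card V * ∑ᶠ gh : ↥G × ↥G, Nat.card {v : ↥V // CG G gh ∧ ZV G gh (v : X)} := by
    rw [mul_finsum]
    exact finsum_congr (fun gh => step1b hab hcop gh)
  rw [h1, step2, step4 S hSV hrep] at h0
  have hX : Nat.card X = Nat.card V * Nat.card G := hGV.card_mul_card.symm
  rw [hX] at h0
  have hpos : 0 < Nat.card V * Nat.card G := Nat.mul_pos Nat.card_pos Nat.card_pos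
  apply Nat.eq_of_mul_eq_mul_right hpos
  rw [← h0]
  ring

end Cfsg.Agent.Helper11.ClassCount
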