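import Mathlib

/-!
# Tools for S2271: fixed points on products of conjugacy classes in `Perm (Fin n)`.
-/

namespace Cfsg.Agent.Helper11.ClassFix

open Equiv

variable {n : ℕ}

/-- the 3-cycle `p → q → s → p` -/
def cyc3 (p q s : Fin n) : Perm (Fin n) := swap p q * swap q s

section cyc
variable {p q s : Fin n}

lemma cyc3_p (hpq : p ≠ q) (hps : p ≠ s) : cyc3 p q s p = q := by
  simp [cyc3, swap_apply_of_ne_of_ne hpq hps]

lemma cyc3_q (hqs : q ≠ s) (hps : p ≠ s) : cyc3 p q s q = s := by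
  simp [cyc3, swap_apply_of_ne_of_ne hps.symm hqs.symm]

lemma cyc3_s : cyc3 p q s s = p := by
  simp [cyc3]

lemma cyc3_of_ne {x : Fin n} (hp : x ≠ p) (hq : x ≠ q) (hs : x ≠ s) : cyc3 p q s x = x := by
  simp [cyc3, swap_apply_of_ne_of_ne hq hs, swap_apply_of_ne_of_ne hp hq]

lemma cyc3_inv_q (hpq : p ≠ q) (hps : p ≠ s) : (cyc3 p q s)⁻¹ q = p := by
  rw [Perm.inv_eq_iff_eq]; exact (cyc3_p hpq hps).symm

lemma cyc3_inv_s (hqs : q ≠ s) (hps : p ≠ s) : (cyc3 p q s)⁻¹ s = q := by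
  rw [Perm.inv_eq_iff_eq]; exact (cyc3_q hqs hps).symm

lemma cyc3_inv_p : (cyc3 p q s)⁻¹ p = s := by
  rw [Perm.inv_eq_iff_eq]; exact cyc3_s.symm

lemma cyc3_inv_of_ne {x : Fin n} (hp : x ≠ p) (hq : x ≠ q) (hs : x ≠ s) :
    (cyc3 p q s)⁻¹ x = x := by
  rw [Perm.inv_eq_iff_eq]; exact (cyc3_of_ne hp hq hs).symm

lemma cyc3_mem (hpq : p ≠ q) (hqs : q ≠ s) : cyc3 p q s ∈ alternatingGroup (Fin n) := by
  rw [Perm.mem_alternatingGroup, cyc3, Perm.sign_mul, Perm.sign_swap hpq, Perm.sign_swap hqs]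
  simp

end cyc

/-- Fixed points of `X * Y` and `Y * X` are equinumerous. -/
lemma card_fixedPoints_mul_comm (X Y : Perm (Fin n)) :
    Nat.card (Function.fixedPoints ⇑(X * Y)) = Nat.card (Function.fixedPoints ⇑(Y * X)) := by
  refine Nat.card_congr ⟨fun x => ⟨Y x.1, ?_⟩, fun x => ⟨X x.1, ?_⟩, ?_, ?_⟩
  · have := x.2
    simp only [Function.mem_fixedPoints, Function.IsFixedPt, Perm.coe_mul, Function.comp] at this ⊢
    rw [this]
  · have := x.2
    simp only [Function.mem_fixedPoints, Function.IsFixedPt, Perm.coe_mul, Function.comp] at this ⊢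
    rw [this]
  · intro x
    have := x.2
    simp only [Function.mem_fixedPoints, Function.IsFixedPt, Perm.coe_mul, Function.comp] at this
    exact Subtype.ext this
  · intro x
    have := x.2
    simp only [Function.mem_fixedPoints, Function.IsFixedPt, Perm.coe_mul, Function.comp] at this
    exact Subtype.ext this

/-- The key comparison: if every agreement of `b'` with `t⁻¹ a⁻¹ t` is an agreement with `a⁻¹`,
and there is an agreement with `a⁻¹` that is not one with `t⁻¹ a⁻¹ t`, then conjugating `b'`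
by `t` strictly lowers the number of fixed points of the product with `a`. -/
lemma fix_lt (a b' t : Perm (Fin n))
    (hsub : ∀ x, b' x = (t⁻¹ * a⁻¹ * t) x → b' x = a⁻¹ x)
    (p : Fin n) (hp1 : b' p = a⁻¹ p) (hp2 : b' p ≠ (t⁻¹ * a⁻¹ * t) p) :
    Nat.card (Function.fixedPoints ⇑(a * (t * b' * t⁻¹))) <
      Nat.card (Function.fixedPoints ⇑(a * b')) := by
  have h1 : Function.fixedPoints ⇑(a * b') = {x | b' x = a⁻¹ x} := by
    ext x
    simp only [Function.mem_fixedPoints, Function.IsFixedPt, Perm.coe_mul, Function.comp,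
      Set.mem_ofPred_eq]
    rw [Perm.eq_inv_iff_eq]
  have h2 : Function.fixedPoints ⇑(a * (t * b' * t⁻¹)) =
      t '' {x | b' x = (t⁻¹ * a⁻¹ * t) x} := by
    ext y
    simp only [Function.mem_fixedPoints, Function.IsFixedPt, Perm.coe_mul, Function.comp,
      Set.mem_image, Set.mem_ofPred_eq]
    constructor
    · intro hy
      refine ⟨t⁻¹ y, ?_, by simp⟩
      rw [Perm.eq_inv_iff_eq, Perm.eq_inv_iff_eq]
      simpa using hy
    · rintro ⟨x, hx, rfl⟩
      simp [hx]
  rw [Nat.card_coe_set_eq, Nat.card_coe_set_eq, h1, h2, Set.ncard_image_of_injective _ t.injective]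
  apply Set.ncard_lt_ncard _ (Set.toFinite _)
  refine ⟨fun x hx => hsub x hx, fun hcon => hp2 (hcon hp1)⟩

end Cfsg.Agent.Helper11.ClassFix
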