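import Mathlib
import Cfsg.Agent.Helper11.ClassFixA

/-!
# Tools for S2271, part B: transitivity of `A_n` on triples and auxiliary point choices.
-/

namespace Cfsg.Agent.Helper11.ClassFix

open Equiv

variable {n : ℕ}

lemma exists_alt_map3 (hn : 5 ≤ n) {u1 u2 u3 v1 v2 v3 : Fin n}
    (hu12 : u1 ≠ u2) (hu13 : u1 ≠ u3) (hu23 : u2 ≠ u3)
    (hv12 : v1 ≠ v2) (hv13 : v1 ≠ v3) (hv23 : v2 ≠ v3) :
    ∃ h ∈ alternatingGroup (Fin n), h u1 = v1 ∧ h u2 = v2 ∧ h u3 = v3 := by
  have := alternatingGroup.isMultiplyPretransitive (Fin n)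
  have h3 : MulAction.IsMultiplyPretransitive (alternatingGroup (Fin n)) (Fin n) 3 :=
    MulAction.isMultiplyPretransitive_of_le (n := Nat.card (Fin n) - 2)
      (by simp; omega) (by simp)
  rw [MulAction.isMultiplyPretransitive_iff] at h3
  have hx : Function.Injective ![u1, u2, u3] := by
    intro i j hij
    fin_cases i <;> fin_cases j <;> simp_all
  have hy : Function.Injective ![v1, v2, v3] := by
    intro i j hij
    fin_cases i <;> fin_cases j <;> simp_all
  obtain ⟨g, hg⟩ := h3 ⟨![u1, u2, u3], hx⟩ ⟨![v1, v2, v3], hy⟩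
  refine ⟨g.1, g.2, ?_, ?_, ?_⟩
  · have := DFunLike.congr_fun hg 0
    simp only [Function.Embedding.smul_apply] at this
    exact this
  · have := DFunLike.congr_fun hg 1
    simp only [Function.Embedding.smul_apply] at this
    exact this
  · have := DFunLike.congr_fun hg 2
    simp only [Function.Embedding.smul_apply] at this
    exact this

/-- a point avoiding four given ones -/
lemma exists_ne4 (hn : 5 ≤ n) (x y z w : Fin n) : ∃ s : Fin n, s ≠ x ∧ s ≠ y ∧ s ≠ z ∧ s ≠ w := by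
  classical
  have hcard : ({x, y, z, w} : Finset (Fin n)).card < (Finset.univ : Finset (Fin n)).card := by
    have h1 : ({x, y, z, w} : Finset (Fin n)).card ≤ 4 := Finset.card_le_four
    rw [Finset.card_univ, Fintype.card_fin]
    omega
  obtain ⟨s, -, hs⟩ := Finset.exists_mem_notMem_of_card_lt_card hcard
  simp only [Finset.mem_insert, Finset.mem_singleton, not_or] at hs
  exact ⟨s, hs.1, hs.2.1, hs.2.2.1, hs.2.2.2⟩

lemma exists_alt_map2 (hn : 5 ≤ n) {u1 u2 v1 v2 : Fin n} (hu12 : u1 ≠ u2) (hv12 : v1 ≠ v2) :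
    ∃ h ∈ alternatingGroup (Fin n), h u1 = v1 ∧ h u2 = v2 := by
  obtain ⟨u3, h1, h2, -, -⟩ := exists_ne4 hn u1 u2 u1 u1
  obtain ⟨v3, h3, h4, -, -⟩ := exists_ne4 hn v1 v2 v1 v1
  obtain ⟨h, hh, e1, e2, -⟩ := exists_alt_map3 hn hu12 h1.symm h2.symm hv12 h3.symm h4.symm
  exact ⟨h, hh, e1, e2⟩

/-- Outside the support of the 3-cycle (and its preimage under `c`), conjugation by the 3-cycle
does not change `c`. -/
lemma conj_cyc3_apply_of_ne {p q s : Fin n} (c : Perm (Fin n)) {x : Fin n}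
    (hp : x ≠ p) (hq : x ≠ q) (hs : x ≠ s) (hp' : c x ≠ p) (hq' : c x ≠ q) (hs' : c x ≠ s) :
    ((cyc3 p q s)⁻¹ * c * cyc3 p q s) x = c x := by
  simp only [Perm.coe_mul, Function.comp]
  rw [cyc3_of_ne hp hq hs, cyc3_inv_of_ne hp' hq' hs']

/-- value of a conjugate `h b h⁻¹` at `h u` -/
lemma conj_apply_map (h b : Perm (Fin n)) (u : Fin n) : (h * b * h⁻¹) (h u) = h (b u) := by
  simp

end Cfsg.Agent.Helper11.ClassFix
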