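import Mathlib
import Cfsg.Agent.Helper11.ClassFixB

/-!
# Tools for S2271, part C: the one-sided statement and the case of two 2-cycles.
-/

namespace Cfsg.Agent.Helper11.ClassFix

open Equiv

variable {n : ℕ}

/-- Fixing `a` and varying the `A_n`-conjugate of `b` changes the number of fixed points. -/
def OneSided (a b : Perm (Fin n)) : Prop :=
  ∃ h₁ h₂ : Perm (Fin n), h₁ ∈ alternatingGroup (Fin n) ∧ h₂ ∈ alternatingGroup (Fin n) ∧
    Nat.card (Function.fixedPoints ⇑(a * (h₁ * b * h₁⁻¹))) ≠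
      Nat.card (Function.fixedPoints ⇑(a * (h₂ * b * h₂⁻¹)))

lemma oneSided_of (a b h t : Perm (Fin n)) (hh : h ∈ alternatingGroup (Fin n))
    (ht : t ∈ alternatingGroup (Fin n))
    (hsub : ∀ x, (h * b * h⁻¹) x = (t⁻¹ * a⁻¹ * t) x → (h * b * h⁻¹) x = a⁻¹ x)
    (p : Fin n) (hp1 : (h * b * h⁻¹) p = a⁻¹ p) (hp2 : (h * b * h⁻¹) p ≠ (t⁻¹ * a⁻¹ * t) p) :
    OneSided a b := by
  refine ⟨t * h, h, Subgroup.mul_mem _ ht hh, hh, ?_⟩
  have := fix_lt a (h * b * h⁻¹) t hsub p hp1 hp2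
  have e : t * h * b * (t * h)⁻¹ = t * (h * b * h⁻¹) * t⁻¹ := by group
  rw [e]
  exact this.ne

/-- both `a⁻¹` and `b` have a 2-cycle -/
lemma oneSided_22 (hn : 5 ≤ n) (a b : Perm (Fin n)) (p : Fin n) (hp : a⁻¹ p ≠ p)
    (hp2 : a⁻¹ (a⁻¹ p) = p) (u : Fin n) (hu : b u ≠ u) (hu2 : b (b u) = u) : OneSided a b := by
  set c := a⁻¹ with hc
  set q := c p with hq
  obtain ⟨h, hh, h1, h2⟩ := exists_alt_map2 hn hu.symm hp.symm
  -- h u = p, h (b u) = q
  set b' := h * b * h⁻¹ with hb'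
  have bp : b' p = q := by rw [← h1, hb', conj_apply_map, h2]
  have bq : b' q = p := by rw [← h2, hb', conj_apply_map, hu2, h1]
  obtain ⟨s, hsp, hsq, -, -⟩ := exists_ne4 hn p q p p
  have hpq : p ≠ q := hp.symm
  have hqs : q ≠ s := hsq.symm
  have hps : p ≠ s := hsp.symm
  refine oneSided_of a b h (cyc3 p q s) hh (cyc3_mem hpq hqs) ?_ p ?_ ?_
  · intro x hx
    rw [← hc, ← hb'] at hx ⊢
    by_cases x1 : x = p
    · exfalso
      rw [x1] at hx
      simp only [Perm.coe_mul, Function.comp] at hx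
      rw [cyc3_p hpq hps, hp2, cyc3_inv_p, bp] at hx
      exact hqs hx
    by_cases x2 : x = q
    · exfalso
      rw [x2] at hx
      simp only [Perm.coe_mul, Function.comp] at hx
      rw [cyc3_q hqs hps, bq, Perm.eq_inv_iff_eq, cyc3_p hpq hps] at hx
      -- hx : q = c s
      exact hps (c.injective hx)
    by_cases x3 : x = s
    · exfalso
      rw [x3] at hx
      simp only [Perm.coe_mul, Function.comp] at hx
      rw [cyc3_s, ← hq, cyc3_inv_q hpq hps, ← bq] at hx
      exact hqs (b'.injective hx).symm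
    by_cases y1 : c x = p
    · exfalso
      rw [← hp2] at y1
      exact x2 (c.injective y1)
    by_cases y2 : c x = q
    · exfalso
      exact x1 (c.injective y2)
    by_cases y3 : c x = s
    · exfalso
      simp only [Perm.coe_mul, Function.comp] at hx
      rw [cyc3_of_ne x1 x2 x3, y3, cyc3_inv_s hqs hps, ← bp] at hx
      exact x1 (b'.injective hx)
    rw [conj_cyc3_apply_of_ne c x1 x2 x3 y1 y2 y3] at hx
    exact hx
  · rw [← hc, ← hb', bp]
  · rw [← hc, ← hb', bp]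
    simp only [Perm.coe_mul, Function.comp]
    rw [cyc3_p hpq hps, hp2, cyc3_inv_p]
    exact hqs

end Cfsg.Agent.Helper11.ClassFix
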