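import Mathlib
import Cfsg.Agent.Helper11.ClassFixC

/-!
# Tools for S2271, part D: the cases (3,3) and (3,2).
-/

namespace Cfsg.Agent.Helper11.ClassFix

open Equiv

variable {n : ℕ}

/-- both `a⁻¹` and `b` have a 3-cycle -/
lemma oneSided_33 (hn : 5 ≤ n) (a b : Perm (Fin n)) (p : Fin n) (hp : a⁻¹ p ≠ p)
    (hp2 : a⁻¹ (a⁻¹ p) ≠ p) (hp3 : a⁻¹ (a⁻¹ (a⁻¹ p)) = p)
    (u : Fin n) (hu : b u ≠ u) (hu2 : b (b u) ≠ u) (hu3 : b (b (b u)) = u) : OneSided a b := by
  set c := a⁻¹ with hc
  set q := c p with hq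
  set r := c q with hr
  have hpq : p ≠ q := hp.symm
  have hpr : p ≠ r := hp2.symm
  have hqr : q ≠ r := fun h => hpq (c.injective h)
  have huv : u ≠ b u := hu.symm
  have huw : u ≠ b (b u) := hu2.symm
  have hvw : b u ≠ b (b u) := fun h => huv (b.injective h)
  obtain ⟨h, hh, h1, h2, h3⟩ := exists_alt_map3 hn huv huw hvw hpq hpr hqr
  set b' := h * b * h⁻¹ with hb'
  have bp : b' p = q := by rw [← h1, hb', conj_apply_map, h2]
  have bq : b' q = r := by rw [← h2, hb', conj_apply_map, h3]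
  have br : b' r = p := by rw [← h3, hb', conj_apply_map, hu3, h1]
  obtain ⟨s, hsp, hsq, hsr, -⟩ := exists_ne4 hn p q r p
  have hqs : q ≠ s := hsq.symm
  have hps : p ≠ s := hsp.symm
  have hrs : r ≠ s := hsr.symm
  refine oneSided_of a b h (cyc3 p q s) hh (cyc3_mem hpq hqs) ?_ p ?_ ?_
  · intro x hx
    rw [← hc, ← hb'] at hx ⊢
    by_cases x1 : x = p
    · exfalso
      rw [x1] at hx
      simp only [Perm.coe_mul, Function.comp] at hx
      rw [cyc3_p hpq hps, ← hr, cyc3_inv_of_ne hpr.symm hqr.symm hrs, bp] at hx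
      exact hqr hx
    by_cases x2 : x = q
    · exfalso
      rw [x2] at hx
      simp only [Perm.coe_mul, Function.comp] at hx
      rw [cyc3_q hqs hps, bq, Perm.eq_inv_iff_eq, cyc3_of_ne hpr.symm hqr.symm hrs, hr] at hx
      exact hqs (c.injective hx)
    by_cases x3 : x = s
    · exfalso
      rw [x3] at hx
      simp only [Perm.coe_mul, Function.comp] at hx
      rw [cyc3_s, ← hq, cyc3_inv_q hpq hps, ← br] at hx
      exact hrs (b'.injective hx).symm
    by_cases y1 : c x = p
    · exfalso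
      have xr : x = r := by
        apply c.injective
        rw [y1, hr, hq, hp3]
      rw [xr] at hx
      simp only [Perm.coe_mul, Function.comp] at hx
      rw [cyc3_of_ne hpr.symm hqr.symm hrs, hr, hq, hp3, cyc3_inv_p, ← hq, ← hr, br] at hx
      exact hps hx
    by_cases y2 : c x = q
    · exfalso
      exact x1 (c.injective y2)
    by_cases y3 : c x = s
    · exfalso
      simp only [Perm.coe_mul, Function.comp] at hx
      rw [cyc3_of_ne x1 x2 x3, y3, cyc3_inv_s hqs hps, ← bp] at hx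
      exact x1 (b'.injective hx)
    rw [conj_cyc3_apply_of_ne c x1 x2 x3 y1 y2 y3] at hx
    exact hx
  · rw [← hc, ← hb', bp]
  · rw [← hc, ← hb', bp]
    simp only [Perm.coe_mul, Function.comp]
    rw [cyc3_p hpq hps, ← hr, cyc3_inv_of_ne hpr.symm hqr.symm hrs]
    exact hqr

/-- `a⁻¹` has a 3-cycle and `b` has a 2-cycle -/
lemma oneSided_32 (hn : 5 ≤ n) (a b : Perm (Fin n)) (p : Fin n) (hp : a⁻¹ p ≠ p)
    (hp2 : a⁻¹ (a⁻¹ p) ≠ p) (hp3 : a⁻¹ (a⁻¹ (a⁻¹ p)) = p)
    (u : Fin n) (hu : b u ≠ u) (hu2 : b (b u) = u) : OneSided a b := by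
  set c := a⁻¹ with hc
  set q := c p with hq
  set r := c q with hr
  have hpq : p ≠ q := hp.symm
  have hpr : p ≠ r := hp2.symm
  have hqr : q ≠ r := fun h => hpq (c.injective h)
  obtain ⟨h, hh, h1, h2⟩ := exists_alt_map2 hn hu.symm hpq
  set b' := h * b * h⁻¹ with hb'
  have bp : b' p = q := by rw [← h1, hb', conj_apply_map, h2]
  have bq : b' q = p := by rw [← h2, hb', conj_apply_map, hu2, h1]
  obtain ⟨s, hsp, hsq, hsr, hsb⟩ := exists_ne4 hn p q r (b' r)
  have hqs : q ≠ s := hsq.symm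
  have hps : p ≠ s := hsp.symm
  have hrs : r ≠ s := hsr.symm
  refine oneSided_of a b h (cyc3 p q s) hh (cyc3_mem hpq hqs) ?_ p ?_ ?_
  · intro x hx
    rw [← hc, ← hb'] at hx ⊢
    by_cases x1 : x = p
    · exfalso
      rw [x1] at hx
      simp only [Perm.coe_mul, Function.comp] at hx
      rw [cyc3_p hpq hps, ← hr, cyc3_inv_of_ne hpr.symm hqr.symm hrs, bp] at hx
      exact hqr hx
    by_cases x2 : x = q
    · exfalso
      rw [x2] at hx
      simp only [Perm.coe_mul, Function.comp] at hx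
      rw [cyc3_q hqs hps, bq, Perm.eq_inv_iff_eq, cyc3_p hpq hps, hq] at hx
      exact hps (c.injective hx)
    by_cases x3 : x = s
    · exfalso
      rw [x3] at hx
      simp only [Perm.coe_mul, Function.comp] at hx
      rw [cyc3_s, ← hq, cyc3_inv_q hpq hps, ← bq] at hx
      exact hqs (b'.injective hx).symm
    by_cases y1 : c x = p
    · exfalso
      have xr : x = r := by
        apply c.injective
        rw [y1, hr, hq, hp3]
      rw [xr] at hx
      simp only [Perm.coe_mul, Function.comp] at hx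
      rw [cyc3_of_ne hpr.symm hqr.symm hrs, hr, hq, hp3, cyc3_inv_p, ← hq, ← hr] at hx
      exact hsb hx.symm
    by_cases y2 : c x = q
    · exfalso
      exact x1 (c.injective y2)
    by_cases y3 : c x = s
    · exfalso
      simp only [Perm.coe_mul, Function.comp] at hx
      rw [cyc3_of_ne x1 x2 x3, y3, cyc3_inv_s hqs hps, ← bp] at hx
      exact x1 (b'.injective hx)
    rw [conj_cyc3_apply_of_ne c x1 x2 x3 y1 y2 y3] at hx
    exact hx
  · rw [← hc, ← hb', bp]
  · rw [← hc, ← hb', bp]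
    simp only [Perm.coe_mul, Function.comp]
    rw [cyc3_p hpq hps, ← hr, cyc3_inv_of_ne hpr.symm hqr.symm hrs]
    exact hqr

end Cfsg.Agent.Helper11.ClassFix
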