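import Mathlib
import Cfsg.Agent.Helper11.ClassFixD

/-!
# Tools for S2271, part E: a cycle of length at least 4, and the assembly.
-/

namespace Cfsg.Agent.Helper11.ClassFix

open Equiv

variable {n : ℕ}

/-- `a⁻¹` has a cycle of length at least 4 and `b ≠ 1` -/
lemma oneSided_4 (hn : 5 ≤ n) (a b : Perm (Fin n)) (p : Fin n) (hp : a⁻¹ p ≠ p)
    (hp2 : a⁻¹ (a⁻¹ p) ≠ p) (hp3 : a⁻¹ (a⁻¹ (a⁻¹ p)) ≠ p)
    (u : Fin n) (hu : b u ≠ u) : OneSided a b := by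
  set c := a⁻¹ with hc
  set q := c p with hq
  set r := c q with hr
  set s := c r with hs
  have hpq : p ≠ q := hp.symm
  have hpr : p ≠ r := hp2.symm
  have hps : p ≠ s := hp3.symm
  have hqr : q ≠ r := fun h => hpq (c.injective h)
  have hrs : r ≠ s := fun h => hqr (c.injective h)
  have hqs : q ≠ s := fun h => hpr (c.injective h)
  -- a conjugate `b'` of `b` with `b' q = r` and `b' r ≠ p`
  have key : ∃ h ∈ alternatingGroup (Fin n), (h * b * h⁻¹) q = r ∧ (h * b * h⁻¹) r ≠ p := by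
    by_cases hw : b (b u) = u
    · obtain ⟨h, hh, h1, h2⟩ := exists_alt_map2 hn hu.symm hqr
      refine ⟨h, hh, ?_, ?_⟩
      · rw [← h1, conj_apply_map, h2]
      · rw [← h2, conj_apply_map, hw, h1]
        exact hpq.symm
    · have huv : u ≠ b u := hu.symm
      have huw : u ≠ b (b u) := fun h => hw h.symm
      have hvw : b u ≠ b (b u) := fun h => huv (b.injective h)
      obtain ⟨h, hh, h1, h2, h3⟩ := exists_alt_map3 hn huv huw hvw hqr hqs hrs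
      refine ⟨h, hh, ?_, ?_⟩
      · rw [← h1, conj_apply_map, h2]
      · rw [← h2, conj_apply_map, h3]
        exact hps.symm
  obtain ⟨h, hh, bq, br⟩ := key
  set b' := h * b * h⁻¹ with hb'
  refine oneSided_of a b h (cyc3 p q r) hh (cyc3_mem hpq hqr) ?_ q ?_ ?_
  · intro x hx
    rw [← hc, ← hb'] at hx ⊢
    by_cases x1 : x = p
    · rw [x1] at hx ⊢
      simp only [Perm.coe_mul, Function.comp] at hx
      rw [cyc3_p hpq hpr, ← hr, cyc3_inv_s hqr hpr] at hx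
      exact hx
    by_cases x2 : x = q
    · exfalso
      rw [x2] at hx
      simp only [Perm.coe_mul, Function.comp] at hx
      rw [cyc3_q hqr hpr, ← hs, cyc3_inv_of_ne hps.symm hqs.symm hrs.symm, bq] at hx
      exact hrs hx
    by_cases x3 : x = r
    · exfalso
      rw [x3] at hx
      simp only [Perm.coe_mul, Function.comp] at hx
      rw [cyc3_s, ← hq, cyc3_inv_q hpq hpr] at hx
      exact br hx
    by_cases y1 : c x = p
    · exfalso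
      simp only [Perm.coe_mul, Function.comp] at hx
      rw [cyc3_of_ne x1 x2 x3, y1, cyc3_inv_p, ← bq] at hx
      exact x2 (b'.injective hx)
    by_cases y2 : c x = q
    · exfalso
      exact x1 (c.injective y2)
    by_cases y3 : c x = r
    · exfalso
      exact x2 (c.injective y3)
    rw [conj_cyc3_apply_of_ne c x1 x2 x3 y1 y2 y3] at hx
    exact hx
  · rw [← hc, ← hb', bq]
  · rw [← hc, ← hb', bq]
    simp only [Perm.coe_mul, Function.comp]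
    rw [cyc3_q hqr hpr, ← hs, cyc3_inv_of_ne hps.symm hqs.symm hrs.symm]
    exact hrs

/-- The symmetric statement. -/
def TwoSided (a b : Perm (Fin n)) : Prop :=
  ∃ g₁ h₁ g₂ h₂ : Equiv.Perm (Fin n), g₁ ∈ alternatingGroup (Fin n) ∧
    h₁ ∈ alternatingGroup (Fin n) ∧ g₂ ∈ alternatingGroup (Fin n) ∧
    h₂ ∈ alternatingGroup (Fin n) ∧
      Nat.card (Function.fixedPoints ⇑(g₁ * a * g₁⁻¹ * (h₁ * b * h₁⁻¹))) ≠
        Nat.card (Function.fixedPoints ⇑(g₂ * a * g₂⁻¹ * (h₂ * b * h₂⁻¹)))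

lemma twoSided_of_oneSided {a b : Perm (Fin n)} (h : OneSided a b) : TwoSided a b := by
  obtain ⟨h₁, h₂, m1, m2, hne⟩ := h
  refine ⟨1, h₁, 1, h₂, Subgroup.one_mem _, m1, Subgroup.one_mem _, m2, ?_⟩
  simpa using hne

lemma twoSided_symm {a b : Perm (Fin n)} (h : TwoSided b a) : TwoSided a b := by
  obtain ⟨g₁, h₁, g₂, h₂, m1, m2, m3, m4, hne⟩ := h
  refine ⟨h₁, g₁, h₂, g₂, m2, m1, m4, m3, ?_⟩
  rw [card_fixedPoints_mul_comm (h₁ * a * h₁⁻¹), card_fixedPoints_mul_comm (h₂ * a * h₂⁻¹)]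
  exact hne

/-- trichotomy for a nontrivial permutation -/
lemma trichotomy (c : Perm (Fin n)) (hc : c ≠ 1) :
    (∃ p, c p ≠ p ∧ c (c p) = p) ∨ (∃ p, c p ≠ p ∧ c (c p) ≠ p ∧ c (c (c p)) = p) ∨
      (∃ p, c p ≠ p ∧ c (c p) ≠ p ∧ c (c (c p)) ≠ p) := by
  obtain ⟨p, hp⟩ : ∃ p, c p ≠ p := by
    by_contra hcon
    push Not at hcon
    exact hc (Perm.ext hcon)
  by_cases h2 : c (c p) = p
  · exact Or.inl ⟨p, hp, h2⟩
  by_cases h3 : c (c (c p)) = p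
  · exact Or.inr (Or.inl ⟨p, hp, h2, h3⟩)
  · exact Or.inr (Or.inr ⟨p, hp, h2, h3⟩)

lemma inv_two {c : Perm (Fin n)} (h : ∃ p, c p ≠ p ∧ c (c p) = p) :
    ∃ p, c⁻¹ p ≠ p ∧ c⁻¹ (c⁻¹ p) = p := by
  obtain ⟨p, h1, h2⟩ := h
  refine ⟨p, ?_, ?_⟩
  · rw [Ne, Perm.inv_eq_iff_eq]; exact fun h => h1 h.symm
  · rw [Perm.inv_eq_iff_eq, Perm.inv_eq_iff_eq]; exact h2.symm

lemma inv_three {c : Perm (Fin n)} (h : ∃ p, c p ≠ p ∧ c (c p) ≠ p ∧ c (c (c p)) = p) :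
    ∃ p, c⁻¹ p ≠ p ∧ c⁻¹ (c⁻¹ p) ≠ p ∧ c⁻¹ (c⁻¹ (c⁻¹ p)) = p := by
  obtain ⟨p, h1, h2, h3⟩ := h
  refine ⟨p, ?_, ?_, ?_⟩
  · rw [Ne, Perm.inv_eq_iff_eq]; exact fun h => h1 h.symm
  · rw [Ne, Perm.inv_eq_iff_eq, Perm.inv_eq_iff_eq]; exact fun h => h2 h.symm
  · rw [Perm.inv_eq_iff_eq, Perm.inv_eq_iff_eq, Perm.inv_eq_iff_eq]; exact h3.symm

lemma inv_four {c : Perm (Fin n)} (h : ∃ p, c p ≠ p ∧ c (c p) ≠ p ∧ c (c (c p)) ≠ p) :
    ∃ p, c⁻¹ p ≠ p ∧ c⁻¹ (c⁻¹ p) ≠ p ∧ c⁻¹ (c⁻¹ (c⁻¹ p)) ≠ p := by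
  obtain ⟨p, h1, h2, h3⟩ := h
  refine ⟨p, ?_, ?_, ?_⟩
  · rw [Ne, Perm.inv_eq_iff_eq]; exact fun h => h1 h.symm
  · rw [Ne, Perm.inv_eq_iff_eq, Perm.inv_eq_iff_eq]; exact fun h => h2 h.symm
  · rw [Ne, Perm.inv_eq_iff_eq, Perm.inv_eq_iff_eq, Perm.inv_eq_iff_eq]; exact fun h => h3 h.symm

theorem twoSided (hn : 5 ≤ n) (a b : Perm (Fin n)) (ha : a ≠ 1) (hb : b ≠ 1) : TwoSided a b := by
  have ha' : a⁻¹ ≠ 1 := by simpa using ha
  have hb' : b⁻¹ ≠ 1 := by simpa using hb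
  obtain ⟨u0, hu0⟩ : ∃ p, b p ≠ p := by
    by_contra hcon
    push Not at hcon
    exact hb (Perm.ext hcon)
  obtain ⟨p0, hp0⟩ : ∃ p, a p ≠ p := by
    by_contra hcon
    push Not at hcon
    exact ha (Perm.ext hcon)
  rcases trichotomy a⁻¹ ha' with ⟨p, h1, h2⟩ | ⟨p, h1, h2, h3⟩ | ⟨p, h1, h2, h3⟩
  · rcases trichotomy b hb with ⟨u, k1, k2⟩ | hb3 | hb4
    · exact twoSided_of_oneSided (oneSided_22 hn a b p h1 h2 u k1 k2)
    · -- a⁻¹ has a 2-cycle, b has a 3-cycle: swap roles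
      apply twoSided_symm
      obtain ⟨u, k1, k2, k3⟩ := inv_three hb3
      obtain ⟨p', j1, j2⟩ := inv_two ⟨p, h1, h2⟩
      rw [inv_inv] at j1 j2
      exact twoSided_of_oneSided (oneSided_32 hn b a u k1 k2 k3 p' j1 j2)
    · apply twoSided_symm
      obtain ⟨u, k1, k2, k3⟩ := inv_four hb4
      exact twoSided_of_oneSided (oneSided_4 hn b a u k1 k2 k3 p0 hp0)
  · rcases trichotomy b hb with ⟨u, k1, k2⟩ | ⟨u, k1, k2, k3⟩ | hb4
    · exact twoSided_of_oneSided (oneSided_32 hn a b p h1 h2 h3 u k1 k2)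
    · exact twoSided_of_oneSided (oneSided_33 hn a b p h1 h2 h3 u k1 k2 k3)
    · apply twoSided_symm
      obtain ⟨u, k1, k2, k3⟩ := inv_four hb4
      exact twoSided_of_oneSided (oneSided_4 hn b a u k1 k2 k3 p0 hp0)
  · exact twoSided_of_oneSided (oneSided_4 hn a b p h1 h2 h3 u0 hu0)

end Cfsg.Agent.Helper11.ClassFix
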