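import Mathlib
import Cfsg.Prelude.Def_Classical

/-! Transport of the unitary groups along an isomorphism of fields:
`SU n F q ≃* SU n F' q` and `PSU n F q ≃* PSU n F' q` for `e : F ≃+* F'`. -/

set_option autoImplicit false
set_option linter.all false

namespace Cfsg.Agent.Helper11.PSUCongr

open Matrix

variable {F : Type*} {F' : Type*} [Field F] [Field F']

theorem hermForm_comp (e : F →+* F') (n q : ℕ) (u v : Fin n → F) :
    Cfsg.hermForm n F' q (fun i => e (u i)) (fun i => e (v i)) = e (Cfsg.hermForm n F q u v) := by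
  unfold Cfsg.hermForm
  rw [map_sum]
  apply Finset.sum_congr rfl
  intro i _
  rw [map_mul, map_pow]

theorem mulVec_comp (e : F →+* F') (n : ℕ) (M : Matrix (Fin n) (Fin n) F) (u : Fin n → F) :
    (M.map e) *ᵥ (fun i => e (u i)) = fun i => e ((M *ᵥ u) i) := by
  funext i
  exact (RingHom.map_mulVec e M u i).symm

theorem slToMat_map (e : F →+* F') (n : ℕ) (g : Matrix.SpecialLinearGroup (Fin n) F) :
    Cfsg.slToMat n F' (Matrix.SpecialLinearGroup.map e g) = (Cfsg.slToMat n F g).map e := rfl

theorem map_mem_SU (e : F ≃+* F') (n q : ℕ) {g : Matrix.SpecialLinearGroup (Fin n) F}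
    (hg : g ∈ Cfsg.SU n F q) :
    Matrix.SpecialLinearGroup.map (e : F →+* F') g ∈ Cfsg.SU n F' q := by
  intro u' v'
  have hu : u' = fun i => (e : F →+* F') (e.symm (u' i)) := by funext i; simp
  have hv : v' = fun i => (e : F →+* F') (e.symm (v' i)) := by funext i; simp
  rw [slToMat_map, hu, hv, mulVec_comp, mulVec_comp, hermForm_comp, hermForm_comp]
  congr 1
  exact hg _ _

theorem map_map_symm (e : F ≃+* F') (n : ℕ) (g : Matrix.SpecialLinearGroup (Fin n) F) :
    Matrix.SpecialLinearGroup.map (e.symm : F' →+* F)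
      (Matrix.SpecialLinearGroup.map (e : F →+* F') g) = g := by
  apply Subtype.ext
  ext i j
  show (e.symm : F' →+* F) ((e : F →+* F') (g.1 i j)) = g.1 i j
  simp

/-- the special unitary groups over isomorphic fields are isomorphic. -/
noncomputable def suCongr (e : F ≃+* F') (n q : ℕ) : ↥(Cfsg.SU n F q) ≃* ↥(Cfsg.SU n F' q) where
  toFun g := ⟨Matrix.SpecialLinearGroup.map (e : F →+* F') g.1, map_mem_SU e n q g.2⟩
  invFun g := ⟨Matrix.SpecialLinearGroup.map (e.symm : F' →+* F) g.1, map_mem_SU e.symm n q g.2⟩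
  left_inv g := Subtype.ext (map_map_symm e n g.1)
  right_inv g := Subtype.ext (by
    have := map_map_symm e.symm n g.1
    simpa using this)
  map_mul' a b := Subtype.ext (map_mul _ a.1 b.1)

theorem map_center {G H : Type*} [Group G] [Group H] (e : G ≃* H) :
    (Subgroup.center G).map (e : G →* H) = Subgroup.center H := by
  ext x
  rw [Subgroup.mem_map, Subgroup.mem_center_iff]
  constructor
  · rintro ⟨z, hz, rfl⟩ y
    rw [Subgroup.mem_center_iff] at hz
    have := hz (e.symm y)
    have h2 := congrArg e this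
    simpa using h2
  · intro h
    refine ⟨e.symm x, ?_, by simp⟩
    rw [Subgroup.mem_center_iff]
    intro y
    have := h (e y)
    apply e.injective
    simpa using this

/-- the projective special unitary groups over isomorphic fields are isomorphic. -/
noncomputable def psuCongr (e : F ≃+* F') (n q : ℕ) : Cfsg.PSU n F q ≃* Cfsg.PSU n F' q :=
  QuotientGroup.congr (Subgroup.center ↥(Cfsg.SU n F q)) (Subgroup.center ↥(Cfsg.SU n F' q))
    (suCongr e n q) (map_center (suCongr e n q))

/-- over finite fields of the same cardinality. -/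
theorem nonempty_psu_equiv {K K' : Type*} [Field K] [Field K'] [Fintype K] [Fintype K']
    (h : Fintype.card K = Fintype.card K') (n q : ℕ) :
    Nonempty (Cfsg.PSU n K q ≃* Cfsg.PSU n K' q) :=
  ⟨psuCongr (FiniteField.ringEquivOfCardEq h) n q⟩

end Cfsg.Agent.Helper11.PSUCongr
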