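import Mathlib
import Cfsg.Agent.Helper17.U62.Main
import Cfsg.Agent.Helper11.PSUCongr

/-! Recognition of `PSU₆(2)`: a group of order `9196830720` containing eight elements, not all
trivial, which satisfy helper17's presentation `U6P` of `2·U₆(2)` is isomorphic to `PSU 6 F 2`
(`|F| = 4`). Uses helper17's `psi : U6PTC.G →* PSU₆(2)` (surjective, kernel of order two), the order
of the presented group and `no_index_two_P`. -/

set_option autoImplicit false
set_option linter.all false

namespace Cfsg.Agent.Helper11.U62Recog

open Cfsg.Agent.Helper17 Cfsg.Agent.Helper17.U62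

universe u v

/-- the relators of `U6P` hold for a family satisfying the Coxeter relations and the four further
relations. -/
theorem rels_of {S : Type u} [Group S] (s : U6P.Gen → S)
    (hcox : ∀ x y : U6P.Gen, (s x * s y) ^ Cfsg.Spor.coxLabel U6P.edges x y = 1)
    (h1 : (s .i * s .h * s .d * s .e * s .f * s .g * s .c) ^ 9 = 1)
    (h2 : (s .w * s .f * s .e * s .d * s .h * s .i * s .h * s .d * s .e * s .f) ^ 3 = 1)
    (h3 : (s .w * s .f * s .e * s .d * s .h * s .i) ^ 5 = 1)
    (h4 : (s .f * s .i * s .e * s .g * s .w * s .h) ^ 5 = 1) :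
    ∀ r ∈ U6PTC.Rels, FreeGroup.lift s r = 1 := by
  intro r hr
  rcases hr with ⟨x, _, y, _, rfl⟩ | hr
  · rw [map_pow, map_mul, FreeGroup.lift_apply_of, FreeGroup.lift_apply_of]
    exact hcox x y
  · simp only [Set.mem_setOf_eq, U6P.extra, List.mem_cons, List.mem_singleton, List.not_mem_nil,
      or_false] at hr
    rcases hr with rfl | rfl | rfl | rfl
    · simpa only [map_pow, map_mul, FreeGroup.lift_apply_of] using h1
    · simpa only [map_pow, map_mul, FreeGroup.lift_apply_of] using h2
    · simpa only [map_pow, map_mul, FreeGroup.lift_apply_of] using h3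
    · simpa only [map_pow, map_mul, FreeGroup.lift_apply_of] using h4

theorem nonempty_equiv_PSU6 {S : Type u} [Group S] (hcard : Nat.card S = 9196830720)
    (s : U6P.Gen → S) (hrel : ∀ r ∈ U6PTC.Rels, FreeGroup.lift s r = 1) (x0 : U6P.Gen)
    (hne : s x0 ≠ 1) : Nonempty (S ≃* PSU6) := by
  haveI : Finite S := Nat.finite_of_card_ne_zero (by rw [hcard]; norm_num)
  haveI := finP
  haveI := simplePSU6
  let φ : U6PTC.G →* S := PresentedGroup.toGroup hrel
  have hφ : φ (PresentedGroup.of x0) = s x0 := PresentedGroup.toGroup.of hrel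
  have hker : φ.ker = psi.ker := by
    have hN : (φ.ker.map psi).Normal := Subgroup.Normal.map inferInstance psi psi_surj
    rcases hN.eq_bot_or_eq_top with h | h
    · have hle : φ.ker ≤ psi.ker := by
        intro g hg
        have : psi g ∈ φ.ker.map psi := Subgroup.mem_map_of_mem psi hg
        rw [h, Subgroup.mem_bot] at this
        exact this
      by_contra hne'
      have hdvd : Nat.card φ.ker ∣ Nat.card psi.ker := Subgroup.card_dvd_of_le hle
      rw [card_ker] at hdvd
      have hcases : Nat.card φ.ker = 1 ∨ Nat.card φ.ker = 2 := by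
        have h2 := Nat.le_of_dvd (by norm_num) hdvd
        have hpos : 0 < Nat.card φ.ker := Nat.card_pos
        omega
      rcases hcases with h1 | h2
      · have hbot : φ.ker = ⊥ := Subgroup.card_eq_one.mp h1
        have hinj : Function.Injective φ := (MonoidHom.ker_eq_bot_iff φ).mp hbot
        have := Nat.card_le_card_of_injective φ hinj
        rw [card_P, hcard] at this
        omega
      · apply hne'
        exact Subgroup.eq_of_le_of_card_ge hle (by rw [h2, card_ker])
    · exfalso
      have hsup : psi.ker ⊔ φ.ker = ⊤ := by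
        have h1 := Subgroup.comap_map_eq psi φ.ker
        rw [h, Subgroup.comap_top] at h1
        rw [sup_comm]
        exact h1.symm
      have hidx : φ.ker.index ∣ 2 := by
        have h1 : φ.ker.relIndex (psi.ker ⊔ φ.ker) = φ.ker.relIndex psi.ker :=
          Subgroup.relIndex_sup_right psi.ker φ.ker
        rw [hsup, Subgroup.relIndex_top_right] at h1
        have h2 := Subgroup.relIndex_dvd_card φ.ker psi.ker
        rw [card_ker] at h2
        rw [h1]
        exact h2
      have hcases : φ.ker.index = 1 ∨ φ.ker.index = 2 := by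
        have h2 := Nat.le_of_dvd (by norm_num) hidx
        have hpos : 0 < φ.ker.index := Nat.pos_of_ne_zero Subgroup.index_ne_zero_of_finite
        omega
      rcases hcases with h1 | h2
      · have htop : φ.ker = ⊤ := Subgroup.index_eq_one.mp h1
        have : PresentedGroup.of x0 ∈ φ.ker := by rw [htop]; trivial
        rw [MonoidHom.mem_ker, hφ] at this
        exact hne this
      · exact no_index_two_P φ.ker h2
  have hrange : φ.range = ⊤ := by
    apply Subgroup.eq_top_of_card_eq
    have h1 := Subgroup.card_eq_card_quotient_mul_card_subgroup φ.ker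
    have h2 : Nat.card (U6PTC.G ⧸ φ.ker) = Nat.card φ.range :=
      Nat.card_congr (QuotientGroup.quotientKerEquivRange φ).toEquiv
    rw [h2, hker, card_ker, card_P] at h1
    rw [hcard]
    omega
  have hsurj : Function.Surjective φ := MonoidHom.range_eq_top.mp hrange
  exact ⟨(QuotientGroup.quotientKerEquivOfSurjective φ hsurj).symm.trans
    ((QuotientGroup.quotientMulEquivOfEq hker).trans
      (QuotientGroup.quotientKerEquivOfSurjective psi psi_surj))⟩

/-- the same with the relations spelt out, for every field with four elements. -/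
theorem nonempty_equiv_PSU62 {S : Type u} [Group S] (hcard : Nat.card S = 9196830720)
    (s : U6P.Gen → S)
    (hcox : ∀ x y : U6P.Gen, (s x * s y) ^ Cfsg.Spor.coxLabel U6P.edges x y = 1)
    (h1 : (s .i * s .h * s .d * s .e * s .f * s .g * s .c) ^ 9 = 1)
    (h2 : (s .w * s .f * s .e * s .d * s .h * s .i * s .h * s .d * s .e * s .f) ^ 3 = 1)
    (h3 : (s .w * s .f * s .e * s .d * s .h * s .i) ^ 5 = 1)
    (h4 : (s .f * s .i * s .e * s .g * s .w * s .h) ^ 5 = 1)
    (x0 : U6P.Gen) (hne : s x0 ≠ 1)
    {F : Type v} [Field F] [Fintype F] (hF : Fintype.card F = 4) :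
    Nonempty (S ≃* Cfsg.PSU 6 F 2) := by
  obtain ⟨e⟩ := nonempty_equiv_PSU6 hcard s (rels_of s hcox h1 h2 h3 h4) x0 hne
  obtain ⟨f⟩ := Cfsg.Agent.Helper11.PSUCongr.nonempty_psu_equiv (K := F4) (K' := F)
    (by rw [F4.card, hF]) 6 2
  exact ⟨e.trans f⟩

end Cfsg.Agent.Helper11.U62Recog
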