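import Mathlib
import Cfsg.Agent.Helper11.Co2StabK
import Cfsg.Agent.Helper11.U62Recog
import Cfsg.Agent.Helper22.Co2Stab

/-! The stabiliser of the letter `0` in helper22's permutation model `K` of the second Conway group
on 4600 letters is isomorphic to `PSU₆(2)`: it has order `9196830720` and contains eight involutions
satisfying helper17's presentation `U6P` of `2·U₆(2)`. -/

set_option autoImplicit false
set_option linter.all false
set_option maxRecDepth 100000
set_option maxHeartbeats 0

namespace Cfsg.Agent.Helper11.Co2Stab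

open Cfsg.Agent.Helper22.PermPack Cfsg.Agent.Helper22.Co2K Cfsg.Agent.Helper17
  Cfsg.Agent.Helper17.U62

theorem gens8_good : ∀ y ∈ gens8, Good 4600 13 y :=
  fun y hy => good_of_goodB (List.all_eq_true.mp gens8_goodK y hy)

theorem zu_good' : ∀ t ∈ zu, Good 4600 13 t := by
  intro t ht
  simp only [zu, List.mem_cons, List.mem_nil_iff, or_false] at ht
  rcases ht with rfl | rfl
  · exact z_good
  · exact u_good

theorem slp1_mem : ∀ e ∈ slp1, Good 4600 13 e.1 ∧ P 4600 13 e.1 ∈ Grp 4600 13 zu :=
  slp_sound zu slp1 zu (fun t ht => ⟨zu_good' t ht, P_mem_Grp ht⟩) slp1_okK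

/-- the table of a letter -/
def tabOf (l : ℕ) : ℕ := gens8.getD l tW

/-- the permutation of a letter -/
noncomputable def gP (l : ℕ) : Pm 4600 := P 4600 13 (tabOf l)

theorem tabOf_mem (l : ℕ) : tabOf l ∈ gens8 := by
  unfold tabOf
  by_cases h : l < gens8.length
  · rw [List.getD_eq_getElem _ _ h]
    exact List.getElem_mem h
  · rw [List.getD_eq_default _ _ (by omega)]
    simp [gens8]

theorem gens8_slp : (gens8.all fun y => slp1.any fun e => e.1 == y) = true := by decide +kernel

theorem gP_mem (l : ℕ) : gP l ∈ K := by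
  have h := List.all_eq_true.mp gens8_slp (tabOf l) (tabOf_mem l)
  rw [List.any_eq_true] at h
  obtain ⟨e, he, h2⟩ := h
  have := (slp1_mem e he).2
  rw [beq_iff_eq.mp h2] at this
  exact this

theorem hRep (l : ℕ) : Rep (slot 13 (tabOf l)) (gP l) := rep_P (gens8_good _ (tabOf_mem l))

theorem inv_spec (l : ℕ) : slot 13 (tabOf l) 0 = 0 ∧
    ∀ i < 4600, slot 13 (tabOf l) (slot 13 (tabOf l) i) = i := by
  have h := List.all_eq_true.mp inv_okK (tabOf l) (tabOf_mem l)
  rw [Bool.and_eq_true] at h
  exact ⟨beq_iff.mp h.1, fun i hi => beq_iff.mp (allN_spec h.2 i hi)⟩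

theorem gP_fix (l : ℕ) : gP l (⟨0, by norm_num⟩ : Fin 4600) = ⟨0, by norm_num⟩ := by
  apply Fin.ext
  exact (hRep l _).trans (inv_spec l).1

theorem gP_zero_ne : gP 0 ≠ 1 := by
  intro h
  have h1 := hRep 0 (⟨1, by norm_num⟩ : Fin 4600)
  rw [h] at h1
  have h2 := move_okK
  simp only [Bool.not_eq_true'] at h2
  have h3 : Nat.beq (slot 13 tC 1) 1 = true := beq_iff.mpr h1.symm
  rw [h3] at h2
  exact absurd h2 (by decide)

/-! ### Words -/

/-- the function of a word -/
def wlook : List ℕ → ℕ → ℕ
  | [], i => i
  | a :: w, i => wlook w (slot 13 (tabOf a) i)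

/-- the product of a word, last letter first -/
noncomputable def wprod : List ℕ → Pm 4600
  | [] => 1
  | a :: w => wprod w * gP a

theorem rep_wlook : ∀ w : List ℕ, Rep (wlook w) (wprod w) := by
  intro w
  induction w with
  | nil => exact rep_one
  | cons a w ih => exact rep_congr (rep_mul ih (hRep a)) (fun _ _ => rfl)

theorem wprod_append (v w : List ℕ) : wprod (v ++ w) = wprod w * wprod v := by
  induction v with
  | nil => simp [wprod]
  | cons a v ih => rw [List.cons_append, wprod, ih, wprod, mul_assoc]

theorem wprod_replicate (w : List ℕ) (m : ℕ) :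
    wprod (List.replicate m w).flatten = wprod w ^ m := by
  induction m with
  | zero => simp [wprod]
  | succ m ih => rw [List.replicate_succ, List.flatten_cons, wprod_append, ih, pow_succ]

/-- the Boolean test for `wprod w ^ m = 1` -/
def powOK (w : List ℕ) (m : ℕ) : Bool :=
  allN 4600 fun i => Nat.beq (wlook (List.replicate m w).flatten i) i

theorem pow_eq_one {w : List ℕ} {m : ℕ} (h : powOK w m = true) : wprod w ^ m = 1 := by
  rw [← wprod_replicate]
  apply rep_unique (f := fun i => i) _ rep_one
  apply rep_congr (rep_wlook _)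
  intro i hi
  exact (beq_iff.mp (allN_spec h i hi)).symm

/-- the number of a generator -/
def num : U6P.Gen → ℕ
  | .c => 0
  | .d => 1
  | .e => 2
  | .f => 3
  | .g => 4
  | .h => 5
  | .i => 6
  | .w => 7

/-- the label of a pair of letters -/
def lab (a b : ℕ) : ℕ := Cfsg.Spor.coxLabel U6P.edges (U6PTC.gen a) (U6PTC.gen b)

theorem gen_num (x : U6P.Gen) : U6PTC.gen (num x) = x := by cases x <;> rfl

theorem num_lt (x : U6P.Gen) : num x < 8 := by cases x <;> decide

theorem cox_okK : (allN 8 fun a => allN 8 fun b => powOK [b, a] (lab a b)) = true := by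
  decide +kernel

theorem ex1_okK : powOK [0, 4, 3, 2, 1, 5, 6] 9 = true := by decide +kernel
theorem ex2_okK : powOK [3, 2, 1, 5, 6, 5, 1, 2, 3, 7] 3 = true := by decide +kernel
theorem ex3_okK : powOK [6, 5, 1, 2, 3, 7] 5 = true := by decide +kernel
theorem ex4_okK : powOK [5, 7, 4, 2, 6, 3] 5 = true := by decide +kernel

theorem cox_P (x y : U6P.Gen) :
    (gP (num x) * gP (num y)) ^ Cfsg.Spor.coxLabel U6P.edges x y = 1 := by
  have h := allN_spec (allN_spec cox_okK (num x) (num_lt x)) (num y) (num_lt y)
  have h2 := pow_eq_one h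
  unfold lab at h2
  rw [gen_num, gen_num] at h2
  simpa [wprod] using h2

/-! ### The stabiliser -/

/-- the stabiliser of the letter `0` -/
noncomputable abbrev S0 : Subgroup ↥K := MulAction.stabilizer ↥K (⟨0, by norm_num⟩ : Fin 4600)

/-- the eight involutions in the stabiliser -/
noncomputable def sS (x : U6P.Gen) : ↥S0 :=
  ⟨⟨gP (num x), gP_mem _⟩, by
    rw [MulAction.mem_stabilizer_iff]
    exact gP_fix _⟩

/-- the inclusion into the permutations -/
noncomputable def incl : ↥S0 →* Pm 4600 := K.subtype.comp S0.subtype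

theorem incl_injective : Function.Injective incl := by
  intro a b h
  apply Subtype.ext
  apply Subtype.ext
  exact h

theorem incl_sS (x : U6P.Gen) : incl (sS x) = gP (num x) := rfl

theorem card_S0 : Nat.card ↥S0 = 9196830720 := Cfsg.Agent.Helper22.Co2Stab.card_stab0

/-- the stabiliser of a letter in the group on 4600 letters is `PSU₆(2)`. -/
theorem nonempty_equiv_S0 {F : Type*} [Field F] [Fintype F] (hF : Fintype.card F = 4) :
    Nonempty (↥(MulAction.stabilizer ↥K (⟨0, by norm_num⟩ : Fin 4600)) ≃* Cfsg.PSU 6 F 2) := by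
  refine Cfsg.Agent.Helper11.U62Recog.nonempty_equiv_PSU62 card_S0 sS ?_ ?_ ?_ ?_ ?_ .c ?_ hF
  · intro x y
    apply incl_injective
    rw [map_pow, map_mul, incl_sS, incl_sS, map_one]
    exact cox_P x y
  · apply incl_injective
    simp only [map_pow, map_mul, incl_sS, map_one]
    have h := pow_eq_one ex1_okK
    simpa [wprod, num, mul_assoc] using h
  · apply incl_injective
    simp only [map_pow, map_mul, incl_sS, map_one]
    have h := pow_eq_one ex2_okK
    simpa [wprod, num, mul_assoc] using h
  · apply incl_injective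
    simp only [map_pow, map_mul, incl_sS, map_one]
    have h := pow_eq_one ex3_okK
    simpa [wprod, num, mul_assoc] using h
  · apply incl_injective
    simp only [map_pow, map_mul, incl_sS, map_one]
    have h := pow_eq_one ex4_okK
    simpa [wprod, num, mul_assoc] using h
  · intro h
    apply gP_zero_ne
    have := congrArg incl h
    rw [incl_sS, map_one] at this
    exact this

end Cfsg.Agent.Helper11.Co2Stab
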