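import Mathlib

set_option autoImplicit false

/-!
The `n × n` matrix with an identity block of size `ℓ` in the lower left corner.
-/

namespace Cfsg.Agent.Helper11

variable (F : Type*) [Field F]

/-- The matrix with entries `1` in positions `(j + (n - ℓ), j)`, `j < ℓ`. -/
def cornerMat (n ℓ : ℕ) : Matrix (Fin n) (Fin n) F :=
  Matrix.of (fun i j : Fin n => if j.val < ℓ ∧ i.val = j.val + (n - ℓ) then (1 : F) else 0)

theorem cornerMat_apply (n ℓ : ℕ) (i j : Fin n) :
    cornerMat F n ℓ i j = if j.val < ℓ ∧ i.val = j.val + (n - ℓ) then (1 : F) else 0 := rfl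

theorem cornerMat_mul_self {n ℓ : ℕ} (h2 : 2 * ℓ ≤ n) : cornerMat F n ℓ * cornerMat F n ℓ = 0 := by
  ext i k
  rw [Matrix.mul_apply, Matrix.zero_apply]
  apply Finset.sum_eq_zero
  intro j _
  rw [cornerMat_apply, cornerMat_apply]
  by_cases h : k.val < ℓ ∧ j.val = k.val + (n - ℓ)
  · have hj : ¬ (j.val < ℓ ∧ i.val = j.val + (n - ℓ)) := by
      rintro ⟨h3, _⟩
      omega
    rw [if_neg hj, zero_mul]
  · rw [if_neg h, mul_zero]

theorem cornerMat_ne_zero {n ℓ : ℕ} (h1 : 1 ≤ ℓ) (h2 : 2 * ℓ ≤ n) : cornerMat F n ℓ ≠ 0 := by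
  intro h
  have h0 : 0 < n := by omega
  have := congrFun (congrFun h ⟨n - ℓ, by omega⟩) ⟨0, h0⟩
  rw [cornerMat_apply, Matrix.zero_apply] at this
  simp only [zero_add] at this
  rw [if_pos ⟨by omega, trivial⟩] at this
  exact one_ne_zero this

theorem rank_cornerMat [DecidableEq F] {n ℓ : ℕ} (h1 : 1 ≤ ℓ) (h2 : ℓ ≤ n) :
    (cornerMat F n ℓ).rank = ℓ := by
  have hn : NeZero n := ⟨by omega⟩
  let k : Fin n := ⟨n - ℓ, by omega⟩
  let σ : Fin n ≃ Fin n := Equiv.addRight k
  let w : Fin n → F := fun j => if j.val < ℓ then 1 else 0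
  have hσ : ∀ j : Fin n, j.val < ℓ → (σ j).val = j.val + (n - ℓ) := by
    intro j hj
    change (j + k).val = _
    rw [Fin.val_add]
    have : j.val + (n - ℓ) < n := by omega
    exact Nat.mod_eq_of_lt this
  have hE : cornerMat F n ℓ = (Matrix.diagonal w).submatrix σ.symm (Equiv.refl _) := by
    ext i j
    rw [cornerMat_apply, Matrix.submatrix_apply, Equiv.refl_apply, Matrix.diagonal_apply]
    by_cases h : j.val < ℓ ∧ i.val = j.val + (n - ℓ)
    · have hij : σ.symm i = j := by
        rw [Equiv.symm_apply_eq]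
        apply Fin.ext
        rw [hσ j h.1, h.2]
      rw [if_pos h, if_pos hij, hij]
      simp only [w]
      rw [if_pos h.1]
    · rw [if_neg h]
      by_cases hij : σ.symm i = j
      · rw [if_pos hij, hij]
        simp only [w]
        by_cases hj : j.val < ℓ
        · exfalso
          apply h
          refine ⟨hj, ?_⟩
          rw [Equiv.symm_apply_eq] at hij
          rw [hij, hσ j hj]
        · rw [if_neg hj]
      · rw [if_neg hij]
  rw [hE, Matrix.rank_submatrix, Matrix.rank_diagonal]
  have h3 : Fintype.card {i : Fin n // w i ≠ 0} = Fintype.card {i : Fin n // i.val < ℓ} := by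
    apply Fintype.card_congr
    apply Equiv.subtypeEquivRight
    intro i
    simp only [w]
    by_cases hi : i.val < ℓ
    · simp [hi]
    · simp [hi]
  rw [h3, Fintype.card_subtype]
  have := Fin.card_filter_val_lt (n := n) (m := ℓ)
  rw [min_eq_right h2] at this
  exact this

end Cfsg.Agent.Helper11
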