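import Mathlib
import Cfsg.Agent.Helper11.CornerMat

set_option autoImplicit false

/-!
More on the corner matrix `E`: the products `Eᵀ E`, `E Eᵀ`, and the permutation-type involution
`1 + (1 + Eᵀ) E (1 + Eᵀ)` in characteristic two.
-/

namespace Cfsg.Agent.Helper11

open scoped Matrix

variable (F : Type*) [Field F]

/-- indicator of the first `ℓ` coordinates -/
def cornerLow (n ℓ : ℕ) : Fin n → F := fun i => if i.val < ℓ then 1 else 0

/-- indicator of the last `ℓ` coordinates -/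
def cornerHigh (n ℓ : ℕ) : Fin n → F := fun i => if n - ℓ ≤ i.val then 1 else 0

theorem transpose_mul_cornerMat {n ℓ : ℕ} (hℓ : ℓ ≤ n) :
    (cornerMat F n ℓ)ᵀ * cornerMat F n ℓ = Matrix.diagonal (cornerLow F n ℓ) := by
  ext i k
  rw [Matrix.mul_apply, Matrix.diagonal_apply]
  simp only [Matrix.transpose_apply, cornerMat_apply, cornerLow]
  by_cases hi : i.val < ℓ
  · have hlt : i.val + (n - ℓ) < n := by omega
    rw [Finset.sum_eq_single (⟨i.val + (n - ℓ), hlt⟩ : Fin n)]
    · simp only [hi, true_and, if_true, one_mul]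
      by_cases hik : i = k
      · subst hik
        simp [hi]
      · rw [if_neg hik, if_neg]
        rintro ⟨_, h2⟩
        apply hik
        apply Fin.ext
        omega
    · intro j _ hj
      rw [if_neg, zero_mul]
      rintro ⟨_, h2⟩
      apply hj
      apply Fin.ext
      exact h2
    · intro h
      exact absurd (Finset.mem_univ _) h
  · have h0 : ∀ j : Fin n, (if i.val < ℓ ∧ j.val = i.val + (n - ℓ) then (1 : F) else 0) = 0 := by
      intro j
      rw [if_neg]
      rintro ⟨h1, _⟩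
      exact hi h1
    simp only [h0, zero_mul, Finset.sum_const_zero]
    by_cases hik : i = k
    · rw [if_pos hik, if_neg hi]
    · rw [if_neg hik]

theorem cornerMat_mul_transpose {n ℓ : ℕ} (hℓ : ℓ ≤ n) :
    cornerMat F n ℓ * (cornerMat F n ℓ)ᵀ = Matrix.diagonal (cornerHigh F n ℓ) := by
  ext i k
  rw [Matrix.mul_apply, Matrix.diagonal_apply]
  simp only [Matrix.transpose_apply, cornerMat_apply, cornerHigh]
  by_cases hi : n - ℓ ≤ i.val
  · have hlt : i.val - (n - ℓ) < n := by omega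
    have hiℓ : i.val - (n - ℓ) < ℓ := by have := i.2; omega
    rw [Finset.sum_eq_single (⟨i.val - (n - ℓ), hlt⟩ : Fin n)]
    · have h1 : ((⟨i.val - (n - ℓ), hlt⟩ : Fin n).val < ℓ ∧
          i.val = (⟨i.val - (n - ℓ), hlt⟩ : Fin n).val + (n - ℓ)) := ⟨hiℓ, by simp only; omega⟩
      rw [if_pos h1, one_mul]
      by_cases hik : i = k
      · subst hik
        rw [if_pos h1, if_pos rfl, if_pos hi]
      · rw [if_neg hik, if_neg]
        rintro ⟨_, h2⟩
        apply hik
        apply Fin.ext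
        simp only at h2
        omega
    · intro j _ hj
      rw [if_neg, zero_mul]
      rintro ⟨_, h2⟩
      apply hj
      apply Fin.ext
      simp only
      omega
    · intro h
      exact absurd (Finset.mem_univ _) h
  · have h0 : ∀ j : Fin n, (if j.val < ℓ ∧ i.val = j.val + (n - ℓ) then (1 : F) else 0) = 0 := by
      intro j
      rw [if_neg]
      rintro ⟨_, h1⟩
      omega
    simp only [h0, zero_mul, Finset.sum_const_zero]
    by_cases hik : i = k
    · rw [if_pos hik, if_neg hi]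
    · rw [if_neg hik]

theorem cornerLow_mul_transpose {n ℓ : ℕ} :
    Matrix.diagonal (cornerLow F n ℓ) * (cornerMat F n ℓ)ᵀ = (cornerMat F n ℓ)ᵀ := by
  ext i j
  rw [Matrix.diagonal_mul, Matrix.transpose_apply, cornerMat_apply, cornerLow]
  by_cases hi : i.val < ℓ
  · rw [if_pos hi, one_mul]
  · rw [if_neg hi, zero_mul, if_neg]
    rintro ⟨h1, _⟩
    exact hi h1

/-- The permutation-type matrix exchanging `i` and `i + (n - ℓ)` for `i < ℓ`. -/
def swapMat (n ℓ : ℕ) : Matrix (Fin n) (Fin n) F :=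
  Matrix.of (fun i j : Fin n => if (j.val < ℓ ∧ i.val = j.val + (n - ℓ)) ∨ (i.val < ℓ ∧ j.val = i.val + (n - ℓ)) ∨ (i = j ∧ ℓ ≤ i.val ∧ i.val < n - ℓ) then (1 : F) else 0)

theorem swapMat_apply (n ℓ : ℕ) (i j : Fin n) :
    swapMat F n ℓ i j = if (j.val < ℓ ∧ i.val = j.val + (n - ℓ)) ∨ (i.val < ℓ ∧ j.val = i.val + (n - ℓ)) ∨ (i = j ∧ ℓ ≤ i.val ∧ i.val < n - ℓ) then (1 : F) else 0 := rfl

theorem swapMat_transpose (n ℓ : ℕ) : (swapMat F n ℓ)ᵀ = swapMat F n ℓ := by
  ext i j
  rw [Matrix.transpose_apply, swapMat_apply, swapMat_apply]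
  congr 1
  apply propext
  constructor
  · rintro (h | h | ⟨h1, h2, h3⟩)
    · exact Or.inr (Or.inl h)
    · exact Or.inl h
    · exact Or.inr (Or.inr ⟨h1.symm, h1 ▸ h2, h1 ▸ h3⟩)
  · rintro (h | h | ⟨h1, h2, h3⟩)
    · exact Or.inr (Or.inl h)
    · exact Or.inl h
    · exact Or.inr (Or.inr ⟨h1.symm, h1 ▸ h2, h1 ▸ h3⟩)

/-- In characteristic two, `swapMat = 1 + E + Eᵀ + D_low + D_high`. -/
theorem swapMat_eq [CharP F 2] {n ℓ : ℕ} (h1 : 1 ≤ ℓ) (h2 : 2 * ℓ ≤ n) :
    swapMat F n ℓ = 1 + cornerMat F n ℓ + (cornerMat F n ℓ)ᵀ + Matrix.diagonal (cornerLow F n ℓ)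
      + Matrix.diagonal (cornerHigh F n ℓ) := by
  ext i j
  simp only [Matrix.add_apply, Matrix.transpose_apply, cornerMat_apply, swapMat_apply,
    Matrix.diagonal_apply, Matrix.one_apply, cornerLow, cornerHigh]
  have h11 : (1 : F) + 1 = 0 := CharTwo.add_self_eq_zero 1
  by_cases hij : i = j
  · subst hij
    have hA : ¬ (i.val < ℓ ∧ i.val = i.val + (n - ℓ)) := by rintro ⟨_, h⟩; omega
    simp only [hA, if_false, if_true, add_zero, false_or, true_and]
    by_cases hlow : i.val < ℓ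
    · have hhigh : ¬ (n - ℓ ≤ i.val) := by omega
      have hmid : ¬ (ℓ ≤ i.val ∧ i.val < n - ℓ) := by omega
      rw [if_neg hmid, if_pos hlow, if_neg hhigh, add_zero, h11]
    · by_cases hhigh : n - ℓ ≤ i.val
      · have hmid : ¬ (ℓ ≤ i.val ∧ i.val < n - ℓ) := by omega
        rw [if_neg hmid, if_neg hlow, if_pos hhigh, add_zero, h11]
      · have hmid : (ℓ ≤ i.val ∧ i.val < n - ℓ) := by omega
        rw [if_pos hmid, if_neg hlow, if_neg hhigh, add_zero, add_zero]
  · have hij' : i.val ≠ j.val := fun h => hij (Fin.ext h)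
    simp only [hij, if_false, false_and, or_false, add_zero, zero_add]
    by_cases hA : j.val < ℓ ∧ i.val = j.val + (n - ℓ)
    · have hB : ¬ (i.val < ℓ ∧ j.val = i.val + (n - ℓ)) := by omega
      rw [if_pos (Or.inl hA), if_pos hA, if_neg hB, add_zero]
    · by_cases hB : i.val < ℓ ∧ j.val = i.val + (n - ℓ)
      · rw [if_pos (Or.inr hB), if_neg hA, if_pos hB, zero_add]
      · rw [if_neg (by tauto), if_neg hA, if_neg hB, add_zero]

/-- `swapMat - 1 = (1 + Eᵀ) E (1 + Eᵀ)` in characteristic two. -/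
theorem swapMat_sub_one [CharP F 2] {n ℓ : ℕ} (h1 : 1 ≤ ℓ) (h2 : 2 * ℓ ≤ n) :
    swapMat F n ℓ - 1 = (1 + (cornerMat F n ℓ)ᵀ) * cornerMat F n ℓ * (1 + (cornerMat F n ℓ)ᵀ) := by
  have hℓ : ℓ ≤ n := by omega
  have e1 := transpose_mul_cornerMat F hℓ
  have e2 := cornerMat_mul_transpose F hℓ
  have e3 := cornerLow_mul_transpose F (n := n) (ℓ := ℓ)
  set E := cornerMat F n ℓ with hE
  have expand : (1 + Eᵀ) * E * (1 + Eᵀ) = E + E * Eᵀ + Eᵀ * E + Eᵀ * E * Eᵀ := by
    noncomm_ring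
  rw [expand, e1, e2, e3, swapMat_eq F h1 h2]
  abel

end Cfsg.Agent.Helper11
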