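import Mathlib
import Cfsg.Agent.Helper8.D1Base
import Cfsg.Agent.Helper11.D1QL
import Cfsg.Agent.Helper5.PElementCongr
import Cfsg.Agent.Helper5.CentralChar

/-!
Defect-one cluster (helper8's plan), piece QL, part c (QL6): `μ θ` and `θ` lie in the same
`p`-block, for `μ` a `p`-linear function.
-/

set_option autoImplicit false
set_option linter.unusedSectionVars false
set_option linter.unusedVariables false

namespace Cfsg.Agent.Helper11.D1QL

open Cfsg Cfsg.Agent.Helper8.D1 Cfsg.Agent.Helper5 Cfsg.Agent.Helper5.Loc Cfsg.Agent.Helper5.CC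

/-- QL6: `μ θ` and `θ` lie in the same `p`-block -/
theorem sameBlock_pLin_mul {X : Type*} [Group X] [Finite X] {p : ℕ} [Fact p.Prime]
    (Z : Subgroup X) (hZ : Nat.card Z = p) (hZc : Z ≤ Subgroup.center X) (hZi : ¬ p ∣ Z.index)
    {M : Ideal AlgInt} (hM : IsPModular p M) {μ : X → ℂ} (hμ : IsPLin p μ)
    (θ : IrrCharacter X) : SameBlock M (fun x => μ x * (θ : X → ℂ) x) (θ : X → ℂ) := by
  intro g
  have hMp := isPrime_of_isPModular hM
  have h1 : centralChar (fun x => μ x * (θ : X → ℂ) x) g - centralChar (θ : X → ℂ) g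
      = (μ g - 1) * centralChar (θ : X → ℂ) g := by
    rw [centralChar_def, centralChar_def, hμ.one, one_mul]
    ring
  rw [h1]
  refine li_mul_right hMp (pPowRoot_sub_one_memLocalIdeal hM (μ g) 1 ?_)
    (memLocalRing_centralChar hMp θ g)
  rw [pow_one]
  exact pLin_pow_p Z hZ hZc hZi hμ g

end Cfsg.Agent.Helper11.D1QL
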