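import Mathlib
import Cfsg.Agent.Helper11.ChevCommDE
import Cfsg.Agent.Helper6.Chev.UProd

/-!
# A verified collector for the positive unipotent group of `D₄` in characteristic two

Words in positive root elements are brought to the normal order
`18, 13, 12, 14, 19, 16, 15, 21, 20, 17, 22, 23` (the classes of the triality twist).
-/

set_option autoImplicit false
set_option linter.unusedSectionVars false
set_option linter.unusedVariables false

namespace Cfsg.Agent.Helper11.D4Coll

open Cfsg.Lie Cfsg.Agent.Helper6

/-- position in the normal order -/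
def ord : ℕ → ℕ
  | 18 => 0 | 13 => 1 | 12 => 2 | 14 => 3 | 19 => 4 | 16 => 5 | 15 => 6 | 21 => 7 | 20 => 8
  | 17 => 9 | 22 => 10 | 23 => 11 | _ => 12

/-- the sum of two positive roots of `D₄`, as a root index -/
def add : ℕ → ℕ → Option ℕ
  | 12, 14 => some 15 | 14, 12 => some 15
  | 12, 16 => some 17 | 16, 12 => some 17
  | 12, 19 => some 20 | 19, 12 => some 20
  | 12, 21 => some 22 | 21, 12 => some 22
  | 13, 14 => some 16 | 14, 13 => some 16
  | 13, 15 => some 17 | 15, 13 => some 17
  | 13, 19 => some 21 | 19, 13 => some 21
  | 13, 20 => some 22 | 20, 13 => some 22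
  | 14, 18 => some 19 | 18, 14 => some 19
  | 14, 22 => some 23 | 22, 14 => some 23
  | 15, 18 => some 20 | 18, 15 => some 20
  | 15, 21 => some 23 | 21, 15 => some 23
  | 16, 18 => some 21 | 18, 16 => some 21
  | 16, 20 => some 23 | 20, 16 => some 23
  | 17, 18 => some 22 | 18, 17 => some 22
  | 17, 19 => some 23 | 19, 17 => some 23
  | _, _ => none

/-- positive root indices -/
def Pos (r : ℕ) : Prop := 12 ≤ r ∧ r < 24

instance (r : ℕ) : Decidable (Pos r) := by unfold Pos; infer_instance

/-- the table check of the commutator terms -/
def chkB (r s : ℕ) : Bool :=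
  match add s r with
  | none => decide (chevD4.commTerms r s = [])
  | some k => decide (12 ≤ k ∧ k < 24 ∧
      (chevD4.commTerms r s = [(k, 1, 1, 1)] ∨ chevD4.commTerms r s = [(k, -1, 1, 1)]))

theorem chk : ∀ r < 24, ∀ s < 24, 12 ≤ r → 12 ≤ s → r ≠ s → chkB r s = true := by
  decide +kernel

variable {K : Type*} [Field K]

theorem hB4 : BasicOK chevD4 := basicOK_of_tabulated (by simp [IsTabulated])

/-- the root element -/
noncomputable def X (r : ℕ) (t : K) : GL chevD4.Idx K := xU hB4 r t

/-- words -/
noncomputable def W (w : List (ℕ × K)) : GL chevD4.Idx K := wordU hB4 w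

theorem W_nil : W ([] : List (ℕ × K)) = 1 := by
  unfold W wordU; simp

theorem W_cons (p : ℕ × K) (w : List (ℕ × K)) : W (p :: w) = X p.1 p.2 * W w := by
  unfold W wordU X; simp

theorem W_append (w₁ w₂ : List (ℕ × K)) : W (w₁ ++ w₂) = W w₁ * W w₂ := by
  unfold W wordU; simp

theorem X_add (r : ℕ) (t u : K) : X r t * X r u = X r (t + u) := xU_mul hB4 r t u

theorem X_zero (r : ℕ) : X r (0 : K) = 1 := xU_zero hB4 r

section char2

variable [CharP K 2]

/-- the swap rule in characteristic two -/
theorem swap {r s : ℕ} (hr : Pos r) (hs : Pos s) (hne : r ≠ s) (t u : K) :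
    X s u * X r t = X r t * X s u * (match add s r with
      | none => 1
      | some k => X k (t * u)) := by
  have hC : CommF chevD4 K r s :=
    ChevCommDE.commF_DE (by simp) (show r < chevD4.nroots from hr.2) (show s < chevD4.nroots from hs.2)
      (fun h => hne h.symm) (by
        intro h
        have : chevD4.neg r < 12 := by
          have := hr.1; have := hr.2
          interval_cases r <;> decide
        have := hs.1
        omega)
  have key : (X s u * X r t : GL chevD4.Idx K) =
      X r t * X s u * W (chevD4.commWord K r s t u) := by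
    apply Units.ext
    simp only [Units.val_mul, X, W, xU_val, wordU_val]
    exact hC t u
  rw [key]
  congr 1
  have hchk := chk r hr.2 s hs.2 hr.1 hs.1 hne
  rcases h1 : add s r with _ | k
  · unfold chkB at hchk
    rw [h1] at hchk
    have h2 : chevD4.commTerms r s = [] := by simpa using hchk
    unfold ChevalleyDatum.commWord
    rw [h2]
    simp [W_nil]
  · unfold chkB at hchk
    rw [h1] at hchk
    obtain ⟨-, -, h2⟩ : 12 ≤ k ∧ k < 24 ∧
        (chevD4.commTerms r s = [(k, 1, 1, 1)] ∨ chevD4.commTerms r s = [(k, -1, 1, 1)]) := by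
      simpa using hchk
    have h2' : (-1 : K) = 1 := by
      have : (2 : K) = 0 := CharTwo.two_eq_zero
      linear_combination -this
    unfold ChevalleyDatum.commWord
    rcases h2 with h2 | h2
    · rw [h2]
      simp only [List.map_cons, List.map_nil, W_cons, W_nil, mul_one, Int.cast_one, pow_one, one_mul]
      congr 1
      linear_combination (t * u) * h2'
    · rw [h2]
      simp only [List.map_cons, List.map_nil, W_cons, W_nil, mul_one, Int.cast_neg, Int.cast_one, pow_one]
      congr 1
      ring

/-- insertion of a root element on the left of a word -/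
def ins : ℕ → ℕ × K → List (ℕ × K) → List (ℕ × K)
  | 0, x, w => x :: w
  | _ + 1, x, [] => [x]
  | n + 1, x, y :: w =>
    if ord x.1 < ord y.1 then x :: y :: w
    else if x.1 = y.1 then (x.1, x.2 + y.2) :: w
    else match add x.1 y.1 with
      | none => y :: ins n x w
      | some k => y :: ins n x (ins n (k, y.2 * x.2) w)

/-- collection of a word -/
def collect (n : ℕ) (w : List (ℕ × K)) : List (ℕ × K) := w.foldr (ins n) []

theorem add_pos : ∀ r < 24, ∀ s < 24, ∀ k ∈ add r s, 12 ≤ k ∧ k < 24 := by decide +kernel

theorem ins_pos : ∀ (n : ℕ) (x : ℕ × K) (w : List (ℕ × K)), Pos x.1 → (∀ y ∈ w, Pos y.1) →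
    ∀ z ∈ ins n x w, Pos z.1 := by
  intro n
  induction n with
  | zero =>
    intro x w hx hw z hz
    simp only [ins, List.mem_cons] at hz
    rcases hz with rfl | hz
    · exact hx
    · exact hw z hz
  | succ n ih =>
    intro x w hx hw z hz
    cases w with
    | nil =>
      simp only [ins, List.mem_cons, List.not_mem_nil, or_false] at hz
      rw [hz]; exact hx
    | cons y w =>
      have hy : Pos y.1 := hw y List.mem_cons_self
      have hw' : ∀ y' ∈ w, Pos y'.1 := fun y' h => hw y' (List.mem_cons_of_mem _ h)
      simp only [ins] at hz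
      split_ifs at hz with h1 h2
      · simp only [List.mem_cons] at hz
        rcases hz with rfl | rfl | hz
        · exact hx
        · exact hy
        · exact hw' z hz
      · simp only [List.mem_cons] at hz
        rcases hz with rfl | hz
        · exact hx
        · exact hw' z hz
      · rcases h3 : add x.1 y.1 with _ | k
        · rw [h3] at hz
          simp only [List.mem_cons] at hz
          rcases hz with rfl | hz
          · exact hy
          · exact ih x w hx hw' z hz
        · rw [h3] at hz
          simp only [List.mem_cons] at hz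
          rcases hz with rfl | hz
          · exact hy
          · have hk : Pos k := add_pos x.1 hx.2 y.1 hy.2 k (by rw [h3]; rfl)
            exact ih x _ hx (ih (k, y.2 * x.2) w hk hw') z hz

theorem W_ins : ∀ (n : ℕ) (x : ℕ × K) (w : List (ℕ × K)), Pos x.1 → (∀ y ∈ w, Pos y.1) →
    W (ins n x w) = X x.1 x.2 * W w := by
  intro n
  induction n with
  | zero =>
    intro x w hx hw
    simp only [ins, W_cons]
  | succ n ih =>
    intro x w hx hw
    cases w with
    | nil => simp only [ins, W_cons]
    | cons y w =>
      have hy : Pos y.1 := hw y List.mem_cons_self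
      have hw' : ∀ y' ∈ w, Pos y'.1 := fun y' h => hw y' (List.mem_cons_of_mem _ h)
      simp only [ins]
      split_ifs with h1 h2
      · simp only [W_cons]
      · simp only [W_cons]
        rw [← X_add, h2, mul_assoc]
      · have hne : y.1 ≠ x.1 := fun h => h2 h.symm
        have hsw := swap hy hx hne y.2 x.2
        rcases h3 : add x.1 y.1 with _ | k
        · rw [h3] at hsw
          simp only [W_cons]
          rw [ih x w hx hw', ← mul_assoc, ← mul_assoc, hsw, mul_one]
        · rw [h3] at hsw
          have hk : Pos k := add_pos x.1 hx.2 y.1 hy.2 k (by rw [h3]; rfl)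
          simp only [W_cons]
          rw [ih x _ hx (ins_pos n (k, y.2 * x.2) w hk hw'), ih (k, y.2 * x.2) w hk hw']
          simp only [← mul_assoc]
          rw [hsw]

theorem collect_pos (n : ℕ) : ∀ (w : List (ℕ × K)), (∀ y ∈ w, Pos y.1) →
    ∀ z ∈ collect n w, Pos z.1 := by
  intro w
  induction w with
  | nil => intro _ z hz; simp [collect] at hz
  | cons x w ih =>
    intro hw z hz
    have : collect n (x :: w) = ins n x (collect n w) := rfl
    rw [this] at hz
    exact ins_pos n x _ (hw x List.mem_cons_self)
      (ih (fun y hy => hw y (List.mem_cons_of_mem _ hy))) z hz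

theorem W_collect (n : ℕ) : ∀ (w : List (ℕ × K)), (∀ y ∈ w, Pos y.1) →
    W (collect n w) = W w := by
  intro w
  induction w with
  | nil => intro _; rfl
  | cons x w ih =>
    intro hw
    have : collect n (x :: w) = ins n x (collect n w) := rfl
    have hw' : ∀ y ∈ w, Pos y.1 := fun y hy => hw y (List.mem_cons_of_mem _ hy)
    rw [this, W_ins n x _ (hw x List.mem_cons_self) (collect_pos n w hw'), ih hw', W_cons]

end char2

end Cfsg.Agent.Helper11.D4Coll
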