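import Mathlib

/-!
# The Frobenius-type automorphism `x ↦ x ^ q` of a finite field of order `q ^ n`

Existence as a ring automorphism, its order dividing `n`, and the number `q` of its fixed points.
-/

set_option autoImplicit false

namespace Cfsg.Agent.Helper11.TwField

variable {K : Type*} [Field K] [Fintype K]

/-- the number of solutions of `x ^ q = x` in a field with `q ^ n` elements -/
theorem card_fixed_pow {q n : ℕ} (hq : 1 < q) (hn : 0 < n) (hK : Fintype.card K = q ^ n) :
    Nat.card {x : K // x ^ q = x} = q := by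
  classical
  have hcardU : Nat.card Kˣ = q ^ n - 1 := by
    rw [Nat.card_eq_fintype_card, Fintype.card_units, hK]
  have hdvd : q - 1 ∣ q ^ n - 1 := Nat.sub_one_dvd_pow_sub_one q n
  have hker : Nat.card {u : Kˣ // u ^ (q - 1) = 1} = q - 1 := by
    have h1 := IsCyclic.card_powMonoidHom_ker Kˣ (q - 1)
    rw [hcardU, Nat.gcd_eq_right hdvd] at h1
    refine (Nat.card_congr ?_).trans h1
    exact Equiv.subtypeEquivRight fun x => by simp [MonoidHom.mem_ker]
  have key : ∀ x : K, x ≠ 0 → (x ^ q = x ↔ x ^ (q - 1) = 1) := by
    intro x hx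
    have e : x ^ q = x ^ (q - 1) * x := by rw [← pow_succ]; congr 1; omega
    rw [e]
    constructor
    · intro h
      have : x ^ (q - 1) * x = 1 * x := by rw [h, one_mul]
      exact mul_right_cancel₀ hx this
    · intro h; rw [h, one_mul]
  let e : {x : K // x ^ q = x} ≃ Option {u : Kˣ // u ^ (q - 1) = 1} :=
    { toFun := fun x => if h : x.1 = 0 then none else
        some ⟨Units.mk0 x.1 h, by
          apply Units.ext
          rw [Units.val_pow_eq_pow_val, Units.val_mk0, Units.val_one]
          exact (key x.1 h).1 x.2⟩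
      invFun := fun o => match o with
        | none => ⟨0, by rw [zero_pow (by omega)]⟩
        | some u => ⟨(u.1 : K), by
            rw [key _ u.1.ne_zero]
            have := congrArg Units.val u.2
            rwa [Units.val_pow_eq_pow_val, Units.val_one] at this⟩
      left_inv := by
        rintro ⟨x, hx⟩
        by_cases h : x = 0
        · subst h; simp
        · simp [h]
      right_inv := by
        rintro (_ | ⟨u, hu⟩)
        · simp
        · simp [u.ne_zero] }
  rw [Nat.card_congr e, Finite.card_option, hker]
  omega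

/-- the automorphism `x ↦ x ^ q` of a finite field of order a power of the prime power `q` -/
theorem exists_frob {q n : ℕ} (hq : IsPrimePow q) (hn : 0 < n) (hK : Fintype.card K = q ^ n) :
    ∃ f : K ≃+* K, ∀ x, f x = x ^ q := by
  obtain ⟨p, hp⟩ := CharP.exists K
  obtain ⟨m, hpp, hm⟩ := FiniteField.card K p
  obtain ⟨p', k, hp', hk, rfl⟩ := hq
  have hp'' : Nat.Prime p' := Nat.prime_iff.2 hp'
  have hpe : p' = p := by
    have h1 : p' ∣ p ^ (m : ℕ) := by
      rw [← hm, hK, ← pow_mul]
      exact dvd_pow_self _ (by positivity)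
    exact (Nat.prime_dvd_prime_iff_eq hp'' hpp).1 (hp''.dvd_of_dvd_pow h1)
  subst hpe
  have : Fact p'.Prime := ⟨hp''⟩
  have : ExpChar K p' := ExpChar.prime hp''
  exact ⟨iterateFrobeniusEquiv K p' k, fun x => iterateFrobeniusEquiv_def K p' k x⟩

theorem frob_iterate {q n : ℕ} (hK : Fintype.card K = q ^ n) (f : K ≃+* K)
    (hf : ∀ x, f x = x ^ q) (x : K) : f^[n] x = x := by
  have h : ∀ k : ℕ, f^[k] x = x ^ (q ^ k) := by
    intro k
    induction k with
    | zero => simp
    | succ k ih => rw [Function.iterate_succ_apply', ih, hf, ← pow_mul, ← pow_succ]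
  rw [h, ← hK, FiniteField.pow_card]

end Cfsg.Agent.Helper11.TwField
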