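import Mathlib
import Cfsg.Agent.Helper11.ChevGraphAut
import Cfsg.Agent.S1080

/-!
# The twisting automorphism `σ = (graph automorphism) ∘ (field automorphism)` on `GL`

`pMat` intertwines *every* root element, with the sign `ε`: `P x_r(t) = x_{σ r}(ε_r t) P`
(`pMat_mul_x_gen`, under the table condition `RootOKg`, checked for all roots in the tables file).
`sigma` is `g ↦ P · f(g) · P⁻¹` for a field automorphism `f`.
-/

set_option autoImplicit false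

namespace Cfsg.Agent.Helper11.TwSigma

open Cfsg.Lie Cfsg.Agent.Helper6 Cfsg.Agent.Helper11.ChevGraphAut

variable {D : ChevalleyDatum} {F : Type*} [Field F]

/-- the conditions at an arbitrary root `p` (all chains of length at most one) -/
def RootOKg (D : ChevalleyDatum) (ρ σ : ℕ → ℕ) (ε : ℕ → ℤ) (p : ℕ) : Prop :=
  ε (D.neg p) = ε p ∧ σ (D.neg p) = D.neg (σ p) ∧
  (∀ i < D.rank, D.cartan (ρ i) (σ p) = D.cartan i p) ∧
  (∀ i < D.rank, corootC D (σ p) (ρ i) = corootC D p i) ∧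
  (∀ s < D.nroots, s = p ∨ s = D.neg p ∨
    (σ s ≠ σ p ∧ σ s ≠ D.neg (σ p) ∧ (D.chainEntry p s).length ≤ 1 ∧
    D.chainEntry (σ p) (σ s) =
      (D.chainEntry p s).map fun q => (σ q.1, q.2 * ε q.1 * ε s * ε p)))

instance (D : ChevalleyDatum) (ρ σ : ℕ → ℕ) (ε : ℕ → ℤ) (p : ℕ) :
    Decidable (RootOKg D ρ σ ε p) := by
  unfold RootOKg; infer_instance

/-- `P x_p(t) = x_{σ p}(ε_p t) P` for an arbitrary root `p` -/
theorem pMat_mul_x_gen (hB : BasicOK D) {ρ ρ' σ : ℕ → ℕ} {ε : ℕ → ℤ}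
    (hρ : ∀ i < D.rank, ρ i < D.rank ∧ ρ' i < D.rank ∧ ρ' (ρ i) = i ∧ ρ (ρ' i) = i)
    (hσ : ∀ s < D.nroots, σ s < D.nroots ∧ (ε s = 1 ∨ ε s = -1))
    {p : ℕ} (hp : p < D.nroots) (hR : RootOKg D ρ σ ε p) (t : F) :
    pMat D F ρ σ ε * D.x F p t = D.x F (σ p) (((ε p : ℤ) : F) * t) * pMat D F ρ σ ε := by
  obtain ⟨he2, hneg, hca, hco, hch⟩ := hR
  have hσp := (hσ p hp).1
  have hnp := (hB.neg p hp).1
  have hsqp : ((ε p : ℤ) : F) * ((ε p : ℤ) : F) = 1 := by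
    rcases (hσ p hp).2 with h | h <;> rw [h] <;> simp
  apply matrix_ext_basis
  · intro j hj
    rw [← Matrix.mulVec_mulVec, ← Matrix.mulVec_mulVec, x_mulVec_hv hB hp t hj,
      pMat_mulVec_hv ρ σ ε hj, Matrix.mulVec_sub, Matrix.mulVec_smul, pMat_mulVec_hv ρ σ ε hj,
      pMat_mulVec_ev ρ σ ε hp, x_mulVec_hv hB hσp _ (hρ j hj).1, hca j hj, smul_smul]
    congr 2
    ring
  · intro u hu
    rw [← Matrix.mulVec_mulVec, ← Matrix.mulVec_mulVec, pMat_mulVec_ev ρ σ ε hu,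
      Matrix.mulVec_smul]
    by_cases h1 : u = p
    · subst h1
      rw [x_mulVec_ev_self hB hu, x_mulVec_ev_self hB hσp, pMat_mulVec_ev ρ σ ε hu]
    · by_cases h2 : u = D.neg p
      · subst h2
        rw [x_mulVec_ev_neg hB hp, hneg, x_mulVec_ev_neg hB hσp, Matrix.mulVec_sub,
          Matrix.mulVec_add, Matrix.mulVec_smul, Matrix.mulVec_smul,
          pMat_mulVec_ev ρ σ ε hu, pMat_mulVec_ev ρ σ ε hp, pMat_mulVec_hr hρ hco, hneg, he2]
        rw [smul_sub, smul_add, smul_smul, smul_smul, smul_smul, ← mul_assoc, hsqp, one_mul]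
        congr 2
        have h3 : ((ε p : ℤ) : F) ^ 2 = 1 := by rw [pow_two, hsqp]
        rw [mul_pow, h3, one_mul, mul_comm]
      · obtain ⟨h3, h4, hlen, h5⟩ := (hch u hu).resolve_left h1 |>.resolve_left h2
        have hm : MemOK D p u := ⟨hu, h1, h2⟩
        have hm' : MemOK D (σ p) (σ u) := ⟨(hσ u hu).1, h3, h4⟩
        rw [x_of_lt hp, x_mulVec_ev' hB.keys ⟨p, hp⟩ t hm, x_of_lt hσp,
          x_mulVec_ev' hB.keys ⟨_, hσp⟩ _ hm', Matrix.mulVec_add, pMat_mulVec_ev ρ σ ε hu,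
          smul_add]
        congr 1
        have hmem : ∀ q ∈ D.chainEntry p u, q.1 < D.nroots := fun q hq =>
          (chainRel_mem (chainRel_chainEntry hB.chain hp u) q hq).1
        show (pMat D F ρ σ ε).mulVec (chainVec D F t 0 (D.chainEntry p u)) = _
        rw [pMat_mulVec_chainVec ρ σ ε t 0 _ hmem, h5]
        have hsq : ((ε u : ℤ) : F) * ((ε u : ℤ) : F) = 1 := by
          rcases (hσ u hu).2 with h | h <;> rw [h] <;> simp
        match hL : D.chainEntry p u, hlen with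
        | [], _ => simp [chainVec]
        | [q], _ =>
          simp only [List.map_cons, List.map_nil, chainVec, add_zero, zero_add, pow_one, smul_smul]
          congr 1
          push_cast
          calc ((q.2 : ℤ) : F) * ((ε q.1 : ℤ) : F) * t
              = (((ε u : ℤ) : F) * ((ε u : ℤ) : F)) * (((ε p : ℤ) : F) * ((ε p : ℤ) : F)) *
                  (((q.2 : ℤ) : F) * ((ε q.1 : ℤ) : F) * t) := by rw [hsq, hsqp]; ring
            _ = _ := by ring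
        | _ :: _ :: _, h => simp at h

/-- the field automorphism followed by conjugation with the signed permutation matrix -/
noncomputable def sigma {ρ ρ' σ σ' : ℕ → ℕ} {ε ε' : ℕ → ℤ}
    (hρ : ∀ i < D.rank, ρ i < D.rank ∧ ρ' i < D.rank ∧ ρ' (ρ i) = i ∧ ρ (ρ' i) = i)
    (hI : InvOK D σ σ' ε ε') (f : F ≃+* F) : GL D.Idx F ≃* GL D.Idx F :=
  (Cfsg.Agent.S1080.glMap D f).trans (MulAut.conj (pU (F := F) hρ hI))

theorem sigma_apply {ρ ρ' σ σ' : ℕ → ℕ} {ε ε' : ℕ → ℤ}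
    (hρ : ∀ i < D.rank, ρ i < D.rank ∧ ρ' i < D.rank ∧ ρ' (ρ i) = i ∧ ρ (ρ' i) = i)
    (hI : InvOK D σ σ' ε ε') (f : F ≃+* F) (g : GL D.Idx F) :
    sigma hρ hI f g = pU (F := F) hρ hI * Cfsg.Agent.S1080.glMap D f g * (pU (F := F) hρ hI)⁻¹ :=
  rfl

theorem glMap_xU (hB : BasicOK D) (f : F ≃+* F) (r : ℕ) (t : F) :
    Cfsg.Agent.S1080.glMap D f (xU hB r t) = xU hB r (f t) := by
  apply Units.ext
  rw [Cfsg.Agent.S1080.glMap_val, xU_val, xU_val, Cfsg.Agent.S1080.x_map]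

/-- `σ(x_r(t)) = x_{σ r}(ε_r f(t))` -/
theorem sigma_xU (hB : BasicOK D) {ρ ρ' σ σ' : ℕ → ℕ} {ε ε' : ℕ → ℤ}
    (hρ : ∀ i < D.rank, ρ i < D.rank ∧ ρ' i < D.rank ∧ ρ' (ρ i) = i ∧ ρ (ρ' i) = i)
    (hI : InvOK D σ σ' ε ε')
    (hσ : ∀ s < D.nroots, σ s < D.nroots ∧ (ε s = 1 ∨ ε s = -1))
    (f : F ≃+* F) {r : ℕ} (hr : r < D.nroots) (hR : RootOKg D ρ σ ε r) (t : F) :
    sigma hρ hI f (xU hB r t) = xU hB (σ r) (((ε r : ℤ) : F) * f t) := by
  rw [sigma_apply, glMap_xU, mul_inv_eq_iff_eq_mul]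
  apply Units.ext
  simp only [Units.val_mul, xU_val]
  exact pMat_mul_x_gen hB hρ hσ hr hR (f t)

end Cfsg.Agent.Helper11.TwSigma
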