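import Mathlib
import Cfsg.Agent.Helper6.Chev.UProd

set_option autoImplicit false
set_option linter.unusedSectionVars false
set_option linter.unusedSimpArgs false
set_option linter.unusedVariables false

/-!
# Unique ordered products in `U` for an arbitrary convex order given by a level function

helper6's `UProd` gives the unique expression of the elements of `U` as products of root elements in
increasing order of the root *indices*.  Here the same is done for the order given by any level
function `lam` (injective on the positive roots, additive along chains): the subgroups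
`UgeL m = ⟨X_r : r positive, m ≤ lam r⟩` replace `Uge k`.  This is what is needed for the twisted
groups, where the order has to be compatible with the classes of the graph automorphism.
-/

namespace Cfsg.Agent.Helper11.TwUProd

open Cfsg.Lie Cfsg.Agent.Helper6

variable {D : ChevalleyDatum} {F : Type*} [Field F]

/-- level check: for every root `s` in the upper half, `lam` is above `Λ`, symmetric under `-`
and additive along the `s`-chains (no monotonicity in the index) -/
def lvlChkL (D : ChevalleyDatum) (lam : ℕ → ℕ) (Λ N : ℕ) : Bool :=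
  allLt D.nroots fun s => Nat.blt s N ||
    (Nat.blt Λ (lam s) && Nat.beq (Nat.add (lam (D.negIdx.getD s 0)) (lam s)) (Nat.mul 2 Λ) &&
      allL (D.chain.getD s #[]).toList fun e => allL e.2.toList fun q =>
        Nat.ble (Nat.add (lam e.1) (Nat.sub (lam s) Λ)) (lam q.1))

theorem lvlChkL_spec {lam : ℕ → ℕ} {Λ N : ℕ} (h : lvlChkL D lam Λ N = true)
    {s : ℕ} (hs : s < D.nroots) (hN : N ≤ s) :
    Λ < lam s ∧ lam (D.negIdx.getD s 0) + lam s = 2 * Λ ∧
      ∀ e ∈ (D.chain.getD s #[]).toList, ∀ q ∈ e.2.toList, lam e.1 + (lam s - Λ) ≤ lam q.1 := by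
  simp only [lvlChkL, allLt_iff, Bool.or_eq_true, Bool.and_eq_true, Nat.blt_eq, Nat.beq_eq,
    Nat.ble_eq, allL_iff] at h
  rcases h s hs with h1 | ⟨⟨h1, h2⟩, h4⟩
  · omega
  · exact ⟨h1, h2, h4⟩

theorem raises_x_lvl {lam : ℕ → ℕ} {Λ N : ℕ} (h : lvlChkL D lam Λ N = true)
    {r : ℕ} (hrn : r < D.nroots) (hN : N ≤ r) (t : F) :
    Chev.Raises (Chev.levelL D lam Λ) (lam r - Λ) (D.x F r t - 1) := by
  obtain ⟨h1, h2, h3⟩ := lvlChkL_spec h hrn hN
  unfold ChevalleyDatum.x
  rw [dif_pos hrn]
  intro i j hij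
  rw [Matrix.sub_apply] at hij
  rcases j with c | s
  · rcases i with c' | u
    · exfalso; apply hij
      simp only [ChevalleyDatum.xMat, Matrix.of_apply, Matrix.one_apply, Sum.inl.injEq]
      simp
    · simp only [ChevalleyDatum.xMat, Matrix.of_apply, Matrix.one_apply] at hij
      by_cases hur : u = ⟨r, hrn⟩
      · subst hur
        simp only [Chev.levelL]
        omega
      · exfalso; apply hij; simp [hur]
  · by_cases hsr : s = ⟨r, hrn⟩
    · exfalso; apply hij
      subst hsr
      rcases i with c' | u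
      · simp [ChevalleyDatum.xMat, Matrix.of_apply]
      · simp only [ChevalleyDatum.xMat, Matrix.of_apply, Matrix.one_apply, if_true, Sum.inr.injEq]
        simp
    · by_cases hsn : s.val = D.negIdx.getD r 0
      · rcases i with c' | u
        · simp only [Chev.levelL]
          rw [hsn]
          omega
        · simp only [ChevalleyDatum.xMat, Matrix.of_apply, Matrix.one_apply, hsr, if_false,
            hsn, if_true, Sum.inr.injEq] at hij
          by_cases hus : u = s
          · exfalso; apply hij; simp [hus]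
          · by_cases hur : u = ⟨r, hrn⟩
            · subst hur
              simp only [Chev.levelL]
              rw [hsn]
              omega
            · exfalso; apply hij; simp [hus, hur]
      · rcases i with c' | u
        · exfalso; apply hij
          simp only [ChevalleyDatum.xMat, Matrix.of_apply, hsr, if_false, hsn]
          simp
        · simp only [ChevalleyDatum.xMat, Matrix.of_apply, Matrix.one_apply, hsr, if_false,
            hsn, Sum.inr.injEq] at hij
          have hne : D.chainCoeff r s.val u.val ≠ [] := by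
            intro hnil
            apply hij
            rw [hnil]
            simp
          obtain ⟨e, he, hes, q, hq, hqu⟩ := Chev.chainCoeff_ne_nil hne
          have := h3 e he q hq
          simp only [Chev.levelL]
          rw [← hes, ← hqu]
          omega

/-- the subgroup generated by the root elements `x_r(t)`, `r` in the upper half, `m ≤ lam r` -/
def UgeL (D : ChevalleyDatum) (F : Type*) [Field F] (lam : ℕ → ℕ) (N m : ℕ) :
    Subgroup (GL D.Idx F) :=
  Subgroup.closure {g | ∃ (r : ℕ) (t : F), N ≤ r ∧ r < D.nroots ∧ m ≤ lam r ∧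
    (g : Matrix D.Idx D.Idx F) = D.x F r t}

/-- all commutator terms of two roots `k`, `s` in the upper half with `lam k < lam s` lie strictly
above `k`, in the upper half -/
def cmChkL (D : ChevalleyDatum) (lam : ℕ → ℕ) (N : ℕ) : Bool :=
  allLt D.nroots fun k => Nat.blt k N || allLt D.nroots fun s => Nat.blt s N ||
    Nat.ble (lam s) (lam k) ||
    allL (commTermsG (ceF D) k s) fun c =>
      Nat.blt (lam k) (lam c.1) && Nat.ble N c.1 && Nat.blt c.1 D.nroots

/-- `lam` is injective on the upper half -/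
def injChkL (D : ChevalleyDatum) (lam : ℕ → ℕ) (N : ℕ) : Bool :=
  allLt D.nroots fun k => Nat.blt k N || allLt D.nroots fun s => Nat.blt s N ||
    Nat.beq k s || !Nat.beq (lam k) (lam s)

theorem injChkL_spec {lam : ℕ → ℕ} {N : ℕ} (h : injChkL D lam N = true) {k s : ℕ}
    (hk : k < D.nroots) (hkN : N ≤ k) (hs : s < D.nroots) (hsN : N ≤ s) (e : lam k = lam s) :
    k = s := by
  simp only [injChkL, allLt_iff, Bool.or_eq_true, Nat.blt_eq, Nat.beq_eq, Bool.not_eq_true'] at h
  rcases h k hk with h1 | h1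
  · omega
  · rcases h1 s hs with (h2 | h2) | h2
    · omega
    · exact h2
    · have := Nat.ne_of_beq_eq_false h2
      exact absurd e this

theorem xU_mem_UgeL (hB : BasicOK D) {lam : ℕ → ℕ} {N m r : ℕ} (hN : N ≤ r) (hr : r < D.nroots)
    (hm : m ≤ lam r) (t : F) : xU hB r t ∈ UgeL D F lam N m :=
  Subgroup.subset_closure ⟨r, t, hN, hr, hm, rfl⟩

theorem UgeL_mono {lam : ℕ → ℕ} {N k l : ℕ} (h : k ≤ l) : UgeL D F lam N l ≤ UgeL D F lam N k := by
  unfold UgeL
  apply Subgroup.closure_mono
  rintro g ⟨r, t, h0, h1, h2, h3⟩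
  exact ⟨r, t, h0, h1, le_trans h h2, h3⟩

theorem wordU_mem_UgeL (hB : BasicOK D) {lam : ℕ → ℕ} {N m : ℕ} (w : List (ℕ × F))
    (hw : ∀ p ∈ w, N ≤ p.1 ∧ p.1 < D.nroots ∧ m ≤ lam p.1) : wordU hB w ∈ UgeL D F lam N m := by
  unfold wordU
  apply Subgroup.list_prod_mem
  intro g hg
  simp only [List.mem_map] at hg
  obtain ⟨p, hp, rfl⟩ := hg
  exact xU_mem_UgeL hB (hw p hp).1 (hw p hp).2.1 (hw p hp).2.2 p.2

section main

variable (hB : BasicOK D) (hF : FastOK D) {lam : ℕ → ℕ} {N : ℕ} (hP : cmChkL D lam N = true)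
  (hC : ∀ r < D.nroots, ∀ s < D.nroots, s ≠ r → s ≠ D.neg r → CommF D F r s)
  (hneg : ∀ r < D.nroots, N ≤ r → D.neg r < N)
include hB hF hP hC hneg

/-- conjugation of a higher root element by `x_k(t)` stays strictly above `k` -/
theorem conj_xU_mem_UgeL {k s : ℕ} (hk : N ≤ k) (hk' : k < D.nroots) (hsN : N ≤ s)
    (hs : s < D.nroots) (hks : lam k < lam s) (t u : F) :
    xU hB k t * xU hB s u * (xU hB k t)⁻¹ ∈ UgeL D F lam N (lam k + 1) := by
  have hterms : ∀ c ∈ D.commTerms k s, lam k < lam c.1 ∧ N ≤ c.1 ∧ c.1 < D.nroots := by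
    simp only [cmChkL, allLt_iff, Bool.or_eq_true, Nat.blt_eq, Nat.ble_eq, allL_iff,
      Bool.and_eq_true] at hP
    rcases hP k hk' with h1 | h1
    · omega
    · rcases h1 s hs with (h2 | h2) | h2
      · omega
      · omega
      · rw [ceF_eq hF.keys hF.chk, commTermsG_eq] at h2
        intro c hc
        exact ⟨(h2 c hc).1.1, (h2 c hc).1.2, (h2 c hc).2⟩
  have hne1 : s ≠ k := by rintro rfl; omega
  have hne2 : s ≠ D.neg k := by have := hneg k hk' hk; omega
  have hcomm := hC k hk' s hs hne1 hne2 (-t) u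
  have e : xU hB k t * xU hB s u * (xU hB k t)⁻¹ =
      xU hB s u * wordU hB (D.commWord F k s (-t) u) := by
    rw [xU_inv]
    apply Units.ext
    simp only [Units.val_mul, xU_val, wordU_val]
    rw [mul_assoc, hcomm, ← mul_assoc, ← mul_assoc, x_mul_neg hB, one_mul]
  rw [e]
  apply Subgroup.mul_mem _ (xU_mem_UgeL hB hsN hs (by omega) u)
  apply wordU_mem_UgeL hB
  intro p hp
  unfold ChevalleyDatum.commWord at hp
  rw [List.mem_map] at hp
  obtain ⟨c, hc, rfl⟩ := hp
  have := hterms c hc
  exact ⟨this.2.1, this.2.2, by simp only; omega⟩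

/-- `x_k(t)` conjugates `⟨X_s : lam k < lam s⟩` into itself -/
theorem conj_mem_UgeL {k : ℕ} (hk : N ≤ k) (hk' : k < D.nroots) (t : F) {g : GL D.Idx F}
    (hg : g ∈ UgeL D F lam N (lam k + 1)) :
    xU hB k t * g * (xU hB k t)⁻¹ ∈ UgeL D F lam N (lam k + 1) := by
  unfold UgeL at hg
  induction hg using Subgroup.closure_induction with
  | mem g hg =>
    obtain ⟨s, u, h0, h1, h2, h3⟩ := hg
    have : g = xU hB s u := Units.ext (by rw [h3, xU_val])
    rw [this]
    exact conj_xU_mem_UgeL hB hF hP hC hneg hk hk' h0 h1 (by omega) t u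
  | one => simp
  | mul g₁ g₂ _ _ ih₁ ih₂ =>
    have : xU hB k t * (g₁ * g₂) * (xU hB k t)⁻¹ =
        (xU hB k t * g₁ * (xU hB k t)⁻¹) * (xU hB k t * g₂ * (xU hB k t)⁻¹) := by group
    rw [this]
    exact Subgroup.mul_mem _ ih₁ ih₂
  | inv g _ ih =>
    have : xU hB k t * g⁻¹ * (xU hB k t)⁻¹ = (xU hB k t * g * (xU hB k t)⁻¹)⁻¹ := by group
    rw [this]
    exact Subgroup.inv_mem _ ih

/-- every element of `⟨X_s : m ≤ lam s⟩` is `x_k(a)` times an element of `⟨X_s : lam k < lam s⟩`,
`k` the only root with level in `[m, lam k]` -/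
theorem exists_mul_of_mem_UgeL {k m : ℕ} (hk : N ≤ k) (hk' : k < D.nroots)
    (hm : ∀ s, N ≤ s → s < D.nroots → m ≤ lam s → s = k ∨ lam k + 1 ≤ lam s)
    {g : GL D.Idx F} (hg : g ∈ UgeL D F lam N m) :
    ∃ a : F, ∃ g' ∈ UgeL D F lam N (lam k + 1), g = xU hB k a * g' := by
  unfold UgeL at hg
  induction hg using Subgroup.closure_induction with
  | mem g hg =>
    obtain ⟨s, u, h0, h1, h2, h3⟩ := hg
    have hgs : g = xU hB s u := Units.ext (by rw [h3, xU_val])
    rcases hm s h0 h1 h2 with rfl | h1'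
    · exact ⟨u, 1, Subgroup.one_mem _, by rw [hgs, mul_one]⟩
    · refine ⟨0, g, ?_, by rw [xU_zero, one_mul]⟩
      rw [hgs]
      exact xU_mem_UgeL hB h0 h1 h1' u
  | one => exact ⟨0, 1, Subgroup.one_mem _, by rw [xU_zero, one_mul]⟩
  | mul g₁ g₂ _ _ ih₁ ih₂ =>
    obtain ⟨a₁, g₁', h1, rfl⟩ := ih₁
    obtain ⟨a₂, g₂', h2, rfl⟩ := ih₂
    refine ⟨a₁ + a₂, (xU hB k (-a₂) * g₁' * (xU hB k (-a₂))⁻¹) * g₂', ?_, ?_⟩
    · exact Subgroup.mul_mem _ (conj_mem_UgeL hB hF hP hC hneg hk hk' _ h1) h2
    · rw [← xU_mul, xU_inv hB k (-a₂), neg_neg]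
      have e : xU hB k a₂ * xU hB k (-a₂) = 1 := by rw [xU_mul, add_neg_cancel, xU_zero]
      calc xU hB k a₁ * g₁' * (xU hB k a₂ * g₂')
          = xU hB k a₁ * (1 : GL D.Idx F) * g₁' * xU hB k a₂ * g₂' := by group
        _ = xU hB k a₁ * xU hB k a₂ * (xU hB k (-a₂) * g₁' * xU hB k a₂ * g₂') := by
            rw [← e]; group
        _ = _ := by group
  | inv g _ ih =>
    obtain ⟨a, g', h1, rfl⟩ := ih
    refine ⟨-a, xU hB k a * g'⁻¹ * (xU hB k a)⁻¹, ?_, ?_⟩
    · exact conj_mem_UgeL hB hF hP hC hneg hk hk' _ (Subgroup.inv_mem _ h1)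
    · rw [← xU_inv]; group

/-- existence of the ordered product expression along a list sorted by `lam` -/
theorem exists_word_of_mem_UgeL : ∀ (L : List ℕ) (m : ℕ), L.Pairwise (fun a b => lam a < lam b) →
    (∀ r ∈ L, N ≤ r ∧ r < D.nroots ∧ m ≤ lam r) →
    (∀ r, N ≤ r → r < D.nroots → m ≤ lam r → r ∈ L) →
    ∀ g ∈ UgeL D F lam N m, ∃ t : ℕ → F, g = wordU hB (L.map fun r => (r, t r)) := by
  intro L
  induction L with
  | nil =>
    intro m _ _ hcov g hg
    refine ⟨fun _ => 0, ?_⟩
    have : UgeL D F lam N m = ⊥ := by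
      unfold UgeL
      rw [Subgroup.closure_eq_bot_iff]
      rintro g ⟨r, t, h0, h1, h2, _⟩
      exact absurd (hcov r h0 h1 h2) (List.not_mem_nil)
    rw [this, Subgroup.mem_bot] at hg
    rw [hg]; rfl
  | cons k L ih =>
    intro m hsort hpos hcov g hg
    rw [List.pairwise_cons] at hsort
    obtain ⟨hkN, hk', hmk⟩ := hpos k List.mem_cons_self
    have hm : ∀ s, N ≤ s → s < D.nroots → m ≤ lam s → s = k ∨ lam k + 1 ≤ lam s := by
      intro s h0 h1 h2
      rcases List.mem_cons.1 (hcov s h0 h1 h2) with rfl | hs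
      · exact Or.inl rfl
      · exact Or.inr (hsort.1 s hs)
    obtain ⟨a, g', hg', rfl⟩ := exists_mul_of_mem_UgeL hB hF hP hC hneg hkN hk' hm hg
    have hcov' : ∀ r, N ≤ r → r < D.nroots → lam k + 1 ≤ lam r → r ∈ L := by
      intro r h0 h1 h2
      rcases List.mem_cons.1 (hcov r h0 h1 (by omega)) with rfl | hr
      · omega
      · exact hr
    obtain ⟨t', ht'⟩ := ih (lam k + 1) hsort.2
      (fun r hr => ⟨(hpos r (List.mem_cons_of_mem _ hr)).1, (hpos r (List.mem_cons_of_mem _ hr)).2.1,
        hsort.1 r hr⟩) hcov' g' hg'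
    refine ⟨Function.update t' k a, ?_⟩
    rw [List.map_cons]
    have e : L.map (fun r => (r, Function.update t' k a r)) = L.map (fun r => (r, t' r)) := by
      apply List.map_congr_left
      intro r hr
      have := hsort.1 r hr
      rw [Function.update_of_ne (by rintro rfl; omega)]
    rw [e, Function.update_self]
    unfold wordU
    rw [List.map_cons, List.prod_cons]
    unfold wordU at ht'
    rw [ht']

end main

section uniq

variable (hB : BasicOK D) (hF : FastOK D) {lam : ℕ → ℕ} {Λ N M : ℕ}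
  (hO : lvlChkL D lam Λ N = true) (hBd : bndChk D lam M = true) (hΛ : Λ < M)
  (hW : witChk D lam Λ N = true)
include hB hF hO hBd hΛ hW

theorem levelL_lt' (i : D.Idx) : Chev.levelL D lam Λ i < M := by
  rcases i with i | v
  · exact hΛ
  · simp only [bndChk, allLt_iff, Nat.blt_eq] at hBd
    exact hBd v.val v.isLt

theorem UgeL_le_UT {k : ℕ} (hk : N ≤ k) (hk' : k < D.nroots) :
    UgeL D F lam N (lam k + 1) ≤
      (Chev.UT (Chev.levelL D lam Λ) (lam k - Λ + 1) : Subgroup (GL D.Idx F)) := by
  unfold UgeL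
  rw [Subgroup.closure_le]
  rintro g ⟨s, u, h0, h1, h2, h3⟩
  apply Chev.mem_UT_of_raises (levelL_lt' hB hF hO hBd hΛ hW) (by omega)
  rw [h3]
  apply (raises_x_lvl hO h1 h0 u).mono
  have := (lvlChkL_spec hO hk' hk).1
  omega

/-- `x_k(c) ∈ ⟨X_s : lam k < lam s⟩` only for `c = 0` -/
theorem eq_zero_of_xU_mem_UgeL {k : ℕ} (hk : N ≤ k) (hk' : k < D.nroots) {c : F}
    (h : xU hB k c ∈ UgeL D F lam N (lam k + 1)) : c = 0 := by
  obtain ⟨h1, -⟩ := Chev.mem_UT.1 (UgeL_le_UT hB hF hO hBd hΛ hW hk hk' h)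
  simp only [witChk, allLt_iff, Bool.or_eq_true, Nat.blt_eq, anyLt_iff] at hW
  rcases hW k hk' with h2 | ⟨v, hv, h2⟩
  · omega
  · rw [ceF_eq hF.keys hF.chk] at h2
    cases hL : D.chainEntry k v with
    | nil => rw [hL] at h2; simp at h2
    | cons q rest =>
      rw [hL] at h2
      simp only [Bool.and_eq_true, Bool.not_eq_true', Bool.or_eq_true, decide_eq_true_eq,
        Nat.blt_eq, allL_iff] at h2
      obtain ⟨⟨hvk, hvn⟩, ⟨⟨⟨⟨hq2, hqlt⟩, hqv⟩, hlam⟩, hrest⟩⟩ := h2
      have hlam' : lam q.1 < lam v + (lam k - Λ) + 1 := hlam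
      have hvk' : v ≠ k := Nat.ne_of_beq_eq_false hvk
      have hvn' : v ≠ D.neg k := by
        rw [negF_eq hF.chk] at hvn; exact Nat.ne_of_beq_eq_false hvn
      have hqv' : q.1 ≠ v := Nat.ne_of_beq_eq_false hqv
      have hentry : ((xU hB k c : GL D.Idx F).val - 1) (Sum.inr ⟨q.1, hqlt⟩) (Sum.inr ⟨v, hv⟩) =
          ((q.2 : ℤ) : F) * c := by
        rw [Matrix.sub_apply, xU_val, x_of_lt hk']
        have hcol := x_mulVec_ev' (F := F) hB.keys ⟨k, hk'⟩ c ⟨hv, hvk', hvn'⟩
        rw [mulVec_ev _ hv] at hcol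
        have := congrFun hcol (Sum.inr ⟨q.1, hqlt⟩)
        simp only [] at this
        rw [this, Pi.add_apply, ev_apply_inr, if_neg hqv', zero_add, chainVec_apply_inr, hL,
          List.zipIdx_cons, List.filter_cons_of_pos (by simp), Matrix.one_apply_ne (by
            intro e; simp only [Sum.inr.injEq, Fin.mk.injEq] at e; exact hqv' e)]
        have hnil : (rest.zipIdx (0 + 1)).filter (fun p => decide (p.1.1 = q.1)) = [] := by
          rw [List.filter_eq_nil_iff]
          intro p hp
          have hmem : p.1 ∈ rest := by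
            rcases p with ⟨p1, p2⟩
            exact (List.mem_zipIdx hp).2.2 ▸ List.getElem_mem _
          have := Nat.ne_of_beq_eq_false (hrest p.1 hmem)
          simp only [decide_eq_true_eq]
          exact this
        simp only [hnil, List.map_cons, List.map_nil, List.sum_cons, List.sum_nil]
        ring
      have hz : ((q.2 : ℤ) : F) * c = 0 := by
        by_contra hne
        rw [← hentry] at hne
        have := h1 _ _ hne
        simp only [Chev.levelL] at this
        omega
      rcases hq2 with e | e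
      · rw [e] at hz; simpa using hz
      · rw [e] at hz; simpa using hz

/-- uniqueness of the ordered product expression along a list sorted by `lam` -/
theorem word_uniqueL : ∀ (L : List ℕ), L.Pairwise (fun a b => lam a < lam b) →
    (∀ r ∈ L, N ≤ r ∧ r < D.nroots) → ∀ t t' : ℕ → F,
    wordU hB (L.map fun r => (r, t r)) = wordU hB (L.map fun r => (r, t' r)) →
    ∀ r ∈ L, t r = t' r := by
  intro L
  induction L with
  | nil => intro _ _ t t' _ r hr; exact absurd hr List.not_mem_nil
  | cons k L ih =>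
    intro hsort hpos t t' h r hr
    rw [List.pairwise_cons] at hsort
    obtain ⟨hkN, hk'⟩ := hpos k List.mem_cons_self
    rw [List.map_cons, List.map_cons] at h
    have hw : ∀ (t : ℕ → F), wordU hB ((k, t k) :: L.map fun r => (r, t r)) =
        xU hB k (t k) * wordU hB (L.map fun r => (r, t r)) := by
      intro t; unfold wordU; rw [List.map_cons, List.prod_cons]
    rw [hw t, hw t'] at h
    have hmem : ∀ (t : ℕ → F), wordU hB (L.map fun r => (r, t r)) ∈
        UgeL D F lam N (lam k + 1) := by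
      intro t
      apply wordU_mem_UgeL hB
      intro p hp
      rw [List.mem_map] at hp
      obtain ⟨r, hr, rfl⟩ := hp
      have := hpos r (List.mem_cons_of_mem _ hr)
      exact ⟨this.1, this.2, hsort.1 r hr⟩
    have hx : xU hB k (t k - t' k) ∈ UgeL D F lam N (lam k + 1) := by
      have e : xU hB k (t k - t' k) =
          wordU hB (L.map fun r => (r, t' r)) * (wordU hB (L.map fun r => (r, t r)))⁻¹ := by
        rw [eq_mul_inv_iff_mul_eq, sub_eq_neg_add, ← xU_mul, mul_assoc, h, ← mul_assoc, xU_mul,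
          neg_add_cancel, xU_zero, one_mul]
      rw [e]
      exact Subgroup.mul_mem _ (hmem t') (Subgroup.inv_mem _ (hmem t))
    have hk0 := eq_zero_of_xU_mem_UgeL hB hF hO hBd hΛ hW hkN hk' hx
    have hkk : t k = t' k := sub_eq_zero.1 hk0
    rcases List.mem_cons.1 hr with rfl | hr'
    · exact hkk
    · rw [hkk] at h
      exact ih hsort.2 (fun r hr => hpos r (List.mem_cons_of_mem _ hr)) t t' (mul_left_cancel h) r hr'

end uniq

end Cfsg.Agent.Helper11.TwUProd
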