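import Mathlib
import Cfsg.Agent.Helper11.TwUProd
import Cfsg.Agent.Helper11.TwSigma

/-!
# Fixed points of the twisting automorphism on `U`

With an order on the positive roots compatible with the classes of the graph automorphism, the
`σ`-fixed points of `U` are the products of the `σ`-fixed points of the class subgroups `X_C`, with
uniqueness; this gives `|U^σ|` as a product over the classes.
-/

set_option autoImplicit false
set_option linter.unusedSectionVars false
set_option linter.unusedSimpArgs false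
set_option linter.unusedVariables false

namespace Cfsg.Agent.Helper11.TwFix

open Cfsg.Lie Cfsg.Agent.Helper6 Cfsg.Agent.Helper11.ChevGraphAut Cfsg.Agent.Helper11.TwUProd
  Cfsg.Agent.Helper11.TwSigma

variable {D : ChevalleyDatum} {F : Type*} [Field F]

theorem wordU_app (hB : BasicOK D) (w₁ w₂ : List (ℕ × F)) :
    wordU hB (w₁ ++ w₂) = wordU hB w₁ * wordU hB w₂ := by
  simp [wordU, List.map_append, List.prod_append]

theorem wordU_cons' (hB : BasicOK D) (p : ℕ × F) (w : List (ℕ × F)) :
    wordU hB (p :: w) = xU hB p.1 p.2 * wordU hB w := by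
  unfold wordU
  simp only [List.map_cons, List.prod_cons]

theorem wordU_nil' (hB : BasicOK D) : wordU hB ([] : List (ℕ × F)) = 1 := by
  unfold wordU
  simp

/-- the subgroup of fixed points of an automorphism -/
def fixSub {G : Type*} [Group G] (φ : G ≃* G) : Subgroup G where
  carrier := {g | φ g = g}
  mul_mem' := by
    intro a b ha hb
    simp only [Set.mem_ofPred_eq] at *
    rw [map_mul, ha, hb]
  one_mem' := map_one φ
  inv_mem' := by
    intro a ha
    simp only [Set.mem_ofPred_eq] at *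
    rw [map_inv, ha]

theorem mem_fixSub {G : Type*} [Group G] (φ : G ≃* G) (g : G) : g ∈ fixSub φ ↔ φ g = g := Iff.rfl

/-- two root elements commute when their commutator formula has no terms -/
theorem xU_comm_of_nil (hB : BasicOK D) {r s : ℕ} (hC : CommF D F r s)
    (h : D.commTerms r s = []) (t u : F) : xU hB s u * xU hB r t = xU hB r t * xU hB s u := by
  apply Units.ext
  simp only [Units.val_mul, xU_val]
  have := hC t u
  rw [this]
  unfold ChevalleyDatum.commWord ChevalleyDatum.wordMat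
  rw [h]
  simp

/-- the transform of coefficient functions induced by `σ` -/
def tw (σ' : ℕ → ℕ) (ε : ℕ → ℤ) (f : F ≃+* F) (t : ℕ → F) : ℕ → F :=
  fun r => ((ε (σ' r) : ℤ) : F) * f (t (σ' r))

/-- a class: positive roots with pairwise commuting root subgroups, permuted by `σ` -/
structure ClsOK (D : ChevalleyDatum) (N : ℕ) (σ : ℕ → ℕ) (C : List ℕ) : Prop where
  pos : ∀ r ∈ C, N ≤ r ∧ r < D.nroots
  comm : ∀ r ∈ C, ∀ s ∈ C, r ≠ s → D.commTerms r s = []
  perm : (C.map σ).Perm C

instance (D : ChevalleyDatum) (N : ℕ) (σ : ℕ → ℕ) (C : List ℕ) : Decidable (ClsOK D N σ C) :=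
  decidable_of_iff ((∀ r ∈ C, N ≤ r ∧ r < D.nroots) ∧
    (∀ r ∈ C, ∀ s ∈ C, r ≠ s → D.commTerms r s = []) ∧ (C.map σ).Perm C)
    ⟨fun h => ⟨h.1, h.2.1, h.2.2⟩, fun h => ⟨h.pos, h.comm, h.perm⟩⟩


/-- a word over pairwise commuting root subgroups may be permuted -/
theorem wordU_perm (hB : BasicOK D)
    (hC : ∀ r < D.nroots, ∀ s < D.nroots, s ≠ r → s ≠ D.neg r → CommF D F r s)
    {N : ℕ} (hneg : ∀ r < D.nroots, N ≤ r → D.neg r < N)
    {L₁ L₂ : List ℕ} (hp : L₁.Perm L₂) (hnd : L₁.Nodup) (hpos : ∀ r ∈ L₁, N ≤ r ∧ r < D.nroots)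
    (hcomm : ∀ r ∈ L₁, ∀ s ∈ L₁, r ≠ s → D.commTerms r s = []) (t : ℕ → F) :
    wordU hB (L₁.map fun r => (r, t r)) = wordU hB (L₂.map fun r => (r, t r)) := by
  have key : (L₁.map fun s => xU hB s (t s)).prod = (L₂.map fun s => xU hB s (t s)).prod := by
    apply List.Perm.prod_eq' (hp.map _)
    rw [List.pairwise_map]
    apply hnd.pairwise_of_forall_ne
    intro a ha b hb hab
    have hcm := hcomm a ha b hb hab
    have hbn : b ≠ D.neg a := by
      have := hneg a (hpos a ha).2 (hpos a ha).1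
      have := (hpos b hb).1
      omega
    exact (xU_comm_of_nil hB (hC a (hpos a ha).2 b (hpos b hb).2 (Ne.symm hab) hbn) hcm
      (t a) (t b)).symm
  unfold wordU
  simp only [List.map_map]
  exact key

section ctx

variable (hB : BasicOK D) {ρ ρ' σ σ' : ℕ → ℕ} {ε ε' : ℕ → ℤ}
  (hρ : ∀ i < D.rank, ρ i < D.rank ∧ ρ' i < D.rank ∧ ρ' (ρ i) = i ∧ ρ (ρ' i) = i)
  (hI : InvOK D σ σ' ε ε')
  (hσ : ∀ s < D.nroots, σ s < D.nroots ∧ (ε s = 1 ∨ ε s = -1))
  (hR : ∀ p < D.nroots, RootOKg D ρ σ ε p)
  (f : F ≃+* F)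
include hσ hR

theorem sigma_wordU (w : List (ℕ × F)) (hw : ∀ p ∈ w, p.1 < D.nroots) :
    sigma hρ hI f (wordU hB w) =
      wordU hB (w.map fun p => (σ p.1, ((ε p.1 : ℤ) : F) * f p.2)) := by
  induction w with
  | nil => simp [wordU_nil']
  | cons p w ih =>
    rw [wordU_cons', map_mul, List.map_cons, wordU_cons',
      sigma_xU hB hρ hI hσ f (hw p List.mem_cons_self) (hR _ (hw p List.mem_cons_self)),
      ih (fun q hq => hw q (List.mem_cons_of_mem _ hq))]

variable (hC : ∀ r < D.nroots, ∀ s < D.nroots, s ≠ r → s ≠ D.neg r → CommF D F r s)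
  {N : ℕ} (hneg : ∀ r < D.nroots, N ≤ r → D.neg r < N)
include hC hneg

/-- `σ` on the product over a class -/
theorem sigma_cls {C : List ℕ} (hCl : ClsOK D N σ C) (hnd : C.Nodup) (t : ℕ → F) :
    sigma hρ hI f (wordU hB (C.map fun r => (r, t r))) =
      wordU hB (C.map fun r => (r, tw σ' ε f t r)) := by
  rw [sigma_wordU hB hρ hI hσ hR f]
  swap
  · intro p hp
    rw [List.mem_map] at hp
    obtain ⟨r, hr, rfl⟩ := hp
    exact (hCl.pos r hr).2
  rw [List.map_map]
  have e1 : C.map ((fun p : ℕ × F => (σ p.1, ((ε p.1 : ℤ) : F) * f p.2)) ∘ fun r => (r, t r)) =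
      (C.map σ).map (fun s => (s, tw σ' ε f t s)) := by
    rw [List.map_map]
    apply List.map_congr_left
    intro r hr
    have h1 := (hI r (hCl.pos r hr).2).2.2.1
    simp only [Function.comp, tw, h1]
  rw [e1]
  have hnd' : (C.map σ).Nodup := (List.Perm.nodup_iff hCl.perm).2 hnd
  have key : ((C.map σ).map fun s => xU hB s (tw σ' ε f t s)).prod =
      (C.map fun s => xU hB s (tw σ' ε f t s)).prod := by
    apply List.Perm.prod_eq' (hCl.perm.map _)
    rw [List.pairwise_map]
    apply hnd'.pairwise_of_forall_ne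
    intro a ha b hb hab
    have ha' := hCl.perm.mem_iff.1 ha
    have hb' := hCl.perm.mem_iff.1 hb
    have hcomm := hCl.comm a ha' b hb' hab
    have hbn : b ≠ D.neg a := by
      have := hneg a (hCl.pos a ha').2 (hCl.pos a ha').1
      have := (hCl.pos b hb').1
      omega
    exact (xU_comm_of_nil hB (hC a (hCl.pos a ha').2 b (hCl.pos b hb').2 (Ne.symm hab) hbn) hcomm
      (tw σ' ε f t a) (tw σ' ε f t b)).symm
  unfold wordU
  simp only [List.map_map]
  rw [List.map_map] at key
  exact key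

end ctx

/-- the `σ`-admissible coefficient functions on a class -/
def ACls (σ' : ℕ → ℕ) (ε : ℕ → ℤ) (f : F ≃+* F) (C : List ℕ) : Set (ℕ → F) :=
  {t | (∀ r, r ∉ C → t r = 0) ∧ ∀ r ∈ C, tw σ' ε f t r = t r}

/-- `L` is the list, sorted by `lam`, of the positive roots of level at least `m` -/
structure Covers (D : ChevalleyDatum) (lam : ℕ → ℕ) (N : ℕ) (L : List ℕ) (m : ℕ) : Prop where
  sorted : L.Pairwise (fun a b => lam a < lam b)
  pos : ∀ r ∈ L, N ≤ r ∧ r < D.nroots ∧ m ≤ lam r
  cov : ∀ r, N ≤ r → r < D.nroots → m ≤ lam r → r ∈ L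

theorem word_split (hB : BasicOK D) (g : ℕ → F) (C L' : List ℕ) :
    wordU hB ((C ++ L').map fun r => (r, g r)) =
      wordU hB (C.map fun r => (r, g r)) * wordU hB (L'.map fun r => (r, g r)) := by
  rw [List.map_append, wordU_app]

section peel

variable (hB : BasicOK D) (hF : FastOK D) {lam : ℕ → ℕ} {Λ N M : ℕ}
  (hO : lvlChkL D lam Λ N = true) (hBd : bndChk D lam M = true) (hΛ : Λ < M)
  (hW : witChk D lam Λ N = true) (hP : cmChkL D lam N = true)
  (hC : ∀ r < D.nroots, ∀ s < D.nroots, s ≠ r → s ≠ D.neg r → CommF D F r s)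
  (hneg : ∀ r < D.nroots, N ≤ r → D.neg r < N)
  {ρ ρ' σ σ' : ℕ → ℕ} {ε ε' : ℕ → ℤ}
  (hρ : ∀ i < D.rank, ρ i < D.rank ∧ ρ' i < D.rank ∧ ρ' (ρ i) = i ∧ ρ (ρ' i) = i)
  (hI : InvOK D σ σ' ε ε')
  (hσ : ∀ s < D.nroots, σ s < D.nroots ∧ (ε s = 1 ∨ ε s = -1))
  (hR : ∀ p < D.nroots, RootOKg D ρ σ ε p)
  (f : F ≃+* F)
include hB hF hO hBd hΛ hW hP hC hneg hσ hR

omit hF hO hBd hΛ hW hP hC hneg in
/-- `σ` stabilises `⟨X_r : m ≤ lam r⟩` when this set of roots is `σ`-stable -/
theorem sigma_mem_UgeL {L' : List ℕ} {m' : ℕ} (hcov : Covers D lam N L' m')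
    (hcl : ∀ r ∈ L', σ r ∈ L') {g : GL D.Idx F} (hg : g ∈ UgeL D F lam N m') :
    sigma hρ hI f g ∈ UgeL D F lam N m' := by
  unfold UgeL at hg
  induction hg using Subgroup.closure_induction with
  | mem g hg =>
    obtain ⟨r, t, h0, h1, h2, h3⟩ := hg
    have hgr : g = xU hB r t := Units.ext (by rw [h3, xU_val])
    rw [hgr, sigma_xU hB hρ hI hσ f h1 (hR r h1)]
    have hmem := hcl r (hcov.cov r h0 h1 h2)
    obtain ⟨k0, k1, k2⟩ := hcov.pos _ hmem
    exact xU_mem_UgeL hB k0 k1 k2 _
  | one => rw [map_one]; exact Subgroup.one_mem _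
  | mul a b _ _ iha ihb => rw [map_mul]; exact Subgroup.mul_mem _ iha ihb
  | inv a _ iha => rw [map_inv]; exact Subgroup.inv_mem _ iha

/-- peeling one class off the fixed points of `⟨X_r : m ≤ lam r⟩` -/
theorem card_peel (C L' : List ℕ) (m m' : ℕ) (hcov : Covers D lam N (C ++ L') m)
    (hcov' : Covers D lam N L' m') (hmm : m ≤ m') (hCl : ClsOK D N σ C)
    (hcl' : ∀ r ∈ L', σ r ∈ L') :
    Nat.card ↥(fixSub (sigma hρ hI f) ⊓ UgeL D F lam N m) =
      Nat.card (ACls σ' ε f C) * Nat.card ↥(fixSub (sigma hρ hI f) ⊓ UgeL D F lam N m') := by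
  classical
  have hsortC : C.Pairwise (fun a b => lam a < lam b) := (List.pairwise_append.1 hcov.sorted).1
  have hdisj : ∀ c ∈ C, ∀ r ∈ L', lam c < lam r := (List.pairwise_append.1 hcov.sorted).2.2
  have hndC : C.Nodup := hsortC.imp (fun h e => by rw [e] at h; exact lt_irrefl _ h)
  have hposL : ∀ r ∈ C ++ L', N ≤ r ∧ r < D.nroots := fun r hr =>
    ⟨(hcov.pos r hr).1, (hcov.pos r hr).2.1⟩
  have hnotC : ∀ r ∈ L', r ∉ C := by
    intro r hr hrC
    exact lt_irrefl _ (hdisj r hrC r hr)
  -- `σ'` maps the class to itself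
  have hσ'C : ∀ r ∈ C, σ' r ∈ C := by
    intro r hr
    have := hCl.perm.mem_iff.2 hr
    rw [List.mem_map] at this
    obtain ⟨s, hs, rfl⟩ := this
    rw [(hI s (hCl.pos s hs).2).2.2.1]
    exact hs
  -- membership of class words
  have hyC : ∀ t : ℕ → F, wordU hB (C.map fun r => (r, t r)) ∈ UgeL D F lam N m := by
    intro t
    apply wordU_mem_UgeL hB
    intro p hp
    rw [List.mem_map] at hp
    obtain ⟨r, hr, rfl⟩ := hp
    exact hcov.pos r (List.mem_append_left _ hr)
  have hzL : ∀ t : ℕ → F, wordU hB (L'.map fun r => (r, t r)) ∈ UgeL D F lam N m' := by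
    intro t
    apply wordU_mem_UgeL hB
    intro p hp
    rw [List.mem_map] at hp
    obtain ⟨r, hr, rfl⟩ := hp
    exact hcov'.pos r hr
  -- gluing coefficient functions
  have hglue : ∀ (t u : ℕ → F), wordU hB ((C ++ L').map fun r => (r, if r ∈ C then t r else u r)) =
      wordU hB (C.map fun r => (r, t r)) * wordU hB (L'.map fun r => (r, u r)) := by
    intro t u
    rw [List.map_append, wordU_app]
    congr 2
    · apply List.map_congr_left
      intro r hr
      rw [if_pos hr]
    · apply List.map_congr_left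
      intro r hr
      rw [if_neg (hnotC r hr)]
  let Φ : ACls σ' ε f C × ↥(fixSub (sigma hρ hI f) ⊓ UgeL D F lam N m') →
      ↥(fixSub (sigma hρ hI f) ⊓ UgeL D F lam N m) := fun p =>
    ⟨wordU hB (C.map fun r => (r, p.1.1 r)) * p.2.1, by
      refine ⟨?_, Subgroup.mul_mem _ (hyC _) (UgeL_mono hmm p.2.2.2)⟩
      show sigma hρ hI f (_ * _) = _
      have hp2 : sigma hρ hI f (p.2.1) = p.2.1 := p.2.2.1
      rw [map_mul, sigma_cls hB hρ hI hσ hR f hC hneg hCl hndC, hp2]
      congr 2
      apply List.map_congr_left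
      intro r hr
      rw [p.1.2.2 r hr]⟩
  have hinj : Function.Injective Φ := by
    rintro ⟨⟨t, ht⟩, ⟨z, hz⟩⟩ ⟨⟨t', ht'⟩, ⟨z', hz'⟩⟩ h
    have h' : wordU hB (C.map fun r => (r, t r)) * z = wordU hB (C.map fun r => (r, t' r)) * z' :=
      congrArg Subtype.val h
    obtain ⟨u, hu⟩ := exists_word_of_mem_UgeL hB hF hP hC hneg L' m' hcov'.sorted hcov'.pos
      hcov'.cov z hz.2
    obtain ⟨u', hu'⟩ := exists_word_of_mem_UgeL hB hF hP hC hneg L' m' hcov'.sorted hcov'.pos
      hcov'.cov z' hz'.2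
    rw [hu, hu', ← hglue, ← hglue] at h'
    have huniq := word_uniqueL hB hF hO hBd hΛ hW (C ++ L') hcov.sorted hposL _ _ h'
    have htt : t = t' := by
      funext r
      by_cases hr : r ∈ C
      · have := huniq r (List.mem_append_left _ hr)
        simpa [hr] using this
      · rw [ht.1 r hr, ht'.1 r hr]
    subst htt
    have hzz : z = z' := by
      have h'' : wordU hB (C.map fun r => (r, t r)) * z = wordU hB (C.map fun r => (r, t r)) * z' :=
        congrArg Subtype.val h
      exact mul_left_cancel h''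
    subst hzz
    rfl
  have hsurj : Function.Surjective Φ := by
    rintro ⟨g, hgfix, hgU⟩
    obtain ⟨t, ht⟩ := exists_word_of_mem_UgeL hB hF hP hC hneg (C ++ L') m hcov.sorted hcov.pos
      hcov.cov g hgU
    have hsplit : g = wordU hB (C.map fun r => (r, t r)) * wordU hB (L'.map fun r => (r, t r)) := by
      rw [ht, word_split]
    have hz0 := hzL t
    have hSz0 := sigma_mem_UgeL hB hρ hI hσ hR f hcov' hcl' hz0
    obtain ⟨u, hu⟩ := exists_word_of_mem_UgeL hB hF hP hC hneg L' m' hcov'.sorted hcov'.pos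
      hcov'.cov _ hSz0
    have hSg : sigma hρ hI f g =
        wordU hB ((C ++ L').map fun r => (r, if r ∈ C then tw σ' ε f t r else u r)) := by
      rw [hglue, hsplit, map_mul, sigma_cls hB hρ hI hσ hR f hC hneg hCl hndC, hu]
    have hfix : sigma hρ hI f g = g := hgfix
    rw [hSg] at hfix
    have hfix' := hfix.trans ht
    have huniq := word_uniqueL hB hF hO hBd hΛ hW (C ++ L') hcov.sorted hposL _ _ hfix'
    have h1 : ∀ r ∈ C, tw σ' ε f t r = t r := by
      intro r hr
      have := huniq r (List.mem_append_left _ hr)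
      simpa [hr] using this
    have h2 : ∀ r ∈ L', u r = t r := by
      intro r hr
      have := huniq r (List.mem_append_right _ hr)
      simpa [hnotC r hr] using this
    have hz0fix : sigma hρ hI f (wordU hB (L'.map fun r => (r, t r))) =
        wordU hB (L'.map fun r => (r, t r)) := by
      rw [hu]
      congr 1
      apply List.map_congr_left
      intro r hr
      rw [h2 r hr]
    refine ⟨⟨⟨fun r => if r ∈ C then t r else 0, ?_, ?_⟩, ⟨wordU hB (L'.map fun r => (r, t r)),
      hz0fix, hz0⟩⟩, ?_⟩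
    · intro r hr
      simp [hr]
    · intro r hr
      have : tw σ' ε f (fun r => if r ∈ C then t r else 0) r = tw σ' ε f t r := by
        simp only [tw, if_pos (hσ'C r hr)]
      rw [this, h1 r hr]
      simp only [if_pos hr]
    · apply Subtype.ext
      show wordU hB (C.map fun r => (r, if r ∈ C then t r else 0)) *
        wordU hB (L'.map fun r => (r, t r)) = g
      rw [hsplit]
      congr 2
      apply List.map_congr_left
      intro r hr
      rw [if_pos hr]
  rw [← Nat.card_congr (Equiv.ofBijective Φ ⟨hinj, hsurj⟩), Nat.card_prod]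

/-- a fixed class word has admissible coefficients -/
theorem fix_cls {C : List ℕ} (hsort : C.Pairwise (fun a b => lam a < lam b))
    (hCl : ClsOK D N σ C) (t : ℕ → F)
    (h : sigma hρ hI f (wordU hB (C.map fun r => (r, t r))) = wordU hB (C.map fun r => (r, t r))) :
    ∀ r ∈ C, tw σ' ε f t r = t r := by
  have hndC : C.Nodup := hsort.imp (fun h e => by rw [e] at h; exact lt_irrefl _ h)
  rw [sigma_cls hB hρ hI hσ hR f hC hneg hCl hndC] at h
  exact word_uniqueL hB hF hO hBd hΛ hW C hsort hCl.pos _ _ h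

/-- an admissible class word is fixed -/
theorem cls_fix {C : List ℕ} (hsort : C.Pairwise (fun a b => lam a < lam b))
    (hCl : ClsOK D N σ C) (t : ℕ → F) (h : ∀ r ∈ C, tw σ' ε f t r = t r) :
    sigma hρ hI f (wordU hB (C.map fun r => (r, t r))) = wordU hB (C.map fun r => (r, t r)) := by
  have hndC : C.Nodup := hsort.imp (fun h e => by rw [e] at h; exact lt_irrefl _ h)
  rw [sigma_cls hB hρ hI hσ hR f hC hneg hCl hndC]
  congr 1
  apply List.map_congr_left
  intro r hr
  rw [h r hr]

/-- peeling one class off a fixed element of `⟨X_r : m ≤ lam r⟩` -/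
theorem exists_peel (C L' : List ℕ) (m m' : ℕ) (hcov : Covers D lam N (C ++ L') m)
    (hcov' : Covers D lam N L' m') (hCl : ClsOK D N σ C)
    (hcl' : ∀ r ∈ L', σ r ∈ L') {g : GL D.Idx F}
    (hgfix : sigma hρ hI f g = g) (hgU : g ∈ UgeL D F lam N m) :
    ∃ (t : ℕ → F) (z : GL D.Idx F), (∀ r ∈ C, tw σ' ε f t r = t r) ∧ sigma hρ hI f z = z ∧
      z ∈ UgeL D F lam N m' ∧ g = wordU hB (C.map fun r => (r, t r)) * z := by
  classical
  have hsortC : C.Pairwise (fun a b => lam a < lam b) := (List.pairwise_append.1 hcov.sorted).1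
  have hdisj : ∀ c ∈ C, ∀ r ∈ L', lam c < lam r := (List.pairwise_append.1 hcov.sorted).2.2
  have hndC : C.Nodup := hsortC.imp (fun h e => by rw [e] at h; exact lt_irrefl _ h)
  have hposL : ∀ r ∈ C ++ L', N ≤ r ∧ r < D.nroots := fun r hr =>
    ⟨(hcov.pos r hr).1, (hcov.pos r hr).2.1⟩
  have hnotC : ∀ r ∈ L', r ∉ C := by
    intro r hr hrC
    exact lt_irrefl _ (hdisj r hrC r hr)
  have hzL : ∀ t : ℕ → F, wordU hB (L'.map fun r => (r, t r)) ∈ UgeL D F lam N m' := by
    intro t
    apply wordU_mem_UgeL hB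
    intro p hp
    rw [List.mem_map] at hp
    obtain ⟨r, hr, rfl⟩ := hp
    exact hcov'.pos r hr
  have hglue : ∀ (t u : ℕ → F), wordU hB ((C ++ L').map fun r => (r, if r ∈ C then t r else u r)) =
      wordU hB (C.map fun r => (r, t r)) * wordU hB (L'.map fun r => (r, u r)) := by
    intro t u
    rw [List.map_append, wordU_app]
    congr 2
    · apply List.map_congr_left
      intro r hr
      rw [if_pos hr]
    · apply List.map_congr_left
      intro r hr
      rw [if_neg (hnotC r hr)]
  obtain ⟨t, ht⟩ := exists_word_of_mem_UgeL hB hF hP hC hneg (C ++ L') m hcov.sorted hcov.pos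
    hcov.cov g hgU
  have hsplit : g = wordU hB (C.map fun r => (r, t r)) * wordU hB (L'.map fun r => (r, t r)) := by
    rw [ht, word_split]
  have hz0 := hzL t
  have hSz0 := sigma_mem_UgeL hB hρ hI hσ hR f hcov' hcl' hz0
  obtain ⟨u, hu⟩ := exists_word_of_mem_UgeL hB hF hP hC hneg L' m' hcov'.sorted hcov'.pos
    hcov'.cov _ hSz0
  have hSg : sigma hρ hI f g =
      wordU hB ((C ++ L').map fun r => (r, if r ∈ C then tw σ' ε f t r else u r)) := by
    rw [hglue, hsplit, map_mul, sigma_cls hB hρ hI hσ hR f hC hneg hCl hndC, hu]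
  have hfix : sigma hρ hI f g = g := hgfix
  rw [hSg] at hfix
  have hfix' := hfix.trans ht
  have huniq := word_uniqueL hB hF hO hBd hΛ hW (C ++ L') hcov.sorted hposL _ _ hfix'
  have h1 : ∀ r ∈ C, tw σ' ε f t r = t r := by
    intro r hr
    have := huniq r (List.mem_append_left _ hr)
    simpa [hr] using this
  have h2 : ∀ r ∈ L', u r = t r := by
    intro r hr
    have := huniq r (List.mem_append_right _ hr)
    simpa [hnotC r hr] using this
  have hz0fix : sigma hρ hI f (wordU hB (L'.map fun r => (r, t r))) =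
      wordU hB (L'.map fun r => (r, t r)) := by
    rw [hu]
    congr 1
    apply List.map_congr_left
    intro r hr
    rw [h2 r hr]
  exact ⟨t, _, h1, hz0fix, hz0, hsplit⟩

end peel

/-! ### The admissible coefficient functions of a class, by shape -/

section shapes

variable {σ' : ℕ → ℕ} {ε : ℕ → ℤ} (f : F ≃+* F)

theorem card_ACls_one {a : ℕ} (h1 : σ' a = a) (h2 : ε a = 1) :
    Nat.card (ACls σ' ε f [a]) = Nat.card {x : F // f x = x} := by
  classical
  apply Nat.card_congr
  refine ⟨fun t => ⟨t.1 a, ?_⟩, fun x => ⟨fun r => if r = a then x.1 else 0, ?_, ?_⟩, ?_, ?_⟩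
  · have := t.2.2 a (List.mem_singleton.2 rfl)
    simp only [tw, h1, h2, Int.cast_one, one_mul] at this
    exact this
  · intro r hr
    rw [List.mem_singleton] at hr
    simp [hr]
  · intro r hr
    rw [List.mem_singleton] at hr
    subst hr
    simp only [tw, h1, h2, Int.cast_one, one_mul, if_true]
    exact x.2
  · rintro ⟨t, ht1, ht2⟩
    apply Subtype.ext
    funext r
    by_cases hr : r = a
    · subst hr; simp
    · simp only [if_neg hr]
      exact (ht1 r (by rw [List.mem_singleton]; exact hr)).symm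
  · rintro ⟨x, hx⟩
    simp

theorem card_ACls_two {a b : ℕ} (hab : a ≠ b) (h1 : σ' a = b) (h2 : σ' b = a)
    (he : ε a * ε b = 1) (hf : ∀ x, f (f x) = x) :
    Nat.card (ACls σ' ε f [a, b]) = Nat.card F := by
  classical
  have he' : ((ε a : ℤ) : F) * ((ε b : ℤ) : F) = 1 := by
    have := congrArg (Int.cast : ℤ → F) he
    push_cast at this
    exact this
  apply Nat.card_congr
  refine ⟨fun t => t.1 a, fun x => ⟨fun r => if r = a then x else if r = b then
    ((ε a : ℤ) : F) * f x else 0, ?_, ?_⟩, ?_, ?_⟩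
  · intro r hr
    simp only [List.mem_cons, List.not_mem_nil, or_false, not_or] at hr
    simp [hr.1, hr.2]
  · intro r hr
    simp only [List.mem_cons, List.not_mem_nil, or_false] at hr
    rcases hr with rfl | rfl
    · simp only [tw, h1, if_neg (Ne.symm hab), if_true, map_mul, map_intCast, hf]
      rw [← mul_assoc, mul_comm ((ε b : ℤ) : F), he', one_mul]
    · simp only [tw, h2, if_true, if_neg (Ne.symm hab)]
  · rintro ⟨t, ht1, ht2⟩
    apply Subtype.ext
    funext r
    by_cases hr : r = a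
    · subst hr; simp
    · by_cases hr' : r = b
      · subst hr'
        simp only [if_neg hr, if_true]
        have := ht2 r (by simp)
        simp only [tw, h2] at this
        exact this
      · simp only [if_neg hr, if_neg hr']
        exact (ht1 r (by simp [hr, hr'])).symm
  · intro x
    simp

theorem card_ACls_three {a b c : ℕ} (hab : a ≠ b) (hac : a ≠ c) (hbc : b ≠ c)
    (h1 : σ' b = a) (h2 : σ' c = b) (h3 : σ' a = c)
    (he : ε a * ε b * ε c = 1) (hf : ∀ x, f (f (f x)) = x) {C : List ℕ}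
    (hC : ∀ x, x ∈ C ↔ x = a ∨ x = b ∨ x = c) :
    Nat.card (ACls σ' ε f C) = Nat.card F := by
  classical
  have he' : ((ε a : ℤ) : F) * ((ε b : ℤ) : F) * ((ε c : ℤ) : F) = 1 := by
    have := congrArg (Int.cast : ℤ → F) he
    push_cast at this
    exact this
  apply Nat.card_congr
  refine ⟨fun t => t.1 a, fun x => ⟨fun r => if r = a then x else if r = b then
    ((ε a : ℤ) : F) * f x else if r = c then ((ε b : ℤ) : F) * (((ε a : ℤ) : F) * f (f x)) else 0,
    ?_, ?_⟩, ?_, ?_⟩
  · intro r hr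
    rw [hC] at hr
    simp only [not_or] at hr
    simp [hr.1, hr.2.1, hr.2.2]
  · intro r hr
    rw [hC] at hr
    rcases hr with rfl | rfl | rfl
    · simp only [tw, h3, if_neg (Ne.symm hac), if_neg (Ne.symm hbc), if_true, map_mul,
        map_intCast, hf]
      calc ((ε c : ℤ) : F) * (((ε b : ℤ) : F) * (((ε r : ℤ) : F) * x))
          = (((ε r : ℤ) : F) * ((ε b : ℤ) : F) * ((ε c : ℤ) : F)) * x := by ring
        _ = x := by rw [he', one_mul]
    · simp only [tw, h1, if_true, if_neg (Ne.symm hab)]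
    · simp only [tw, h2, if_true, if_neg (Ne.symm hab), if_neg (Ne.symm hac), if_neg (Ne.symm hbc),
        map_mul, map_intCast]
  · rintro ⟨t, ht1, ht2⟩
    apply Subtype.ext
    funext r
    by_cases hr : r = a
    · subst hr; simp
    · by_cases hr' : r = b
      · subst hr'
        simp only [if_neg hr, if_true]
        have := ht2 r ((hC r).2 (Or.inr (Or.inl rfl)))
        simp only [tw, h1] at this
        exact this
      · by_cases hr'' : r = c
        · subst hr''
          simp only [if_neg hr, if_neg hr', if_true]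
          have e1 := ht2 r ((hC r).2 (Or.inr (Or.inr rfl)))
          have e2 := ht2 b ((hC b).2 (Or.inr (Or.inl rfl)))
          simp only [tw, h1, h2] at e1 e2
          rw [← e1, ← e2, map_mul, map_intCast]
        · simp only [if_neg hr, if_neg hr', if_neg hr'']
          exact (ht1 r (by rw [hC]; simp [hr, hr', hr''])).symm
  · intro x
    simp

end shapes

/-- the shape conditions of a class, by its length -/
def ShapeOK (σ' : ℕ → ℕ) (ε : ℕ → ℤ) : List ℕ → Prop
  | [a] => σ' a = a ∧ ε a = 1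
  | [a, b] => a ≠ b ∧ σ' a = b ∧ σ' b = a ∧ ε a * ε b = 1
  | [a, b, c] => a ≠ b ∧ a ≠ c ∧ b ≠ c ∧ ε a * ε b * ε c = 1 ∧
      ((σ' b = a ∧ σ' c = b ∧ σ' a = c) ∨ (σ' c = a ∧ σ' b = c ∧ σ' a = b))
  | _ => False

instance (σ' : ℕ → ℕ) (ε : ℕ → ℤ) (C : List ℕ) : Decidable (ShapeOK σ' ε C) := by
  match C with
  | [] => exact isFalse (fun h => h)
  | [a] => unfold ShapeOK; infer_instance
  | [a, b] => unfold ShapeOK; infer_instance
  | [a, b, c] => unfold ShapeOK; infer_instance
  | _ :: _ :: _ :: _ :: _ => exact isFalse (fun h => h)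

/-- the number of admissible coefficient functions of a class -/
def cardOf (q K : ℕ) (C : List ℕ) : ℕ := if C.length = 1 then q else K

theorem card_ACls {σ' : ℕ → ℕ} {ε : ℕ → ℤ} (f : F ≃+* F) {C : List ℕ} (hS : ShapeOK σ' ε C)
    (hf : 2 ≤ C.length → ∀ x, f^[C.length] x = x) :
    Nat.card (ACls σ' ε f C) = cardOf (Nat.card {x : F // f x = x}) (Nat.card F) C := by
  match C, hS, hf with
  | [a], hS, _ => exact card_ACls_one f hS.1 hS.2
  | [a, b], hS, hf =>
    have : ∀ x, f (f x) = x := fun x => hf (by simp) x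
    exact card_ACls_two f hS.1 hS.2.1 hS.2.2.1 hS.2.2.2 this
  | [a, b, c], hS, hf =>
    have hf3 : ∀ x, f (f (f x)) = x := fun x => hf (by simp) x
    obtain ⟨hab, hac, hbc, he, h | h⟩ := hS
    · exact card_ACls_three f hab hac hbc h.1 h.2.1 h.2.2 he hf3 (by intro x; simp)
    · have he' : ε a * ε c * ε b = 1 := by rw [← he]; ring
      exact card_ACls_three f hac hab (Ne.symm hbc) h.1 h.2.1 h.2.2 he' hf3
        (by intro x; simp; tauto)

/-- the largest level in a list -/
def maxLam (lam : ℕ → ℕ) : List ℕ → ℕ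
  | [] => 0
  | a :: L => max (lam a) (maxLam lam L)

theorem le_maxLam (lam : ℕ → ℕ) : ∀ (L : List ℕ), ∀ r ∈ L, lam r ≤ maxLam lam L
  | [], r, hr => absurd hr List.not_mem_nil
  | a :: L, r, hr => by
    rcases List.mem_cons.1 hr with rfl | h
    · exact le_max_left _ _
    · exact le_trans (le_maxLam lam L r h) (le_max_right _ _)

theorem exists_maxLam (lam : ℕ → ℕ) : ∀ (L : List ℕ), L ≠ [] → ∃ r ∈ L, lam r = maxLam lam L
  | [], h => absurd rfl h
  | [a], _ => ⟨a, List.mem_singleton.2 rfl, by simp [maxLam]⟩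
  | a :: b :: L, _ => by
    obtain ⟨r, hr, e⟩ := exists_maxLam lam (b :: L) (List.cons_ne_nil _ _)
    by_cases h : lam a ≤ maxLam lam (b :: L)
    · exact ⟨r, List.mem_cons_of_mem _ hr, by rw [e]; show _ = max _ _; rw [max_eq_right h]⟩
    · exact ⟨a, List.mem_cons_self, by show _ = max _ _; rw [max_eq_left (le_of_not_ge h)]⟩

section count

variable (hB : BasicOK D) (hF : FastOK D) {lam : ℕ → ℕ} {Λ N M : ℕ}
  (hO : lvlChkL D lam Λ N = true) (hBd : bndChk D lam M = true) (hΛ : Λ < M)
  (hW : witChk D lam Λ N = true) (hP : cmChkL D lam N = true)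
  (hC : ∀ r < D.nroots, ∀ s < D.nroots, s ≠ r → s ≠ D.neg r → CommF D F r s)
  (hneg : ∀ r < D.nroots, N ≤ r → D.neg r < N)
  {ρ ρ' σ σ' : ℕ → ℕ} {ε ε' : ℕ → ℤ}
  (hρ : ∀ i < D.rank, ρ i < D.rank ∧ ρ' i < D.rank ∧ ρ' (ρ i) = i ∧ ρ (ρ' i) = i)
  (hI : InvOK D σ σ' ε ε')
  (hσ : ∀ s < D.nroots, σ s < D.nroots ∧ (ε s = 1 ∨ ε s = -1))
  (hR : ∀ p < D.nroots, RootOKg D ρ σ ε p)
  (f : F ≃+* F)
include hB hF hO hBd hΛ hW hP hC hneg hσ hR

/-- the number of `σ`-fixed points of `⟨X_r : m ≤ lam r⟩` as a product over the classes -/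
theorem card_fix : ∀ (Cs : List (List ℕ)) (m : ℕ), Covers D lam N Cs.flatten m →
    (∀ C ∈ Cs, ClsOK D N σ C ∧ ShapeOK σ' ε C) →
    (∀ C ∈ Cs, 2 ≤ C.length → ∀ x, f^[C.length] x = x) →
    Nat.card ↥(fixSub (sigma hρ hI f) ⊓ UgeL D F lam N m) =
      (Cs.map (cardOf (Nat.card {x : F // f x = x}) (Nat.card F))).prod := by
  intro Cs
  induction Cs with
  | nil =>
    intro m hcov _ _
    have : UgeL D F lam N m = ⊥ := by
      unfold UgeL
      rw [Subgroup.closure_eq_bot_iff]
      rintro g ⟨r, t, h0, h1, h2, _⟩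
      exact absurd (hcov.cov r h0 h1 h2) (by simp)
    rw [this, inf_bot_eq]
    simp
  | cons C Cs ih =>
    intro m hcov hcls hford
    have hCne : C ≠ [] := by
      intro e
      have := (hcls C List.mem_cons_self).2
      rw [e] at this
      exact this
    rw [List.flatten_cons] at hcov
    set m' := maxLam lam C + 1 with hm'
    obtain ⟨c0, hc0, hc0e⟩ := exists_maxLam lam C hCne
    have hdisj : ∀ c ∈ C, ∀ r ∈ Cs.flatten, lam c < lam r :=
      (List.pairwise_append.1 hcov.sorted).2.2
    have hcov' : Covers D lam N Cs.flatten m' := by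
      refine ⟨(List.pairwise_append.1 hcov.sorted).2.1, ?_, ?_⟩
      · intro r hr
        obtain ⟨k0, k1, _⟩ := hcov.pos r (List.mem_append_right _ hr)
        refine ⟨k0, k1, ?_⟩
        have := hdisj c0 hc0 r hr
        omega
      · intro r h0 h1 h2
        have hm0 : m ≤ lam c0 := (hcov.pos c0 (List.mem_append_left _ hc0)).2.2
        rcases List.mem_append.1 (hcov.cov r h0 h1 (by omega)) with h | h
        · have := le_maxLam lam C r h
          omega
        · exact h
    have hmm : m ≤ m' := by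
      have hm0 : m ≤ lam c0 := (hcov.pos c0 (List.mem_append_left _ hc0)).2.2
      omega
    have hcl' : ∀ r ∈ Cs.flatten, σ r ∈ Cs.flatten := by
      intro r hr
      rw [List.mem_flatten] at hr ⊢
      obtain ⟨C', hC', hrC'⟩ := hr
      refine ⟨C', hC', ?_⟩
      have := (hcls C' (List.mem_cons_of_mem _ hC')).1.perm
      exact this.mem_iff.1 (List.mem_map_of_mem hrC')
    rw [card_peel hB hF hO hBd hΛ hW hP hC hneg hρ hI hσ hR f C Cs.flatten m m' hcov hcov' hmm
      (hcls C List.mem_cons_self).1 hcl',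
      ih m' hcov' (fun C' hC' => hcls C' (List.mem_cons_of_mem _ hC'))
        (fun C' hC' => hford C' (List.mem_cons_of_mem _ hC')),
      card_ACls f (hcls C List.mem_cons_self).2 (hford C List.mem_cons_self),
      List.map_cons, List.prod_cons]

/-- a subgroup containing the fixed points of all class subgroups contains all fixed points -/
theorem fix_mem_of_cls (S : Subgroup (GL D.Idx F)) : ∀ (Cs : List (List ℕ)) (m : ℕ),
    Covers D lam N Cs.flatten m → (∀ C ∈ Cs, ClsOK D N σ C) →
    (∀ C ∈ Cs, ∀ t : ℕ → F,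
      sigma hρ hI f (wordU hB (C.map fun r => (r, t r))) = wordU hB (C.map fun r => (r, t r)) →
      wordU hB (C.map fun r => (r, t r)) ∈ S) →
    ∀ g : GL D.Idx F, sigma hρ hI f g = g → g ∈ UgeL D F lam N m → g ∈ S := by
  intro Cs
  induction Cs with
  | nil =>
    intro m hcov _ _ g _ hg
    have : UgeL D F lam N m = ⊥ := by
      unfold UgeL
      rw [Subgroup.closure_eq_bot_iff]
      rintro g ⟨r, t, h0, h1, h2, _⟩
      exact absurd (hcov.cov r h0 h1 h2) (by simp)
    rw [this, Subgroup.mem_bot] at hg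
    rw [hg]
    exact S.one_mem
  | cons C Cs ih =>
    intro m hcov hcls hS g hgfix hgU
    by_cases hCne : C = []
    · subst hCne
      rw [List.flatten_cons, List.nil_append] at hcov
      exact ih m hcov (fun C' hC' => hcls C' (List.mem_cons_of_mem _ hC'))
        (fun C' hC' => hS C' (List.mem_cons_of_mem _ hC')) g hgfix hgU
    rw [List.flatten_cons] at hcov
    set m' := maxLam lam C + 1 with hm'
    obtain ⟨c0, hc0, hc0e⟩ := exists_maxLam lam C hCne
    have hdisj : ∀ c ∈ C, ∀ r ∈ Cs.flatten, lam c < lam r :=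
      (List.pairwise_append.1 hcov.sorted).2.2
    have hcov' : Covers D lam N Cs.flatten m' := by
      refine ⟨(List.pairwise_append.1 hcov.sorted).2.1, ?_, ?_⟩
      · intro r hr
        obtain ⟨k0, k1, _⟩ := hcov.pos r (List.mem_append_right _ hr)
        refine ⟨k0, k1, ?_⟩
        have := hdisj c0 hc0 r hr
        omega
      · intro r h0 h1 h2
        have hm0 : m ≤ lam c0 := (hcov.pos c0 (List.mem_append_left _ hc0)).2.2
        rcases List.mem_append.1 (hcov.cov r h0 h1 (by omega)) with h | h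
        · have := le_maxLam lam C r h
          omega
        · exact h
    have hcl' : ∀ r ∈ Cs.flatten, σ r ∈ Cs.flatten := by
      intro r hr
      rw [List.mem_flatten] at hr ⊢
      obtain ⟨C', hC', hrC'⟩ := hr
      refine ⟨C', hC', ?_⟩
      have := (hcls C' (List.mem_cons_of_mem _ hC')).perm
      exact this.mem_iff.1 (List.mem_map_of_mem hrC')
    obtain ⟨t, z, h1, hzfix, hzU, rfl⟩ := exists_peel hB hF hO hBd hΛ hW hP hC hneg hρ hI hσ hR f
      C Cs.flatten m m' hcov hcov' (hcls C List.mem_cons_self) hcl' hgfix hgU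
    have hsortC : C.Pairwise (fun a b => lam a < lam b) := (List.pairwise_append.1 hcov.sorted).1
    refine S.mul_mem (hS C List.mem_cons_self t
      (cls_fix hB hF hO hBd hΛ hW hP hC hneg hρ hI hσ hR f hsortC (hcls C List.mem_cons_self) t h1)) ?_
    exact ih m' hcov' (fun C' hC' => hcls C' (List.mem_cons_of_mem _ hC'))
      (fun C' hC' => hS C' (List.mem_cons_of_mem _ hC')) z hzfix hzU

end count

end Cfsg.Agent.Helper11.TwFix
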