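import Mathlib
import Cfsg.Agent.Helper11.TwFix
import Cfsg.Agent.Helper11.ChevCommDE

/-!
# The context of a twisted group inside a Chevalley group of type `D₄` or `E₆`

All the table data and certificates bundled in one structure, with the results of `TwFix` restated.
-/

set_option autoImplicit false
set_option linter.unusedSectionVars false
set_option linter.unusedVariables false

namespace Cfsg.Agent.Helper11.TwCtx

open Cfsg.Lie Cfsg.Agent.Helper6 Cfsg.Agent.Helper11.ChevGraphAut Cfsg.Agent.Helper11.TwUProd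
  Cfsg.Agent.Helper11.TwSigma Cfsg.Agent.Helper11.TwFix

/-- the data of a twisting automorphism, with its certificates -/
structure Ctx (D : ChevalleyDatum) (F : Type*) [Field F] where
  ρ : ℕ → ℕ
  ρ' : ℕ → ℕ
  σ : ℕ → ℕ
  σ' : ℕ → ℕ
  ε : ℕ → ℤ
  ε' : ℕ → ℤ
  lam : ℕ → ℕ
  Λ : ℕ
  M : ℕ
  cls : List (List ℕ)
  f : F ≃+* F
  hD : D ∈ [chevD4, chevE6]
  hG : GraphOK D ρ ρ' σ ε
  hI : InvOK D σ σ' ε ε'
  hR : ∀ p < D.nroots, RootOKg D ρ σ ε p
  hO : lvlChkL D lam Λ (D.nroots / 2) = true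
  hBd : bndChk D lam M = true
  hΛ : Λ < M
  hW : witChk D lam Λ (D.nroots / 2) = true
  hP : cmChkL D lam (D.nroots / 2) = true
  hneg : ∀ r < D.nroots, D.nroots / 2 ≤ r → D.neg r < D.nroots / 2
  hsign : ∀ r < D.nroots, (D.IsPosRoot r ↔ D.nroots / 2 ≤ r)
  hcls : ∀ C ∈ cls, ClsOK D (D.nroots / 2) σ C ∧ ShapeOK σ' ε C
  hcov : Covers D lam (D.nroots / 2) cls.flatten 0
  hford : ∀ C ∈ cls, 2 ≤ C.length → ∀ x, f^[C.length] x = x

variable {D : ChevalleyDatum} {F : Type*} [Field F] (X : Ctx D F)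

namespace Ctx

include X

theorem tab : IsTabulated D := by
  have := X.hD
  simp only [List.mem_cons, List.not_mem_nil, or_false] at this
  simp only [IsTabulated, List.mem_cons, List.not_mem_nil, or_false]
  rcases this with rfl | rfl <;> simp

theorem hB : BasicOK D := basicOK_of_tabulated X.tab

theorem hF : FastOK D := fastOK_of_tabulated X.tab

theorem hAll : ∀ i < D.rank, SimpleAll D i := fun i hi => simpleAll_of_tabulated X.tab hi

theorem hC : ∀ r < D.nroots, ∀ s < D.nroots, s ≠ r → s ≠ D.neg r → CommF D F r s :=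
  fun r hr s hs h1 h2 => ChevCommDE.commF_DE X.hD hr hs h1 h2

/-- half the number of roots -/
abbrev N : ℕ := D.nroots / 2

/-- the twisting automorphism -/
noncomputable def sig : GL D.Idx F ≃* GL D.Idx F := sigma X.hG.1 X.hI X.f

/-- the subgroup of fixed points -/
noncomputable def fix : Subgroup (GL D.Idx F) := fixSub X.sig

theorem mem_fix (g : GL D.Idx F) : g ∈ X.fix ↔ X.sig g = g := Iff.rfl

/-- the subgroups `⟨X_r : r > 0, m ≤ lam r⟩` -/
def Uge (m : ℕ) : Subgroup (GL D.Idx F) := UgeL D F X.lam (D.nroots / 2) m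

/-- the coefficient transform -/
def tw (t : ℕ → F) : ℕ → F := TwFix.tw X.σ' X.ε X.f t

theorem tw_apply (t : ℕ → F) (r : ℕ) : X.tw t r = ((X.ε (X.σ' r) : ℤ) : F) * X.f (t (X.σ' r)) := rfl

theorem sig_xU {r : ℕ} (hr : r < D.nroots) (t : F) :
    X.sig (xU X.hB r t) = xU X.hB (X.σ r) (((X.ε r : ℤ) : F) * X.f t) :=
  sigma_xU X.hB X.hG.1 X.hI X.hG.2.1 X.f hr (X.hR r hr) t

theorem sig_wordU (w : List (ℕ × F)) (hw : ∀ p ∈ w, p.1 < D.nroots) :
    X.sig (wordU X.hB w) = wordU X.hB (w.map fun p => (X.σ p.1, ((X.ε p.1 : ℤ) : F) * X.f p.2)) :=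
  sigma_wordU X.hB X.hG.1 X.hI X.hG.2.1 X.hR X.f w hw

theorem clsSorted {C : List ℕ} (hC : C ∈ X.cls) : C.Pairwise (fun a b => X.lam a < X.lam b) := by
  have := X.hcov.sorted
  rw [List.pairwise_flatten] at this
  exact this.1 C hC

theorem clsNodup {C : List ℕ} (hC : C ∈ X.cls) : C.Nodup :=
  (X.clsSorted hC).imp (fun h e => by rw [e] at h; exact lt_irrefl _ h)

theorem fix_cls {C : List ℕ} (hC : C ∈ X.cls) (t : ℕ → F)
    (h : X.sig (wordU X.hB (C.map fun r => (r, t r))) = wordU X.hB (C.map fun r => (r, t r))) :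
    ∀ r ∈ C, X.tw t r = t r :=
  TwFix.fix_cls X.hB X.hF X.hO X.hBd X.hΛ X.hW X.hP X.hC X.hneg X.hG.1 X.hI X.hG.2.1 X.hR X.f
    (X.clsSorted hC) (X.hcls C hC).1 t h

theorem cls_fix {C : List ℕ} (hC : C ∈ X.cls) (t : ℕ → F) (h : ∀ r ∈ C, X.tw t r = t r) :
    X.sig (wordU X.hB (C.map fun r => (r, t r))) = wordU X.hB (C.map fun r => (r, t r)) :=
  TwFix.cls_fix X.hB X.hF X.hO X.hBd X.hΛ X.hW X.hP X.hC X.hneg X.hG.1 X.hI X.hG.2.1 X.hR X.f
    (X.clsSorted hC) (X.hcls C hC).1 t h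

theorem wordU_perm {L₁ L₂ : List ℕ} (hp : L₁.Perm L₂) (hnd : L₁.Nodup)
    (hpos : ∀ r ∈ L₁, D.nroots / 2 ≤ r ∧ r < D.nroots)
    (hcomm : ∀ r ∈ L₁, ∀ s ∈ L₁, r ≠ s → D.commTerms r s = []) (t : ℕ → F) :
    wordU X.hB (L₁.map fun r => (r, t r)) = wordU X.hB (L₂.map fun r => (r, t r)) :=
  TwFix.wordU_perm X.hB X.hC X.hneg hp hnd hpos hcomm t

/-- `U = ⟨X_r : r > 0⟩` -/
theorem posUnipotent_eq : D.posUnipotent F = X.Uge 0 := by
  have hsign := X.hsign
  unfold ChevalleyDatum.posUnipotent Uge UgeL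
  congr 1
  ext g
  constructor
  · rintro ⟨r, t, hr, hg⟩
    exact ⟨r, t, (hsign r hr.1).1 hr, hr.1, Nat.zero_le _, hg⟩
  · rintro ⟨r, t, h1, h2, _, hg⟩
    exact ⟨r, t, (hsign r h2).2 h1, hg⟩

/-- the order of the group of fixed points of `σ` on `U` -/
theorem card_fix_posUnipotent :
    Nat.card ↥(X.fix ⊓ D.posUnipotent F) =
      (X.cls.map (cardOf (Nat.card {x : F // X.f x = x}) (Nat.card F))).prod := by
  rw [X.posUnipotent_eq]
  exact TwFix.card_fix X.hB X.hF X.hO X.hBd X.hΛ X.hW X.hP X.hC X.hneg X.hG.1 X.hI X.hG.2.1 X.hR X.f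
    X.cls 0 X.hcov X.hcls X.hford

/-- a subgroup containing the fixed points of all class subgroups contains `U^σ` -/
theorem fix_le_of_cls (S : Subgroup (GL D.Idx F))
    (hS : ∀ C ∈ X.cls, ∀ t : ℕ → F,
      X.sig (wordU X.hB (C.map fun r => (r, t r))) = wordU X.hB (C.map fun r => (r, t r)) →
      wordU X.hB (C.map fun r => (r, t r)) ∈ S) :
    X.fix ⊓ D.posUnipotent F ≤ S := by
  rw [X.posUnipotent_eq]
  rintro g ⟨hg1, hg2⟩
  exact TwFix.fix_mem_of_cls X.hB X.hF X.hO X.hBd X.hΛ X.hW X.hP X.hC X.hneg X.hG.1 X.hI X.hG.2.1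
    X.hR X.f S X.cls 0 X.hcov (fun C hC => (X.hcls C hC).1) hS g hg1 hg2

end Ctx

end Cfsg.Agent.Helper11.TwCtx
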