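import Mathlib
import Cfsg.Agent.Helper11.TwCtx

/-!
# The fixed points of `σ` on `U` lie in the twisted group

For a subgroup `G1` of `GL` contained in the fixed points of `σ` and containing the fixed points of
the class subgroups of the orbits of fundamental roots (and of their negatives), every class
subgroup's fixed points lie in `G1` (by conjugating with the elements `n_J ∈ G1`), hence so do all
fixed points of `σ` on `U`.
-/

set_option autoImplicit false
set_option linter.unusedSectionVars false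
set_option linter.unusedVariables false

namespace Cfsg.Agent.Helper11.TwReach

open Cfsg.Lie Cfsg.Agent.Helper6 Cfsg.Agent.Helper11.ChevGraphAut Cfsg.Agent.Helper11.TwUProd
  Cfsg.Agent.Helper11.TwSigma Cfsg.Agent.Helper11.TwFix Cfsg.Agent.Helper11.TwCtx

variable {D : ChevalleyDatum} {F : Type*} [Field F]

/-- composite of fundamental reflections on root indices -/
def wJ (D : ChevalleyDatum) : List ℕ → ℕ → ℕ
  | [], s => s
  | i :: J, s => wR D (D.simple i) (wJ D J s)

/-- the sign of the composite -/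
def etaJ (D : ChevalleyDatum) : List ℕ → ℕ → ℤ
  | [], _ => 1
  | i :: J, s => etaR D (D.simple i) (wJ D J s) * etaJ D J s

/-- the product of the `n_i(1)`, `i ∈ J` -/
def nJ (hB : BasicOK D) (J : List ℕ) : GL D.Idx F :=
  (J.map fun i => nU hB (D.simple i) (one_ne_zero (α := F))).prod

theorem wJ_append (J₁ J₂ : List ℕ) (s : ℕ) : wJ D (J₁ ++ J₂) s = wJ D J₁ (wJ D J₂ s) := by
  induction J₁ with
  | nil => rfl
  | cons i J ih => simp only [List.cons_append, wJ, ih]

section conj

variable (hB : BasicOK D) (hAll : ∀ i < D.rank, SimpleAll D i)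
include hB hAll

theorem wJ_lt {J : List ℕ} (hJ : ∀ i ∈ J, i < D.rank) {s : ℕ} (hs : s < D.nroots) :
    wJ D J s < D.nroots := by
  induction J with
  | nil => exact hs
  | cons i J ih =>
    have hA := hAll i (hJ i List.mem_cons_self)
    exact wR_lt hB hA.hS.1 hA.hR (ih (fun j hj => hJ j (List.mem_cons_of_mem _ hj)))

theorem wJ_reverse {J : List ℕ} (hJ : ∀ i ∈ J, i < D.rank) {s : ℕ} (hs : s < D.nroots) :
    wJ D J.reverse (wJ D J s) = s := by
  induction J with
  | nil => rfl
  | cons i J ih =>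
    have hA := hAll i (hJ i List.mem_cons_self)
    have hJ' : ∀ j ∈ J, j < D.rank := fun j hj => hJ j (List.mem_cons_of_mem _ hj)
    rw [List.reverse_cons, wJ_append]
    show wJ D J.reverse (wR D (D.simple i) (wR D (D.simple i) (wJ D J s))) = s
    rw [wR_wR hB hA (wJ_lt hB hAll hJ' hs)]
    exact ih hJ'

theorem nJ_conj_xU {J : List ℕ} (hJ : ∀ i ∈ J, i < D.rank) {s : ℕ} (hs : s < D.nroots) (t : F) :
    nJ hB J * xU hB s t * (nJ (F := F) hB J)⁻¹ =
      xU hB (wJ D J s) (((etaJ D J s : ℤ) : F) * t) := by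
  induction J with
  | nil => simp [nJ, wJ, etaJ]
  | cons i J ih =>
    have hA := hAll i (hJ i List.mem_cons_self)
    have hJ' : ∀ j ∈ J, j < D.rank := fun j hj => hJ j (List.mem_cons_of_mem _ hj)
    have e : nJ (F := F) hB (i :: J) = nU hB (D.simple i) (one_ne_zero (α := F)) * nJ hB J := by
      simp [nJ]
    rw [e]
    have : nU hB (D.simple i) (one_ne_zero (α := F)) * nJ hB J * xU hB s t *
        (nU hB (D.simple i) (one_ne_zero (α := F)) * nJ hB J)⁻¹ =
        nU hB (D.simple i) (one_ne_zero (α := F)) * (nJ hB J * xU hB s t * (nJ (F := F) hB J)⁻¹) *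
          (nU hB (D.simple i) (one_ne_zero (α := F)))⁻¹ := by group
    rw [this, ih hJ', nU_conj_xU hB hA (wJ_lt hB hAll hJ' hs)]
    show _ = xU hB (wR D (D.simple i) (wJ D J s))
      (((etaR D (D.simple i) (wJ D J s) * etaJ D J s : ℤ) : F) * t)
    congr 1
    push_cast
    ring

theorem nJ_conj_wordU {J : List ℕ} (hJ : ∀ i ∈ J, i < D.rank) (w : List (ℕ × F))
    (hw : ∀ p ∈ w, p.1 < D.nroots) :
    nJ hB J * wordU hB w * (nJ (F := F) hB J)⁻¹ =
      wordU hB (w.map fun p => (wJ D J p.1, ((etaJ D J p.1 : ℤ) : F) * p.2)) := by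
  induction w with
  | nil => simp [wordU_nil']
  | cons p w ih =>
    rw [wordU_cons', List.map_cons, wordU_cons', ← ih (fun q hq => hw q (List.mem_cons_of_mem _ hq)),
      ← nJ_conj_xU hB hAll hJ (hw p List.mem_cons_self)]
    group

end conj

theorem nU_one_eq (hB : BasicOK D) (r : ℕ) :
    nU hB r (one_ne_zero (α := F)) = xU hB r 1 * xU hB (D.neg r) (-1) * xU hB r 1 := by
  apply Units.ext
  simp only [Units.val_mul, nU_val, xU_val]
  rw [nMat_eq', inv_one]

/-- strongly orthogonal fundamental roots -/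
def SO (D : ChevalleyDatum) (i j : ℕ) : Prop :=
  D.simple i ≠ D.simple j ∧ D.commTerms (D.simple i) (D.simple j) = [] ∧
    D.commTerms (D.simple i) (D.neg (D.simple j)) = [] ∧
    D.commTerms (D.neg (D.simple i)) (D.simple j) = [] ∧
    D.commTerms (D.neg (D.simple i)) (D.neg (D.simple j)) = []

instance (D : ChevalleyDatum) (i j : ℕ) : Decidable (SO D i j) := by unfold SO; infer_instance

/-- an orbit of the graph automorphism on the fundamental roots, of pairwise strongly orthogonal
roots -/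
def OrbOK (D : ChevalleyDatum) (ρ : ℕ → ℕ) : List ℕ → Prop
  | [i] => i < D.rank ∧ ρ i = i
  | [i, j] => i < D.rank ∧ j < D.rank ∧ ρ i = j ∧ ρ j = i ∧ SO D i j
  | [i, j, k] => i < D.rank ∧ j < D.rank ∧ k < D.rank ∧ ρ i = j ∧ ρ j = k ∧ ρ k = i ∧
      SO D i j ∧ SO D i k ∧ SO D j k
  | _ => False

instance (D : ChevalleyDatum) (ρ : ℕ → ℕ) (J : List ℕ) : Decidable (OrbOK D ρ J) := by
  match J with
  | [] => exact isFalse (fun h => h)
  | [a] => unfold OrbOK; infer_instance
  | [a, b] => unfold OrbOK; infer_instance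
  | [a, b, c] => unfold OrbOK; infer_instance
  | _ :: _ :: _ :: _ :: _ => exact isFalse (fun h => h)

theorem OrbOK.lt {ρ : ℕ → ℕ} : ∀ {J : List ℕ}, OrbOK D ρ J → ∀ i ∈ J, i < D.rank
  | [a], h, i, hi => by
    simp only [List.mem_singleton] at hi; subst hi; exact h.1
  | [a, b], h, i, hi => by
    simp only [List.mem_cons, List.not_mem_nil, or_false] at hi
    rcases hi with rfl | rfl
    · exact h.1
    · exact h.2.1
  | [a, b, c], h, i, hi => by
    simp only [List.mem_cons, List.not_mem_nil, or_false] at hi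
    rcases hi with rfl | rfl | rfl
    · exact h.1
    · exact h.2.1
    · exact h.2.2.1

/-- the word of the fixed element of the class subgroup of an orbit of fundamental roots
(`pos = true`) or of their negatives -/
def orbWord (D : ChevalleyDatum) (f : F ≃+* F) (pos : Bool) (J : List ℕ) (a : F) : List (ℕ × F) :=
  J.zipIdx.map fun p => (if pos then D.simple p.1 else D.neg (D.simple p.1), f^[p.2] a)

theorem three_mul_three {G : Type*} [Group G] {a₁ b₁ c₁ a₂ b₂ c₂ : G} (h1 : Commute b₁ a₂)
    (h2 : Commute c₁ a₂) (h3 : Commute c₁ b₂) :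
    (a₁ * b₁ * c₁) * (a₂ * b₂ * c₂) = (a₁ * a₂) * (b₁ * b₂) * (c₁ * c₂) := by
  calc (a₁ * b₁ * c₁) * (a₂ * b₂ * c₂) = a₁ * b₁ * (c₁ * a₂) * b₂ * c₂ := by group
    _ = a₁ * b₁ * (a₂ * c₁) * b₂ * c₂ := by rw [h2.eq]
    _ = a₁ * (b₁ * a₂) * (c₁ * b₂) * c₂ := by group
    _ = a₁ * (a₂ * b₁) * (b₂ * c₁) * c₂ := by rw [h1.eq, h3.eq]
    _ = _ := by group

section main

variable (X : Ctx D F) (G1 : Subgroup (GL D.Idx F))
  (hsp : ∀ i < D.rank, D.nroots / 2 ≤ D.simple i)
include X hsp

theorem simple_lt {i : ℕ} (hi : i < D.rank) : D.simple i < D.nroots := (X.hAll i hi).hS.1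

/-- root elements of strongly orthogonal fundamental roots commute, with all signs -/
theorem so_comm {i j : ℕ} (hi : i < D.rank) (hj : j < D.rank) (h : SO D i j) (t u : F) :
    Commute (xU X.hB (D.simple i) t) (xU X.hB (D.simple j) u) ∧
    Commute (xU X.hB (D.simple i) t) (xU X.hB (D.neg (D.simple j)) u) ∧
    Commute (xU X.hB (D.neg (D.simple i)) t) (xU X.hB (D.simple j) u) ∧
    Commute (xU X.hB (D.neg (D.simple i)) t) (xU X.hB (D.neg (D.simple j)) u) := by
  have hsi := simple_lt X hsp hi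
  have hsj := simple_lt X hsp hj
  have hni := X.hB.neg _ hsi
  have hnj := X.hB.neg _ hsj
  have hpi := hsp i hi
  have hpj := hsp j hj
  have hnegi := X.hneg _ hsi hpi
  have hnegj := X.hneg _ hsj hpj
  refine ⟨?_, ?_, ?_, ?_⟩
  · exact (xU_comm_of_nil X.hB (X.hC _ hsi _ hsj (Ne.symm h.1) (by omega)) h.2.1 t u).symm
  · refine (xU_comm_of_nil X.hB (X.hC _ hsi _ hnj.1 (by omega) ?_) h.2.2.1 t u).symm
    intro e
    apply h.1
    have := congrArg D.neg e
    rw [hnj.2.2, hni.2.2] at this
    exact this.symm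
  · exact (xU_comm_of_nil X.hB (X.hC _ hni.1 _ hsj (by omega) (by rw [hni.2.2]; exact Ne.symm h.1))
      h.2.2.2.1 t u).symm
  · refine (xU_comm_of_nil X.hB (X.hC _ hni.1 _ hnj.1 ?_ (by rw [hni.2.2]; omega)) h.2.2.2.2 t u).symm
    intro e
    apply h.1
    have := congrArg D.neg e
    rw [hnj.2.2, hni.2.2] at this
    exact this.symm

/-- `n_J` as a product of three fixed class elements -/
theorem nJ_eq {J : List ℕ} (hJ : OrbOK D X.ρ J) :
    nJ (F := F) X.hB J = wordU X.hB (orbWord D X.f true J 1) *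
      wordU X.hB (orbWord D X.f false J (-1)) * wordU X.hB (orbWord D X.f true J 1) := by
  have h1 : ∀ k : ℕ, (X.f)^[k] (1 : F) = 1 := by
    intro k; induction k with
    | zero => rfl
    | succ k ih => rw [Function.iterate_succ_apply', ih, map_one]
  have hm1 : ∀ k : ℕ, (X.f)^[k] (-1 : F) = -1 := by
    intro k; induction k with
    | zero => rfl
    | succ k ih => rw [Function.iterate_succ_apply', ih, map_neg, map_one]
  match J, hJ with
  | [i], hJ =>
    simp only [nJ, orbWord, List.zipIdx_cons, List.zipIdx_nil, List.map_cons, List.map_nil,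
      List.prod_cons, List.prod_nil, mul_one, wordU_cons', wordU_nil', if_true, h1, hm1]
    simp only [Bool.false_eq_true, if_false]
    exact nU_one_eq X.hB _
  | [i, j], hJ =>
    obtain ⟨hi, hj, _, _, hso⟩ := hJ
    simp only [nJ, orbWord, List.zipIdx_cons, List.zipIdx_nil, List.map_cons, List.map_nil,
      List.prod_cons, List.prod_nil, mul_one, wordU_cons', wordU_nil', if_true, h1, hm1]
    simp only [Bool.false_eq_true, if_false]
    rw [nU_one_eq, nU_one_eq]
    have c := so_comm X hsp hi hj hso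
    exact three_mul_three (c (-1) 1).2.2.1 (c 1 1).1 (c 1 (-1)).2.1
  | [i, j, k], hJ =>
    obtain ⟨hi, hj, hk, _, _, _, hij, hik, hjk⟩ := hJ
    simp only [nJ, orbWord, List.zipIdx_cons, List.zipIdx_nil, List.map_cons, List.map_nil,
      List.prod_cons, List.prod_nil, mul_one, wordU_cons', wordU_nil', if_true, h1, hm1]
    simp only [Bool.false_eq_true, if_false]
    rw [nU_one_eq, nU_one_eq, nU_one_eq]
    have cij := so_comm X hsp hi hj hij
    have cik := so_comm X hsp hi hk hik
    have cjk := so_comm X hsp hj hk hjk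
    rw [three_mul_three ((cjk (-1) 1).2.2.1) ((cjk 1 1).1) ((cjk 1 (-1)).2.1)]
    rw [three_mul_three (((cij (-1) 1).2.2.1).mul_right ((cik (-1) 1).2.2.1))
      (((cij 1 1).1).mul_right ((cik 1 1).1)) (((cij 1 (-1)).2.1).mul_right ((cik 1 (-1)).2.1))]

/-- the claim for a class: its fixed elements lie in `G1` -/
def Claim (C : List ℕ) : Prop :=
  ∀ t : ℕ → F,
    X.sig (wordU X.hB (C.map fun r => (r, t r))) = wordU X.hB (C.map fun r => (r, t r)) →
    wordU X.hB (C.map fun r => (r, t r)) ∈ G1

omit hsp in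
/-- the claim passes from `w_J(C)` to `C` -/
theorem claim_step {J : List ℕ} (hJ : ∀ i ∈ J, i < D.rank) (hn : nJ X.hB J ∈ G1)
    (hfix : G1 ≤ X.fix) {C C' : List ℕ} (hC : C ∈ X.cls) (hC' : C' ∈ X.cls)
    (hperm : (C.map (wJ D J)).Perm C') (h' : Claim X G1 C') : Claim X G1 C := by
  intro t ht
  have hClC := (X.hcls C hC).1
  have hClC' := (X.hcls C' hC').1
  have hlt : ∀ r ∈ C, r < D.nroots := fun r hr => (hClC.pos r hr).2
  have hy' : nJ X.hB J * wordU X.hB (C.map fun r => (r, t r)) * (nJ (F := F) X.hB J)⁻¹ =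
      wordU X.hB (C.map fun r => (wJ D J r, ((etaJ D J r : ℤ) : F) * t r)) := by
    rw [nJ_conj_wordU X.hB X.hAll hJ, List.map_map]
    · rfl
    · intro p hp
      rw [List.mem_map] at hp
      obtain ⟨r, hr, rfl⟩ := hp
      exact hlt r hr
  let t'' : ℕ → F := fun s => ((etaJ D J (wJ D J.reverse s) : ℤ) : F) * t (wJ D J.reverse s)
  have e1 : C.map (fun r => (wJ D J r, ((etaJ D J r : ℤ) : F) * t r)) =
      (C.map (wJ D J)).map (fun s => (s, t'' s)) := by
    rw [List.map_map]
    apply List.map_congr_left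
    intro r hr
    simp only [Function.comp, t'', wJ_reverse X.hB X.hAll hJ (hlt r hr)]
  have hnd : (C.map (wJ D J)).Nodup := (hperm.nodup_iff).2 (X.clsNodup hC')
  have e2 : wordU X.hB ((C.map (wJ D J)).map fun s => (s, t'' s)) =
      wordU X.hB (C'.map fun s => (s, t'' s)) := by
    apply X.wordU_perm hperm hnd
    · intro r hr
      exact hClC'.pos r (hperm.mem_iff.1 hr)
    · intro r hr s hs hrs
      exact hClC'.comm r (hperm.mem_iff.1 hr) s (hperm.mem_iff.1 hs) hrs
  have hnfix : X.sig (nJ X.hB J) = nJ X.hB J := hfix hn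
  have hfix' : X.sig (wordU X.hB (C'.map fun s => (s, t'' s))) =
      wordU X.hB (C'.map fun s => (s, t'' s)) := by
    rw [← e2, ← e1, ← hy', map_mul, map_mul, map_inv, ht, hnfix]
  have hmem := h' t'' hfix'
  rw [← e2, ← e1, ← hy'] at hmem
  have : wordU X.hB (C.map fun r => (r, t r)) = (nJ (F := F) X.hB J)⁻¹ *
      (nJ X.hB J * wordU X.hB (C.map fun r => (r, t r)) * (nJ (F := F) X.hB J)⁻¹) * nJ X.hB J := by
    group
  rw [this]
  exact G1.mul_mem (G1.mul_mem (G1.inv_mem hn) hmem) hn

omit hsp in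
theorem sig'_simple {i : ℕ} (hi : i < D.rank) :
    X.σ' (D.simple (X.ρ i)) = D.simple i ∧ X.ε (D.simple i) = 1 := by
  obtain ⟨h1, h2, _⟩ := X.hG.2.2 i hi
  have hlt : D.simple i < D.nroots := (X.hAll i hi).hS.1
  refine ⟨?_, h2.1⟩
  rw [← h1]
  exact (X.hI _ hlt).2.2.1

/-- the claim for the class of an orbit of fundamental roots -/
theorem claim_base {J : List ℕ} (hJ : OrbOK D X.ρ J) {C : List ℕ} (hC : C ∈ X.cls)
    (hperm : C.Perm (J.map D.simple))
    (hgen : ∀ a : F, (J.length = 1 → X.f a = a) → wordU X.hB (orbWord D X.f true J a) ∈ G1) :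
    Claim X G1 C := by
  intro t ht
  have hClC := (X.hcls C hC).1
  have htw := X.fix_cls hC t ht
  have hnd := X.clsNodup hC
  have hw : wordU X.hB (C.map fun r => (r, t r)) =
      wordU X.hB ((J.map D.simple).map fun r => (r, t r)) :=
    X.wordU_perm hperm hnd hClC.pos hClC.comm t
  rw [hw]
  match J, hJ, hperm, hgen with
  | [i], hJ, hperm, hgen =>
    obtain ⟨hi, hρi⟩ := hJ
    have hmem : D.simple i ∈ C := hperm.mem_iff.2 (by simp)
    have h1 := htw _ hmem
    obtain ⟨e1, e2⟩ := sig'_simple X hi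
    rw [hρi] at e1
    rw [X.tw_apply, e1, e2, Int.cast_one, one_mul] at h1
    have := hgen (t (D.simple i)) (fun _ => h1)
    simpa [orbWord] using this
  | [i, j], hJ, hperm, hgen =>
    obtain ⟨hi, hj, hρi, hρj, _⟩ := hJ
    have hmemj : D.simple j ∈ C := hperm.mem_iff.2 (by simp)
    have h1 := htw _ hmemj
    obtain ⟨e1, e2⟩ := sig'_simple X hi
    rw [hρi] at e1
    rw [X.tw_apply, e1, e2, Int.cast_one, one_mul] at h1
    have := hgen (t (D.simple i)) (fun h => by simp at h)
    simp only [orbWord, List.zipIdx_cons, List.zipIdx_nil, List.map_cons, List.map_nil, if_true,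
      Function.iterate_zero, id_eq, zero_add, Function.iterate_one] at this
    simp only [List.map_cons, List.map_nil]
    rw [← h1]
    exact this
  | [i, j, k], hJ, hperm, hgen =>
    obtain ⟨hi, hj, hk, hρi, hρj, hρk, _⟩ := hJ
    have hmemj : D.simple j ∈ C := hperm.mem_iff.2 (by simp)
    have hmemk : D.simple k ∈ C := hperm.mem_iff.2 (by simp)
    have h1 := htw _ hmemj
    have h2 := htw _ hmemk
    obtain ⟨e1, e2⟩ := sig'_simple X hi
    obtain ⟨e3, e4⟩ := sig'_simple X hj
    rw [hρi] at e1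
    rw [hρj] at e3
    rw [X.tw_apply, e1, e2, Int.cast_one, one_mul] at h1
    rw [X.tw_apply, e3, e4, Int.cast_one, one_mul] at h2
    have := hgen (t (D.simple i)) (fun h => by simp at h)
    simp only [orbWord, List.zipIdx_cons, List.zipIdx_nil, List.map_cons, List.map_nil, if_true,
      Function.iterate_zero, id_eq, zero_add, Function.iterate_one] at this
    simp only [List.map_cons, List.map_nil]
    rw [← h2, ← h1]
    exact this

/-- all fixed points of `σ` on `U` lie in `G1` -/
theorem fix_le (orbs : List (List ℕ)) (lv : List ℕ → ℕ) (horb : ∀ J ∈ orbs, OrbOK D X.ρ J)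
    (hgen : ∀ J ∈ orbs, ∀ (b : Bool) (a : F), (J.length = 1 → X.f a = a) →
      wordU X.hB (orbWord D X.f b J a) ∈ G1)
    (hfix : G1 ≤ X.fix)
    (hred : ∀ C ∈ X.cls, (∃ J ∈ orbs, C.Perm (J.map D.simple)) ∨
      (∃ J ∈ orbs, ∃ C' ∈ X.cls, lv C' < lv C ∧ (C.map (wJ D J)).Perm C')) :
    X.fix ⊓ D.posUnipotent F ≤ G1 := by
  have hnJ : ∀ J ∈ orbs, nJ X.hB J ∈ G1 := by
    intro J hJ
    rw [nJ_eq X hsp (horb J hJ)]
    have h1 : (1 : F) = 1 := rfl
    exact G1.mul_mem (G1.mul_mem (hgen J hJ true 1 (fun _ => map_one _))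
      (hgen J hJ false (-1) (fun _ => by rw [map_neg, map_one])))
      (hgen J hJ true 1 (fun _ => map_one _))
  have hall : ∀ n : ℕ, ∀ C ∈ X.cls, lv C < n → Claim X G1 C := by
    intro n
    induction n with
    | zero => intro C _ h; omega
    | succ n ih =>
      intro C hC hlv
      rcases hred C hC with ⟨J, hJ, hperm⟩ | ⟨J, hJ, C', hC', hlt, hperm⟩
      · exact claim_base X G1 hsp (horb J hJ) hC hperm (fun a ha => hgen J hJ true a ha)
      · exact claim_step X G1 (horb J hJ).lt (hnJ J hJ) hfix hC hC' hperm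
          (ih C' hC' (by omega))
  apply X.fix_le_of_cls
  intro C hC t ht
  exact hall (lv C + 1) C hC (Nat.lt_succ_self _) t ht

omit hsp in
theorem sig_simple {i : ℕ} (hi : i < D.rank) :
    X.σ (D.simple i) = D.simple (X.ρ i) ∧ X.ε (D.simple i) = 1 ∧
    X.σ (D.neg (D.simple i)) = D.neg (D.simple (X.ρ i)) ∧ X.ε (D.neg (D.simple i)) = 1 := by
  obtain ⟨h1, h2, _⟩ := X.hG.2.2 i hi
  refine ⟨h1, h2.1, ?_, h2.2.1⟩
  rw [h2.2.2.1, h1]

/-- the elements of the orbit words are fixed by `σ` -/
theorem orb_fix {J : List ℕ} (hJ : OrbOK D X.ρ J) (b : Bool) (a : F)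
    (ha : X.f^[J.length] a = a) :
    X.sig (wordU X.hB (orbWord D X.f b J a)) = wordU X.hB (orbWord D X.f b J a) := by
  have hlt : ∀ i < D.rank, (if b then D.simple i else D.neg (D.simple i)) < D.nroots := by
    intro i hi
    have := simple_lt X hsp hi
    split_ifs
    · exact this
    · exact (X.hB.neg _ this).1
  have hsg : ∀ i < D.rank, X.σ (if b then D.simple i else D.neg (D.simple i)) =
      (if b then D.simple (X.ρ i) else D.neg (D.simple (X.ρ i))) ∧
      X.ε (if b then D.simple i else D.neg (D.simple i)) = 1 := by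
    intro i hi
    obtain ⟨h1, h2, h3, h4⟩ := sig_simple X hi
    split_ifs
    · exact ⟨h1, h2⟩
    · exact ⟨h3, h4⟩
  match J, hJ, ha with
  | [i], hJ, ha =>
    obtain ⟨hi, hρi⟩ := hJ
    have ha' : X.f a = a := ha
    rw [X.sig_wordU]
    · simp only [orbWord, List.zipIdx_cons, List.zipIdx_nil, List.map_cons, List.map_nil,
        Function.iterate_zero, id_eq, (hsg i hi).1, (hsg i hi).2, hρi, Int.cast_one, one_mul, ha']
    · intro p hp
      simp only [orbWord, List.zipIdx_cons, List.zipIdx_nil, List.map_cons, List.map_nil,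
        List.mem_singleton] at hp
      rw [hp]
      exact hlt i hi
  | [i, j], hJ, ha =>
    obtain ⟨hi, hj, hρi, hρj, hso⟩ := hJ
    have ha' : X.f (X.f a) = a := ha
    rw [X.sig_wordU]
    · simp only [orbWord, List.zipIdx_cons, List.zipIdx_nil, List.map_cons, List.map_nil,
        Function.iterate_zero, id_eq, zero_add, Function.iterate_one, (hsg i hi).1, (hsg i hi).2,
        (hsg j hj).1, (hsg j hj).2, hρi, hρj, Int.cast_one, one_mul, ha', wordU_cons', wordU_nil',
        mul_one]
      have c := so_comm X hsp hi hj hso a (X.f a)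
      cases b
      · simp only [Bool.false_eq_true, if_false]
        exact (c.2.2.2.eq).symm
      · simp only [if_true]
        exact (c.1.eq).symm
    · intro p hp
      simp only [orbWord, List.zipIdx_cons, List.zipIdx_nil, List.map_cons, List.map_nil,
        List.mem_cons, List.not_mem_nil, or_false] at hp
      rcases hp with rfl | rfl
      · exact hlt i hi
      · exact hlt j hj
  | [i, j, k], hJ, ha =>
    obtain ⟨hi, hj, hk, hρi, hρj, hρk, hij, hik, hjk⟩ := hJ
    have ha' : X.f (X.f (X.f a)) = a := ha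
    rw [X.sig_wordU]
    · simp only [orbWord, List.zipIdx_cons, List.zipIdx_nil, List.map_cons, List.map_nil,
        Function.iterate_zero, id_eq, zero_add, Function.iterate_one, (hsg i hi).1, (hsg i hi).2,
        (hsg j hj).1, (hsg j hj).2, (hsg k hk).1, (hsg k hk).2, hρi, hρj, hρk, Int.cast_one,
        one_mul, wordU_cons', wordU_nil', mul_one]
      have e2 : X.f^[1 + 1] a = X.f (X.f a) := rfl
      rw [e2, ha']
      have cik := so_comm X hsp hi hk hik a (X.f (X.f a))
      have cij := so_comm X hsp hi hj hij a (X.f a)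
      cases b
      · simp only [Bool.false_eq_true, if_false]
        rw [← mul_assoc, ← (cij.2.2.2.mul_right cik.2.2.2).eq]
      · simp only [if_true]
        rw [← mul_assoc, ← (cij.1.mul_right cik.1).eq]
    · intro p hp
      simp only [orbWord, List.zipIdx_cons, List.zipIdx_nil, List.map_cons, List.map_nil,
        List.mem_cons, List.not_mem_nil, or_false] at hp
      rcases hp with rfl | rfl | rfl
      · exact hlt i hi
      · exact hlt j hj
      · exact hlt k hk

end main

end Cfsg.Agent.Helper11.TwReach
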