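import Mathlib
import Cfsg.Agent.Helper11.TwFix
import Cfsg.Agent.Helper11.ChevGraphAutTables
import Cfsg.Agent.Helper6.Chev.TablesOrd

/-!
# Tables for the twisted groups `²E₆` and `³D₄`

Level functions giving convex orders on the positive roots compatible with the classes of the graph
automorphism, the lists of classes, and the kernel-checked certificates.
-/

set_option autoImplicit false

namespace Cfsg.Agent.Helper11.TwTables

open Cfsg.Lie Cfsg.Agent.Helper6 Cfsg.Agent.Helper11.ChevGraphAut Cfsg.Agent.Helper11.TwUProd
  Cfsg.Agent.Helper11.TwSigma Cfsg.Agent.Helper11.TwFix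

/-! ### Type E6 -/

set_option maxRecDepth 100000 in
theorem rootOKg_E6 : ∀ p < chevE6.nroots, RootOKg chevE6 rho_E6 sig_E6 eps_E6 p := by decide +kernel

/-- the packed level table -/
def lamPack_E6 : ℕ := 0xa70000009f0000009b0000009900000083000000980000009600000080000000920000007c0000007a0000008a00000074000000720000006e0000006b000000810000007f000000690000007b00000065000000630000007800000062000000600000005c000000730000005d0000005b00000057000000700000005a000000580000006c000000560000006a0000003e000000520000003c000000500000004e00000038000000510000004d0000004b000000350000004c00000048000000460000003000000045000000430000002d0000003f00000029000000270000003d0000003a00000036000000340000001e0000002e0000002c00000016000000280000001200000010000000250000000f0000000d0000000900000001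

/-- the level function -/
def lam_E6 : ℕ → ℕ := lamOf lamPack_E6

/-- the classes of positive roots, in the order of the level function -/
def cls_E6 : List (List ℕ) := [[37, 42], [39], [40, 43], [46], [44], [47], [48, 50], [51], [53], [36, 56], [38, 57], [41, 58], [45, 59], [49, 61], [52, 62], [54, 64], [55, 67], [60], [63], [65], [66, 68], [69], [70], [71]]

set_option maxRecDepth 100000 in
theorem lvlChk_E6 : lvlChkL chevE6 lam_E6 84 (chevE6.nroots / 2) = true := by decide +kernel

set_option maxRecDepth 100000 in
theorem bndChk_E6 : bndChk chevE6 lam_E6 169 = true := by decide +kernel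

set_option maxRecDepth 100000 in
theorem witChk_E6 : witChk chevE6 lam_E6 84 (chevE6.nroots / 2) = true := by decide +kernel

set_option maxRecDepth 100000 in
theorem cmChk_E6 : cmChkL chevE6 lam_E6 (chevE6.nroots / 2) = true := by decide +kernel

set_option maxRecDepth 100000 in
theorem clsOK_E6 : ∀ C ∈ cls_E6, ClsOK chevE6 (chevE6.nroots / 2) sig_E6 C ∧ ShapeOK sig_E6 eps_E6 C := by
  decide +kernel

set_option maxRecDepth 100000 in
theorem sorted_E6 : cls_E6.flatten.Pairwise (fun a b => lam_E6 a < lam_E6 b) := by decide +kernel

set_option maxRecDepth 100000 in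
theorem posL_E6 : ∀ r ∈ cls_E6.flatten, chevE6.nroots / 2 ≤ r ∧ r < chevE6.nroots := by decide +kernel

set_option maxRecDepth 100000 in
theorem covL_E6 : ∀ r < chevE6.nroots, chevE6.nroots / 2 ≤ r → r ∈ cls_E6.flatten := by decide +kernel

theorem covers_E6 : Covers chevE6 lam_E6 (chevE6.nroots / 2) cls_E6.flatten 0 :=
  ⟨sorted_E6, fun r hr => ⟨(posL_E6 r hr).1, (posL_E6 r hr).2, Nat.zero_le _⟩,
    fun r h0 h1 _ => covL_E6 r h1 h0⟩

/-! ### Type D4 -/

set_option maxRecDepth 100000 in
theorem rootOKg_D4 : ∀ p < chevD4.nroots, RootOKg chevD4 rho_D4a sig_D4a eps_D4a p := by decide +kernel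

/-- the packed level table -/
def lamPack_D4 : ℕ := 0x310000002b0000002600000027000000220000001c0000002800000023000000240000001f0000001d0000001e0000001400000015000000130000000e0000000f0000000a00000016000000100000000b0000000c0000000700000001

/-- the level function -/
def lam_D4 : ℕ → ℕ := lamOf lamPack_D4

/-- the classes of positive roots, in the order of the level function -/
def cls_D4 : List (List ℕ) := [[18, 13, 12], [14], [19, 16, 15], [21, 20, 17], [22], [23]]

set_option maxRecDepth 100000 in
theorem lvlChk_D4 : lvlChkL chevD4 lam_D4 25 (chevD4.nroots / 2) = true := by decide +kernel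

set_option maxRecDepth 100000 in
theorem bndChk_D4 : bndChk chevD4 lam_D4 51 = true := by decide +kernel

set_option maxRecDepth 100000 in
theorem witChk_D4 : witChk chevD4 lam_D4 25 (chevD4.nroots / 2) = true := by decide +kernel

set_option maxRecDepth 100000 in
theorem cmChk_D4 : cmChkL chevD4 lam_D4 (chevD4.nroots / 2) = true := by decide +kernel

set_option maxRecDepth 100000 in
theorem clsOK_D4 : ∀ C ∈ cls_D4, ClsOK chevD4 (chevD4.nroots / 2) sig_D4a C ∧ ShapeOK sig_D4b eps_D4a C := by
  decide +kernel

set_option maxRecDepth 100000 in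
theorem sorted_D4 : cls_D4.flatten.Pairwise (fun a b => lam_D4 a < lam_D4 b) := by decide +kernel

set_option maxRecDepth 100000 in
theorem posL_D4 : ∀ r ∈ cls_D4.flatten, chevD4.nroots / 2 ≤ r ∧ r < chevD4.nroots := by decide +kernel

set_option maxRecDepth 100000 in
theorem covL_D4 : ∀ r < chevD4.nroots, chevD4.nroots / 2 ≤ r → r ∈ cls_D4.flatten := by decide +kernel

theorem covers_D4 : Covers chevD4 lam_D4 (chevD4.nroots / 2) cls_D4.flatten 0 :=
  ⟨sorted_D4, fun r hr => ⟨(posL_D4 r hr).1, (posL_D4 r hr).2, Nat.zero_le _⟩,
    fun r h0 h1 _ => covL_D4 r h1 h0⟩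

end Cfsg.Agent.Helper11.TwTables
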