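import Mathlib
import Cfsg.Agent.Helper11.TwReach
import Cfsg.Agent.Helper11.TwTables
import Cfsg.Agent.Helper11.TwField
import Cfsg.Prelude.Def_LieTwisted

/-!
# The twisted groups `²E₆(q)` and `³D₄(q)`: the subgroup `U ∩ G¹`

`U ∩ G¹` is the group of fixed points on `U` of the twisting automorphism `σ`, of order `q^36`,
resp. `q^12`.
-/

set_option autoImplicit false
set_option linter.unusedSectionVars false
set_option linter.unusedVariables false

namespace Cfsg.Agent.Helper11.TwMain

open Cfsg.Lie Cfsg.Agent.Helper6 Cfsg.Agent.Helper11.ChevGraphAut Cfsg.Agent.Helper11.TwUProd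
  Cfsg.Agent.Helper11.TwSigma Cfsg.Agent.Helper11.TwFix Cfsg.Agent.Helper11.TwCtx
  Cfsg.Agent.Helper11.TwReach Cfsg.Agent.Helper11.TwTables

variable {K : Type*} [Field K]

/-- the sum of the coordinates of the members of a class -/
def lvOf (D : ChevalleyDatum) (C : List ℕ) : ℕ :=
  ((C.map fun r => (D.coroot.getD r #[]).toList.sum).sum).toNat

/-! ### Type E₆ -/

/-- the orbits of the graph automorphism on the nodes -/
def orbs_E6 : List (List ℕ) := [[1], [3], [0, 5], [2, 4]]

set_option maxRecDepth 100000 in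
theorem orbOK_E6 : ∀ J ∈ orbs_E6, OrbOK chevE6 rho_E6 J := by decide +kernel

set_option maxRecDepth 100000 in
theorem hsp_E6 : ∀ i < chevE6.rank, chevE6.nroots / 2 ≤ chevE6.simple i := by decide +kernel

set_option maxRecDepth 100000 in
theorem hred_E6 : ∀ C ∈ cls_E6, (∃ J ∈ orbs_E6, C.Perm (J.map chevE6.simple)) ∨
    (∃ J ∈ orbs_E6, ∃ C' ∈ cls_E6, lvOf chevE6 C' < lvOf chevE6 C ∧
      (C.map (wJ chevE6 J)).Perm C') := by decide +kernel

set_option maxRecDepth 100000 in
theorem hneg_E6 : ∀ r < chevE6.nroots, chevE6.nroots / 2 ≤ r → chevE6.neg r < chevE6.nroots / 2 := by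
  decide +kernel

set_option maxRecDepth 100000 in
theorem hsign_E6 : ∀ r < chevE6.nroots, (chevE6.IsPosRoot r ↔ chevE6.nroots / 2 ≤ r) := by
  decide +kernel

theorem len_E6 : ∀ C ∈ cls_E6, C.length ≤ 2 := by decide

/-- the context of `²E₆` -/
noncomputable def ctxE6 (f : K ≃+* K) (hf : ∀ x, f (f x) = x) : Ctx chevE6 K where
  ρ := rho_E6
  ρ' := rho_E6
  σ := sig_E6
  σ' := sig_E6
  ε := eps_E6
  ε' := eps_E6
  lam := lam_E6
  Λ := 84
  M := 169
  cls := cls_E6
  f := f
  hD := by simp
  hG := graphOK_E6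
  hI := invOK_E6
  hR := rootOKg_E6
  hO := lvlChk_E6
  hBd := bndChk_E6
  hΛ := by decide
  hW := witChk_E6
  hP := cmChk_E6
  hneg := hneg_E6
  hsign := hsign_E6
  hcls := clsOK_E6
  hcov := covers_E6
  hford := by
    intro C hC h2 x
    have := len_E6 C hC
    have e : C.length = 2 := by omega
    rw [e]
    exact hf x

theorem gen_of_orb_E6 {q : ℕ} (f : K ≃+* K) (hfq : ∀ x, f x = x ^ q) :
    ∀ J ∈ orbs_E6, ∀ (b : Bool) (a : K), (J.length = 1 → f a = a) →
      orbWord chevE6 f b J a ∈ e6Words K q := by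
  intro J hJ b a ha
  simp only [orbs_E6, List.mem_cons, List.not_mem_nil, or_false] at hJ
  rcases hJ with rfl | rfl | rfl | rfl
  · left
    refine ⟨a, by rw [← hfq]; exact ha rfl, ?_⟩
    cases b
    · exact ⟨e6m2, by simp, rfl⟩
    · exact ⟨e6p2, by simp, rfl⟩
  · left
    refine ⟨a, by rw [← hfq]; exact ha rfl, ?_⟩
    cases b
    · exact ⟨e6m4, by simp, rfl⟩
    · exact ⟨e6p4, by simp, rfl⟩
  · right
    cases b
    · refine ⟨a, (e6m1, e6m6), by simp, ?_⟩
      simp only [orbWord, List.zipIdx_cons, List.zipIdx_nil, List.map_cons, List.map_nil,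
        Function.iterate_zero, id_eq, zero_add, Function.iterate_one, hfq]
      rfl
    · refine ⟨a, (e6p1, e6p6), by simp, ?_⟩
      simp only [orbWord, List.zipIdx_cons, List.zipIdx_nil, List.map_cons, List.map_nil,
        Function.iterate_zero, id_eq, zero_add, Function.iterate_one, hfq]
      rfl
  · right
    cases b
    · refine ⟨a, (e6m3, e6m5), by simp, ?_⟩
      simp only [orbWord, List.zipIdx_cons, List.zipIdx_nil, List.map_cons, List.map_nil,
        Function.iterate_zero, id_eq, zero_add, Function.iterate_one, hfq]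
      rfl
    · refine ⟨a, (e6p3, e6p5), by simp, ?_⟩
      simp only [orbWord, List.zipIdx_cons, List.zipIdx_nil, List.map_cons, List.map_nil,
        Function.iterate_zero, id_eq, zero_add, Function.iterate_one, hfq]
      rfl

theorem orb_of_gen_E6 {q : ℕ} (f : K ≃+* K) (hfq : ∀ x, f x = x ^ q) :
    ∀ w ∈ e6Words K q, ∃ J ∈ orbs_E6, ∃ (b : Bool) (a : K), (J.length = 1 → f a = a) ∧
      w = orbWord chevE6 f b J a := by
  rintro w (⟨t, ht, r, hr, rfl⟩ | ⟨t, rs, hrs, rfl⟩)
  · simp only [List.mem_cons, List.not_mem_nil, or_false] at hr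
    have hft : f t = t := by rw [hfq, ht]
    rcases hr with rfl | rfl | rfl | rfl
    · exact ⟨[1], by simp [orbs_E6], true, t, fun _ => hft, rfl⟩
    · exact ⟨[1], by simp [orbs_E6], false, t, fun _ => hft, rfl⟩
    · exact ⟨[3], by simp [orbs_E6], true, t, fun _ => hft, rfl⟩
    · exact ⟨[3], by simp [orbs_E6], false, t, fun _ => hft, rfl⟩
  · simp only [List.mem_cons, List.not_mem_nil, or_false] at hrs
    rcases hrs with rfl | rfl | rfl | rfl
    · refine ⟨[0, 5], by simp [orbs_E6], true, t, by simp, ?_⟩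
      simp only [orbWord, List.zipIdx_cons, List.zipIdx_nil, List.map_cons, List.map_nil,
        Function.iterate_zero, id_eq, zero_add, Function.iterate_one, hfq]
      rfl
    · refine ⟨[0, 5], by simp [orbs_E6], false, t, by simp, ?_⟩
      simp only [orbWord, List.zipIdx_cons, List.zipIdx_nil, List.map_cons, List.map_nil,
        Function.iterate_zero, id_eq, zero_add, Function.iterate_one, hfq]
      rfl
    · refine ⟨[2, 4], by simp [orbs_E6], true, t, by simp, ?_⟩
      simp only [orbWord, List.zipIdx_cons, List.zipIdx_nil, List.map_cons, List.map_nil,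
        Function.iterate_zero, id_eq, zero_add, Function.iterate_one, hfq]
      rfl
    · refine ⟨[2, 4], by simp [orbs_E6], false, t, by simp, ?_⟩
      simp only [orbWord, List.zipIdx_cons, List.zipIdx_nil, List.map_cons, List.map_nil,
        Function.iterate_zero, id_eq, zero_add, Function.iterate_one, hfq]
      rfl

section E6main

variable {q : ℕ} (f : K ≃+* K) (hfq : ∀ x, f x = x ^ q) (hf : ∀ x, f (f x) = x)
include hfq

/-- `²E₆` lies in the fixed points of `σ` -/
theorem twistedE6_le_fix : twistedE6 K q ≤ (ctxE6 f hf).fix := by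
  unfold twistedE6 ChevalleyDatum.genSubgroup
  rw [Subgroup.closure_le]
  rintro g ⟨w, hw, hg⟩
  obtain ⟨J, hJ, b, a, ha, rfl⟩ := orb_of_gen_E6 f hfq w hw
  have hgw : g = wordU (ctxE6 f hf).hB (orbWord chevE6 f b J a) :=
    Units.ext (by rw [hg, wordU_val])
  rw [hgw]
  show (ctxE6 f hf).sig _ = _
  apply orb_fix (ctxE6 f hf) hsp_E6 (orbOK_E6 J hJ) b a
  simp only [orbs_E6, List.mem_cons, List.not_mem_nil, or_false] at hJ
  rcases hJ with rfl | rfl | rfl | rfl
  · exact ha rfl
  · exact ha rfl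
  · exact hf a
  · exact hf a

/-- `U ∩ ²E₆ = U^σ` -/
theorem posUnipotent_inf_twistedE6 :
    chevE6.posUnipotent K ⊓ twistedE6 K q = (ctxE6 f hf).fix ⊓ chevE6.posUnipotent K := by
  apply le_antisymm
  · exact le_inf (inf_le_right.trans (twistedE6_le_fix f hfq hf)) inf_le_left
  · refine le_inf inf_le_right ?_
    apply fix_le (ctxE6 f hf) (twistedE6 K q) hsp_E6 orbs_E6 (lvOf chevE6) orbOK_E6 ?_
      (twistedE6_le_fix f hfq hf) hred_E6
    intro J hJ b a ha
    unfold twistedE6 ChevalleyDatum.genSubgroup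
    apply Subgroup.subset_closure
    exact ⟨_, gen_of_orb_E6 f hfq J hJ b a ha, wordU_val _ _⟩

end E6main

theorem prod_cls_E6 (a b : ℕ) : (cls_E6.map (cardOf a b)).prod = a ^ 12 * b ^ 12 := by
  simp only [cls_E6, cardOf, List.map_cons, List.map_nil, List.length_cons, List.length_nil,
    List.prod_cons, List.prod_nil]
  norm_num
  ring

/-- `|U ∩ ²E₆(q)| = q^36` -/
theorem card_posUnipotent_inf_twistedE6 [Fintype K] {q : ℕ} (hq : IsPrimePow q)
    (hK : Fintype.card K = q ^ 2) :
    Nat.card ↥(chevE6.posUnipotent K ⊓ twistedE6 K q) = q ^ 36 := by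
  obtain ⟨f, hfq⟩ := TwField.exists_frob hq (by norm_num) hK
  have hf : ∀ x, f (f x) = x := fun x => TwField.frob_iterate hK f hfq x
  rw [posUnipotent_inf_twistedE6 f hfq hf, (ctxE6 f hf).card_fix_posUnipotent]
  show (cls_E6.map (cardOf (Nat.card {x : K // f x = x}) (Nat.card K))).prod = _
  have h1 : Nat.card {x : K // f x = x} = q := by
    rw [← TwField.card_fixed_pow hq.one_lt (by norm_num : 0 < 2) hK]
    apply Nat.card_congr
    exact Equiv.subtypeEquivRight fun x => by rw [hfq]
  rw [prod_cls_E6, h1, Nat.card_eq_fintype_card, hK]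
  ring

/-! ### Type D₄ (triality) -/

/-- the orbits of the graph automorphism on the nodes -/
def orbs_D4 : List (List ℕ) := [[1], [0, 2, 3]]

set_option maxRecDepth 100000 in
theorem orbOK_D4 : ∀ J ∈ orbs_D4, OrbOK chevD4 rho_D4a J := by decide +kernel

set_option maxRecDepth 100000 in
theorem hsp_D4 : ∀ i < chevD4.rank, chevD4.nroots / 2 ≤ chevD4.simple i := by decide +kernel

set_option maxRecDepth 100000 in
theorem hred_D4 : ∀ C ∈ cls_D4, (∃ J ∈ orbs_D4, C.Perm (J.map chevD4.simple)) ∨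
    (∃ J ∈ orbs_D4, ∃ C' ∈ cls_D4, lvOf chevD4 C' < lvOf chevD4 C ∧
      (C.map (wJ chevD4 J)).Perm C') := by decide +kernel

set_option maxRecDepth 100000 in
theorem hneg_D4 : ∀ r < chevD4.nroots, chevD4.nroots / 2 ≤ r → chevD4.neg r < chevD4.nroots / 2 := by
  decide +kernel

set_option maxRecDepth 100000 in
theorem hsign_D4 : ∀ r < chevD4.nroots, (chevD4.IsPosRoot r ↔ chevD4.nroots / 2 ≤ r) := by
  decide +kernel

theorem len_D4 : ∀ C ∈ cls_D4, C.length = 1 ∨ C.length = 3 := by decide

/-- the context of `³D₄` -/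
noncomputable def ctxD4 (f : K ≃+* K) (hf : ∀ x, f (f (f x)) = x) : Ctx chevD4 K where
  ρ := rho_D4a
  ρ' := rho_D4b
  σ := sig_D4a
  σ' := sig_D4b
  ε := eps_D4a
  ε' := eps_D4b
  lam := lam_D4
  Λ := 25
  M := 51
  cls := cls_D4
  f := f
  hD := by simp
  hG := graphOK_D4a
  hI := invOK_D4a
  hR := rootOKg_D4
  hO := lvlChk_D4
  hBd := bndChk_D4
  hΛ := by decide
  hW := witChk_D4
  hP := cmChk_D4
  hneg := hneg_D4
  hsign := hsign_D4
  hcls := clsOK_D4
  hcov := covers_D4
  hford := by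
    intro C hC h2 x
    have := len_D4 C hC
    have e : C.length = 3 := by omega
    rw [e]
    exact hf x

theorem gen_of_orb_D4 {q : ℕ} (f : K ≃+* K) (hfq : ∀ x, f x = x ^ q) :
    ∀ J ∈ orbs_D4, ∀ (b : Bool) (a : K), (J.length = 1 → f a = a) →
      orbWord chevD4 f b J a ∈ d4Words K q := by
  intro J hJ b a ha
  simp only [orbs_D4, List.mem_cons, List.not_mem_nil, or_false] at hJ
  have e2 : f^[1 + 1] a = a ^ q ^ 2 := by
    show f (f a) = _
    rw [hfq, hfq, ← pow_mul, ← sq]
  rcases hJ with rfl | rfl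
  · left
    refine ⟨a, by rw [← hfq]; exact ha rfl, ?_⟩
    cases b
    · exact ⟨d4m2, by simp, rfl⟩
    · exact ⟨d4p2, by simp, rfl⟩
  · right
    cases b
    · refine ⟨a, (d4m1, d4m3, d4m4), by simp, ?_⟩
      simp only [orbWord, List.zipIdx_cons, List.zipIdx_nil, List.map_cons, List.map_nil,
        Function.iterate_zero, id_eq, zero_add, Function.iterate_one, e2, hfq]
      rfl
    · refine ⟨a, (d4p1, d4p3, d4p4), by simp, ?_⟩
      simp only [orbWord, List.zipIdx_cons, List.zipIdx_nil, List.map_cons, List.map_nil,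
        Function.iterate_zero, id_eq, zero_add, Function.iterate_one, e2, hfq]
      rfl

theorem orb_of_gen_D4 {q : ℕ} (f : K ≃+* K) (hfq : ∀ x, f x = x ^ q) :
    ∀ w ∈ d4Words K q, ∃ J ∈ orbs_D4, ∃ (b : Bool) (a : K), (J.length = 1 → f a = a) ∧
      w = orbWord chevD4 f b J a := by
  rintro w (⟨t, ht, r, hr, rfl⟩ | ⟨t, rs, hrs, rfl⟩)
  · simp only [List.mem_cons, List.not_mem_nil, or_false] at hr
    have hft : f t = t := by rw [hfq, ht]
    rcases hr with rfl | rfl
    · exact ⟨[1], by simp [orbs_D4], true, t, fun _ => hft, rfl⟩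
    · exact ⟨[1], by simp [orbs_D4], false, t, fun _ => hft, rfl⟩
  · simp only [List.mem_cons, List.not_mem_nil, or_false] at hrs
    have e2 : f^[1 + 1] t = t ^ q ^ 2 := by
      show f (f t) = _
      rw [hfq, hfq, ← pow_mul, ← sq]
    rcases hrs with rfl | rfl
    · refine ⟨[0, 2, 3], by simp [orbs_D4], true, t, by simp, ?_⟩
      simp only [orbWord, List.zipIdx_cons, List.zipIdx_nil, List.map_cons, List.map_nil,
        Function.iterate_zero, id_eq, zero_add, Function.iterate_one, e2, hfq]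
      rfl
    · refine ⟨[0, 2, 3], by simp [orbs_D4], false, t, by simp, ?_⟩
      simp only [orbWord, List.zipIdx_cons, List.zipIdx_nil, List.map_cons, List.map_nil,
        Function.iterate_zero, id_eq, zero_add, Function.iterate_one, e2, hfq]
      rfl

section D4main

variable {q : ℕ} (f : K ≃+* K) (hfq : ∀ x, f x = x ^ q) (hf : ∀ x, f (f (f x)) = x)
include hfq

/-- `³D₄` lies in the fixed points of `σ` -/
theorem twistedD4_le_fix : twistedD4 K q ≤ (ctxD4 f hf).fix := by
  unfold twistedD4 ChevalleyDatum.genSubgroup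
  rw [Subgroup.closure_le]
  rintro g ⟨w, hw, hg⟩
  obtain ⟨J, hJ, b, a, ha, rfl⟩ := orb_of_gen_D4 f hfq w hw
  have hgw : g = wordU (ctxD4 f hf).hB (orbWord chevD4 f b J a) :=
    Units.ext (by rw [hg, wordU_val])
  rw [hgw]
  show (ctxD4 f hf).sig _ = _
  apply orb_fix (ctxD4 f hf) hsp_D4 (orbOK_D4 J hJ) b a
  simp only [orbs_D4, List.mem_cons, List.not_mem_nil, or_false] at hJ
  rcases hJ with rfl | rfl
  · exact ha rfl
  · exact hf a

/-- `U ∩ ³D₄ = U^σ` -/
theorem posUnipotent_inf_twistedD4 :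
    chevD4.posUnipotent K ⊓ twistedD4 K q = (ctxD4 f hf).fix ⊓ chevD4.posUnipotent K := by
  apply le_antisymm
  · exact le_inf (inf_le_right.trans (twistedD4_le_fix f hfq hf)) inf_le_left
  · refine le_inf inf_le_right ?_
    apply fix_le (ctxD4 f hf) (twistedD4 K q) hsp_D4 orbs_D4 (lvOf chevD4) orbOK_D4 ?_
      (twistedD4_le_fix f hfq hf) hred_D4
    intro J hJ b a ha
    unfold twistedD4 ChevalleyDatum.genSubgroup
    apply Subgroup.subset_closure
    exact ⟨_, gen_of_orb_D4 f hfq J hJ b a ha, wordU_val _ _⟩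

end D4main

theorem prod_cls_D4 (a b : ℕ) : (cls_D4.map (cardOf a b)).prod = a ^ 3 * b ^ 3 := by
  simp only [cls_D4, cardOf, List.map_cons, List.map_nil, List.length_cons, List.length_nil,
    List.prod_cons, List.prod_nil]
  norm_num
  ring

/-- `|U ∩ ³D₄(q)| = q^12` -/
theorem card_posUnipotent_inf_twistedD4 [Fintype K] {q : ℕ} (hq : IsPrimePow q)
    (hK : Fintype.card K = q ^ 3) :
    Nat.card ↥(chevD4.posUnipotent K ⊓ twistedD4 K q) = q ^ 12 := by
  obtain ⟨f, hfq⟩ := TwField.exists_frob hq (by norm_num) hK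
  have hf : ∀ x, f (f (f x)) = x := fun x => TwField.frob_iterate hK f hfq x
  rw [posUnipotent_inf_twistedD4 f hfq hf, (ctxD4 f hf).card_fix_posUnipotent]
  show (cls_D4.map (cardOf (Nat.card {x : K // f x = x}) (Nat.card K))).prod = _
  have h1 : Nat.card {x : K // f x = x} = q := by
    rw [← TwField.card_fixed_pow hq.one_lt (by norm_num : 0 < 3) hK]
    apply Nat.card_congr
    exact Equiv.subtypeEquivRight fun x => by rw [hfq]
  rw [prod_cls_D4, h1, Nat.card_eq_fintype_card, hK]
  ring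

end Cfsg.Agent.Helper11.TwMain
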