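import Mathlib
import Cfsg.Agent.Helper11.D4Coll
import Cfsg.Agent.Helper11.TwMain

/-!
# Coordinates on the Sylow `2`-subgroup `U^σ` of `³D₄(q)`, `q` even
-/

set_option autoImplicit false
set_option linter.unusedSectionVars false
set_option linter.unusedVariables false
set_option linter.unusedSimpArgs false

namespace Cfsg.Agent.Helper11.D4Par

open Cfsg.Lie Cfsg.Agent.Helper6 Cfsg.Agent.Helper11.D4Coll Cfsg.Agent.Helper11.TwCtx
  Cfsg.Agent.Helper11.TwMain Cfsg.Agent.Helper11.TwTables Cfsg.Agent.Helper11.ChevGraphAut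
  Cfsg.Agent.Helper11.TwUProd

variable {K : Type*} [Field K]

/-- an automorphism of order dividing three -/
structure Frob (K : Type*) [Field K] where
  f : K ≃+* K
  hf : ∀ x, f (f (f x)) = x

/-- the parameters of an element of `U^σ` -/
@[ext] structure Par (Φ : Frob K) where
  a : K
  b : K
  c : K
  d : K
  e : K
  g : K
  hb : Φ.f b = b
  he : Φ.f e = e
  hg : Φ.f g = g

/-- the word of a parameter tuple -/
def Mw (f : K ≃+* K) (a b c d e g : K) : List (ℕ × K) :=
  [(18, a), (13, f a), (12, f (f a)), (14, b), (19, c), (16, f c), (15, f (f c)),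
    (21, d), (20, f (f d)), (17, f d), (22, e), (23, g)]

theorem Mw_pos (f : K ≃+* K) (a b c d e g : K) : ∀ y ∈ Mw f a b c d e g, Pos y.1 := by
  intro y hy
  simp only [Mw, List.mem_cons, List.not_mem_nil, or_false] at hy
  rcases hy with rfl | rfl | rfl | rfl | rfl | rfl | rfl | rfl | rfl | rfl | rfl | rfl <;>
    exact ⟨by norm_num, by norm_num⟩

/-- the word of a coefficient function -/
def Tw (t : ℕ → K) : List (ℕ × K) :=
  [(18, t 18), (13, t 13), (12, t 12), (14, t 14), (19, t 19), (16, t 16), (15, t 15),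
    (21, t 21), (20, t 20), (17, t 17), (22, t 22), (23, t 23)]

theorem Tw_eq (t : ℕ → K) : Tw t = cls_D4.flatten.map fun r => (r, t r) := rfl

theorem Tw_pos (t : ℕ → K) : ∀ y ∈ Tw t, Pos y.1 := by
  intro y hy
  simp only [Tw, List.mem_cons, List.not_mem_nil, or_false] at hy
  rcases hy with rfl | rfl | rfl | rfl | rfl | rfl | rfl | rfl | rfl | rfl | rfl | rfl <;>
    exact ⟨by norm_num, by norm_num⟩

/-- the coefficient function of a parameter tuple -/
def cf (f : K ≃+* K) (a b c d e g : K) : ℕ → K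
  | 18 => a | 13 => f a | 12 => f (f a) | 14 => b | 19 => c | 16 => f c | 15 => f (f c)
  | 21 => d | 20 => f (f d) | 17 => f d | 22 => e | 23 => g | _ => 0

theorem Mw_eq (f : K ≃+* K) (a b c d e g : K) : Mw f a b c d e g = Tw (cf f a b c d e g) := rfl

theorem W_mem_posUnipotent (w : List (ℕ × K)) (hw : ∀ y ∈ w, Pos y.1) :
    W w ∈ chevD4.posUnipotent K := by
  unfold W wordU
  apply Subgroup.list_prod_mem
  intro g hg
  rw [List.mem_map] at hg
  obtain ⟨p, hp, rfl⟩ := hg
  exact Subgroup.subset_closure ⟨p.1, p.2, (hsign_D4 _ (hw p hp).2).2 (hw p hp).1, rfl⟩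

section uniq

/-- the context of the trivial twist, for the statements on `U` alone -/
noncomputable def X0 (K : Type*) [Field K] : Ctx chevD4 K := ctxD4 (RingEquiv.refl K) (fun _ => rfl)

/-- uniqueness of the coefficients -/
theorem Tw_inj {t t' : ℕ → K} (h : W (Tw t) = W (Tw t')) : ∀ r ∈ cls_D4.flatten, t r = t' r := by
  rw [Tw_eq, Tw_eq] at h
  exact word_uniqueL (X0 K).hB (X0 K).hF (X0 K).hO (X0 K).hBd (X0 K).hΛ (X0 K).hW _ (X0 K).hcov.sorted
    (fun r hr => ⟨((X0 K).hcov.pos r hr).1, ((X0 K).hcov.pos r hr).2.1⟩) t t' h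

/-- existence of the coefficients -/
theorem exists_Tw {u : GL chevD4.Idx K} (hu : u ∈ chevD4.posUnipotent K) :
    ∃ t : ℕ → K, u = W (Tw t) := by
  rw [(X0 K).posUnipotent_eq] at hu
  obtain ⟨t, ht⟩ := exists_word_of_mem_UgeL (X0 K).hB (X0 K).hF (X0 K).hP (X0 K).hC (X0 K).hneg _ 0
    (X0 K).hcov.sorted (X0 K).hcov.pos (X0 K).hcov.cov u hu
  exact ⟨t, ht⟩

end uniq

section char2

variable [CharP K 2]

set_option maxRecDepth 8000 in
set_option maxHeartbeats 2000000 in
/-- the product law in coordinates -/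
theorem W_Mw_mul (f : K ≃+* K) (hf : ∀ x, f (f (f x)) = x) (a b c d e g x p y z r k : K)
    (hb : f b = b) :
    W (Mw f a b c d e g) * W (Mw f x p y z r k) =
      W (Mw f (a + x) (b + p) (b * x + c + y) (b * x * f x + f c * x + c * f x + d + z)
        (b * x * f x * f (f x) + f (f c) * x * f x + f c * x * f (f x) + c * f x * f (f x) +
          f (f d) * f x + f d * x + d * f (f x) + e + r)
        (b * f (f c) * x * f x + b * f c * x * f (f x) + b * c * f x * f (f x) +
          b * p * x * f x * f (f x) + b * f x * f (f x) * y + b * x * f (f x) * f y +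
          b * x * f x * f (f y) + b ^ 2 * x * f x * f (f x) + f (f c) * p * x * f x +
          f (f c) * f x * y + f (f c) * x * f y + f c * f (f c) * x + f c * p * x * f (f x) +
          f c * f (f x) * y + f c * x * f (f y) + c * f (f c) * f x + c * f c * f (f x) +
          c * p * f x * f (f x) + c * f (f x) * f y + c * f x * f (f y) + f (f d) * p * f x +
          f (f d) * f y + f d * p * x + f d * y + d * p * f (f x) + d * f (f y) + e * p + g + k)) := by
  rw [← W_append, ← W_collect 100 _ (by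
    intro y hy
    rcases List.mem_append.1 hy with h | h
    · exact Mw_pos _ _ _ _ _ _ _ y h
    · exact Mw_pos _ _ _ _ _ _ _ y h)]
  congr 1
  simp (config := {decide := true}) only [Mw, List.cons_append, List.nil_append, collect,
    List.foldr, ins, ord, add, ↓reduceIte]
  simp only [List.cons.injEq, Prod.mk.injEq, true_and, and_true, map_add, map_mul, hf, hb]
  refine ⟨?_, ?_, ?_, ?_, ?_, ?_, ?_, ?_⟩ <;> ring

end char2

end Cfsg.Agent.Helper11.D4Par
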