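import Mathlib
import Cfsg.Agent.Helper11.D4Par

/-!
# The parameter group of `U^σ` for `³D₄(q)`, `q` even
-/

set_option autoImplicit false
set_option linter.unusedSectionVars false
set_option linter.unusedVariables false
set_option linter.unusedSimpArgs false

namespace Cfsg.Agent.Helper11.D4Par

open Cfsg.Lie Cfsg.Agent.Helper6 Cfsg.Agent.Helper11.D4Coll Cfsg.Agent.Helper11.TwCtx
  Cfsg.Agent.Helper11.TwMain Cfsg.Agent.Helper11.TwTables Cfsg.Agent.Helper11.ChevGraphAut
  Cfsg.Agent.Helper11.TwUProd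

variable {K : Type*} [Field K] [CharP K 2]

theorem epsv : ∀ r, 12 ≤ r → r < 24 → (eps_D4a r = 1 ∨ eps_D4a r = -1) := by decide

set_option maxRecDepth 8000 in
/-- the twist on coefficient words -/
theorem sig_Tw (Φ : Frob K) (t : ℕ → K) :
    (ctxD4 Φ.f Φ.hf).sig (W (Tw t)) = W (Tw (fun r => Φ.f (t (sig_D4b r)))) := by
  have h1 := (ctxD4 Φ.f Φ.hf).sig_wordU (Tw t) (fun p hp => (Tw_pos t p hp).2)
  have hm : ((-1 : ℤ) : K) = 1 := by
    rw [Int.cast_neg, Int.cast_one]; exact CharTwo.neg_eq 1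
  have e : ∀ (r : ℕ) (x : K), 12 ≤ r → r < 24 → (((ctxD4 Φ.f Φ.hf).ε r : ℤ) : K) * x = x := by
    intro r x h1 h2
    rcases epsv r h1 h2 with h | h
    · show ((eps_D4a r : ℤ) : K) * x = x
      rw [h, Int.cast_one, one_mul]
    · show ((eps_D4a r : ℤ) : K) * x = x
      rw [h, hm, one_mul]
  show (ctxD4 Φ.f Φ.hf).sig (wordU _ (Tw t)) = _
  rw [h1]
  simp only [Tw, List.map_cons, List.map_nil]
  rw [e 18, e 13, e 12, e 14, e 19, e 16, e 15, e 21, e 20, e 17, e 22, e 23] <;> try norm_num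
  show W [(13, Φ.f (t 18)), (12, Φ.f (t 13)), (18, Φ.f (t 12)), (14, Φ.f (t 14)),
    (16, Φ.f (t 19)), (15, Φ.f (t 16)), (19, Φ.f (t 15)), (17, Φ.f (t 21)), (21, Φ.f (t 20)),
    (20, Φ.f (t 17)), (22, Φ.f (t 22)), (23, Φ.f (t 23))] = _
  rw [← W_collect 100 _ (by
    intro y hy
    simp only [List.mem_cons, List.not_mem_nil, or_false] at hy
    rcases hy with rfl | rfl | rfl | rfl | rfl | rfl | rfl | rfl | rfl | rfl | rfl | rfl <;>
      exact ⟨by norm_num, by norm_num⟩)]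
  congr 1

variable {Φ : Frob K}

/-- the group element of a parameter tuple -/
noncomputable def toGL (p : Par Φ) : GL chevD4.Idx K := W (Mw Φ.f p.a p.b p.c p.d p.e p.g)

theorem toGL_mem_U (p : Par Φ) : toGL p ∈ chevD4.posUnipotent K :=
  W_mem_posUnipotent _ (Mw_pos _ _ _ _ _ _ _)

theorem toGL_fix (p : Par Φ) : (ctxD4 Φ.f Φ.hf).sig (toGL p) = toGL p := by
  unfold toGL
  rw [Mw_eq, sig_Tw]
  congr 1
  simp only [Tw, cf, sig_D4b, List.getD_cons_succ, List.getD_cons_zero, Φ.hf, p.hb, p.he, p.hg]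

theorem toGL_mem (p : Par Φ) :
    toGL p ∈ (ctxD4 Φ.f Φ.hf).fix ⊓ chevD4.posUnipotent K :=
  ⟨toGL_fix p, toGL_mem_U p⟩

theorem toGL_inj {p p' : Par Φ} (h : toGL p = toGL p') : p = p' := by
  unfold toGL at h
  rw [Mw_eq, Mw_eq] at h
  have := Tw_inj h
  have h18 := this 18 (by decide)
  have h14 := this 14 (by decide)
  have h19 := this 19 (by decide)
  have h21 := this 21 (by decide)
  have h22 := this 22 (by decide)
  have h23 := this 23 (by decide)
  exact Par.ext h18 h14 h19 h21 h22 h23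

/-- every element of `U^σ` has parameters -/
theorem exists_par {u : GL chevD4.Idx K}
    (hu : u ∈ (ctxD4 Φ.f Φ.hf).fix ⊓ chevD4.posUnipotent K) : ∃ p : Par Φ, toGL p = u := by
  obtain ⟨hfix, hU⟩ := hu
  obtain ⟨t, rfl⟩ := exists_Tw hU
  have h1 : (ctxD4 Φ.f Φ.hf).sig (W (Tw t)) = W (Tw t) := hfix
  rw [sig_Tw] at h1
  have := Tw_inj h1
  have h18 := this 18 (by decide)
  have h13 := this 13 (by decide)
  have h12 := this 12 (by decide)
  have h14 := this 14 (by decide)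
  have h19 := this 19 (by decide)
  have h16 := this 16 (by decide)
  have h15 := this 15 (by decide)
  have h21 := this 21 (by decide)
  have h20 := this 20 (by decide)
  have h17 := this 17 (by decide)
  have h22 := this 22 (by decide)
  have h23 := this 23 (by decide)
  simp only [sig_D4b, List.getD_cons_succ, List.getD_cons_zero] at h18 h13 h12 h14 h19 h16 h15 h21 h20 h17 h22 h23
  refine ⟨⟨t 18, t 14, t 19, t 21, t 22, t 23, h14, h22, h23⟩, ?_⟩
  unfold toGL
  congr 1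
  simp only [Mw, Tw, List.cons.injEq, Prod.mk.injEq, true_and, and_true]
  refine ⟨h13, ?_, ?_, ?_, ?_, ?_⟩
  · rw [h13, h12]
  · rw [h16]
  · rw [h16, h15]
  · rw [h17, h20]
  · rw [h17]

end Cfsg.Agent.Helper11.D4Par
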