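import Mathlib
import Cfsg.Agent.Helper11.D4Sig

/-!
# The multiplication of the parameter group of `U^σ` for `³D₄(q)`, `q` even
-/

set_option autoImplicit false
set_option linter.unusedSectionVars false
set_option linter.unusedVariables false
set_option linter.unusedSimpArgs false

namespace Cfsg.Agent.Helper11.D4Par

open Cfsg.Lie Cfsg.Agent.Helper6 Cfsg.Agent.Helper11.D4Coll Cfsg.Agent.Helper11.TwCtx
  Cfsg.Agent.Helper11.TwMain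

variable {K : Type*} [Field K] [CharP K 2] {Φ : Frob K}

/-- the product of parameter tuples -/
def Par.mul (s t : Par Φ) : Par Φ where
  a := s.a + t.a
  b := s.b + t.b
  c := s.b * t.a + s.c + t.c
  d := s.b * t.a * Φ.f t.a + Φ.f s.c * t.a + s.c * Φ.f t.a + s.d + t.d
  e := s.b * t.a * Φ.f t.a * Φ.f (Φ.f t.a) + Φ.f (Φ.f s.c) * t.a * Φ.f t.a +
    Φ.f s.c * t.a * Φ.f (Φ.f t.a) + s.c * Φ.f t.a * Φ.f (Φ.f t.a) +
    Φ.f (Φ.f s.d) * Φ.f t.a + Φ.f s.d * t.a + s.d * Φ.f (Φ.f t.a) + s.e + t.e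
  g := s.b * Φ.f (Φ.f s.c) * t.a * Φ.f t.a + s.b * Φ.f s.c * t.a * Φ.f (Φ.f t.a) +
    s.b * s.c * Φ.f t.a * Φ.f (Φ.f t.a) + s.b * t.b * t.a * Φ.f t.a * Φ.f (Φ.f t.a) +
    s.b * Φ.f t.a * Φ.f (Φ.f t.a) * t.c + s.b * t.a * Φ.f (Φ.f t.a) * Φ.f t.c +
    s.b * t.a * Φ.f t.a * Φ.f (Φ.f t.c) + s.b ^ 2 * t.a * Φ.f t.a * Φ.f (Φ.f t.a) +
    Φ.f (Φ.f s.c) * t.b * t.a * Φ.f t.a + Φ.f (Φ.f s.c) * Φ.f t.a * t.c +
    Φ.f (Φ.f s.c) * t.a * Φ.f t.c + Φ.f s.c * Φ.f (Φ.f s.c) * t.a +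
    Φ.f s.c * t.b * t.a * Φ.f (Φ.f t.a) + Φ.f s.c * Φ.f (Φ.f t.a) * t.c +
    Φ.f s.c * t.a * Φ.f (Φ.f t.c) + s.c * Φ.f (Φ.f s.c) * Φ.f t.a +
    s.c * Φ.f s.c * Φ.f (Φ.f t.a) + s.c * t.b * Φ.f t.a * Φ.f (Φ.f t.a) +
    s.c * Φ.f (Φ.f t.a) * Φ.f t.c + s.c * Φ.f t.a * Φ.f (Φ.f t.c) +
    Φ.f (Φ.f s.d) * t.b * Φ.f t.a + Φ.f (Φ.f s.d) * Φ.f t.c + Φ.f s.d * t.b * t.a +
    Φ.f s.d * t.c + s.d * t.b * Φ.f (Φ.f t.a) + s.d * Φ.f (Φ.f t.c) + s.e * t.b + s.g + t.g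
  hb := by rw [map_add, s.hb, t.hb]
  he := by
    simp only [map_add, map_mul, Φ.hf, s.hb, s.he, t.he]
    ring
  hg := by
    simp only [map_add, map_mul, map_pow, Φ.hf, s.hb, t.hb, s.he, s.hg, t.hg]
    ring

/-- the identity -/
def Par.one : Par Φ := ⟨0, 0, 0, 0, 0, 0, map_zero _, map_zero _, map_zero _⟩

theorem toGL_mul' (s t : Par Φ) : toGL (Par.mul s t) = toGL s * toGL t := by
  unfold toGL
  rw [W_Mw_mul Φ.f Φ.hf _ _ _ _ _ _ _ _ _ _ _ _ s.hb]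
  rfl

theorem toGL_one' : toGL (Par.one : Par Φ) = 1 := by
  unfold toGL
  show W (Mw Φ.f 0 0 0 0 0 0) = 1
  simp only [Mw, map_zero, W_cons, W_nil, X_zero, mul_one]

theorem exists_inv (t : Par Φ) : ∃ t' : Par Φ, toGL t' = (toGL t)⁻¹ :=
  exists_par (Subgroup.inv_mem _ (toGL_mem t))

/-- the inverse -/
noncomputable def Par.inv (t : Par Φ) : Par Φ := Classical.choose (exists_inv t)

theorem toGL_inv' (t : Par Φ) : toGL (Par.inv t) = (toGL t)⁻¹ := Classical.choose_spec (exists_inv t)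

noncomputable instance : Group (Par Φ) where
  mul := Par.mul
  one := Par.one
  inv := Par.inv
  mul_assoc := fun a b c => toGL_inj (by
    show toGL (Par.mul (Par.mul a b) c) = toGL (Par.mul a (Par.mul b c))
    rw [toGL_mul', toGL_mul', toGL_mul', toGL_mul', mul_assoc])
  one_mul := fun a => toGL_inj (by
    show toGL (Par.mul Par.one a) = toGL a
    rw [toGL_mul', toGL_one', one_mul])
  mul_one := fun a => toGL_inj (by
    show toGL (Par.mul a Par.one) = toGL a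
    rw [toGL_mul', toGL_one', mul_one])
  inv_mul_cancel := fun a => toGL_inj (by
    show toGL (Par.mul (Par.inv a) a) = toGL Par.one
    rw [toGL_mul', toGL_inv', toGL_one', inv_mul_cancel])

theorem toGL_mul (s t : Par Φ) : toGL (s * t) = toGL s * toGL t := toGL_mul' s t

theorem toGL_one : toGL (1 : Par Φ) = 1 := toGL_one'

theorem toGL_inv (t : Par Φ) : toGL t⁻¹ = (toGL t)⁻¹ := toGL_inv' t

/-- the parametrisation as a homomorphism -/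
noncomputable def toGLHom : Par Φ →* GL chevD4.Idx K where
  toFun := toGL
  map_one' := toGL_one
  map_mul' := toGL_mul

theorem toGLHom_apply (t : Par Φ) : toGLHom t = toGL t := rfl

theorem toGLHom_injective : Function.Injective (toGLHom (Φ := Φ)) := fun _ _ h => toGL_inj h

@[simp] theorem mul_a (s t : Par Φ) : (s * t).a = s.a + t.a := rfl
@[simp] theorem mul_b (s t : Par Φ) : (s * t).b = s.b + t.b := rfl
@[simp] theorem mul_c (s t : Par Φ) : (s * t).c = s.b * t.a + s.c + t.c := rfl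
@[simp] theorem mul_d (s t : Par Φ) :
    (s * t).d = s.b * t.a * Φ.f t.a + Φ.f s.c * t.a + s.c * Φ.f t.a + s.d + t.d := rfl
@[simp] theorem mul_e (s t : Par Φ) :
    (s * t).e = s.b * t.a * Φ.f t.a * Φ.f (Φ.f t.a) + Φ.f (Φ.f s.c) * t.a * Φ.f t.a +
    Φ.f s.c * t.a * Φ.f (Φ.f t.a) + s.c * Φ.f t.a * Φ.f (Φ.f t.a) +
    Φ.f (Φ.f s.d) * Φ.f t.a + Φ.f s.d * t.a + s.d * Φ.f (Φ.f t.a) + s.e + t.e := rfl
@[simp] theorem mul_g (s t : Par Φ) :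
    (s * t).g = s.b * Φ.f (Φ.f s.c) * t.a * Φ.f t.a + s.b * Φ.f s.c * t.a * Φ.f (Φ.f t.a) +
    s.b * s.c * Φ.f t.a * Φ.f (Φ.f t.a) + s.b * t.b * t.a * Φ.f t.a * Φ.f (Φ.f t.a) +
    s.b * Φ.f t.a * Φ.f (Φ.f t.a) * t.c + s.b * t.a * Φ.f (Φ.f t.a) * Φ.f t.c +
    s.b * t.a * Φ.f t.a * Φ.f (Φ.f t.c) + s.b ^ 2 * t.a * Φ.f t.a * Φ.f (Φ.f t.a) +
    Φ.f (Φ.f s.c) * t.b * t.a * Φ.f t.a + Φ.f (Φ.f s.c) * Φ.f t.a * t.c +
    Φ.f (Φ.f s.c) * t.a * Φ.f t.c + Φ.f s.c * Φ.f (Φ.f s.c) * t.a +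
    Φ.f s.c * t.b * t.a * Φ.f (Φ.f t.a) + Φ.f s.c * Φ.f (Φ.f t.a) * t.c +
    Φ.f s.c * t.a * Φ.f (Φ.f t.c) + s.c * Φ.f (Φ.f s.c) * Φ.f t.a +
    s.c * Φ.f s.c * Φ.f (Φ.f t.a) + s.c * t.b * Φ.f t.a * Φ.f (Φ.f t.a) +
    s.c * Φ.f (Φ.f t.a) * Φ.f t.c + s.c * Φ.f t.a * Φ.f (Φ.f t.c) +
    Φ.f (Φ.f s.d) * t.b * Φ.f t.a + Φ.f (Φ.f s.d) * Φ.f t.c + Φ.f s.d * t.b * t.a +
    Φ.f s.d * t.c + s.d * t.b * Φ.f (Φ.f t.a) + s.d * Φ.f (Φ.f t.c) + s.e * t.b + s.g + t.g := rfl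

@[simp] theorem one_a : (1 : Par Φ).a = 0 := rfl
@[simp] theorem one_b : (1 : Par Φ).b = 0 := rfl
@[simp] theorem one_c : (1 : Par Φ).c = 0 := rfl
@[simp] theorem one_d : (1 : Par Φ).d = 0 := rfl
@[simp] theorem one_e : (1 : Par Φ).e = 0 := rfl
@[simp] theorem one_g : (1 : Par Φ).g = 0 := rfl

/-- the class generators -/
def pA (s : K) : Par Φ := ⟨s, 0, 0, 0, 0, 0, map_zero _, map_zero _, map_zero _⟩
/-- the class generators -/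
def pB (u : K) (hu : Φ.f u = u) : Par Φ := ⟨0, u, 0, 0, 0, 0, hu, map_zero _, map_zero _⟩
/-- the class generators -/
def pC (x : K) : Par Φ := ⟨0, 0, x, 0, 0, 0, map_zero _, map_zero _, map_zero _⟩
/-- the class generators -/
def pD (y : K) : Par Φ := ⟨0, 0, 0, y, 0, 0, map_zero _, map_zero _, map_zero _⟩
/-- the class generators -/
def pE (v : K) (hv : Φ.f v = v) : Par Φ := ⟨0, 0, 0, 0, v, 0, map_zero _, hv, map_zero _⟩
/-- the class generators -/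
def pF (w : K) (hw : Φ.f w = w) : Par Φ := ⟨0, 0, 0, 0, 0, w, map_zero _, map_zero _, hw⟩

end Cfsg.Agent.Helper11.D4Par
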