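import Mathlib
import Cfsg.Agent.Helper11.D4Grp

/-!
# Conjugation by the class generators in the parameter group of `U^σ`
-/

set_option autoImplicit false
set_option linter.unusedSectionVars false
set_option linter.unusedVariables false
set_option linter.unusedSimpArgs false

namespace Cfsg.Agent.Helper11.D4Par

variable {K : Type*} [Field K] [CharP K 2] {Φ : Frob K}

theorem conjA (s : K) (t : Par Φ) : (pA s * t * (pA s)⁻¹).a = t.a ∧ (pA s * t * (pA s)⁻¹).b = t.b ∧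
    (pA s * t * (pA s)⁻¹).c = t.b * s + t.c ∧
    (pA s * t * (pA s)⁻¹).d = t.b * s * Φ.f s + Φ.f t.c * s + t.c * Φ.f s + t.d ∧
    (pA s * t * (pA s)⁻¹).e = t.b * s * Φ.f s * Φ.f (Φ.f s) + Φ.f (Φ.f t.c) * s * Φ.f s +
      Φ.f t.c * s * Φ.f (Φ.f s) + t.c * Φ.f s * Φ.f (Φ.f s) + Φ.f (Φ.f t.d) * Φ.f s +
      Φ.f t.d * s + t.d * Φ.f (Φ.f s) + t.e ∧
    (pA s * t * (pA s)⁻¹).g = t.b * Φ.f (Φ.f t.c) * s * Φ.f s + t.b * Φ.f t.c * s * Φ.f (Φ.f s) +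
      t.b * t.c * Φ.f s * Φ.f (Φ.f s) + t.b ^ 2 * s * Φ.f s * Φ.f (Φ.f s) +
      Φ.f t.c * Φ.f (Φ.f t.c) * s + t.c * Φ.f (Φ.f t.c) * Φ.f s + t.c * Φ.f t.c * Φ.f (Φ.f s) +
      t.g := by
  have h : pA s * t = (pA s * t * (pA s)⁻¹) * pA s := by group
  generalize pA s * t * (pA s)⁻¹ = t' at h
  have h6 := Par.ext_iff.1 h
  simp only [mul_a, mul_b, mul_c, mul_d, mul_e, mul_g, pA, map_zero, zero_mul, mul_zero, add_zero,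
    zero_add] at h6
  obtain ⟨h1, h2, h3, h4, h5, h6⟩ := h6
  have e1 : t'.a = t.a := by grind
  have e2 : t'.b = t.b := h2.symm
  have e3 : t'.c = t.b * s + t.c := by grind
  rw [e2, e3] at h4 h5 h6
  simp only [map_add, map_mul, t.hb] at h4 h5 h6
  have e4 : t'.d = t.b * s * Φ.f s + Φ.f t.c * s + t.c * Φ.f s + t.d := by grind
  rw [e4] at h5
  simp only [map_add, map_mul, t.hb, Φ.hf] at h5
  refine ⟨e1, e2, e3, e4, ?_, ?_⟩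
  · grind
  · grind

theorem conjB (u : K) (hu : Φ.f u = u) (t : Par Φ) :
    (pB u hu * t * (pB u hu)⁻¹).a = t.a ∧ (pB u hu * t * (pB u hu)⁻¹).b = t.b ∧
    (pB u hu * t * (pB u hu)⁻¹).c = t.a * u + t.c ∧
    (pB u hu * t * (pB u hu)⁻¹).d = t.a * Φ.f t.a * u + t.d ∧
    (pB u hu * t * (pB u hu)⁻¹).e = t.a * Φ.f t.a * Φ.f (Φ.f t.a) * u + t.e ∧
    (pB u hu * t * (pB u hu)⁻¹).g = Φ.f t.a * Φ.f (Φ.f t.a) * t.c * u +
      t.a * Φ.f (Φ.f t.a) * Φ.f t.c * u + t.a * Φ.f t.a * Φ.f (Φ.f t.a) * t.b * u +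
      t.a * Φ.f t.a * Φ.f (Φ.f t.c) * u + t.e * u + t.g := by
  have h : pB u hu * t = (pB u hu * t * (pB u hu)⁻¹) * pB u hu := by group
  generalize pB u hu * t * (pB u hu)⁻¹ = t' at h
  have h6 := Par.ext_iff.1 h
  simp only [mul_a, mul_b, mul_c, mul_d, mul_e, mul_g, pB, map_zero, zero_mul, mul_zero, add_zero,
    zero_add] at h6
  obtain ⟨h1, h2, h3, h4, h5, h6⟩ := h6
  have e1 : t'.a = t.a := h1.symm
  have e2 : t'.b = t.b := by grind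
  have e3 : t'.c = t.a * u + t.c := by grind
  have e4 : t'.d = t.a * Φ.f t.a * u + t.d := by grind
  have e5 : t'.e = t.a * Φ.f t.a * Φ.f (Φ.f t.a) * u + t.e := by grind
  refine ⟨e1, e2, e3, e4, e5, ?_⟩
  grind

theorem conjC (x : K) (t : Par Φ) :
    (pC x * t * (pC x)⁻¹).a = t.a ∧ (pC x * t * (pC x)⁻¹).b = t.b ∧
    (pC x * t * (pC x)⁻¹).c = t.c ∧
    (pC x * t * (pC x)⁻¹).d = Φ.f t.a * x + t.a * Φ.f x + t.d ∧
    (pC x * t * (pC x)⁻¹).e = Φ.f t.a * Φ.f (Φ.f t.a) * x + t.a * Φ.f (Φ.f t.a) * Φ.f x +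
      t.a * Φ.f t.a * Φ.f (Φ.f x) + t.e ∧
    (pC x * t * (pC x)⁻¹).g = Φ.f (Φ.f t.a) * Φ.f t.c * x + Φ.f (Φ.f t.a) * t.c * Φ.f x +
      Φ.f (Φ.f t.a) * x * Φ.f x + Φ.f t.a * Φ.f (Φ.f t.a) * t.b * x + Φ.f t.a * Φ.f (Φ.f t.c) * x +
      Φ.f t.a * t.c * Φ.f (Φ.f x) + Φ.f t.a * x * Φ.f (Φ.f x) +
      t.a * Φ.f (Φ.f t.a) * t.b * Φ.f x + t.a * Φ.f t.a * t.b * Φ.f (Φ.f x) +
      t.a * Φ.f (Φ.f t.c) * Φ.f x + t.a * Φ.f t.c * Φ.f (Φ.f x) + t.a * Φ.f x * Φ.f (Φ.f x) +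
      Φ.f (Φ.f t.d) * Φ.f x + Φ.f t.d * x + t.d * Φ.f (Φ.f x) + t.g := by
  have h : pC x * t = (pC x * t * (pC x)⁻¹) * pC x := by group
  generalize pC x * t * (pC x)⁻¹ = t' at h
  have h6 := Par.ext_iff.1 h
  simp only [mul_a, mul_b, mul_c, mul_d, mul_e, mul_g, pC, map_zero, zero_mul, mul_zero, add_zero,
    zero_add] at h6
  obtain ⟨h1, h2, h3, h4, h5, h6⟩ := h6
  have e1 : t'.a = t.a := h1.symm
  have e2 : t'.b = t.b := h2.symm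
  have e3 : t'.c = t.c := by grind
  have e4 : t'.d = Φ.f t.a * x + t.a * Φ.f x + t.d := by grind
  have e5 : t'.e = Φ.f t.a * Φ.f (Φ.f t.a) * x + t.a * Φ.f (Φ.f t.a) * Φ.f x +
      t.a * Φ.f t.a * Φ.f (Φ.f x) + t.e := by grind
  refine ⟨e1, e2, e3, e4, e5, ?_⟩
  rw [e4] at h6
  simp only [map_add, map_mul, Φ.hf] at h6
  grind

theorem conjD (y : K) (t : Par Φ) :
    (pD y * t * (pD y)⁻¹).a = t.a ∧ (pD y * t * (pD y)⁻¹).b = t.b ∧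
    (pD y * t * (pD y)⁻¹).c = t.c ∧ (pD y * t * (pD y)⁻¹).d = t.d ∧
    (pD y * t * (pD y)⁻¹).e = Φ.f (Φ.f t.a) * y + Φ.f t.a * Φ.f (Φ.f y) + t.a * Φ.f y + t.e ∧
    (pD y * t * (pD y)⁻¹).g = Φ.f (Φ.f t.a) * t.b * y + Φ.f t.a * t.b * Φ.f (Φ.f y) +
      t.a * t.b * Φ.f y + Φ.f (Φ.f t.c) * y + Φ.f t.c * Φ.f (Φ.f y) + t.c * Φ.f y + t.g := by
  have h : pD y * t = (pD y * t * (pD y)⁻¹) * pD y := by group
  generalize pD y * t * (pD y)⁻¹ = t' at h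
  have h6 := Par.ext_iff.1 h
  simp only [mul_a, mul_b, mul_c, mul_d, mul_e, mul_g, pD, map_zero, zero_mul, mul_zero, add_zero,
    zero_add] at h6
  obtain ⟨h1, h2, h3, h4, h5, h6⟩ := h6
  have e1 : t'.a = t.a := h1.symm
  have e2 : t'.b = t.b := h2.symm
  have e3 : t'.c = t.c := h3.symm
  have e4 : t'.d = t.d := by grind
  have e5 : t'.e = Φ.f (Φ.f t.a) * y + Φ.f t.a * Φ.f (Φ.f y) + t.a * Φ.f y + t.e := by grind
  refine ⟨e1, e2, e3, e4, e5, ?_⟩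
  grind

theorem conjE (v : K) (hv : Φ.f v = v) (t : Par Φ) :
    (pE v hv * t * (pE v hv)⁻¹).a = t.a ∧ (pE v hv * t * (pE v hv)⁻¹).b = t.b ∧
    (pE v hv * t * (pE v hv)⁻¹).c = t.c ∧ (pE v hv * t * (pE v hv)⁻¹).d = t.d ∧
    (pE v hv * t * (pE v hv)⁻¹).e = t.e ∧
    (pE v hv * t * (pE v hv)⁻¹).g = t.b * v + t.g := by
  have h : pE v hv * t = (pE v hv * t * (pE v hv)⁻¹) * pE v hv := by group
  generalize pE v hv * t * (pE v hv)⁻¹ = t' at h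
  have h6 := Par.ext_iff.1 h
  simp only [mul_a, mul_b, mul_c, mul_d, mul_e, mul_g, pE, map_zero, zero_mul, mul_zero, add_zero,
    zero_add] at h6
  obtain ⟨h1, h2, h3, h4, h5, h6⟩ := h6
  have e1 : t'.a = t.a := h1.symm
  have e2 : t'.b = t.b := h2.symm
  have e3 : t'.c = t.c := h3.symm
  have e4 : t'.d = t.d := h4.symm
  have e5 : t'.e = t.e := by grind
  refine ⟨e1, e2, e3, e4, e5, ?_⟩
  grind

/-- the square in coordinates -/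
theorem sq_coords (t : Par Φ) : (t * t).a = 0 ∧ (t * t).b = 0 ∧ (t * t).c = t.a * t.b ∧
    (t * t).d = Φ.f t.a * t.c + t.a * Φ.f t.a * t.b + t.a * Φ.f t.c ∧
    (t * t).e = Φ.f (Φ.f t.a) * t.d + Φ.f t.a * Φ.f (Φ.f t.a) * t.c + Φ.f t.a * Φ.f (Φ.f t.d) +
      t.a * Φ.f (Φ.f t.a) * Φ.f t.c + t.a * Φ.f t.a * Φ.f (Φ.f t.a) * t.b +
      t.a * Φ.f t.a * Φ.f (Φ.f t.c) + t.a * Φ.f t.d ∧
    (t * t).g = Φ.f (Φ.f t.a) * t.b * t.d + Φ.f (Φ.f t.a) * t.c * Φ.f t.c +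
      Φ.f t.a * Φ.f (Φ.f t.a) * t.b * t.c + Φ.f t.a * t.b * Φ.f (Φ.f t.d) +
      Φ.f t.a * t.c * Φ.f (Φ.f t.c) + t.a * Φ.f (Φ.f t.a) * t.b * Φ.f t.c +
      t.a * Φ.f t.a * t.b * Φ.f (Φ.f t.c) + t.a * t.b * Φ.f t.d + t.a * Φ.f t.c * Φ.f (Φ.f t.c) +
      t.b * t.e + Φ.f (Φ.f t.c) * t.d + Φ.f t.c * Φ.f (Φ.f t.d) + t.c * Φ.f t.d := by
  simp only [mul_a, mul_b, mul_c, mul_d, mul_e, mul_g]
  refine ⟨?_, ?_, ?_, ?_, ?_, ?_⟩ <;> grind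

end Cfsg.Agent.Helper11.D4Par
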