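import Mathlib
import Cfsg.Agent.Helper11.D4Conj

/-!
# Field lemmas for a cubic Frobenius in characteristic two
-/

set_option autoImplicit false
set_option linter.unusedSectionVars false
set_option linter.unusedVariables false
set_option linter.unusedSimpArgs false

namespace Cfsg.Agent.Helper11.D4Par

variable {K : Type*} [Field K] [CharP K 2] (Φ : Frob K)

/-- the trace is not identically zero -/
theorem exists_tr_ne_zero : ∃ θ : K, θ + Φ.f θ + Φ.f (Φ.f θ) ≠ 0 := by
  by_contra hcon
  push Not at hcon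
  by_cases hid : ∀ x, Φ.f x = x
  · have := hcon 1
    simp only [map_one] at this
    have h2 : (1 : K) + 1 = 0 := CharTwo.add_self_eq_zero 1
    rw [h2, zero_add] at this
    exact one_ne_zero this
  · push Not at hid
    obtain ⟨x0, hx0⟩ := hid
    let φ : Fin 3 → (K →* K) := ![MonoidHom.id K, (Φ.f : K →* K), ((Φ.f.trans Φ.f : K ≃+* K) : K →* K)]
    have hinj : Function.Injective φ := by
      intro i j hij
      fin_cases i <;> fin_cases j <;> first | rfl | exfalso
      · have := DFunLike.congr_fun hij x0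
        exact hx0 this.symm
      · have := DFunLike.congr_fun hij (Φ.f x0)
        simp only [φ] at this
        change Φ.f x0 = Φ.f (Φ.f (Φ.f x0)) at this
        rw [Φ.hf] at this
        exact hx0 this
      · have := DFunLike.congr_fun hij x0
        exact hx0 this
      · have := DFunLike.congr_fun hij x0
        change Φ.f x0 = Φ.f (Φ.f x0) at this
        exact hx0 (Φ.f.injective this).symm
      · have := DFunLike.congr_fun hij (Φ.f x0)
        change Φ.f (Φ.f (Φ.f x0)) = Φ.f x0 at this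
        rw [Φ.hf] at this
        exact hx0 this.symm
      · have := DFunLike.congr_fun hij x0
        change Φ.f (Φ.f x0) = Φ.f x0 at this
        exact hx0 (Φ.f.injective this)
    have hli := (linearIndependent_monoidHom K K).comp φ hinj
    rw [Fintype.linearIndependent_iff] at hli
    have := hli (fun _ => 1) (by
      funext θ
      simp only [Fin.sum_univ_three, one_smul, Function.comp, Pi.add_apply, Pi.zero_apply]
      exact hcon θ) 0
    exact one_ne_zero this

/-- an element of trace one -/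
theorem exists_tr_one : ∃ θ : K, θ + Φ.f θ + Φ.f (Φ.f θ) = 1 := by
  obtain ⟨θ, hθ⟩ := exists_tr_ne_zero Φ
  set τ := θ + Φ.f θ + Φ.f (Φ.f θ) with hτ
  have hfτ : Φ.f τ = τ := by
    rw [hτ]
    simp only [map_add, Φ.hf]
    ring
  refine ⟨θ / τ, ?_⟩
  simp only [map_div₀, hfτ]
  field_simp
  rw [hτ]

/-- the trace form is onto the fixed field -/
theorem exists_tr_eq {c : K} (hc : c ≠ 0) {e : K} (he : Φ.f e = e) :
    ∃ z : K, c * z + Φ.f (c * z) + Φ.f (Φ.f (c * z)) = e := by
  obtain ⟨θ, hθ⟩ := exists_tr_one Φ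
  refine ⟨θ * e / c, ?_⟩
  have : c * (θ * e / c) = θ * e := by field_simp
  rw [this]
  simp only [map_mul, he]
  linear_combination e * hθ

/-- the additive form of Hilbert's theorem 90 that is needed -/
theorem exists_h90 {c : K} (hc : c ≠ 0) {w : K}
    (hw : c * Φ.f w + Φ.f c * Φ.f (Φ.f w) + Φ.f (Φ.f c) * w = 0) :
    ∃ s : K, Φ.f s * c + s * Φ.f c = w := by
  obtain ⟨θ, hθ⟩ := exists_tr_one Φ
  have hc1 : Φ.f c ≠ 0 := (map_ne_zero Φ.f).2 hc
  have hc2 : Φ.f (Φ.f c) ≠ 0 := (map_ne_zero Φ.f).2 hc1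
  set v := w / (c * Φ.f c) with hv
  have hv1 : Φ.f v = Φ.f w / (Φ.f c * Φ.f (Φ.f c)) := by
    rw [hv]; simp only [map_div₀, map_mul]
  have hv2 : Φ.f (Φ.f v) = Φ.f (Φ.f w) / (Φ.f (Φ.f c) * c) := by
    rw [hv1]; simp only [map_div₀, map_mul, Φ.hf]
  have htr : v + Φ.f v + Φ.f (Φ.f v) = 0 := by
    rw [hv2, hv1, hv]
    field_simp
    linear_combination hw
  refine ⟨c * (v * Φ.f θ + (v + Φ.f v) * Φ.f (Φ.f θ)), ?_⟩
  simp only [map_mul, map_add, Φ.hf]
  have hw' : w = v * (c * Φ.f c) := by rw [hv]; field_simp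
  rw [hw']
  have h2 : (2 : K) = 0 := CharTwo.two_eq_zero
  grind

/-- square roots in the fixed field -/
theorem exists_sqrt [Finite K] {e : K} (he : Φ.f e = e) : ∃ l : K, l ^ 2 = e ∧ Φ.f l = l := by
  have : Fact (Nat.Prime 2) := ⟨Nat.prime_two⟩
  obtain ⟨l, hl⟩ := surjective_frobenius K 2 e
  rw [frobenius_def] at hl
  refine ⟨l, hl, ?_⟩
  apply frobenius_inj K 2
  rw [frobenius_def, frobenius_def, ← map_pow, hl, he]

end Cfsg.Agent.Helper11.D4Par
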