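import Mathlib
import Cfsg.Agent.Helper11.D4Field

/-!
# Involutions of `U^σ` up to conjugacy in `U^σ`
-/

set_option autoImplicit false
set_option linter.unusedSectionVars false
set_option linter.unusedVariables false
set_option linter.unusedSimpArgs false

namespace Cfsg.Agent.Helper11.D4Par

variable {K : Type*} [Field K] [CharP K 2] {Φ : Frob K}

theorem conj_sq {G : Type*} [Group G] {g t : G} (h : t * t = 1) :
    (g * t * g⁻¹) * (g * t * g⁻¹) = 1 := by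
  have : (g * t * g⁻¹) * (g * t * g⁻¹) = g * (t * t) * g⁻¹ := by group
  rw [this, h]; group

theorem isConj_conj (g t : Par Φ) : IsConj t (g * t * g⁻¹) := isConj_iff.2 ⟨g, rfl⟩

theorem pB_mul_pD (u : K) (hu : Φ.f u = u) (d : K) :
    pB u hu * pD d = (⟨0, u, 0, d, 0, 0, hu, map_zero _, map_zero _⟩ : Par Φ) := by
  apply Par.ext <;> simp [pB, pD]

theorem pA_mul_pF (a : K) (g : K) (hg : Φ.f g = g) :
    pA a * pF g hg = (⟨a, 0, 0, 0, 0, g, map_zero _, map_zero _, hg⟩ : Par Φ) := by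
  apply Par.ext <;> simp [pA, pF]

/-- case `a = 0`, `b ≠ 0` -/
theorem red1 (t : Par Φ) (h2 : t * t = 1) (ha : t.a = 0) (hb : t.b ≠ 0) :
    ∃ d, IsConj t (pB t.b t.hb * pD d) := by
  set s := t.c / t.b with hs
  obtain ⟨a1, b1, c1, d1, e1, g1⟩ := conjA s t
  have hc : IsConj t (pA s * t * (pA s)⁻¹) := isConj_conj _ _
  have hsq : (pA s * t * (pA s)⁻¹) * (pA s * t * (pA s)⁻¹) = 1 := conj_sq h2
  generalize pA s * t * (pA s)⁻¹ = t₁ at *
  have c1' : t₁.c = 0 := by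
    have e : t.b * s = t.c := by rw [hs]; field_simp
    rw [c1, e]
    exact CharTwo.add_self_eq_zero _
  have e1' : t₁.e = 0 := by
    have := (sq_coords t₁).2.2.2.2.2
    rw [hsq] at this
    simp only [one_g, a1, ha, c1', b1, map_zero, zero_mul, mul_zero, zero_add, add_zero] at this
    rcases mul_eq_zero.1 this.symm with h | h
    · exact absurd h hb
    · exact h
  have hv : Φ.f (t₁.g / t.b) = t₁.g / t.b := by rw [map_div₀, t₁.hg, t.hb]
  obtain ⟨a2, b2, c2, d2, e2, g2⟩ := conjE (t₁.g / t.b) hv t₁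
  have hc2 : IsConj t₁ (pE (t₁.g / t.b) hv * t₁ * (pE (t₁.g / t.b) hv)⁻¹) := isConj_conj _ _
  generalize pE (t₁.g / t.b) hv * t₁ * (pE (t₁.g / t.b) hv)⁻¹ = t₂ at *
  refine ⟨t₁.d, ?_⟩
  have : t₂ = pB t.b t.hb * pD t₁.d := by
    rw [pB_mul_pD]
    apply Par.ext
    · rw [a2, a1, ha]
    · rw [b2, b1]
    · rw [c2, c1']
    · rw [d2]
    · rw [e2, e1']
    · have e : t.b * (t₁.g / t.b) = t₁.g := by field_simp
      rw [g2, b1, e]
      exact CharTwo.add_self_eq_zero _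
  rw [← this]
  exact hc.trans hc2

/-- killing the last coordinate by a `D`-element when `a = b = 0`, `c ≠ 0` -/
theorem killG (t : Par Φ) (ha : t.a = 0) (hb : t.b = 0) (hc : t.c ≠ 0) :
    ∃ t' : Par Φ, IsConj t t' ∧ t'.a = 0 ∧ t'.b = 0 ∧ t'.c = t.c ∧ t'.d = t.d ∧ t'.e = t.e ∧
      t'.g = 0 := by
  obtain ⟨z, hz⟩ := exists_tr_eq Φ hc t.hg
  obtain ⟨a1, b1, c1, d1, e1, g1⟩ := conjD (Φ.f (Φ.f z)) t
  refine ⟨_, isConj_conj (pD (Φ.f (Φ.f z))) t, ?_, ?_, c1, d1, ?_, ?_⟩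
  · rw [a1, ha]
  · rw [b1, hb]
  · rw [e1, ha]; simp
  · rw [g1, ha, hb]
    simp only [map_zero, zero_mul, mul_zero, zero_add, Φ.hf]
    simp only [map_mul] at hz
    have h2 : (2 : K) = 0 := CharTwo.two_eq_zero
    grind

/-- case `a = b = 0`, `c ≠ 0` -/
theorem red2 [Finite K] (t : Par Φ) (h2 : t * t = 1) (ha : t.a = 0) (hb : t.b = 0)
    (hc : t.c ≠ 0) : IsConj t (pC t.c) := by
  have hw : t.c * Φ.f t.d + Φ.f t.c * Φ.f (Φ.f t.d) + Φ.f (Φ.f t.c) * t.d = 0 := by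
    have := (sq_coords t).2.2.2.2.2
    rw [h2] at this
    simp only [one_g, ha, hb, map_zero, zero_mul, mul_zero, zero_add, add_zero] at this
    rw [this]; ring
  obtain ⟨s, hs⟩ := exists_h90 Φ hc hw
  obtain ⟨a1, b1, c1, d1, e1, g1⟩ := conjA s t
  have hc1 : IsConj t (pA s * t * (pA s)⁻¹) := isConj_conj _ _
  generalize pA s * t * (pA s)⁻¹ = t₁ at *
  rw [ha] at a1
  rw [hb] at b1
  have c1' : t₁.c = t.c := by rw [c1, hb]; simp
  have d1' : t₁.d = 0 := by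
    rw [d1, hb]
    simp only [zero_mul, zero_add]
    have h2 : (2 : K) = 0 := CharTwo.two_eq_zero
    grind
  obtain ⟨t₂, hc2, a2, b2, c2, d2, e2, g2⟩ := killG t₁ a1 b1 (by rw [c1']; exact hc)
  rw [c1'] at c2
  rw [d1'] at d2
  -- the third step
  have hN : t.c * Φ.f t.c * Φ.f (Φ.f t.c) ≠ 0 :=
    mul_ne_zero (mul_ne_zero hc ((map_ne_zero Φ.f).2 hc)) ((map_ne_zero Φ.f).2 ((map_ne_zero Φ.f).2 hc))
  have hNf : Φ.f (t.c * Φ.f t.c * Φ.f (Φ.f t.c)) = t.c * Φ.f t.c * Φ.f (Φ.f t.c) := by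
    simp only [map_mul, Φ.hf]; ring
  have hq : Φ.f (t₂.e / (t.c * Φ.f t.c * Φ.f (Φ.f t.c))) = t₂.e / (t.c * Φ.f t.c * Φ.f (Φ.f t.c)) := by
    rw [map_div₀, hNf, t₂.he]
  obtain ⟨l, hl, hlf⟩ := exists_sqrt Φ hq
  obtain ⟨a3, b3, c3, d3, e3, g3⟩ := conjA (l * t.c) t₂
  have hc3 : IsConj t₂ (pA (l * t.c) * t₂ * (pA (l * t.c))⁻¹) := isConj_conj _ _
  generalize pA (l * t.c) * t₂ * (pA (l * t.c))⁻¹ = t₃ at *
  rw [a2] at a3
  rw [b2] at b3
  have c3' : t₃.c = t.c := by rw [c3, b2, c2]; simp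
  have d3' : t₃.d = 0 := by
    rw [d3, b2, c2, d2]
    simp only [zero_mul, zero_add, add_zero, map_mul, hlf]
    have h2 : (2 : K) = 0 := CharTwo.two_eq_zero
    grind
  have e3' : t₃.e = 0 := by
    rw [e3, b2, c2, d2]
    simp only [zero_mul, zero_add, add_zero, map_mul, map_zero, hlf, Φ.hf]
    have h2 : (2 : K) = 0 := CharTwo.two_eq_zero
    have hl' : l ^ 2 * (t.c * Φ.f t.c * Φ.f (Φ.f t.c)) = t₂.e := by
      rw [hl, div_mul_cancel₀ _ hN]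
    grind
  obtain ⟨t₄, hc4, a4, b4, c4, d4, e4, g4⟩ := killG t₃ a3 b3 (by rw [c3']; exact hc)
  have : t₄ = pC t.c := by
    apply Par.ext
    · rw [a4]; rfl
    · rw [b4]; rfl
    · rw [c4, c3']; rfl
    · rw [d4, d3']; rfl
    · rw [e4, e3']; rfl
    · rw [g4]; rfl
  rw [← this]
  exact ((hc1.trans hc2).trans hc3).trans hc4

/-- case `a = b = c = 0`, `d ≠ 0` -/
theorem red3 (t : Par Φ) (ha : t.a = 0) (hb : t.b = 0) (hc : t.c = 0) (hd : t.d ≠ 0) :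
    IsConj t (pD t.d) := by
  have hd1 : Φ.f t.d ≠ 0 := (map_ne_zero Φ.f).2 hd
  obtain ⟨z, hz⟩ := exists_tr_eq Φ hd1 t.he
  obtain ⟨a1, b1, c1, d1, e1, g1⟩ := conjA z t
  have hc1 : IsConj t (pA z * t * (pA z)⁻¹) := isConj_conj _ _
  generalize pA z * t * (pA z)⁻¹ = t₁ at *
  rw [ha] at a1
  rw [hb] at b1
  have c1' : t₁.c = 0 := by rw [c1, hb, hc]; simp
  have d1' : t₁.d = t.d := by rw [d1, hb, hc]; simp
  have e1' : t₁.e = 0 := by
    rw [e1, hb, hc]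
    simp only [map_zero, zero_mul, zero_add]
    simp only [map_mul, Φ.hf] at hz
    have h2 : (2 : K) = 0 := CharTwo.two_eq_zero
    grind
  obtain ⟨x, hx⟩ := exists_tr_eq Φ hd1 t₁.hg
  obtain ⟨a2, b2, c2, d2, e2, g2⟩ := conjC x t₁
  have hc2 : IsConj t₁ (pC x * t₁ * (pC x)⁻¹) := isConj_conj _ _
  generalize pC x * t₁ * (pC x)⁻¹ = t₂ at *
  have : t₂ = pD t.d := by
    apply Par.ext
    · rw [a2, a1]; rfl
    · rw [b2, b1]; rfl
    · rw [c2, c1']; rfl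
    · rw [d2, a1, d1']; simp [pD]
    · rw [e2, a1, e1']; simp [pD]
    · rw [g2, a1, b1, c1', d1']
      simp only [map_zero, zero_mul, mul_zero, zero_add, add_zero]
      simp only [map_mul, Φ.hf] at hx
      have h2 : (2 : K) = 0 := CharTwo.two_eq_zero
      show _ = (0 : K)
      grind
  rw [← this]
  exact hc1.trans hc2

/-- case `a = b = c = d = 0`, `e ≠ 0` -/
theorem red4 (t : Par Φ) (ha : t.a = 0) (hb : t.b = 0) (hc : t.c = 0) (hd : t.d = 0)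
    (he : t.e ≠ 0) : IsConj t (pE t.e t.he) := by
  have hu : Φ.f (t.g / t.e) = t.g / t.e := by rw [map_div₀, t.hg, t.he]
  obtain ⟨a1, b1, c1, d1, e1, g1⟩ := conjB (t.g / t.e) hu t
  have hc1 : IsConj t (pB (t.g / t.e) hu * t * (pB (t.g / t.e) hu)⁻¹) := isConj_conj _ _
  generalize pB (t.g / t.e) hu * t * (pB (t.g / t.e) hu)⁻¹ = t₁ at *
  have : t₁ = pE t.e t.he := by
    apply Par.ext
    · rw [a1, ha]; rfl
    · rw [b1, hb]; rfl
    · rw [c1, ha, hc]; simp [pE]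
    · rw [d1, ha, hd]; simp [pE]
    · rw [e1, ha]; simp [pE]
    · rw [g1, ha]
      simp only [map_zero, zero_mul, mul_zero, zero_add]
      have e : t.e * (t.g / t.e) = t.g := by field_simp
      rw [e]
      exact CharTwo.add_self_eq_zero _
  rw [← this]
  exact hc1

/-- case `a ≠ 0` -/
theorem red5 (t : Par Φ) (h2 : t * t = 1) (ha : t.a ≠ 0) :
    ∃ (g : K) (hg : Φ.f g = g), IsConj t (pA t.a * pF g hg) := by
  have hsq := sq_coords t
  rw [h2] at hsq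
  obtain ⟨-, -, s3, s4, -, -⟩ := hsq
  have hb : t.b = 0 := by
    rcases mul_eq_zero.1 s3.symm with h | h
    · exact absurd h ha
    · exact h
  have ha1 : Φ.f t.a ≠ 0 := (map_ne_zero Φ.f).2 ha
  have hl : Φ.f (t.c / t.a) = t.c / t.a := by
    rw [map_div₀, div_eq_div_iff ha1 ha]
    simp only [one_d, hb, mul_zero, add_zero] at s4
    have h2 : (2 : K) = 0 := CharTwo.two_eq_zero
    grind
  obtain ⟨a1, b1, c1, d1, e1, g1⟩ := conjB (t.c / t.a) hl t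
  have hc1 : IsConj t (pB (t.c / t.a) hl * t * (pB (t.c / t.a) hl)⁻¹) := isConj_conj _ _
  have hsq1 : (pB (t.c / t.a) hl * t * (pB (t.c / t.a) hl)⁻¹) *
      (pB (t.c / t.a) hl * t * (pB (t.c / t.a) hl)⁻¹) = 1 := conj_sq h2
  generalize pB (t.c / t.a) hl * t * (pB (t.c / t.a) hl)⁻¹ = t₁ at *
  rw [hb] at b1
  have c1' : t₁.c = 0 := by
    have e : t.a * (t.c / t.a) = t.c := by field_simp
    rw [c1, e]
    exact CharTwo.add_self_eq_zero _
  have hw : t.a * Φ.f t₁.d + Φ.f t.a * Φ.f (Φ.f t₁.d) + Φ.f (Φ.f t.a) * t₁.d = 0 := by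
    have := (sq_coords t₁).2.2.2.2.1
    rw [hsq1] at this
    simp only [one_e, a1, b1, c1', map_zero, zero_mul, mul_zero, zero_add, add_zero] at this
    rw [this]; ring
  obtain ⟨x, hx⟩ := exists_h90 Φ ha hw
  obtain ⟨a2, b2, c2, d2, e2, g2⟩ := conjC x t₁
  have hc2 : IsConj t₁ (pC x * t₁ * (pC x)⁻¹) := isConj_conj _ _
  generalize pC x * t₁ * (pC x)⁻¹ = t₂ at *
  have d2' : t₂.d = 0 := by
    rw [d2, a1]
    have h2 : (2 : K) = 0 := CharTwo.two_eq_zero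
    grind
  obtain ⟨z, hz⟩ := exists_tr_eq Φ ha t₂.he
  obtain ⟨a3, b3, c3, d3, e3, g3⟩ := conjD (Φ.f (Φ.f z)) t₂
  have hc3 : IsConj t₂ (pD (Φ.f (Φ.f z)) * t₂ * (pD (Φ.f (Φ.f z)))⁻¹) := isConj_conj _ _
  generalize pD (Φ.f (Φ.f z)) * t₂ * (pD (Φ.f (Φ.f z)))⁻¹ = t₃ at *
  refine ⟨t₃.g, t₃.hg, ?_⟩
  have : t₃ = pA t.a * pF t₃.g t₃.hg := by
    rw [pA_mul_pF]
    apply Par.ext
    · rw [a3, a2, a1]
    · rw [b3, b2, b1]
    · rw [c3, c2, c1']
    · rw [d3, d2']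
    · rw [e3, a2, a1]
      simp only [Φ.hf]
      simp only [map_mul] at hz
      have h2 : (2 : K) = 0 := CharTwo.two_eq_zero
      show _ = (0 : K)
      grind
    · rfl
  rw [← this]
  exact (hc1.trans hc2).trans hc3

end Cfsg.Agent.Helper11.D4Par
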