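import Mathlib
import Cfsg.Agent.Helper11.TwReach
import Cfsg.Agent.Helper6.Chev.BNPairDef

/-!
# Orbits of strongly orthogonal fundamental roots: commuting rank one groups

For a list `J` of pairwise strongly orthogonal fundamental roots: the elements `n_J`, the words
`x_J(t)`, `x_{-J}(t)`, the rank one identity `x_{-J}(a) = x_J(a⁻¹) h n_J x_J(a⁻¹)` and the
decomposition `U = U_J X_J` with `n_J U_J n_J⁻¹ ≤ U`.
-/

set_option autoImplicit false
set_option linter.unusedSectionVars false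
set_option linter.unusedVariables false

namespace Cfsg.Agent.Helper11.TwBNA

open Cfsg.Lie Cfsg.Agent.Helper6 Cfsg.Agent.Helper11.ChevGraphAut Cfsg.Agent.Helper11.TwUProd
  Cfsg.Agent.Helper11.TwSigma Cfsg.Agent.Helper11.TwFix Cfsg.Agent.Helper11.TwCtx
  Cfsg.Agent.Helper11.TwReach

variable {D : ChevalleyDatum} {F : Type*} [Field F]

theorem four_mul_four {G : Type*} [Group G] {a₁ b₁ c₁ d₁ a₂ b₂ c₂ d₂ : G}
    (hb : Commute b₁ a₂) (hc : Commute c₁ a₂) (hd : Commute d₁ a₂)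
    (hc' : Commute c₁ b₂) (hd' : Commute d₁ b₂) (hd'' : Commute d₁ c₂) :
    (a₁ * b₁ * c₁ * d₁) * (a₂ * b₂ * c₂ * d₂) = (a₁ * a₂) * (b₁ * b₂) * (c₁ * c₂) * (d₁ * d₂) := by
  have h1 : Commute (b₁ * c₁ * d₁) a₂ := (hb.mul_left hc).mul_left hd
  have h2 : Commute (c₁ * d₁) b₂ := hc'.mul_left hd'
  calc (a₁ * b₁ * c₁ * d₁) * (a₂ * b₂ * c₂ * d₂)
      = a₁ * ((b₁ * c₁ * d₁) * a₂) * (b₂ * c₂ * d₂) := by group
    _ = a₁ * (a₂ * (b₁ * c₁ * d₁)) * (b₂ * c₂ * d₂) := by rw [h1.eq]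
    _ = a₁ * a₂ * b₁ * ((c₁ * d₁) * b₂) * (c₂ * d₂) := by group
    _ = a₁ * a₂ * b₁ * (b₂ * (c₁ * d₁)) * (c₂ * d₂) := by rw [h2.eq]
    _ = a₁ * a₂ * b₁ * b₂ * c₁ * (d₁ * c₂) * d₂ := by group
    _ = a₁ * a₂ * b₁ * b₂ * c₁ * (c₂ * d₁) * d₂ := by rw [hd''.eq]
    _ = _ := by group

/-- the subgroup generated by the root elements of `±p_i`, `i ∈ J` -/
def RkJ (hB : BasicOK D) (F : Type*) [Field F] (J : List ℕ) : Subgroup (GL D.Idx F) :=
  Subgroup.closure {g | ∃ i ∈ J, ∃ t : F, g = xU hB (D.simple i) t ∨ g = xU hB (D.neg (D.simple i)) t}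

theorem rkJ_mono (hB : BasicOK D) {J₁ J₂ : List ℕ} (h : ∀ i ∈ J₁, i ∈ J₂) :
    RkJ hB F J₁ ≤ RkJ hB F J₂ := by
  unfold RkJ
  apply Subgroup.closure_mono
  rintro g ⟨i, hi, t, hg⟩
  exact ⟨i, h i hi, t, hg⟩

theorem xU_pos_mem_rkJ (hB : BasicOK D) {J : List ℕ} {i : ℕ} (hi : i ∈ J) (t : F) :
    xU hB (D.simple i) t ∈ RkJ hB F J :=
  Subgroup.subset_closure ⟨i, hi, t, Or.inl rfl⟩

theorem xU_neg_mem_rkJ (hB : BasicOK D) {J : List ℕ} {i : ℕ} (hi : i ∈ J) (t : F) :
    xU hB (D.neg (D.simple i)) t ∈ RkJ hB F J :=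
  Subgroup.subset_closure ⟨i, hi, t, Or.inr rfl⟩

theorem wordU_mem_rkJ (hB : BasicOK D) {J : List ℕ} (w : List (ℕ × F))
    (hw : ∀ p ∈ w, ∃ i ∈ J, p.1 = D.simple i ∨ p.1 = D.neg (D.simple i)) :
    wordU hB w ∈ RkJ hB F J := by
  unfold wordU
  apply Subgroup.list_prod_mem
  intro g hg
  rw [List.mem_map] at hg
  obtain ⟨p, hp, rfl⟩ := hg
  obtain ⟨i, hi, h | h⟩ := hw p hp
  · rw [h]; exact xU_pos_mem_rkJ hB hi _
  · rw [h]; exact xU_neg_mem_rkJ hB hi _

theorem nU_mem_rkJ (hB : BasicOK D) {J : List ℕ} {i : ℕ} (hi : i ∈ J) :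
    nU hB (D.simple i) (one_ne_zero (α := F)) ∈ RkJ hB F J := by
  rw [nU_one_eq]
  exact Subgroup.mul_mem _ (Subgroup.mul_mem _ (xU_pos_mem_rkJ hB hi _) (xU_neg_mem_rkJ hB hi _))
    (xU_pos_mem_rkJ hB hi _)

theorem nJ_mem_rkJ (hB : BasicOK D) {J J' : List ℕ} (h : ∀ i ∈ J', i ∈ J) :
    nJ (F := F) hB J' ∈ RkJ hB F J := by
  unfold nJ
  apply Subgroup.list_prod_mem
  intro g hg
  rw [List.mem_map] at hg
  obtain ⟨i, hi, rfl⟩ := hg
  exact nU_mem_rkJ hB (h i hi)

theorem hWordU_mem_rkJ (hB : BasicOK D) {J : List ℕ} {i : ℕ} (hi : i ∈ J) (c : F) :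
    wordU hB (D.hWord (D.simple i) c) ∈ RkJ hB F J := by
  apply wordU_mem_rkJ
  intro p hp
  refine ⟨i, hi, ?_⟩
  simp only [ChevalleyDatum.hWord, ChevalleyDatum.nWord, List.cons_append, List.nil_append,
    List.mem_cons, List.not_mem_nil, or_false] at hp
  rcases hp with rfl | rfl | rfl | rfl | rfl | rfl <;> simp

/-- the word `x_J(t)` -/
def wp (hB : BasicOK D) (J : List ℕ) (t : ℕ → F) : GL D.Idx F :=
  wordU hB ((J.map D.simple).map fun r => (r, t r))

/-- the word `x_{-J}(t)` -/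
def wn (hB : BasicOK D) (J : List ℕ) (t : ℕ → F) : GL D.Idx F :=
  wordU hB ((J.map D.simple).map fun r => (D.neg r, t r))

/-- the product of the `h_i(-a_i⁻¹)` -/
def hJ (hB : BasicOK D) (J : List ℕ) (a : ℕ → F) : GL D.Idx F :=
  ((J.map D.simple).map fun r => wordU hB (D.hWord r (-(a r)⁻¹))).prod

theorem wp_nil (hB : BasicOK D) (t : ℕ → F) : wp hB [] t = 1 := by simp [wp, wordU_nil']

theorem wn_nil (hB : BasicOK D) (t : ℕ → F) : wn hB [] t = 1 := by simp [wn, wordU_nil']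

theorem wp_cons (hB : BasicOK D) (i : ℕ) (J : List ℕ) (t : ℕ → F) :
    wp hB (i :: J) t = xU hB (D.simple i) (t (D.simple i)) * wp hB J t := by
  simp only [wp, List.map_cons, wordU_cons']

theorem wn_cons (hB : BasicOK D) (i : ℕ) (J : List ℕ) (t : ℕ → F) :
    wn hB (i :: J) t = xU hB (D.neg (D.simple i)) (t (D.simple i)) * wn hB J t := by
  simp only [wn, List.map_cons, wordU_cons']

theorem hJ_cons (hB : BasicOK D) (i : ℕ) (J : List ℕ) (a : ℕ → F) :
    hJ hB (i :: J) a = wordU hB (D.hWord (D.simple i) (-(a (D.simple i))⁻¹)) * hJ hB J a := by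
  simp only [hJ, List.map_cons, List.prod_cons]

theorem nJ_cons (hB : BasicOK D) (i : ℕ) (J : List ℕ) :
    nJ (F := F) hB (i :: J) = nU hB (D.simple i) (one_ne_zero (α := F)) * nJ hB J := by
  simp only [nJ, List.map_cons, List.prod_cons]

theorem wp_mem_rkJ (hB : BasicOK D) (J : List ℕ) (t : ℕ → F) : wp hB J t ∈ RkJ hB F J := by
  apply wordU_mem_rkJ
  intro p hp
  simp only [List.map_map, List.mem_map, Function.comp] at hp
  obtain ⟨i, hi, rfl⟩ := hp
  exact ⟨i, hi, Or.inl rfl⟩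

theorem wn_mem_rkJ (hB : BasicOK D) (J : List ℕ) (t : ℕ → F) : wn hB J t ∈ RkJ hB F J := by
  apply wordU_mem_rkJ
  intro p hp
  simp only [List.map_map, List.mem_map, Function.comp] at hp
  obtain ⟨i, hi, rfl⟩ := hp
  exact ⟨i, hi, Or.inr rfl⟩

theorem hJ_mem_rkJ (hB : BasicOK D) (J : List ℕ) (a : ℕ → F) : hJ hB J a ∈ RkJ hB F J := by
  unfold hJ
  apply Subgroup.list_prod_mem
  intro g hg
  simp only [List.map_map, List.mem_map, Function.comp] at hg
  obtain ⟨i, hi, rfl⟩ := hg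
  exact hWordU_mem_rkJ hB hi _

theorem hJ_mem_diagonal (hB : BasicOK D) (J : List ℕ) (hJ' : ∀ i ∈ J, D.simple i < D.nroots)
    (a : ℕ → F) (ha : ∀ i ∈ J, a (D.simple i) ≠ 0) : hJ hB J a ∈ D.diagonalSubgroup F := by
  unfold hJ
  apply Subgroup.list_prod_mem
  intro g hg
  simp only [List.map_map, List.mem_map, Function.comp] at hg
  obtain ⟨i, hi, rfl⟩ := hg
  exact hWordU_mem_diagonal hB (hJ' i hi) (neg_ne_zero.2 (inv_ne_zero (ha i hi)))

section main

variable (X : Ctx D F) (hsp : ∀ i < D.rank, D.nroots / 2 ≤ D.simple i)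
include X hsp

/-- the rank one groups of strongly orthogonal fundamental roots commute -/
theorem rkJ_comm {J₁ J₂ : List ℕ} (hJ₁ : ∀ i ∈ J₁, i < D.rank) (hJ₂ : ∀ i ∈ J₂, i < D.rank)
    (h : ∀ i ∈ J₁, ∀ j ∈ J₂, SO D i j) {a b : GL D.Idx F} (ha : a ∈ RkJ X.hB F J₁)
    (hb : b ∈ RkJ X.hB F J₂) : Commute a b := by
  unfold RkJ at ha
  induction ha using Subgroup.closure_induction with
  | mem g hg =>
    obtain ⟨i, hi, t, hgt⟩ := hg
    unfold RkJ at hb
    induction hb using Subgroup.closure_induction with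
    | mem g' hg' =>
      obtain ⟨j, hj, u, hgu⟩ := hg'
      have c := so_comm X hsp (hJ₁ i hi) (hJ₂ j hj) (h i hi j hj) t u
      rcases hgt with rfl | rfl <;> rcases hgu with rfl | rfl
      · exact c.1
      · exact c.2.1
      · exact c.2.2.1
      · exact c.2.2.2
    | one => exact Commute.one_right _
    | mul x y _ _ ihx ihy => exact ihx.mul_right ihy
    | inv x _ ih => exact ih.inv_right
  | one => exact Commute.one_left _
  | mul x y _ _ ihx ihy => exact ihx.mul_left ihy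
  | inv x _ ih => exact ih.inv_left

theorem so_of_pairwise {i : ℕ} {J : List ℕ} (h : (i :: J).Pairwise (SO D)) :
    ∀ a ∈ [i], ∀ b ∈ J, SO D a b := by
  intro a ha b hb
  rw [List.mem_singleton] at ha
  subst ha
  exact (List.pairwise_cons.1 h).1 b hb

/-- the rank one identity for an orbit -/
theorem wn_eq : ∀ (J : List ℕ), (∀ i ∈ J, i < D.rank) → J.Pairwise (SO D) → ∀ a : ℕ → F,
    (∀ i ∈ J, a (D.simple i) ≠ 0) →
    wn X.hB J a = wp X.hB J (fun r => (a r)⁻¹) * hJ X.hB J a * nJ X.hB J *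
      wp X.hB J (fun r => (a r)⁻¹) := by
  intro J
  induction J with
  | nil => intro _ _ a _; simp [wn_nil, wp_nil, hJ, nJ]
  | cons i J ih =>
    intro hlt hpw a ha
    have hi : i < D.rank := hlt i List.mem_cons_self
    have hlt' : ∀ j ∈ J, j < D.rank := fun j hj => hlt j (List.mem_cons_of_mem _ hj)
    have hlt1 : ∀ j ∈ [i], j < D.rank := by
      intro j hj; rw [List.mem_singleton] at hj; rw [hj]; exact hi
    have hso := so_of_pairwise X hsp hpw
    have Δhnp : D.neg (D.simple i) < D.nroots / 2 :=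
      X.hneg _ (X.hAll i hi).hS.1 (hsp i hi)
    rw [wn_cons, wp_cons, hJ_cons, nJ_cons,
      ih hlt' (List.pairwise_cons.1 hpw).2 a (fun j hj => ha j (List.mem_cons_of_mem _ hj))]
    have hai := ha i List.mem_cons_self
    -- the rank one identity at `p_i`
    have hc : -(a (D.simple i))⁻¹ ≠ 0 := neg_ne_zero.2 (inv_ne_zero hai)
    have e1 : nU X.hB (D.simple i) hc = wordU X.hB (D.hWord (D.simple i) (-(a (D.simple i))⁻¹)) *
        nU X.hB (D.simple i) (one_ne_zero (α := F)) := by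
      apply Units.ext
      simp only [Units.val_mul, nU_val, wordU_val]
      exact nMat_eq_hMat_mul X.hB _ _
    have e2 : nU X.hB (D.simple i) hc =
        xU X.hB (D.simple i) (-(a (D.simple i))⁻¹) * xU X.hB (D.neg (D.simple i)) (a (D.simple i)) *
          xU X.hB (D.simple i) (-(a (D.simple i))⁻¹) := by
      apply Units.ext
      simp only [Units.val_mul, nU_val, xU_val]
      rw [nMat_eq']
      congr 3
      rw [inv_neg, inv_inv, neg_neg]
    have e3 : xU X.hB (D.simple i) (a (D.simple i))⁻¹ * xU X.hB (D.simple i) (-(a (D.simple i))⁻¹) = 1 := by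
      rw [xU_mul, add_neg_cancel, xU_zero]
    have e4 : xU X.hB (D.simple i) (-(a (D.simple i))⁻¹) * xU X.hB (D.simple i) (a (D.simple i))⁻¹ = 1 := by
      rw [xU_mul, neg_add_cancel, xU_zero]
    have hrk : xU X.hB (D.neg (D.simple i)) (a (D.simple i)) =
        xU X.hB (D.simple i) (a (D.simple i))⁻¹ *
          wordU X.hB (D.hWord (D.simple i) (-(a (D.simple i))⁻¹)) *
          nU X.hB (D.simple i) (one_ne_zero (α := F)) * xU X.hB (D.simple i) (a (D.simple i))⁻¹ := by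
      rw [mul_assoc (xU X.hB (D.simple i) (a (D.simple i))⁻¹), ← e1, e2]
      calc xU X.hB (D.neg (D.simple i)) (a (D.simple i))
          = (xU X.hB (D.simple i) (a (D.simple i))⁻¹ * xU X.hB (D.simple i) (-(a (D.simple i))⁻¹)) *
              xU X.hB (D.neg (D.simple i)) (a (D.simple i)) *
              (xU X.hB (D.simple i) (-(a (D.simple i))⁻¹) * xU X.hB (D.simple i) (a (D.simple i))⁻¹) := by
            rw [e3, e4, one_mul, mul_one]
        _ = _ := by group
    rw [hrk]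
    have m1 : ∀ t : F, xU X.hB (D.simple i) t ∈ RkJ X.hB F [i] :=
      fun t => xU_pos_mem_rkJ X.hB List.mem_cons_self t
    have m2 := hWordU_mem_rkJ (F := F) X.hB (J := [i]) (i := i) List.mem_cons_self
      (-(a (D.simple i))⁻¹)
    have m3 := nU_mem_rkJ (F := F) X.hB (J := [i]) (i := i) List.mem_cons_self
    have k1 := wp_mem_rkJ X.hB J (fun r => (a r)⁻¹)
    have k2 := hJ_mem_rkJ X.hB J a
    have k3 := nJ_mem_rkJ (F := F) X.hB (J := J) (J' := J) (fun i hi => hi)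
    exact four_mul_four (rkJ_comm X hsp hlt1 hlt' hso m2 k1) (rkJ_comm X hsp hlt1 hlt' hso m3 k1)
      (rkJ_comm X hsp hlt1 hlt' hso (m1 _) k1) (rkJ_comm X hsp hlt1 hlt' hso m3 k2)
      (rkJ_comm X hsp hlt1 hlt' hso (m1 _) k2) (rkJ_comm X hsp hlt1 hlt' hso (m1 _) k3)

end main

section decomp

variable (X : Ctx D F) (Δ : BNData D F) (hsp : ∀ i < D.rank, D.nroots / 2 ≤ D.simple i)
include X Δ hsp

theorem wordU_mem_posUnipotent (w : List (ℕ × F))
    (hw : ∀ p ∈ w, D.nroots / 2 ≤ p.1 ∧ p.1 < D.nroots) : wordU X.hB w ∈ D.posUnipotent F := by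
  unfold wordU
  apply Subgroup.list_prod_mem
  intro g hg
  rw [List.mem_map] at hg
  obtain ⟨p, hp, rfl⟩ := hg
  exact Subgroup.subset_closure ⟨p.1, p.2, (X.hsign _ (hw p hp).2).2 (hw p hp).1, rfl⟩

theorem wp_mem_posUnipotent {J : List ℕ} (hJ : ∀ i ∈ J, i < D.rank) (t : ℕ → F) :
    wp X.hB J t ∈ D.posUnipotent F := by
  apply wordU_mem_posUnipotent X Δ hsp
  intro p hp
  simp only [List.map_map, List.mem_map, Function.comp] at hp
  obtain ⟨i, hi, rfl⟩ := hp
  exact ⟨hsp i (hJ i hi), (X.hAll i (hJ i hi)).hS.1⟩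

/-- `U = U_p X_p` for a fundamental root `p` -/
theorem exists_simple_decomp {i : ℕ} (hi : i < D.rank) {u : GL D.Idx F}
    (hu : u ∈ D.posUnipotent F) :
    ∃ v ∈ Uexc D F (D.simple i), ∃ t : F, u = v * xU X.hB (D.simple i) t := by
  have hp := (X.hAll i hi).hS.1
  have hu' : u ∈ ((Uexc D F (D.simple i) ⊔ D.rootSubgroup F (D.simple i) :
      Subgroup (GL D.Idx F)) : Set (GL D.Idx F)) := by
    rw [Uexc_sup_rootSubgroup Δ.hsign' hp (Δ.hpN i hi)]; exact hu
  have hnorm : D.rootSubgroup F (D.simple i) ≤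
      Subgroup.normalizer (Uexc D F (D.simple i) : Set (GL D.Idx F)) :=
    le_trans le_sup_left (rootSubgroup_sup_le_normalizer_Uexc X.hB X.hF (Δ.hR i hi) X.hC Δ.hsign' hp
      (Δ.hpN i hi) (Δ.hnp hi))
  rw [Subgroup.coe_mul_of_right_le_normalizer_left _ _ hnorm, Set.mem_mul] at hu'
  obtain ⟨v, hv, x, hx, rfl⟩ := hu'
  obtain ⟨t, rfl⟩ := (mem_rootSubgroup_iff X.hB).1 hx
  exact ⟨v, hv, t, rfl⟩

/-- `U = U_J X_J` with `n_J U_J n_J⁻¹ ≤ U` -/
theorem exists_decomp : ∀ (J : List ℕ), (∀ i ∈ J, i < D.rank) → J.Pairwise (SO D) →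
    ∀ u ∈ D.posUnipotent F, ∃ v ∈ D.posUnipotent F, ∃ t : ℕ → F,
      u = v * wp X.hB J t ∧ nJ X.hB J * v * (nJ (F := F) X.hB J)⁻¹ ∈ D.posUnipotent F := by
  intro J
  induction J with
  | nil =>
    intro _ _ u hu
    refine ⟨u, hu, fun _ => 0, by rw [wp_nil, mul_one], ?_⟩
    simpa [nJ] using hu
  | cons i J ih =>
    intro hlt hpw u hu
    have hi : i < D.rank := hlt i List.mem_cons_self
    have hlt' : ∀ j ∈ J, j < D.rank := fun j hj => hlt j (List.mem_cons_of_mem _ hj)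
    have hlt1 : ∀ j ∈ [i], j < D.rank := by
      intro j hj; rw [List.mem_singleton] at hj; rw [hj]; exact hi
    have hso := so_of_pairwise X hsp hpw
    obtain ⟨v₁, hv₁, c, rfl⟩ := exists_simple_decomp X Δ hsp hi hu
    have hu' : nU X.hB (D.simple i) (one_ne_zero (α := F)) * v₁ *
        (nU X.hB (D.simple i) (one_ne_zero (α := F)))⁻¹ ∈ D.posUnipotent F :=
      Uexc_le_posUnipotent X.hB X.hF Δ.hn X.hAll Δ.hAdd Δ.hH Δ.hReach hi (Δ.hR i hi) (Δ.hWp i hi)
        X.hC Δ.hsign' (Δ.hpN i hi) (Δ.hnp hi)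
        (nU_conj_mem_Uexc X.hB X.hF Δ.hn X.hAll Δ.hAdd Δ.hH Δ.hReach hi (Δ.hR i hi) (Δ.hWp i hi)
          X.hC Δ.hsign' (Δ.hpN i hi) (Δ.hnp hi) hv₁)
    obtain ⟨v₂, hv₂, t', e', hn'⟩ := ih hlt' (List.pairwise_cons.1 hpw).2 _ hu'
    set ni := nU X.hB (D.simple i) (one_ne_zero (α := F)) with hni
    let t'' : ℕ → F := Function.update t' (D.simple i) c
    have hnotin : ∀ j ∈ J, D.simple j ≠ D.simple i := fun j hj => ((hso i List.mem_cons_self j hj).1).symm
    have ewp : wp X.hB J t'' = wp X.hB J t' := by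
      unfold wp
      congr 1
      rw [List.map_map, List.map_map]
      apply List.map_congr_left
      intro j hj
      simp only [Function.comp, t'', Function.update_of_ne (hnotin j hj)]
    have m3 : ni ∈ RkJ X.hB F [i] := nU_mem_rkJ X.hB List.mem_cons_self
    have m1 : xU X.hB (D.simple i) c ∈ RkJ X.hB F [i] := xU_pos_mem_rkJ X.hB List.mem_cons_self c
    have k1 := wp_mem_rkJ X.hB J t'
    have k3 := nJ_mem_rkJ (F := F) X.hB (J := J) (J' := J) (fun i hi => hi)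
    have c1 : Commute ni (wp X.hB J t') := rkJ_comm X hsp hlt1 hlt' hso m3 k1
    have c2 : Commute (xU X.hB (D.simple i) c) (wp X.hB J t') := rkJ_comm X hsp hlt1 hlt' hso m1 k1
    have c3 : Commute ni (nJ X.hB J) := rkJ_comm X hsp hlt1 hlt' hso m3 k3
    have ewp2 : wp X.hB (i :: J) t'' = xU X.hB (D.simple i) c * wp X.hB J t' := by
      rw [wp_cons, ewp]
      simp only [t'', Function.update_self]
    have eu : v₁ * xU X.hB (D.simple i) c = (ni⁻¹ * v₂ * ni) * wp X.hB (i :: J) t'' := by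
      have : v₁ = ni⁻¹ * (ni * v₁ * ni⁻¹) * ni := by group
      rw [this, e', ewp2]
      calc ni⁻¹ * (v₂ * wp X.hB J t') * ni * xU X.hB (D.simple i) c
          = ni⁻¹ * v₂ * (wp X.hB J t' * ni) * xU X.hB (D.simple i) c := by group
        _ = ni⁻¹ * v₂ * (ni * wp X.hB J t') * xU X.hB (D.simple i) c := by rw [c1.eq]
        _ = ni⁻¹ * v₂ * ni * (wp X.hB J t' * xU X.hB (D.simple i) c) := by group
        _ = _ := by rw [c2.eq]
    have hwpU := wp_mem_posUnipotent X Δ hsp hlt t''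
    have hvU : ni⁻¹ * v₂ * ni ∈ D.posUnipotent F := by
      have : ni⁻¹ * v₂ * ni = (v₁ * xU X.hB (D.simple i) c) * (wp X.hB (i :: J) t'')⁻¹ := by
        rw [eu]; group
      rw [this]
      exact Subgroup.mul_mem _ hu (Subgroup.inv_mem _ hwpU)
    refine ⟨ni⁻¹ * v₂ * ni, hvU, t'', eu, ?_⟩
    rw [nJ_cons, ← hni]
    have : ni * nJ X.hB J * (ni⁻¹ * v₂ * ni) * (ni * nJ (F := F) X.hB J)⁻¹ =
        nJ X.hB J * v₂ * (nJ (F := F) X.hB J)⁻¹ := by
      rw [c3.eq]; group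
    rw [this]
    exact hn'

end decomp

theorem wR_self (p : ℕ) : wR D p p = D.neg p := by unfold wR; rw [if_pos rfl]

theorem etaR_self (p : ℕ) : etaR D p p = -1 := by unfold etaR; rw [if_pos (Or.inl rfl)]

theorem wR_neg_self (hB : BasicOK D) {p : ℕ} (hp : p < D.nroots) : wR D p (D.neg p) = p := by
  unfold wR
  rw [if_neg (hB.neg p hp).2.1, if_pos rfl]

theorem etaR_neg_self (p : ℕ) : etaR D p (D.neg p) = -1 := by
  unfold etaR; rw [if_pos (Or.inr rfl)]

section algebra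

variable (X : Ctx D F) (Δ : BNData D F) (hsp : ∀ i < D.rank, D.nroots / 2 ≤ D.simple i)
include X Δ hsp

theorem nJ_mem_monomial {J : List ℕ} (hJ : ∀ i ∈ J, i < D.rank) :
    nJ (F := F) X.hB J ∈ D.monomialSubgroup F := by
  unfold nJ
  apply Subgroup.list_prod_mem
  intro g hg
  rw [List.mem_map] at hg
  obtain ⟨i, hi, rfl⟩ := hg
  exact nU_one_mem_monomial X.hB (X.hAll i (hJ i hi)).hS.1

/-- `n_J² ∈ H` -/
theorem nJ_sq_mem_diagonal : ∀ (J : List ℕ), (∀ i ∈ J, i < D.rank) → J.Pairwise (SO D) →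
    nJ (F := F) X.hB J * nJ X.hB J ∈ D.diagonalSubgroup F := by
  intro J
  induction J with
  | nil => intro _ _; simp [nJ]
  | cons i J ih =>
    intro hlt hpw
    have hi : i < D.rank := hlt i List.mem_cons_self
    have hlt' : ∀ j ∈ J, j < D.rank := fun j hj => hlt j (List.mem_cons_of_mem _ hj)
    have hlt1 : ∀ j ∈ [i], j < D.rank := by
      intro j hj; rw [List.mem_singleton] at hj; rw [hj]; exact hi
    have hso := so_of_pairwise X hsp hpw
    have m3 : nU X.hB (D.simple i) (one_ne_zero (α := F)) ∈ RkJ X.hB F [i] :=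
      nU_mem_rkJ X.hB List.mem_cons_self
    have k3 := nJ_mem_rkJ (F := F) X.hB (J := J) (J' := J) (fun i hi => hi)
    have c3 : Commute (nU X.hB (D.simple i) (one_ne_zero (α := F))) (nJ X.hB J) :=
      rkJ_comm X hsp hlt1 hlt' hso m3 k3
    rw [nJ_cons]
    have : nU X.hB (D.simple i) (one_ne_zero (α := F)) * nJ X.hB J *
        (nU X.hB (D.simple i) (one_ne_zero (α := F)) * nJ X.hB J) =
        (nU X.hB (D.simple i) (one_ne_zero (α := F)) * nU X.hB (D.simple i) (one_ne_zero (α := F))) *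
          (nJ X.hB J * nJ X.hB J) := by
      calc _ = nU X.hB (D.simple i) (one_ne_zero (α := F)) *
            (nJ X.hB J * nU X.hB (D.simple i) (one_ne_zero (α := F))) * nJ X.hB J := by group
        _ = nU X.hB (D.simple i) (one_ne_zero (α := F)) *
            (nU X.hB (D.simple i) (one_ne_zero (α := F)) * nJ X.hB J) * nJ X.hB J := by rw [c3.eq]
        _ = _ := by group
    rw [this]
    exact Subgroup.mul_mem _ (nU_sq_mem_diagonal X.hB (X.hAll i hi).hS.1)
      (ih hlt' (List.pairwise_cons.1 hpw).2)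

theorem wp_zero (J : List ℕ) : wp X.hB J (fun _ => (0 : F)) = 1 := by
  induction J with
  | nil => exact wp_nil _ _
  | cons i J ih => rw [wp_cons, ih, xU_zero, mul_one]

/-- `x_J(t) x_J(t') = x_J(t + t')` -/
theorem wp_mul : ∀ (J : List ℕ), (∀ i ∈ J, i < D.rank) → J.Pairwise (SO D) → ∀ t t' : ℕ → F,
    wp X.hB J t * wp X.hB J t' = wp X.hB J (fun r => t r + t' r) := by
  intro J
  induction J with
  | nil => intro _ _ t t'; simp [wp_nil]
  | cons i J ih =>
    intro hlt hpw t t'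
    have hi : i < D.rank := hlt i List.mem_cons_self
    have hlt' : ∀ j ∈ J, j < D.rank := fun j hj => hlt j (List.mem_cons_of_mem _ hj)
    have hlt1 : ∀ j ∈ [i], j < D.rank := by
      intro j hj; rw [List.mem_singleton] at hj; rw [hj]; exact hi
    have hso := so_of_pairwise X hsp hpw
    have m1 : xU X.hB (D.simple i) (t' (D.simple i)) ∈ RkJ X.hB F [i] :=
      xU_pos_mem_rkJ X.hB List.mem_cons_self _
    have k1 := wp_mem_rkJ X.hB J t
    have c1 : Commute (xU X.hB (D.simple i) (t' (D.simple i))) (wp X.hB J t) :=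
      rkJ_comm X hsp hlt1 hlt' hso m1 k1
    rw [wp_cons, wp_cons, wp_cons, ← ih hlt' (List.pairwise_cons.1 hpw).2 t t', ← xU_mul]
    calc xU X.hB (D.simple i) (t (D.simple i)) * wp X.hB J t *
          (xU X.hB (D.simple i) (t' (D.simple i)) * wp X.hB J t')
        = xU X.hB (D.simple i) (t (D.simple i)) *
            (wp X.hB J t * xU X.hB (D.simple i) (t' (D.simple i))) * wp X.hB J t' := by group
      _ = xU X.hB (D.simple i) (t (D.simple i)) *
            (xU X.hB (D.simple i) (t' (D.simple i)) * wp X.hB J t) * wp X.hB J t' := by rw [c1.eq]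
      _ = _ := by group

theorem wp_inv {J : List ℕ} (hJ : ∀ i ∈ J, i < D.rank) (hpw : J.Pairwise (SO D)) (t : ℕ → F) :
    (wp X.hB J t)⁻¹ = wp X.hB J (fun r => -t r) := by
  rw [inv_eq_iff_mul_eq_one, wp_mul X Δ hsp J hJ hpw]
  simp only [add_neg_cancel]
  exact wp_zero X Δ hsp J


/-- `n_J x_J(t) n_J⁻¹ = x_{-J}(-t)` -/
theorem nJ_conj_wp : ∀ (J : List ℕ), (∀ i ∈ J, i < D.rank) → J.Pairwise (SO D) → ∀ t : ℕ → F,
    nJ X.hB J * wp X.hB J t * (nJ (F := F) X.hB J)⁻¹ = wn X.hB J (fun r => -t r) := by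
  intro J
  induction J with
  | nil => intro _ _ t; simp [wp_nil, wn_nil, nJ]
  | cons i J ih =>
    intro hlt hpw t
    have hi : i < D.rank := hlt i List.mem_cons_self
    have hlt' : ∀ j ∈ J, j < D.rank := fun j hj => hlt j (List.mem_cons_of_mem _ hj)
    have hlt1 : ∀ j ∈ [i], j < D.rank := by
      intro j hj; rw [List.mem_singleton] at hj; rw [hj]; exact hi
    have hso := so_of_pairwise X hsp hpw
    have hA := X.hAll i hi
    set ni := nU X.hB (D.simple i) (one_ne_zero (α := F)) with hni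
    have m3 : ni ∈ RkJ X.hB F [i] := nU_mem_rkJ X.hB List.mem_cons_self
    have m1 : xU X.hB (D.simple i) (t (D.simple i)) ∈ RkJ X.hB F [i] :=
      xU_pos_mem_rkJ X.hB List.mem_cons_self _
    have k1 := wp_mem_rkJ X.hB J t
    have k3 := nJ_mem_rkJ (F := F) X.hB (J := J) (J' := J) (fun i hi => hi)
    have c1 : Commute ni (wp X.hB J t) := rkJ_comm X hsp hlt1 hlt' hso m3 k1
    have c2 : Commute (xU X.hB (D.simple i) (t (D.simple i))) (nJ X.hB J) :=
      rkJ_comm X hsp hlt1 hlt' hso m1 k3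
    have c3 : Commute ni (nJ X.hB J) := rkJ_comm X hsp hlt1 hlt' hso m3 k3
    have c4 : Commute ni (nJ X.hB J * wp X.hB J t * (nJ (F := F) X.hB J)⁻¹) :=
      (c3.mul_right c1).mul_right c3.inv_right
    have hconj := nU_conj_xU (F := F) X.hB hA hA.hS.1 (t (D.simple i))
    rw [wR_self, etaR_self, ← hni] at hconj
    rw [nJ_cons, wp_cons, wn_cons, ← hni, ← ih hlt' (List.pairwise_cons.1 hpw).2 t]
    have e : ni * nJ X.hB J * (xU X.hB (D.simple i) (t (D.simple i)) * wp X.hB J t) *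
        (ni * nJ (F := F) X.hB J)⁻¹ =
        ni * (nJ X.hB J * xU X.hB (D.simple i) (t (D.simple i))) * wp X.hB J t *
          (nJ (F := F) X.hB J)⁻¹ * ni⁻¹ := by group
    rw [e, ← c2.eq]
    calc ni * (xU X.hB (D.simple i) (t (D.simple i)) * nJ X.hB J) * wp X.hB J t *
          (nJ (F := F) X.hB J)⁻¹ * ni⁻¹
        = ni * xU X.hB (D.simple i) (t (D.simple i)) *
            ((nJ X.hB J * wp X.hB J t * (nJ (F := F) X.hB J)⁻¹) * ni⁻¹) := by group
      _ = ni * xU X.hB (D.simple i) (t (D.simple i)) *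
            (ni⁻¹ * (nJ X.hB J * wp X.hB J t * (nJ (F := F) X.hB J)⁻¹)) := by
          rw [(c4.inv_left).eq]
      _ = (ni * xU X.hB (D.simple i) (t (D.simple i)) * ni⁻¹) *
            (nJ X.hB J * wp X.hB J t * (nJ (F := F) X.hB J)⁻¹) := by group
      _ = _ := by
          rw [hconj]
          congr 2
          push_cast
          ring

/-- `n_J x_{-J}(t) n_J⁻¹ = x_J(-t)` -/
theorem nJ_conj_wn : ∀ (J : List ℕ), (∀ i ∈ J, i < D.rank) → J.Pairwise (SO D) → ∀ t : ℕ → F,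
    nJ X.hB J * wn X.hB J t * (nJ (F := F) X.hB J)⁻¹ = wp X.hB J (fun r => -t r) := by
  intro J
  induction J with
  | nil => intro _ _ t; simp [wp_nil, wn_nil, nJ]
  | cons i J ih =>
    intro hlt hpw t
    have hi : i < D.rank := hlt i List.mem_cons_self
    have hlt' : ∀ j ∈ J, j < D.rank := fun j hj => hlt j (List.mem_cons_of_mem _ hj)
    have hlt1 : ∀ j ∈ [i], j < D.rank := by
      intro j hj; rw [List.mem_singleton] at hj; rw [hj]; exact hi
    have hso := so_of_pairwise X hsp hpw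
    have hA := X.hAll i hi
    set ni := nU X.hB (D.simple i) (one_ne_zero (α := F)) with hni
    have m3 : ni ∈ RkJ X.hB F [i] := nU_mem_rkJ X.hB List.mem_cons_self
    have m1 : xU X.hB (D.neg (D.simple i)) (t (D.simple i)) ∈ RkJ X.hB F [i] :=
      xU_neg_mem_rkJ X.hB List.mem_cons_self _
    have k1 := wn_mem_rkJ X.hB J t
    have k3 := nJ_mem_rkJ (F := F) X.hB (J := J) (J' := J) (fun i hi => hi)
    have c1 : Commute ni (wn X.hB J t) := rkJ_comm X hsp hlt1 hlt' hso m3 k1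
    have c2 : Commute (xU X.hB (D.neg (D.simple i)) (t (D.simple i))) (nJ X.hB J) :=
      rkJ_comm X hsp hlt1 hlt' hso m1 k3
    have c3 : Commute ni (nJ X.hB J) := rkJ_comm X hsp hlt1 hlt' hso m3 k3
    have c4 : Commute ni (nJ X.hB J * wn X.hB J t * (nJ (F := F) X.hB J)⁻¹) :=
      (c3.mul_right c1).mul_right c3.inv_right
    have hconj := nU_conj_xU (F := F) X.hB hA (X.hB.neg _ hA.hS.1).1 (t (D.simple i))
    rw [wR_neg_self X.hB hA.hS.1, etaR_neg_self, ← hni] at hconj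
    rw [nJ_cons, wp_cons, wn_cons, ← hni, ← ih hlt' (List.pairwise_cons.1 hpw).2 t]
    have e : ni * nJ X.hB J * (xU X.hB (D.neg (D.simple i)) (t (D.simple i)) * wn X.hB J t) *
        (ni * nJ (F := F) X.hB J)⁻¹ =
        ni * (nJ X.hB J * xU X.hB (D.neg (D.simple i)) (t (D.simple i))) * wn X.hB J t *
          (nJ (F := F) X.hB J)⁻¹ * ni⁻¹ := by group
    rw [e, ← c2.eq]
    calc ni * (xU X.hB (D.neg (D.simple i)) (t (D.simple i)) * nJ X.hB J) * wn X.hB J t *
          (nJ (F := F) X.hB J)⁻¹ * ni⁻¹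
        = ni * xU X.hB (D.neg (D.simple i)) (t (D.simple i)) *
            ((nJ X.hB J * wn X.hB J t * (nJ (F := F) X.hB J)⁻¹) * ni⁻¹) := by group
      _ = ni * xU X.hB (D.neg (D.simple i)) (t (D.simple i)) *
            (ni⁻¹ * (nJ X.hB J * wn X.hB J t * (nJ (F := F) X.hB J)⁻¹)) := by
          rw [(c4.inv_left).eq]
      _ = (ni * xU X.hB (D.neg (D.simple i)) (t (D.simple i)) * ni⁻¹) *
            (nJ X.hB J * wn X.hB J t * (nJ (F := F) X.hB J)⁻¹) := by group
      _ = _ := by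
          rw [hconj]
          congr 2
          push_cast
          ring

/-- `n_J⁻¹ x_J(t) n_J = x_{-J}(-t)` -/
theorem nJ_inv_conj_wp {J : List ℕ} (hJ : ∀ i ∈ J, i < D.rank) (hpw : J.Pairwise (SO D))
    (t : ℕ → F) :
    (nJ (F := F) X.hB J)⁻¹ * wp X.hB J t * nJ X.hB J = wn X.hB J (fun r => -t r) := by
  have h := nJ_conj_wn X Δ hsp J hJ hpw (fun r => -t r)
  simp only [neg_neg] at h
  rw [← h]
  group

theorem wn_mem_negUnipotent {J : List ℕ} (hJ : ∀ i ∈ J, i < D.rank) (t : ℕ → F) :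
    wn X.hB J t ∈ D.negUnipotent F := by
  unfold wn wordU
  apply Subgroup.list_prod_mem
  intro g hg
  simp only [List.map_map, List.mem_map, Function.comp] at hg
  obtain ⟨i, hi, rfl⟩ := hg
  have hlt := (X.hAll i (hJ i hi)).hS.1
  exact Subgroup.subset_closure ⟨_, _, ((Δ.hsign _ (X.hB.neg _ hlt).1).2).2
    (X.hneg _ hlt (hsp i (hJ i hi))), rfl⟩

end algebra

end Cfsg.Agent.Helper11.TwBNA
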