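import Mathlib
import Cfsg.Agent.Helper11.TwBNA

/-!
# The twisting automorphism `σ` and the subgroups `U`, `H`, `B`, `N`

`σ` stabilises `U` and `H`; a `σ`-fixed element of `B = UH` has `σ`-fixed components; elements of
`N` fixed by `σ` make the root subgroups of an orbit of fundamental roots all positive or all
negative.
-/

set_option autoImplicit false
set_option linter.unusedSectionVars false
set_option linter.unusedVariables false

namespace Cfsg.Agent.Helper11.TwBNB

open Cfsg.Lie Cfsg.Agent.Helper6 Cfsg.Agent.Helper11.ChevGraphAut Cfsg.Agent.Helper11.TwUProd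
  Cfsg.Agent.Helper11.TwSigma Cfsg.Agent.Helper11.TwFix Cfsg.Agent.Helper11.TwCtx
  Cfsg.Agent.Helper11.TwReach Cfsg.Agent.Helper11.TwBNA

variable {D : ChevalleyDatum} {F : Type*} [Field F]

section main

variable (X : Ctx D F) (Δ : BNData D F) (hsp : ∀ i < D.rank, D.nroots / 2 ≤ D.simple i)
include X Δ hsp

/-- `σ` preserves the positive roots -/
theorem sig_pos {r : ℕ} (hr : r < D.nroots) (hN : D.nroots / 2 ≤ r) :
    D.nroots / 2 ≤ X.σ r ∧ X.σ r < D.nroots := by
  have hmem := X.hcov.cov r hN hr (Nat.zero_le _)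
  rw [List.mem_flatten] at hmem
  obtain ⟨C, hC, hrC⟩ := hmem
  have hCl := (X.hcls C hC).1
  have : X.σ r ∈ C := hCl.perm.mem_iff.1 (List.mem_map.2 ⟨r, hrC, rfl⟩)
  exact hCl.pos _ this

/-- `σ(U) ≤ U` -/
theorem sig_mem_posUnipotent {u : GL D.Idx F} (hu : u ∈ D.posUnipotent F) :
    X.sig u ∈ D.posUnipotent F := by
  unfold ChevalleyDatum.posUnipotent at hu
  induction hu using Subgroup.closure_induction with
  | mem g hg =>
    obtain ⟨r, t, hr, hg⟩ := hg
    have hgr : g = xU X.hB r t := Units.ext (by rw [hg, xU_val])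
    rw [hgr, X.sig_xU hr.1]
    have := sig_pos X Δ hsp hr.1 ((X.hsign r hr.1).1 hr)
    exact Subgroup.subset_closure ⟨_, _, (X.hsign _ this.2).2 this.1, rfl⟩
  | one => rw [map_one]; exact Subgroup.one_mem _
  | mul a b _ _ iha ihb => rw [map_mul]; exact Subgroup.mul_mem _ iha ihb
  | inv a _ iha => rw [map_inv]; exact Subgroup.inv_mem _ iha

theorem wordU_nWord {r : ℕ} {c : F} (hc : c ≠ 0) : wordU X.hB (D.nWord r c) = nU X.hB r hc := by
  apply Units.ext
  rw [wordU_val, nU_val]
  rfl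

/-- `σ(h_r(t)) ∈ H` -/
theorem sig_hWord_mem {r : ℕ} (hr : r < D.nroots) {t : F} (ht : t ≠ 0) :
    X.sig (wordU X.hB (D.hWord r t)) ∈ D.diagonalSubgroup F := by
  have hnr := X.hB.neg r hr
  obtain ⟨he2, hneg, -⟩ := X.hR r hr
  have hs := (X.hG.2.1 r hr).1
  have hft : X.f t ≠ 0 := by
    intro h; apply ht
    have := congrArg X.f.symm h
    simpa using this
  rw [X.sig_wordU]
  swap
  · intro p hp
    simp only [ChevalleyDatum.hWord, ChevalleyDatum.nWord, List.cons_append, List.nil_append,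
      List.mem_cons, List.not_mem_nil, or_false] at hp
    rcases hp with rfl | rfl | rfl | rfl | rfl | rfl
    all_goals first | exact hr | exact hnr.1
  simp only [ChevalleyDatum.hWord, ChevalleyDatum.nWord, List.cons_append, List.nil_append,
    List.map_cons, List.map_nil, he2, hneg, map_neg, map_inv₀, map_one]
  rcases (X.hG.2.1 r hr).2 with h1 | h1
  · simp only [h1, Int.cast_one, one_mul]
    have : wordU X.hB [(X.σ r, X.f t), (D.neg (X.σ r), -(X.f t)⁻¹), (X.σ r, X.f t), (X.σ r, -1),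
        (D.neg (X.σ r), -(-1 : F)⁻¹), (X.σ r, -1)] = wordU X.hB (D.hWord (X.σ r) (X.f t)) := rfl
    rw [this]
    exact hWordU_mem_diagonal X.hB hs hft
  · simp only [h1, Int.cast_neg, Int.cast_one, neg_mul, one_mul, neg_neg]
    have hc : -X.f t ≠ 0 := neg_ne_zero.2 hft
    have e0 : wordU X.hB [(X.σ r, -X.f t), (D.neg (X.σ r), (X.f t)⁻¹), (X.σ r, -X.f t), (X.σ r, 1),
        (D.neg (X.σ r), (-1 : F)⁻¹), (X.σ r, 1)] =
        wordU X.hB (D.nWord (X.σ r) (-X.f t)) * wordU X.hB (D.nWord (X.σ r) 1) := by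
      rw [← wordU_app]
      congr 1
      simp only [ChevalleyDatum.nWord, List.cons_append, List.nil_append, inv_neg, neg_neg, inv_one]
    rw [e0, wordU_nWord X Δ hsp hc, wordU_nWord X Δ hsp (one_ne_zero (α := F))]
    have e1 : nU X.hB (X.σ r) hc = wordU X.hB (D.hWord (X.σ r) (-X.f t)) *
        nU X.hB (X.σ r) (one_ne_zero (α := F)) := by
      apply Units.ext
      simp only [Units.val_mul, nU_val, wordU_val]
      exact nMat_eq_hMat_mul X.hB _ _
    rw [e1, mul_assoc]
    exact Subgroup.mul_mem _ (hWordU_mem_diagonal X.hB hs hc) (nU_sq_mem_diagonal X.hB hs)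

/-- `σ(H) ≤ H` -/
theorem sig_mem_diagonal {h : GL D.Idx F} (hh : h ∈ D.diagonalSubgroup F) :
    X.sig h ∈ D.diagonalSubgroup F := by
  unfold ChevalleyDatum.diagonalSubgroup at hh
  induction hh using Subgroup.closure_induction with
  | mem g hg =>
    obtain ⟨r, t, hr, ht, hg⟩ := hg
    have hgr : g = wordU X.hB (D.hWord r t) := Units.ext (by rw [hg, wordU_val]; rfl)
    rw [hgr]
    exact sig_hWord_mem X Δ hsp hr ht
  | one => rw [map_one]; exact Subgroup.one_mem _
  | mul a b _ _ iha ihb => rw [map_mul]; exact Subgroup.mul_mem _ iha ihb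
  | inv a _ iha => rw [map_inv]; exact Subgroup.inv_mem _ iha

/-- a `σ`-fixed element of `B = UH` has `σ`-fixed components -/
theorem borel_fix_decomp {b : GL D.Idx F} (hb : b ∈ D.borelSubgroup F) (hfix : X.sig b = b) :
    ∃ u ∈ D.posUnipotent F, ∃ h ∈ D.diagonalSubgroup F, X.sig u = u ∧ X.sig h = h ∧ b = u * h := by
  have hb' : b ∈ ((D.posUnipotent F ⊔ D.diagonalSubgroup F : Subgroup (GL D.Idx F)) :
      Set (GL D.Idx F)) := hb
  rw [Subgroup.coe_mul_of_right_le_normalizer_left _ _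
    (diagonal_le_normalizer_posUnipotent X.hB X.hAll Δ.hAdd Δ.hH), Set.mem_mul] at hb'
  obtain ⟨u, hu, h, hh, rfl⟩ := hb'
  have hu' := sig_mem_posUnipotent X Δ hsp hu
  have hh' := sig_mem_diagonal X Δ hsp hh
  rw [map_mul] at hfix
  have e : u⁻¹ * X.sig u = h * (X.sig h)⁻¹ := by
    have : X.sig u = u * h * (X.sig h)⁻¹ := by rw [← hfix]; group
    rw [this]; group
  have hmem : u⁻¹ * X.sig u ∈ D.posUnipotent F ⊓ D.diagonalSubgroup F :=
    ⟨Subgroup.mul_mem _ (Subgroup.inv_mem _ hu) hu',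
      by rw [e]; exact Subgroup.mul_mem _ hh (Subgroup.inv_mem _ hh')⟩
  rw [posUnipotent_inf_diagonal X.hB Δ.hH Δ.good, Subgroup.mem_bot] at hmem
  have hu1 : X.sig u = u := by
    have : X.sig u = u * (u⁻¹ * X.sig u) := by group
    rw [this, hmem, mul_one]
  have hh1 : X.sig h = h := by
    rw [hu1] at hfix
    exact mul_left_cancel hfix
  exact ⟨u, hu, h, hh, hu1, hh1, rfl⟩

/-- `n⁻¹ X_{p_i} n ≤ U` -/
def PosAt (n : GL D.Idx F) (i : ℕ) : Prop :=
  ∀ t : F, n⁻¹ * xU X.hB (D.simple i) t * n ∈ D.posUnipotent F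

/-- `n⁻¹ X_{-p_i} n ≤ U` -/
def NegAt (n : GL D.Idx F) (i : ℕ) : Prop :=
  ∀ t : F, n⁻¹ * xU X.hB (D.neg (D.simple i)) t * n ∈ D.posUnipotent F

theorem posAt_or_negAt {n : GL D.Idx F} (hn : n ∈ D.monomialSubgroup F) {i : ℕ} (hi : i < D.rank) :
    PosAt X n i ∨ NegAt X n i := by
  have hp := (X.hAll i hi).hS.1
  obtain ⟨-, π, c, hπ⟩ := monomial_le_rootPermSub X.hB X.hAll Δ.hAdd Δ.hH Δ.hReach hn
  obtain ⟨hq, hqneg, hconj⟩ := hπ _ hp
  obtain ⟨hq', -, hconj'⟩ := hπ _ (X.hB.neg _ hp).1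
  simp only [inv_inv] at hconj hconj'
  by_cases hqN : D.nroots / 2 ≤ π (D.simple i)
  · left
    intro t
    rw [hconj]
    exact Subgroup.subset_closure ⟨_, _, (X.hsign _ hq).2 hqN, rfl⟩
  · right
    intro t
    rw [hconj', hqneg]
    have := Δ.hnegpos hq (by omega)
    exact Subgroup.subset_closure ⟨_, _, (X.hsign _ (X.hB.neg _ hq).1).2 this, rfl⟩

theorem posAt_rho {n : GL D.Idx F} (hn : X.sig n = n) {i : ℕ} (hi : i < D.rank)
    (h : PosAt X n i) : PosAt X n (X.ρ i) := by
  intro t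
  obtain ⟨h1, h2, -, -⟩ := sig_simple X hi
  have hp := (X.hAll i hi).hS.1
  have := sig_mem_posUnipotent X Δ hsp (h (X.f.symm t))
  rw [map_mul, map_mul, map_inv, hn, X.sig_xU hp, h1, h2, Int.cast_one, one_mul,
    RingEquiv.apply_symm_apply] at this
  exact this

theorem negAt_rho {n : GL D.Idx F} (hn : X.sig n = n) {i : ℕ} (hi : i < D.rank)
    (h : NegAt X n i) : NegAt X n (X.ρ i) := by
  intro t
  obtain ⟨-, -, h1, h2⟩ := sig_simple X hi
  have hp := (X.hAll i hi).hS.1
  have := sig_mem_posUnipotent X Δ hsp (h (X.f.symm t))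
  rw [map_mul, map_mul, map_inv, hn, X.sig_xU (X.hB.neg _ hp).1, h1, h2, Int.cast_one, one_mul,
    RingEquiv.apply_symm_apply] at this
  exact this

/-- the dichotomy for an orbit -/
theorem orb_posAt_or_negAt {n : GL D.Idx F} (hn : n ∈ D.monomialSubgroup F) (hfix : X.sig n = n)
    {J : List ℕ} (hJ : OrbOK D X.ρ J) :
    (∀ i ∈ J, PosAt X n i) ∨ (∀ i ∈ J, NegAt X n i) := by
  match J, hJ with
  | [i], hJ =>
    rcases posAt_or_negAt X Δ hsp hn hJ.1 with h | h
    · left; intro j hj; rw [List.mem_singleton] at hj; rw [hj]; exact h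
    · right; intro j hj; rw [List.mem_singleton] at hj; rw [hj]; exact h
  | [i, j], hJ =>
    obtain ⟨hi, hj, hρi, hρj, -⟩ := hJ
    rcases posAt_or_negAt X Δ hsp hn hi with h | h
    · left
      intro k hk
      simp only [List.mem_cons, List.not_mem_nil, or_false] at hk
      rcases hk with rfl | rfl
      · exact h
      · rw [← hρi]; exact posAt_rho X Δ hsp hfix hi h
    · right
      intro k hk
      simp only [List.mem_cons, List.not_mem_nil, or_false] at hk
      rcases hk with rfl | rfl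
      · exact h
      · rw [← hρi]; exact negAt_rho X Δ hsp hfix hi h
  | [i, j, k], hJ =>
    obtain ⟨hi, hj, hk, hρi, hρj, hρk, -⟩ := hJ
    rcases posAt_or_negAt X Δ hsp hn hi with h | h
    · left
      have h2 := posAt_rho X Δ hsp hfix hi h
      rw [hρi] at h2
      have h3 := posAt_rho X Δ hsp hfix hj h2
      rw [hρj] at h3
      intro l hl
      simp only [List.mem_cons, List.not_mem_nil, or_false] at hl
      rcases hl with rfl | rfl | rfl
      · exact h
      · exact h2
      · exact h3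
    · right
      have h2 := negAt_rho X Δ hsp hfix hi h
      rw [hρi] at h2
      have h3 := negAt_rho X Δ hsp hfix hj h2
      rw [hρj] at h3
      intro l hl
      simp only [List.mem_cons, List.not_mem_nil, or_false] at hl
      rcases hl with rfl | rfl | rfl
      · exact h
      · exact h2
      · exact h3

theorem conj_wp_mem {n : GL D.Idx F} : ∀ (J : List ℕ), (∀ i ∈ J, PosAt X n i) → ∀ t : ℕ → F,
    n⁻¹ * wp X.hB J t * n ∈ D.posUnipotent F := by
  intro J
  induction J with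
  | nil => intro _ t; simp [wp_nil]
  | cons i J ih =>
    intro h t
    rw [wp_cons]
    have : n⁻¹ * (xU X.hB (D.simple i) (t (D.simple i)) * wp X.hB J t) * n =
        (n⁻¹ * xU X.hB (D.simple i) (t (D.simple i)) * n) * (n⁻¹ * wp X.hB J t * n) := by group
    rw [this]
    exact Subgroup.mul_mem _ (h i List.mem_cons_self _)
      (ih (fun j hj => h j (List.mem_cons_of_mem _ hj)) t)

theorem conj_wn_mem {n : GL D.Idx F} : ∀ (J : List ℕ), (∀ i ∈ J, NegAt X n i) → ∀ t : ℕ → F,
    n⁻¹ * wn X.hB J t * n ∈ D.posUnipotent F := by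
  intro J
  induction J with
  | nil => intro _ t; simp [wn_nil]
  | cons i J ih =>
    intro h t
    rw [wn_cons]
    have : n⁻¹ * (xU X.hB (D.neg (D.simple i)) (t (D.simple i)) * wn X.hB J t) * n =
        (n⁻¹ * xU X.hB (D.neg (D.simple i)) (t (D.simple i)) * n) * (n⁻¹ * wn X.hB J t * n) := by
      group
    rw [this]
    exact Subgroup.mul_mem _ (h i List.mem_cons_self _)
      (ih (fun j hj => h j (List.mem_cons_of_mem _ hj)) t)

end main

end Cfsg.Agent.Helper11.TwBNB
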