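import Mathlib
import Cfsg.Agent.Helper11.TwBNB

/-!
# The double coset condition for a twisted group

For an orbit `J` of fundamental roots, `n ∈ N ∩ G¹`, `b ∈ B ∩ G¹`:
`n_J b n ∈ B¹ n_J n B¹ ∪ B¹ n B¹`, where `B¹ = B ∩ G¹`.
-/

set_option autoImplicit false
set_option linter.unusedSectionVars false
set_option linter.unusedVariables false

namespace Cfsg.Agent.Helper11.TwBNC

open Cfsg.Lie Cfsg.Agent.Helper6 Cfsg.Agent.Helper11.ChevGraphAut Cfsg.Agent.Helper11.TwUProd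
  Cfsg.Agent.Helper11.TwSigma Cfsg.Agent.Helper11.TwFix Cfsg.Agent.Helper11.TwCtx
  Cfsg.Agent.Helper11.TwReach Cfsg.Agent.Helper11.TwBNA Cfsg.Agent.Helper11.TwBNB

variable {D : ChevalleyDatum} {F : Type*} [Field F]

theorem OrbOK.pairwise {ρ : ℕ → ℕ} : ∀ {J : List ℕ}, OrbOK D ρ J → J.Pairwise (SO D)
  | [a], _ => List.pairwise_singleton _ _
  | [a, b], h => by
    simp only [List.pairwise_cons, List.mem_cons, List.not_mem_nil, or_false, forall_eq,
      false_imp_iff, implies_true, List.Pairwise.nil, and_true]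
    exact h.2.2.2.2
  | [a, b, c], h => by
    obtain ⟨_, _, _, _, _, _, hab, hac, hbc⟩ := h
    simp only [List.pairwise_cons, List.mem_cons, List.not_mem_nil, or_false, forall_eq_or_imp,
      forall_eq, false_imp_iff, implies_true, List.Pairwise.nil, and_true]
    exact ⟨⟨hab, hac⟩, hbc⟩

/-- an orbit is stable under the inverse of the graph automorphism -/
theorem OrbOK.rho' {ρ ρ' : ℕ → ℕ}
    (hρ : ∀ i < D.rank, ρ i < D.rank ∧ ρ' i < D.rank ∧ ρ' (ρ i) = i ∧ ρ (ρ' i) = i) :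
    ∀ {J : List ℕ}, OrbOK D ρ J → ∀ j ∈ J, ρ' j ∈ J
  | [a], h, j, hj => by
    rw [List.mem_singleton] at hj
    subst hj
    have := (hρ j h.1).2.2.1
    rw [h.2] at this
    rw [this]; exact List.mem_singleton.2 rfl
  | [a, b], h, j, hj => by
    obtain ⟨ha, hb, h1, h2, _⟩ := h
    have ea := (hρ a ha).2.2.1
    have eb := (hρ b hb).2.2.1
    rw [h1] at ea
    rw [h2] at eb
    simp only [List.mem_cons, List.not_mem_nil, or_false] at hj ⊢
    rcases hj with rfl | rfl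
    · right; exact eb
    · left; exact ea
  | [a, b, c], h, j, hj => by
    obtain ⟨ha, hb, hc, h1, h2, h3, _⟩ := h
    have ea := (hρ a ha).2.2.1
    have eb := (hρ b hb).2.2.1
    have ec := (hρ c hc).2.2.1
    rw [h1] at ea
    rw [h2] at eb
    rw [h3] at ec
    simp only [List.mem_cons, List.not_mem_nil, or_false] at hj ⊢
    rcases hj with rfl | rfl | rfl
    · right; right; exact ec
    · left; exact ea
    · right; left; exact eb

/-- a function on an orbit which vanishes at `ρ' j` whenever it vanishes at `j` vanishes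
everywhere or nowhere -/
theorem OrbOK.zero_or {ρ ρ' : ℕ → ℕ}
    (hρ : ∀ i < D.rank, ρ i < D.rank ∧ ρ' i < D.rank ∧ ρ' (ρ i) = i ∧ ρ (ρ' i) = i)
    {J : List ℕ} (hJ : OrbOK D ρ J) (P : ℕ → Prop) (hP : ∀ j ∈ J, P j ↔ P (ρ' j)) :
    (∀ j ∈ J, P j) ∨ (∀ j ∈ J, ¬ P j) := by
  match J, hJ, hP with
  | [a], _, _ =>
    by_cases h : P a
    · left; intro j hj; rw [List.mem_singleton] at hj; rw [hj]; exact h
    · right; intro j hj; rw [List.mem_singleton] at hj; rw [hj]; exact h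
  | [a, b], h, hP =>
    obtain ⟨ha, hb, h1, h2, _⟩ := h
    have ea := (hρ a ha).2.2.1
    rw [h1] at ea
    have kb := hP b (by simp)
    rw [ea] at kb
    by_cases h : P a
    · left
      intro j hj
      simp only [List.mem_cons, List.not_mem_nil, or_false] at hj
      rcases hj with rfl | rfl
      · exact h
      · exact kb.2 h
    · right
      intro j hj
      simp only [List.mem_cons, List.not_mem_nil, or_false] at hj
      rcases hj with rfl | rfl
      · exact h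
      · exact fun hb' => h (kb.1 hb')
  | [a, b, c], h, hP =>
    obtain ⟨ha, hb, hc, h1, h2, h3, _⟩ := h
    have ea := (hρ a ha).2.2.1
    have eb := (hρ b hb).2.2.1
    rw [h1] at ea
    rw [h2] at eb
    have kb := hP b (by simp)
    have kc := hP c (by simp)
    rw [ea] at kb
    rw [eb] at kc
    by_cases h : P a
    · left
      intro j hj
      simp only [List.mem_cons, List.not_mem_nil, or_false] at hj
      rcases hj with rfl | rfl | rfl
      · exact h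
      · exact kb.2 h
      · exact kc.2 (kb.2 h)
    · right
      intro j hj
      simp only [List.mem_cons, List.not_mem_nil, or_false] at hj
      rcases hj with rfl | rfl | rfl
      · exact h
      · exact fun hb' => h (kb.1 hb')
      · exact fun hc' => h (kb.1 (kc.1 hc'))

section main

variable (X : Ctx D F) (Δ : BNData D F) (hsp : ∀ i < D.rank, D.nroots / 2 ≤ D.simple i)
  {J C : List ℕ} (hJ : OrbOK D X.ρ J) (hC : C ∈ X.cls) (hperm : C.Perm (J.map D.simple))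
include X Δ hsp hJ hC hperm

theorem wp_eq_cls (t : ℕ → F) : wp X.hB J t = wordU X.hB (C.map fun r => (r, t r)) := by
  have hCl := (X.hcls C hC).1
  exact (X.wordU_perm hperm (X.clsNodup hC) hCl.pos hCl.comm t).symm

/-- `σ(x_J(t)) = x_J(tw t)` -/
theorem sig_wp (t : ℕ → F) : X.sig (wp X.hB J t) = wp X.hB J (X.tw t) := by
  rw [wp_eq_cls X Δ hsp hJ hC hperm, wp_eq_cls X Δ hsp hJ hC hperm]
  exact TwFix.sigma_cls X.hB X.hG.1 X.hI X.hG.2.1 X.hR X.f X.hC X.hneg (X.hcls C hC).1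
    (X.clsNodup hC) t

theorem wp_inj {t t' : ℕ → F} (h : wp X.hB J t = wp X.hB J t') :
    ∀ i ∈ J, t (D.simple i) = t' (D.simple i) := by
  rw [wp_eq_cls X Δ hsp hJ hC hperm, wp_eq_cls X Δ hsp hJ hC hperm] at h
  have := word_uniqueL X.hB X.hF X.hO X.hBd X.hΛ X.hW C (X.clsSorted hC) (X.hcls C hC).1.pos t t' h
  intro i hi
  exact this _ (hperm.mem_iff.2 (List.mem_map.2 ⟨i, hi, rfl⟩))

theorem wp_congr {t t' : ℕ → F} (h : ∀ i ∈ J, t (D.simple i) = t' (D.simple i)) :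
    wp X.hB J t = wp X.hB J t' := by
  unfold wp
  congr 1
  rw [List.map_map, List.map_map]
  apply List.map_congr_left
  intro i hi
  simp only [Function.comp, h i hi]

theorem tw_simple (t : ℕ → F) {j : ℕ} (hj : j < D.rank) :
    X.tw t (D.simple j) = X.f (t (D.simple (X.ρ' j))) := by
  obtain ⟨h1, h2, h3, h4⟩ := X.hG.1 j hj
  obtain ⟨e1, e2⟩ := sig'_simple X h2
  rw [h4] at e1
  rw [X.tw_apply, e1, e2, Int.cast_one, one_mul]

/-- the `σ`-fixed elements of `X_J` -/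
theorem wp_fix_iff (t : ℕ → F) :
    X.sig (wp X.hB J t) = wp X.hB J t ↔
      ∀ j ∈ J, t (D.simple j) = X.f (t (D.simple (X.ρ' j))) := by
  rw [sig_wp X Δ hsp hJ hC hperm]
  constructor
  · intro h j hj
    have := wp_inj X Δ hsp hJ hC hperm h j hj
    rw [tw_simple X Δ hsp hJ hC hperm t (hJ.lt j hj)] at this
    exact this.symm
  · intro h
    apply wp_congr X Δ hsp hJ hC hperm
    intro j hj
    rw [tw_simple X Δ hsp hJ hC hperm t (hJ.lt j hj)]
    exact (h j hj).symm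

/-- a `σ`-fixed element of `X_J` has all coefficients zero or all non-zero -/
theorem wp_fix_zero_or {t : ℕ → F} (h : X.sig (wp X.hB J t) = wp X.hB J t) :
    (∀ j ∈ J, t (D.simple j) = 0) ∨ (∀ j ∈ J, t (D.simple j) ≠ 0) := by
  have h' := (wp_fix_iff X Δ hsp hJ hC hperm t).1 h
  apply OrbOK.zero_or X.hG.1 hJ (fun j => t (D.simple j) = 0)
  intro j hj
  show t (D.simple j) = 0 ↔ t (D.simple (X.ρ' j)) = 0
  rw [h' j hj]
  constructor
  · intro h0
    have := congrArg X.f.symm h0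
    simpa using this
  · intro h0; rw [h0, map_zero]

/-- a `σ`-fixed element `u ∈ U` is `v x_J(t)` with `σ`-fixed `v ∈ U`, `x_J(t)`, and
`n_J v n_J⁻¹ ∈ U` -/
theorem fix_decomp (hnfix : X.sig (nJ X.hB J) = nJ X.hB J) {u : GL D.Idx F}
    (hu : u ∈ D.posUnipotent F) (hufix : X.sig u = u) :
    ∃ v ∈ D.posUnipotent F, ∃ t : ℕ → F, X.sig v = v ∧ X.sig (wp X.hB J t) = wp X.hB J t ∧
      u = v * wp X.hB J t ∧ nJ X.hB J * v * (nJ (F := F) X.hB J)⁻¹ ∈ D.posUnipotent F := by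
  have hlt := hJ.lt
  have hpw := OrbOK.pairwise hJ
  obtain ⟨v, hv, t, rfl, hsv⟩ := exists_decomp X Δ hsp J hlt hpw u hu
  set s := nJ (F := F) X.hB J with hs
  rw [map_mul, sig_wp X Δ hsp hJ hC hperm] at hufix
  -- `w = v⁻¹ σ(v) = x_J(t - tw t)`
  have e1 : v⁻¹ * X.sig v = wp X.hB J t * (wp X.hB J (X.tw t))⁻¹ := by
    have : X.sig v = v * wp X.hB J t * (wp X.hB J (X.tw t))⁻¹ := by rw [← hufix]; group
    rw [this]; group
  rw [wp_inv X Δ hsp hlt hpw, wp_mul X Δ hsp J hlt hpw] at e1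
  have e2 : s * (v⁻¹ * X.sig v) * s⁻¹ = (s * v * s⁻¹)⁻¹ * X.sig (s * v * s⁻¹) := by
    rw [map_mul, map_mul, map_inv, hnfix]; group
  have hU : s * (v⁻¹ * X.sig v) * s⁻¹ ∈ D.posUnipotent F := by
    rw [e2]
    exact Subgroup.mul_mem _ (Subgroup.inv_mem _ hsv) (sig_mem_posUnipotent X Δ hsp hsv)
  have hV : s * (v⁻¹ * X.sig v) * s⁻¹ ∈ D.negUnipotent F := by
    rw [e1, nJ_conj_wp X Δ hsp J hlt hpw]
    exact wn_mem_negUnipotent X Δ hsp hlt _
  have h1 : s * (v⁻¹ * X.sig v) * s⁻¹ ∈ D.borelSubgroup F ⊓ D.negUnipotent F := by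
    refine ⟨?_, hV⟩
    unfold ChevalleyDatum.borelSubgroup
    exact Subgroup.mem_sup_left hU
  rw [borel_inf_negUnipotent X.hB Δ.hH Δ.good2, Subgroup.mem_bot] at h1
  have h2 : v⁻¹ * X.sig v = 1 := by
    have : v⁻¹ * X.sig v = s⁻¹ * (s * (v⁻¹ * X.sig v) * s⁻¹) * s := by group
    rw [this, h1]; group
  have hvfix : X.sig v = v := by
    have : X.sig v = v * (v⁻¹ * X.sig v) := by group
    rw [this, h2, mul_one]
  refine ⟨v, hv, t, hvfix, ?_, rfl, hsv⟩
  rw [sig_wp X Δ hsp hJ hC hperm]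
  rw [hvfix] at hufix
  exact mul_left_cancel hufix

/-- pointwise inverse of the negative of a `σ`-fixed coefficient function is `σ`-fixed -/
theorem wp_inv_neg_fix {t : ℕ → F} (h : X.sig (wp X.hB J t) = wp X.hB J t) :
    X.sig (wp X.hB J (fun r => (-t r)⁻¹)) = wp X.hB J (fun r => (-t r)⁻¹) := by
  rw [wp_fix_iff X Δ hsp hJ hC hperm] at h ⊢
  intro j hj
  rw [h j hj, map_inv₀, map_neg]

end main

section coset

variable (X : Ctx D F) (Δ : BNData D F) (hsp : ∀ i < D.rank, D.nroots / 2 ≤ D.simple i)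
  (G1 : Subgroup (GL D.Idx F)) (hfix : G1 ≤ X.fix) (hUfix : X.fix ⊓ D.posUnipotent F ≤ G1)
  {J C : List ℕ} (hJ : OrbOK D X.ρ J) (hC : C ∈ X.cls) (hperm : C.Perm (J.map D.simple))
  (hnJ : nJ X.hB J ∈ G1)
include X Δ hsp hfix hUfix hJ hC hperm hnJ

/-- the double coset condition `n_J b n ∈ B¹ n_J n B¹ ∪ B¹ n B¹` -/
theorem tw_mul_mem {n : GL D.Idx F} (hnN : n ∈ D.monomialSubgroup F) (hnG : n ∈ G1)
    {b : GL D.Idx F} (hb : b ∈ D.borelSubgroup F) (hbG : b ∈ G1) :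
    (∃ b₁ ∈ D.borelSubgroup F ⊓ G1, ∃ b₂ ∈ D.borelSubgroup F ⊓ G1,
      nJ X.hB J * b * n = b₁ * (nJ X.hB J * n) * b₂) ∨
    (∃ b₁ ∈ D.borelSubgroup F ⊓ G1, ∃ b₂ ∈ D.borelSubgroup F ⊓ G1,
      nJ X.hB J * b * n = b₁ * n * b₂) := by
  have hlt := hJ.lt
  have hpw := OrbOK.pairwise hJ
  have hHB : D.diagonalSubgroup F ≤ D.borelSubgroup F := by
    unfold ChevalleyDatum.borelSubgroup; exact le_sup_right
  have hUB : D.posUnipotent F ≤ D.borelSubgroup F := by
    unfold ChevalleyDatum.borelSubgroup; exact le_sup_left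
  have hHN : D.diagonalSubgroup F ≤ D.monomialSubgroup F := by
    unfold ChevalleyDatum.monomialSubgroup; exact le_sup_left
  set s := nJ (F := F) X.hB J with hs
  have hsN : s ∈ D.monomialSubgroup F := nJ_mem_monomial X Δ hsp hlt
  have hsfix : X.sig s = s := hfix hnJ
  obtain ⟨u, hu, h, hh, hufix, hhfix, rfl⟩ := borel_fix_decomp X Δ hsp hb (hfix hbG)
  have huG : u ∈ G1 := hUfix ⟨hufix, hu⟩
  have hhG : h ∈ G1 := by
    have : h = u⁻¹ * (u * h) := by group
    rw [this]; exact G1.mul_mem (G1.inv_mem huG) hbG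
  obtain ⟨v, hv, t, hvfix, hxfix, rfl, hsv⟩ :=
    fix_decomp X Δ hsp hJ hC hperm hsfix hu hufix
  have hvG : v ∈ G1 := hUfix ⟨hvfix, hv⟩
  have hxU : wp X.hB J t ∈ D.posUnipotent F := wp_mem_posUnipotent X Δ hsp hlt t
  have hxG : wp X.hB J t ∈ G1 := hUfix ⟨hxfix, hxU⟩
  -- `n' = h n`
  have hn'N : h * n ∈ D.monomialSubgroup F := Subgroup.mul_mem _ (hHN hh) hnN
  have hn'G : h * n ∈ G1 := G1.mul_mem hhG hnG
  -- `s v s⁻¹ ∈ B¹`, `s h s⁻¹ ∈ B¹`
  have hb0 : s * v * s⁻¹ ∈ D.borelSubgroup F ⊓ G1 :=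
    ⟨hUB hsv, G1.mul_mem (G1.mul_mem hnJ hvG) (G1.inv_mem hnJ)⟩
  have hshs : s * h * s⁻¹ ∈ D.borelSubgroup F ⊓ G1 :=
    ⟨hHB (((Subgroup.mem_normalizer_iff.1
      (monomial_le_normalizer X.hB X.hAll Δ.hH Δ.hReach hsN)) h).1 hh),
      G1.mul_mem (G1.mul_mem hnJ hhG) (G1.inv_mem hnJ)⟩
  rcases orb_posAt_or_negAt X Δ hsp hn'N (hfix hn'G) hJ with hpos | hneg
  · left
    refine ⟨s * v * s⁻¹ * (s * h * s⁻¹), Subgroup.mul_mem _ hb0 hshs,
      (h * n)⁻¹ * wp X.hB J t * (h * n),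
      ⟨hUB (conj_wp_mem X Δ hsp J hpos t),
        G1.mul_mem (G1.mul_mem (G1.inv_mem hn'G) hxG) hn'G⟩, ?_⟩
    group
  · rcases wp_fix_zero_or X Δ hsp hJ hC hperm hxfix with hz | hnz
    · left
      have hx1 : wp X.hB J t = 1 := by
        rw [← wp_zero X Δ hsp J]
        exact wp_congr X Δ hsp hJ hC hperm hz
      refine ⟨s * v * s⁻¹ * (s * h * s⁻¹), Subgroup.mul_mem _ hb0 hshs, 1, Subgroup.one_mem _, ?_⟩
      rw [hx1]
      group
    · right
      -- `y = s x s⁻¹ = x_{-J}(a)`, `a = -t`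
      have hy : s * wp X.hB J t * s⁻¹ = wn X.hB J (fun r => -t r) :=
        nJ_conj_wp X Δ hsp J hlt hpw t
      have hrk := wn_eq X hsp J hlt hpw (fun r => -t r)
        (fun i hi => neg_ne_zero.2 (hnz i hi))
      rw [← hs] at hrk
      set P := wp X.hB J (fun r => (-t r)⁻¹) with hP
      have hPfix : X.sig P = P := wp_inv_neg_fix X Δ hsp hJ hC hperm hxfix
      have hPU : P ∈ D.posUnipotent F := wp_mem_posUnipotent X Δ hsp hlt _
      have hPG : P ∈ G1 := hUfix ⟨hPfix, hPU⟩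
      set hh' := TwBNA.hJ X.hB J (fun r => -t r) with hhJ
      have hh'H : hh' ∈ D.diagonalSubgroup F :=
        hJ_mem_diagonal X.hB J (fun i hi => (X.hAll i (hlt i hi)).hS.1) _
          (fun i hi => neg_ne_zero.2 (hnz i hi))
      have hyG : s * wp X.hB J t * s⁻¹ ∈ G1 := G1.mul_mem (G1.mul_mem hnJ hxG) (G1.inv_mem hnJ)
      have hh'G : hh' ∈ G1 := by
        have : hh' = P⁻¹ * (s * wp X.hB J t * s⁻¹) * P⁻¹ * s⁻¹ := by
          rw [hy, hrk]; group
        rw [this]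
        exact G1.mul_mem (G1.mul_mem (G1.mul_mem (G1.inv_mem hPG) hyG) (G1.inv_mem hPG))
          (G1.inv_mem hnJ)
      have hss : s * s ∈ D.diagonalSubgroup F := nJ_sq_mem_diagonal X Δ hsp J hlt hpw
      -- `z = s⁻¹ P s = x_{-J}(..)`
      have hz : s⁻¹ * P * s = wn X.hB J (fun r => -(-t r)⁻¹) := nJ_inv_conj_wp X Δ hsp hlt hpw _
      have hzG : s⁻¹ * P * s ∈ G1 := G1.mul_mem (G1.mul_mem (G1.inv_mem hnJ) hPG) hnJ
      have hb2U : (h * n)⁻¹ * (s⁻¹ * P * s) * (h * n) ∈ D.posUnipotent F := by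
        rw [hz]; exact conj_wn_mem X Δ hsp J hneg _
      refine ⟨s * v * s⁻¹ * P * hh' * (s * s) * h, ⟨?_, ?_⟩,
        (h * n)⁻¹ * (s⁻¹ * P * s) * (h * n),
        ⟨hUB hb2U, G1.mul_mem (G1.mul_mem (G1.inv_mem hn'G) hzG) hn'G⟩, ?_⟩
      · exact Subgroup.mul_mem _ (Subgroup.mul_mem _ (Subgroup.mul_mem _ (Subgroup.mul_mem _ hb0.1
          (hUB hPU)) (hHB hh'H)) (hHB hss)) (hHB hh)
      · exact G1.mul_mem (G1.mul_mem (G1.mul_mem (G1.mul_mem hb0.2 hPG) hh'G)
          (G1.mul_mem hnJ hnJ)) hhG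
      · have e : s * (v * wp X.hB J t * h) * n =
            s * v * s⁻¹ * (s * wp X.hB J t * s⁻¹) * s * h * n := by group
        rw [e, hy, hrk]
        group

end coset

end Cfsg.Agent.Helper11.TwBNC
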