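import Mathlib
import Cfsg.Agent.Helper11.TwBNC
import Cfsg.Agent.Helper2.BN.Bruhat

/-!
# The `(B, N)`-pair of a twisted group

`B¹ = B ∩ G¹`, `N¹ = N ∩ G¹`, with the distinguished generators `n_J`, `J` an orbit of the graph
automorphism on the fundamental roots.
-/

set_option autoImplicit false
set_option linter.unusedSectionVars false
set_option linter.unusedVariables false

namespace Cfsg.Agent.Helper11.TwBND

open Cfsg.Lie Cfsg.Agent.Helper6 Cfsg.Agent.Helper11.ChevGraphAut Cfsg.Agent.Helper11.TwUProd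
  Cfsg.Agent.Helper11.TwSigma Cfsg.Agent.Helper11.TwFix Cfsg.Agent.Helper11.TwCtx
  Cfsg.Agent.Helper11.TwReach Cfsg.Agent.Helper11.TwBNA Cfsg.Agent.Helper11.TwBNB
  Cfsg.Agent.Helper11.TwBNC

variable {D : ChevalleyDatum} {F : Type*} [Field F]

/-- the orbit words as `x_J(t)`, `x_{-J}(t)` -/
theorem orbWord_eq (hB : BasicOK D) {ρ : ℕ → ℕ} (f : F ≃+* F) {J : List ℕ} (hJ : OrbOK D ρ J)
    (a : F) : ∃ t : ℕ → F, wordU hB (orbWord D f true J a) = wp hB J t ∧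
      wordU hB (orbWord D f false J a) = wn hB J t := by
  match J, hJ with
  | [i], _ =>
    refine ⟨fun _ => a, ?_, ?_⟩ <;>
    simp [orbWord, wp, wn]
  | [i, j], hJ =>
    obtain ⟨_, _, _, _, hso⟩ := hJ
    have hne : D.simple j ≠ D.simple i := Ne.symm hso.1
    refine ⟨fun r => if r = D.simple i then a else f a, ?_, ?_⟩ <;>
    simp [orbWord, wp, wn, hne]
  | [i, j, k], hJ =>
    obtain ⟨_, _, _, _, _, _, hij, hik, hjk⟩ := hJ
    have h1 : D.simple j ≠ D.simple i := Ne.symm hij.1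
    have h2 : D.simple k ≠ D.simple i := Ne.symm hik.1
    have h3 : D.simple k ≠ D.simple j := Ne.symm hjk.1
    refine ⟨fun r => if r = D.simple i then a else if r = D.simple j then f a else f (f a),
      ?_, ?_⟩ <;>
    simp [orbWord, wp, wn, h1, h2, h3]

/-- the data of a twisted group -/
structure TwData (X : Ctx D F) (G1 : Subgroup (GL D.Idx F)) (orbs : List (List ℕ)) : Prop where
  bn : BNData D F
  hsp : ∀ i < D.rank, D.nroots / 2 ≤ D.simple i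
  hfix : G1 ≤ X.fix
  hUfix : X.fix ⊓ D.posUnipotent F ≤ G1
  horb : ∀ J ∈ orbs, OrbOK D X.ρ J
  hcls : ∀ J ∈ orbs, ∃ C ∈ X.cls, C.Perm (J.map D.simple)
  hgen_mem : ∀ J ∈ orbs, ∀ (b : Bool) (a : F), (J.length = 1 → X.f a = a) →
    wordU X.hB (orbWord D X.f b J a) ∈ G1
  hgen_le : ∀ S : Subgroup (GL D.Idx F), (∀ J ∈ orbs, ∀ (b : Bool) (a : F),
    (J.length = 1 → X.f a = a) → wordU X.hB (orbWord D X.f b J a) ∈ S) → G1 ≤ S
  hwJpos : ∀ J ∈ orbs, ∀ i < D.rank, i ∉ J → D.nroots / 2 ≤ wJ D J (D.simple i)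
  hwJneg : ∀ J ∈ orbs, ∀ i ∈ J, wJ D J (D.simple i) = D.neg (D.simple i) ∧
    etaJ D J (D.simple i) = -1
  hdisj : ∀ J ∈ orbs, ∀ J' ∈ orbs, J ≠ J' → ∃ i ∈ J', i ∉ J

section main

variable {X : Ctx D F} {G1 : Subgroup (GL D.Idx F)} {orbs : List (List ℕ)} (T : TwData X G1 orbs)
include T

theorem nJ_mem {J : List ℕ} (hJ : J ∈ orbs) : nJ X.hB J ∈ G1 := by
  rw [nJ_eq X T.hsp (T.horb J hJ)]
  exact G1.mul_mem (G1.mul_mem (T.hgen_mem J hJ true 1 (fun _ => map_one _))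
    (T.hgen_mem J hJ false (-1) (fun _ => by rw [map_neg, map_one])))
    (T.hgen_mem J hJ true 1 (fun _ => map_one _))

/-- representatives of the fundamental reflections of the twisted group -/
def Sset (X : Ctx D F) (G1 : Subgroup (GL D.Idx F)) (orbs : List (List ℕ)) : Set ↥G1 :=
  {s | ∃ J ∈ orbs, (s : GL D.Idx F) = nJ X.hB J}

/-- `B¹ = B ∩ G¹` -/
def B1 (D : ChevalleyDatum) (F : Type*) [Field F] (G1 : Subgroup (GL D.Idx F)) : Subgroup ↥G1 :=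
  (D.borelSubgroup F ⊓ G1).subgroupOf G1

/-- `H¹ = H ∩ G¹` -/
def H1 (D : ChevalleyDatum) (F : Type*) [Field F] (G1 : Subgroup (GL D.Idx F)) : Subgroup ↥G1 :=
  (D.diagonalSubgroup F ⊓ G1).subgroupOf G1

/-- `N¹ = N ∩ G¹` -/
def N1 (D : ChevalleyDatum) (F : Type*) [Field F] (G1 : Subgroup (GL D.Idx F)) : Subgroup ↥G1 :=
  (D.monomialSubgroup F ⊓ G1).subgroupOf G1

/-- `⟨n_J⟩ H¹` -/
def N' (X : Ctx D F) (G1 : Subgroup (GL D.Idx F)) (orbs : List (List ℕ)) : Subgroup ↥G1 :=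
  Subgroup.closure (Sset X G1 orbs) ⊔ H1 D F G1

omit T in
theorem mem_B1 {g : ↥G1} : g ∈ B1 D F G1 ↔ (g : GL D.Idx F) ∈ D.borelSubgroup F := by
  unfold B1
  rw [Subgroup.mem_subgroupOf, Subgroup.mem_inf]
  exact ⟨fun h => h.1, fun h => ⟨h, g.2⟩⟩

omit T in
theorem mem_H1 {g : ↥G1} : g ∈ H1 D F G1 ↔ (g : GL D.Idx F) ∈ D.diagonalSubgroup F := by
  unfold H1
  rw [Subgroup.mem_subgroupOf, Subgroup.mem_inf]
  exact ⟨fun h => h.1, fun h => ⟨h, g.2⟩⟩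

omit T in
theorem mem_N1 {g : ↥G1} : g ∈ N1 D F G1 ↔ (g : GL D.Idx F) ∈ D.monomialSubgroup F := by
  unfold N1
  rw [Subgroup.mem_subgroupOf, Subgroup.mem_inf]
  exact ⟨fun h => h.1, fun h => ⟨h, g.2⟩⟩

theorem Sset_le_N1 : Sset X G1 orbs ⊆ (N1 D F G1 : Set ↥G1) := by
  rintro s ⟨J, hJ, hs⟩
  rw [SetLike.mem_coe, mem_N1, hs]
  exact nJ_mem_monomial X T.bn T.hsp (T.horb J hJ).lt

theorem H1_le_N1 : H1 D F G1 ≤ N1 D F G1 := by
  intro g hg
  rw [mem_H1] at hg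
  rw [mem_N1]
  exact T.bn.diag_le_monomial hg

theorem H1_le_B1 : H1 D F G1 ≤ B1 D F G1 := by
  intro g hg
  rw [mem_H1] at hg
  rw [mem_B1]
  exact T.bn.diag_le_borel hg

theorem N'_le_N1 : N' X G1 orbs ≤ N1 D F G1 := by
  unfold N'
  apply sup_le
  · rw [Subgroup.closure_le]; exact Sset_le_N1 T
  · exact H1_le_N1 T

theorem B1_inf_N1 : B1 D F G1 ⊓ N1 D F G1 = H1 D F G1 := by
  ext g
  rw [Subgroup.mem_inf, mem_B1, mem_N1, mem_H1, ← T.bn.inf_eq, Subgroup.mem_inf]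

end main

section fields

variable {X : Ctx D F} {G1 : Subgroup (GL D.Idx F)} {orbs : List (List ℕ)} (T : TwData X G1 orbs)
include T

theorem sup_eq_top' : B1 D F G1 ⊔ N' X G1 orbs = ⊤ := by
  rw [eq_top_iff]
  have hle : G1 ≤ (B1 D F G1 ⊔ N' X G1 orbs).map G1.subtype := by
    apply T.hgen_le
    intro J hJ b a ha
    have hw := T.hgen_mem J hJ b a ha
    have hOrb := T.horb J hJ
    have hlt := hOrb.lt
    have hpw := OrbOK.pairwise hOrb
    obtain ⟨t, e1, e2⟩ := orbWord_eq X.hB X.f hOrb a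
    cases b
    · -- a negative orbit word is `n_J x_J(-t) n_J⁻¹`
      rw [e2] at hw ⊢
      have hs := nJ_mem T hJ
      have hconj := nJ_conj_wp X T.bn T.hsp J hlt hpw (fun r => -t r)
      simp only [neg_neg] at hconj
      have hxG : wp X.hB J (fun r => -t r) ∈ G1 := by
        have : wp X.hB J (fun r => -t r) = (nJ (F := F) X.hB J)⁻¹ * wn X.hB J t * nJ X.hB J := by
          rw [← hconj]; group
        rw [this]
        exact G1.mul_mem (G1.mul_mem (G1.inv_mem hs) hw) hs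
      have hxU := wp_mem_posUnipotent X T.bn T.hsp hlt (fun r => -t r)
      refine Subgroup.mem_map.2 ⟨⟨nJ X.hB J, hs⟩ * ⟨_, hxG⟩ * (⟨nJ X.hB J, hs⟩ : ↥G1)⁻¹, ?_, ?_⟩
      · apply Subgroup.mul_mem _ (Subgroup.mul_mem _ ?_ ?_) (Subgroup.inv_mem _ ?_)
        · apply Subgroup.mem_sup_right
          exact Subgroup.mem_sup_left (Subgroup.subset_closure ⟨J, hJ, rfl⟩)
        · apply Subgroup.mem_sup_left
          rw [mem_B1]
          unfold ChevalleyDatum.borelSubgroup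
          exact Subgroup.mem_sup_left hxU
        · apply Subgroup.mem_sup_right
          exact Subgroup.mem_sup_left (Subgroup.subset_closure ⟨J, hJ, rfl⟩)
      · simp only [Subgroup.coe_subtype, Subgroup.coe_mul, Subgroup.coe_inv]
        exact hconj
    · rw [e1] at hw ⊢
      have hxU := wp_mem_posUnipotent X T.bn T.hsp hlt t
      refine Subgroup.mem_map.2 ⟨⟨_, hw⟩, ?_, rfl⟩
      apply Subgroup.mem_sup_left
      rw [mem_B1]
      unfold ChevalleyDatum.borelSubgroup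
      exact Subgroup.mem_sup_left hxU
  intro g _
  obtain ⟨k, hk, hkg⟩ := Subgroup.mem_map.1 (hle g.2)
  have : k = g := Subtype.ext hkg
  rw [← this]; exact hk

theorem conj_mem' : ∀ n ∈ N' X G1 orbs, ∀ t ∈ B1 D F G1 ⊓ N' X G1 orbs, n * t * n⁻¹ ∈ B1 D F G1 := by
  intro n hn t ht
  have hnN := mem_N1.1 (N'_le_N1 T hn)
  have htH : (t : GL D.Idx F) ∈ D.diagonalSubgroup F := by
    rw [← T.bn.inf_eq]
    exact ⟨mem_B1.1 ht.1, mem_N1.1 (N'_le_N1 T ht.2)⟩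
  rw [mem_B1]
  simp only [Subgroup.coe_mul, Subgroup.coe_inv]
  have hnorm := monomial_le_normalizer X.hB X.hAll T.bn.hH T.bn.hReach hnN
  exact T.bn.diag_le_borel (((Subgroup.mem_normalizer_iff.1 hnorm) _).1 htH)

theorem sq_mem' : ∀ s ∈ Sset X G1 orbs, s * s ∈ B1 D F G1 := by
  rintro s ⟨J, hJ, hs⟩
  rw [mem_B1, Subgroup.coe_mul, hs]
  exact T.bn.diag_le_borel (nJ_sq_mem_diagonal X T.bn T.hsp J (T.horb J hJ).lt
    (OrbOK.pairwise (T.horb J hJ)))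

theorem diag_conj_xU {h : GL D.Idx F} (hh : h ∈ D.diagonalSubgroup F) {r : ℕ} (hr : r < D.nroots)
    (t : F) : ∃ c : F, h * xU X.hB r t * h⁻¹ = xU X.hB r c := by
  obtain ⟨c, hc, hhv⟩ := exists_torMat_of_mem_diagonal X.hB T.bn.hH hh
  refine ⟨torChar D c r * t, ?_⟩
  rw [mul_inv_eq_iff_eq_mul]
  apply Units.ext
  rw [Units.val_mul, Units.val_mul, hhv, xU_val, xU_val]
  exact torMat_mul_x X.hB T.bn.hAdd hc hr t

theorem inj' : ∀ s ∈ Sset X G1 orbs, ∀ s' ∈ Sset X G1 orbs, s⁻¹ * s' ∈ B1 D F G1 → s = s' := by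
  rintro s ⟨J, hJ, hs⟩ s' ⟨J', hJ', hs'⟩ hmem
  by_cases hJJ : J = J'
  · apply Subtype.ext; rw [hs, hs', hJJ]
  · exfalso
    obtain ⟨i, hiJ', hiJ⟩ := T.hdisj J hJ J' hJ' hJJ
    have hi : i < D.rank := (T.horb J' hJ').lt i hiJ'
    have hp := (X.hAll i hi).hS.1
    rw [mem_B1, Subgroup.coe_mul, Subgroup.coe_inv, hs, hs'] at hmem
    have hN : (nJ (F := F) X.hB J)⁻¹ * nJ X.hB J' ∈ D.monomialSubgroup F :=
      Subgroup.mul_mem _ (Subgroup.inv_mem _ (nJ_mem_monomial X T.bn T.hsp (T.horb J hJ).lt))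
        (nJ_mem_monomial X T.bn T.hsp (T.horb J' hJ').lt)
    have hH : (nJ (F := F) X.hB J)⁻¹ * nJ X.hB J' ∈ D.diagonalSubgroup F := by
      rw [← T.bn.inf_eq]; exact ⟨hmem, hN⟩
    obtain ⟨c, hc⟩ := diag_conj_xU T hH hp (1 : F)
    have h1 := nJ_conj_xU (F := F) X.hB X.hAll (T.horb J' hJ').lt hp 1
    obtain ⟨e1, e2⟩ := T.hwJneg J' hJ' i hiJ'
    rw [e1, e2] at h1
    have h2 := nJ_conj_xU (F := F) X.hB X.hAll (T.horb J hJ).lt hp c
    have h3 : nJ X.hB J' * xU X.hB (D.simple i) 1 * (nJ (F := F) X.hB J')⁻¹ =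
        nJ X.hB J * ((nJ (F := F) X.hB J)⁻¹ * nJ X.hB J' * xU X.hB (D.simple i) 1 *
          ((nJ (F := F) X.hB J)⁻¹ * nJ X.hB J')⁻¹) * (nJ (F := F) X.hB J)⁻¹ := by group
    rw [h1, hc, h2] at h3
    have hpos := T.hwJpos J hJ i hi hiJ
    have hlt := wJ_lt X.hB X.hAll (T.horb J hJ).lt hp
    have hU : xU X.hB (D.neg (D.simple i)) (((-1 : ℤ) : F) * 1) ∈ D.borelSubgroup F := by
      rw [h3]
      unfold ChevalleyDatum.borelSubgroup
      apply Subgroup.mem_sup_left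
      exact Subgroup.subset_closure ⟨_, _, (X.hsign _ hlt).2 hpos, rfl⟩
    have h0 := T.bn.eq_zero_of_xU_neg_mem_borel (X.hB.neg _ hp).1 (T.bn.hnp hi) hU
    simp at h0

theorem closure_sup' :
    Subgroup.closure (Sset X G1 orbs) ⊔ (B1 D F G1 ⊓ N' X G1 orbs) = N' X G1 orbs := by
  apply le_antisymm
  · exact sup_le le_sup_left inf_le_right
  · unfold N'
    apply sup_le le_sup_left
    exact le_trans (le_inf (H1_le_B1 T) le_sup_right) le_sup_right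

theorem mul_mem_union' : ∀ s ∈ Sset X G1 orbs, ∀ n ∈ N' X G1 orbs, ∀ b ∈ B1 D F G1,
    s * b * n ∈ DoubleCoset.doubleCoset (s * n) (B1 D F G1 : Set ↥G1) (B1 D F G1) ∪
      DoubleCoset.doubleCoset n (B1 D F G1 : Set ↥G1) (B1 D F G1) := by
  rintro s ⟨J, hJ, hs⟩ n hn b hb
  have hnN := mem_N1.1 (N'_le_N1 T hn)
  obtain ⟨C, hC, hperm⟩ := T.hcls J hJ
  have key := tw_mul_mem X T.bn T.hsp G1 T.hfix T.hUfix (T.horb J hJ) hC hperm (nJ_mem T hJ)
    hnN n.2 (mem_B1.1 hb) b.2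
  rw [← hs] at key
  rcases key with ⟨b₁, hb₁, b₂, hb₂, e⟩ | ⟨b₁, hb₁, b₂, hb₂, e⟩
  · left
    rw [DoubleCoset.mem_doubleCoset]
    refine ⟨⟨b₁, hb₁.2⟩, mem_B1.2 hb₁.1, ⟨b₂, hb₂.2⟩, mem_B1.2 hb₂.1, ?_⟩
    apply Subtype.ext
    simp only [Subgroup.coe_mul]
    exact e
  · right
    rw [DoubleCoset.mem_doubleCoset]
    refine ⟨⟨b₁, hb₁.2⟩, mem_B1.2 hb₁.1, ⟨b₂, hb₂.2⟩, mem_B1.2 hb₂.1, ?_⟩
    apply Subtype.ext
    simp only [Subgroup.coe_mul]
    exact e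

theorem conj_ne' : ∀ s ∈ Sset X G1 orbs,
    (fun b : ↥G1 => s * b * s) '' (B1 D F G1 : Set ↥G1) ≠ (B1 D F G1 : Set ↥G1) := by
  rintro s ⟨J, hJ, hs⟩ heq
  have hOrb := T.horb J hJ
  have hlt := hOrb.lt
  have hpw := OrbOK.pairwise hOrb
  obtain ⟨C, hC, hperm⟩ := T.hcls J hJ
  have hsB : s * s ∈ B1 D F G1 := sq_mem' T s ⟨J, hJ, hs⟩
  have hxfix : X.sig (wp X.hB J (fun _ => (1 : F))) = wp X.hB J (fun _ => (1 : F)) := by
    rw [wp_fix_iff X T.bn T.hsp hOrb hC hperm]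
    intro j _
    rw [map_one]
  have hxU := wp_mem_posUnipotent X T.bn T.hsp hlt (fun _ => (1 : F))
  have hxG : wp X.hB J (fun _ => (1 : F)) ∈ G1 := T.hUfix ⟨hxfix, hxU⟩
  let x : ↥G1 := ⟨_, hxG⟩
  have hxB : x ∈ B1 D F G1 := by
    rw [mem_B1]
    unfold ChevalleyDatum.borelSubgroup
    exact Subgroup.mem_sup_left hxU
  have hb₀ : x * (s * s)⁻¹ ∈ B1 D F G1 := Subgroup.mul_mem _ hxB (Subgroup.inv_mem _ hsB)
  have himg : s * (x * (s * s)⁻¹) * s ∈ (B1 D F G1 : Set ↥G1) := by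
    rw [← heq]
    exact ⟨_, hb₀, rfl⟩
  have e : s * (x * (s * s)⁻¹) * s = s * x * s⁻¹ := by group
  rw [e, SetLike.mem_coe, mem_B1] at himg
  simp only [Subgroup.coe_mul, Subgroup.coe_inv] at himg
  rw [hs] at himg
  change nJ X.hB J * wp X.hB J (fun _ => (1 : F)) * (nJ (F := F) X.hB J)⁻¹ ∈ D.borelSubgroup F
    at himg
  rw [nJ_conj_wp X T.bn T.hsp J hlt hpw] at himg
  have h1 : wn X.hB J (fun _ => -(1 : F)) ∈ D.borelSubgroup F ⊓ D.negUnipotent F :=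
    ⟨himg, wn_mem_negUnipotent X T.bn T.hsp hlt _⟩
  rw [borel_inf_negUnipotent X.hB T.bn.hH T.bn.good2, Subgroup.mem_bot] at h1
  have h2 : wp X.hB J (fun _ => (1 : F)) = wp X.hB J (fun _ => (0 : F)) := by
    rw [wp_zero X T.bn T.hsp J]
    have := nJ_conj_wp X T.bn T.hsp J hlt hpw (fun _ => (1 : F))
    rw [h1] at this
    have e2 : wp X.hB J (fun _ => (1 : F)) = (nJ (F := F) X.hB J)⁻¹ *
        (nJ X.hB J * wp X.hB J (fun _ => (1 : F)) * (nJ (F := F) X.hB J)⁻¹) * nJ X.hB J := by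
      group
    rw [e2, this]; group
  have h3 := wp_inj X T.bn T.hsp hOrb hC hperm h2
  match J, hOrb, h3 with
  | [i], _, h3 => exact one_ne_zero (h3 i (by simp))
  | [i, j], _, h3 => exact one_ne_zero (h3 i (by simp))
  | [i, j, k], _, h3 => exact one_ne_zero (h3 i (by simp))

/-- the `(B, N)`-pair of the twisted group, with `N = ⟨n_J⟩ H¹` -/
def bnPair' : Cfsg.BNPair ↥G1 where
  B := B1 D F G1
  N := N' X G1 orbs
  S := Sset X G1 orbs
  sup_eq_top := sup_eq_top' T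
  conj_mem := conj_mem' T
  subset := by
    intro s hs
    exact Subgroup.mem_sup_left (Subgroup.subset_closure hs)
  sq_mem := sq_mem' T
  inj := inj' T
  closure_sup := closure_sup' T
  mul_mem_union := mul_mem_union' T
  conj_ne := conj_ne' T

end fields

section final

variable {X : Ctx D F} {G1 : Subgroup (GL D.Idx F)} {orbs : List (List ℕ)} (T : TwData X G1 orbs)
include T

open Cfsg.Agent.Helper2.BN in
/-- `N ∩ G¹ = ⟨n_J⟩ (H ∩ G¹)`, by the Bruhat decompositions of `G¹` and of the Chevalley group -/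
theorem N1_le_N' : N1 D F G1 ≤ N' X G1 orbs := by
  intro n hn
  have hnN := mem_N1.1 hn
  obtain ⟨n', hn', hC⟩ := exists_mem_C (P := bnPair' T) n
  obtain ⟨b, hb, b', hb', e⟩ := (mem_C_iff (bnPair' T)).1 hC
  have hn'N := mem_N1.1 (N'_le_N1 T hn')
  have hbB : (b : GL D.Idx F) ∈ D.borelSubgroup F := mem_B1.1 hb
  have hb'B : (b' : GL D.Idx F) ∈ D.borelSubgroup F := mem_B1.1 hb'
  have e' : (n : GL D.Idx F) = b * n' * b' := by
    have := congrArg Subtype.val e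
    simpa only [Subgroup.coe_mul] using this
  -- in the Chevalley group
  let P₀ := T.bn.bnPair
  let n₀ : ↥(D.group F) := ⟨n, T.bn.monomial_le_group hnN⟩
  let n'₀ : ↥(D.group F) := ⟨n', T.bn.monomial_le_group hn'N⟩
  let b₀ : ↥(D.group F) := ⟨b, T.bn.borel_le_group hbB⟩
  let b'₀ : ↥(D.group F) := ⟨b', T.bn.borel_le_group hb'B⟩
  have hn₀ : n₀ ∈ P₀.N := Subgroup.mem_subgroupOf.2 hnN
  have hn'₀ : n'₀ ∈ P₀.N := Subgroup.mem_subgroupOf.2 hn'N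
  have hb₀ : b₀ ∈ P₀.B := Subgroup.mem_subgroupOf.2 hbB
  have hb'₀ : b'₀ ∈ P₀.B := Subgroup.mem_subgroupOf.2 hb'B
  have hC₀ : n₀ ∈ C P₀ n'₀ := by
    rw [mem_C_iff]
    refine ⟨b₀, hb₀, b'₀, hb'₀, ?_⟩
    apply Subtype.ext
    simp only [Subgroup.coe_mul]
    exact e'
  have hH := bruhat_unique hn₀ hn'₀ (C_eq_of_mem P₀ hC₀)
  have hH' : (n : GL D.Idx F)⁻¹ * n' ∈ D.diagonalSubgroup F := by
    rw [← T.bn.inf_eq]
    have h1 : n₀⁻¹ * n'₀ ∈ P₀.B := hH.1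
    have h2 : n₀⁻¹ * n'₀ ∈ P₀.N := hH.2
    exact ⟨Subgroup.mem_subgroupOf.1 h1, Subgroup.mem_subgroupOf.1 h2⟩
  have hH1 : n⁻¹ * n' ∈ H1 D F G1 := by
    rw [mem_H1]
    simpa only [Subgroup.coe_mul, Subgroup.coe_inv] using hH'
  have : n = n' * (n⁻¹ * n')⁻¹ := by group
  rw [this]
  exact Subgroup.mul_mem _ hn' (Subgroup.inv_mem _ (Subgroup.mem_sup_right hH1))

/-- the twisted group has a `(B, N)`-pair with `B¹ = B ∩ G¹`, `N¹ = N ∩ G¹` -/
theorem exists_bnPair : ∃ P : Cfsg.BNPair ↥G1,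
    P.B = (D.borelSubgroup F ⊓ G1).subgroupOf G1 ∧
    P.N = (D.monomialSubgroup F ⊓ G1).subgroupOf G1 :=
  ⟨bnPair' T, rfl, le_antisymm (N'_le_N1 T) (N1_le_N' T)⟩

end final

end Cfsg.Agent.Helper11.TwBND
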