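import Mathlib
import Cfsg.Agent.Helper6.Chev.BNPairDef
import Cfsg.Agent.Helper6.Chev.TablesRad
import Cfsg.Agent.Helper6.Chev.TablesOrd
import Cfsg.Agent.Helper6.Chev.TablesW0
import Cfsg.Agent.Helper6.Chev.TablesAddC
import Cfsg.Agent.Helper11.ChevCommDE

/-!
# The `(B, N)`-pair data of the Chevalley groups of types `D₄`, `E₆`

helper6's `BNData`, for the two types carrying the twisted groups `³D₄`, `²E₆`, built without the
commutator tables of the other types.
-/

set_option autoImplicit false
set_option linter.unusedVariables false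

namespace Cfsg.Agent.Helper11.TwBNData

open Cfsg.Lie Cfsg.Agent.Helper6

theorem tab_DE {D : ChevalleyDatum} (hD : D ∈ [chevD4, chevE6]) : IsTabulated D := by
  simp only [List.mem_cons, List.not_mem_nil, or_false] at hD
  simp only [IsTabulated, List.mem_cons, List.not_mem_nil, or_false]
  rcases hD with rfl | rfl <;> simp

set_option maxRecDepth 100000 in
theorem wposChk_DE {D : ChevalleyDatum} (hD : D ∈ [chevD4, chevE6]) :
    (allLt D.rank fun i => wposChk D (D.nroots / 2) i) = true := by
  simp only [List.mem_cons, List.not_mem_nil, or_false] at hD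
  rcases hD with rfl | rfl <;> decide +kernel

/-- all the facts needed for the `(B, N)`-pair, for the types `D₄`, `E₆` -/
theorem bnData_DE {D : ChevalleyDatum} (F : Type*) [Field F] (hD : D ∈ [chevD4, chevE6]) :
    BNData D F where
  hB := basicOK_of_tabulated (tab_DE hD)
  hF := fastOK_of_tabulated (tab_DE hD)
  hn := nroots_le_of_tabulated (tab_DE hD)
  hAll := fun i hi => simpleAll_of_tabulated (tab_DE hD) hi
  hAdd := fun i hi => addOK_of_tabulated (tab_DE hD) hi
  hH := fun r hr => hDiag_of_tabulated (tab_DE hD) hr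
  hReach := fun r hr => reach_of_tabulated (tab_DE hD) hr
  hR := fun i hi => (rad_of_tabulated (tab_DE hD) hi).2
  hWp := fun i hi => allLt_iff.1 (wposChk_DE hD) i hi
  hC := fun r hr s hs e1 e2 => ChevCommDE.commF_DE hD hr hs e1 e2
  hsign := sign_iff_of_tabulated (tab_DE hD)
  hpN := fun i hi => (rad_of_tabulated (tab_DE hD) hi).1
  even := (ordOK_of_tabulated (tab_DE hD)).even
  good := Chev.good_of_mem (tab_DE hD)
  good2 := Chev.good2_of_mem (tab_DE hD)

end Cfsg.Agent.Helper11.TwBNData
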