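import Mathlib
import Cfsg.Agent.Helper11.TwBND
import Cfsg.Agent.Helper11.TwBNData
import Cfsg.Agent.Helper11.TwMain

/-!
# The `(B, N)`-pairs of `²E₆(q)` and `³D₄(q)`
-/

set_option autoImplicit false
set_option linter.unusedSectionVars false
set_option linter.unusedVariables false

namespace Cfsg.Agent.Helper11.TwBNMain

open Cfsg.Lie Cfsg.Agent.Helper6 Cfsg.Agent.Helper11.ChevGraphAut Cfsg.Agent.Helper11.TwUProd
  Cfsg.Agent.Helper11.TwSigma Cfsg.Agent.Helper11.TwFix Cfsg.Agent.Helper11.TwCtx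
  Cfsg.Agent.Helper11.TwReach Cfsg.Agent.Helper11.TwTables Cfsg.Agent.Helper11.TwMain
  Cfsg.Agent.Helper11.TwBND

variable {K : Type*} [Field K]

/-! ### Type E₆ -/

set_option maxRecDepth 100000 in
theorem hcls_E6 : ∀ J ∈ orbs_E6, ∃ C ∈ cls_E6, C.Perm (J.map chevE6.simple) := by decide +kernel

set_option maxRecDepth 100000 in
theorem hwJpos_E6 : ∀ J ∈ orbs_E6, ∀ i < chevE6.rank, i ∉ J →
    chevE6.nroots / 2 ≤ wJ chevE6 J (chevE6.simple i) := by decide +kernel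

set_option maxRecDepth 100000 in
theorem hwJneg_E6 : ∀ J ∈ orbs_E6, ∀ i ∈ J,
    wJ chevE6 J (chevE6.simple i) = chevE6.neg (chevE6.simple i) ∧
      etaJ chevE6 J (chevE6.simple i) = -1 := by decide +kernel

theorem hdisj_E6 : ∀ J ∈ orbs_E6, ∀ J' ∈ orbs_E6, J ≠ J' → ∃ i ∈ J', i ∉ J := by decide

/-- the data of `²E₆` -/
theorem twData_E6 {q : ℕ} (f : K ≃+* K) (hfq : ∀ x, f x = x ^ q) (hf : ∀ x, f (f x) = x) :
    TwData (ctxE6 f hf) (twistedE6 K q) orbs_E6 where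
  bn := TwBNData.bnData_DE K (by simp)
  hsp := hsp_E6
  hfix := twistedE6_le_fix f hfq hf
  hUfix := by
    rw [← posUnipotent_inf_twistedE6 f hfq hf]
    exact inf_le_right
  horb := orbOK_E6
  hcls := hcls_E6
  hgen_mem := by
    intro J hJ b a ha
    unfold twistedE6 ChevalleyDatum.genSubgroup
    apply Subgroup.subset_closure
    exact ⟨_, gen_of_orb_E6 f hfq J hJ b a ha, wordU_val _ _⟩
  hgen_le := by
    intro S hS
    unfold twistedE6 ChevalleyDatum.genSubgroup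
    rw [Subgroup.closure_le]
    rintro g ⟨w, hw, hg⟩
    obtain ⟨J, hJ, b, a, ha, rfl⟩ := orb_of_gen_E6 f hfq w hw
    have hgw : g = wordU (ctxE6 f hf).hB (orbWord chevE6 f b J a) :=
      Units.ext (by rw [hg, wordU_val])
    rw [SetLike.mem_coe, hgw]
    exact hS J hJ b a ha
  hwJpos := hwJpos_E6
  hwJneg := hwJneg_E6
  hdisj := hdisj_E6

/-- `²E₆(q)` has a `(B, N)`-pair with `B¹ = B ∩ G¹`, `N¹ = N ∩ G¹` -/
theorem twistedE6_bnPair [Fintype K] {q : ℕ} (hq : IsPrimePow q) (hK : Fintype.card K = q ^ 2) :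
    ∃ P : Cfsg.BNPair ↥(twistedE6 K q),
      P.B = (chevE6.borelSubgroup K ⊓ twistedE6 K q).subgroupOf (twistedE6 K q) ∧
      P.N = (chevE6.monomialSubgroup K ⊓ twistedE6 K q).subgroupOf (twistedE6 K q) := by
  obtain ⟨f, hfq⟩ := TwField.exists_frob hq (by norm_num) hK
  have hf : ∀ x, f (f x) = x := fun x => TwField.frob_iterate hK f hfq x
  exact exists_bnPair (twData_E6 f hfq hf)

/-! ### Type D₄ (triality) -/

set_option maxRecDepth 100000 in
theorem hcls_D4 : ∀ J ∈ orbs_D4, ∃ C ∈ cls_D4, C.Perm (J.map chevD4.simple) := by decide +kernel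

set_option maxRecDepth 100000 in
theorem hwJpos_D4 : ∀ J ∈ orbs_D4, ∀ i < chevD4.rank, i ∉ J →
    chevD4.nroots / 2 ≤ wJ chevD4 J (chevD4.simple i) := by decide +kernel

set_option maxRecDepth 100000 in
theorem hwJneg_D4 : ∀ J ∈ orbs_D4, ∀ i ∈ J,
    wJ chevD4 J (chevD4.simple i) = chevD4.neg (chevD4.simple i) ∧
      etaJ chevD4 J (chevD4.simple i) = -1 := by decide +kernel

theorem hdisj_D4 : ∀ J ∈ orbs_D4, ∀ J' ∈ orbs_D4, J ≠ J' → ∃ i ∈ J', i ∉ J := by decide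

/-- the data of `³D₄` -/
theorem twData_D4 {q : ℕ} (f : K ≃+* K) (hfq : ∀ x, f x = x ^ q) (hf : ∀ x, f (f (f x)) = x) :
    TwData (ctxD4 f hf) (twistedD4 K q) orbs_D4 where
  bn := TwBNData.bnData_DE K (by simp)
  hsp := hsp_D4
  hfix := twistedD4_le_fix f hfq hf
  hUfix := by
    rw [← posUnipotent_inf_twistedD4 f hfq hf]
    exact inf_le_right
  horb := orbOK_D4
  hcls := hcls_D4
  hgen_mem := by
    intro J hJ b a ha
    unfold twistedD4 ChevalleyDatum.genSubgroup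
    apply Subgroup.subset_closure
    exact ⟨_, gen_of_orb_D4 f hfq J hJ b a ha, wordU_val _ _⟩
  hgen_le := by
    intro S hS
    unfold twistedD4 ChevalleyDatum.genSubgroup
    rw [Subgroup.closure_le]
    rintro g ⟨w, hw, hg⟩
    obtain ⟨J, hJ, b, a, ha, rfl⟩ := orb_of_gen_D4 f hfq w hw
    have hgw : g = wordU (ctxD4 f hf).hB (orbWord chevD4 f b J a) :=
      Units.ext (by rw [hg, wordU_val])
    rw [SetLike.mem_coe, hgw]
    exact hS J hJ b a ha
  hwJpos := hwJpos_D4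
  hwJneg := hwJneg_D4
  hdisj := hdisj_D4

/-- `³D₄(q)` has a `(B, N)`-pair with `B¹ = B ∩ G¹`, `N¹ = N ∩ G¹` -/
theorem twistedD4_bnPair [Fintype K] {q : ℕ} (hq : IsPrimePow q) (hK : Fintype.card K = q ^ 3) :
    ∃ P : Cfsg.BNPair ↥(twistedD4 K q),
      P.B = (chevD4.borelSubgroup K ⊓ twistedD4 K q).subgroupOf (twistedD4 K q) ∧
      P.N = (chevD4.monomialSubgroup K ⊓ twistedD4 K q).subgroupOf (twistedD4 K q) := by
  obtain ⟨f, hfq⟩ := TwField.exists_frob hq (by norm_num) hK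
  have hf : ∀ x, f (f (f x)) = x := fun x => TwField.frob_iterate hK f hfq x
  exact exists_bnPair (twData_D4 f hfq hf)

end Cfsg.Agent.Helper11.TwBNMain
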