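import Mathlib
import Cfsg.Agent.Helper11.TwBND
import Cfsg.Agent.Helper6.Chev.TorusCard

/-!
# The torus `H¹ = H ∩ G¹` of a twisted group

`H` is the image of the torus `(Fˣ)^l` under `torHom`; the twisting automorphism `σ` acts on the
parameters by `c ↦ (j ↦ f (c (ρ⁻¹ j)))`.  The `σ`-fixed elements of `H` are the images of the
`σ`-fixed parameters (norm trick and the adjugate of the Cartan matrix), and these lie in `G¹`.
-/

set_option autoImplicit false
set_option linter.unusedSectionVars false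
set_option linter.unusedVariables false

namespace Cfsg.Agent.Helper11.TwTorA

open Cfsg.Lie Cfsg.Agent.Helper6 Cfsg.Agent.Helper11.ChevGraphAut Cfsg.Agent.Helper11.TwUProd
  Cfsg.Agent.Helper11.TwSigma Cfsg.Agent.Helper11.TwFix Cfsg.Agent.Helper11.TwCtx
  Cfsg.Agent.Helper11.TwReach Cfsg.Agent.Helper11.TwBNA Cfsg.Agent.Helper11.TwBNB
  Cfsg.Agent.Helper11.TwBNC Cfsg.Agent.Helper11.TwBND

variable {D : ChevalleyDatum} {F : Type*} [Field F]

section basic

variable (X : Ctx D F)

/-- the permutation of the fundamental roots -/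
def rhoFin : Equiv.Perm (Fin D.rank) where
  toFun i := ⟨X.ρ i, (X.hG.1 i i.isLt).1⟩
  invFun i := ⟨X.ρ' i, (X.hG.1 i i.isLt).2.1⟩
  left_inv i := Fin.ext (X.hG.1 i i.isLt).2.2.1
  right_inv i := Fin.ext (X.hG.1 i i.isLt).2.2.2

theorem rhoFin_val (i : Fin D.rank) : ((rhoFin X i : Fin D.rank) : ℕ) = X.ρ i := rfl

theorem rhoFin_symm_val (i : Fin D.rank) : (((rhoFin X).symm i : Fin D.rank) : ℕ) = X.ρ' i := rfl

/-- the field automorphism on units -/
def fU : Fˣ →* Fˣ := Units.map (X.f : F →* F)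

theorem fU_val (t : Fˣ) : ((fU X t : Fˣ) : F) = X.f t := rfl

/-- the action of `σ` on the torus parameters -/
def twT : (Fin D.rank → Fˣ) →* (Fin D.rank → Fˣ) where
  toFun c j := fU X (c ((rhoFin X).symm j))
  map_one' := by funext j; simp
  map_mul' c d := by funext j; simp

theorem twT_apply (c : Fin D.rank → Fˣ) (j : Fin D.rank) :
    twT X c j = fU X (c ((rhoFin X).symm j)) := rfl

theorem twT_rho (c : Fin D.rank → Fˣ) (i : Fin D.rank) : twT X c (rhoFin X i) = fU X (c i) := by
  rw [twT_apply, Equiv.symm_apply_apply]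

theorem twT_mulSingle (i : Fin D.rank) (t : Fˣ) :
    twT X (Pi.mulSingle i t) = Pi.mulSingle (rhoFin X i) (fU X t) := by
  funext j
  rw [twT_apply]
  by_cases h : j = rhoFin X i
  · subst h
    rw [Equiv.symm_apply_apply, Pi.mulSingle_eq_same, Pi.mulSingle_eq_same]
  · have h' : (rhoFin X).symm j ≠ i := fun e => h (by rw [← e, Equiv.apply_symm_apply])
    rw [Pi.mulSingle_eq_of_ne h', Pi.mulSingle_eq_of_ne h, map_one]

/-- `h(c)` for a parameter supported at one fundamental root is `h_{p_i}(t)` -/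
theorem torHom_mulSingle (i : Fin D.rank) (t : Fˣ) :
    torHom D F (Pi.mulSingle i t) = wordU X.hB (D.hWord (D.simple i) (t : F)) := by
  apply Units.ext
  rw [torHom_val, wordU_val]
  have h1 : D.wordMat F (D.hWord (D.simple i) (t : F)) = D.hMat F (D.simple i) (t : F) := rfl
  rw [h1, hMat_simple_eq_diagonal X.hB (X.hAll i i.isLt).hS (X.hAll i i.isLt).hR (Units.ne_zero t)]
  unfold torMat dMat
  congr 1
  funext x
  rcases x with j | s
  · rfl
  · simp only [Sum.elim_inr]
    unfold torChar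
    rw [Finset.prod_eq_single i.val]
    · unfold extPar
      rw [dif_pos i.isLt]
      simp
    · intro k hk hki
      unfold extPar
      rw [dif_pos (Finset.mem_range.1 hk)]
      have : (⟨k, Finset.mem_range.1 hk⟩ : Fin D.rank) ≠ i := fun e => hki (by rw [← e])
      rw [Pi.mulSingle_eq_of_ne this]
      simp
    · intro h
      exact absurd (Finset.mem_range.2 i.isLt) h

/-- `σ(h_{p_i}(t)) = h_{p_{ρ i}}(f t)` -/
theorem sig_hWord_simple {i : ℕ} (hi : i < D.rank) (t : F) :
    X.sig (wordU X.hB (D.hWord (D.simple i) t)) =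
      wordU X.hB (D.hWord (D.simple (X.ρ i)) (X.f t)) := by
  have hr : D.simple i < D.nroots := (X.hAll i hi).hS.1
  have hnr := X.hB.neg _ hr
  obtain ⟨he2, hneg, -⟩ := X.hR _ hr
  obtain ⟨h1, h2, -⟩ := X.hG.2.2 i hi
  rw [X.sig_wordU]
  swap
  · intro p hp
    simp only [ChevalleyDatum.hWord, ChevalleyDatum.nWord, List.cons_append, List.nil_append,
      List.mem_cons, List.not_mem_nil, or_false] at hp
    rcases hp with rfl | rfl | rfl | rfl | rfl | rfl
    all_goals first | exact hr | exact hnr.1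
  simp only [ChevalleyDatum.hWord, ChevalleyDatum.nWord, List.cons_append, List.nil_append,
    List.map_cons, List.map_nil, he2, hneg, map_neg, map_inv₀, map_one, h2.1, h1, Int.cast_one,
    one_mul]

theorem sig_torHom_mulSingle (i : Fin D.rank) (t : Fˣ) :
    X.sig (torHom D F (Pi.mulSingle i t)) = torHom D F (twT X (Pi.mulSingle i t)) := by
  rw [twT_mulSingle, torHom_mulSingle X, torHom_mulSingle X, sig_hWord_simple X i.isLt]
  rfl

/-- `σ(h(c)) = h(σ c)` -/
theorem sig_torHom (c : Fin D.rank → Fˣ) : X.sig (torHom D F c) = torHom D F (twT X c) := by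
  have h : ∀ s : Finset (Fin D.rank),
      X.sig (torHom D F (∏ i ∈ s, Pi.mulSingle i (c i))) =
        torHom D F (twT X (∏ i ∈ s, Pi.mulSingle i (c i))) := by
    intro s
    induction s using Finset.induction_on with
    | empty => simp
    | insert a s ha ih =>
      rw [Finset.prod_insert ha, map_mul, map_mul, map_mul, map_mul, ih,
        sig_torHom_mulSingle X a (c a)]
  have := h Finset.univ
  rwa [Finset.univ_prod_mulSingle] at this

/-- the `σ`-fixed torus parameters -/
def T0 : Subgroup (Fin D.rank → Fˣ) := (twT X).eqLocus (MonoidHom.id _)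

theorem mem_T0 (c : Fin D.rank → Fˣ) : c ∈ T0 X ↔ twT X c = c := Iff.rfl

/-- the twisted torus -/
def H0 : Subgroup (GL D.Idx F) := (T0 X).map (torHom D F)

theorem H0_le_fix : H0 X ≤ X.fix := by
  rintro g ⟨c, hc, rfl⟩
  rw [X.mem_fix, sig_torHom, (mem_T0 X c).1 hc]

end basic

section fixed

variable (X : Ctx D F) (Δ : BNData D F)
include Δ

theorem H0_le_diagonal : H0 X ≤ D.diagonalSubgroup F := by
  rw [← range_torHom X.hB X.hAll Δ.hH]
  rintro g ⟨c, hc, rfl⟩
  exact ⟨c, rfl⟩

omit Δ in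
/-- the Cartan matrix is invariant under the graph automorphism -/
theorem cartanMat_rho (i j : Fin D.rank) :
    cartanMat D (rhoFin X i) (rhoFin X j) = cartanMat D i j := by
  show D.cartan (X.ρ i) (D.simple (X.ρ j)) = D.cartan i (D.simple j)
  have hr : D.simple j < D.nroots := (X.hAll j j.isLt).hS.1
  obtain ⟨-, -, hca, -⟩ := X.hR _ hr
  rw [← (X.hG.2.2 j j.isLt).1]
  exact hca i i.isLt

omit Δ in
/-- the monomial map of a `ρ`-invariant matrix commutes with the twisting -/
theorem powHom_twT {M : Matrix (Fin D.rank) (Fin D.rank) ℤ}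
    (hM : ∀ i j, M (rhoFin X i) (rhoFin X j) = M i j) (c : Fin D.rank → Fˣ) :
    powHom Fˣ M (twT X c) = twT X (powHom Fˣ M c) := by
  funext j
  rw [powHom_apply, twT_apply, powHom_apply, map_prod, ← Equiv.prod_comp (rhoFin X)]
  apply Finset.prod_congr rfl
  intro k _
  rw [twT_rho, map_zpow]
  congr 1
  have := hM k ((rhoFin X).symm j)
  rw [Equiv.apply_symm_apply] at this
  exact this

/-- a `σ`-fixed element of `H` has `σ`-fixed character values -/
theorem powHom_fix {c : Fin D.rank → Fˣ} (h : X.sig (torHom D F c) = torHom D F c) :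
    twT X (powHom Fˣ (cartanMat D) c) = powHom Fˣ (cartanMat D) c := by
  rw [sig_torHom] at h
  have h1 : twT X c * c⁻¹ ∈ (torHom D F).ker := by
    rw [MonoidHom.mem_ker, map_mul, map_inv, h, mul_inv_cancel]
  rw [ker_torHom X.hB X.hAll Δ.hReach, MonoidHom.mem_ker, map_mul, map_inv, mul_inv_eq_one] at h1
  rw [← powHom_twT X (cartanMat_rho X), h1]

/-- the `e`-th power of a `σ`-fixed element of `H` lies in the twisted torus, if `e A⁻¹` is integral -/
theorem pow_mem_H0 {A' : Matrix (Fin D.rank) (Fin D.rank) ℤ} {e : ℕ}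
    (hA : cartanMat D * A' = Matrix.diagonal (fun _ => (e : ℤ)))
    (hA' : ∀ i j, A' (rhoFin X i) (rhoFin X j) = A' i j)
    {d : GL D.Idx F} (hd : d ∈ D.diagonalSubgroup F ⊓ X.fix) : d ^ e ∈ H0 X := by
  obtain ⟨hdH, hdf⟩ := hd
  rw [← range_torHom X.hB X.hAll Δ.hH] at hdH
  obtain ⟨c, rfl⟩ := hdH
  have hdf : X.sig (torHom D F c) = torHom D F c := hdf
  have hχ := powHom_fix X Δ hdf
  refine ⟨powHom Fˣ A' (powHom Fˣ (cartanMat D) c), ?_, ?_⟩
  · show twT X _ = _
    rw [← powHom_twT X hA', hχ]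
    rfl
  · rw [← map_pow]
    congr 1
    have := powHom_mul (C := Fˣ) (cartanMat D) A'
    rw [hA] at this
    have h2 := DFunLike.congr_fun this c
    rw [MonoidHom.comp_apply] at h2
    rw [← h2]
    funext j
    rw [powHom_diagonal, Pi.pow_apply, zpow_natCast]

/-- the square of a `σ`-fixed element of `H` lies in the twisted torus, if `σ` has order two -/
theorem sq_mem_H0 (h2 : ∀ c, twT X (twT X c) = c)
    {d : GL D.Idx F} (hd : d ∈ D.diagonalSubgroup F ⊓ X.fix) : d ^ 2 ∈ H0 X := by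
  obtain ⟨hdH, hdf⟩ := hd
  rw [← range_torHom X.hB X.hAll Δ.hH] at hdH
  obtain ⟨c, rfl⟩ := hdH
  have hdf : X.sig (torHom D F c) = torHom D F c := hdf
  refine ⟨c * twT X c, ?_, ?_⟩
  · show twT X _ = _
    rw [map_mul, h2, mul_comm]
    rfl
  · rw [map_mul, ← sig_torHom, hdf, pow_two]

/-- the cube of a `σ`-fixed element of `H` lies in the twisted torus, if `σ` has order three -/
theorem cube_mem_H0 (h3 : ∀ c, twT X (twT X (twT X c)) = c)
    {d : GL D.Idx F} (hd : d ∈ D.diagonalSubgroup F ⊓ X.fix) : d ^ 3 ∈ H0 X := by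
  obtain ⟨hdH, hdf⟩ := hd
  rw [← range_torHom X.hB X.hAll Δ.hH] at hdH
  obtain ⟨c, rfl⟩ := hdH
  have hdf : X.sig (torHom D F c) = torHom D F c := hdf
  refine ⟨c * twT X c * twT X (twT X c), ?_, ?_⟩
  · show twT X _ = _
    rw [map_mul, map_mul, h3, mul_comm, mul_assoc]
    rfl
  · have e1 : torHom D F (twT X c) = torHom D F c := by rw [← sig_torHom, hdf]
    have e2 : torHom D F (twT X (twT X c)) = torHom D F c := by rw [← sig_torHom, e1, hdf]
    rw [map_mul, map_mul, e1, e2, pow_succ, pow_two]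

/-- the `σ`-fixed elements of `H` form the twisted torus -/
theorem diagonal_inf_fix (hsq : ∀ d ∈ D.diagonalSubgroup F ⊓ X.fix, d ^ 2 ∈ H0 X)
    (hcu : ∀ d ∈ D.diagonalSubgroup F ⊓ X.fix, d ^ 3 ∈ H0 X) :
    D.diagonalSubgroup F ⊓ X.fix = H0 X := by
  apply le_antisymm
  · intro d hd
    have : d = d ^ 3 * (d ^ 2)⁻¹ := by group
    rw [this]
    exact Subgroup.mul_mem _ (hcu d hd) (Subgroup.inv_mem _ (hsq d hd))
  · exact le_inf (H0_le_diagonal X Δ) (H0_le_fix X)

end fixed

section orbit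

/-- the coefficient function of an orbit word -/
def orbFun (D : ChevalleyDatum) (f : F ≃+* F) (J : List ℕ) (a : F) : ℕ → F :=
  match J with
  | [_] => fun _ => a
  | [i, _] => fun r => if r = D.simple i then a else f a
  | [i, j, _] => fun r => if r = D.simple i then a else if r = D.simple j then f a else f (f a)
  | _ => fun _ => 0

/-- the orbit words as `x_J(t)`, `x_{-J}(t)`, with the explicit coefficient function -/
theorem orbWord_eq' (hB : BasicOK D) {ρ : ℕ → ℕ} (f : F ≃+* F) {J : List ℕ} (hJ : OrbOK D ρ J)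
    (a : F) : wordU hB (orbWord D f true J a) = wp hB J (orbFun D f J a) ∧
      wordU hB (orbWord D f false J a) = wn hB J (orbFun D f J a) := by
  match J, hJ with
  | [i], _ =>
    constructor <;> simp [orbWord, wp, wn, orbFun]
  | [i, j], hJ =>
    obtain ⟨_, _, _, _, hso⟩ := hJ
    have hne : D.simple j ≠ D.simple i := Ne.symm hso.1
    constructor <;> simp [orbWord, wp, wn, orbFun, hne]
  | [i, j, k], hJ =>
    obtain ⟨_, _, _, _, _, _, hij, hik, hjk⟩ := hJ
    have h1 : D.simple j ≠ D.simple i := Ne.symm hij.1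
    have h2 : D.simple k ≠ D.simple i := Ne.symm hik.1
    have h3 : D.simple k ≠ D.simple j := Ne.symm hjk.1
    constructor <;> simp [orbWord, wp, wn, orbFun, h1, h2, h3]

theorem orbFun_inv (f : F ≃+* F) (J : List ℕ) (a : F) :
    (fun r => (orbFun D f J a r)⁻¹) = orbFun D f J a⁻¹ := by
  funext r
  match J with
  | [] => simp [orbFun]
  | [_] => simp [orbFun]
  | [i, _] =>
    simp only [orbFun]
    split_ifs <;> simp
  | [i, j, _] =>
    simp only [orbFun]
    split_ifs <;> simp
  | _ :: _ :: _ :: _ :: _ => simp [orbFun]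

variable {X : Ctx D F} {G1 : Subgroup (GL D.Idx F)} {orbs : List (List ℕ)} (T : TwData X G1 orbs)
include T

/-- the torus element of an orbit lies in `G¹` -/
theorem hJ_orbFun_mem {J : List ℕ} (hJ : J ∈ orbs) {a : F} (ha : a ≠ 0)
    (hfa : J.length = 1 → X.f a = a) (ht : ∀ i ∈ J, orbFun D X.f J a (D.simple i) ≠ 0) :
    TwBNA.hJ X.hB J (orbFun D X.f J a) ∈ G1 := by
  have hO := T.horb J hJ
  have hlt := hO.lt
  have hpw := OrbOK.pairwise hO
  have h1 := wn_eq X T.hsp J hlt hpw (orbFun D X.f J a) ht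
  rw [orbFun_inv] at h1
  obtain ⟨-, e2⟩ := orbWord_eq' X.hB X.f hO a
  obtain ⟨e3, -⟩ := orbWord_eq' X.hB X.f hO a⁻¹
  have m2 : wn X.hB J (orbFun D X.f J a) ∈ G1 := by
    rw [← e2]; exact T.hgen_mem J hJ false a hfa
  have m3 : wp X.hB J (orbFun D X.f J a⁻¹) ∈ G1 := by
    rw [← e3]
    exact T.hgen_mem J hJ true a⁻¹ (fun h => by rw [map_inv₀, hfa h])
  have m4 := nJ_mem T hJ
  have : TwBNA.hJ X.hB J (orbFun D X.f J a) = (wp X.hB J (orbFun D X.f J a⁻¹))⁻¹ *
      wn X.hB J (orbFun D X.f J a) * (wp X.hB J (orbFun D X.f J a⁻¹))⁻¹ *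
      (nJ (F := F) X.hB J)⁻¹ := by
    rw [h1]; group
  rw [this]
  exact G1.mul_mem (G1.mul_mem (G1.mul_mem (G1.inv_mem m3) m2) (G1.inv_mem m3)) (G1.inv_mem m4)

end orbit

section decomp

/-- extension of the parameters to all indices -/
def ext1 (c : Fin D.rank → Fˣ) (i : ℕ) : Fˣ := if h : i < D.rank then c ⟨i, h⟩ else 1

theorem ext1_val (c : Fin D.rank → Fˣ) (j : Fin D.rank) : ext1 c j.val = c j := by
  unfold ext1; rw [dif_pos j.isLt]

/-- the parameter supported at one index -/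
def msg (D : ChevalleyDatum) (F : Type*) [Field F] (i : ℕ) (t : Fˣ) : Fin D.rank → Fˣ :=
  fun j => if j.val = i then t else 1

/-- restriction of the parameters to a list of indices -/
def res (c : Fin D.rank → Fˣ) (J : List ℕ) : Fin D.rank → Fˣ :=
  fun j => if j.val ∈ J then c j else 1

theorem msg_eq_mulSingle {i : ℕ} (h : i < D.rank) (t : Fˣ) :
    msg D F i t = Pi.mulSingle (⟨i, h⟩ : Fin D.rank) t := by
  funext j
  unfold msg
  by_cases e : j = ⟨i, h⟩
  · subst e; simp
  · have : j.val ≠ i := fun e' => e (Fin.ext e')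
    rw [if_neg this, Pi.mulSingle_eq_of_ne e]

theorem res_eq_prod (c : Fin D.rank → Fˣ) : ∀ J : List ℕ, J.Nodup →
    res c J = (J.map fun i => msg D F i (ext1 c i)).prod := by
  intro J
  induction J with
  | nil => intro _; funext j; simp [res]
  | cons i J ih =>
    intro hnd
    rw [List.nodup_cons] at hnd
    rw [List.map_cons, List.prod_cons, ← ih hnd.2]
    funext j
    simp only [res, msg, Pi.mul_apply, List.mem_cons]
    by_cases e : j.val = i
    · have : j.val ∉ J := by rw [e]; exact hnd.1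
      rw [if_pos (Or.inl e), if_pos e, if_neg this, mul_one, ← e, ext1_val]
    · rw [if_neg e, one_mul]
      by_cases e' : j.val ∈ J
      · rw [if_pos (Or.inr e'), if_pos e']
      · rw [if_neg (by tauto), if_neg e']

theorem prod_res (c : Fin D.rank → Fˣ) : ∀ L : List (List ℕ),
    L.Pairwise (fun J J' => ∀ i ∈ J, i ∉ J') → (L.map (res c)).prod = res c L.flatten := by
  intro L
  induction L with
  | nil => intro _; funext j; simp [res]
  | cons J L ih =>
    intro hpw
    rw [List.pairwise_cons] at hpw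
    rw [List.map_cons, List.prod_cons, ih hpw.2, List.flatten_cons]
    funext j
    simp only [res, Pi.mul_apply, List.mem_append]
    by_cases e : j.val ∈ J
    · have : j.val ∉ L.flatten := by
        intro h
        rw [List.mem_flatten] at h
        obtain ⟨J', hJ', hj⟩ := h
        exact hpw.1 J' hJ' _ e hj
      rw [if_pos e, if_neg this, mul_one, if_pos (Or.inl e)]
    · rw [if_neg e, one_mul]
      by_cases e' : j.val ∈ L.flatten
      · rw [if_pos e', if_pos (Or.inr e')]
      · rw [if_neg e', if_neg (by tauto)]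

theorem res_flatten (c : Fin D.rank → Fˣ) {L : List ℕ} (h : ∀ i < D.rank, i ∈ L) :
    res c L = c := by
  funext j
  unfold res
  rw [if_pos (h j.val j.isLt)]

variable (X : Ctx D F)

theorem torHom_res (c : Fin D.rank → Fˣ) {J : List ℕ} (hlt : ∀ i ∈ J, i < D.rank)
    (hnd : J.Nodup) :
    torHom D F (res c J) =
      (J.map fun i => wordU X.hB (D.hWord (D.simple i) ((ext1 c i : Fˣ) : F))).prod := by
  rw [res_eq_prod c J hnd, map_list_prod, List.map_map]
  congr 1
  apply List.map_congr_left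
  intro i hi
  rw [Function.comp, msg_eq_mulSingle (hlt i hi), torHom_mulSingle X]

theorem ext1_rho {c : Fin D.rank → Fˣ} (hc : twT X c = c) {i : ℕ} (hi : i < D.rank) :
    ((ext1 c (X.ρ i) : Fˣ) : F) = X.f ((ext1 c i : Fˣ) : F) := by
  have h1 := twT_rho X c ⟨i, hi⟩
  rw [hc] at h1
  have h2 : ext1 c (X.ρ i) = c (rhoFin X ⟨i, hi⟩) := ext1_val c (rhoFin X ⟨i, hi⟩)
  have h3 : ext1 c i = c ⟨i, hi⟩ := ext1_val c ⟨i, hi⟩
  rw [h2, h1, h3]
  rfl

/-- a `σ`-fixed parameter on an orbit comes from an orbit word -/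
theorem exists_orbFun {c : Fin D.rank → Fˣ} (hc : twT X c = c) {J : List ℕ}
    (hO : OrbOK D X.ρ J) :
    ∃ a : F, a ≠ 0 ∧ (J.length = 1 → X.f a = a) ∧
      ∀ i ∈ J, ((ext1 c i : Fˣ) : F) = -(orbFun D X.f J a (D.simple i))⁻¹ := by
  match J, hO with
  | [i], hO =>
    obtain ⟨hi, hρ⟩ := hO
    have h1 := ext1_rho X hc hi
    rw [hρ] at h1
    refine ⟨-((ext1 c i : Fˣ) : F)⁻¹, neg_ne_zero.2 (inv_ne_zero (Units.ne_zero _)), ?_, ?_⟩
    · intro _
      rw [map_neg, map_inv₀, ← h1]
    · intro k hk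
      rw [List.mem_singleton] at hk
      subst hk
      simp [orbFun]
  | [i, j], hO =>
    obtain ⟨hi, hj, hρi, hρj, hso⟩ := hO
    have hne : D.simple j ≠ D.simple i := Ne.symm hso.1
    have h1 := ext1_rho X hc hi
    rw [hρi] at h1
    refine ⟨-((ext1 c i : Fˣ) : F)⁻¹, neg_ne_zero.2 (inv_ne_zero (Units.ne_zero _)), ?_, ?_⟩
    · intro h; simp at h
    · intro k hk
      simp only [List.mem_cons, List.not_mem_nil, or_false] at hk
      rcases hk with rfl | rfl
      · simp [orbFun]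
      · simp [orbFun, hne, h1]
  | [i, j, k], hO =>
    obtain ⟨hi, hj, hk, hρi, hρj, hρk, hij, hik, hjk⟩ := hO
    have n1 : D.simple j ≠ D.simple i := Ne.symm hij.1
    have n2 : D.simple k ≠ D.simple i := Ne.symm hik.1
    have n3 : D.simple k ≠ D.simple j := Ne.symm hjk.1
    have h1 := ext1_rho X hc hi
    rw [hρi] at h1
    have h2 := ext1_rho X hc hj
    rw [hρj] at h2
    refine ⟨-((ext1 c i : Fˣ) : F)⁻¹, neg_ne_zero.2 (inv_ne_zero (Units.ne_zero _)), ?_, ?_⟩
    · intro h; simp at h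
    · intro m hm
      simp only [List.mem_cons, List.not_mem_nil, or_false] at hm
      rcases hm with rfl | rfl | rfl
      · simp [orbFun]
      · simp [orbFun, n1, h1]
      · simp [orbFun, n2, n3, h2, h1]

variable {X} {G1 : Subgroup (GL D.Idx F)} {orbs : List (List ℕ)} (T : TwData X G1 orbs)
include T

theorem torHom_res_mem {c : Fin D.rank → Fˣ} (hc : twT X c = c) {J : List ℕ} (hJ : J ∈ orbs) :
    torHom D F (res c J) ∈ G1 := by
  have hO := T.horb J hJ
  have hlt := hO.lt
  have hnd : J.Nodup := by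
    have hpw := OrbOK.pairwise hO
    apply hpw.imp
    intro a b hab e
    exact hab.1 (by rw [e])
  obtain ⟨a, ha, hfa, hval⟩ := exists_orbFun X hc hO
  have ht : ∀ i ∈ J, orbFun D X.f J a (D.simple i) ≠ 0 := by
    intro i hi h0
    have := hval i hi
    rw [h0, inv_zero, neg_zero] at this
    exact Units.ne_zero _ this
  have hm := hJ_orbFun_mem T hJ ha hfa ht
  have : torHom D F (res c J) = TwBNA.hJ X.hB J (orbFun D X.f J a) := by
    rw [torHom_res X c hlt hnd]
    unfold TwBNA.hJ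
    rw [List.map_map]
    congr 1
    apply List.map_congr_left
    intro i hi
    rw [Function.comp, hval i hi]
  rw [this]
  exact hm

/-- the twisted torus lies in `G¹` -/
theorem H0_le_G1 (hcov : ∀ i < D.rank, i ∈ orbs.flatten)
    (hdj : orbs.Pairwise (fun J J' => ∀ i ∈ J, i ∉ J')) : H0 X ≤ G1 := by
  rintro g ⟨c, hc, rfl⟩
  have hc' : twT X c = c := hc
  have h1 : c = (orbs.map (res c)).prod := by
    rw [prod_res c orbs hdj, res_flatten c hcov]
  rw [h1, map_list_prod]
  apply Subgroup.list_prod_mem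
  intro g hg
  rw [List.map_map, List.mem_map] at hg
  obtain ⟨J, hJ, rfl⟩ := hg
  exact torHom_res_mem T hc' hJ

/-- `H ∩ G¹` is the twisted torus -/
theorem diagonal_inf_G1 (hcov : ∀ i < D.rank, i ∈ orbs.flatten)
    (hdj : orbs.Pairwise (fun J J' => ∀ i ∈ J, i ∉ J'))
    (hsq : ∀ d ∈ D.diagonalSubgroup F ⊓ X.fix, d ^ 2 ∈ H0 X)
    (hcu : ∀ d ∈ D.diagonalSubgroup F ⊓ X.fix, d ^ 3 ∈ H0 X) :
    D.diagonalSubgroup F ⊓ G1 = H0 X := by
  apply le_antisymm
  · rw [← diagonal_inf_fix X T.bn hsq hcu]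
    exact inf_le_inf_left _ T.hfix
  · exact le_inf (H0_le_diagonal X T.bn) (H0_le_G1 T hcov hdj)

end decomp

section card

variable (X : Ctx D F) (Δ : BNData D F)
include Δ

/-- `|T₀ ∩ ker| · |H₀| = |T₀|` -/
theorem card_ker_mul_card_H0 [Finite F] :
    Nat.card {c : Fin D.rank → Fˣ // twT X c = c ∧ powHom Fˣ (cartanMat D) c = 1} *
      Nat.card (H0 X) = Nat.card {c : Fin D.rank → Fˣ // twT X c = c} := by
  set g := (torHom D F).domRestrict (T0 X) with hg
  have h1 := Subgroup.card_mul_index g.ker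
  rw [Subgroup.index_ker, MonoidHom.domRestrict_range] at h1
  have hker : ∀ x : ↥(T0 X), x ∈ g.ker ↔ powHom Fˣ (cartanMat D) x.1 = 1 := by
    intro x
    rw [MonoidHom.mem_ker]
    show torHom D F x.1 = 1 ↔ _
    rw [← MonoidHom.mem_ker, ker_torHom X.hB X.hAll Δ.hReach, MonoidHom.mem_ker]
  have e1 : Nat.card g.ker =
      Nat.card {c : Fin D.rank → Fˣ // twT X c = c ∧ powHom Fˣ (cartanMat D) c = 1} := by
    apply Nat.card_congr
    refine ⟨fun x => ⟨x.1.1, x.1.2, (hker x.1).1 x.2⟩,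
      fun c => ⟨⟨c.1, c.2.1⟩, (hker ⟨c.1, c.2.1⟩).2 c.2.2⟩, ?_, ?_⟩
    · intro x; rfl
    · intro c; rfl
  have e2 : Nat.card ↥(T0 X) = Nat.card {c : Fin D.rank → Fˣ // twT X c = c} := rfl
  rw [e1, e2] at h1
  exact h1

end card

end Cfsg.Agent.Helper11.TwTorA
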