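import Mathlib
import Cfsg.Agent.Helper11.D4Red
import Cfsg.Agent.Helper11.TwBNMain
import Cfsg.Agent.Helper11.TwTorA

/-!
# Fusion of the involutions of `U^σ` in `³D₄(q)`, `q` even: Weyl group and torus
-/

set_option autoImplicit false
set_option linter.unusedSectionVars false
set_option linter.unusedVariables false
set_option linter.unusedSimpArgs false

namespace Cfsg.Agent.Helper11.D4Par

open Cfsg.Lie Cfsg.Agent.Helper6 Cfsg.Agent.Helper11.D4Coll Cfsg.Agent.Helper11.TwCtx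
  Cfsg.Agent.Helper11.TwMain Cfsg.Agent.Helper11.TwReach Cfsg.Agent.Helper11.TwBND
  Cfsg.Agent.Helper11.TwBNMain

variable {K : Type*} [Field K]

/-- conjugacy under a subgroup -/
def Cj (G : Subgroup (GL chevD4.Idx K)) (x y : GL chevD4.Idx K) : Prop :=
  ∃ h ∈ G, h * x * h⁻¹ = y

theorem Cj.refl (G : Subgroup (GL chevD4.Idx K)) (x : GL chevD4.Idx K) : Cj G x x :=
  ⟨1, G.one_mem, by group⟩

theorem Cj.symm {G : Subgroup (GL chevD4.Idx K)} {x y : GL chevD4.Idx K} (h : Cj G x y) :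
    Cj G y x := by
  obtain ⟨g, hg, rfl⟩ := h
  exact ⟨g⁻¹, G.inv_mem hg, by group⟩

theorem Cj.trans {G : Subgroup (GL chevD4.Idx K)} {x y z : GL chevD4.Idx K} (h : Cj G x y)
    (h' : Cj G y z) : Cj G x z := by
  obtain ⟨g, hg, rfl⟩ := h
  obtain ⟨g', hg', rfl⟩ := h'
  exact ⟨g' * g, G.mul_mem hg' hg, by group⟩

set_option maxRecDepth 100000 in
theorem etaJ_pm : ∀ J ∈ orbs_D4, ∀ r < 24, etaJ chevD4 J r = 1 ∨ etaJ chevD4 J r = -1 := by
  decide +kernel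

section char2

variable [CharP K 2]

/-- conjugation of positive words by the Weyl elements of the twisted group -/
theorem nJ_conj_W {J : List ℕ} (hJ : J ∈ orbs_D4) (w : List (ℕ × K)) (hw : ∀ p ∈ w, p.1 < 24) :
    nJ hB4 J * W w * (nJ (F := K) hB4 J)⁻¹ = W (w.map fun p => (wJ chevD4 J p.1, p.2)) := by
  have hlt : ∀ i ∈ J, i < chevD4.rank := (orbOK_D4 J hJ).lt
  have h1 := nJ_conj_wordU hB4 (X0 K).hAll hlt w hw
  unfold W
  rw [h1]
  congr 1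
  apply List.map_congr_left
  intro p hp
  have hm : ((-1 : ℤ) : K) = 1 := by
    rw [Int.cast_neg, Int.cast_one]; exact CharTwo.neg_eq 1
  rcases etaJ_pm J hJ p.1 (hw p hp) with h | h
  · rw [h, Int.cast_one, one_mul]
  · rw [h, hm, one_mul]

end char2

section fusion

variable [CharP K 2] {Φ : Frob K}

theorem toGL_pA (s : K) : toGL (pA s : Par Φ) = W [(18, s), (13, Φ.f s), (12, Φ.f (Φ.f s))] := by
  simp [toGL, pA, Mw, W_cons, W_nil, X_zero]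

theorem toGL_pB (u : K) (hu : Φ.f u = u) : toGL (pB u hu : Par Φ) = W [(14, u)] := by
  simp [toGL, pB, Mw, W_cons, W_nil, X_zero]

theorem toGL_pC (s : K) : toGL (pC s : Par Φ) = W [(19, s), (16, Φ.f s), (15, Φ.f (Φ.f s))] := by
  simp [toGL, pC, Mw, W_cons, W_nil, X_zero]

theorem toGL_pD (s : K) : toGL (pD s : Par Φ) = W [(21, s), (20, Φ.f (Φ.f s)), (17, Φ.f s)] := by
  simp [toGL, pD, Mw, W_cons, W_nil, X_zero]

theorem toGL_pE (u : K) (hu : Φ.f u = u) : toGL (pE u hu : Par Φ) = W [(22, u)] := by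
  simp [toGL, pE, Mw, W_cons, W_nil, X_zero]

theorem toGL_pF (u : K) (hu : Φ.f u = u) : toGL (pF u hu : Par Φ) = W [(23, u)] := by
  simp [toGL, pF, Mw, W_cons, W_nil, X_zero]

theorem toGL_pBD (u : K) (hu : Φ.f u = u) (d : K) : toGL (pB u hu * pD d : Par Φ) =
    W [(14, u), (21, d), (20, Φ.f (Φ.f d)), (17, Φ.f d)] := by
  rw [pB_mul_pD]
  simp [toGL, Mw, W_cons, W_nil, X_zero]

theorem toGL_pAF (a : K) (g : K) (hg : Φ.f g = g) : toGL (pA a * pF g hg : Par Φ) =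
    W [(18, a), (13, Φ.f a), (12, Φ.f (Φ.f a)), (23, g)] := by
  rw [pA_mul_pF]
  simp [toGL, Mw, W_cons, W_nil, X_zero]

theorem pC_mul_pE (c : K) (e : K) (he : Φ.f e = e) :
    pC c * pE e he = (⟨0, 0, c, 0, e, 0, map_zero _, he, map_zero _⟩ : Par Φ) := by
  apply Par.ext <;> simp [pC, pE]

theorem toGL_pCE (c : K) (e : K) (he : Φ.f e = e) : toGL (pC c * pE e he : Par Φ) =
    W [(19, c), (16, Φ.f c), (15, Φ.f (Φ.f c)), (22, e)] := by
  rw [pC_mul_pE]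
  simp [toGL, Mw, W_cons, W_nil, X_zero]

set_option maxRecDepth 100000 in
theorem wJb_vals : wJ chevD4 [1] 18 = 19 ∧ wJ chevD4 [1] 13 = 16 ∧ wJ chevD4 [1] 12 = 15 ∧
    wJ chevD4 [1] 23 = 22 := by decide +kernel

set_option maxRecDepth 100000 in
theorem wJa_vals : wJ chevD4 [0, 2, 3] 14 = 22 ∧ wJ chevD4 [0, 2, 3] 19 = 17 ∧
    wJ chevD4 [0, 2, 3] 16 = 20 ∧ wJ chevD4 [0, 2, 3] 15 = 21 ∧ wJ chevD4 [0, 2, 3] 21 = 15 ∧
    wJ chevD4 [0, 2, 3] 20 = 16 ∧ wJ chevD4 [0, 2, 3] 17 = 19 := by decide +kernel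

variable (G1 : Subgroup (GL chevD4.Idx K)) (hn : ∀ J ∈ orbs_D4, nJ (F := K) hB4 J ∈ G1)
include hn

set_option maxRecDepth 8000 in
theorem cj_F_E (u : K) (hu : Φ.f u = u) : Cj G1 (toGL (pF u hu : Par Φ)) (toGL (pE u hu : Par Φ)) := by
  refine ⟨nJ hB4 [1], hn _ (by decide), ?_⟩
  rw [toGL_pF, toGL_pE, nJ_conj_W (by decide) _ (by simp)]
  simp only [List.map_cons, List.map_nil, wJb_vals.2.2.2]

set_option maxRecDepth 8000 in
theorem cj_B_E (u : K) (hu : Φ.f u = u) : Cj G1 (toGL (pB u hu : Par Φ)) (toGL (pE u hu : Par Φ)) := by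
  refine ⟨nJ hB4 [0, 2, 3], hn _ (by decide), ?_⟩
  rw [toGL_pB, toGL_pE, nJ_conj_W (by decide) _ (by simp)]
  simp only [List.map_cons, List.map_nil, wJa_vals.1]

set_option maxRecDepth 8000 in
theorem cj_A_C (s : K) : Cj G1 (toGL (pA s : Par Φ)) (toGL (pC s : Par Φ)) := by
  refine ⟨nJ hB4 [1], hn _ (by decide), ?_⟩
  rw [toGL_pA, toGL_pC, nJ_conj_W (by decide) _ (by simp)]
  simp only [List.map_cons, List.map_nil, wJb_vals.1, wJb_vals.2.1, wJb_vals.2.2.1]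

set_option maxRecDepth 8000 in
theorem cj_C_D (s : K) : Cj G1 (toGL (pC s : Par Φ)) (toGL (pD (Φ.f (Φ.f s)) : Par Φ)) := by
  refine ⟨nJ hB4 [0, 2, 3], hn _ (by decide), ?_⟩
  rw [toGL_pC, toGL_pD, nJ_conj_W (by decide) _ (by simp)]
  have e : ([(19, s), (16, Φ.f s), (15, Φ.f (Φ.f s))] : List (ℕ × K)).map
      (fun p => (wJ chevD4 [0, 2, 3] p.1, p.2)) = [(17, s), (20, Φ.f s), (21, Φ.f (Φ.f s))] := by
    simp only [List.map_cons, List.map_nil, wJa_vals.2.1, wJa_vals.2.2.1, wJa_vals.2.2.2.1]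
  rw [e, ← W_collect 100 _ (by simp [Pos])]
  simp only [Φ.hf]
  rfl

set_option maxRecDepth 8000 in
theorem cj_BD_CE (u : K) (hu : Φ.f u = u) (d : K) :
    Cj G1 (toGL (pB u hu * pD d : Par Φ)) (toGL (pC (Φ.f d) * pE u hu : Par Φ)) := by
  refine ⟨nJ hB4 [0, 2, 3], hn _ (by decide), ?_⟩
  rw [toGL_pBD, toGL_pCE, nJ_conj_W (by decide) _ (by simp)]
  have e : ([(14, u), (21, d), (20, Φ.f (Φ.f d)), (17, Φ.f d)] : List (ℕ × K)).map
      (fun p => (wJ chevD4 [0, 2, 3] p.1, p.2)) =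
      [(22, u), (15, d), (16, Φ.f (Φ.f d)), (19, Φ.f d)] := by
    simp only [List.map_cons, List.map_nil, wJa_vals.1, wJa_vals.2.2.2.2.1, wJa_vals.2.2.2.2.2.1,
      wJa_vals.2.2.2.2.2.2]
  rw [e, ← W_collect 100 _ (by simp [Pos])]
  simp only [Φ.hf]
  rfl

set_option maxRecDepth 8000 in
theorem cj_AF_CE (a : K) (g : K) (hg : Φ.f g = g) :
    Cj G1 (toGL (pA a * pF g hg : Par Φ)) (toGL (pC a * pE g hg : Par Φ)) := by
  refine ⟨nJ hB4 [1], hn _ (by decide), ?_⟩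
  rw [toGL_pAF, toGL_pCE, nJ_conj_W (by decide) _ (by simp)]
  simp only [List.map_cons, List.map_nil, wJb_vals.1, wJb_vals.2.1, wJb_vals.2.2.1, wJb_vals.2.2.2]

end fusion

section torus

variable [CharP K 2] {Φ : Frob K}

/-- the torus elements `h_i(c)` -/
noncomputable def hU (i : ℕ) (c : K) : GL chevD4.Idx K :=
  wordU hB4 (chevD4.hWord (chevD4.simple i) c)

omit [CharP K 2] in
theorem hU_conj_X {i : ℕ} (hi : i < 4) {s : ℕ} (hs : s < 24) {c : K} (hc : c ≠ 0) (t : K) :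
    hU i c * X s t * (hU i c)⁻¹ = X s (c ^ (chevD4.cartan i s) * t) := by
  have hA := (X0 K).hAll i hi
  have hAdd := (TwBNData.bnData_DE K (D := chevD4) (by simp)).hAdd i hi
  rw [mul_inv_eq_iff_eq_mul]
  apply Units.ext
  simp only [Units.val_mul, hU, X, wordU_val, xU_val]
  exact hMat_mul_x hB4 hA.hS hA.hR hAdd hi hs hc t

omit [CharP K 2] in
theorem hU_conj_W {i : ℕ} (hi : i < 4) {c : K} (hc : c ≠ 0) (w : List (ℕ × K))
    (hw : ∀ p ∈ w, p.1 < 24) :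
    hU i c * W w * (hU i c)⁻¹ = W (w.map fun p => (p.1, c ^ (chevD4.cartan i p.1) * p.2)) := by
  induction w with
  | nil => simp [W_nil]
  | cons p w ih =>
    rw [W_cons, List.map_cons, W_cons, ← ih (fun q hq => hw q (List.mem_cons_of_mem _ hq)),
      ← hU_conj_X hi (hw p List.mem_cons_self) hc]
    group

set_option maxRecDepth 100000 in
theorem cartan_vals : chevD4.cartan 1 23 = 1 ∧ chevD4.cartan 0 18 = 2 ∧ chevD4.cartan 0 13 = 0 ∧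
    chevD4.cartan 0 12 = 0 ∧ chevD4.cartan 2 18 = 0 ∧ chevD4.cartan 2 13 = 2 ∧
    chevD4.cartan 2 12 = 0 ∧ chevD4.cartan 3 18 = 0 ∧ chevD4.cartan 3 13 = 0 ∧
    chevD4.cartan 3 12 = 2 := by decide +kernel

theorem simple_vals : chevD4.simple 0 = 18 ∧ chevD4.simple 1 = 14 ∧ chevD4.simple 2 = 13 ∧
    chevD4.simple 3 = 12 := by decide

variable (G1 : Subgroup (GL chevD4.Idx K))

/-- all long root elements of the centre of `U^σ` are conjugate -/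
theorem cj_F_one
    (ht : ∀ a : K, a ≠ 0 → Φ.f a = a → TwBNA.hJ hB4 [1] (TwTorA.orbFun chevD4 Φ.f [1] a) ∈ G1)
    {u : K} (hu0 : u ≠ 0) (hu : Φ.f u = u) :
    Cj G1 (toGL (pF u hu : Par Φ)) (toGL (pF 1 (map_one _) : Par Φ)) := by
  refine ⟨_, ht u hu0 hu, ?_⟩
  have e : TwBNA.hJ hB4 [1] (TwTorA.orbFun chevD4 Φ.f [1] u) = hU 1 (-u⁻¹) := by
    simp [TwBNA.hJ, TwTorA.orbFun, hU]
  have hc : -u⁻¹ ≠ 0 := neg_ne_zero.2 (inv_ne_zero hu0)
  rw [e, toGL_pF, toGL_pF, hU_conj_W (by norm_num) hc _ (by simp)]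
  simp only [List.map_cons, List.map_nil, cartan_vals.1, zpow_one]
  congr 3
  rw [neg_mul, inv_mul_cancel₀ hu0]
  exact CharTwo.neg_eq 1

/-- all short root elements of the class `A` are conjugate -/
theorem cj_A_one [Finite K]
    (ht : ∀ a : K, a ≠ 0 →
      TwBNA.hJ hB4 [0, 2, 3] (TwTorA.orbFun chevD4 Φ.f [0, 2, 3] a) ∈ G1)
    {s : K} (hs0 : s ≠ 0) :
    Cj G1 (toGL (pA s : Par Φ)) (toGL (pA 1 : Par Φ)) := by
  have : Fact (Nat.Prime 2) := ⟨Nat.prime_two⟩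
  obtain ⟨a, ha⟩ := surjective_frobenius K 2 s
  rw [frobenius_def] at ha
  have ha0 : a ≠ 0 := by
    rintro rfl
    apply hs0
    rw [← ha]; ring
  refine ⟨_, ht a ha0, ?_⟩
  have hfa : Φ.f a ≠ 0 := (map_ne_zero Φ.f).2 ha0
  have hffa : Φ.f (Φ.f a) ≠ 0 := (map_ne_zero Φ.f).2 hfa
  have e : TwBNA.hJ hB4 [0, 2, 3] (TwTorA.orbFun chevD4 Φ.f [0, 2, 3] a) =
      hU 0 (-a⁻¹) * (hU 2 (-(Φ.f a)⁻¹) * hU 3 (-(Φ.f (Φ.f a))⁻¹)) := by
    simp [TwBNA.hJ, TwTorA.orbFun, hU, simple_vals.1, simple_vals.2.2.1, simple_vals.2.2.2]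
  have hc0 : -a⁻¹ ≠ 0 := neg_ne_zero.2 (inv_ne_zero ha0)
  have hc2 : -(Φ.f a)⁻¹ ≠ 0 := neg_ne_zero.2 (inv_ne_zero hfa)
  have hc3 : -(Φ.f (Φ.f a))⁻¹ ≠ 0 := neg_ne_zero.2 (inv_ne_zero hffa)
  have hconj : ∀ (h0 h2 h3 x : GL chevD4.Idx K), h0 * (h2 * h3) * x * (h0 * (h2 * h3))⁻¹ =
      h0 * (h2 * (h3 * x * h3⁻¹) * h2⁻¹) * h0⁻¹ := by intros; group
  rw [e, hconj, toGL_pA, toGL_pA, hU_conj_W (by norm_num) hc3 _ (by simp),
    hU_conj_W (by norm_num) hc2 _ (by simp), hU_conj_W (by norm_num) hc0 _ (by simp)]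
  simp only [List.map_cons, List.map_nil, cartan_vals.2.1, cartan_vals.2.2.1, cartan_vals.2.2.2.1,
    cartan_vals.2.2.2.2.1, cartan_vals.2.2.2.2.2.1, cartan_vals.2.2.2.2.2.2.1,
    cartan_vals.2.2.2.2.2.2.2.1, cartan_vals.2.2.2.2.2.2.2.2.1, cartan_vals.2.2.2.2.2.2.2.2.2,
    zpow_zero, one_mul, map_one]
  have e2 : ∀ b : K, b ≠ 0 → (-b⁻¹) ^ (2 : ℤ) * b ^ 2 = 1 := by
    intro b hb
    rw [zpow_two]
    field_simp
  have h18 : (-a⁻¹) ^ (2 : ℤ) * s = 1 := by rw [← ha]; exact e2 a ha0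
  have h13 : (-(Φ.f a)⁻¹) ^ (2 : ℤ) * Φ.f s = 1 := by rw [← ha, map_pow]; exact e2 _ hfa
  have h12 : (-(Φ.f (Φ.f a))⁻¹) ^ (2 : ℤ) * Φ.f (Φ.f s) = 1 := by
    rw [← ha, map_pow, map_pow]; exact e2 _ hffa
  rw [h18, h13, h12]

end torus

end Cfsg.Agent.Helper11.D4Par
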