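import Mathlib
import Cfsg.Agent.Helper11.D4Weyl

/-!
# Every involution of `U^σ` is conjugate in `³D₄(q)`, `q` even, to one of two root elements
-/

set_option autoImplicit false
set_option linter.unusedSectionVars false
set_option linter.unusedVariables false
set_option linter.unusedSimpArgs false

namespace Cfsg.Agent.Helper11.D4Par

open Cfsg.Lie Cfsg.Agent.Helper6 Cfsg.Agent.Helper11.D4Coll Cfsg.Agent.Helper11.TwCtx
  Cfsg.Agent.Helper11.TwMain Cfsg.Agent.Helper11.TwReach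

variable {K : Type*} [Field K] [CharP K 2] {Φ : Frob K}

theorem sq_of_cj {G1 : Subgroup (GL chevD4.Idx K)} {x y : GL chevD4.Idx K} (h : Cj G1 x y)
    (hx : x * x = 1) : y * y = 1 := by
  obtain ⟨g, -, rfl⟩ := h
  exact conj_sq hx

theorem par_sq_iff (t : Par Φ) : t * t = 1 ↔ toGL t * toGL t = 1 := by
  rw [← toGL_mul, ← toGL_one (Φ := Φ)]
  exact ⟨fun h => by rw [h], fun h => toGL_inj h⟩

section main

variable (G1 : Subgroup (GL chevD4.Idx K))
  (hU : (ctxD4 Φ.f Φ.hf).fix ⊓ chevD4.posUnipotent K ≤ G1)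
  (hn : ∀ J ∈ orbs_D4, nJ (F := K) hB4 J ∈ G1)
  (ht1 : ∀ a : K, a ≠ 0 → Φ.f a = a → TwBNA.hJ hB4 [1] (TwTorA.orbFun chevD4 Φ.f [1] a) ∈ G1)
  (ht3 : ∀ a : K, a ≠ 0 →
      TwBNA.hJ hB4 [0, 2, 3] (TwTorA.orbFun chevD4 Φ.f [0, 2, 3] a) ∈ G1)

include hU in
theorem cj_of_isConj {t t' : Par Φ} (h : IsConj t t') : Cj G1 (toGL t) (toGL t') := by
  obtain ⟨g, rfl⟩ := isConj_iff.1 h
  refine ⟨toGL g, hU (toGL_mem g), ?_⟩
  rw [toGL_mul, toGL_mul, toGL_inv]

include hU hn ht3 in
/-- the short root elements `C(c)` -/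
theorem cj_C_one [Finite K] {c : K} (hc : c ≠ 0) :
    Cj G1 (toGL (pC c : Par Φ)) (toGL (pA 1 : Par Φ)) :=
  (cj_A_C G1 hn c).symm.trans (cj_A_one G1 ht3 hc)

include hU hn ht3 in
/-- the elements `C(c) E(e)` -/
theorem cj_CE_one [Finite K] {c : K} (hc : c ≠ 0) (e : K) (he : Φ.f e = e)
    (h2 : (pC c * pE e he : Par Φ) * (pC c * pE e he) = 1) :
    Cj G1 (toGL (pC c * pE e he : Par Φ)) (toGL (pA 1 : Par Φ)) := by
  have h := red2 (pC c * pE e he : Par Φ) h2 (by simp [pC, pE]) (by simp [pC, pE])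
    (by simpa [pC, pE] using hc)
  have e1 : (pC c * pE e he : Par Φ).c = c := by simp [pC, pE]
  rw [e1] at h
  exact (cj_of_isConj G1 hU h).trans (cj_C_one G1 hU hn ht3 hc)

include hn ht1 in
/-- the long root elements `E(e)` -/
theorem cj_E_one {e : K} (he0 : e ≠ 0) (he : Φ.f e = e) :
    Cj G1 (toGL (pE e he : Par Φ)) (toGL (pF 1 (map_one _) : Par Φ)) :=
  (cj_F_E G1 hn e he).symm.trans (cj_F_one G1 ht1 he0 he)

include hU hn ht1 ht3 in
/-- every involution of `U^σ` is conjugate to `x_{23}(1)` or to `x_A(1)` -/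
theorem invol_fusion [Finite K] (t : Par Φ) (h2 : t * t = 1) (h1 : t ≠ 1) :
    Cj G1 (toGL t) (toGL (pF 1 (map_one _) : Par Φ)) ∨ Cj G1 (toGL t) (toGL (pA 1 : Par Φ)) := by
  by_cases ha : t.a = 0
  · by_cases hb : t.b = 0
    · by_cases hc : t.c = 0
      · by_cases hd : t.d = 0
        · by_cases he : t.e = 0
          · left
            have hg : t.g ≠ 0 := by
              intro hg
              apply h1
              apply Par.ext <;> assumption
            have : t = pF t.g t.hg := by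
              apply Par.ext <;> simp [pF, ha, hb, hc, hd, he]
            rw [this]
            exact cj_F_one G1 ht1 hg t.hg
          · left
            exact (cj_of_isConj G1 hU (red4 t ha hb hc hd he)).trans (cj_E_one G1 hn ht1 he t.he)
        · right
          have h3 := cj_of_isConj G1 hU (red3 t ha hb hc hd)
          have h4 := cj_C_D G1 hn (Φ := Φ) (Φ.f t.d)
          rw [Φ.hf] at h4
          exact (h3.trans h4.symm).trans
            (cj_C_one G1 hU hn ht3 ((map_ne_zero Φ.f).2 hd))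
      · right
        exact (cj_of_isConj G1 hU (red2 t h2 ha hb hc)).trans (cj_C_one G1 hU hn ht3 hc)
    · obtain ⟨d, hd⟩ := red1 t h2 ha hb
      have h3 := (cj_of_isConj G1 hU hd).trans (cj_BD_CE G1 hn t.b t.hb d)
      by_cases hd0 : d = 0
      · left
        have : (pC (Φ.f d) * pE t.b t.hb : Par Φ) = pE t.b t.hb := by
          rw [pC_mul_pE]
          apply Par.ext <;> simp [pE, hd0]
        rw [this] at h3
        exact h3.trans (cj_E_one G1 hn ht1 hb t.hb)
      · right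
        have hsq : (pC (Φ.f d) * pE t.b t.hb : Par Φ) * (pC (Φ.f d) * pE t.b t.hb) = 1 :=
          (par_sq_iff _).2 (sq_of_cj h3 ((par_sq_iff t).1 h2))
        exact h3.trans (cj_CE_one G1 hU hn ht3 ((map_ne_zero Φ.f).2 hd0) _ _ hsq)
  · right
    obtain ⟨g, hg, h⟩ := red5 t h2 ha
    have h3 := (cj_of_isConj G1 hU h).trans (cj_AF_CE G1 hn t.a g hg)
    have hsq : (pC t.a * pE g hg : Par Φ) * (pC t.a * pE g hg) = 1 :=
      (par_sq_iff _).2 (sq_of_cj h3 ((par_sq_iff t).1 h2))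
    exact h3.trans (cj_CE_one G1 hU hn ht3 ha _ _ hsq)

end main

end Cfsg.Agent.Helper11.D4Par
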