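import Mathlib
import Cfsg.Agent.Helper11.D4Fus
import Cfsg.Agent.Helper6.Chev.BruhatNF

/-!
# The two classes of root involutions of `³D₄(q)`, `q` even, are distinct
-/

set_option autoImplicit false
set_option linter.unusedSectionVars false
set_option linter.unusedVariables false
set_option linter.unusedSimpArgs false

namespace Cfsg.Agent.Helper11.D4Par

open Cfsg.Lie Cfsg.Agent.Helper6 Cfsg.Agent.Helper11.D4Coll Cfsg.Agent.Helper11.TwCtx
  Cfsg.Agent.Helper11.TwMain Cfsg.Agent.Helper11.TwReach Cfsg.Agent.Helper11.TwBND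
  Cfsg.Agent.Helper11.TwBNB Cfsg.Agent.Helper2.BN

variable {K : Type*} [Field K]

theorem X_eq_one {r : ℕ} (hr : r < 24) {a : K} (h : X r a = 1) : a = 0 := by
  have h2 := congrArg Units.val h
  rw [X, xU_val, Units.val_one, ← torMat_one (D := chevD4)] at h2
  exact eq_zero_of_x_eq_torMat hB4 hr h2

theorem add_23 : ∀ r < 24, add r 23 = none := by decide

section char2

variable [CharP K 2]

/-- the highest root subgroup is central in `U` -/
theorem X23_central {u : GL chevD4.Idx K} (hu : u ∈ chevD4.posUnipotent K) (t : K) :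
    u * X 23 t * u⁻¹ = X 23 t := by
  rw [mul_inv_eq_iff_eq_mul]
  induction hu using Subgroup.closure_induction with
  | mem g hg =>
    obtain ⟨r, s, hr, hg⟩ := hg
    have hgX : g = X r s := Units.ext (by rw [hg, X, xU_val])
    have hr24 : r < 24 := hr.1
    have hr12 : 12 ≤ r := (hsign_D4 r hr24).1 hr
    rw [hgX]
    by_cases h23 : r = 23
    · rw [h23, X_add, X_add, add_comm]
    · have := swap (K := K) (r := 23) (s := r) ⟨by norm_num, by norm_num⟩ ⟨hr12, hr24⟩
        (fun h => h23 h.symm) t s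
      rw [add_23 r hr24] at this
      rw [this, mul_one]
  | one => simp
  | mul a b _ _ iha ihb => rw [mul_assoc, ihb, ← mul_assoc, iha, mul_assoc]
  | inv a _ iha =>
    have : a⁻¹ * X 23 t = a⁻¹ * (X 23 t * a) * a⁻¹ := by group
    rw [this, ← iha]; group

/-- a positive root element as a coefficient word -/
theorem X_eq_Tw {r : ℕ} (h1 : 12 ≤ r) (h2 : r < 24) (c : K) :
    X r c = W (Tw fun s => if s = r then c else 0) := by
  interval_cases r <;> simp [Tw, W_cons, W_nil, X_zero]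

variable {Φ : Frob K} {G1 : Subgroup (GL chevD4.Idx K)}
  (T : TwData (ctxD4 Φ.f Φ.hf) G1 orbs_D4)
include T

/-- the long and short root involutions are not conjugate -/
theorem not_cj_F_A : ¬ Cj G1 (toGL (pF 1 (map_one _) : Par Φ)) (toGL (pA 1 : Par Φ)) := by
  rintro ⟨h₀, hh₀, e⟩
  rw [toGL_pF] at e
  have eL : W [((23 : ℕ), (1 : K))] = X 23 1 := by simp [W_cons, W_nil]
  rw [eL] at e
  -- Bruhat decomposition in the twisted group
  obtain ⟨n, hn, hC⟩ := exists_mem_C (P := bnPair' T) ⟨h₀, hh₀⟩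
  obtain ⟨b, hb, b', hb', e0⟩ := (mem_C_iff (bnPair' T)).1 hC
  have e0' : h₀ = (b : GL chevD4.Idx K) * n * b' := by
    have := congrArg Subtype.val e0
    simpa only [Subgroup.coe_mul] using this
  have hbB : (b : GL chevD4.Idx K) ∈ chevD4.borelSubgroup K := mem_B1.1 hb
  have hb'B : (b' : GL chevD4.Idx K) ∈ chevD4.borelSubgroup K := mem_B1.1 hb'
  have hnN : (n : GL chevD4.Idx K) ∈ chevD4.monomialSubgroup K := mem_N1.1 (N'_le_N1 T hn)
  have hbfix : (ctxD4 Φ.f Φ.hf).sig b = b := T.hfix b.2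
  have hb'fix : (ctxD4 Φ.f Φ.hf).sig b' = b' := T.hfix b'.2
  obtain ⟨u, hu, h, hh, hufix, -, ebu⟩ := borel_fix_decomp (ctxD4 Φ.f Φ.hf) T.bn T.hsp hbB hbfix
  obtain ⟨u', hu', h', hh', -, -, eb'u⟩ := borel_fix_decomp (ctxD4 Φ.f Φ.hf) T.bn T.hsp hb'B hb'fix
  -- step 1
  obtain ⟨c₁, hc₁⟩ := diag_conj_xU T hh' (by decide : 23 < chevD4.nroots) (1 : K)
  have s1 : (b' : GL chevD4.Idx K) * X 23 1 * (b' : GL chevD4.Idx K)⁻¹ = X 23 c₁ := by
    rw [eb'u]
    have : u' * h' * X 23 1 * (u' * h')⁻¹ = u' * (h' * X 23 1 * h'⁻¹) * u'⁻¹ := by group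
    rw [this]
    have hc₁' : h' * X 23 1 * h'⁻¹ = X 23 c₁ := hc₁
    rw [hc₁', X23_central hu']
  -- step 2
  obtain ⟨σ, c, hσ⟩ := T.bn.rootPermP_of_mem hnN
  obtain ⟨hσ1, -, hσ3⟩ := hσ 23 (by decide)
  have s2 : (n : GL chevD4.Idx K) * X 23 c₁ * (n : GL chevD4.Idx K)⁻¹ = X (σ 23) (c 23 * c₁) :=
    hσ3 c₁
  -- step 3
  obtain ⟨p, hp⟩ := exists_par (Φ := Φ) ⟨hufix, hu⟩
  obtain ⟨c₃, hc₃⟩ := diag_conj_xU T hh hσ1 (c 23 * c₁)
  have hc₃' : h * X (σ 23) (c 23 * c₁) * h⁻¹ = X (σ 23) c₃ := hc₃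
  have s3 : X (σ 23) c₃ = toGL (p⁻¹ * pA 1 * p) := by
    rw [toGL_mul, toGL_mul, toGL_inv, hp, ← e, e0', ← hc₃', ← s2, ← s1, ebu]
    group
  have ha : (p⁻¹ * pA 1 * p : Par Φ).a = 1 := by
    have h1 : (p⁻¹ * p : Par Φ).a = 0 := by rw [inv_mul_cancel]; rfl
    simp only [mul_a] at h1 ⊢
    have : (pA 1 : Par Φ).a = 1 := rfl
    rw [this]
    have h2 : (2 : K) = 0 := CharTwo.two_eq_zero
    grind
  generalize p⁻¹ * pA 1 * p = t' at s3 ha
  generalize σ 23 = r' at s3 hσ1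
  have hr24 : r' < 24 := hσ1
  by_cases hr : 12 ≤ r'
  · rw [X_eq_Tw hr hr24, toGL, Mw_eq] at s3
    have h18 := Tw_inj s3 18 (by decide)
    have h13 := Tw_inj s3 13 (by decide)
    simp only [cf, ha, map_one] at h18 h13
    have e18 : 18 = r' := by
      by_contra hne
      rw [if_neg hne] at h18
      exact one_ne_zero h18.symm
    have e13 : 13 = r' := by
      by_contra hne
      rw [if_neg hne] at h13
      exact one_ne_zero h13.symm
    omega
  · have hmem : X r' c₃ ∈ chevD4.borelSubgroup K := by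
      rw [s3]
      exact T.bn.posUnipotent_le_borel (toGL_mem_U t')
    have hc0 : c₃ = 0 := T.bn.eq_zero_of_xU_neg_mem_borel hr24 (by
      show r' < 24 / 2
      omega) hmem
    rw [hc0, X_zero] at s3
    have : t' = 1 := toGL_inj (by rw [← s3, toGL_one])
    rw [this] at ha
    exact zero_ne_one ha

end char2

end Cfsg.Agent.Helper11.D4Par
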