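import Mathlib
import Cfsg.Agent.Helper6.Chev.TorusCount

/-!
# Counting twisted torus parameters

Abstract counting lemmas (no Chevalley data): the fixed points of a twisted permutation action on
`G ^ 6` and `G ^ 4`, and the part of the kernel of the Cartan monomial map inside them, for the
Cartan matrices of types `E₆` and `D₄`.
-/

set_option autoImplicit false
set_option linter.unusedSectionVars false
set_option linter.unusedVariables false

namespace Cfsg.Agent.Helper11.TwTorCount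

open Cfsg.Agent.Helper6

section general

variable {C : Type*} [CommGroup C] {l : ℕ}

theorem powHom_add (M N : Matrix (Fin l) (Fin l) ℤ) (c : Fin l → C) :
    powHom C (M + N) c = powHom C M c * powHom C N c := by
  funext j
  simp only [powHom_apply, Pi.mul_apply, Matrix.add_apply, zpow_add, Finset.prod_mul_distrib]

/-- if `Pat + A * N = 1`, an element of the kernel of `powHom A` is fixed by `powHom Pat` -/
theorem eq_powHom_of_ker {A N Pat : Matrix (Fin l) (Fin l) ℤ} (h : Pat + A * N = 1)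
    {c : Fin l → C} (hc : powHom C A c = 1) : c = powHom C Pat c := by
  have h1 := powHom_add Pat (A * N) c
  rw [h, powHom_one, MonoidHom.id_apply, powHom_mul, MonoidHom.comp_apply, hc, map_one,
    mul_one] at h1
  exact h1

/-- if `A * A' = e`, an element of the kernel of `powHom A` has exponent `e` -/
theorem pow_eq_one_of_ker {A A' : Matrix (Fin l) (Fin l) ℤ} {e : ℕ}
    (h : A * A' = Matrix.diagonal (fun _ => (e : ℤ)))
    {c : Fin l → C} (hc : powHom C A c = 1) (j : Fin l) : c j ^ e = 1 := by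
  have h1 := powHom_mul (C := C) A A'
  rw [h] at h1
  have h2 := DFunLike.congr_fun h1 c
  rw [MonoidHom.comp_apply, hc, map_one] at h2
  have h3 := congrFun h2 j
  rw [powHom_diagonal, zpow_natCast] at h3
  exact h3

end general

section field

variable {K : Type*} [Field K] [Fintype K]

/-- the number of units fixed by `x ↦ x ^ q` -/
theorem card_fixU {q n : ℕ} (hq : 1 < q) (hn : 0 < n) (hK : Fintype.card K = q ^ n) :
    Nat.card {u : Kˣ // u ^ q = u} = q - 1 := by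
  classical
  have hcardU : Nat.card Kˣ = q ^ n - 1 := by
    rw [Nat.card_eq_fintype_card, Fintype.card_units, hK]
  have hdvd : q - 1 ∣ q ^ n - 1 := Nat.sub_one_dvd_pow_sub_one q n
  have h1 := IsCyclic.card_powMonoidHom_ker Kˣ (q - 1)
  rw [hcardU, Nat.gcd_eq_right hdvd] at h1
  refine (Nat.card_congr ?_).trans h1
  refine Equiv.subtypeEquivRight fun u => ?_
  rw [MonoidHom.mem_ker, powMonoidHom_apply]
  have e : u ^ q = u ^ (q - 1) * u := by rw [← pow_succ]; congr 1; omega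
  rw [e]
  constructor
  · intro h
    exact mul_right_cancel (b := u) (by rw [h, one_mul])
  · intro h; rw [h, one_mul]

/-- the number of solutions of `y ^ 3 = 1`, `y ^ q = y ^ 2` in a field with `q ^ 2` elements -/
theorem card_cube {q : ℕ} (hq : 1 < q) (hK : Fintype.card K = q ^ 2) :
    Nat.card {y : Kˣ // y ^ 3 = 1 ∧ y ^ q = y ^ 2} = Nat.gcd 3 (q + 1) := by
  classical
  have hcardU : Nat.card Kˣ = q ^ 2 - 1 := by
    rw [Nat.card_eq_fintype_card, Fintype.card_units, hK]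
  have hdvd : Nat.gcd 3 (q + 1) ∣ q ^ 2 - 1 := by
    have h1 : q + 1 ∣ q ^ 2 - 1 := by
      have : q ^ 2 - 1 = (q + 1) * (q - 1) := by
        have := Nat.sq_sub_sq q 1
        rw [one_pow] at this
        rw [this]
      rw [this]; exact dvd_mul_right _ _
    exact dvd_trans (Nat.gcd_dvd_right _ _) h1
  have h1 := IsCyclic.card_powMonoidHom_ker Kˣ (Nat.gcd 3 (q + 1))
  rw [hcardU, Nat.gcd_eq_right hdvd] at h1
  refine (Nat.card_congr ?_).trans h1
  refine Equiv.subtypeEquivRight fun y => ?_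
  rw [MonoidHom.mem_ker, powMonoidHom_apply]
  constructor
  · rintro ⟨h3, hq'⟩
    have h2 : y ^ (q + 1) = 1 := by rw [pow_succ, hq', ← pow_succ, h3]
    exact pow_gcd_eq_one.2 ⟨h3, h2⟩
  · intro h
    have h3 : y ^ 3 = 1 := by
      obtain ⟨k, hk⟩ := Nat.gcd_dvd_left 3 (q + 1)
      rw [hk, pow_mul, h, one_pow]
    have h2 : y ^ (q + 1) = 1 := by
      obtain ⟨k, hk⟩ := Nat.gcd_dvd_right 3 (q + 1)
      rw [hk, pow_mul, h, one_pow]
    refine ⟨h3, ?_⟩
    have : y ^ q * y = y ^ 2 * y := by rw [← pow_succ, h2, ← pow_succ, h3]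
    exact mul_right_cancel this

end field

section fixedpoints

variable {G : Type*} [CommGroup G]

/-- fixed points of the twisted action of type `²E₆` -/
noncomputable def fix6Equiv (φ : G →* G) (hφ : ∀ x, φ (φ x) = x)
    (τ : (Fin 6 → G) →* (Fin 6 → G))
    (hτ : ∀ c, τ c = ![φ (c 5), φ (c 1), φ (c 4), φ (c 3), φ (c 2), φ (c 0)]) :
    {c : Fin 6 → G // τ c = c} ≃ {x : G // φ x = x} × {x : G // φ x = x} × G × G where
  toFun c := (⟨c.1 1, by
      have := congrFun c.2 1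
      rw [hτ] at this
      simpa using this⟩, ⟨c.1 3, by
      have := congrFun c.2 3
      rw [hτ] at this
      simpa using this⟩, c.1 2, c.1 0)
  invFun p := ⟨![p.2.2.2, p.1.1, p.2.2.1, p.2.1.1, φ p.2.2.1, φ p.2.2.2], by
    rw [hτ]
    simp [hφ, p.1.2, p.2.1.2]⟩
  left_inv := by
    rintro ⟨c, hc⟩
    apply Subtype.ext
    have h4 := congrFun hc 4
    have h5 := congrFun hc 5
    rw [hτ] at h4 h5
    simp only [Matrix.cons_val] at h4 h5
    funext j
    fin_cases j <;> simp [h4, h5]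
  right_inv := by
    rintro ⟨⟨a, ha⟩, ⟨b, hb⟩, x, y⟩
    simp

/-- fixed points of the twisted action of type `³D₄` -/
noncomputable def fix4Equiv (φ : G →* G) (hφ : ∀ x, φ (φ (φ x)) = x)
    (τ : (Fin 4 → G) →* (Fin 4 → G))
    (hτ : ∀ c, τ c = ![φ (c 3), φ (c 1), φ (c 0), φ (c 2)]) :
    {c : Fin 4 → G // τ c = c} ≃ {x : G // φ x = x} × G where
  toFun c := (⟨c.1 1, by
      have := congrFun c.2 1
      rw [hτ] at this
      simpa using this⟩, c.1 0)
  invFun p := ⟨![p.2, p.1.1, φ p.2, φ (φ p.2)], by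
    rw [hτ]
    simp [hφ, p.1.2]⟩
  left_inv := by
    rintro ⟨c, hc⟩
    apply Subtype.ext
    have h2 := congrFun hc 2
    have h3 := congrFun hc 3
    rw [hτ] at h2 h3
    simp only [Matrix.cons_val] at h2 h3
    funext j
    fin_cases j <;> simp [h2, h3]
  right_inv := by
    rintro ⟨⟨a, ha⟩, x⟩
    simp

end fixedpoints

section kernels

/-- the Cartan matrix of type `E₆` -/
def A6 : Matrix (Fin 6) (Fin 6) ℤ :=
  !![2, 0, -1, 0, 0, 0; 0, 2, 0, -1, 0, 0; -1, 0, 2, -1, 0, 0; 0, -1, -1, 2, -1, 0;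
    0, 0, 0, -1, 2, -1; 0, 0, 0, 0, -1, 2]

/-- three times its inverse -/
def A6' : Matrix (Fin 6) (Fin 6) ℤ :=
  !![4, 3, 5, 6, 4, 2; 3, 6, 6, 9, 6, 3; 5, 6, 10, 12, 8, 4; 6, 9, 12, 18, 12, 6;
    4, 6, 8, 12, 10, 5; 2, 3, 4, 6, 5, 4]

/-- the shape of the kernel -/
def Pat6 : Matrix (Fin 6) (Fin 6) ℤ :=
  !![0, 0, 0, 0, 0, 0; 0, 0, 0, 0, 0, 0; 0, 0, 0, 0, 0, 0; 0, 0, 0, 0, 0, 0;
    0, 0, 0, 0, 0, 0; 2, 0, 1, 0, 2, 1]

def N6 : Matrix (Fin 6) (Fin 6) ℤ :=
  !![0, 1, 1, 2, 0, 0; -1, 2, 1, 3, 0, 0; -1, 2, 2, 4, 0, 0; -2, 3, 2, 6, 0, 0;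
    -2, 2, 1, 4, 0, 0; -2, 1, 0, 2, -1, 0]

theorem A6_mul : A6 * A6' = Matrix.diagonal (fun _ => ((3 : ℕ) : ℤ)) := by decide +kernel

theorem Pat6_add : Pat6 + A6 * N6 = 1 := by decide +kernel

/-- the Cartan matrix of type `D₄` -/
def A4 : Matrix (Fin 4) (Fin 4) ℤ :=
  !![2, -1, 0, 0; -1, 2, -1, -1; 0, -1, 2, 0; 0, -1, 0, 2]

/-- twice its inverse -/
def A4' : Matrix (Fin 4) (Fin 4) ℤ :=
  !![2, 2, 1, 1; 2, 4, 2, 2; 1, 2, 2, 1; 1, 2, 1, 2]

def Pat4 : Matrix (Fin 4) (Fin 4) ℤ :=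
  !![0, 0, 0, 0; 0, 0, 0, 0; 1, 0, 1, 0; 1, 0, 0, 1]

def N4 : Matrix (Fin 4) (Fin 4) ℤ :=
  !![0, 1, 0, 0; -1, 2, 0, 0; -1, 1, 0, 0; -1, 1, 0, 0]

theorem A4_mul : A4 * A4' = Matrix.diagonal (fun _ => ((2 : ℕ) : ℤ)) := by decide +kernel

theorem Pat4_add : Pat4 + A4 * N4 = 1 := by decide +kernel

variable {G : Type*} [CommGroup G]

theorem powHom_Pat6 (c : Fin 6 → G) :
    powHom G Pat6 c = ![c 5 ^ 2, 1, c 5, 1, c 5 ^ 2, c 5] := by
  funext j
  rw [powHom_apply]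
  fin_cases j <;> simp [Fin.prod_univ_succ, Pat6]

theorem powHom_A6 (c : Fin 6 → G) :
    powHom G A6 c = ![c 0 ^ 2 * (c 2)⁻¹, c 1 ^ 2 * (c 3)⁻¹, (c 0)⁻¹ * (c 2 ^ 2 * (c 3)⁻¹),
      (c 1)⁻¹ * ((c 2)⁻¹ * (c 3 ^ 2 * (c 4)⁻¹)), (c 3)⁻¹ * (c 4 ^ 2 * (c 5)⁻¹),
      (c 4)⁻¹ * c 5 ^ 2] := by
  funext j
  rw [powHom_apply]
  fin_cases j <;> simp [Fin.prod_univ_succ, A6]

/-- the part of the kernel of the Cartan monomial map fixed by the twisted action, type `²E₆` -/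
noncomputable def ker6Equiv (φ : G →* G)
    (τ : (Fin 6 → G) →* (Fin 6 → G))
    (hτ : ∀ c, τ c = ![φ (c 5), φ (c 1), φ (c 4), φ (c 3), φ (c 2), φ (c 0)]) :
    {c : Fin 6 → G // τ c = c ∧ powHom G A6 c = 1} ≃ {y : G // y ^ 3 = 1 ∧ φ y = y ^ 2} where
  toFun c := ⟨c.1 5, pow_eq_one_of_ker A6_mul c.2.2 5, by
    have h1 := eq_powHom_of_ker Pat6_add c.2.2
    rw [powHom_Pat6] at h1
    have h0 := congrFun h1 0
    have h2 := congrFun c.2.1 0
    rw [hτ] at h2
    simp only [Matrix.cons_val] at h0 h2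
    rw [h2, h0]⟩
  invFun y := ⟨![y.1 ^ 2, 1, y.1, 1, y.1 ^ 2, y.1], by
    obtain ⟨y, h3, hy⟩ := y
    have h4 : y ^ 4 = y := by rw [pow_succ, h3, one_mul]
    constructor
    · rw [hτ]
      simp [hy, ← pow_mul, h4]
    · rw [powHom_A6]
      have e1 : (y ^ 2) ^ 2 * y⁻¹ = 1 := by
        rw [← pow_mul, h4, mul_inv_cancel]
      have e2 : (y ^ 2)⁻¹ * y ^ 2 = 1 := inv_mul_cancel _
      have e3 : y⁻¹ * (y ^ 2)⁻¹ = 1 := by
        rw [← mul_inv, ← pow_succ', h3, inv_one]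
      funext j
      fin_cases j <;> simp [e1, e2, e3]⟩
  left_inv := by
    rintro ⟨c, hc1, hc2⟩
    apply Subtype.ext
    have h1 := eq_powHom_of_ker Pat6_add hc2
    rw [powHom_Pat6] at h1
    exact h1.symm
  right_inv := by
    rintro ⟨y, h3, hy⟩
    simp

theorem powHom_Pat4 (c : Fin 4 → G) :
    powHom G Pat4 c = ![c 2 * c 3, 1, c 2, c 3] := by
  funext j
  rw [powHom_apply]
  fin_cases j <;> simp [Fin.prod_univ_succ, Pat4]

/-- the part of the kernel of the Cartan monomial map fixed by the twisted action is trivial, type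
`³D₄` -/
theorem ker4_eq_one (φ : G →* G) (h2 : ∀ x : G, x ^ 2 = 1 → φ x = x)
    (τ : (Fin 4 → G) →* (Fin 4 → G))
    (hτ : ∀ c, τ c = ![φ (c 3), φ (c 1), φ (c 0), φ (c 2)])
    {c : Fin 4 → G} (hc : τ c = c) (hk : powHom G A4 c = 1) : c = 1 := by
  have h1 := eq_powHom_of_ker Pat4_add hk
  rw [powHom_Pat4] at h1
  have hsq : ∀ j, c j ^ 2 = 1 := pow_eq_one_of_ker A4_mul hk
  rw [hτ] at hc
  have e0 := congrFun hc 0
  have e2 := congrFun hc 2
  have e3 := congrFun hc 3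
  simp only [Matrix.cons_val] at e0 e2 e3
  rw [h2 _ (hsq 3)] at e0
  rw [h2 _ (hsq 0)] at e2
  rw [h2 _ (hsq 2)] at e3
  have f0 := congrFun h1 0
  have f1 := congrFun h1 1
  simp only [Matrix.cons_val] at f0 f1
  -- `c 0 = c 2 = c 3 = x`, `x = x * x`
  have hx : c 0 = 1 := by
    rw [← e2, ← e3, ← e2] at f0
    have : c 0 * 1 = c 0 * c 0 := by rw [mul_one]; exact f0
    exact (mul_left_cancel this).symm
  funext j
  fin_cases j
  · exact hx
  · exact f1
  · show c 2 = 1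
    rw [← e2, hx]
  · show c 3 = 1
    rw [e0, hx]

end kernels

end Cfsg.Agent.Helper11.TwTorCount
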