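import Mathlib
import Cfsg.Agent.Helper11.TwTorA
import Cfsg.Agent.Helper11.TwTorCount
import Cfsg.Agent.Helper11.TwBNMain

/-!
# The orders of the tori `H¹` of `²E₆(q)` and `³D₄(q)`
-/

set_option autoImplicit false
set_option linter.unusedSectionVars false
set_option linter.unusedVariables false

namespace Cfsg.Agent.Helper11.TwTorMain

open Cfsg.Lie Cfsg.Agent.Helper6 Cfsg.Agent.Helper11.TwCtx Cfsg.Agent.Helper11.TwMain
  Cfsg.Agent.Helper11.TwBND Cfsg.Agent.Helper11.TwBNMain Cfsg.Agent.Helper11.TwTorA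
  Cfsg.Agent.Helper11.TwTorCount

variable {K : Type*} [Field K]

theorem fU_apply_pow {D : ChevalleyDatum} (X : Ctx D K) {q : ℕ} (hfq : ∀ x, X.f x = x ^ q)
    (u : Kˣ) : fU X u = u ^ q := by
  apply Units.ext
  rw [fU_val, hfq, Units.val_pow_eq_pow_val]

section E6

variable (f : K ≃+* K) (hf : ∀ x, f (f x) = x)

theorem cartanMat_E6_apply : ∀ i j : Fin 6, cartanMat chevE6 i j = A6 i j := by
  intro i j
  fin_cases i <;> fin_cases j <;> decide +kernel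

theorem cartanMat_E6 : cartanMat chevE6 = A6 := Matrix.ext cartanMat_E6_apply

theorem twT_E6 (c : Fin 6 → Kˣ) :
    twT (ctxE6 f hf) c = ![fU (ctxE6 f hf) (c 5), fU (ctxE6 f hf) (c 1), fU (ctxE6 f hf) (c 4),
      fU (ctxE6 f hf) (c 3), fU (ctxE6 f hf) (c 2), fU (ctxE6 f hf) (c 0)] := by
  funext j
  fin_cases j <;> rfl

theorem fU_fU_E6 (u : Kˣ) : fU (ctxE6 f hf) (fU (ctxE6 f hf) u) = u := by
  apply Units.ext
  rw [fU_val, fU_val]
  exact hf _

theorem rho_rho_E6 (j : Fin chevE6.rank) :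
    (rhoFin (ctxE6 f hf)).symm ((rhoFin (ctxE6 f hf)).symm j) = j := by
  revert j
  show ∀ j : Fin 6, (rhoFin (ctxE6 f hf)).symm ((rhoFin (ctxE6 f hf)).symm j) = j
  intro j
  fin_cases j <;> rfl

theorem twT_twT_E6 (c : Fin chevE6.rank → Kˣ) : twT (ctxE6 f hf) (twT (ctxE6 f hf) c) = c := by
  funext j
  rw [twT_apply, twT_apply, rho_rho_E6, fU_fU_E6]

theorem A6'_rho (i j : Fin chevE6.rank) :
    A6' (rhoFin (ctxE6 f hf) i) (rhoFin (ctxE6 f hf) j) = A6' i j := by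
  revert i j
  show ∀ i j : Fin 6, A6' (rhoFin (ctxE6 f hf) i) (rhoFin (ctxE6 f hf) j) = A6' i j
  intro i j
  fin_cases i <;> fin_cases j <;> rfl

/-- `H ∩ ²E₆(q)` is the twisted torus -/
theorem diagonal_inf_E6 {q : ℕ} (hfq : ∀ x, f x = x ^ q) :
    chevE6.diagonalSubgroup K ⊓ twistedE6 K q = H0 (ctxE6 f hf) := by
  have T := twData_E6 f hfq hf
  refine diagonal_inf_G1 T (by decide) (by decide) ?_ ?_
  · intro d hd
    exact sq_mem_H0 _ T.bn (twT_twT_E6 f hf) hd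
  · intro d hd
    exact pow_mem_H0 (e := 3) _ T.bn (by rw [cartanMat_E6]; exact A6_mul) (A6'_rho f hf) hd

theorem card_fix_E6 [Fintype K] {q : ℕ} (hq : 1 < q) (hK : Fintype.card K = q ^ 2)
    (hfq : ∀ x, f x = x ^ q) :
    Nat.card {u : Kˣ // fU (ctxE6 f hf) u = u} = q - 1 := by
  rw [← card_fixU hq (by norm_num : 0 < 2) hK]
  apply Nat.card_congr
  refine Equiv.subtypeEquivRight fun u => ?_
  rw [fU_apply_pow (ctxE6 f hf) hfq]

theorem card_T0_E6 [Fintype K] {q : ℕ} (hq : 1 < q) (hK : Fintype.card K = q ^ 2)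
    (hfq : ∀ x, f x = x ^ q) :
    Nat.card {c : Fin chevE6.rank → Kˣ // twT (ctxE6 f hf) c = c} =
      (q - 1) ^ 2 * (q ^ 2 - 1) ^ 2 := by
  have e := fix6Equiv (fU (ctxE6 f hf)) (fU_fU_E6 f hf) (twT (ctxE6 f hf)) (twT_E6 f hf)
  have h1 := Nat.card_congr e
  rw [Nat.card_prod, Nat.card_prod, Nat.card_prod, card_fix_E6 f hf hq hK hfq,
    Nat.card_units, Nat.card_eq_fintype_card (α := K), hK] at h1
  refine h1.trans ?_
  ring

theorem card_ker_E6 [Fintype K] {q : ℕ} (hq : 1 < q) (hK : Fintype.card K = q ^ 2)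
    (hfq : ∀ x, f x = x ^ q) :
    Nat.card {c : Fin chevE6.rank → Kˣ // twT (ctxE6 f hf) c = c ∧
      powHom Kˣ (cartanMat chevE6) c = 1} = Nat.gcd 3 (q + 1) := by
  rw [cartanMat_E6]
  have e := ker6Equiv (fU (ctxE6 f hf)) (twT (ctxE6 f hf)) (twT_E6 f hf)
  have h1 := Nat.card_congr e
  rw [← card_cube hq hK]
  refine h1.trans (Nat.card_congr ?_)
  refine Equiv.subtypeEquivRight fun u => ?_
  rw [fU_apply_pow (ctxE6 f hf) hfq]

/-- the order of the twisted torus of `²E₆(q)` -/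
theorem card_H0_E6 [Fintype K] {q : ℕ} (hq : 1 < q) (hK : Fintype.card K = q ^ 2)
    (hfq : ∀ x, f x = x ^ q) :
    Nat.gcd 3 (q + 1) * Nat.card (H0 (ctxE6 f hf)) = (q - 1) ^ 4 * (q + 1) ^ 2 := by
  have T := twData_E6 f hfq hf
  have h := card_ker_mul_card_H0 (ctxE6 f hf) T.bn
  rw [card_ker_E6 f hf hq hK hfq, card_T0_E6 f hf hq hK hfq] at h
  rw [h]
  have : q ^ 2 - 1 = (q - 1) * (q + 1) := by
    have := Nat.sq_sub_sq q 1
    rw [one_pow] at this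
    rw [this, mul_comm]
  rw [this]
  ring

end E6

section D4

variable (f : K ≃+* K) (hf : ∀ x, f (f (f x)) = x)

theorem cartanMat_D4_apply : ∀ i j : Fin 4, cartanMat chevD4 i j = A4 i j := by
  intro i j
  fin_cases i <;> fin_cases j <;> decide +kernel

theorem cartanMat_D4 : cartanMat chevD4 = A4 := Matrix.ext cartanMat_D4_apply

theorem twT_D4 (c : Fin 4 → Kˣ) :
    twT (ctxD4 f hf) c = ![fU (ctxD4 f hf) (c 3), fU (ctxD4 f hf) (c 1), fU (ctxD4 f hf) (c 0),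
      fU (ctxD4 f hf) (c 2)] := by
  funext j
  fin_cases j <;> rfl

theorem fU_fU_D4 (u : Kˣ) :
    fU (ctxD4 f hf) (fU (ctxD4 f hf) (fU (ctxD4 f hf) u)) = u := by
  apply Units.ext
  rw [fU_val, fU_val, fU_val]
  exact hf _

theorem rho_rho_D4 (j : Fin chevD4.rank) :
    (rhoFin (ctxD4 f hf)).symm ((rhoFin (ctxD4 f hf)).symm ((rhoFin (ctxD4 f hf)).symm j)) = j := by
  revert j
  show ∀ j : Fin 4,
    (rhoFin (ctxD4 f hf)).symm ((rhoFin (ctxD4 f hf)).symm ((rhoFin (ctxD4 f hf)).symm j)) = j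
  intro j
  fin_cases j <;> rfl

theorem twT_twT_D4 (c : Fin chevD4.rank → Kˣ) :
    twT (ctxD4 f hf) (twT (ctxD4 f hf) (twT (ctxD4 f hf) c)) = c := by
  funext j
  rw [twT_apply, twT_apply, twT_apply, rho_rho_D4, fU_fU_D4]

theorem A4'_rho (i j : Fin chevD4.rank) :
    A4' (rhoFin (ctxD4 f hf) i) (rhoFin (ctxD4 f hf) j) = A4' i j := by
  revert i j
  show ∀ i j : Fin 4, A4' (rhoFin (ctxD4 f hf) i) (rhoFin (ctxD4 f hf) j) = A4' i j
  intro i j
  fin_cases i <;> fin_cases j <;> rfl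

/-- `H ∩ ³D₄(q)` is the twisted torus -/
theorem diagonal_inf_D4 {q : ℕ} (hfq : ∀ x, f x = x ^ q) :
    chevD4.diagonalSubgroup K ⊓ twistedD4 K q = H0 (ctxD4 f hf) := by
  have T := twData_D4 f hfq hf
  refine diagonal_inf_G1 T (by decide) (by decide) ?_ ?_
  · intro d hd
    exact pow_mem_H0 (e := 2) _ T.bn (by rw [cartanMat_D4]; exact A4_mul) (A4'_rho f hf) hd
  · intro d hd
    exact cube_mem_H0 _ T.bn (twT_twT_D4 f hf) hd

theorem card_fix_D4 [Fintype K] {q : ℕ} (hq : 1 < q) (hK : Fintype.card K = q ^ 3)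
    (hfq : ∀ x, f x = x ^ q) :
    Nat.card {u : Kˣ // fU (ctxD4 f hf) u = u} = q - 1 := by
  rw [← card_fixU hq (by norm_num : 0 < 3) hK]
  apply Nat.card_congr
  refine Equiv.subtypeEquivRight fun u => ?_
  rw [fU_apply_pow (ctxD4 f hf) hfq]

theorem card_T0_D4 [Fintype K] {q : ℕ} (hq : 1 < q) (hK : Fintype.card K = q ^ 3)
    (hfq : ∀ x, f x = x ^ q) :
    Nat.card {c : Fin chevD4.rank → Kˣ // twT (ctxD4 f hf) c = c} = (q - 1) * (q ^ 3 - 1) := by
  have e := fix4Equiv (fU (ctxD4 f hf)) (fU_fU_D4 f hf) (twT (ctxD4 f hf)) (twT_D4 f hf)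
  have h1 := Nat.card_congr e
  rw [Nat.card_prod, card_fix_D4 f hf hq hK hfq,
    Nat.card_units, Nat.card_eq_fintype_card (α := K), hK] at h1
  exact h1

theorem fU_of_sq (u : Kˣ) (h : u ^ 2 = 1) : fU (ctxD4 f hf) u = u := by
  apply Units.ext
  rw [fU_val]
  have h1 : (u : K) ^ 2 = 1 := by
    have := congrArg Units.val h
    rwa [Units.val_pow_eq_pow_val, Units.val_one] at this
  rcases sq_eq_one_iff.1 h1 with h | h
  · rw [h, map_one]
  · rw [h, map_neg, map_one]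

theorem card_ker_D4 [Fintype K] :
    Nat.card {c : Fin chevD4.rank → Kˣ // twT (ctxD4 f hf) c = c ∧
      powHom Kˣ (cartanMat chevD4) c = 1} = 1 := by
  rw [cartanMat_D4]
  rw [Nat.card_eq_one_iff_unique]
  constructor
  · constructor
    rintro ⟨c, hc, hk⟩ ⟨c', hc', hk'⟩
    apply Subtype.ext
    show c = c'
    rw [ker4_eq_one (fU (ctxD4 f hf)) (fU_of_sq f hf) (twT (ctxD4 f hf)) (twT_D4 f hf) hc hk,
      ker4_eq_one (fU (ctxD4 f hf)) (fU_of_sq f hf) (twT (ctxD4 f hf)) (twT_D4 f hf) hc' hk']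
  · exact ⟨⟨1, map_one _, map_one _⟩⟩

/-- the order of the twisted torus of `³D₄(q)` -/
theorem card_H0_D4 [Fintype K] {q : ℕ} (hq : 1 < q) (hK : Fintype.card K = q ^ 3)
    (hfq : ∀ x, f x = x ^ q) :
    Nat.card (H0 (ctxD4 f hf)) = (q - 1) ^ 2 * (q ^ 2 + q + 1) := by
  have T := twData_D4 f hfq hf
  have h := card_ker_mul_card_H0 (ctxD4 f hf) T.bn
  rw [card_ker_D4 f hf, card_T0_D4 f hf hq hK hfq, one_mul] at h
  rw [h]
  obtain ⟨k, rfl⟩ : ∃ k, q = k + 1 := ⟨q - 1, by omega⟩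
  have e : (k + 1) ^ 3 - 1 = k * ((k + 1) ^ 2 + (k + 1) + 1) := by
    have : (k + 1) ^ 3 = k * ((k + 1) ^ 2 + (k + 1) + 1) + 1 := by ring
    rw [this, Nat.add_sub_cancel]
  rw [e, Nat.add_sub_cancel]
  ring

end D4

/-- `gcd(3, q + 1) · |H¹| = (q - 1)⁴ (q + 1)²` for `²E₆(q)` -/
theorem twistedE6_card_torus [Fintype K] {q : ℕ} (hq : IsPrimePow q)
    (hK : Fintype.card K = q ^ 2) :
    Nat.gcd 3 (q + 1) * Nat.card ↥(chevE6.diagonalSubgroup K ⊓ twistedE6 K q) =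
      (q - 1) ^ 4 * (q + 1) ^ 2 := by
  obtain ⟨f, hfq⟩ := TwField.exists_frob hq (by norm_num) hK
  have hf : ∀ x, f (f x) = x := fun x => TwField.frob_iterate hK f hfq x
  rw [diagonal_inf_E6 f hf hfq]
  exact card_H0_E6 f hf hq.one_lt hK hfq

/-- `|H¹| = (q - 1)² (q² + q + 1)` for `³D₄(q)` -/
theorem twistedD4_card_torus [Fintype K] {q : ℕ} (hq : IsPrimePow q)
    (hK : Fintype.card K = q ^ 3) :
    Nat.card ↥(chevD4.diagonalSubgroup K ⊓ twistedD4 K q) = (q - 1) ^ 2 * (q ^ 2 + q + 1) := by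
  obtain ⟨f, hfq⟩ := TwField.exists_frob hq (by norm_num) hK
  have hf : ∀ x, f (f (f x)) = x := fun x => TwField.frob_iterate hK f hfq x
  rw [diagonal_inf_D4 f hf hfq]
  exact card_H0_D4 f hf hq.one_lt hK hfq

end Cfsg.Agent.Helper11.TwTorMain
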