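import Mathlib
import Cfsg.Agent.Helper11.D4NonConj
import Cfsg.Agent.S1067

/-!
# `³D₄(q)`, `q` even, has exactly two classes of involutions
-/

set_option autoImplicit false
set_option linter.unusedSectionVars false
set_option linter.unusedVariables false
set_option linter.unusedSimpArgs false

namespace Cfsg.Agent.Helper11.D4Par

open Cfsg.Lie Cfsg.Agent.Helper6 Cfsg.Agent.Helper11.D4Coll Cfsg.Agent.Helper11.TwCtx
  Cfsg.Agent.Helper11.TwMain Cfsg.Agent.Helper11.TwReach Cfsg.Agent.Helper11.TwBND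
  Cfsg.Agent.Helper11.TwBNMain
open scoped Pointwise

variable {K : Type*} [Field K] [Fintype K] [CharP K 2]

/-- `U ∩ ³D₄(q)` is a Sylow `2`-subgroup for even `q` -/
theorem exists_sylow_D4 {q : ℕ} (hq : IsPrimePow q) (hK : Fintype.card K = q ^ 3) :
    ∃ P : Sylow 2 ↥(twistedD4 K q), (P : Subgroup ↥(twistedD4 K q)) =
      (chevD4.posUnipotent K ⊓ twistedD4 K q).subgroupOf (twistedD4 K q) := by
  have : Fact (Nat.Prime 2) := ⟨Nat.prime_two⟩
  obtain ⟨n, -, hn⟩ := FiniteField.card K 2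
  have hqd : q ∣ 2 ^ (n : ℕ) := by
    rw [← hn, hK]
    exact dvd_pow_self q (by norm_num)
  obtain ⟨m, -, hm⟩ := (Nat.dvd_prime_pow Nat.prime_two).1 hqd
  have hm0 : m ≠ 0 := by
    rintro rfl
    rw [pow_zero] at hm
    exact absurd hq.one_lt (by rw [hm]; norm_num)
  have hqe : Even q := by
    rw [hm]
    exact (Nat.even_pow.2 ⟨even_two, hm0⟩)
  have hq1 : 1 ≤ q := hq.one_lt.le
  set U' : Subgroup ↥(twistedD4 K q) :=
    (chevD4.posUnipotent K ⊓ twistedD4 K q).subgroupOf (twistedD4 K q) with hU'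
  have hcU : Nat.card U' = q ^ 12 := by
    rw [hU', Nat.card_congr (Subgroup.subgroupOfEquivOfLe inf_le_right).toEquiv,
      card_posUnipotent_inf_twistedD4 hq hK]
  have hUp : IsPGroup 2 U' := by
    apply IsPGroup.of_card (n := m * 12)
    rw [hcU, hm, pow_mul]
  have hidx : U'.index = (q ^ 2 - 1) * (q ^ 6 - 1) * (q ^ 8 + q ^ 4 + 1) := by
    have h1 := U'.card_mul_index
    rw [hcU, Cfsg.Agent.S1067.result hq hK] at h1
    have hpos : 0 < q ^ 12 := pow_pos hq1 _
    apply Nat.eq_of_mul_eq_mul_left hpos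
    rw [h1]; ring
  have hodd : ¬ 2 ∣ U'.index := by
    rw [hidx, ← even_iff_two_dvd, Nat.not_even_iff_odd]
    have h2 : Odd (q ^ 2 - 1) :=
      Nat.Even.sub_odd (Nat.one_le_pow _ _ hq1) (Nat.even_pow.2 ⟨hqe, by norm_num⟩) odd_one
    have h6 : Odd (q ^ 6 - 1) :=
      Nat.Even.sub_odd (Nat.one_le_pow _ _ hq1) (Nat.even_pow.2 ⟨hqe, by norm_num⟩) odd_one
    have h8 : Odd (q ^ 8 + q ^ 4 + 1) :=
      Even.add_odd (Even.add (Nat.even_pow.2 ⟨hqe, by norm_num⟩) (Nat.even_pow.2 ⟨hqe, by norm_num⟩))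
        odd_one
    exact (h2.mul h6).mul h8
  exact ⟨hUp.toSylow hodd, rfl⟩

/-- an involution of the group is conjugate to an element of `U` -/
theorem exists_conj_mem_U_D4 {q : ℕ} (hq : IsPrimePow q) (hK : Fintype.card K = q ^ 3)
    {g : GL chevD4.Idx K} (hg : g ∈ twistedD4 K q) (h2 : orderOf g = 2) :
    ∃ x ∈ twistedD4 K q, x * g * x⁻¹ ∈ chevD4.posUnipotent K ⊓ twistedD4 K q := by
  classical
  have : Fact (Nat.Prime 2) := ⟨Nat.prime_two⟩
  obtain ⟨P, hP⟩ := exists_sylow_D4 hq hK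
  let g' : ↥(twistedD4 K q) := ⟨g, hg⟩
  have ho : orderOf g' = 2 := by
    rw [← Subgroup.orderOf_coe]; exact h2
  have hpg : IsPGroup 2 (Subgroup.zpowers g') := by
    apply IsPGroup.of_card (n := 1)
    rw [Nat.card_zpowers, ho, pow_one]
  obtain ⟨Q, hQ⟩ := hpg.exists_le_sylow
  obtain ⟨x, hx⟩ := MulAction.exists_smul_eq ↥(twistedD4 K q) Q P
  refine ⟨x, x.2, ?_⟩
  have h1 : g' ∈ (Q : Subgroup ↥(twistedD4 K q)) := hQ (Subgroup.mem_zpowers g')
  have h3 : MulAut.conj x • g' ∈ MulAut.conj x • (Q : Subgroup ↥(twistedD4 K q)) :=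
    Subgroup.smul_mem_pointwise_smul _ _ _ h1
  rw [← Sylow.coe_subgroup_smul, hx, hP, Subgroup.mem_subgroupOf] at h3
  simpa [MulAut.smul_def, MulAut.conj_apply] using h3

theorem pF_one_sq {Φ : Frob K} : (pF 1 (map_one _) : Par Φ) * pF 1 (map_one _) = 1 := by
  apply Par.ext <;> simp [pF]
  exact CharTwo.add_self_eq_zero 1

theorem pA_one_sq {Φ : Frob K} : (pA 1 : Par Φ) * pA 1 = 1 := by
  apply Par.ext <;> simp [pA]
  exact CharTwo.add_self_eq_zero 1

theorem pF_one_ne {Φ : Frob K} : (pF 1 (map_one _) : Par Φ) ≠ 1 := by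
  intro h
  have := congrArg Par.g h
  simp [pF] at this

theorem pA_one_ne {Φ : Frob K} : (pA 1 : Par Φ) ≠ 1 := by
  intro h
  have := congrArg Par.a h
  simp [pA] at this

theorem orderOf_toGL_two {Φ : Frob K} {t : Par Φ} (h2 : t * t = 1) (h1 : t ≠ 1) :
    orderOf (toGL t) = 2 := by
  have : Fact (Nat.Prime 2) := ⟨Nat.prime_two⟩
  apply orderOf_eq_prime
  · rw [pow_two, ← toGL_mul, h2, toGL_one]
  · intro h
    exact h1 (toGL_inj (by rw [h, toGL_one]))

/-- `³D₄(q)`, `q` even, has exactly two classes of involutions -/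
theorem involution_classes (q : ℕ) (hK : Fintype.card K = q ^ 3) :
    (ConjClasses.mk '' {g : ↥(twistedD4 K q) | orderOf g = 2}).ncard = 2 := by
  have hq : IsPrimePow q := by
    have := FiniteField.isPrimePow_card K
    rw [hK] at this
    exact (isPrimePow_pow_iff (by norm_num)).1 this
  obtain ⟨f, hfq⟩ := TwField.exists_frob hq (by norm_num) hK
  have hf : ∀ x, f (f (f x)) = x := fun x => TwField.frob_iterate hK f hfq x
  let Φ : Frob K := ⟨f, hf⟩
  have T : TwData (ctxD4 Φ.f Φ.hf) (twistedD4 K q) orbs_D4 := twData_D4 f hfq hf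
  have hUeq : chevD4.posUnipotent K ⊓ twistedD4 K q =
      (ctxD4 Φ.f Φ.hf).fix ⊓ chevD4.posUnipotent K := posUnipotent_inf_twistedD4 f hfq hf
  have hU : (ctxD4 Φ.f Φ.hf).fix ⊓ chevD4.posUnipotent K ≤ twistedD4 K q := T.hUfix
  have hn : ∀ J ∈ orbs_D4, nJ (F := K) hB4 J ∈ twistedD4 K q := fun J hJ => nJ_mem T hJ
  have ht1 : ∀ a : K, a ≠ 0 → Φ.f a = a →
      TwBNA.hJ hB4 [1] (TwTorA.orbFun chevD4 Φ.f [1] a) ∈ twistedD4 K q := by
    intro a ha hfa
    exact TwTorA.hJ_orbFun_mem T (by decide) ha (fun _ => hfa) (by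
      intro i hi
      simpa [TwTorA.orbFun] using ha)
  have ht3 : ∀ a : K, a ≠ 0 →
      TwBNA.hJ hB4 [0, 2, 3] (TwTorA.orbFun chevD4 Φ.f [0, 2, 3] a) ∈ twistedD4 K q := by
    intro a ha
    exact TwTorA.hJ_orbFun_mem T (by decide) ha (fun h => absurd h (by decide)) (by
      intro i hi
      simp only [TwTorA.orbFun]
      split_ifs
      · exact ha
      · exact (map_ne_zero Φ.f).2 ha
      · exact (map_ne_zero Φ.f).2 ((map_ne_zero Φ.f).2 ha))
  -- the two representatives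
  let zL : ↥(twistedD4 K q) := ⟨toGL (pF 1 (map_one _) : Par Φ), hU (toGL_mem _)⟩
  let zS : ↥(twistedD4 K q) := ⟨toGL (pA 1 : Par Φ), hU (toGL_mem _)⟩
  have hzL : orderOf zL = 2 := by
    rw [← Subgroup.orderOf_coe]
    exact orderOf_toGL_two pF_one_sq pF_one_ne
  have hzS : orderOf zS = 2 := by
    rw [← Subgroup.orderOf_coe]
    exact orderOf_toGL_two pA_one_sq pA_one_ne
  have hcj : ∀ (a b : ↥(twistedD4 K q)), IsConj a b ↔
      Cj (twistedD4 K q) (a : GL chevD4.Idx K) (b : GL chevD4.Idx K) := by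
    intro a b
    rw [isConj_iff]
    constructor
    · rintro ⟨c, hc⟩
      refine ⟨c, c.2, ?_⟩
      rw [← hc]; rfl
    · rintro ⟨c, hc, e⟩
      exact ⟨⟨c, hc⟩, Subtype.ext e⟩
  have hne : ConjClasses.mk zL ≠ ConjClasses.mk zS := by
    intro h
    rw [ConjClasses.mk_eq_mk_iff_isConj, hcj] at h
    exact not_cj_F_A T h
  have hset : ConjClasses.mk '' {g : ↥(twistedD4 K q) | orderOf g = 2} =
      {ConjClasses.mk zL, ConjClasses.mk zS} := by
    apply Set.Subset.antisymm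
    · rintro _ ⟨g, hg, rfl⟩
      have hg2 : orderOf (g : GL chevD4.Idx K) = 2 := by
        rw [Subgroup.orderOf_coe]; exact hg
      obtain ⟨x, hx, hxU⟩ := exists_conj_mem_U_D4 hq hK g.2 hg2
      rw [hUeq] at hxU
      obtain ⟨t, ht⟩ := exists_par (Φ := Φ) hxU
      have hgg : (g : GL chevD4.Idx K) * g = 1 := by
        rw [← pow_two, ← hg2, pow_orderOf_eq_one]
      have ht2 : t * t = 1 := by
        rw [par_sq_iff, ht]
        exact conj_sq hgg
      have ht1' : t ≠ 1 := by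
        rintro rfl
        rw [toGL_one] at ht
        have : (g : GL chevD4.Idx K) = 1 := by
          have e : (g : GL chevD4.Idx K) = x⁻¹ * (x * g * x⁻¹) * x := by group
          rw [e, ← ht]; group
        rw [this, orderOf_one] at hg2
        norm_num at hg2
      have hgt : Cj (twistedD4 K q) (g : GL chevD4.Idx K) (toGL t) := ⟨x, hx, ht.symm⟩
      rcases invol_fusion (twistedD4 K q) hU hn ht1 ht3 t ht2 ht1' with h | h
      · left
        rw [ConjClasses.mk_eq_mk_iff_isConj, hcj]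
        exact hgt.trans h
      · right
        rw [Set.mem_singleton_iff, ConjClasses.mk_eq_mk_iff_isConj, hcj]
        exact hgt.trans h
    · rintro c (rfl | rfl)
      · exact ⟨zL, hzL, rfl⟩
      · exact ⟨zS, hzS, rfl⟩
  rw [hset]
  exact Set.ncard_pair hne

end Cfsg.Agent.Helper11.D4Par
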