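import Mathlib
import Cfsg.Agent.Helper11.DihedralLift

set_option autoImplicit false
set_option linter.unusedSectionVars false
set_option linter.unusedVariables false

/-! A group generated modulo a normal subgroup by two involutions whose product has order `n`
maps onto the dihedral group of order `2n`, with that normal subgroup as the kernel. -/

namespace Cfsg.Agent.Helper11

theorem exists_dihedral_hom {Γ : Type*} [Group Γ] (N1 H1 : Subgroup Γ) (hle : H1 ≤ N1)
    (hnorm : ∀ x ∈ N1, ∀ h ∈ H1, x * h * x⁻¹ ∈ H1)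
    (s t : Γ) (hs : s ∈ N1) (ht : t ∈ N1)
    (hgen : N1 ≤ Subgroup.closure {s, t} ⊔ H1)
    (hs2 : s * s ∈ H1) (ht2 : t * t ∈ H1)
    (n : ℕ) (hn : 3 ≤ n) (hpow : (s * t) ^ n ∈ H1)
    (hmin : ∀ k, 0 < k → k < n → (s * t) ^ k ∉ H1) :
    ∃ φ : ↥N1 →* DihedralGroup n, Function.Surjective φ ∧ φ.ker = H1.subgroupOf N1 := by
  have hN : (H1.subgroupOf N1).Normal := by
    refine ⟨fun h hh x => ?_⟩
    rw [Subgroup.mem_subgroupOf] at hh ⊢
    simp only [Subgroup.coe_mul, Subgroup.coe_inv]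
    exact hnorm _ x.2 _ hh
  let π := QuotientGroup.mk' (H1.subgroupOf N1)
  have hπ : ∀ x : ↥N1, π x = 1 ↔ (x : Γ) ∈ H1 := by
    intro x
    rw [QuotientGroup.mk'_apply, QuotientGroup.eq_one_iff, Subgroup.mem_subgroupOf]
  set b : ↥N1 ⧸ H1.subgroupOf N1 := π ⟨s, hs⟩ with hbdef
  set c : ↥N1 ⧸ H1.subgroupOf N1 := π ⟨t, ht⟩ with hcdef
  have hb : b * b = 1 := by
    rw [hbdef, ← map_mul, hπ]
    exact hs2
  have hc : c * c = 1 := by
    rw [hcdef, ← map_mul, hπ]
    exact ht2
  have hapow : ∀ k : ℕ, (b * c) ^ k = 1 ↔ (s * t) ^ k ∈ H1 := by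
    intro k
    rw [hbdef, hcdef, ← map_mul, ← map_pow, hπ]
    rfl
  have ha : (b * c) ^ n = 1 := (hapow n).2 hpow
  have hord : orderOf (b * c) = n := by
    rw [orderOf_eq_iff (by omega)]
    refine ⟨ha, fun k hk hk0 h1 => ?_⟩
    exact hmin k hk0 hk ((hapow k).1 h1)
  have hbinv : b⁻¹ = b := inv_eq_of_mul_eq_one_left hb
  have hcinv : c⁻¹ = c := inv_eq_of_mul_eq_one_left hc
  have hab : b * (b * c) * b = (b * c)⁻¹ := by
    rw [mul_inv_rev, hbinv, hcinv, ← mul_assoc, hb, one_mul]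
  have hba : b ∉ Subgroup.zpowers (b * c) := by
    intro hmem
    obtain ⟨i, hi⟩ := Subgroup.mem_zpowers_iff.1 hmem
    have hcomm : b * (b * c) = (b * c) * b := by
      have h0 := (Commute.refl (b * c)).zpow_left i
      rw [hi] at h0
      exact h0.eq
    have h1 : (b * c)⁻¹ = b * c := by
      rw [← hab, hcomm, mul_assoc, hb, mul_one]
    have h2 : (b * c) ^ 2 = 1 := by
      rw [sq]
      nth_rewrite 1 [← h1]
      exact inv_mul_cancel _
    have h3 := orderOf_dvd_of_pow_eq_one h2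
    rw [hord] at h3
    have := Nat.le_of_dvd (by norm_num) h3
    omega
  have hinj := dihedralLift_injective n (b * c) b ha hb hab hord hba
  have hsurj : Function.Surjective (dihedralLift n (b * c) b ha hb hab) := by
    have hbr : b ∈ (dihedralLift n (b * c) b ha hb hab).range :=
      ⟨DihedralGroup.sr 0, by rw [dihedralLift_sr, zmodPow_zero, mul_one]⟩
    have hcr : c ∈ (dihedralLift n (b * c) b ha hb hab).range := by
      refine ⟨DihedralGroup.sr 1, ?_⟩
      have h1 := zmodPow_intCast n (b * c) ha 1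
      rw [Int.cast_one, zpow_one] at h1
      rw [dihedralLift_sr, h1, ← mul_assoc, hb, one_mul]
    obtain ⟨R, hR⟩ : ∃ R : Subgroup ↥N1,
        R = (dihedralLift n (b * c) b ha hb hab).range.comap π := ⟨_, rfl⟩
    have hM : N1 ≤ R.map N1.subtype := by
      refine hgen.trans (sup_le ?_ ?_)
      · rw [Subgroup.closure_le]
        rintro x (rfl | rfl)
        · exact ⟨⟨x, hs⟩, by rw [hR]; exact hbr, rfl⟩
        · exact ⟨⟨x, ht⟩, by rw [hR]; exact hcr, rfl⟩
      · intro h hh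
        refine ⟨⟨h, hle hh⟩, ?_, rfl⟩
        rw [hR, SetLike.mem_coe, Subgroup.mem_comap, (hπ ⟨h, hle hh⟩).2 hh]
        exact Subgroup.one_mem _
    intro y
    obtain ⟨x, rfl⟩ := QuotientGroup.mk'_surjective (H1.subgroupOf N1) y
    obtain ⟨x', hx', hxx⟩ := hM x.2
    have : x' = x := Subtype.ext hxx
    rw [this, hR] at hx'
    exact hx'
  let e := MulEquiv.ofBijective (dihedralLift n (b * c) b ha hb hab) ⟨hinj, hsurj⟩
  refine ⟨e.symm.toMonoidHom.comp π, ?_, ?_⟩
  · intro d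
    obtain ⟨x, hx⟩ := QuotientGroup.mk'_surjective (H1.subgroupOf N1) (e d)
    refine ⟨x, ?_⟩
    show e.symm (π x) = d
    rw [show π x = e d from hx, MulEquiv.symm_apply_apply]
  · ext x
    rw [MonoidHom.mem_ker, Subgroup.mem_subgroupOf]
    show e.symm (π x) = 1 ↔ _
    rw [MulEquiv.map_eq_one_iff, hπ]

end Cfsg.Agent.Helper11
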