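import Mathlib

set_option autoImplicit false

/-! Index of the subgroup generated by elements with eigenvalue one in a finite linear group. -/

namespace Cfsg.Agent.Helper11

open Module

/-- If the fibres of `f : H → X` lie in left cosets of `S`, then `[H : S] ≤ |X|`. -/
theorem index_le_card_of_fiber {H X : Type*} [Group H] [Finite X] (S : Subgroup H) (f : H → X)
    (hf : ∀ a b, f a = f b → a⁻¹ * b ∈ S) : S.index ≤ Nat.card X := by
  rw [Subgroup.index]
  apply Nat.card_le_card_of_injective (fun q : H ⧸ S => f q.out)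
  intro q1 q2 h
  have h1 := hf _ _ h
  rw [← QuotientGroup.eq] at h1
  simpa using h1

theorem card_subtype_ne (X : Type*) [Finite X] (x0 : X) :
    Nat.card {x : X // x ≠ x0} = Nat.card X - 1 := by
  classical
  haveI := Fintype.ofFinite X
  rw [Nat.card_eq_fintype_card, Nat.card_eq_fintype_card, Fintype.card_subtype_compl,
    Fintype.card_subtype_eq]

section

variable {F V : Type*} [Field F] [Finite F] [AddCommGroup V] [Module F V] [FiniteDimensional F V]

/-- An invertible map fixing a nonzero functional fixes a nonzero vector. -/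
theorem exists_fixed_of_dual_fixed (g : V ≃ₗ[F] V) (φ : Module.Dual F V) (hφ : φ ≠ 0)
    (h : ∀ v, φ (g v) = φ v) : ∃ v : V, v ≠ 0 ∧ g v = v := by
  set T : V →ₗ[F] V := g.toLinearMap - LinearMap.id with hT
  have hns : ¬ Function.Surjective T := by
    intro hs
    apply hφ
    ext v
    obtain ⟨u, rfl⟩ := hs v
    simp [hT, h]
  have hni : ¬ Function.Injective T := fun hi => hns (LinearMap.injective_iff_surjective.mp hi)
  rw [← LinearMap.ker_eq_bot, Submodule.eq_bot_iff] at hni
  push Not at hni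
  obtain ⟨v, hv, hv0⟩ := hni
  refine ⟨v, hv0, ?_⟩
  have : g v - v = 0 := by simpa [hT] using hv
  exact sub_eq_zero.mp this

variable (H : Subgroup (V ≃ₗ[F] V))

/-- Index bound from an invariant subspace. -/
theorem eigenOne_index_le_of_invariant (W : Submodule F V) (hW : W ≠ ⊥)
    (hinv : ∀ h ∈ H, ∀ w ∈ W, h w ∈ W) :
    (Subgroup.closure {h : ↥H | ∃ v : V, v ≠ 0 ∧ (h : V ≃ₗ[F] V) v = v}).index ≤
      Nat.card F ^ finrank F W - 1 := by
  haveI : Finite V := Module.finite_of_finite F
  obtain ⟨w0, hw0, hw0ne⟩ := Submodule.exists_mem_ne_zero_of_ne_bot hW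
  have key := index_le_card_of_fiber
    (Subgroup.closure {h : ↥H | ∃ v : V, v ≠ 0 ∧ (h : V ≃ₗ[F] V) v = v})
    (fun h : ↥H => (⟨⟨(h : V ≃ₗ[F] V) w0, hinv h h.2 w0 hw0⟩, by
      intro h0
      apply hw0ne
      have : (h : V ≃ₗ[F] V) w0 = 0 := congrArg Subtype.val h0
      exact (LinearEquiv.map_eq_zero_iff _).mp this⟩ : {w : W // w ≠ 0}))
    (by
      intro a b hab
      apply Subgroup.subset_closure
      refine ⟨w0, hw0ne, ?_⟩
      have h1 : (a : V ≃ₗ[F] V) w0 = (b : V ≃ₗ[F] V) w0 :=
        congrArg (fun x : {w : W // w ≠ 0} => ((x : W) : V)) hab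
      simp only [Subgroup.coe_mul, Subgroup.coe_inv, LinearEquiv.mul_apply, LinearEquiv.coe_inv]
      rw [← h1]
      simp)
  rw [card_subtype_ne, Module.natCard_eq_pow_finrank (K := F) (V := W)] at key
  exact key

/-- Index bound from the annihilator of an invariant subspace. -/
theorem eigenOne_index_le_of_invariant_dual (W : Submodule F V) (hW : W ≠ ⊤)
    (hinv : ∀ h ∈ H, ∀ w ∈ W, h w ∈ W) :
    (Subgroup.closure {h : ↥H | ∃ v : V, v ≠ 0 ∧ (h : V ≃ₗ[F] V) v = v}).index ≤
      Nat.card F ^ finrank F W.dualAnnihilator - 1 := by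
  haveI : Finite V := Module.finite_of_finite F
  haveI : Finite (Module.Dual F V) := Module.finite_of_finite F
  have hlt := Submodule.finrank_lt hW
  have hsum := Subspace.finrank_add_finrank_dualAnnihilator_eq W
  have hpos : 0 < finrank F W.dualAnnihilator := by omega
  have hne : W.dualAnnihilator ≠ ⊥ := by
    intro h0
    rw [h0, finrank_bot] at hpos
    exact lt_irrefl _ hpos
  obtain ⟨φ0, hφ0, hφ0ne⟩ := Submodule.exists_mem_ne_zero_of_ne_bot hne
  rw [Submodule.mem_dualAnnihilator] at hφ0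
  have key := index_le_card_of_fiber
    (Subgroup.closure {h : ↥H | ∃ v : V, v ≠ 0 ∧ (h : V ≃ₗ[F] V) v = v})
    (fun h : ↥H => (⟨⟨φ0.comp ((h : V ≃ₗ[F] V)⁻¹).toLinearMap, by
      rw [Submodule.mem_dualAnnihilator]
      intro w hw
      exact hφ0 _ (hinv _ (H.inv_mem h.2) w hw)⟩, by
      intro h0
      apply hφ0ne
      have h1 : φ0.comp ((h : V ≃ₗ[F] V)⁻¹).toLinearMap = 0 := congrArg Subtype.val h0
      ext v
      have h2 := LinearMap.congr_fun h1 ((h : V ≃ₗ[F] V) v)
      simpa using h2⟩ : {φ : W.dualAnnihilator // φ ≠ 0}))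
    (by
      intro a b hab
      apply Subgroup.subset_closure
      have h1 : φ0.comp ((a : V ≃ₗ[F] V)⁻¹).toLinearMap =
          φ0.comp ((b : V ≃ₗ[F] V)⁻¹).toLinearMap :=
        congrArg (fun x : {φ : W.dualAnnihilator // φ ≠ 0} =>
          ((x : W.dualAnnihilator) : Module.Dual F V)) hab
      apply exists_fixed_of_dual_fixed _ φ0 hφ0ne
      intro v
      have h2 := LinearMap.congr_fun h1 ((b : V ≃ₗ[F] V) v)
      simp only [Subgroup.coe_mul, Subgroup.coe_inv, LinearEquiv.mul_apply, LinearEquiv.coe_inv]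
      simpa using h2)
  rw [card_subtype_ne, Module.natCard_eq_pow_finrank (K := F) (V := W.dualAnnihilator)] at key
  exact key

end

end Cfsg.Agent.Helper11
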