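import Mathlib

/-! Subfields of a finite field. -/

set_option autoImplicit false

namespace Cfsg.Agent.Helper11.FinSub

open Polynomial

variable {F : Type*} [Field F] [Fintype F]

theorem two_le_card (L : Subfield F) : 2 ≤ Nat.card L := by
  have : Finite L := Finite.of_injective (fun x : L => (x : F)) Subtype.val_injective
  have : Nontrivial L := inferInstance
  exact Finite.one_lt_card

/-- an element of a subfield is fixed by the power map of its order -/
theorem pow_card_of_mem (L : Subfield F) {x : F} (hx : x ∈ L) : x ^ Nat.card L = x := by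
  classical
  let _ : Fintype L := Fintype.ofFinite L
  have := FiniteField.pow_card (⟨x, hx⟩ : L)
  rw [← Nat.card_eq_fintype_card] at this
  have h2 := congrArg (fun z : L => (z : F)) this
  simpa using h2

/-- membership in a subfield of a finite field, in terms of its order -/
theorem mem_iff_pow_card (L : Subfield F) (x : F) : x ∈ L ↔ x ^ Nat.card L = x := by
  classical
  refine ⟨pow_card_of_mem L, ?_⟩
  intro hx
  set n := Nat.card L with hn
  have hn2 : 1 < n := two_le_card L
  have hne : (X ^ n - X : F[X]) ≠ 0 := FiniteField.X_pow_card_sub_X_ne_zero F hn2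
  have hdeg : (X ^ n - X : F[X]).natDegree = n := FiniteField.X_pow_card_sub_X_natDegree_eq F hn2
  let _ : Fintype L := Fintype.ofFinite L
  set S := (X ^ n - X : F[X]).roots.toFinset with hS
  have hroot : ∀ y : F, y ∈ S ↔ y ^ n = y := by
    intro y
    rw [hS, Multiset.mem_toFinset, mem_roots hne, IsRoot.def, eval_sub, eval_pow, eval_X,
      sub_eq_zero]
  set T : Finset F := Finset.univ.map ⟨fun z : L => (z : F), Subtype.val_injective⟩ with hT
  have hTS : T ⊆ S := by
    intro y hy
    rw [hT, Finset.mem_map] at hy
    obtain ⟨z, -, rfl⟩ := hy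
    rw [hroot]
    exact pow_card_of_mem L z.2
  have hcT : T.card = n := by
    rw [hT, Finset.card_map, Finset.card_univ, hn, Nat.card_eq_fintype_card]
  have hcS : S.card ≤ n := by
    calc S.card ≤ Multiset.card (X ^ n - X : F[X]).roots := Multiset.toFinset_card_le _
      _ ≤ (X ^ n - X : F[X]).natDegree := card_roots' _
      _ = n := hdeg
  have hST : T = S := Finset.eq_of_subset_of_card_le hTS (by rw [hcT]; exact hcS)
  have : x ∈ T := by rw [hST, hroot]; exact hx
  rw [hT, Finset.mem_map] at this
  obtain ⟨z, -, rfl⟩ := this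
  exact z.2

/-- a subfield whose order is a power of the order of another one contains it -/
theorem le_of_card_pow (K L : Subfield F) (s : ℕ) (h : Nat.card L = Nat.card K ^ s) : K ≤ L := by
  intro x hx
  rw [mem_iff_pow_card, h]
  have hK := pow_card_of_mem K hx
  clear h
  induction s with
  | zero => rw [pow_zero, pow_one]
  | succ s ih => rw [pow_succ, pow_mul, ih, hK]

theorem eq_of_le_of_card_eq (K L : Subfield F) (hle : K ≤ L) (h : Nat.card K = Nat.card L) :
    K = L := by
  apply le_antisymm hle
  apply le_of_card_pow L K 1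
  rw [pow_one, h]

theorem eq_top_of_card_eq (K : Subfield F) (h : Nat.card K = Fintype.card F) : K = ⊤ := by
  apply eq_of_le_of_card_eq K ⊤ le_top
  rw [h, ← Nat.card_eq_fintype_card]
  exact (Nat.card_congr Subfield.topEquiv.toEquiv).symm

/-- the order of a subfield containing another one -/
theorem card_pow_of_le (K L : Subfield F) (hle : K ≤ L) :
    ∃ s : ℕ, 1 ≤ s ∧ Nat.card L = Nat.card K ^ s := by
  classical
  let _ : Fintype L := Fintype.ofFinite L
  set K' : Subfield L := K.comap L.subtype with hK'
  let _ : Fintype K' := Fintype.ofFinite K'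
  have hcard : Nat.card K' = Nat.card K := by
    apply Nat.card_congr
    refine Equiv.ofBijective (fun z : K' => (⟨(z : L), z.2⟩ : K)) ⟨?_, ?_⟩
    · intro a b hab
      have := congrArg (fun z : K => (z : F)) hab
      exact Subtype.ext (Subtype.ext this)
    · intro z
      exact ⟨⟨⟨z.1, hle z.2⟩, z.2⟩, rfl⟩
  have h1 := Module.card_eq_pow_finrank (K := K') (V := L)
  refine ⟨Module.finrank K' L, Module.finrank_pos, ?_⟩
  rw [← hcard, Nat.card_eq_fintype_card, Nat.card_eq_fintype_card]
  exact h1

theorem card_pow_top (K : Subfield F) : ∃ s : ℕ, 1 ≤ s ∧ Fintype.card F = Nat.card K ^ s := by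
  classical
  let _ : Fintype K := Fintype.ofFinite K
  refine ⟨Module.finrank K F, Module.finrank_pos, ?_⟩
  rw [Nat.card_eq_fintype_card]
  exact Module.card_eq_pow_finrank (K := K) (V := F)

/-- a finite field of order `p ^ N` has a subfield of order `p ^ n` for every `n ∣ N`, `n ≠ 0` -/
theorem exists_subfield (p : ℕ) [Fact p.Prime] [CharP F p] (N n : ℕ)
    (hF : Fintype.card F = p ^ N) (hn : n ≠ 0) (hdvd : n ∣ N) :
    ∃ K : Subfield F, Nat.card K = p ^ n := by
  have hp : p.Prime := Fact.out
  let _ : Algebra (ZMod p) F := ZMod.algebra F p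
  have hfinF : Module.finrank (ZMod p) F = N := by
    have h1 := FiniteField.pow_finrank_eq_card p F
    rw [hF] at h1
    exact Nat.pow_right_injective hp.two_le h1
  have hfinK : Module.finrank (ZMod p) (GaloisField p n) = n := GaloisField.finrank p hn
  obtain ⟨f⟩ := FiniteField.nonempty_algHom_of_finrank_dvd (F := ZMod p) (K := GaloisField p n)
    (L := F) (by rw [hfinF, hfinK]; exact hdvd)
  refine ⟨f.toRingHom.fieldRange, ?_⟩
  rw [← GaloisField.card p n hn]
  exact (Nat.card_congr (RingHom.rangeRestrictFieldEquiv f.toRingHom).toEquiv).symm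

/-- a finite field of even order has characteristic two -/
theorem charP_two_of_even (h : Even (Fintype.card F)) : CharP F 2 := by
  obtain ⟨p, hp⟩ := CharP.exists F
  have hpp : p.Prime := CharP.char_is_prime F p
  have : Fact p.Prime := ⟨hpp⟩
  obtain ⟨k, -, hk⟩ := FiniteField.card F p
  rw [hk] at h
  have h2 : 2 ∣ p ^ (k : ℕ) := even_iff_two_dvd.mp h
  have := (Nat.prime_dvd_prime_iff_eq Nat.prime_two hpp).mp (Nat.prime_two.dvd_of_dvd_pow h2)
  subst this
  exact hp

end Cfsg.Agent.Helper11.FinSub
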