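import Mathlib
import Cfsg.Prelude.Def_LieExceptional
import Cfsg.Agent.Helper2.BN.Bruhat

/-!
# Fixed points of an endomorphism of a group with a split `(B, N)`-pair: generalities

An abstract setting for Steinberg's fixed point argument.  `Γ` is an ambient group, `G0` a subgroup
carrying subgroups `U`, `V`, `H`, `N` with the sharp Bruhat decomposition, and `sg : Γ → Γ` is a map
which is multiplicative on `G0` and preserves `U`, `V`, `H`, `N`.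
-/

set_option autoImplicit false
set_option linter.unusedSectionVars false
set_option linter.unusedVariables false

namespace Cfsg.Agent.Helper11.FixBN

/-- the ambient data -/
structure Ctx (Γ : Type*) [Group Γ] where
  G0 : Subgroup Γ
  U : Subgroup Γ
  V : Subgroup Γ
  H : Subgroup Γ
  N : Subgroup Γ
  sg : Γ → Γ
  hU : U ≤ G0
  hV : V ≤ G0
  hN : N ≤ G0
  hHN : H ≤ N
  sg_mul : ∀ a ∈ G0, ∀ b ∈ G0, sg (a * b) = sg a * sg b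
  sgU : ∀ u ∈ U, sg u ∈ U
  sgV : ∀ v ∈ V, sg v ∈ V
  sgH : ∀ h ∈ H, sg h ∈ H
  sgN : ∀ n ∈ N, sg n ∈ N
  hUH : ∀ x ∈ U, x ∈ H → x = 1
  hHU : ∀ h ∈ H, ∀ u ∈ U, h * u * h⁻¹ ∈ U
  hNH : ∀ n ∈ N, ∀ h ∈ H, n * h * n⁻¹ ∈ H
  hBV : ∀ x ∈ U ⊔ H, x ∈ V → x = 1
  hBN : ∀ x ∈ U ⊔ H, x ∈ N → x ∈ H
  adec : ∀ n ∈ N, ∀ u ∈ U, ∃ a ∈ U, n * a * n⁻¹ ∈ U ∧ ∃ c ∈ U, n * c * n⁻¹ ∈ V ∧ u = a * c
  bru_un : ∀ n ∈ N, ∀ n' ∈ N, ∀ b ∈ U ⊔ H, ∀ b' ∈ U ⊔ H, n' = b * n * b' → n⁻¹ * n' ∈ H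

variable {Γ : Type*} [Group Γ] (C : Ctx Γ)

namespace Ctx

/-- the subgroup `B = U H` -/
def B : Subgroup Γ := C.U ⊔ C.H

theorem hH : C.H ≤ C.G0 := le_trans C.hHN C.hN

theorem hB : C.B ≤ C.G0 := sup_le C.hU C.hH

theorem U_le_B : C.U ≤ C.B := le_sup_left

theorem H_le_B : C.H ≤ C.B := le_sup_right

theorem H_le_normalizer : C.H ≤ Subgroup.normalizer (C.U : Set Γ) := by
  intro h hh
  rw [Subgroup.mem_normalizer_iff]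
  intro u
  constructor
  · exact C.hHU h hh u
  · intro hu
    have := C.hHU h⁻¹ (C.H.inv_mem hh) _ hu
    have e : h⁻¹ * (h * u * h⁻¹) * h⁻¹⁻¹ = u := by group
    rwa [e] at this

theorem mem_B_iff {b : Γ} : b ∈ C.B ↔ ∃ u ∈ C.U, ∃ h ∈ C.H, b = u * h := by
  unfold B
  constructor
  · intro hb
    have hb' : b ∈ ((C.U ⊔ C.H : Subgroup Γ) : Set Γ) := hb
    rw [Subgroup.coe_mul_of_right_le_normalizer_left _ _ C.H_le_normalizer, Set.mem_mul] at hb'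
    obtain ⟨u, hu, h, hh, rfl⟩ := hb'
    exact ⟨u, hu, h, hh, rfl⟩
  · rintro ⟨u, hu, h, hh, rfl⟩
    exact Subgroup.mul_mem _ (Subgroup.mem_sup_left hu) (Subgroup.mem_sup_right hh)

theorem sg_one : C.sg 1 = 1 := by
  have := C.sg_mul 1 C.G0.one_mem 1 C.G0.one_mem
  rw [mul_one] at this
  exact (mul_eq_left.1 this.symm)

theorem sg_inv {a : Γ} (ha : a ∈ C.G0) : C.sg a⁻¹ = (C.sg a)⁻¹ := by
  have := C.sg_mul a ha a⁻¹ (C.G0.inv_mem ha)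
  rw [mul_inv_cancel, C.sg_one] at this
  exact (eq_inv_of_mul_eq_one_right this.symm)

theorem sg_mul₃ {a b c : Γ} (ha : a ∈ C.G0) (hb : b ∈ C.G0) (hc : c ∈ C.G0) :
    C.sg (a * b * c) = C.sg a * C.sg b * C.sg c := by
  rw [C.sg_mul _ (C.G0.mul_mem ha hb) _ hc, C.sg_mul _ ha _ hb]

theorem sg_conj {a b : Γ} (ha : a ∈ C.G0) (hb : b ∈ C.G0) :
    C.sg (a * b * a⁻¹) = C.sg a * C.sg b * (C.sg a)⁻¹ := by
  rw [C.sg_mul₃ ha hb (C.G0.inv_mem ha), C.sg_inv ha]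

theorem sgB {b : Γ} (hb : b ∈ C.B) : C.sg b ∈ C.B := by
  obtain ⟨u, hu, h, hh, rfl⟩ := C.mem_B_iff.1 hb
  rw [C.sg_mul _ (C.hU hu) _ (C.hH hh)]
  exact C.B.mul_mem (C.U_le_B (C.sgU u hu)) (C.H_le_B (C.sgH h hh))

theorem U_inf_V {x : Γ} (hx : x ∈ C.U) (hx' : x ∈ C.V) : x = 1 := C.hBV x (C.U_le_B hx) hx'

/-- the normal form `g = b n c` obtained from `g ∈ B n B` -/
theorem nf_of_mem {n : Γ} (hn : n ∈ C.N) {g b₁ b₂ : Γ} (hb₁ : b₁ ∈ C.B) (hb₂ : b₂ ∈ C.B)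
    (e : g = b₁ * n * b₂) :
    ∃ b ∈ C.B, ∃ c ∈ C.U, n * c * n⁻¹ ∈ C.V ∧ g = b * n * c := by
  obtain ⟨u, hu, h, hh, rfl⟩ := C.mem_B_iff.1 hb₂
  have hu' : h⁻¹ * u * h ∈ C.U := by
    have := C.hHU h⁻¹ (C.H.inv_mem hh) u hu
    rwa [inv_inv] at this
  obtain ⟨a, ha, hna, c, hc, hcV, e2⟩ := C.adec n hn _ hu'
  refine ⟨b₁ * (n * h * n⁻¹) * (n * a * n⁻¹), ?_, c, hc, hcV, ?_⟩
  · exact C.B.mul_mem (C.B.mul_mem hb₁ (C.H_le_B (C.hNH n hn h hh))) (C.U_le_B hna)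
  · rw [e]
    have e3 : u * h = h * (h⁻¹ * u * h) := by group
    rw [e3, e2]
    group

/-- uniqueness of the normal form for a fixed `n` -/
theorem nf_unique {n : Γ} {b b' c c' : Γ} (hb : b ∈ C.B) (hb' : b' ∈ C.B) (hc : c ∈ C.U)
    (hc' : c' ∈ C.U) (hcV : n * c * n⁻¹ ∈ C.V) (hcV' : n * c' * n⁻¹ ∈ C.V)
    (e : b * n * c = b' * n * c') : b = b' ∧ c = c' := by
  have e1 : n * c' * n⁻¹ * (n * c * n⁻¹)⁻¹ = b'⁻¹ * b := by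
    have : b'⁻¹ * b = b'⁻¹ * (b * n * c) * c⁻¹ * n⁻¹ := by group
    rw [this, e]; group
  have hV : b'⁻¹ * b ∈ C.V := by
    rw [← e1]; exact C.V.mul_mem hcV' (C.V.inv_mem hcV)
  have h1 := C.hBV _ (C.B.mul_mem (C.B.inv_mem hb') hb) hV
  have hbb : b = b' := by
    have : b = b' * (b'⁻¹ * b) := by group
    rw [this, h1, mul_one]
  refine ⟨hbb, ?_⟩
  subst hbb
  exact mul_left_cancel e

/-- the parts of the normal form of a fixed element are fixed -/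
theorem nf_fixed {n : Γ} (hn : n ∈ C.N) (hnf : C.sg n = n) {g b c : Γ} (hb : b ∈ C.B)
    (hc : c ∈ C.U) (hcV : n * c * n⁻¹ ∈ C.V) (e : g = b * n * c) (hg : C.sg g = g) :
    C.sg b = b ∧ C.sg c = c := by
  have hnG := C.hN hn
  have hbG := C.hB hb
  have hcG := C.hU hc
  have e1 : C.sg g = C.sg b * n * C.sg c := by
    rw [e, C.sg_mul₃ hbG hnG hcG, hnf]
  have hcV' : n * C.sg c * n⁻¹ ∈ C.V := by
    have := C.sgV _ hcV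
    rwa [C.sg_conj hnG hcG, hnf] at this
  rw [hg, e] at e1
  have := C.nf_unique hb (C.sgB hb) hc (C.sgU c hc) hcV hcV' e1
  exact ⟨this.1.symm, this.2.symm⟩

/-- a fixed element of `B` has fixed components -/
theorem B_fixed {b : Γ} (hb : b ∈ C.B) (hf : C.sg b = b) :
    ∃ u ∈ C.U, ∃ h ∈ C.H, C.sg u = u ∧ C.sg h = h ∧ b = u * h := by
  obtain ⟨u, hu, h, hh, rfl⟩ := C.mem_B_iff.1 hb
  rw [C.sg_mul _ (C.hU hu) _ (C.hH hh)] at hf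
  have e1 : u⁻¹ * C.sg u = h * (C.sg h)⁻¹ := by
    have : C.sg u = u * h * (C.sg h)⁻¹ := by rw [← hf]; group
    rw [this]; group
  have h1 : u⁻¹ * C.sg u = 1 := by
    apply C.hUH _ (C.U.mul_mem (C.U.inv_mem hu) (C.sgU u hu))
    rw [e1]
    exact C.H.mul_mem hh (C.H.inv_mem (C.sgH h hh))
  have hu1 : C.sg u = u := (inv_mul_eq_one.1 h1).symm
  refine ⟨u, hu, h, hh, hu1, ?_, rfl⟩
  rw [hu1] at hf
  exact mul_left_cancel hf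

end Ctx

/-- the data of a twisted subgroup `G1` of fixed points -/
structure Tw (C : Ctx Γ) (G1 : Subgroup Γ) (ι : Type*) where
  nJ : ι → Γ
  NJ : ι → Subgroup Γ
  hfix : ∀ g ∈ G1, C.sg g = g
  hG1 : G1 ≤ C.G0
  hnJ1 : ∀ j, nJ j ∈ G1
  hnJN : ∀ j, nJ j ∈ NJ j
  hNJ : ∀ j, NJ j ≤ C.N
  hP1 : ∀ j, ∀ n ∈ C.N, ∀ b ∈ C.B, ∃ w ∈ NJ j, ∃ b₁ ∈ C.B, ∃ b₂ ∈ C.B,
    nJ j * b * n = b₁ * (w * n) * b₂
  hP2 : ∀ j, ∀ w ∈ NJ j, w⁻¹ * C.sg w ∈ C.H → w ∈ C.H ∨ (nJ j)⁻¹ * w ∈ C.H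
  hUfix : ∀ u ∈ C.U, C.sg u = u → u ∈ G1
  hgen : ∀ S : Subgroup Γ, (∀ u ∈ C.U, C.sg u = u → u ∈ S) → (∀ j, nJ j ∈ S) → G1 ≤ S
  hne : ∀ j, ∃ x ∈ C.U, C.sg x = x ∧ x ≠ 1 ∧ nJ j * x * (nJ j)⁻¹ ∈ C.V
  hinj : ∀ j j', (nJ j)⁻¹ * nJ j' ∈ C.H → j = j'

section tw

variable {C} {G1 : Subgroup Γ} {ι : Type*} (T : Tw C G1 ι)

/-- `B ∩ G¹` -/
def B1 (C : Ctx Γ) (G1 : Subgroup Γ) : Subgroup ↥G1 := (C.B ⊓ G1).subgroupOf G1

/-- `H ∩ G¹` -/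
def H1 (C : Ctx Γ) (G1 : Subgroup Γ) : Subgroup ↥G1 := (C.H ⊓ G1).subgroupOf G1

/-- `N ∩ G¹` -/
def N1 (C : Ctx Γ) (G1 : Subgroup Γ) : Subgroup ↥G1 := (C.N ⊓ G1).subgroupOf G1

/-- the representatives of the fundamental reflections of the twisted group -/
def Sset (T : Tw C G1 ι) : Set ↥G1 := {s | ∃ j, (s : Γ) = T.nJ j}

/-- `⟨n_J⟩ (H ∩ G¹)` -/
def N' (T : Tw C G1 ι) : Subgroup ↥G1 := Subgroup.closure (Sset T) ⊔ H1 C G1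

theorem mem_B1 {g : ↥G1} : g ∈ B1 C G1 ↔ (g : Γ) ∈ C.B := by
  unfold B1
  rw [Subgroup.mem_subgroupOf, Subgroup.mem_inf]
  exact ⟨fun h => h.1, fun h => ⟨h, g.2⟩⟩

theorem mem_H1 {g : ↥G1} : g ∈ H1 C G1 ↔ (g : Γ) ∈ C.H := by
  unfold H1
  rw [Subgroup.mem_subgroupOf, Subgroup.mem_inf]
  exact ⟨fun h => h.1, fun h => ⟨h, g.2⟩⟩

theorem mem_N1 {g : ↥G1} : g ∈ N1 C G1 ↔ (g : Γ) ∈ C.N := by
  unfold N1
  rw [Subgroup.mem_subgroupOf, Subgroup.mem_inf]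
  exact ⟨fun h => h.1, fun h => ⟨h, g.2⟩⟩

include T

theorem nJ_mem_N (j : ι) : T.nJ j ∈ C.N := T.hNJ j (T.hnJN j)

theorem Sset_le_N1 : Sset T ⊆ (N1 C G1 : Set ↥G1) := by
  rintro s ⟨j, hs⟩
  rw [SetLike.mem_coe, mem_N1, hs]
  exact nJ_mem_N T j

theorem H1_le_N1 : H1 C G1 ≤ N1 C G1 := by
  intro g hg
  rw [mem_N1]
  exact C.hHN (mem_H1.1 hg)

theorem H1_le_B1 : H1 C G1 ≤ B1 C G1 := by
  intro g hg
  rw [mem_B1]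
  exact C.H_le_B (mem_H1.1 hg)

theorem N'_le_N1 : N' T ≤ N1 C G1 := by
  unfold N'
  apply sup_le _ (H1_le_N1 T)
  rw [Subgroup.closure_le]
  exact Sset_le_N1 T

theorem B1_inf_N1_le : ∀ g : ↥G1, g ∈ B1 C G1 → g ∈ N1 C G1 → g ∈ H1 C G1 := by
  intro g hB hN
  rw [mem_H1]
  exact C.hBN _ (mem_B1.1 hB) (mem_N1.1 hN)

theorem sup_eq_top' : B1 C G1 ⊔ N' T = ⊤ := by
  rw [eq_top_iff]
  have hle : G1 ≤ (B1 C G1 ⊔ N' T).map G1.subtype := by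
    apply T.hgen
    · intro u hu hf
      have huG := T.hUfix u hu hf
      refine Subgroup.mem_map.2 ⟨⟨u, huG⟩, ?_, rfl⟩
      apply Subgroup.mem_sup_left
      rw [mem_B1]
      exact C.U_le_B hu
    · intro j
      refine Subgroup.mem_map.2 ⟨⟨T.nJ j, T.hnJ1 j⟩, ?_, rfl⟩
      apply Subgroup.mem_sup_right
      exact Subgroup.mem_sup_left (Subgroup.subset_closure ⟨j, rfl⟩)
  intro g _
  obtain ⟨k, hk, hkg⟩ := Subgroup.mem_map.1 (hle g.2)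
  have : k = g := Subtype.ext hkg
  rw [← this]; exact hk

theorem conj_mem' : ∀ n ∈ N' T, ∀ t ∈ B1 C G1 ⊓ N' T, n * t * n⁻¹ ∈ B1 C G1 := by
  intro n hn t ht
  have hnN := mem_N1.1 (N'_le_N1 T hn)
  have htH : (t : Γ) ∈ C.H := C.hBN _ (mem_B1.1 ht.1) (mem_N1.1 (N'_le_N1 T ht.2))
  rw [mem_B1]
  simp only [Subgroup.coe_mul, Subgroup.coe_inv]
  exact C.H_le_B (C.hNH _ hnN _ htH)

theorem nJ_sq_mem (j : ι) : T.nJ j * T.nJ j ∈ C.H := by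
  have hs := T.hnJN j
  have hf := T.hfix _ (T.hnJ1 j)
  have hsG := T.hG1 (T.hnJ1 j)
  have h1 : (T.nJ j * T.nJ j)⁻¹ * C.sg (T.nJ j * T.nJ j) ∈ C.H := by
    rw [C.sg_mul _ hsG _ hsG, hf, inv_mul_cancel]
    exact C.H.one_mem
  rcases T.hP2 j _ ((T.NJ j).mul_mem hs hs) h1 with h | h
  · exact h
  · have e : (T.nJ j)⁻¹ * (T.nJ j * T.nJ j) = T.nJ j := by group
    rw [e] at h
    exact C.H.mul_mem h h

theorem sq_mem' : ∀ s ∈ Sset T, s * s ∈ B1 C G1 := by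
  rintro s ⟨j, hs⟩
  rw [mem_B1, Subgroup.coe_mul, hs]
  exact C.H_le_B (nJ_sq_mem T j)

theorem inj' : ∀ s ∈ Sset T, ∀ s' ∈ Sset T, s⁻¹ * s' ∈ B1 C G1 → s = s' := by
  rintro s ⟨j, hs⟩ s' ⟨j', hs'⟩ hmem
  rw [mem_B1, Subgroup.coe_mul, Subgroup.coe_inv, hs, hs'] at hmem
  have hH := C.hBN _ hmem (C.N.mul_mem (C.N.inv_mem (nJ_mem_N T j)) (nJ_mem_N T j'))
  have := T.hinj j j' hH
  apply Subtype.ext
  rw [hs, hs', this]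

theorem closure_sup' : Subgroup.closure (Sset T) ⊔ (B1 C G1 ⊓ N' T) = N' T := by
  apply le_antisymm
  · exact sup_le le_sup_left inf_le_right
  · unfold N'
    apply sup_le le_sup_left
    exact le_trans (le_inf (H1_le_B1 T) le_sup_right) le_sup_right

/-- the key step: `n_J b n ∈ B¹ n B¹ ∪ B¹ n_J n B¹` -/
theorem key {j : ι} {n b : Γ} (hnN : n ∈ C.N) (hnG : n ∈ G1) (hb : b ∈ C.B) (hbG : b ∈ G1) :
    (∃ b₁ ∈ C.B ⊓ G1, ∃ b₂ ∈ C.B ⊓ G1, T.nJ j * b * n = b₁ * (T.nJ j * n) * b₂) ∨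
    (∃ b₁ ∈ C.B ⊓ G1, ∃ b₂ ∈ C.B ⊓ G1, T.nJ j * b * n = b₁ * n * b₂) := by
  set s := T.nJ j with hs
  have hsG1 : s ∈ G1 := T.hnJ1 j
  have hsN : s ∈ C.N := nJ_mem_N T j
  have hgG1 : s * b * n ∈ G1 := G1.mul_mem (G1.mul_mem hsG1 hbG) hnG
  have hgf : C.sg (s * b * n) = s * b * n := T.hfix _ hgG1
  have hnf : C.sg n = n := T.hfix _ hnG
  have hsf : C.sg s = s := T.hfix _ hsG1
  obtain ⟨w, hw, b₁, hb₁, b₂, hb₂, e⟩ := T.hP1 j n hnN b hb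
  have hwN : w ∈ C.N := T.hNJ j hw
  have hwG := C.hN hwN
  have hnG0 := C.hN hnN
  -- the coset of `w` is stable
  have e2 : C.sg (s * b * n) = C.sg b₁ * (C.sg w * n) * C.sg b₂ := by
    rw [e, C.sg_mul₃ (C.hB hb₁) (C.G0.mul_mem hwG hnG0) (C.hB hb₂), C.sg_mul _ hwG _ hnG0, hnf]
  rw [hgf, e] at e2
  have e3 : C.sg w * n = ((C.sg b₁)⁻¹ * b₁) * (w * n) * (b₂ * (C.sg b₂)⁻¹) := by
    have : C.sg w * n = (C.sg b₁)⁻¹ * (C.sg b₁ * (C.sg w * n) * C.sg b₂) * (C.sg b₂)⁻¹ := by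
      group
    rw [this, ← e2]; group
  have h1 := C.bru_un (w * n) (C.N.mul_mem hwN hnN) (C.sg w * n)
    (C.N.mul_mem (C.sgN w hwN) hnN) _ (C.B.mul_mem (C.B.inv_mem (C.sgB hb₁)) hb₁) _
    (C.B.mul_mem hb₂ (C.B.inv_mem (C.sgB hb₂))) e3
  have h2 : w⁻¹ * C.sg w ∈ C.H := by
    have := C.hNH n hnN _ h1
    have e4 : n * ((w * n)⁻¹ * (C.sg w * n)) * n⁻¹ = w⁻¹ * C.sg w := by group
    rwa [e4] at this
  -- conclusion from a double coset of a fixed element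
  have fin : ∀ m ∈ C.N, m ∈ G1 → (∃ c₁ ∈ C.B, ∃ c₂ ∈ C.B, s * b * n = c₁ * m * c₂) →
      ∃ b₁ ∈ C.B ⊓ G1, ∃ b₂ ∈ C.B ⊓ G1, s * b * n = b₁ * m * b₂ := by
    rintro m hmN hmG ⟨c₁, hc₁, c₂, hc₂, e5⟩
    obtain ⟨b', hb', c, hc, hcV, e6⟩ := C.nf_of_mem hmN hc₁ hc₂ e5
    obtain ⟨f1, f2⟩ := C.nf_fixed hmN (T.hfix _ hmG) hb' hc hcV e6 hgf
    have hcG : c ∈ G1 := T.hUfix c hc f2
    have hb'G : b' ∈ G1 := by
      have : b' = s * b * n * c⁻¹ * m⁻¹ := by rw [e6]; group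
      rw [this]
      exact G1.mul_mem (G1.mul_mem hgG1 (G1.inv_mem hcG)) (G1.inv_mem hmG)
    exact ⟨b', ⟨hb', hb'G⟩, c, ⟨C.U_le_B hc, hcG⟩, e6⟩
  rcases T.hP2 j w hw h2 with h | h
  · right
    apply fin n hnN hnG
    refine ⟨b₁ * w, C.B.mul_mem hb₁ (C.H_le_B h), b₂, hb₂, ?_⟩
    rw [e]; group
  · left
    apply fin (s * n) (C.N.mul_mem hsN hnN) (G1.mul_mem hsG1 hnG)
    refine ⟨b₁, hb₁, n⁻¹ * (s⁻¹ * w) * n * b₂, ?_, ?_⟩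
    · apply C.B.mul_mem _ hb₂
      apply C.H_le_B
      have := C.hNH n⁻¹ (C.N.inv_mem hnN) _ h
      rwa [inv_inv] at this
    · rw [e]; group

theorem mul_mem_union' : ∀ s ∈ Sset T, ∀ n ∈ N' T, ∀ b ∈ B1 C G1,
    s * b * n ∈ DoubleCoset.doubleCoset (s * n) (B1 C G1 : Set ↥G1) (B1 C G1) ∪
      DoubleCoset.doubleCoset n (B1 C G1 : Set ↥G1) (B1 C G1) := by
  rintro s ⟨j, hs⟩ n hn b hb
  have hnN := mem_N1.1 (N'_le_N1 T hn)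
  have k := key T (j := j) hnN n.2 (mem_B1.1 hb) b.2
  rw [← hs] at k
  rcases k with ⟨b₁, hb₁, b₂, hb₂, e⟩ | ⟨b₁, hb₁, b₂, hb₂, e⟩
  · left
    rw [DoubleCoset.mem_doubleCoset]
    refine ⟨⟨b₁, hb₁.2⟩, mem_B1.2 hb₁.1, ⟨b₂, hb₂.2⟩, mem_B1.2 hb₂.1, ?_⟩
    apply Subtype.ext
    simp only [Subgroup.coe_mul]
    exact e
  · right
    rw [DoubleCoset.mem_doubleCoset]
    refine ⟨⟨b₁, hb₁.2⟩, mem_B1.2 hb₁.1, ⟨b₂, hb₂.2⟩, mem_B1.2 hb₂.1, ?_⟩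
    apply Subtype.ext
    simp only [Subgroup.coe_mul]
    exact e

theorem conj_ne' : ∀ s ∈ Sset T,
    (fun b : ↥G1 => s * b * s) '' (B1 C G1 : Set ↥G1) ≠ (B1 C G1 : Set ↥G1) := by
  rintro s ⟨j, hs⟩ heq
  obtain ⟨x₀, hxU, hxf, hx1, hxV⟩ := T.hne j
  have hxG : x₀ ∈ G1 := T.hUfix x₀ hxU hxf
  let x : ↥G1 := ⟨x₀, hxG⟩
  have hsB : s * s ∈ B1 C G1 := sq_mem' T s ⟨j, hs⟩
  have hxB : x ∈ B1 C G1 := by
    rw [mem_B1]; exact C.U_le_B hxU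
  have hb₀ : x * (s * s)⁻¹ ∈ B1 C G1 := Subgroup.mul_mem _ hxB (Subgroup.inv_mem _ hsB)
  have himg : s * (x * (s * s)⁻¹) * s ∈ (B1 C G1 : Set ↥G1) := by
    rw [← heq]
    exact ⟨_, hb₀, rfl⟩
  have e : s * (x * (s * s)⁻¹) * s = s * x * s⁻¹ := by group
  rw [e, SetLike.mem_coe, mem_B1] at himg
  simp only [Subgroup.coe_mul, Subgroup.coe_inv] at himg
  rw [hs] at himg
  have h1 := C.hBV _ himg hxV
  apply hx1
  have : x₀ = (T.nJ j)⁻¹ * (T.nJ j * x₀ * (T.nJ j)⁻¹) * T.nJ j := by group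
  rw [this, h1]; group

/-- the `(B, N)`-pair of the twisted group, with `N = ⟨n_J⟩ H¹` -/
def bnPair' : Cfsg.BNPair ↥G1 where
  B := B1 C G1
  N := N' T
  S := Sset T
  sup_eq_top := sup_eq_top' T
  conj_mem := conj_mem' T
  subset := by
    intro s hs
    exact Subgroup.mem_sup_left (Subgroup.subset_closure hs)
  sq_mem := sq_mem' T
  inj := inj' T
  closure_sup := closure_sup' T
  mul_mem_union := mul_mem_union' T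
  conj_ne := conj_ne' T

open Cfsg.Agent.Helper2.BN in
/-- `N ∩ G¹ = ⟨n_J⟩ (H ∩ G¹)` -/
theorem N1_le_N' : N1 C G1 ≤ N' T := by
  intro n hn
  have hnN := mem_N1.1 hn
  obtain ⟨n', hn', hC⟩ := exists_mem_C (P := bnPair' T) n
  obtain ⟨b, hb, b', hb', e⟩ := (mem_C_iff (bnPair' T)).1 hC
  have hn'N := mem_N1.1 (N'_le_N1 T hn')
  have hbB : (b : Γ) ∈ C.B := mem_B1.1 hb
  have hb'B : (b' : Γ) ∈ C.B := mem_B1.1 hb'
  have e' : (n : Γ) = b * n' * b' := by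
    have := congrArg Subtype.val e
    simpa only [Subgroup.coe_mul] using this
  have hH' : (n' : Γ)⁻¹ * n ∈ C.H := C.bru_un _ hn'N _ hnN _ hbB _ hb'B e'
  have hH1 : n'⁻¹ * n ∈ H1 C G1 := by
    rw [mem_H1]
    simpa only [Subgroup.coe_mul, Subgroup.coe_inv] using hH'
  have : n = n' * (n'⁻¹ * n) := by group
  rw [this]
  exact Subgroup.mul_mem _ hn' (Subgroup.mem_sup_right hH1)

/-- the twisted group has a `(B, N)`-pair with `B¹ = B ∩ G¹`, `N¹ = N ∩ G¹` -/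
theorem exists_bnPair : ∃ P : Cfsg.BNPair ↥G1,
    P.B = (C.B ⊓ G1).subgroupOf G1 ∧ P.N = (C.N ⊓ G1).subgroupOf G1 ∧
    P.S = {s : ↥G1 | ∃ j, (s : Γ) = T.nJ j} :=
  ⟨bnPair' T, rfl, le_antisymm (N'_le_N1 T) (N1_le_N' T), rfl⟩

end tw

end Cfsg.Agent.Helper11.FixBN
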