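import Mathlib
import Cfsg.Agent.Helper11.FixBNA

/-!
# Fixed points in the groups `U_n = U ∩ n⁻¹ V n`

The factorisation `U_{ms} = s⁻¹ U_m s · U_s` (when lengths add) is compatible with the endomorphism.
-/

set_option autoImplicit false
set_option linter.unusedSectionVars false
set_option linter.unusedVariables false

namespace Cfsg.Agent.Helper11.FixBN

variable {Γ : Type*} [Group Γ] (C : Ctx Γ)

namespace Ctx

/-- `U_n = U ∩ n⁻¹ V n` -/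
def Un (n : Γ) : Subgroup Γ := C.U ⊓ C.V.comap (MulAut.conj n).toMonoidHom

theorem mem_Un {n c : Γ} : c ∈ C.Un n ↔ c ∈ C.U ∧ n * c * n⁻¹ ∈ C.V := by
  unfold Un
  rw [Subgroup.mem_inf, Subgroup.mem_comap]
  rfl

/-- the fixed points in `U_n` -/
def FixUn (n : Γ) : Set Γ := {c | c ∈ C.Un n ∧ C.sg c = c}

theorem mem_FixUn {n c : Γ} : c ∈ C.FixUn n ↔ c ∈ C.Un n ∧ C.sg c = c := Iff.rfl

theorem Un_le_U (n : Γ) : C.Un n ≤ C.U := inf_le_left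

theorem sg_mem_Un {n : Γ} (hn : n ∈ C.N) (hnf : C.sg n = n) {c : Γ} (hc : c ∈ C.Un n) :
    C.sg c ∈ C.Un n := by
  rw [C.mem_Un] at hc ⊢
  refine ⟨C.sgU c hc.1, ?_⟩
  have := C.sgV _ hc.2
  rwa [C.sg_conj (C.hN hn) (C.hU hc.1), hnf] at this

theorem Un_of_conj_mem_V {n : Γ} (h : ∀ u ∈ C.U, n * u * n⁻¹ ∈ C.V) : C.Un n = C.U := by
  apply le_antisymm (C.Un_le_U n)
  intro u hu
  exact C.mem_Un.2 ⟨hu, h u hu⟩

variable {m s : Γ} (hm : m ∈ C.N) (hs : s ∈ C.N)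
  (h1 : ∀ c ∈ C.Un s, m * (s * c * s⁻¹) * m⁻¹ ∈ C.V)
  (h2 : ∀ a ∈ C.Un m, s⁻¹ * a * s ∈ C.U)

include h1 h2 in
theorem mul_mem_Un {a c : Γ} (ha : a ∈ C.Un m) (hc : c ∈ C.Un s) :
    s⁻¹ * a * s * c ∈ C.Un (m * s) := by
  rw [C.mem_Un]
  refine ⟨C.U.mul_mem (h2 a ha) (C.Un_le_U s hc), ?_⟩
  have e : m * s * (s⁻¹ * a * s * c) * (m * s)⁻¹ = (m * a * m⁻¹) * (m * (s * c * s⁻¹) * m⁻¹) := by
    group
  rw [e]
  exact C.V.mul_mem (C.mem_Un.1 ha).2 (h1 c hc)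

include hs h1 in
theorem exists_dec {x : Γ} (hx : x ∈ C.Un (m * s)) :
    ∃ a ∈ C.Un m, ∃ c ∈ C.Un s, x = s⁻¹ * a * s * c := by
  obtain ⟨hxU, hxV⟩ := C.mem_Un.1 hx
  obtain ⟨a₀, ha₀, hsa, c, hc, hcV, e⟩ := C.adec s hs x hxU
  have hcs : c ∈ C.Un s := C.mem_Un.2 ⟨hc, hcV⟩
  refine ⟨s * a₀ * s⁻¹, C.mem_Un.2 ⟨hsa, ?_⟩, c, hcs, ?_⟩
  · have e2 : m * (s * a₀ * s⁻¹) * m⁻¹ =
        (m * s * x * (m * s)⁻¹) * (m * (s * c * s⁻¹) * m⁻¹)⁻¹ := by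
      rw [e]; group
    rw [e2]
    exact C.V.mul_mem hxV (C.V.inv_mem (h1 c hcs))
  · rw [e]; group

theorem dec_unique {a a' c c' : Γ} (ha : a ∈ C.Un m) (ha' : a' ∈ C.Un m) (hc : c ∈ C.Un s)
    (hc' : c' ∈ C.Un s) (e : s⁻¹ * a * s * c = s⁻¹ * a' * s * c') : a = a' ∧ c = c' := by
  have e1 : a'⁻¹ * a = s * (c' * c⁻¹) * s⁻¹ := by
    have : a = s * (s⁻¹ * a * s * c) * c⁻¹ * s⁻¹ := by group
    rw [this, e]; group
  have hV : a'⁻¹ * a ∈ C.V := by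
    rw [e1]
    exact (C.mem_Un.1 ((C.Un s).mul_mem hc' ((C.Un s).inv_mem hc))).2
  have hU : a'⁻¹ * a ∈ C.U := C.U.mul_mem (C.U.inv_mem (C.Un_le_U m ha')) (C.Un_le_U m ha)
  have h := C.U_inf_V hU hV
  have haa : a = a' := by
    have : a = a' * (a'⁻¹ * a) := by group
    rw [this, h, mul_one]
  refine ⟨haa, ?_⟩
  subst haa
  exact mul_left_cancel e

variable (hmf : C.sg m = m) (hsf : C.sg s = s)

include hm hs hmf hsf in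
theorem sg_dec {a c : Γ} (ha : a ∈ C.Un m) (hc : c ∈ C.Un s) :
    C.sg (s⁻¹ * a * s * c) = s⁻¹ * C.sg a * s * C.sg c := by
  have hsG := C.hN hs
  have haG := C.hU (C.Un_le_U m ha)
  have hcG := C.hU (C.Un_le_U s hc)
  rw [C.sg_mul _ (C.G0.mul_mem (C.G0.mul_mem (C.G0.inv_mem hsG) haG) hsG) _ hcG,
    C.sg_mul₃ (C.G0.inv_mem hsG) haG hsG, C.sg_inv hsG, hsf]

include hm hs hmf hsf h1 h2 in
/-- the bijection `Fix U_m × Fix U_s ≃ Fix U_{ms}` -/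
theorem exists_equiv : ∃ e : C.FixUn m × C.FixUn s ≃ C.FixUn (m * s),
    ∀ p, ((e p : C.FixUn (m * s)) : Γ) = s⁻¹ * (p.1 : Γ) * s * (p.2 : Γ) := by
  have hf : ∀ p : C.FixUn m × C.FixUn s, s⁻¹ * (p.1 : Γ) * s * (p.2 : Γ) ∈ C.FixUn (m * s) := by
    rintro ⟨⟨a, ha, haf⟩, ⟨c, hc, hcf⟩⟩
    refine ⟨C.mul_mem_Un h1 h2 ha hc, ?_⟩
    change C.sg (s⁻¹ * a * s * c) = s⁻¹ * a * s * c
    rw [C.sg_dec hm hs hmf hsf ha hc, haf, hcf]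
  have hbij : Function.Bijective
      (fun p : C.FixUn m × C.FixUn s => (⟨_, hf p⟩ : C.FixUn (m * s))) := by
    constructor
    · rintro ⟨⟨a, ha, haf⟩, ⟨c, hc, hcf⟩⟩ ⟨⟨a', ha', haf'⟩, ⟨c', hc', hcf'⟩⟩ e
      have e' := congrArg Subtype.val e
      simp only at e'
      obtain ⟨rfl, rfl⟩ := C.dec_unique ha ha' hc hc' e'
      rfl
    · rintro ⟨x, hx, hxf⟩
      obtain ⟨a, ha, c, hc, rfl⟩ := C.exists_dec hs h1 hx
      rw [C.sg_dec hm hs hmf hsf ha hc] at hxf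
      obtain ⟨e1, e2⟩ := C.dec_unique (C.sg_mem_Un hm hmf ha) ha (C.sg_mem_Un hs hsf hc) hc hxf
      exact ⟨⟨⟨a, ha, e1⟩, ⟨c, hc, e2⟩⟩, rfl⟩
  exact ⟨Equiv.ofBijective _ hbij, fun p => rfl⟩

include hm hs hmf hsf h1 h2 in
theorem card_FixUn_mul :
    Nat.card (C.FixUn (m * s)) = Nat.card (C.FixUn m) * Nat.card (C.FixUn s) := by
  obtain ⟨e, _⟩ := C.exists_equiv hm hs h1 h2 hmf hsf
  rw [← Nat.card_congr e, Nat.card_prod]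

include hm hs hmf hsf h1 h2 in
theorem FixUn_mul_subset (S : Subgroup Γ) (hsS : s ∈ S) (hmS : C.FixUn m ⊆ S)
    (hsS' : C.FixUn s ⊆ S) : C.FixUn (m * s) ⊆ S := by
  obtain ⟨e, he⟩ := C.exists_equiv hm hs h1 h2 hmf hsf
  intro x hx
  obtain ⟨p, hp⟩ := e.surjective ⟨x, hx⟩
  have := he p
  rw [hp] at this
  change x = _ at this
  rw [this]
  exact S.mul_mem (S.mul_mem (S.mul_mem (S.inv_mem hsS) (hmS p.1.2)) hsS) (hsS' p.2.2)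

end Ctx

end Cfsg.Agent.Helper11.FixBN
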