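import Mathlib
import Cfsg.Agent.Helper11.FixBNB
import Cfsg.Agent.Helper6.Chev.WeylChain

/-!
# The abstract fixed point setting for a Chevalley group

An endomorphism `sg` of the Chevalley group `D.group F` with `sg (x_r(t)) = x_{ρ r}(t ^ e r)`, where
`ρ` permutes the roots preserving signs, yields a context `FixBN.Ctx`.
-/

set_option autoImplicit false
set_option linter.unusedSectionVars false
set_option linter.unusedVariables false

namespace Cfsg.Agent.Helper11.FixBN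

open Cfsg.Lie Cfsg.Agent.Helper6 Cfsg.Agent.Helper2.BN

/-- a map multiplicative on a subgroup sends `1` to `1` -/
theorem sg_one' {Γ : Type*} [Group Γ] {G0 : Subgroup Γ} {sg : Γ → Γ}
    (hmul : ∀ a ∈ G0, ∀ b ∈ G0, sg (a * b) = sg a * sg b) : sg 1 = 1 := by
  have := hmul 1 G0.one_mem 1 G0.one_mem
  rw [mul_one] at this
  exact (mul_eq_left.1 this.symm)

theorem sg_inv' {Γ : Type*} [Group Γ] {G0 : Subgroup Γ} {sg : Γ → Γ}
    (hmul : ∀ a ∈ G0, ∀ b ∈ G0, sg (a * b) = sg a * sg b) {a : Γ} (ha : a ∈ G0) :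
    sg a⁻¹ = (sg a)⁻¹ := by
  have := hmul a ha a⁻¹ (G0.inv_mem ha)
  rw [mul_inv_cancel, sg_one' hmul] at this
  exact (eq_inv_of_mul_eq_one_right this.symm)

/-- a map multiplicative on `G0` sending generators into `K` sends the generated group into `K` -/
theorem sg_closure_mem {Γ : Type*} [Group Γ] {G0 : Subgroup Γ} {sg : Γ → Γ}
    (hmul : ∀ a ∈ G0, ∀ b ∈ G0, sg (a * b) = sg a * sg b) {S : Set Γ} (hS : S ⊆ G0)
    {K : Subgroup Γ} (h : ∀ x ∈ S, sg x ∈ K) : ∀ x ∈ Subgroup.closure S, sg x ∈ K := by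
  have key : ∀ x ∈ Subgroup.closure S, x ∈ G0 ∧ sg x ∈ K := by
    intro x hx
    induction hx using Subgroup.closure_induction with
    | mem g hg => exact ⟨hS hg, h g hg⟩
    | one => exact ⟨G0.one_mem, by rw [sg_one' hmul]; exact K.one_mem⟩
    | mul a b _ _ iha ihb =>
      exact ⟨G0.mul_mem iha.1 ihb.1, by rw [hmul a iha.1 b ihb.1]; exact K.mul_mem iha.2 ihb.2⟩
    | inv a _ iha => exact ⟨G0.inv_mem iha.1, by rw [sg_inv' hmul iha.1]; exact K.inv_mem iha.2⟩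
  exact fun x hx => (key x hx).2

variable {D : ChevalleyDatum} {F : Type*} [Field F]

theorem wordU_nil'' (hB : BasicOK D) : wordU hB ([] : List (ℕ × F)) = 1 := by
  simp [wordU]

theorem wordU_cons'' (hB : BasicOK D) (p : ℕ × F) (w : List (ℕ × F)) :
    wordU hB (p :: w) = xU hB p.1 p.2 * wordU hB w := by
  simp [wordU]

theorem negUnipotent_le_group (Δ : BNData D F) : D.negUnipotent F ≤ D.group F := by
  unfold ChevalleyDatum.negUnipotent
  rw [Subgroup.closure_le]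
  rintro g ⟨r, t, hr, hg⟩
  have : g = xU Δ.hB r t := Units.ext (by rw [hg, xU_val])
  rw [this]
  exact xU_mem_group Δ.hB hr.1 t

theorem wordU_nWord (Δ : BNData D F) {r : ℕ} {c : F} (hc : c ≠ 0) :
    wordU Δ.hB (D.nWord r c) = nU Δ.hB r hc := by
  apply Units.ext
  rw [wordU_val, nU_val]
  rfl

/-- the hypothesis on the endomorphism -/
structure SigHyp (Δ : BNData D F) where
  sg : GL D.Idx F → GL D.Idx F
  ρ : ℕ → ℕ
  e : ℕ → ℕ
  sg_mul : ∀ a ∈ D.group F, ∀ b ∈ D.group F, sg (a * b) = sg a * sg b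
  sg_xU : ∀ r < D.nroots, ∀ t : F, sg (xU Δ.hB r t) = xU Δ.hB (ρ r) (t ^ e r)
  ρ_lt : ∀ r < D.nroots, ρ r < D.nroots
  ρ_pos : ∀ r < D.nroots, D.nroots / 2 ≤ r → D.nroots / 2 ≤ ρ r
  ρ_negs : ∀ r < D.nroots, r < D.nroots / 2 → ρ r < D.nroots / 2
  ρ_neg : ∀ r < D.nroots, ρ (D.neg r) = D.neg (ρ r)
  e_neg : ∀ r < D.nroots, e (D.neg r) = e r
  e_ne : ∀ r < D.nroots, e r ≠ 0
  neg_pow : ∀ r < D.nroots, (-1 : F) ^ e r = -1

namespace SigHyp

variable {Δ : BNData D F} (S : SigHyp Δ)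

theorem sg_one : S.sg 1 = 1 := sg_one' S.sg_mul

theorem sg_wordU (w : List (ℕ × F)) (hw : ∀ p ∈ w, p.1 < D.nroots) :
    S.sg (wordU Δ.hB w) = wordU Δ.hB (w.map fun p => (S.ρ p.1, p.2 ^ S.e p.1)) := by
  induction w with
  | nil => simp only [List.map_nil, wordU_nil'']; exact S.sg_one
  | cons p w ih =>
    have hp := hw p List.mem_cons_self
    have hw' : ∀ q ∈ w, q.1 < D.nroots := fun q hq => hw q (List.mem_cons_of_mem _ hq)
    rw [wordU_cons'', List.map_cons, wordU_cons'', S.sg_mul _ (xU_mem_group Δ.hB hp _) _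
      (wordU_mem_group Δ.hB w hw'), S.sg_xU _ hp, ih hw']

theorem sgU : ∀ u ∈ D.posUnipotent F, S.sg u ∈ D.posUnipotent F := by
  unfold ChevalleyDatum.posUnipotent
  apply sg_closure_mem S.sg_mul
  · rintro g ⟨r, t, hr, hg⟩
    have : g = xU Δ.hB r t := Units.ext (by rw [hg, xU_val])
    rw [this]
    exact xU_mem_group Δ.hB hr.1 t
  · rintro g ⟨r, t, hr, hg⟩
    have : g = xU Δ.hB r t := Units.ext (by rw [hg, xU_val])
    rw [this, S.sg_xU r hr.1]
    apply Subgroup.subset_closure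
    refine ⟨_, _, ?_, rfl⟩
    exact ((Δ.hsign _ (S.ρ_lt r hr.1)).1).2 (S.ρ_pos r hr.1 (((Δ.hsign r hr.1).1).1 hr))

theorem sgV : ∀ u ∈ D.negUnipotent F, S.sg u ∈ D.negUnipotent F := by
  unfold ChevalleyDatum.negUnipotent
  apply sg_closure_mem S.sg_mul
  · rintro g ⟨r, t, hr, hg⟩
    have : g = xU Δ.hB r t := Units.ext (by rw [hg, xU_val])
    rw [this]
    exact xU_mem_group Δ.hB hr.1 t
  · rintro g ⟨r, t, hr, hg⟩
    have : g = xU Δ.hB r t := Units.ext (by rw [hg, xU_val])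
    rw [this, S.sg_xU r hr.1]
    apply Subgroup.subset_closure
    refine ⟨_, _, ?_, rfl⟩
    exact ((Δ.hsign _ (S.ρ_lt r hr.1)).2).2 (S.ρ_negs r hr.1 (((Δ.hsign r hr.1).2).1 hr))

theorem pow_ne_zero' {r : ℕ} {t : F} (ht : t ≠ 0) : t ^ S.e r ≠ 0 := pow_ne_zero _ ht

/-- `sg (n_r(t)) = n_{ρ r}(t ^ e r)` -/
theorem sg_nWord {r : ℕ} (hr : r < D.nroots) (t : F) :
    S.sg (wordU Δ.hB (D.nWord r t)) = wordU Δ.hB (D.nWord (S.ρ r) (t ^ S.e r)) := by
  have hnr := (Δ.hB.neg r hr).1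
  rw [S.sg_wordU]
  swap
  · intro p hp
    simp only [ChevalleyDatum.nWord, List.mem_cons, List.not_mem_nil, or_false] at hp
    rcases hp with rfl | rfl | rfl
    all_goals first | exact hr | exact hnr
  simp only [ChevalleyDatum.nWord, List.map_cons, List.map_nil, S.ρ_neg r hr, S.e_neg r hr]
  have : (-t⁻¹) ^ S.e r = -(t ^ S.e r)⁻¹ := by
    rw [neg_eq_neg_one_mul, mul_pow, S.neg_pow r hr, inv_pow, neg_one_mul]
  rw [this]

/-- `sg (h_r(t)) = h_{ρ r}(t ^ e r)` -/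
theorem sg_hWord {r : ℕ} (hr : r < D.nroots) (t : F) :
    S.sg (wordU Δ.hB (D.hWord r t)) = wordU Δ.hB (D.hWord (S.ρ r) (t ^ S.e r)) := by
  have hnr := (Δ.hB.neg r hr).1
  have h1 : ∀ c : F, wordU Δ.hB (D.nWord r c) ∈ D.group F := by
    intro c
    apply wordU_mem_group
    intro p hp
    simp only [ChevalleyDatum.nWord, List.mem_cons, List.not_mem_nil, or_false] at hp
    rcases hp with rfl | rfl | rfl
    all_goals first | exact hr | exact hnr
  unfold ChevalleyDatum.hWord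
  rw [wordU_append, wordU_append, S.sg_mul _ (h1 _) _ (h1 _), S.sg_nWord hr, S.sg_nWord hr,
    S.neg_pow r hr]

theorem sgH : ∀ h ∈ D.diagonalSubgroup F, S.sg h ∈ D.diagonalSubgroup F := by
  unfold ChevalleyDatum.diagonalSubgroup
  apply sg_closure_mem S.sg_mul
  · rintro g ⟨r, t, hr, ht, hg⟩
    exact mem_group_of_val_eq_wordMat Δ.hB _ (hWord_lt Δ.hB hr t) hg
  · rintro g ⟨r, t, hr, ht, hg⟩
    have hgr : g = wordU Δ.hB (D.hWord r t) := Units.ext (by rw [hg, wordU_val]; rfl)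
    rw [hgr, S.sg_hWord hr]
    exact hWordU_mem_diagonal Δ.hB (S.ρ_lt r hr) (pow_ne_zero _ ht)

/-- `sg (n_r(1)) = n_{ρ r}(1)` -/
theorem sg_nU_one {r : ℕ} (hr : r < D.nroots) :
    S.sg (nU Δ.hB r (one_ne_zero (α := F))) = nU Δ.hB (S.ρ r) (one_ne_zero (α := F)) := by
  rw [← wordU_nWord Δ, S.sg_nWord hr, one_pow, wordU_nWord Δ]

theorem sgN : ∀ n ∈ D.monomialSubgroup F, S.sg n ∈ D.monomialSubgroup F := by
  have hsup : D.monomialSubgroup F = Subgroup.closure ((D.diagonalSubgroup F : Set (GL D.Idx F)) ∪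
      {g | ∃ r : ℕ, r < D.nroots ∧ (g : Matrix D.Idx D.Idx F) = D.nMat F r 1}) := by
    unfold ChevalleyDatum.monomialSubgroup
    rw [Subgroup.closure_union, Subgroup.closure_eq]
  rw [hsup]
  apply sg_closure_mem S.sg_mul
  · rintro g (hg | ⟨r, hr, hg⟩)
    · exact diagonalSubgroup_le_group Δ.hB hg
    · have : g = nU Δ.hB r (one_ne_zero (α := F)) := Units.ext (by rw [hg, nU_val])
      rw [this]
      exact Δ.monomial_le_group (nU_one_mem_monomial Δ.hB hr)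
  · rintro g (hg | ⟨r, hr, hg⟩)
    · rw [← hsup]
      exact Δ.diag_le_monomial (S.sgH g hg)
    · have : g = nU Δ.hB r (one_ne_zero (α := F)) := Units.ext (by rw [hg, nU_val])
      rw [this, S.sg_nU_one hr, ← hsup]
      exact nU_one_mem_monomial Δ.hB (S.ρ_lt r hr)

/-- the abstract context of the Chevalley group with its endomorphism -/
def ctx : Ctx (GL D.Idx F) where
  G0 := D.group F
  U := D.posUnipotent F
  V := D.negUnipotent F
  H := D.diagonalSubgroup F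
  N := D.monomialSubgroup F
  sg := S.sg
  hU := posUnipotent_le_group Δ.hB
  hV := negUnipotent_le_group Δ
  hN := Δ.monomial_le_group
  hHN := Δ.diag_le_monomial
  sg_mul := S.sg_mul
  sgU := S.sgU
  sgV := S.sgV
  sgH := S.sgH
  sgN := S.sgN
  hUH := by
    intro x hx hx'
    have : x ∈ D.posUnipotent F ⊓ D.diagonalSubgroup F := ⟨hx, hx'⟩
    rwa [posUnipotent_inf_diagonal Δ.hB Δ.hH Δ.good, Subgroup.mem_bot] at this
  hHU := fun h hh u hu => Δ.diag_conj_posUnipotent hh hu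
  hNH := fun n hn h hh => Δ.conj_diag_mem hn hh
  hBV := by
    intro x hx hx'
    have : x ∈ D.borelSubgroup F ⊓ D.negUnipotent F := ⟨hx, hx'⟩
    rwa [borel_inf_negUnipotent Δ.hB Δ.hH Δ.good2, Subgroup.mem_bot] at this
  hBN := by
    intro x hx hx'
    rw [← Δ.inf_eq]
    exact ⟨hx, hx'⟩
  adec := by
    intro n hn u hu
    obtain ⟨a, ha, hna, c, hc, e⟩ := Δ.adec_of_mem hn u hu
    exact ⟨a, ha, hna, c, Δ.unegGen_le_posUnipotent n hc, Δ.conj_uneg_mem hc, e⟩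
  bru_un := by
    intro n hn n' hn' b hb b' hb' e
    let nG : ↥(D.group F) := ⟨n, Δ.monomial_le_group hn⟩
    let nG' : ↥(D.group F) := ⟨n', Δ.monomial_le_group hn'⟩
    have h2 : nG' ∈ C Δ.bnPair nG := Δ.mem_C_iff_val.2 ⟨b, hb, b', hb', e⟩
    have hC : C Δ.bnPair nG = C Δ.bnPair nG' := (C_eq_of_mem Δ.bnPair h2).symm
    have hH := bruhat_unique (Δ.mem_N_iff_val.2 hn) (Δ.mem_N_iff_val.2 hn') hC
    exact Δ.mem_H_iff_val.1 hH

theorem ctx_B : S.ctx.B = D.borelSubgroup F := rfl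

end SigHyp

end Cfsg.Agent.Helper11.FixBN
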