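import Mathlib
import Cfsg.Agent.Helper11.FixBNC
import Cfsg.Agent.Helper6.Chev.Cells

/-!
# Twisted data in a Chevalley group: the parabolic subgroups of `N`

The double coset property for the subgroups `N_J` of `N`, the reduction of the stability property
of the cosets of `N_J` to a check on the tables, and the description of `U_n` for `n` a word in the
fundamental reflections.
-/

set_option autoImplicit false
set_option linter.unusedSectionVars false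
set_option linter.unusedVariables false

namespace Cfsg.Agent.Helper11.FixBN

open Cfsg.Lie Cfsg.Agent.Helper6 Cfsg.Agent.Helper2.BN

variable {D : ChevalleyDatum} {F : Type*} [Field F] (Δ : BNData D F)

/-- the double coset property for one fundamental reflection, in terms of matrices -/
theorem simple_mul_mem {i : ℕ} (hi : i < D.rank) {n b : GL D.Idx F} (hn : n ∈ D.monomialSubgroup F)
    (hb : b ∈ D.borelSubgroup F) :
    ∃ m : GL D.Idx F, (m = nU Δ.hB (D.simple i) (one_ne_zero (α := F)) * n ∨ m = n) ∧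
      ∃ b₁ ∈ D.borelSubgroup F, ∃ b₂ ∈ D.borelSubgroup F,
        nU Δ.hB (D.simple i) (one_ne_zero (α := F)) * b * n = b₁ * m * b₂ := by
  have hsN : nU Δ.hB (D.simple i) (one_ne_zero (α := F)) ∈ D.monomialSubgroup F :=
    nU_one_mem_monomial Δ.hB (Δ.hAll i hi).hS.1
  let s : ↥(D.group F) := ⟨_, Δ.monomial_le_group hsN⟩
  let nG : ↥(D.group F) := ⟨n, Δ.monomial_le_group hn⟩
  let bG : ↥(D.group F) := ⟨b, Δ.borel_le_group hb⟩
  have hsS : s ∈ Δ.bnPair.S := ⟨i, hi, by rw [nU_val]⟩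
  have hnN : nG ∈ Δ.bnPair.N := Δ.mem_N_iff_val.2 hn
  have hbB : bG ∈ Δ.bnPair.B := Δ.mem_B_iff_val.2 hb
  rcases Δ.bnPair.mul_mem_union s hsS nG hnN bG hbB with h | h
  · have h' : s * bG * nG ∈ C Δ.bnPair (s * nG) := h
    obtain ⟨b₁, hb₁, b₂, hb₂, e⟩ := Δ.mem_C_iff_val.1 h'
    exact ⟨_, Or.inl rfl, b₁, hb₁, b₂, hb₂, e⟩
  · have h' : s * bG * nG ∈ C Δ.bnPair nG := h
    obtain ⟨b₁, hb₁, b₂, hb₂, e⟩ := Δ.mem_C_iff_val.1 h'
    exact ⟨_, Or.inr rfl, b₁, hb₁, b₂, hb₂, e⟩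

/-- the double coset property for words in the fundamental reflections of `J` -/
theorem nWr_mul_mem (J : List ℕ) : ∀ L : List ℕ, (∀ j ∈ L, j ∈ J ∧ j < D.rank) →
    ∀ n ∈ D.monomialSubgroup F, ∀ b ∈ D.borelSubgroup F,
    ∃ w ∈ Δ.Nsub J, ∃ b₁ ∈ D.borelSubgroup F, ∃ b₂ ∈ D.borelSubgroup F,
      nWr Δ.hB F L * b * n = b₁ * (w * n) * b₂ := by
  intro L
  induction L with
  | nil =>
    intro _ n hn b hb
    exact ⟨1, Subgroup.one_mem _, b, hb, 1, Subgroup.one_mem _, by simp [nWr]⟩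
  | cons j L ih =>
    intro hL n hn b hb
    obtain ⟨hjJ, hj⟩ := hL j List.mem_cons_self
    have hL' : ∀ k ∈ L, k ∈ J ∧ k < D.rank := fun k hk => hL k (List.mem_cons_of_mem _ hk)
    obtain ⟨m, hm, c₁, hc₁, c₂, hc₂, e⟩ := simple_mul_mem Δ hj hn hb
    have hsN : nU Δ.hB (D.simple j) (one_ne_zero (α := F)) ∈ D.monomialSubgroup F :=
      nU_one_mem_monomial Δ.hB (Δ.hAll j hj).hS.1
    have hmN : m ∈ D.monomialSubgroup F := by
      rcases hm with rfl | rfl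
      · exact Subgroup.mul_mem _ hsN hn
      · exact hn
    obtain ⟨w, hw, b₁, hb₁, b₂, hb₂, e2⟩ := ih hL' m hmN c₁ hc₁
    have e3 : nWr Δ.hB F (j :: L) * b * n = b₁ * (w * m) * (b₂ * c₂) := by
      have : nWr Δ.hB F (j :: L) * b * n =
          nWr Δ.hB F L * (nU Δ.hB (D.simple j) (one_ne_zero (α := F)) * b * n) := by
        simp only [nWr]; group
      rw [this, e]
      have : nWr Δ.hB F L * (c₁ * m * c₂) = nWr Δ.hB F L * c₁ * m * c₂ := by group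
      rw [this, e2]; group
    rcases hm with rfl | rfl
    · refine ⟨w * nU Δ.hB (D.simple j) (one_ne_zero (α := F)),
        Subgroup.mul_mem _ hw (Δ.nU_mem_Nsub hjJ hj), b₁, hb₁, b₂ * c₂,
        Subgroup.mul_mem _ hb₂ hc₂, ?_⟩
      rw [e3]; group
    · exact ⟨w, hw, b₁, hb₁, b₂ * c₂, Subgroup.mul_mem _ hb₂ hc₂, e3⟩

/-- membership in the inversion set of a word -/
theorem mem_invSet_nWr {L : List ℕ} (hL : ∀ j ∈ L, j < D.rank) {r : ℕ} :
    r ∈ invSet D F (nWr Δ.hB F L) ↔ D.IsPosRoot r ∧ D.IsNegRoot (wFr D L r) := by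
  rw [Δ.mem_invSet]
  constructor
  · rintro ⟨hp, h⟩
    refine ⟨hp, ?_⟩
    rcases Δ.pos_or_neg (Δ.wFr_lt hL hp.1) with h1 | h1
    · exfalso
      have h2 := (Δ.posAt_nWr_iff hL hp.1).2 h1
      exact Δ.not_pos_and_neg hp.1 (h2 1) (h 1)
    · exact h1
  · rintro ⟨hp, hn⟩
    refine ⟨hp, fun t => ?_⟩
    obtain ⟨c, _, hc⟩ := Δ.nWr_conj hL hp.1
    rw [hc]
    exact Δ.xU_neg_mem hn _

variable {Δ} (S : SigHyp Δ)

/-- `U_n` of the context is the group generated by the root subgroups of the inversion set -/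
theorem Un_eq_closure {n : GL D.Idx F} (hn : n ∈ D.monomialSubgroup F) :
    S.ctx.Un n = Subgroup.closure (UnegGen D F n) := by
  apply le_antisymm
  · intro c hc
    obtain ⟨h1, h2⟩ := S.ctx.mem_Un.1 hc
    exact Δ.mem_uneg_of_conj_mem hn h1 h2
  · intro c hc
    exact S.ctx.mem_Un.2 ⟨Δ.unegGen_le_posUnipotent n hc, Δ.conj_uneg_mem hc⟩

/-- a property of the generators of `U_n`, `n` a word, extends to `U_n` -/
theorem Un_nWr_le {L : List ℕ} (hL : ∀ j ∈ L, j < D.rank) (K : Subgroup (GL D.Idx F))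
    (h : ∀ r, D.IsPosRoot r → D.IsNegRoot (wFr D L r) → ∀ t : F, xU Δ.hB r t ∈ K) :
    S.ctx.Un (nWr Δ.hB F L) ≤ K := by
  rw [Un_eq_closure S (Δ.nWr_mem_monomial hL), Subgroup.closure_le]
  intro x hx
  obtain ⟨r, hr, t, rfl⟩ := Δ.mem_unegGen_iff'.1 hx
  obtain ⟨h1, h2⟩ := (mem_invSet_nWr Δ hL).1 hr
  exact h r h1 h2 t

/-- the action of the endomorphism on the fundamental reflections -/
structure SimpleHyp (S : SigHyp Δ) (ρs : ℕ → ℕ) : Prop where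
  lt : ∀ j < D.rank, ρs j < D.rank
  eq : ∀ j < D.rank, S.ρ (D.simple j) = D.simple (ρs j)

theorem sg_nWr {ρs : ℕ → ℕ} (hρ : SimpleHyp S ρs) : ∀ L : List ℕ, (∀ j ∈ L, j < D.rank) →
    S.sg (nWr Δ.hB F L) = nWr Δ.hB F (L.map ρs) := by
  intro L
  induction L with
  | nil => intro _; simp only [nWr, List.map_nil]; exact S.sg_one
  | cons j L ih =>
    intro hL
    have hj := hL j List.mem_cons_self
    have hL' : ∀ k ∈ L, k < D.rank := fun k hk => hL k (List.mem_cons_of_mem _ hk)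
    have hp := (Δ.hAll j hj).hS.1
    simp only [nWr, List.map_cons]
    rw [S.sg_mul _ (Δ.monomial_le_group (Δ.nWr_mem_monomial hL')) _
      (Δ.monomial_le_group (nU_one_mem_monomial Δ.hB hp)), ih hL', S.sg_nU_one hp, hρ.eq j hj]

/-- the table check behind the stability property of the cosets of `N_J` -/
def P2Check (D : ChevalleyDatum) (ρs : ℕ → ℕ) (Lw : List ℕ) (reps : List (List ℕ)) : Prop :=
  ∀ L' ∈ reps, (∀ i < D.rank, D.IsPosRoot (wFr D (L'.map ρs ++ L'.reverse) (D.simple i))) →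
    (∀ i < D.rank, wFr D L' (D.simple i) = D.simple i) ∨
    (∀ i < D.rank, wFr D L' (D.simple i) = wFr D Lw (D.simple i))

/-- the list `reps` represents all the elements of `W_J` -/
def RepsOK (D : ChevalleyDatum) (J : List ℕ) (reps : List (List ℕ)) : Prop :=
  [] ∈ reps ∧ (∀ L' ∈ reps, ∀ j ∈ L', j ∈ J ∧ j < D.rank) ∧
  ∀ L' ∈ reps, ∀ j ∈ J, j < D.rank → ∃ L'' ∈ reps, ∀ r < D.nroots, wFr D (j :: L') r = wFr D L'' r

include Δ in
theorem exists_rep {J : List ℕ} {reps : List (List ℕ)} (hR : RepsOK D J reps) :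
    ∀ L : List ℕ, (∀ j ∈ L, j ∈ J ∧ j < D.rank) →
    ∃ L' ∈ reps, ∀ r < D.nroots, wFr D L r = wFr D L' r := by
  intro L
  induction L with
  | nil => intro _; exact ⟨[], hR.1, fun _ _ => rfl⟩
  | cons j L ih =>
    intro hL
    obtain ⟨hjJ, hj⟩ := hL j List.mem_cons_self
    obtain ⟨L₀, hL₀, h₀⟩ := ih (fun k hk => hL k (List.mem_cons_of_mem _ hk))
    obtain ⟨L'', hL'', h''⟩ := hR.2.2 L₀ hL₀ j hjJ hj
    refine ⟨L'', hL'', fun r hr => ?_⟩
    have hA := Δ.hAll j hj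
    have hlt : wR D (D.simple j) r < D.nroots := wR_lt Δ.hB hA.hS.1 hA.hR hr
    rw [← h'' r hr]
    exact h₀ _ hlt

/-- a word lying in `H` maps the fundamental roots to positive roots -/
theorem pos_of_nWr_mem_diag {M : List ℕ} (hM : ∀ j ∈ M, j < D.rank)
    (h : nWr Δ.hB F M ∈ D.diagonalSubgroup F) :
    ∀ i < D.rank, D.IsPosRoot (wFr D M (D.simple i)) := by
  intro i hi
  have hp := (Δ.hAll i hi).hS.1
  apply (Δ.posAt_nWr_iff hM hp).1
  intro t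
  exact Δ.diag_conj_posUnipotent h
    (Δ.xU_pos_mem ((Δ.hsign' _ hp).2 (Δ.hpN i hi)) t)

/-- the stability property of the cosets of `N_J` from the table check -/
theorem P2_of_check {J : List ℕ} {reps : List (List ℕ)} {ρs : ℕ → ℕ} {Lw : List ℕ}
    (hρ : SimpleHyp S ρs) (hR : RepsOK D J reps) (hLw : ∀ j ∈ Lw, j < D.rank)
    (hchk : P2Check D ρs Lw reps) :
    ∀ w ∈ Δ.Nsub J, w⁻¹ * S.sg w ∈ D.diagonalSubgroup F →
      w ∈ D.diagonalSubgroup F ∨ (nWr Δ.hB F Lw)⁻¹ * w ∈ D.diagonalSubgroup F := by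
  rintro w ⟨L, h, hh, hL, rfl⟩ hst
  have hLr : ∀ j ∈ L, j < D.rank := fun j hj => (hL j hj).2
  obtain ⟨L', hL', hact⟩ := exists_rep (Δ := Δ) hR L hL
  have hL'r : ∀ j ∈ L', j < D.rank := fun j hj => (hR.2.1 L' hL' j hj).2
  obtain ⟨d, hd, e⟩ := Δ.nWr_eq_mul_of_key hLr hL'r
    (fun m hm => hact _ (Δ.hAll m hm).hS.1)
  -- `w = nWr L' * h'`
  set h' := d * h with hh'
  have hh'H : h' ∈ D.diagonalSubgroup F := Subgroup.mul_mem _ hd hh
  have ew : nWr Δ.hB F L * h = nWr Δ.hB F L' * h' := by rw [e, hh']; group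
  rw [ew] at hst ⊢
  have hnL' := Δ.nWr_mem_monomial hL'r
  have hρL' : ∀ j ∈ L'.map ρs, j < D.rank := by
    intro j hj
    obtain ⟨k, hk, rfl⟩ := List.mem_map.1 hj
    exact hρ.lt k (hL'r k hk)
  have hnρ := Δ.nWr_mem_monomial (F := F) hρL'
  have hsg : S.sg (nWr Δ.hB F L' * h') = nWr Δ.hB F (L'.map ρs) * S.sg h' := by
    rw [S.sg_mul _ (Δ.monomial_le_group hnL') _ (diagonalSubgroup_le_group Δ.hB hh'H),
      sg_nWr S hρ L' hL'r]
  rw [hsg] at hst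
  -- `X = (nWr L')⁻¹ * nWr (ρ L') ∈ H`
  have hX : (nWr Δ.hB F L')⁻¹ * nWr Δ.hB F (L'.map ρs) ∈ D.diagonalSubgroup F := by
    have e1 : (nWr Δ.hB F L')⁻¹ * nWr Δ.hB F (L'.map ρs) =
        h' * ((nWr Δ.hB F L' * h')⁻¹ * (nWr Δ.hB F (L'.map ρs) * S.sg h')) * (S.sg h')⁻¹ := by
      group
    rw [e1]
    exact Subgroup.mul_mem _ (Subgroup.mul_mem _ hh'H hst) (Subgroup.inv_mem _ (S.sgH _ hh'H))
  obtain ⟨d₁, hd₁, e2⟩ := Δ.nWr_inv (F := F) hL'r
  have hM : ∀ j ∈ L'.map ρs ++ L'.reverse, j < D.rank := by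
    intro j hj
    rcases List.mem_append.1 hj with hj | hj
    · exact hρL' j hj
    · exact hL'r j (List.mem_reverse.1 hj)
  have hY : nWr Δ.hB F (L'.map ρs ++ L'.reverse) ∈ D.diagonalSubgroup F := by
    rw [nWr_append]
    have e3 : nWr Δ.hB F L'.reverse * nWr Δ.hB F (L'.map ρs) =
        (nWr Δ.hB F L')⁻¹ * nWr Δ.hB F (L'.map ρs) *
          ((nWr Δ.hB F (L'.map ρs))⁻¹ * d₁⁻¹ * nWr Δ.hB F (L'.map ρs)) := by
      rw [e2]; group
    rw [e3]
    exact Subgroup.mul_mem _ hX (Δ.conj_diag_mem' hnρ (Subgroup.inv_mem _ hd₁))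
  have hpos := pos_of_nWr_mem_diag (Δ := Δ) hM hY
  rcases hchk L' hL' hpos with hc | hc
  · left
    have := Δ.nWr_inv_mul_mem_of_key (F := F) (L := L') (L' := []) hL'r (by simp)
      (fun m hm => hc m hm)
    have e4 : (nWr Δ.hB F ([] : List ℕ))⁻¹ * nWr Δ.hB F L' = nWr Δ.hB F L' := by simp [nWr]
    rw [e4] at this
    exact Subgroup.mul_mem _ this hh'H
  · right
    have := Δ.nWr_inv_mul_mem_of_key (F := F) (L := L') (L' := Lw) hL'r hLw
      (fun m hm => hc m hm)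
    have e5 : (nWr Δ.hB F Lw)⁻¹ * (nWr Δ.hB F L' * h') =
        (nWr Δ.hB F Lw)⁻¹ * nWr Δ.hB F L' * h' := by group
    rw [e5]
    exact Subgroup.mul_mem _ this hh'H

/-- two words with `(nWr L₁)⁻¹ * nWr L₂ ∈ H` -/
theorem pos_of_inv_mul_mem {L₁ L₂ : List ℕ} (h₁ : ∀ j ∈ L₁, j < D.rank)
    (h₂ : ∀ j ∈ L₂, j < D.rank)
    (h : (nWr Δ.hB F L₁)⁻¹ * nWr Δ.hB F L₂ ∈ D.diagonalSubgroup F) :
    ∀ i < D.rank, D.IsPosRoot (wFr D (L₂ ++ L₁.reverse) (D.simple i)) := by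
  obtain ⟨d₁, hd₁, e2⟩ := Δ.nWr_inv (F := F) h₁
  have hM : ∀ j ∈ L₂ ++ L₁.reverse, j < D.rank := by
    intro j hj
    rcases List.mem_append.1 hj with hj | hj
    · exact h₂ j hj
    · exact h₁ j (List.mem_reverse.1 hj)
  apply pos_of_nWr_mem_diag (Δ := Δ) hM
  rw [nWr_append]
  have e3 : nWr Δ.hB F L₁.reverse * nWr Δ.hB F L₂ =
      (nWr Δ.hB F L₁)⁻¹ * nWr Δ.hB F L₂ *
        ((nWr Δ.hB F L₂)⁻¹ * d₁⁻¹ * nWr Δ.hB F L₂) := by
    rw [e2]; group
  rw [e3]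
  exact Subgroup.mul_mem _ h (Δ.conj_diag_mem' (Δ.nWr_mem_monomial h₂) (Subgroup.inv_mem _ hd₁))

end Cfsg.Agent.Helper11.FixBN
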