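import Mathlib
import Cfsg.Agent.Helper11.FixBND

/-!
# The chain step for words in the fundamental reflections
-/

set_option autoImplicit false
set_option linter.unusedSectionVars false
set_option linter.unusedVariables false

namespace Cfsg.Agent.Helper11.FixBN

open Cfsg.Lie Cfsg.Agent.Helper6 Cfsg.Agent.Helper2.BN

variable {D : ChevalleyDatum} {F : Type*} [Field F] {Δ : BNData D F} (S : SigHyp Δ)

/-- the two hypotheses of the factorisation `U_{ms} = s⁻¹ U_m s · U_s` from the tables -/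
theorem chain_hyps {Lm Ls : List ℕ} (hLm : ∀ j ∈ Lm, j < D.rank) (hLs : ∀ j ∈ Ls, j < D.rank)
    (c1 : ∀ r, D.IsPosRoot r → D.IsNegRoot (wFr D Ls r) → D.IsNegRoot (wFr D (Ls ++ Lm) r))
    (c2 : ∀ r, D.IsPosRoot r → D.IsNegRoot (wFr D Lm r) → D.IsPosRoot (wFr D Ls.reverse r)) :
    (∀ c ∈ S.ctx.Un (nWr Δ.hB F Ls),
      nWr Δ.hB F Lm * (nWr Δ.hB F Ls * c * (nWr Δ.hB F Ls)⁻¹) * (nWr Δ.hB F Lm)⁻¹ ∈
        D.negUnipotent F) ∧
    (∀ a ∈ S.ctx.Un (nWr Δ.hB F Lm),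
      (nWr Δ.hB F Ls)⁻¹ * a * nWr Δ.hB F Ls ∈ D.posUnipotent F) := by
  have hLsm : ∀ j ∈ Ls ++ Lm, j < D.rank := by
    intro j hj
    rcases List.mem_append.1 hj with h | h
    · exact hLs j h
    · exact hLm j h
  constructor
  · intro c hc
    have hle := Un_nWr_le S hLs
      ((D.negUnipotent F).comap (MulAut.conj (nWr Δ.hB F (Ls ++ Lm))).toMonoidHom) (by
        intro r hp hn t
        rw [Subgroup.mem_comap]
        change nWr Δ.hB F (Ls ++ Lm) * xU Δ.hB r t * (nWr Δ.hB F (Ls ++ Lm))⁻¹ ∈ _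
        obtain ⟨c', _, hc'⟩ := Δ.nWr_conj hLsm hp.1
        rw [hc']
        exact Δ.xU_neg_mem (c1 r hp hn) _)
    have := hle hc
    rw [Subgroup.mem_comap] at this
    change nWr Δ.hB F (Ls ++ Lm) * c * (nWr Δ.hB F (Ls ++ Lm))⁻¹ ∈ _ at this
    rw [nWr_append] at this
    have e : nWr Δ.hB F Lm * (nWr Δ.hB F Ls * c * (nWr Δ.hB F Ls)⁻¹) * (nWr Δ.hB F Lm)⁻¹ =
        nWr Δ.hB F Lm * nWr Δ.hB F Ls * c * (nWr Δ.hB F Lm * nWr Δ.hB F Ls)⁻¹ := by group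
    rw [e]; exact this
  · intro a ha
    obtain ⟨d, hd, e⟩ := Δ.nWr_inv (F := F) hLs
    have hLsr : ∀ j ∈ Ls.reverse, j < D.rank := fun j hj => hLs j (List.mem_reverse.1 hj)
    have hle := Un_nWr_le S hLm
      ((D.posUnipotent F).comap (MulAut.conj (nWr Δ.hB F Ls)⁻¹).toMonoidHom) (by
        intro r hp hn t
        rw [Subgroup.mem_comap]
        change (nWr Δ.hB F Ls)⁻¹ * xU Δ.hB r t * (nWr Δ.hB F Ls)⁻¹⁻¹ ∈ _
        rw [e]
        obtain ⟨c₀, hc₀⟩ := Δ.diag_conj_xU hd hp.1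
        obtain ⟨c', _, hc'⟩ := Δ.nWr_conj (F := F) hLsr hp.1
        have e2 : nWr Δ.hB F Ls.reverse * d * xU Δ.hB r t * (nWr Δ.hB F Ls.reverse * d)⁻¹ =
            nWr Δ.hB F Ls.reverse * (d * xU Δ.hB r t * d⁻¹) * (nWr Δ.hB F Ls.reverse)⁻¹ := by
          group
        rw [e2, hc₀, hc']
        exact Δ.xU_pos_mem (c2 r hp hn) _)
    have := hle ha
    rw [Subgroup.mem_comap] at this
    change (nWr Δ.hB F Ls)⁻¹ * a * (nWr Δ.hB F Ls)⁻¹⁻¹ ∈ _ at this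
    rwa [inv_inv] at this

/-- the chain step -/
theorem chain_step {Lm Ls : List ℕ} (hLm : ∀ j ∈ Lm, j < D.rank) (hLs : ∀ j ∈ Ls, j < D.rank)
    (hmf : S.sg (nWr Δ.hB F Lm) = nWr Δ.hB F Lm) (hsf : S.sg (nWr Δ.hB F Ls) = nWr Δ.hB F Ls)
    (c1 : ∀ r, D.IsPosRoot r → D.IsNegRoot (wFr D Ls r) → D.IsNegRoot (wFr D (Ls ++ Lm) r))
    (c2 : ∀ r, D.IsPosRoot r → D.IsNegRoot (wFr D Lm r) → D.IsPosRoot (wFr D Ls.reverse r)) :
    Nat.card (S.ctx.FixUn (nWr Δ.hB F (Ls ++ Lm))) =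
      Nat.card (S.ctx.FixUn (nWr Δ.hB F Lm)) * Nat.card (S.ctx.FixUn (nWr Δ.hB F Ls)) ∧
    ∀ G : Subgroup (GL D.Idx F), nWr Δ.hB F Ls ∈ G →
      S.ctx.FixUn (nWr Δ.hB F Lm) ⊆ G → S.ctx.FixUn (nWr Δ.hB F Ls) ⊆ G →
      S.ctx.FixUn (nWr Δ.hB F (Ls ++ Lm)) ⊆ G := by
  obtain ⟨h1, h2⟩ := chain_hyps S hLm hLs c1 c2
  have hm : nWr Δ.hB F Lm ∈ S.ctx.N := Δ.nWr_mem_monomial hLm
  have hs : nWr Δ.hB F Ls ∈ S.ctx.N := Δ.nWr_mem_monomial hLs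
  rw [nWr_append]
  exact ⟨S.ctx.card_FixUn_mul hm hs h1 h2 hmf hsf,
    fun G hG hmG hsG => S.ctx.FixUn_mul_subset hm hs h1 h2 hmf hsf G hG hmG hsG⟩

/-- `U_1` is trivial -/
theorem FixUn_one : S.ctx.FixUn (1 : GL D.Idx F) = {1} := by
  ext c
  constructor
  · rintro ⟨hc, _⟩
    obtain ⟨h1, h2⟩ := S.ctx.mem_Un.1 hc
    have : c ∈ S.ctx.V := by simpa using h2
    exact S.ctx.U_inf_V h1 this
  · intro hc
    have hc' : c = 1 := hc
    subst hc'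
    exact ⟨Subgroup.one_mem _, S.sg_one⟩

/-- `U_n = U` for the longest element -/
theorem Un_top {L : List ℕ} (hL : ∀ j ∈ L, j < D.rank)
    (h : ∀ r, D.IsPosRoot r → D.IsNegRoot (wFr D L r)) :
    S.ctx.Un (nWr Δ.hB F L) = D.posUnipotent F := by
  apply S.ctx.Un_of_conj_mem_V
  intro u hu
  have hle : D.posUnipotent F ≤
      (D.negUnipotent F).comap (MulAut.conj (nWr Δ.hB F L)).toMonoidHom := by
    unfold ChevalleyDatum.posUnipotent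
    rw [Subgroup.closure_le]
    rintro g ⟨r, t, hr, hg⟩
    have hgr : g = xU Δ.hB r t := Units.ext (by rw [hg, xU_val])
    rw [hgr, SetLike.mem_coe, Subgroup.mem_comap]
    change nWr Δ.hB F L * xU Δ.hB r t * (nWr Δ.hB F L)⁻¹ ∈ _
    obtain ⟨c', _, hc'⟩ := Δ.nWr_conj hL hr.1
    rw [hc']
    exact Δ.xU_neg_mem (h r hr) _
  have := hle hu
  rw [Subgroup.mem_comap] at this
  exact this

end Cfsg.Agent.Helper11.FixBN
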