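import Mathlib
import Cfsg.Agent.Helper11.FixBND
import Cfsg.Agent.Helper11.ChevEval
import Cfsg.Agent.Helper11.TwUProd
import Cfsg.Agent.Helper6.Chev.TablesBN

/-!
# Tables for the twisted group `²F₄`

The permutation of the roots of `F₄` induced by the exceptional graph automorphism, the words of the
two fundamental reflections of the twisted Weyl group, and the kernel-checked certificates.
-/

set_option autoImplicit false

namespace Cfsg.Agent.Helper11.TwF4

open Cfsg.Lie Cfsg.Agent.Helper6 Cfsg.Agent.Helper11.FixBN Cfsg.Agent.Helper11.ChevEval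
  Cfsg.Agent.Helper11.TwUProd

theorem tabF4 : IsTabulated chevF4 := by
  simp [IsTabulated]

/-- the permutation of the roots -/
def rhoL : List ℕ := [3, 7, 8, 0, 9, 11, 18, 1, 2, 4, 15, 5, 16, 21, 23, 10, 12, 19, 6, 17, 22, 13,
  20, 14, 33, 27, 34, 25, 30, 41, 28, 35, 37, 24, 26, 31, 42, 32, 43, 45, 46, 29, 36, 38, 47, 39,
  40, 44]

/-- the permutation of the roots -/
def rhoF4 (r : ℕ) : ℕ := rhoL.getD r 0

/-- the short roots -/
def shortL : List ℕ := [3, 7, 8, 9, 10, 11, 12, 13, 14, 18, 19, 20, 27, 28, 29, 33, 34, 35, 36, 37,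
  38, 39, 40, 44]

/-- the exponents of the twisted endomorphism -/
def eF4 (θ : ℕ) (r : ℕ) : ℕ := if r ∈ shortL then 2 * θ else θ

/-- the permutation of the fundamental roots -/
def rhos (j : ℕ) : ℕ := 3 - j

theorem rho_lt : ∀ r < chevF4.nroots, rhoF4 r < chevF4.nroots := by decide +kernel

theorem rho_pos : ∀ r < chevF4.nroots, chevF4.nroots / 2 ≤ r → chevF4.nroots / 2 ≤ rhoF4 r := by
  decide +kernel

theorem rho_negs : ∀ r < chevF4.nroots, r < chevF4.nroots / 2 → rhoF4 r < chevF4.nroots / 2 := by
  decide +kernel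

theorem rho_neg : ∀ r < chevF4.nroots, rhoF4 (chevF4.neg r) = chevF4.neg (rhoF4 r) := by
  decide +kernel

theorem short_neg : ∀ r < chevF4.nroots, (chevF4.neg r ∈ shortL ↔ r ∈ shortL) := by decide +kernel

theorem rho_short : ∀ r < chevF4.nroots, (rhoF4 r ∈ shortL ↔ r ∉ shortL) := by decide +kernel

theorem rho_rho : ∀ r < chevF4.nroots, rhoF4 (rhoF4 r) = r := by decide +kernel

theorem rho_simple : ∀ j < chevF4.rank, rhos j < chevF4.rank ∧
    rhoF4 (chevF4.simple j) = chevF4.simple (rhos j) := by decide +kernel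

/-! ### The two orbits of fundamental roots -/

/-- the orbits -/
def orbJ : Fin 2 → List ℕ := ![[0, 3], [1, 2]]

/-- the words of the longest elements -/
def orbW : Fin 2 → List ℕ := ![[3, 0], [2, 1, 2, 1]]

/-- representatives of the elements of the Weyl groups of the orbits -/
def orbReps : Fin 2 → List (List ℕ) :=
  ![[[], [0], [3], [0, 3]], [[], [1], [2], [1, 2], [2, 1], [1, 2, 1], [2, 1, 2], [1, 2, 1, 2]]]

instance (D : ChevalleyDatum) (J : List ℕ) (reps : List (List ℕ)) : Decidable (RepsOK D J reps) := by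
  unfold RepsOK; infer_instance

instance (D : ChevalleyDatum) (ρs : ℕ → ℕ) (Lw : List ℕ) (reps : List (List ℕ)) :
    Decidable (P2Check D ρs Lw reps) := by
  unfold P2Check; infer_instance

set_option maxRecDepth 100000 in
theorem repsOK : ∀ a : Fin 2, RepsOK chevF4 (orbJ a) (orbReps a) := by decide +kernel

set_option maxRecDepth 100000 in
theorem p2Check : ∀ a : Fin 2, P2Check chevF4 rhos (orbW a) (orbReps a) := by decide +kernel

theorem orbW_lt : ∀ a : Fin 2, ∀ j ∈ orbW a, j ∈ orbJ a ∧ j < chevF4.rank := by decide +kernel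

/-- the inversion sets of the two longest elements -/
def orbInv : Fin 2 → List ℕ := ![[33, 24], [27, 25, 28, 30]]

set_option maxRecDepth 100000 in
theorem orbInv_spec : ∀ a : Fin 2, ∀ r < chevF4.nroots,
    (chevF4.IsPosRoot r ∧ chevF4.IsNegRoot (wFr chevF4 (orbW a) r) ↔ r ∈ orbInv a) := by
  decide +kernel

set_option maxRecDepth 100000 in
theorem orb_inj : ∀ a b : Fin 2,
    (∀ i < chevF4.rank, chevF4.IsPosRoot (wFr chevF4 (orbW b ++ (orbW a).reverse) (chevF4.simple i))) →
    a = b := by decide +kernel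

/-! ### The chain of the longest element -/

/-- the word of `(n_{J₀} n_{J₁})^k` -/
def chainW : ℕ → List ℕ
  | 0 => []
  | k + 1 => orbW 1 ++ (orbW 0 ++ chainW k)

set_option maxRecDepth 100000 in
/-- lengths add when `n_{J₀}` is appended -/
theorem chain_step0 : ∀ k < 4, ∀ r < chevF4.nroots, chevF4.IsPosRoot r →
    (chevF4.IsNegRoot (wFr chevF4 (orbW 0) r) →
      chevF4.IsNegRoot (wFr chevF4 (orbW 0 ++ chainW k) r)) ∧
    (chevF4.IsNegRoot (wFr chevF4 (chainW k) r) →
      chevF4.IsPosRoot (wFr chevF4 (orbW 0).reverse r)) := by decide +kernel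

set_option maxRecDepth 100000 in
/-- lengths add when `n_{J₁}` is appended -/
theorem chain_step1 : ∀ k < 4, ∀ r < chevF4.nroots, chevF4.IsPosRoot r →
    (chevF4.IsNegRoot (wFr chevF4 (orbW 1) r) →
      chevF4.IsNegRoot (wFr chevF4 (orbW 1 ++ (orbW 0 ++ chainW k)) r)) ∧
    (chevF4.IsNegRoot (wFr chevF4 (orbW 0 ++ chainW k) r) →
      chevF4.IsPosRoot (wFr chevF4 (orbW 1).reverse r)) := by decide +kernel

set_option maxRecDepth 100000 in
theorem chain_top : ∀ r < chevF4.nroots, chevF4.IsPosRoot r →
    chevF4.IsNegRoot (wFr chevF4 (chainW 4) r) := by decide +kernel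

/-! ### The level function -/

/-- the packed level table -/
def lamPack_F4 : ℕ := 0x53000000500000004b00000047000000430000003e0000003b00000045000000410000003c000000390000003800000035000000300000002c0000003f0000003a0000003700000036000000330000002e000000320000002f0000002d00000027000000250000002200000026000000210000001e0000001d0000001a0000001500000028000000240000001f0000001c0000001b00000018000000130000000f0000001900000016000000110000000d000000090000000400000001

/-- the level function -/
def lam_F4 : ℕ → ℕ := lamOf lamPack_F4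

set_option maxRecDepth 100000 in
theorem lvlChk_F4 : lvlChkL chevF4 lam_F4 42 (chevF4.nroots / 2) = true := by decide +kernel

set_option maxRecDepth 100000 in
theorem bndChk_F4 : bndChk chevF4 lam_F4 85 = true := by decide +kernel

set_option maxRecDepth 100000 in
theorem witChk_F4 : witChk chevF4 lam_F4 42 (chevF4.nroots / 2) = true := by decide +kernel

theorem orbInv_sorted : ∀ a : Fin 2, (orbInv a).Pairwise (fun x y => lam_F4 x < lam_F4 y) := by
  decide +kernel

theorem orbInv_pos : ∀ a : Fin 2, ∀ r ∈ orbInv a, chevF4.nroots / 2 ≤ r ∧ r < chevF4.nroots := by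
  decide +kernel

/-! ### Word identities over the prime field -/

/-- the word of `n_L` with integer coefficients -/
def nWrWord (D : ChevalleyDatum) : List ℕ → List (ℕ × ℤ)
  | [] => []
  | j :: L => nWrWord D L ++ [(D.simple j, 1), (D.neg (D.simple j), -1), (D.simple j, 1)]

/-- the word `u v u` for the orbit `{p₁, p₄}` -/
def uvu0 : List (ℕ × ℤ) := [(33, 1), (24, 1), (14, 1), (23, 1), (33, 1), (24, 1)]

/-- the word `u(0,1) v(1,1) u(1,0)` for the orbit `{p₂, p₃}` -/
def uvu1 : List (ℕ × ℤ) := [(27, 0), (25, 0), (28, 1), (30, 1), (20, 1), (22, 1), (19, 2), (17, 1),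
  (27, 1), (25, 1), (28, 1), (30, 0)]

set_option maxRecDepth 100000 in
theorem uvu0_check : checkW chevF4 2 uvu0 (nWrWord chevF4 (orbW 0)) = true := by decide +kernel

set_option maxRecDepth 100000 in
theorem uvu1_check : checkW chevF4 2 uvu1 (nWrWord chevF4 (orbW 1)) = true := by decide +kernel

end Cfsg.Agent.Helper11.TwF4
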