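import Mathlib
import Cfsg.Agent.Helper11.TwF4Tables
import Cfsg.Prelude.Def_LieTwisted

/-!
# The twisted endomorphism of `F₄(K)` and the generators of `²F₄`

The hypothesis `Sig K θ`: a map `sg`, multiplicative on the Chevalley group `F₄(K)`, with
`sg (x_r(t)) = x_{ρ r}(t ^ e r)` (`e r = 2θ` for `r` short and `θ` for `r` long).  Its action on the
products over the two kinds of classes of roots, and the generators of `²F₄` as fixed points.
-/

set_option autoImplicit false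
set_option linter.unusedSectionVars false
set_option linter.unusedVariables false

namespace Cfsg.Agent.Helper11.TwF4

open Cfsg.Lie Cfsg.Agent.Helper6 Cfsg.Agent.Helper11.FixBN

variable {K : Type*} [Field K]

/-- the table facts of type `F₄` -/
theorem bnF4 : BNData chevF4 K := bnData_of_tabulated K tabF4

/-- the basic table facts of type `F₄` -/
theorem hBF4 : BasicOK chevF4 := basicOK_of_tabulated tabF4

/-- the hypothesis: a twisted endomorphism of `F₄(K)` -/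
structure Sig (K : Type*) [Field K] (θ : ℕ) where
  sg : GL chevF4.Idx K → GL chevF4.Idx K
  sg_mul : ∀ a ∈ chevF4.group K, ∀ b ∈ chevF4.group K, sg (a * b) = sg a * sg b
  sg_xU : ∀ r < chevF4.nroots, ∀ t : K, sg (xU hBF4 r t) = xU hBF4 (rhoF4 r) (t ^ eF4 θ r)

theorem neg_one_eq_one [CharP K 2] : (-1 : K) = 1 := by
  have : (2 : K) = 0 := by
    have := CharP.cast_eq_zero K 2
    exact_mod_cast this
  linear_combination -this

/-- the hypothesis in the form used by the general theory -/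
def Sig.toHyp [CharP K 2] {θ : ℕ} (hθ : θ ≠ 0) (X : Sig K θ) : SigHyp (bnF4 (K := K)) where
  sg := X.sg
  ρ := rhoF4
  e := eF4 θ
  sg_mul := X.sg_mul
  sg_xU := X.sg_xU
  ρ_lt := rho_lt
  ρ_pos := rho_pos
  ρ_negs := rho_negs
  ρ_neg := rho_neg
  e_neg := by
    intro r hr
    unfold eF4
    by_cases h : r ∈ shortL
    · rw [if_pos h, if_pos ((short_neg r hr).2 h)]
    · rw [if_neg h, if_neg (fun h' => h ((short_neg r hr).1 h'))]
  e_ne := by
    intro r _
    unfold eF4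
    split_ifs <;> omega
  neg_pow := by
    intro r _
    rw [neg_one_eq_one, one_pow]

section basic

variable [CharP K 2] {θ : ℕ} (hθ : θ ≠ 0) (X : Sig K θ)

theorem toHyp_sg : (X.toHyp hθ).sg = X.sg := rfl

theorem simpleHyp : SimpleHyp (X.toHyp hθ) rhos :=
  ⟨fun j hj => (rho_simple j hj).1, fun j hj => (rho_simple j hj).2⟩

theorem eF4_short {r : ℕ} (h : r ∈ shortL) : eF4 θ r = 2 * θ := by
  unfold eF4; rw [if_pos h]

theorem eF4_long {r : ℕ} (h : r ∉ shortL) : eF4 θ r = θ := by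
  unfold eF4; rw [if_neg h]

end basic

/-! ### Classes of type `A₁ × A₁` -/

section pair

variable [CharP K 2] {θ : ℕ} (X : Sig K θ) (hfrob : ∀ t : K, t ^ (2 * θ * θ) = t)

/-- the data of a class `{r, r̄}`, `r` short, `r̄` long, orthogonal -/
structure PairCls (r rb : ℕ) : Prop where
  hr : r < chevF4.nroots
  hrb : rb < chevF4.nroots
  ρr : rhoF4 r = rb
  ρrb : rhoF4 rb = r
  sr : r ∈ shortL
  srb : rb ∉ shortL
  ne1 : rb ≠ r
  ne2 : rb ≠ chevF4.neg r
  comm : chevF4.commTerms r rb = []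

theorem pair_comm {r rb : ℕ} (h : PairCls r rb) (s t : K) :
    xU hBF4 rb t * xU hBF4 r s = xU hBF4 r s * xU hBF4 rb t := by
  have hc := (bnF4 (K := K)).hC r h.hr rb h.hrb h.ne1 h.ne2 s t
  apply Units.ext
  rw [Units.val_mul, Units.val_mul, xU_val, xU_val, hc]
  unfold ChevalleyDatum.commWord
  rw [h.comm]
  simp [ChevalleyDatum.wordMat]

include hfrob in
theorem frob_pow (t : K) : (t ^ θ) ^ (2 * θ) = t := by
  rw [← pow_mul, show θ * (2 * θ) = 2 * θ * θ by ring, hfrob]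

include hfrob in
theorem frob_pow' (t : K) : (t ^ (2 * θ)) ^ θ = t := by
  rw [← pow_mul, hfrob]

/-- the action on the product over a class -/
theorem sg_pair {r rb : ℕ} (h : PairCls r rb) (s t : K) :
    X.sg (xU hBF4 r s * xU hBF4 rb t) = xU hBF4 r (t ^ θ) * xU hBF4 rb (s ^ (2 * θ)) := by
  rw [X.sg_mul _ (xU_mem_group hBF4 h.hr _) _ (xU_mem_group hBF4 h.hrb _), X.sg_xU r h.hr,
    X.sg_xU rb h.hrb, h.ρr, h.ρrb, eF4_short h.sr, eF4_long h.srb, pair_comm h]

include hfrob in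
/-- the generators are fixed -/
theorem sg_pair_gen {r rb : ℕ} (h : PairCls r rb) (t : K) :
    X.sg (xU hBF4 r (t ^ θ) * xU hBF4 rb t) = xU hBF4 r (t ^ θ) * xU hBF4 rb t := by
  rw [sg_pair X h, frob_pow hfrob]

theorem pairCls_pos : PairCls f4p1 f4p4 := by
  refine ⟨?_, ?_, ?_, ?_, ?_, ?_, ?_, ?_, ?_⟩ <;> decide +kernel

theorem pairCls_neg : PairCls f4m1 f4m4 := by
  refine ⟨?_, ?_, ?_, ?_, ?_, ?_, ?_, ?_, ?_⟩ <;> decide +kernel

end pair

/-! ### Classes of type `B₂` -/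

section b2

variable [CharP K 2] {θ : ℕ} (X : Sig K θ) (hfrob : ∀ t : K, t ^ (2 * θ * θ) = t)

/-- the data of a class `{a, b, a + b, 2a + b}`, `a` short, `b` long -/
structure B2Cls (a b ab aab : ℕ) : Prop where
  ha : a < chevF4.nroots
  hb : b < chevF4.nroots
  hab : ab < chevF4.nroots
  haab : aab < chevF4.nroots
  ρa : rhoF4 a = b
  ρb : rhoF4 b = a
  ρab : rhoF4 ab = aab
  ρaab : rhoF4 aab = ab
  sa : a ∈ shortL
  sb : b ∉ shortL
  sab : ab ∈ shortL
  saab : aab ∉ shortL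
  ne1 : b ≠ a
  ne2 : b ≠ chevF4.neg a
  ne3 : aab ≠ ab
  ne4 : aab ≠ chevF4.neg ab
  comm1 : ∃ c c' : ℤ, chevF4.commTerms a b = [(ab, c, 1, 1), (aab, c', 2, 1)] ∧
    Odd c ∧ Odd c'
  comm2 : chevF4.commTerms ab aab = []

theorem cast_odd {c : ℤ} (hc : Odd c) : ((c : ℤ) : K) = 1 := by
  obtain ⟨k, rfl⟩ := hc
  have : (2 : K) = 0 := by
    have := CharP.cast_eq_zero K 2
    exact_mod_cast this
  push_cast
  rw [this, zero_mul, zero_add]

theorem b2_comm1 {a b ab aab : ℕ} (h : B2Cls a b ab aab) (s t : K) :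
    xU hBF4 b t * xU hBF4 a s =
      xU hBF4 a s * xU hBF4 b t * xU hBF4 ab (s * t) * xU hBF4 aab (s ^ 2 * t) := by
  have hc := (bnF4 (K := K)).hC a h.ha b h.hb h.ne1 h.ne2 s t
  obtain ⟨c, c', e, hc1, hc2⟩ := h.comm1
  apply Units.ext
  simp only [Units.val_mul, xU_val]
  rw [hc]
  unfold ChevalleyDatum.commWord
  rw [e]
  simp only [List.map_cons, List.map_nil, ChevalleyDatum.wordMat, List.prod_cons, List.prod_nil,
    mul_one, pow_one, cast_odd hc1, cast_odd hc2, one_mul]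
  have e1 : -s * t = s * t := by
    rw [neg_mul, neg_eq_neg_one_mul, neg_one_eq_one, one_mul]
  have e2 : (-s) ^ 2 = s ^ 2 := by ring
  rw [e1, e2]
  simp only [mul_assoc]

theorem b2_comm2 {a b ab aab : ℕ} (h : B2Cls a b ab aab) (u v : K) :
    xU hBF4 aab u * xU hBF4 ab v = xU hBF4 ab v * xU hBF4 aab u := by
  have hc := (bnF4 (K := K)).hC ab h.hab aab h.haab h.ne3 h.ne4 v u
  apply Units.ext
  rw [Units.val_mul, Units.val_mul, xU_val, xU_val, hc]
  unfold ChevalleyDatum.commWord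
  rw [h.comm2]
  simp [ChevalleyDatum.wordMat]

/-- the product over a class -/
def W4 (a b ab aab : ℕ) (t₁ t₂ t₃ t₄ : K) : GL chevF4.Idx K :=
  xU hBF4 a t₁ * xU hBF4 b t₂ * xU hBF4 ab t₃ * xU hBF4 aab t₄

/-- the action on the product over a class -/
theorem sg_W4 {a b ab aab : ℕ} (h : B2Cls a b ab aab) (t₁ t₂ t₃ t₄ : K) :
    X.sg (W4 a b ab aab t₁ t₂ t₃ t₄) =
      W4 a b ab aab (t₂ ^ θ) (t₁ ^ (2 * θ)) (t₂ ^ θ * t₁ ^ (2 * θ) + t₄ ^ θ)
        ((t₂ ^ θ) ^ 2 * t₁ ^ (2 * θ) + t₃ ^ (2 * θ)) := by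
  unfold W4
  have g1 := xU_mem_group (F := K) hBF4 h.ha t₁
  have g2 := xU_mem_group (F := K) hBF4 h.hb t₂
  have g3 := xU_mem_group (F := K) hBF4 h.hab t₃
  have g4 := xU_mem_group (F := K) hBF4 h.haab t₄
  rw [X.sg_mul _ (Subgroup.mul_mem _ (Subgroup.mul_mem _ g1 g2) g3) _ g4,
    X.sg_mul _ (Subgroup.mul_mem _ g1 g2) _ g3, X.sg_mul _ g1 _ g2,
    X.sg_xU a h.ha, X.sg_xU b h.hb, X.sg_xU ab h.hab, X.sg_xU aab h.haab,
    h.ρa, h.ρb, h.ρab, h.ρaab, eF4_short h.sa, eF4_long h.sb, eF4_short h.sab, eF4_long h.saab,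
    b2_comm1 h]
  rw [← xU_mul hBF4 ab, ← xU_mul hBF4 aab]
  have e := b2_comm2 (K := K) h (t₃ ^ (2 * θ)) (t₄ ^ θ)
  calc xU hBF4 a (t₂ ^ θ) * xU hBF4 b (t₁ ^ (2 * θ)) * xU hBF4 ab (t₂ ^ θ * t₁ ^ (2 * θ)) *
        xU hBF4 aab ((t₂ ^ θ) ^ 2 * t₁ ^ (2 * θ)) * xU hBF4 aab (t₃ ^ (2 * θ)) * xU hBF4 ab (t₄ ^ θ)
      = xU hBF4 a (t₂ ^ θ) * xU hBF4 b (t₁ ^ (2 * θ)) * xU hBF4 ab (t₂ ^ θ * t₁ ^ (2 * θ)) *
        xU hBF4 aab ((t₂ ^ θ) ^ 2 * t₁ ^ (2 * θ)) *
          (xU hBF4 aab (t₃ ^ (2 * θ)) * xU hBF4 ab (t₄ ^ θ)) := by group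
    _ = xU hBF4 a (t₂ ^ θ) * xU hBF4 b (t₁ ^ (2 * θ)) * xU hBF4 ab (t₂ ^ θ * t₁ ^ (2 * θ)) *
        (xU hBF4 aab ((t₂ ^ θ) ^ 2 * t₁ ^ (2 * θ)) * xU hBF4 ab (t₄ ^ θ)) *
          xU hBF4 aab (t₃ ^ (2 * θ)) := by rw [e]; group
    _ = _ := by rw [b2_comm2 h]; group

include hfrob in
/-- the generators are fixed -/
theorem sg_W4_gen (hadd : ∀ x y : K, (x + y) ^ (2 * θ) = x ^ (2 * θ) + y ^ (2 * θ))
    {a b ab aab : ℕ} (h : B2Cls a b ab aab) (t u : K) :
    X.sg (W4 a b ab aab (t ^ θ) t (t ^ (θ + 1) + u) (u ^ (2 * θ))) =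
      W4 a b ab aab (t ^ θ) t (t ^ (θ + 1) + u) (u ^ (2 * θ)) := by
  have h2 : (2 : K) = 0 := by
    have := CharP.cast_eq_zero K 2
    exact_mod_cast this
  rw [sg_W4 X h, frob_pow hfrob, frob_pow' hfrob]
  congr 1
  · congr 1
    rw [pow_succ]
  · have e1 : (t ^ (θ + 1)) ^ (2 * θ) = t * t ^ (2 * θ) := by
      rw [← pow_mul, show (θ + 1) * (2 * θ) = 2 * θ * θ + 2 * θ by ring, pow_add, hfrob]
    have e2 : (t ^ θ) ^ 2 = t ^ (2 * θ) := by rw [← pow_mul, mul_comm]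
    rw [hadd, e1, e2]
    linear_combination (t ^ (2 * θ) * t) * h2

theorem b2Cls_pos : B2Cls f4a f4b f4ab f4aab where
  ha := by decide
  hb := by decide
  hab := by decide
  haab := by decide
  ρa := by decide +kernel
  ρb := by decide +kernel
  ρab := by decide +kernel
  ρaab := by decide +kernel
  sa := by decide +kernel
  sb := by decide +kernel
  sab := by decide +kernel
  saab := by decide +kernel
  ne1 := by decide +kernel
  ne2 := by decide +kernel
  ne3 := by decide +kernel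
  ne4 := by decide +kernel
  comm1 := ⟨-1, -1, by decide +kernel, by decide, by decide⟩
  comm2 := by decide +kernel

theorem b2Cls_neg : B2Cls f4ma f4mb f4mab f4maab where
  ha := by decide
  hb := by decide
  hab := by decide
  haab := by decide
  ρa := by decide +kernel
  ρb := by decide +kernel
  ρab := by decide +kernel
  ρaab := by decide +kernel
  sa := by decide +kernel
  sb := by decide +kernel
  sab := by decide +kernel
  saab := by decide +kernel
  ne1 := by decide +kernel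
  ne2 := by decide +kernel
  ne3 := by decide +kernel
  ne4 := by decide +kernel
  comm1 := ⟨1, -1, by decide +kernel, by decide, by decide⟩
  comm2 := by decide +kernel

end b2

end Cfsg.Agent.Helper11.TwF4
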