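import Mathlib
import Cfsg.Agent.Helper11.TwF4A

/-!
# The group `²F₄` inside the group of fixed points, and the two fundamental reflections

The generators of `twistedF4 K θ` are fixed by the twisted endomorphism; the elements
`n_J = u v u` (products of three generators) are the words of the longest elements of the two orbits
of fundamental roots; the fixed points in the two simple classes are exactly the generators.
-/

set_option autoImplicit false
set_option linter.unusedSectionVars false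
set_option linter.unusedVariables false

namespace Cfsg.Agent.Helper11.TwF4

open Cfsg.Lie Cfsg.Agent.Helper6 Cfsg.Agent.Helper11.FixBN Cfsg.Agent.Helper11.ChevEval
  Cfsg.Agent.Helper11.TwUProd

variable {K : Type*} [Field K]

/-! ### Generators -/

/-- the generator of a class of type `A₁ × A₁` -/
def pairGen (θ : ℕ) (r rb : ℕ) (t : K) : GL chevF4.Idx K := xU hBF4 r (t ^ θ) * xU hBF4 rb t

/-- the generator of a class of type `B₂` -/
def b2Gen (θ : ℕ) (a b ab aab : ℕ) (t u : K) : GL chevF4.Idx K :=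
  W4 a b ab aab (t ^ θ) t (t ^ (θ + 1) + u) (u ^ (2 * θ))

theorem wordU_pairWord (θ r rb : ℕ) (t : K) :
    wordU hBF4 (f4PairWord θ r rb t) = pairGen θ r rb t := by
  simp [f4PairWord, pairGen, wordU]

theorem wordU_b2Word (θ a b ab aab : ℕ) (t u : K) :
    wordU hBF4 (b2ClassWord θ a b ab aab t u) = b2Gen θ a b ab aab t u := by
  simp [b2ClassWord, b2Gen, W4, wordU, mul_assoc]

theorem mem_twistedF4 {θ : ℕ} {w : List (ℕ × K)} (hw : w ∈ f4Words K θ) :
    wordU hBF4 w ∈ twistedF4 K θ :=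
  Subgroup.subset_closure ⟨w, hw, wordU_val hBF4 w⟩

theorem pairGen_pos_mem (θ : ℕ) (t : K) : pairGen θ f4p1 f4p4 t ∈ twistedF4 K θ := by
  rw [← wordU_pairWord]
  exact mem_twistedF4 (Or.inl ⟨t, Or.inl rfl⟩)

theorem pairGen_neg_mem (θ : ℕ) (t : K) : pairGen θ f4m1 f4m4 t ∈ twistedF4 K θ := by
  rw [← wordU_pairWord]
  exact mem_twistedF4 (Or.inl ⟨t, Or.inr rfl⟩)

theorem b2Gen_pos_mem (θ : ℕ) (t u : K) : b2Gen θ f4a f4b f4ab f4aab t u ∈ twistedF4 K θ := by
  rw [← wordU_b2Word]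
  exact mem_twistedF4 (Or.inr ⟨t, u, Or.inl rfl⟩)

theorem b2Gen_neg_mem (θ : ℕ) (t u : K) : b2Gen θ f4ma f4mb f4mab f4maab t u ∈ twistedF4 K θ := by
  rw [← wordU_b2Word]
  exact mem_twistedF4 (Or.inr ⟨t, u, Or.inr rfl⟩)

/-- a subgroup containing the four families of generators contains `²F₄` -/
theorem twistedF4_le {θ : ℕ} (S : Subgroup (GL chevF4.Idx K))
    (h1 : ∀ t : K, pairGen θ f4p1 f4p4 t ∈ S) (h2 : ∀ t : K, pairGen θ f4m1 f4m4 t ∈ S)
    (h3 : ∀ t u : K, b2Gen θ f4a f4b f4ab f4aab t u ∈ S)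
    (h4 : ∀ t u : K, b2Gen θ f4ma f4mb f4mab f4maab t u ∈ S) : twistedF4 K θ ≤ S := by
  unfold twistedF4 ChevalleyDatum.genSubgroup
  rw [Subgroup.closure_le]
  rintro g ⟨w, hw, hg⟩
  have hgw : g = wordU hBF4 w := Units.ext (by rw [hg, wordU_val])
  rw [hgw]
  rcases hw with ⟨t, rfl | rfl⟩ | ⟨t, u, rfl | rfl⟩
  · rw [wordU_pairWord]; exact h1 t
  · rw [wordU_pairWord]; exact h2 t
  · rw [wordU_b2Word]; exact h3 t u
  · rw [wordU_b2Word]; exact h4 t u

section fix

variable [CharP K 2] {θ : ℕ} (X : Sig K θ) (hfrob : ∀ t : K, t ^ (2 * θ * θ) = t)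
  (hadd : ∀ x y : K, (x + y) ^ (2 * θ) = x ^ (2 * θ) + y ^ (2 * θ))

/-- the group of fixed points in the Chevalley group -/
def fixSub : Subgroup (GL chevF4.Idx K) where
  carrier := {g | g ∈ chevF4.group K ∧ X.sg g = g}
  one_mem' := ⟨Subgroup.one_mem _, sg_one' X.sg_mul⟩
  mul_mem' := by
    rintro a b ⟨ha, hfa⟩ ⟨hb, hfb⟩
    exact ⟨Subgroup.mul_mem _ ha hb, by rw [X.sg_mul a ha b hb, hfa, hfb]⟩
  inv_mem' := by
    rintro a ⟨ha, hfa⟩
    exact ⟨Subgroup.inv_mem _ ha, by rw [sg_inv' X.sg_mul ha, hfa]⟩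

theorem pairGen_mem_group {r rb : ℕ} (h : PairCls r rb) (t : K) :
    pairGen θ r rb t ∈ chevF4.group K :=
  Subgroup.mul_mem _ (xU_mem_group hBF4 h.hr _) (xU_mem_group hBF4 h.hrb _)

theorem W4_mem_group {a b ab aab : ℕ} (h : B2Cls a b ab aab) (t₁ t₂ t₃ t₄ : K) :
    W4 a b ab aab t₁ t₂ t₃ t₄ ∈ chevF4.group K :=
  Subgroup.mul_mem _ (Subgroup.mul_mem _ (Subgroup.mul_mem _ (xU_mem_group hBF4 h.ha _)
    (xU_mem_group hBF4 h.hb _)) (xU_mem_group hBF4 h.hab _)) (xU_mem_group hBF4 h.haab _)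

include hfrob hadd in
/-- `²F₄` consists of fixed points -/
theorem twistedF4_le_fixSub : twistedF4 K θ ≤ fixSub X := by
  apply twistedF4_le
  · intro t
    exact ⟨pairGen_mem_group pairCls_pos t, sg_pair_gen X hfrob pairCls_pos t⟩
  · intro t
    exact ⟨pairGen_mem_group pairCls_neg t, sg_pair_gen X hfrob pairCls_neg t⟩
  · intro t u
    exact ⟨W4_mem_group b2Cls_pos _ _ _ _, sg_W4_gen X hfrob hadd b2Cls_pos t u⟩
  · intro t u
    exact ⟨W4_mem_group b2Cls_neg _ _ _ _, sg_W4_gen X hfrob hadd b2Cls_neg t u⟩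

end fix

/-! ### The fundamental reflections of the twisted group -/

theorem nWr_val (D : ChevalleyDatum) (F : Type*) [Field F] (hB : BasicOK D) (L : List ℕ) :
    ((nWr hB F L : GL D.Idx F) : Matrix D.Idx D.Idx F) =
      D.wordMat F ((nWrWord D L).map fun q => (q.1, ((q.2 : ℤ) : F))) := by
  induction L with
  | nil => simp [nWr, nWrWord, ChevalleyDatum.wordMat]
  | cons j L ih =>
    simp only [nWr, nWrWord, Units.val_mul, List.map_append, wordMat_append, ih, nU_val]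
    congr 1
    simp [ChevalleyDatum.nMat, ChevalleyDatum.nWord]

theorem nWrWord_lt (D : ChevalleyDatum) (hB : BasicOK D) (hs : ∀ j < D.rank, D.simple j < D.nroots)
    (L : List ℕ) (hL : ∀ j ∈ L, j < D.rank) : ∀ q ∈ nWrWord D L, q.1 < D.nroots := by
  induction L with
  | nil => intro q hq; simp [nWrWord] at hq
  | cons j L ih =>
    intro q hq
    have hj := hs j (hL j List.mem_cons_self)
    simp only [nWrWord, List.mem_append, List.mem_cons, List.not_mem_nil, or_false] at hq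
    rcases hq with hq | rfl | rfl | rfl
    · exact ih (fun k hk => hL k (List.mem_cons_of_mem _ hk)) q hq
    · exact hj
    · exact (hB.neg _ hj).1
    · exact hj

section refl

variable [CharP K 2]

theorem simple_lt : ∀ j < chevF4.rank, chevF4.simple j < chevF4.nroots := by decide

/-- a word with integer coefficients over `K` -/
def castW (w : List (ℕ × ℤ)) : List (ℕ × K) := w.map fun q => (q.1, ((q.2 : ℤ) : K))

theorem wordU_uvu0 : wordU hBF4 (castW (K := K) uvu0) = nWr hBF4 K (orbW 0) := by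
  apply Units.ext
  rw [wordU_val, nWr_val]
  refine wordMat_eq_of_check hBF4 (p := 2) ?_ ?_ uvu0_check
  · decide
  · exact nWrWord_lt chevF4 hBF4 simple_lt _ (fun j hj => (orbW_lt 0 j hj).2)

theorem wordU_uvu1 : wordU hBF4 (castW (K := K) uvu1) = nWr hBF4 K (orbW 1) := by
  apply Units.ext
  rw [wordU_val, nWr_val]
  refine wordMat_eq_of_check hBF4 (p := 2) ?_ ?_ uvu1_check
  · decide
  · exact nWrWord_lt chevF4 hBF4 simple_lt _ (fun j hj => (orbW_lt 1 j hj).2)

/-- the reflection of the orbit `{p₁, p₄}` as a product of generators -/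
theorem nJ0_eq {θ : ℕ} : nWr hBF4 K (orbW 0) =
    pairGen θ f4p1 f4p4 1 * pairGen θ f4m1 f4m4 1 * pairGen θ f4p1 f4p4 1 := by
  rw [← wordU_uvu0]
  simp [castW, uvu0, wordU, pairGen, f4p1, f4p4, f4m1, f4m4, mul_assoc]

/-- the reflection of the orbit `{p₂, p₃}` as a product of generators -/
theorem nJ1_eq {θ : ℕ} (hθ : θ ≠ 0) : nWr hBF4 K (orbW 1) =
    b2Gen θ f4a f4b f4ab f4aab 0 1 * b2Gen θ f4ma f4mb f4mab f4maab 1 1 *
      b2Gen θ f4a f4b f4ab f4aab 1 0 := by
  rw [← wordU_uvu1]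
  have h2 : (2 : K) = 1 + 1 := by norm_num
  have hθ2 : 2 * θ ≠ 0 := by omega
  simp [castW, uvu1, wordU, b2Gen, W4, f4a, f4b, f4ab, f4aab, f4ma, f4mb, f4mab, f4maab, mul_assoc,
    zero_pow hθ, zero_pow hθ2, h2]

/-- the reflections lie in `²F₄` -/
theorem nJ_mem {θ : ℕ} (hθ : θ ≠ 0) (a : Fin 2) : nWr hBF4 K (orbW a) ∈ twistedF4 K θ := by
  fin_cases a
  · change nWr hBF4 K (orbW 0) ∈ _
    rw [nJ0_eq (θ := θ)]
    exact Subgroup.mul_mem _ (Subgroup.mul_mem _ (pairGen_pos_mem θ 1) (pairGen_neg_mem θ 1))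
      (pairGen_pos_mem θ 1)
  · change nWr hBF4 K (orbW 1) ∈ _
    rw [nJ1_eq hθ]
    exact Subgroup.mul_mem _ (Subgroup.mul_mem _ (b2Gen_pos_mem θ 0 1) (b2Gen_neg_mem θ 1 1))
      (b2Gen_pos_mem θ 1 0)

end refl

end Cfsg.Agent.Helper11.TwF4
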