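import Mathlib
import Cfsg.Agent.Helper11.TwF4B

/-!
# The fixed points in the two simple classes of `²F₄`

The groups `U_{n_J}` for the two orbits `J` are parametrised by the ordered products over the roots of
the class; the fixed points of the twisted endomorphism are exactly the generators of `²F₄`.
-/

set_option autoImplicit false
set_option linter.unusedSectionVars false
set_option linter.unusedVariables false

namespace Cfsg.Agent.Helper11.TwF4

open Cfsg.Lie Cfsg.Agent.Helper6 Cfsg.Agent.Helper11.FixBN Cfsg.Agent.Helper11.ChevEval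
  Cfsg.Agent.Helper11.TwUProd

variable {K : Type*} [Field K]

theorem hFF4 : FastOK chevF4 := fastOK_of_tabulated tabF4

/-- uniqueness of the ordered product over a class -/
theorem word_unique (a : Fin 2) (t t' : ℕ → K)
    (h : wordU hBF4 ((orbInv a).map fun r => (r, t r)) =
      wordU hBF4 ((orbInv a).map fun r => (r, t' r))) : ∀ r ∈ orbInv a, t r = t' r :=
  word_uniqueL hBF4 hFF4 lvlChk_F4 bndChk_F4 (by norm_num) witChk_F4 (orbInv a) (orbInv_sorted a)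
    (orbInv_pos a) t t' h

/-- the coefficient function of a product over the class of type `B₂` -/
def tt4 (t₁ t₂ t₃ t₄ : K) : ℕ → K :=
  fun r => if r = 27 then t₁ else if r = 25 then t₂ else if r = 28 then t₃ else t₄

theorem wordU_tt4 (t₁ t₂ t₃ t₄ : K) :
    wordU hBF4 ((orbInv 1).map fun r => (r, tt4 t₁ t₂ t₃ t₄ r)) =
      W4 f4a f4b f4ab f4aab t₁ t₂ t₃ t₄ := by
  simp [orbInv, wordU, W4, tt4, f4a, f4b, f4ab, f4aab, mul_assoc]

theorem W4_inj {t₁ t₂ t₃ t₄ s₁ s₂ s₃ s₄ : K}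
    (h : W4 f4a f4b f4ab f4aab t₁ t₂ t₃ t₄ = W4 f4a f4b f4ab f4aab s₁ s₂ s₃ s₄) :
    t₁ = s₁ ∧ t₂ = s₂ ∧ t₃ = s₃ ∧ t₄ = s₄ := by
  rw [← wordU_tt4, ← wordU_tt4] at h
  have := word_unique 1 _ _ h
  refine ⟨?_, ?_, ?_, ?_⟩
  · simpa [tt4] using this 27 (by decide)
  · simpa [tt4] using this 25 (by decide)
  · simpa [tt4] using this 28 (by decide)
  · simpa [tt4] using this 30 (by decide)

/-- the coefficient function of a product over the class of type `A₁ × A₁` -/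
def tt2 (t₁ t₂ : K) : ℕ → K := fun r => if r = 33 then t₁ else t₂

theorem wordU_tt2 (t₁ t₂ : K) :
    wordU hBF4 ((orbInv 0).map fun r => (r, tt2 t₁ t₂ r)) =
      xU hBF4 f4p1 t₁ * xU hBF4 f4p4 t₂ := by
  simp [orbInv, wordU, tt2, f4p1, f4p4]

theorem W2_inj {t₁ t₂ s₁ s₂ : K}
    (h : xU hBF4 f4p1 t₁ * xU hBF4 f4p4 t₂ = xU hBF4 f4p1 s₁ * xU hBF4 f4p4 s₂) :
    t₁ = s₁ ∧ t₂ = s₂ := by
  rw [← wordU_tt2, ← wordU_tt2] at h
  have := word_unique 0 _ _ h
  refine ⟨?_, ?_⟩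
  · simpa [tt2] using this 33 (by decide)
  · simpa [tt2] using this 24 (by decide)

/-! ### The groups `U_{n_J}` -/

theorem invSet_orb (a : Fin 2) :
    invSet chevF4 K (nWr hBF4 K (orbW a)) = (orbInv a).toFinset := by
  ext r
  rw [mem_invSet_nWr bnF4 (fun j hj => (orbW_lt a j hj).2), List.mem_toFinset]
  by_cases hr : r < chevF4.nroots
  · exact orbInv_spec a r hr
  · constructor
    · rintro ⟨h, _⟩; exact absurd h.1 hr
    · intro h; exact absurd (orbInv_pos a r h).2 hr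

theorem xU_mem_uneg (a : Fin 2) {r : ℕ} (hr : r ∈ orbInv a) (t : K) :
    xU hBF4 r t ∈ Subgroup.closure (UnegGen chevF4 K (nWr hBF4 K (orbW a))) := by
  apply Subgroup.subset_closure
  rw [(bnF4 (K := K)).mem_unegGen_iff']
  exact ⟨r, by rw [invSet_orb, List.mem_toFinset]; exact hr, t, rfl⟩

theorem nJ_mem_monomial (a : Fin 2) : nWr hBF4 K (orbW a) ∈ chevF4.monomialSubgroup K :=
  (bnF4 (K := K)).nWr_mem_monomial (fun j hj => (orbW_lt a j hj).2)

section param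

variable [Fintype K]

theorem card_uneg_orb (a : Fin 2) :
    Nat.card (Subgroup.closure (UnegGen chevF4 K (nWr hBF4 K (orbW a)))) =
      Fintype.card K ^ (orbInv a).length := by
  rw [(bnF4 (K := K)).card_uneg (nJ_mem_monomial a), invSet_orb]
  congr 1
  fin_cases a <;> rfl

/-- every element of `U_{n_J}`, `J = {p₂, p₃}`, is a product over the class -/
theorem exists_W4 {c : GL chevF4.Idx K}
    (hc : c ∈ Subgroup.closure (UnegGen chevF4 K (nWr hBF4 K (orbW 1)))) :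
    ∃ t₁ t₂ t₃ t₄ : K, c = W4 f4a f4b f4ab f4aab t₁ t₂ t₃ t₄ := by
  let Q := Subgroup.closure (UnegGen chevF4 K (nWr hBF4 K (orbW 1)))
  have hmem : ∀ p : K × K × K × K, W4 f4a f4b f4ab f4aab p.1 p.2.1 p.2.2.1 p.2.2.2 ∈ Q := by
    intro p
    exact Subgroup.mul_mem _ (Subgroup.mul_mem _ (Subgroup.mul_mem _
      (xU_mem_uneg 1 (by decide) _) (xU_mem_uneg 1 (by decide) _)) (xU_mem_uneg 1 (by decide) _))
      (xU_mem_uneg 1 (by decide) _)
  let f : K × K × K × K → Q := fun p => ⟨_, hmem p⟩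
  have hinj : Function.Injective f := by
    rintro ⟨a₁, a₂, a₃, a₄⟩ ⟨b₁, b₂, b₃, b₄⟩ h
    have h' := congrArg Subtype.val h
    obtain ⟨rfl, rfl, rfl, rfl⟩ := W4_inj h'
    rfl
  have hcard : Nat.card Q ≤ Nat.card (K × K × K × K) := by
    rw [card_uneg_orb 1, Nat.card_prod, Nat.card_prod, Nat.card_prod, Nat.card_eq_fintype_card]
    apply le_of_eq
    change Fintype.card K ^ 4 = _
    ring
  have hbij := hinj.bijective_of_nat_card_le hcard
  obtain ⟨⟨t₁, t₂, t₃, t₄⟩, hp⟩ := hbij.2 ⟨c, hc⟩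
  exact ⟨t₁, t₂, t₃, t₄, (congrArg Subtype.val hp).symm⟩

/-- every element of `U_{n_J}`, `J = {p₁, p₄}`, is a product over the class -/
theorem exists_W2 {c : GL chevF4.Idx K}
    (hc : c ∈ Subgroup.closure (UnegGen chevF4 K (nWr hBF4 K (orbW 0)))) :
    ∃ t₁ t₂ : K, c = xU hBF4 f4p1 t₁ * xU hBF4 f4p4 t₂ := by
  let Q := Subgroup.closure (UnegGen chevF4 K (nWr hBF4 K (orbW 0)))
  have hmem : ∀ p : K × K, xU hBF4 f4p1 p.1 * xU hBF4 f4p4 p.2 ∈ Q := by
    intro p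
    exact Subgroup.mul_mem _ (xU_mem_uneg 0 (by decide) _) (xU_mem_uneg 0 (by decide) _)
  let f : K × K → Q := fun p => ⟨_, hmem p⟩
  have hinj : Function.Injective f := by
    rintro ⟨a₁, a₂⟩ ⟨b₁, b₂⟩ h
    have h' := congrArg Subtype.val h
    obtain ⟨rfl, rfl⟩ := W2_inj h'
    rfl
  have hcard : Nat.card Q ≤ Nat.card (K × K) := by
    rw [card_uneg_orb 0, Nat.card_prod, Nat.card_eq_fintype_card]
    apply le_of_eq
    change Fintype.card K ^ 2 = _
    ring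
  have hbij := hinj.bijective_of_nat_card_le hcard
  obtain ⟨⟨t₁, t₂⟩, hp⟩ := hbij.2 ⟨c, hc⟩
  exact ⟨t₁, t₂, (congrArg Subtype.val hp).symm⟩

end param

/-! ### Fixed points -/

section fixed

variable [Fintype K] [CharP K 2] {θ : ℕ} (hθ : θ ≠ 0) (X : Sig K θ)
  (hfrob : ∀ t : K, t ^ (2 * θ * θ) = t)
  (hadd : ∀ x y : K, (x + y) ^ (2 * θ) = x ^ (2 * θ) + y ^ (2 * θ))

/-- the abstract context -/
noncomputable abbrev ctxF4 : Ctx (GL chevF4.Idx K) := (X.toHyp hθ).ctx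

theorem Un_orb (a : Fin 2) : (ctxF4 hθ X).Un (nWr hBF4 K (orbW a)) =
    Subgroup.closure (UnegGen chevF4 K (nWr hBF4 K (orbW a))) :=
  Un_eq_closure (X.toHyp hθ) (nJ_mem_monomial a)

theorem b2Gen_mem_uneg (t u : K) : b2Gen θ f4a f4b f4ab f4aab t u ∈
    Subgroup.closure (UnegGen chevF4 K (nWr hBF4 K (orbW 1))) :=
  Subgroup.mul_mem _ (Subgroup.mul_mem _ (Subgroup.mul_mem _
    (xU_mem_uneg 1 (by decide) _) (xU_mem_uneg 1 (by decide) _)) (xU_mem_uneg 1 (by decide) _))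
    (xU_mem_uneg 1 (by decide) _)

theorem pairGen_mem_uneg (t : K) : pairGen θ f4p1 f4p4 t ∈
    Subgroup.closure (UnegGen chevF4 K (nWr hBF4 K (orbW 0))) :=
  Subgroup.mul_mem _ (xU_mem_uneg 0 (by decide) _) (xU_mem_uneg 0 (by decide) _)

include hfrob hadd in
/-- the fixed points in the class of type `B₂` are the generators -/
theorem mem_FixUn1 {c : GL chevF4.Idx K} :
    c ∈ (ctxF4 hθ X).FixUn (nWr hBF4 K (orbW 1)) ↔ ∃ t u : K, c = b2Gen θ f4a f4b f4ab f4aab t u := by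
  constructor
  · rintro ⟨hc, hf⟩
    rw [Un_orb] at hc
    obtain ⟨t₁, t₂, t₃, t₄, rfl⟩ := exists_W4 hc
    change X.sg _ = _ at hf
    rw [sg_W4 X b2Cls_pos] at hf
    obtain ⟨e1, e2, e3, e4⟩ := W4_inj hf
    refine ⟨t₂, t₄ ^ θ, ?_⟩
    unfold b2Gen
    have e5 : t₁ ^ (2 * θ) = t₂ := e2
    have e6 : t₂ ^ (θ + 1) + t₄ ^ θ = t₃ := by
      rw [← e3, e5, pow_succ]
    rw [e1, e6, frob_pow hfrob]
  · rintro ⟨t, u, rfl⟩
    refine ⟨?_, sg_W4_gen X hfrob hadd b2Cls_pos t u⟩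
    rw [Un_orb]
    exact b2Gen_mem_uneg t u

include hfrob in
/-- the fixed points in the class of type `A₁ × A₁` are the generators -/
theorem mem_FixUn0 {c : GL chevF4.Idx K} :
    c ∈ (ctxF4 hθ X).FixUn (nWr hBF4 K (orbW 0)) ↔ ∃ t : K, c = pairGen θ f4p1 f4p4 t := by
  constructor
  · rintro ⟨hc, hf⟩
    rw [Un_orb] at hc
    obtain ⟨t₁, t₂, rfl⟩ := exists_W2 hc
    change X.sg _ = _ at hf
    rw [sg_pair X pairCls_pos] at hf
    obtain ⟨e1, e2⟩ := W2_inj hf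
    refine ⟨t₂, ?_⟩
    unfold pairGen
    rw [e1]
  · rintro ⟨t, rfl⟩
    refine ⟨?_, sg_pair_gen X hfrob pairCls_pos t⟩
    rw [Un_orb]
    exact pairGen_mem_uneg t

include hfrob hadd in
theorem card_FixUn1 : Nat.card ((ctxF4 hθ X).FixUn (nWr hBF4 K (orbW 1))) = Fintype.card K ^ 2 := by
  have hmem : ∀ p : K × K, b2Gen θ f4a f4b f4ab f4aab p.1 p.2 ∈
      (ctxF4 hθ X).FixUn (nWr hBF4 K (orbW 1)) :=
    fun p => (mem_FixUn1 hθ X hfrob hadd).2 ⟨p.1, p.2, rfl⟩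
  let f : K × K → (ctxF4 hθ X).FixUn (nWr hBF4 K (orbW 1)) := fun p => ⟨_, hmem p⟩
  have hbij : Function.Bijective f := by
    constructor
    · rintro ⟨t, u⟩ ⟨t', u'⟩ h
      have h' := congrArg Subtype.val h
      obtain ⟨_, e2, e3, _⟩ := W4_inj h'
      have e2' : t = t' := e2
      subst e2'
      have e3' : t ^ (θ + 1) + u = t ^ (θ + 1) + u' := e3
      rw [add_left_cancel e3']
    · rintro ⟨c, hc⟩
      obtain ⟨t, u, rfl⟩ := (mem_FixUn1 hθ X hfrob hadd).1 hc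
      exact ⟨(t, u), rfl⟩
  rw [← Nat.card_congr (Equiv.ofBijective f hbij), Nat.card_prod, Nat.card_eq_fintype_card]
  ring

include hfrob in
theorem card_FixUn0 : Nat.card ((ctxF4 hθ X).FixUn (nWr hBF4 K (orbW 0))) = Fintype.card K := by
  have hmem : ∀ t : K, pairGen θ f4p1 f4p4 t ∈ (ctxF4 hθ X).FixUn (nWr hBF4 K (orbW 0)) :=
    fun t => (mem_FixUn0 hθ X hfrob).2 ⟨t, rfl⟩
  let f : K → (ctxF4 hθ X).FixUn (nWr hBF4 K (orbW 0)) := fun t => ⟨_, hmem t⟩
  have hbij : Function.Bijective f := by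
    constructor
    · intro t t' h
      have h' := congrArg Subtype.val h
      exact (W2_inj h').2
    · rintro ⟨c, hc⟩
      obtain ⟨t, rfl⟩ := (mem_FixUn0 hθ X hfrob).1 hc
      exact ⟨t, rfl⟩
  rw [← Nat.card_congr (Equiv.ofBijective f hbij), Nat.card_eq_fintype_card]

include hfrob hadd in
/-- the fixed points in the simple classes lie in `²F₄` -/
theorem FixUn_orb_subset (a : Fin 2) :
    (ctxF4 hθ X).FixUn (nWr hBF4 K (orbW a)) ⊆ (twistedF4 K θ : Set (GL chevF4.Idx K)) := by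
  intro c hc
  fin_cases a
  · obtain ⟨t, rfl⟩ := (mem_FixUn0 hθ X hfrob).1 hc
    exact pairGen_pos_mem θ t
  · obtain ⟨t, u, rfl⟩ := (mem_FixUn1 hθ X hfrob hadd).1 hc
    exact b2Gen_pos_mem θ t u

end fixed

end Cfsg.Agent.Helper11.TwF4
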