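import Mathlib
import Cfsg.Agent.Helper11.TwF4C
import Cfsg.Agent.Helper11.FixBNE

/-!
# The unipotent group and the `(B, N)`-pair of `²F₄`

The chain of the longest element gives `U ∩ ²F₄ = U^σ` of order `q¹²`; the twisted data are
assembled and the abstract theorem gives the `(B, N)`-pair.
-/

set_option autoImplicit false
set_option linter.unusedSectionVars false
set_option linter.unusedVariables false

namespace Cfsg.Agent.Helper11.TwF4

open Cfsg.Lie Cfsg.Agent.Helper6 Cfsg.Agent.Helper11.FixBN Cfsg.Agent.Helper11.ChevEval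
  Cfsg.Agent.Helper11.TwUProd

variable {K : Type*} [Field K]

set_option maxRecDepth 100000 in
theorem negGen_pos : (∀ r ∈ [f4m1, f4m4], chevF4.IsPosRoot (wFr chevF4 (orbW 0).reverse r)) ∧
    (∀ r ∈ [f4ma, f4mb, f4mab, f4maab], chevF4.IsPosRoot (wFr chevF4 (orbW 1).reverse r)) := by
  decide +kernel

/-- conjugation of a root element by the inverse of a word -/
theorem nWr_inv_conj_mem {L : List ℕ} (hL : ∀ j ∈ L, j < chevF4.rank) {r : ℕ}
    (hr : r < chevF4.nroots) (hp : chevF4.IsPosRoot (wFr chevF4 L.reverse r)) (t : K) :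
    (nWr hBF4 K L)⁻¹ * xU hBF4 r t * nWr hBF4 K L ∈ chevF4.posUnipotent K := by
  obtain ⟨d, hd, e⟩ := (bnF4 (K := K)).nWr_inv hL
  have hLr : ∀ j ∈ L.reverse, j < chevF4.rank := fun j hj => hL j (List.mem_reverse.1 hj)
  obtain ⟨c₀, hc₀⟩ := (bnF4 (K := K)).diag_conj_xU hd hr
  obtain ⟨c', _, hc'⟩ := (bnF4 (K := K)).nWr_conj hLr hr
  have e2 : (nWr hBF4 K L)⁻¹ * xU hBF4 r t * nWr hBF4 K L =
      nWr hBF4 K L.reverse * (d * xU hBF4 r t * d⁻¹) * (nWr hBF4 K L.reverse)⁻¹ := by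
    have : nWr hBF4 K L = ((nWr hBF4 K L)⁻¹)⁻¹ := (inv_inv _).symm
    rw [this, e]; group
  rw [e2, hc₀, hc']
  exact (bnF4 (K := K)).xU_pos_mem hp _

section main

variable [Fintype K] [CharP K 2] {θ : ℕ} (hθ : θ ≠ 0) (X : Sig K θ)
  (hfrob : ∀ t : K, t ^ (2 * θ * θ) = t)
  (hadd : ∀ x y : K, (x + y) ^ (2 * θ) = x ^ (2 * θ) + y ^ (2 * θ))

include hfrob hadd in
theorem sg_fixed {g : GL chevF4.Idx K} (hg : g ∈ twistedF4 K θ) : X.sg g = g :=
  (twistedF4_le_fixSub X hfrob hadd hg).2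

include hθ hfrob hadd in
theorem nJ_fixed (a : Fin 2) : X.sg (nWr hBF4 K (orbW a)) = nWr hBF4 K (orbW a) :=
  sg_fixed X hfrob hadd (nJ_mem hθ a)

theorem chainW_lt : ∀ k, ∀ j ∈ chainW k, j < chevF4.rank := by
  intro k
  induction k with
  | zero => intro j hj; simp [chainW] at hj
  | succ k ih =>
    intro j hj
    simp only [chainW, List.mem_append] at hj
    rcases hj with h | h | h
    · exact (orbW_lt 1 j h).2
    · exact (orbW_lt 0 j h).2
    · exact ih j h

theorem halfW_lt (k : ℕ) : ∀ j ∈ orbW 0 ++ chainW k, j < chevF4.rank := by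
  intro j hj
  rcases List.mem_append.1 hj with h | h
  · exact (orbW_lt 0 j h).2
  · exact chainW_lt k j h

include hθ in
theorem chain_mem_and_fixed (k : ℕ) :
    (nWr hBF4 K (chainW k) ∈ twistedF4 K θ) ∧ (nWr hBF4 K (orbW 0 ++ chainW k) ∈ twistedF4 K θ) := by
  induction k with
  | zero =>
    refine ⟨Subgroup.one_mem _, ?_⟩
    rw [nWr_append]
    exact Subgroup.mul_mem _ (Subgroup.one_mem _) (nJ_mem hθ 0)
  | succ k ih =>
    have h1 : nWr hBF4 K (chainW (k + 1)) ∈ twistedF4 K θ := by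
      simp only [chainW]
      rw [nWr_append]
      exact Subgroup.mul_mem _ ih.2 (nJ_mem hθ 1)
    refine ⟨h1, ?_⟩
    rw [nWr_append]
    exact Subgroup.mul_mem _ h1 (nJ_mem hθ 0)

include hfrob hadd in
/-- the chain induction -/
theorem chain_main : ∀ k ≤ 4,
    Nat.card ((ctxF4 hθ X).FixUn (nWr hBF4 K (chainW k))) =
      (Fintype.card K * Fintype.card K ^ 2) ^ k ∧
    (ctxF4 hθ X).FixUn (nWr hBF4 K (chainW k)) ⊆ (twistedF4 K θ : Set (GL chevF4.Idx K)) := by
  intro k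
  induction k with
  | zero =>
    intro _
    have e : nWr hBF4 K (chainW 0) = 1 := rfl
    rw [e, FixUn_one]
    refine ⟨by simp, ?_⟩
    intro c hc
    have hc' : c = 1 := hc
    rw [hc']
    exact Subgroup.one_mem _
  | succ k ih =>
    intro hk
    have hk4 : k < 4 := by omega
    obtain ⟨ih1, ih2⟩ := ih (by omega)
    obtain ⟨hm1, hm2⟩ := chain_mem_and_fixed (K := K) hθ k
    -- first half step
    have s0 := chain_step (X.toHyp hθ) (chainW_lt k) (fun j hj => (orbW_lt 0 j hj).2)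
      (sg_fixed X hfrob hadd hm1) (nJ_fixed hθ X hfrob hadd 0)
      (fun r hp hn => (chain_step0 k hk4 r hp.1 hp).1 hn)
      (fun r hp hn => (chain_step0 k hk4 r hp.1 hp).2 hn)
    have c0 : Nat.card ((ctxF4 hθ X).FixUn (nWr hBF4 K (orbW 0 ++ chainW k))) =
        (Fintype.card K * Fintype.card K ^ 2) ^ k * Fintype.card K := by
      rw [s0.1, ih1, card_FixUn0 hθ X hfrob]
    have m0 := s0.2 (twistedF4 K θ) (nJ_mem hθ 0) ih2 (FixUn_orb_subset hθ X hfrob hadd 0)
    -- second half step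
    have s1 := chain_step (X.toHyp hθ) (halfW_lt k) (fun j hj => (orbW_lt 1 j hj).2)
      (sg_fixed X hfrob hadd hm2) (nJ_fixed hθ X hfrob hadd 1)
      (fun r hp hn => (chain_step1 k hk4 r hp.1 hp).1 hn)
      (fun r hp hn => (chain_step1 k hk4 r hp.1 hp).2 hn)
    have m1 := s1.2 (twistedF4 K θ) (nJ_mem hθ 1) m0 (FixUn_orb_subset hθ X hfrob hadd 1)
    refine ⟨?_, m1⟩
    change Nat.card ((ctxF4 hθ X).FixUn (nWr hBF4 K (orbW 1 ++ (orbW 0 ++ chainW k)))) = _
    rw [s1.1, c0, card_FixUn1 hθ X hfrob hadd]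
    ring

theorem Un_chain_top : (ctxF4 hθ X).Un (nWr hBF4 K (chainW 4)) = chevF4.posUnipotent K :=
  Un_top (X.toHyp hθ) (chainW_lt 4) (fun r hp => chain_top r hp.1 hp)

include hθ hfrob hadd in
/-- the fixed points of `U` lie in `²F₄` -/
theorem fix_U_mem {u : GL chevF4.Idx K} (hu : u ∈ chevF4.posUnipotent K) (hf : X.sg u = u) :
    u ∈ twistedF4 K θ := by
  apply (chain_main hθ X hfrob hadd 4 le_rfl).2
  refine ⟨?_, hf⟩
  rw [Un_chain_top]
  exact hu

include hfrob hadd in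
/-- `U ∩ ²F₄` is the set of the fixed points of `U` -/
theorem U_inf_eq : ((chevF4.posUnipotent K ⊓ twistedF4 K θ : Subgroup (GL chevF4.Idx K)) :
    Set (GL chevF4.Idx K)) = (ctxF4 hθ X).FixUn (nWr hBF4 K (chainW 4)) := by
  ext u
  constructor
  · rintro ⟨h1, h2⟩
    refine ⟨?_, sg_fixed X hfrob hadd h2⟩
    rw [Un_chain_top]
    exact h1
  · rintro ⟨h1, h2⟩
    rw [Un_chain_top] at h1
    exact ⟨h1, fix_U_mem hθ X hfrob hadd h1 h2⟩

include hθ X hfrob hadd in
/-- the order of `U ∩ ²F₄` -/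
theorem card_U_inf : Nat.card ↥(chevF4.posUnipotent K ⊓ twistedF4 K θ) = Fintype.card K ^ 12 := by
  have h := (chain_main hθ X hfrob hadd 4 le_rfl).1
  have e : Nat.card ↥(chevF4.posUnipotent K ⊓ twistedF4 K θ) =
      Nat.card ((ctxF4 hθ X).FixUn (nWr hBF4 K (chainW 4))) := by
    apply Nat.card_congr
    exact Equiv.setCongr (U_inf_eq hθ X hfrob hadd)
  rw [e, h]
  ring

end main

end Cfsg.Agent.Helper11.TwF4
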