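import Mathlib
import Cfsg.Agent.Helper11.TwF4D

/-!
# The `(B, N)`-pair of `²F₄`
-/

set_option autoImplicit false
set_option linter.unusedSectionVars false
set_option linter.unusedVariables false

namespace Cfsg.Agent.Helper11.TwF4

open Cfsg.Lie Cfsg.Agent.Helper6 Cfsg.Agent.Helper11.FixBN Cfsg.Agent.Helper11.ChevEval
  Cfsg.Agent.Helper11.TwUProd

variable {K : Type*} [Field K]

theorem xU_one_mul_ne_one : xU hBF4 f4p1 (1 : K) * xU hBF4 f4p4 1 ≠ 1 := by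
  intro h
  have e : (1 : GL chevF4.Idx K) = xU hBF4 f4p1 0 * xU hBF4 f4p4 0 := by
    rw [xU_zero, xU_zero, one_mul]
  rw [e] at h
  exact one_ne_zero (W2_inj h).1

theorem W4_ne_one : W4 f4a f4b f4ab f4aab (0 : K) 0 1 1 ≠ 1 := by
  intro h
  have e : (1 : GL chevF4.Idx K) = W4 f4a f4b f4ab f4aab 0 0 0 0 := by
    unfold W4
    rw [xU_zero, xU_zero, xU_zero, xU_zero, one_mul, one_mul, one_mul]
  rw [e] at h
  exact one_ne_zero (W4_inj h).2.2.1

section main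

variable [Fintype K] [CharP K 2] {θ : ℕ} (hθ : θ ≠ 0) (X : Sig K θ)
  (hfrob : ∀ t : K, t ^ (2 * θ * θ) = t)
  (hadd : ∀ x y : K, (x + y) ^ (2 * θ) = x ^ (2 * θ) + y ^ (2 * θ))

theorem pairGen_pos_mem_U (t : K) : pairGen θ f4p1 f4p4 t ∈ chevF4.posUnipotent K :=
  Subgroup.mul_mem _ ((bnF4 (K := K)).xU_pos_mem (by decide +kernel) _)
    ((bnF4 (K := K)).xU_pos_mem (by decide +kernel) _)

theorem b2Gen_pos_mem_U (t u : K) : b2Gen θ f4a f4b f4ab f4aab t u ∈ chevF4.posUnipotent K :=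
  Subgroup.mul_mem _ (Subgroup.mul_mem _ (Subgroup.mul_mem _
    ((bnF4 (K := K)).xU_pos_mem (by decide +kernel) _)
    ((bnF4 (K := K)).xU_pos_mem (by decide +kernel) _))
    ((bnF4 (K := K)).xU_pos_mem (by decide +kernel) _))
    ((bnF4 (K := K)).xU_pos_mem (by decide +kernel) _)

/-- the negative generators are conjugates of fixed points of `U` -/
theorem pairGen_neg_conj (t : K) :
    (nWr hBF4 K (orbW 0))⁻¹ * pairGen θ f4m1 f4m4 t * nWr hBF4 K (orbW 0) ∈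
      chevF4.posUnipotent K := by
  have hL : ∀ j ∈ orbW 0, j < chevF4.rank := fun j hj => (orbW_lt 0 j hj).2
  have h1 := nWr_inv_conj_mem (K := K) hL (by decide : f4m1 < chevF4.nroots)
    (negGen_pos.1 f4m1 (by simp)) (t ^ θ)
  have h2 := nWr_inv_conj_mem (K := K) hL (by decide : f4m4 < chevF4.nroots)
    (negGen_pos.1 f4m4 (by simp)) t
  have e : (nWr hBF4 K (orbW 0))⁻¹ * pairGen θ f4m1 f4m4 t * nWr hBF4 K (orbW 0) =
      ((nWr hBF4 K (orbW 0))⁻¹ * xU hBF4 f4m1 (t ^ θ) * nWr hBF4 K (orbW 0)) *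
        ((nWr hBF4 K (orbW 0))⁻¹ * xU hBF4 f4m4 t * nWr hBF4 K (orbW 0)) := by
    unfold pairGen; group
  rw [e]
  exact Subgroup.mul_mem _ h1 h2

theorem b2Gen_neg_conj (t u : K) :
    (nWr hBF4 K (orbW 1))⁻¹ * b2Gen θ f4ma f4mb f4mab f4maab t u * nWr hBF4 K (orbW 1) ∈
      chevF4.posUnipotent K := by
  have hL : ∀ j ∈ orbW 1, j < chevF4.rank := fun j hj => (orbW_lt 1 j hj).2
  have h1 := nWr_inv_conj_mem (K := K) hL (by decide : f4ma < chevF4.nroots)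
    (negGen_pos.2 f4ma (by simp)) (t ^ θ)
  have h2 := nWr_inv_conj_mem (K := K) hL (by decide : f4mb < chevF4.nroots)
    (negGen_pos.2 f4mb (by simp)) t
  have h3 := nWr_inv_conj_mem (K := K) hL (by decide : f4mab < chevF4.nroots)
    (negGen_pos.2 f4mab (by simp)) (t ^ (θ + 1) + u)
  have h4 := nWr_inv_conj_mem (K := K) hL (by decide : f4maab < chevF4.nroots)
    (negGen_pos.2 f4maab (by simp)) (u ^ (2 * θ))
  have e : (nWr hBF4 K (orbW 1))⁻¹ * b2Gen θ f4ma f4mb f4mab f4maab t u * nWr hBF4 K (orbW 1) =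
      ((nWr hBF4 K (orbW 1))⁻¹ * xU hBF4 f4ma (t ^ θ) * nWr hBF4 K (orbW 1)) *
      ((nWr hBF4 K (orbW 1))⁻¹ * xU hBF4 f4mb t * nWr hBF4 K (orbW 1)) *
      ((nWr hBF4 K (orbW 1))⁻¹ * xU hBF4 f4mab (t ^ (θ + 1) + u) * nWr hBF4 K (orbW 1)) *
      ((nWr hBF4 K (orbW 1))⁻¹ * xU hBF4 f4maab (u ^ (2 * θ)) * nWr hBF4 K (orbW 1)) := by
    unfold b2Gen W4; group
  rw [e]
  exact Subgroup.mul_mem _ (Subgroup.mul_mem _ (Subgroup.mul_mem _ h1 h2) h3) h4

include hθ hfrob hadd in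
/-- generation by the fixed points of `U` and the two reflections -/
theorem gen_le (S : Subgroup (GL chevF4.Idx K))
    (hU : ∀ u ∈ chevF4.posUnipotent K, X.sg u = u → u ∈ S)
    (hn : ∀ a : Fin 2, nWr hBF4 K (orbW a) ∈ S) : twistedF4 K θ ≤ S := by
  have hfixmul : ∀ {x y z : GL chevF4.Idx K}, x ∈ twistedF4 K θ → y ∈ twistedF4 K θ →
      z ∈ twistedF4 K θ → X.sg (x * y * z) = x * y * z := fun hx hy hz =>
    sg_fixed X hfrob hadd (Subgroup.mul_mem _ (Subgroup.mul_mem _ hx hy) hz)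
  apply twistedF4_le
  · intro t
    exact hU _ (pairGen_pos_mem_U t) (sg_fixed X hfrob hadd (pairGen_pos_mem θ t))
  · intro t
    have h1 := hU _ (pairGen_neg_conj (θ := θ) t)
      (hfixmul (Subgroup.inv_mem _ (nJ_mem hθ 0)) (pairGen_neg_mem θ t) (nJ_mem hθ 0))
    have e : pairGen θ f4m1 f4m4 t = nWr hBF4 K (orbW 0) *
        ((nWr hBF4 K (orbW 0))⁻¹ * pairGen θ f4m1 f4m4 t * nWr hBF4 K (orbW 0)) *
          (nWr hBF4 K (orbW 0))⁻¹ := by group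
    rw [e]
    exact Subgroup.mul_mem _ (Subgroup.mul_mem _ (hn 0) h1) (Subgroup.inv_mem _ (hn 0))
  · intro t u
    exact hU _ (b2Gen_pos_mem_U t u) (sg_fixed X hfrob hadd (b2Gen_pos_mem θ t u))
  · intro t u
    have h1 := hU _ (b2Gen_neg_conj (θ := θ) t u)
      (hfixmul (Subgroup.inv_mem _ (nJ_mem hθ 1)) (b2Gen_neg_mem θ t u) (nJ_mem hθ 1))
    have e : b2Gen θ f4ma f4mb f4mab f4maab t u = nWr hBF4 K (orbW 1) *
        ((nWr hBF4 K (orbW 1))⁻¹ * b2Gen θ f4ma f4mb f4mab f4maab t u * nWr hBF4 K (orbW 1)) *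
          (nWr hBF4 K (orbW 1))⁻¹ := by group
    rw [e]
    exact Subgroup.mul_mem _ (Subgroup.mul_mem _ (hn 1) h1) (Subgroup.inv_mem _ (hn 1))

include hθ hfrob hadd in
/-- a non-trivial fixed point in each simple class -/
theorem exists_fixed (a : Fin 2) : ∃ x ∈ chevF4.posUnipotent K, X.sg x = x ∧ x ≠ 1 ∧
    nWr hBF4 K (orbW a) * x * (nWr hBF4 K (orbW a))⁻¹ ∈ chevF4.negUnipotent K := by
  fin_cases a
  · refine ⟨pairGen θ f4p1 f4p4 1, pairGen_pos_mem_U 1,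
      sg_fixed X hfrob hadd (pairGen_pos_mem θ 1), ?_, ?_⟩
    · unfold pairGen
      rw [one_pow]
      exact xU_one_mul_ne_one
    · exact (bnF4 (K := K)).conj_uneg_mem (pairGen_mem_uneg 1)
  · refine ⟨b2Gen θ f4a f4b f4ab f4aab 0 1, b2Gen_pos_mem_U 0 1,
      sg_fixed X hfrob hadd (b2Gen_pos_mem θ 0 1), ?_, ?_⟩
    · unfold b2Gen
      rw [zero_pow hθ, zero_pow (by omega : θ + 1 ≠ 0), zero_add, one_pow]
      exact W4_ne_one
    · exact (bnF4 (K := K)).conj_uneg_mem (b2Gen_mem_uneg 0 1)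

/-- the twisted data of `²F₄` -/
noncomputable def twF4 (hfrob : ∀ t : K, t ^ (2 * θ * θ) = t)
    (hadd : ∀ x y : K, (x + y) ^ (2 * θ) = x ^ (2 * θ) + y ^ (2 * θ)) :
    Tw (ctxF4 hθ X) (twistedF4 K θ) (Fin 2) where
  nJ := fun a => nWr hBF4 K (orbW a)
  NJ := fun a => (bnF4 (K := K)).Nsub (orbJ a)
  hfix := fun g hg => sg_fixed X hfrob hadd hg
  hG1 := fun g hg => (twistedF4_le_fixSub X hfrob hadd hg).1
  hnJ1 := nJ_mem hθ
  hnJN := fun a => (bnF4 (K := K)).nWr_mem_Nsub (orbW_lt a)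
  hNJ := fun a => (bnF4 (K := K)).Nsub_le_monomial _
  hP1 := fun a n hn b hb => nWr_mul_mem bnF4 (orbJ a) (orbW a) (orbW_lt a) n hn b hb
  hP2 := fun a => P2_of_check (X.toHyp hθ) (simpleHyp hθ X) (repsOK a)
    (fun j hj => (orbW_lt a j hj).2) (p2Check a)
  hUfix := fun u hu hf => fix_U_mem hθ X hfrob hadd hu hf
  hgen := fun S hU hn => gen_le hθ X hfrob hadd S hU hn
  hne := exists_fixed hθ X hfrob hadd
  hinj := by
    intro a b h
    exact orb_inj a b (pos_of_inv_mul_mem (Δ := bnF4 (K := K))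
      (fun j hj => (orbW_lt a j hj).2) (fun j hj => (orbW_lt b j hj).2) h)

include hθ X hfrob hadd in
/-- the `(B, N)`-pair of `²F₄` -/
theorem exists_bnPair_F4 : ∃ P : Cfsg.BNPair ↥(twistedF4 K θ),
    P.B = (chevF4.borelSubgroup K ⊓ twistedF4 K θ).subgroupOf (twistedF4 K θ) ∧
    P.N = (chevF4.monomialSubgroup K ⊓ twistedF4 K θ).subgroupOf (twistedF4 K θ) ∧
    P.S = {s : ↥(twistedF4 K θ) | ∃ a : Fin 2, (s : GL chevF4.Idx K) = nWr hBF4 K (orbW a)} :=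
  exists_bnPair (twF4 hθ X hfrob hadd)

end main

end Cfsg.Agent.Helper11.TwF4
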