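import Mathlib
import Cfsg.Agent.Helper11.TwSigGen
import Cfsg.Agent.Helper11.FinSub
import Cfsg.Agent.Helper11.TwF4E

set_option autoImplicit false
set_option linter.unusedSectionVars false
set_option linter.unusedVariables false

/-! The twisted endomorphism of `F₄(K)` for `|K| = 2^(2m+1)`, and the first consequences. -/

namespace Cfsg.Agent.Helper11.TwF4

open Cfsg.Lie Cfsg.Agent.Helper6 Cfsg.Agent.Helper2.Stb Cfsg.Agent.Helper11.FixBN

variable {K : Type*} [Field K]

theorem rhoG_eq : ∀ r < chevF4.nroots, rhoG chevF4 r = rhoF4 r := by decide +kernel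

theorem lamG_eq : ∀ r < chevF4.nroots, lamG chevF4 r = if r ∈ shortL then 2 else 1 := by
  decide +kernel

/-- the twisted endomorphism exists over a finite field of characteristic 2 -/
theorem exists_sig [Finite K] [CharP K 2] (m : ℕ) : Nonempty (Sig K (2 ^ m)) := by
  classical
  have : Fact (Nat.Prime 2) := ⟨Nat.prime_two⟩
  obtain ⟨σ, hσ⟩ := TwSigGen.exists_sigma (K := K) 2 tabF4 (by simp)
    (graphOK_of_chk tabF4 graphChk_F4) m
  refine ⟨⟨fun g => if h : g ∈ chevF4.group K then ((σ ⟨g, h⟩ : ↥(chevF4.group K)) :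
    GL chevF4.Idx K) else 1, ?_, ?_⟩⟩
  · intro a ha b hb
    rw [dif_pos ha, dif_pos hb, dif_pos (Subgroup.mul_mem _ ha hb), ← Subgroup.coe_mul, ← map_mul]
    rfl
  · intro r hr t
    have hmem : xU hBF4 r t ∈ chevF4.group K := xU_mem_group hBF4 hr t
    have e : (⟨xU hBF4 r t, hmem⟩ : ↥(chevF4.group K)) = gX hBF4 K r t :=
      Subtype.ext (gX_val hBF4 r t).symm
    rw [dif_pos hmem, e]
    have h1 := hσ r hr t
    have h2 : σ (gX hBF4 K r t) = gX hBF4 K (rhoG chevF4 r) (t ^ (2 ^ m * lamG chevF4 r)) := h1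
    rw [h2, gX_val, rhoG_eq r hr, lamG_eq r hr]
    congr 1
    unfold eF4
    by_cases hs : r ∈ shortL
    · rw [if_pos hs, if_pos hs, mul_comm]
    · rw [if_neg hs, if_neg hs, mul_one]

section card

variable [Fintype K] {m : ℕ} (hK : Fintype.card K = 2 ^ (2 * m + 1))

include hK in
theorem charP_two : CharP K 2 := by
  apply FinSub.charP_two_of_even
  rw [hK, pow_succ]
  exact even_two.mul_left _

include hK in
theorem frob_card (t : K) : t ^ (2 * 2 ^ m * 2 ^ m) = t := by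
  have e : 2 * 2 ^ m * 2 ^ m = Fintype.card K := by
    rw [hK]; ring
  rw [e]
  exact FiniteField.pow_card t

include hK in
theorem add_pow_card (x y : K) : (x + y) ^ (2 * 2 ^ m) = x ^ (2 * 2 ^ m) + y ^ (2 * 2 ^ m) := by
  have := charP_two hK
  have : Fact (Nat.Prime 2) := ⟨Nat.prime_two⟩
  have e : 2 * 2 ^ m = 2 ^ (m + 1) := by ring
  rw [e]
  exact add_pow_char_pow x y 2 (m + 1)

theorem theta_ne (m : ℕ) : 2 ^ m ≠ 0 := pow_ne_zero _ (by norm_num)

include hK in
/-- `|U¹| = q ^ 12` -/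
theorem card_U1 : Nat.card ↥(chevF4.posUnipotent K ⊓ twistedF4 K (2 ^ m)) =
    (2 ^ (2 * m + 1)) ^ 12 := by
  have := charP_two hK
  obtain ⟨X⟩ := exists_sig (K := K) m
  rw [card_U_inf (theta_ne m) X (frob_card hK) (add_pow_card hK), hK]

include hK in
/-- the `(B, N)`-pair of `²F₄(q)` -/
theorem exists_bnPair_main : ∃ P : Cfsg.BNPair ↥(twistedF4 K (2 ^ m)),
    P.B = (chevF4.borelSubgroup K ⊓ twistedF4 K (2 ^ m)).subgroupOf (twistedF4 K (2 ^ m)) ∧
    P.N = (chevF4.monomialSubgroup K ⊓ twistedF4 K (2 ^ m)).subgroupOf (twistedF4 K (2 ^ m)) ∧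
    P.S = {s : ↥(twistedF4 K (2 ^ m)) | ∃ a : Fin 2,
      (s : GL chevF4.Idx K) = nWr hBF4 K (orbW a)} := by
  have := charP_two hK
  obtain ⟨X⟩ := exists_sig (K := K) m
  exact exists_bnPair_F4 (theta_ne m) X (frob_card hK) (add_pow_card hK)

end card

end Cfsg.Agent.Helper11.TwF4
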