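import Mathlib
import Cfsg.Agent.Helper6.Chev.Ord
import Cfsg.Agent.Helper11.ChevSylow
import Cfsg.Agent.Helper11.TwF4Sig

set_option autoImplicit false
set_option linter.unusedSectionVars false
set_option linter.unusedSimpArgs false
set_option linter.unusedVariables false

/-!
The height filtration on the adjoint module of a Chevalley group: `x_r(t) - 1`, `r` positive,
raises the height level by at least `ht r`.  For `F₄` this gives `(u - 1) ^ 23 = 0` for all
`u ∈ U`, hence `u ^ 32 = 1` in characteristic two.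
-/

open Cfsg Cfsg.Lie

namespace Cfsg.Agent.Helper11.F4Height

open Matrix Cfsg.Agent.Helper6 Cfsg.Agent.Helper6.Chev

/-- Boolean check: for every root `s` in the upper half, `lam` is above `Λ`, symmetric under `-`
and additive along the `s`-chains -/
def htChk (D : ChevalleyDatum) (lam : ℕ → ℕ) (Λ N : ℕ) : Bool :=
  allLt D.nroots fun s => Nat.blt s N ||
    (Nat.blt Λ (lam s) && Nat.beq (Nat.add (lam (D.negIdx.getD s 0)) (lam s)) (Nat.mul 2 Λ) &&
      allL (D.chain.getD s #[]).toList fun e => allL e.2.toList fun q =>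
        Nat.ble (Nat.add (lam e.1) (Nat.sub (lam s) Λ)) (lam q.1))

theorem htChk_spec {D : ChevalleyDatum} {lam : ℕ → ℕ} {Λ N : ℕ} (h : htChk D lam Λ N = true)
    {s : ℕ} (hs : s < D.nroots) (hN : N ≤ s) :
    Λ < lam s ∧ lam (D.negIdx.getD s 0) + lam s = 2 * Λ ∧
      ∀ e ∈ (D.chain.getD s #[]).toList, ∀ q ∈ e.2.toList, lam e.1 + (lam s - Λ) ≤ lam q.1 := by
  simp only [htChk, allLt_iff, Bool.or_eq_true, Bool.and_eq_true, Nat.blt_eq, Nat.beq_eq,
    Nat.ble_eq, allL_iff] at h
  rcases h s hs with h1 | ⟨⟨h1, h2⟩, h4⟩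
  · omega
  · exact ⟨h1, h2, h4⟩

variable {F : Type*} [Field F]

theorem raises_x_ht (D : ChevalleyDatum) {lam : ℕ → ℕ} {Λ N : ℕ} (h : htChk D lam Λ N = true)
    {r : ℕ} (hrn : r < D.nroots) (hN : N ≤ r) (t : F) :
    Raises (levelL D lam Λ) (lam r - Λ) (D.x F r t - 1) := by
  obtain ⟨h1, h2, h3⟩ := htChk_spec h hrn hN
  unfold ChevalleyDatum.x
  rw [dif_pos hrn]
  intro i j hij
  rw [Matrix.sub_apply] at hij
  rcases j with c | s
  · rcases i with c' | u
    · exfalso; apply hij
      simp only [ChevalleyDatum.xMat, Matrix.of_apply, Matrix.one_apply, Sum.inl.injEq]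
      simp
    · simp only [ChevalleyDatum.xMat, Matrix.of_apply, Matrix.one_apply] at hij
      by_cases hur : u = ⟨r, hrn⟩
      · subst hur
        simp only [levelL]
        omega
      · exfalso; apply hij; simp [hur]
  · by_cases hsr : s = ⟨r, hrn⟩
    · exfalso; apply hij
      subst hsr
      rcases i with c' | u
      · simp [ChevalleyDatum.xMat, Matrix.of_apply]
      · simp only [ChevalleyDatum.xMat, Matrix.of_apply, Matrix.one_apply, if_true, Sum.inr.injEq]
        simp
    · by_cases hsn : s.val = D.negIdx.getD r 0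
      · rcases i with c' | u
        · simp only [levelL]
          rw [hsn]
          omega
        · simp only [ChevalleyDatum.xMat, Matrix.of_apply, Matrix.one_apply, hsr, if_false,
            hsn, if_true, Sum.inr.injEq] at hij
          by_cases hus : u = s
          · exfalso; apply hij; simp [hus]
          · by_cases hur : u = ⟨r, hrn⟩
            · subst hur
              simp only [levelL]
              rw [hsn]
              omega
            · exfalso; apply hij; simp [hus, hur]
      · rcases i with c' | u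
        · exfalso; apply hij
          simp only [ChevalleyDatum.xMat, Matrix.of_apply, hsr, if_false, hsn]
          simp
        · simp only [ChevalleyDatum.xMat, Matrix.of_apply, Matrix.one_apply, hsr, if_false,
            hsn, Sum.inr.injEq] at hij
          have hne : D.chainCoeff r s.val u.val ≠ [] := by
            intro hnil
            apply hij
            rw [hnil]
            simp
          obtain ⟨e, he, hes, q, hq, hqu⟩ := chainCoeff_ne_nil hne
          have := h3 e he q hq
          simp only [levelL]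
          rw [← hes, ← hqu]
          omega

/-- the positive unipotent group lies in the first step of the height filtration -/
theorem posUnipotent_le_UT_ht (D : ChevalleyDatum) {lam : ℕ → ℕ} {Λ N M : ℕ}
    (h : htChk D lam Λ N = true) (hpos : ∀ r, D.IsPosRoot r → N ≤ r)
    (hM : ∀ i, levelL D lam Λ i < M) :
    D.posUnipotent F ≤ (UT (levelL D lam Λ) 1 : Subgroup (GL D.Idx F)) := by
  unfold ChevalleyDatum.posUnipotent
  rw [Subgroup.closure_le]
  rintro g ⟨r, t, hr, hg⟩
  apply mem_UT_of_raises hM le_rfl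
  rw [hg]
  have h1 := htChk_spec h hr.1 (hpos r hr)
  exact (raises_x_ht D h hr.1 (hpos r hr) t).mono (by omega)

theorem pow_sub_one_eq_zero (D : ChevalleyDatum) {lam : ℕ → ℕ} {Λ N M : ℕ}
    (h : htChk D lam Λ N = true) (hpos : ∀ r, D.IsPosRoot r → N ≤ r)
    (hM : ∀ i, levelL D lam Λ i < M) {g : GL D.Idx F} (hg : g ∈ D.posUnipotent F) :
    ((g : Matrix D.Idx D.Idx F) - 1) ^ M = 0 :=
  pow_eq_zero_of_mem_UT hM (posUnipotent_le_UT_ht D h hpos hM hg)

/-! ### The height table of `F₄` -/

/-- `11 + ht r` for the 48 roots of `F₄` -/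
def lamF4 (r : ℕ) : ℕ :=
  [0,1,2,3,4,5,6,4,5,6,7,7,8,9,10,6,7,8,8,9,10,9,10,10,
    12,12,13,12,13,14,14,15,16,12,13,14,15,15,16,17,18,16,17,18,19,20,21,22].getD r 0

set_option maxRecDepth 100000 in
theorem htChk_F4 : htChk chevF4 lamF4 11 24 = true := by decide +kernel

theorem lamF4_lt (r : ℕ) : lamF4 r < 23 := by
  unfold lamF4
  by_cases hr : r < 48
  · interval_cases r <;> decide
  · rw [List.getD_eq_default _ _ (by simpa using hr)]
    norm_num

theorem levelL_F4_lt (i : chevF4.Idx) : levelL chevF4 lamF4 11 i < 23 := by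
  rcases i with c | s
  · simp [levelL]
  · simp only [levelL]
    exact lamF4_lt _

set_option maxRecDepth 100000 in
theorem posCheck_F4 : posCheck chevF4 24 = true := by decide +kernel

theorem pos_F4 (r : ℕ) (hr : chevF4.IsPosRoot r) : 24 ≤ r := (posCheck_spec posCheck_F4 hr).1

variable {K : Type*} [Field K]

/-- every element of `U(F₄)` satisfies `(u - 1) ^ 23 = 0` -/
theorem F4_pow_sub_one {g : GL chevF4.Idx K} (hg : g ∈ chevF4.posUnipotent K) :
    ((g : Matrix chevF4.Idx chevF4.Idx K) - 1) ^ 23 = 0 :=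
  pow_sub_one_eq_zero chevF4 htChk_F4 pos_F4 levelL_F4_lt hg

/-- in characteristic two, `U(F₄)` has exponent dividing `32` -/
theorem F4_pow_32 [CharP K 2] {g : GL chevF4.Idx K} (hg : g ∈ chevF4.posUnipotent K) :
    g ^ 32 = 1 := by
  have : Fact (Nat.Prime 2) := ⟨Nat.prime_two⟩
  have : Nonempty chevF4.Idx := ⟨Sum.inl ⟨0, by decide⟩⟩
  have h1 := F4_pow_sub_one hg
  have h2 : ((g : Matrix chevF4.Idx chevF4.Idx K) - 1) ^ 32 = 0 := by
    rw [show 32 = 23 + 9 by norm_num, pow_add, h1, zero_mul]
  have h3 : ((g : Matrix chevF4.Idx chevF4.Idx K) - 1) ^ 2 ^ 5 =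
      (g : Matrix chevF4.Idx chevF4.Idx K) ^ 2 ^ 5 - 1 ^ 2 ^ 5 :=
    sub_pow_char_pow_of_commute 2 5 (Commute.one_right _)
  apply Units.ext
  rw [Units.val_pow_eq_pow_val, Units.val_one]
  norm_num at h3
  rw [h2] at h3
  exact (sub_eq_zero.1 h3.symm)

end Cfsg.Agent.Helper11.F4Height
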