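import Mathlib
import Cfsg.Agent.Helper11.F4Height
import Cfsg.Agent.Helper11.TwF4B

set_option autoImplicit false
set_option linter.unusedSectionVars false
set_option linter.unusedSimpArgs false
set_option linter.unusedVariables false

/-!
`2`-elements of `F₄(2^n)` (and hence of `²F₄`) have order at most `32`.
-/

open Cfsg Cfsg.Lie

namespace Cfsg.Agent.Helper11.F4Height

open Matrix Cfsg.Agent.Helper6 Cfsg.Agent.Helper6.Chev Cfsg.Agent.Helper11.TwF4
open scoped Pointwise

variable {K : Type*} [Field K]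

theorem twistedF4_le_group [CharP K 2] (θ : ℕ) : twistedF4 K θ ≤ chevF4.group K := by
  apply twistedF4_le
  · intro t; exact pairGen_mem_group pairCls_pos t
  · intro t; exact pairGen_mem_group pairCls_neg t
  · intro t u; exact W4_mem_group b2Cls_pos _ _ _ _
  · intro t u; exact W4_mem_group b2Cls_neg _ _ _ _

/-- a `2`-element of `F₄(K)`, `K` finite of characteristic two, satisfies `g ^ 32 = 1` -/
theorem pow_32_of_two_elt [Fintype K] [CharP K 2] {g : GL chevF4.Idx K} (hg : g ∈ chevF4.group K)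
    {j : ℕ} (hj : orderOf g = 2 ^ j) : g ^ 32 = 1 := by
  classical
  have : Fact (Nat.Prime 2) := ⟨Nat.prime_two⟩
  obtain ⟨P, hP⟩ := Cfsg.Agent.Helper11.ChevSylow.exists_sylow (F := K) (D := chevF4) 2
    (by simp)
  let g' : ↥(chevF4.group K) := ⟨g, hg⟩
  have ho : orderOf g' = 2 ^ j := by
    rw [← Subgroup.orderOf_coe]; exact hj
  have hpg : IsPGroup 2 (Subgroup.zpowers g') := by
    apply IsPGroup.of_card (n := j)
    rw [Nat.card_zpowers, ho]
  obtain ⟨Q, hQ⟩ := hpg.exists_le_sylow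
  obtain ⟨x, hx⟩ := MulAction.exists_smul_eq ↥(chevF4.group K) Q P
  have h1 : g' ∈ (Q : Subgroup ↥(chevF4.group K)) := hQ (Subgroup.mem_zpowers g')
  have h3 : MulAut.conj x • g' ∈ MulAut.conj x • (Q : Subgroup ↥(chevF4.group K)) :=
    Subgroup.smul_mem_pointwise_smul _ _ _ h1
  rw [← Sylow.coe_subgroup_smul, hx, hP, Subgroup.mem_subgroupOf] at h3
  have h4 : (x : GL chevF4.Idx K) * g * (x : GL chevF4.Idx K)⁻¹ ∈ chevF4.posUnipotent K := by
    simpa [MulAut.smul_def, MulAut.conj_apply] using h3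
  have h5 := F4_pow_32 h4
  rw [conj_pow] at h5
  have : g ^ 32 = (x : GL chevF4.Idx K)⁻¹ * ((x : GL chevF4.Idx K) * g ^ 32 *
      (x : GL chevF4.Idx K)⁻¹) * (x : GL chevF4.Idx K) := by group
  rw [this, h5]; group

end Cfsg.Agent.Helper11.F4Height
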