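import Mathlib
import Cfsg.Agent.Helper11.FixBNA
import Cfsg.Agent.Helper11.FixBNB
import Cfsg.Agent.Helper2.BN.Parabolic

/-!
# Automorphisms of a group of fixed points with a split `(B, N)`-pair: the subgroups

In the setting of `FixBN`: the subgroups `U¹`, `V¹`, the root subgroups `X_j`, `Y_j = n_j X_j n_j⁻¹`
of the twisted group `G¹`, the normaliser of `U¹`, the normal form in the double coset
`B¹ n_j B¹`, the order of the minimal parabolic subgroups and `V¹ ∩ P_j = Y_j`.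
-/

set_option autoImplicit false
set_option linter.unusedSectionVars false
set_option linter.unusedVariables false

namespace Cfsg.Agent.Helper11.FixAut

open Cfsg.Agent.Helper11.FixBN Cfsg.Agent.Helper2.BN

variable {Γ : Type*} [Group Γ] {C : Ctx Γ} {G1 : Subgroup Γ} {ι : Type*}

/-- `U ∩ G¹` -/
def U1 (C : Ctx Γ) (G1 : Subgroup Γ) : Subgroup ↥G1 := (C.U ⊓ G1).subgroupOf G1

/-- `V ∩ G¹` -/
def V1 (C : Ctx Γ) (G1 : Subgroup Γ) : Subgroup ↥G1 := (C.V ⊓ G1).subgroupOf G1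

theorem mem_U1 {g : ↥G1} : g ∈ U1 C G1 ↔ (g : Γ) ∈ C.U := by
  unfold U1
  rw [Subgroup.mem_subgroupOf, Subgroup.mem_inf]
  exact ⟨fun h => h.1, fun h => ⟨h, g.2⟩⟩

theorem mem_V1 {g : ↥G1} : g ∈ V1 C G1 ↔ (g : Γ) ∈ C.V := by
  unfold V1
  rw [Subgroup.mem_subgroupOf, Subgroup.mem_inf]
  exact ⟨fun h => h.1, fun h => ⟨h, g.2⟩⟩

theorem U1_le_B1 : U1 C G1 ≤ B1 C G1 := fun g hg => mem_B1.2 (C.U_le_B (mem_U1.1 hg))

theorem U1_inf_V1 {g : ↥G1} (hU : g ∈ U1 C G1) (hV : g ∈ V1 C G1) : g = 1 :=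
  Subtype.ext (C.U_inf_V (mem_U1.1 hU) (mem_V1.1 hV))

theorem B1_inf_V1 {g : ↥G1} (hB : g ∈ B1 C G1) (hV : g ∈ V1 C G1) : g = 1 :=
  Subtype.ext (C.hBV _ (mem_B1.1 hB) (mem_V1.1 hV))

/-- `B` normalises `U` -/
theorem conj_mem_U {b u : Γ} (hb : b ∈ C.B) (hu : u ∈ C.U) : b * u * b⁻¹ ∈ C.U := by
  have h : C.B ≤ Subgroup.normalizer (C.U : Set Γ) :=
    sup_le Subgroup.le_normalizer C.H_le_normalizer
  exact (Subgroup.mem_normalizer_iff.1 (h hb) u).1 hu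

theorem conj_mem_U1 {b u : ↥G1} (hb : b ∈ B1 C G1) (hu : u ∈ U1 C G1) :
    b * u * b⁻¹ ∈ U1 C G1 := by
  rw [mem_U1]
  simp only [Subgroup.coe_mul, Subgroup.coe_inv]
  exact conj_mem_U (mem_B1.1 hb) (mem_U1.1 hu)

section tw

variable (T : Tw C G1 ι)

include T in
/-- `B¹ = U¹ H¹` -/
theorem mem_B1_iff {g : ↥G1} :
    g ∈ B1 C G1 ↔ ∃ u ∈ U1 C G1, ∃ h ∈ H1 C G1, g = u * h := by
  constructor
  · intro hg
    obtain ⟨u, hu, h, hh, hfu, hfh, e⟩ := C.B_fixed (mem_B1.1 hg) (T.hfix _ g.2)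
    have huG : u ∈ G1 := T.hUfix u hu hfu
    have hhG : h ∈ G1 := by
      have : h = u⁻¹ * (g : Γ) := by rw [e]; group
      rw [this]
      exact G1.mul_mem (G1.inv_mem huG) g.2
    refine ⟨⟨u, huG⟩, mem_U1.2 hu, ⟨h, hhG⟩, mem_H1.2 hh, Subtype.ext e⟩
  · rintro ⟨u, hu, h, hh, rfl⟩
    exact (B1 C G1).mul_mem (U1_le_B1 hu) (H1_le_B1 T hh)

/-- the reflection as an element of `G¹` -/
def sJ (j : ι) : ↥G1 := ⟨T.nJ j, T.hnJ1 j⟩

theorem sJ_coe (j : ι) : ((sJ T j : ↥G1) : Γ) = T.nJ j := rfl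

theorem sJ_mem_S (j : ι) : sJ T j ∈ (bnPair' T).S := ⟨j, rfl⟩

/-- the root subgroup `X_j = U¹ ∩ n_j⁻¹ V¹ n_j` -/
def X (j : ι) : Subgroup ↥G1 :=
  U1 C G1 ⊓ (V1 C G1).comap (MulAut.conj (sJ T j)).toMonoidHom

theorem mem_X {j : ι} {g : ↥G1} :
    g ∈ X T j ↔ (g : Γ) ∈ C.U ∧ T.nJ j * (g : Γ) * (T.nJ j)⁻¹ ∈ C.V := by
  unfold X
  rw [Subgroup.mem_inf, Subgroup.mem_comap, mem_U1, mem_V1]
  rfl

theorem X_le_U1 (j : ι) : X T j ≤ U1 C G1 := inf_le_left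

/-- the opposite root subgroup `Y_j = n_j X_j n_j⁻¹` -/
def Y (j : ι) : Subgroup ↥G1 := (X T j).map (MulAut.conj (sJ T j)).toMonoidHom

theorem mem_Y {j : ι} {g : ↥G1} : g ∈ Y T j ↔ ∃ x ∈ X T j, g = sJ T j * x * (sJ T j)⁻¹ := by
  unfold Y
  rw [Subgroup.mem_map]
  constructor
  · rintro ⟨x, hx, rfl⟩
    exact ⟨x, hx, rfl⟩
  · rintro ⟨x, hx, rfl⟩
    exact ⟨x, hx, rfl⟩

theorem Y_le_V1 (j : ι) : Y T j ≤ V1 C G1 := by
  intro g hg
  obtain ⟨x, hx, rfl⟩ := (mem_Y T).1 hg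
  rw [mem_V1]
  exact ((mem_X T).1 hx).2

theorem card_Y (j : ι) : Nat.card (Y T j) = Nat.card (X T j) := by
  unfold Y
  exact Nat.card_congr
    ((X T j).equivMapOfInjective _ (MulAut.conj (sJ T j)).injective).symm.toEquiv

/-- `X_j` is not trivial -/
theorem exists_ne_one_mem_X (j : ι) : ∃ x ∈ X T j, x ≠ 1 := by
  obtain ⟨x, hxU, hf, hx1, hxV⟩ := T.hne j
  refine ⟨⟨x, T.hUfix x hxU hf⟩, (mem_X T).2 ⟨hxU, hxV⟩, ?_⟩
  intro h
  exact hx1 (congrArg Subtype.val h)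

theorem one_lt_card_X [Finite ↥G1] (j : ι) : 1 < Nat.card (X T j) := by
  obtain ⟨x, hx, hx1⟩ := exists_ne_one_mem_X T j
  rw [Finite.one_lt_card_iff_nontrivial]
  exact ⟨⟨⟨x, hx⟩, 1, fun h => hx1 (congrArg Subtype.val h)⟩⟩

include T in
/-- the normaliser of `U¹` is `B¹` -/
theorem normalizer_U1 : Subgroup.normalizer ((U1 C G1 : Subgroup ↥G1) : Set ↥G1) = B1 C G1 := by
  set M := Subgroup.normalizer ((U1 C G1 : Subgroup ↥G1) : Set ↥G1) with hM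
  have hBM : (bnPair' T).B ≤ M := by
    intro b hb
    rw [hM, Subgroup.mem_normalizer_iff]
    intro u
    constructor
    · intro hu
      exact conj_mem_U1 hb hu
    · intro hu
      have := conj_mem_U1 ((B1 C G1).inv_mem hb) hu
      have e : b⁻¹ * (b * u * b⁻¹) * b⁻¹⁻¹ = u := by group
      rwa [e] at this
  have h1 := eq_parabolic_of_le (P := bnPair' T) M hBM
  have hemp : (bnPair' T).S ∩ (M : Set ↥G1) = ∅ := by
    rw [Set.eq_empty_iff_forall_notMem]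
    rintro s ⟨⟨j, hs⟩, hsM⟩
    obtain ⟨x, hxU, hf, hx1, hxV⟩ := T.hne j
    have hxG : x ∈ G1 := T.hUfix x hxU hf
    have h2 : s * ⟨x, hxG⟩ * s⁻¹ ∈ U1 C G1 :=
      (Subgroup.mem_normalizer_iff.1 hsM ⟨x, hxG⟩).1 (mem_U1.2 hxU)
    rw [mem_U1] at h2
    simp only [Subgroup.coe_mul, Subgroup.coe_inv, hs] at h2
    have := C.U_inf_V h2 hxV
    apply hx1
    have e : x = (T.nJ j)⁻¹ * (T.nJ j * x * (T.nJ j)⁻¹) * T.nJ j := by group
    rw [e, this]; group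
  rw [h1, hemp]
  unfold Cfsg.BNPair.parabolic
  rw [Subgroup.closure_empty, sup_bot_eq]
  rfl

/-- the normal form in the double coset of a fundamental reflection -/
theorem exists_nf {j : ι} {g : ↥G1} (hg : g ∈ Cfsg.Agent.Helper2.BN.C (bnPair' T) (sJ T j)) :
    ∃ b ∈ B1 C G1, ∃ c ∈ X T j, g = b * sJ T j * c := by
  obtain ⟨b₁, hb₁, b₂, hb₂, e⟩ := (mem_C_iff (bnPair' T)).1 hg
  have e' : (g : Γ) = b₁ * T.nJ j * b₂ := by
    have := congrArg Subtype.val e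
    simpa only [Subgroup.coe_mul, sJ_coe] using this
  obtain ⟨b, hb, c, hc, hcV, e2⟩ := C.nf_of_mem (nJ_mem_N T j) (mem_B1.1 hb₁) (mem_B1.1 hb₂) e'
  obtain ⟨hfb, hfc⟩ := C.nf_fixed (nJ_mem_N T j) (T.hfix _ (T.hnJ1 j)) hb hc hcV e2
    (T.hfix _ g.2)
  have hcG : c ∈ G1 := T.hUfix c hc hfc
  have hbG : b ∈ G1 := by
    have : b = (g : Γ) * c⁻¹ * (T.nJ j)⁻¹ := by rw [e2]; group
    rw [this]
    exact G1.mul_mem (G1.mul_mem g.2 (G1.inv_mem hcG)) (G1.inv_mem (T.hnJ1 j))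
  refine ⟨⟨b, hbG⟩, mem_B1.2 hb, ⟨c, hcG⟩, (mem_X T).2 ⟨hc, hcV⟩, Subtype.ext e2⟩

theorem nf_unique' {j : ι} {b b' c c' : ↥G1} (hb : b ∈ B1 C G1) (hb' : b' ∈ B1 C G1)
    (hc : c ∈ X T j) (hc' : c' ∈ X T j) (e : b * sJ T j * c = b' * sJ T j * c') :
    b = b' ∧ c = c' := by
  have e' : (b : Γ) * T.nJ j * c = b' * T.nJ j * c' := by
    have := congrArg Subtype.val e
    simpa only [Subgroup.coe_mul, sJ_coe] using this
  obtain ⟨h1, h2⟩ := C.nf_unique (mem_B1.1 hb) (mem_B1.1 hb') ((mem_X T).1 hc).1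
    ((mem_X T).1 hc').1 ((mem_X T).1 hc).2 ((mem_X T).1 hc').2 e'
  exact ⟨Subtype.ext h1, Subtype.ext h2⟩

theorem nf_mem_C {j : ι} {b c : ↥G1} (hb : b ∈ B1 C G1) (hc : c ∈ X T j) :
    b * sJ T j * c ∈ Cfsg.Agent.Helper2.BN.C (bnPair' T) (sJ T j) :=
  (mem_C_iff (bnPair' T)).2 ⟨b, hb, c, U1_le_B1 (X_le_U1 T j hc), rfl⟩

/-- `|B¹ n_j B¹| = |B¹| |X_j|` -/
theorem card_C (j : ι) : Nat.card (Cfsg.Agent.Helper2.BN.C (bnPair' T) (sJ T j)) =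
    Nat.card (B1 C G1) * Nat.card (X T j) := by
  rw [← Nat.card_prod]
  symm
  apply Nat.card_congr
  refine Equiv.ofBijective
    (fun p : ↥(B1 C G1) × ↥(X T j) => (⟨p.1.1 * sJ T j * p.2.1, nf_mem_C T p.1.2 p.2.2⟩ :
      Cfsg.Agent.Helper2.BN.C (bnPair' T) (sJ T j))) ⟨?_, ?_⟩
  · rintro ⟨⟨b, hb⟩, ⟨c, hc⟩⟩ ⟨⟨b', hb'⟩, ⟨c', hc'⟩⟩ h
    have h' := congrArg Subtype.val h
    obtain ⟨h1, h2⟩ := nf_unique' T hb hb' hc hc' h'
    subst h1; subst h2; rfl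
  · rintro ⟨g, hg⟩
    obtain ⟨b, hb, c, hc, e⟩ := exists_nf T hg
    exact ⟨(⟨b, hb⟩, ⟨c, hc⟩), Subtype.ext e.symm⟩

/-- the minimal parabolic subgroup -/
def Pj (j : ι) : Subgroup ↥G1 := (bnPair' T).parabolic {sJ T j}

theorem Pj_coe (j : ι) : (Pj T j : Set ↥G1) =
    (B1 C G1 : Set ↥G1) ∪ Cfsg.Agent.Helper2.BN.C (bnPair' T) (sJ T j) :=
  parabolic_singleton_coe (P := bnPair' T) (sJ_mem_S T j)

theorem B1_le_Pj (j : ι) : B1 C G1 ≤ Pj T j := B_le_parabolic (P := bnPair' T) _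

theorem sJ_mem_Pj (j : ι) : sJ T j ∈ Pj T j :=
  closure_le_parabolic (P := bnPair' T) _ (Subgroup.subset_closure rfl)

theorem sJ_not_mem_B1 (j : ι) : sJ T j ∉ B1 C G1 :=
  not_mem_B_of_mem_S (P := bnPair' T) (sJ_mem_S T j)

theorem disjoint_B1_C (j : ι) :
    Disjoint (B1 C G1 : Set ↥G1) (Cfsg.Agent.Helper2.BN.C (bnPair' T) (sJ T j)) := by
  rw [Set.disjoint_left]
  intro g hgB hgC
  have h1 : Cfsg.Agent.Helper2.BN.C (bnPair' T) g = Cfsg.Agent.Helper2.BN.C (bnPair' T) (sJ T j) :=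
    C_eq_of_mem (bnPair' T) hgC
  rw [C_of_mem_B (bnPair' T) hgB] at h1
  have : sJ T j ∈ ((bnPair' T).B : Set ↥G1) := by
    rw [h1]; exact mem_C_self (bnPair' T) _
  exact sJ_not_mem_B1 T j this

/-- `|P_j| = |B¹| (1 + |X_j|)` -/
theorem card_Pj [Finite ↥G1] (j : ι) :
    Nat.card (Pj T j) = Nat.card (B1 C G1) * (1 + Nat.card (X T j)) := by
  have h1 : Nat.card (Pj T j) = Nat.card ((Pj T j : Subgroup ↥G1) : Set ↥G1) := rfl
  rw [h1, Pj_coe, Nat.card_coe_set_eq, Set.ncard_union_eq (disjoint_B1_C T j),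
    ← Nat.card_coe_set_eq, ← Nat.card_coe_set_eq, card_C, mul_add, mul_one]
  rfl

theorem Y_le_Pj (j : ι) : Y T j ≤ Pj T j := by
  intro g hg
  obtain ⟨x, hx, rfl⟩ := (mem_Y T).1 hg
  exact (Pj T j).mul_mem ((Pj T j).mul_mem (sJ_mem_Pj T j)
    (B1_le_Pj T j (U1_le_B1 (X_le_U1 T j hx)))) ((Pj T j).inv_mem (sJ_mem_Pj T j))

/-- `V¹ ∩ P_j = Y_j` -/
theorem V1_inf_Pj [Finite ↥G1] (j : ι) : V1 C G1 ⊓ Pj T j = Y T j := by
  symm
  have hle : Y T j ≤ V1 C G1 ⊓ Pj T j := le_inf (Y_le_V1 T j) (Y_le_Pj T j)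
  apply Subgroup.eq_of_le_of_card_ge hle
  set K := V1 C G1 ⊓ Pj T j with hK
  -- `|K| |B¹| ≤ |P_j|`
  have hinj : Function.Injective (fun p : ↥K × ↥(B1 C G1) =>
      (⟨p.1.1 * p.2.1, (Pj T j).mul_mem p.1.2.2 (B1_le_Pj T j p.2.2)⟩ : ↥(Pj T j))) := by
    rintro ⟨⟨k, hk⟩, ⟨b, hb⟩⟩ ⟨⟨k', hk'⟩, ⟨b', hb'⟩⟩ h
    have h' : k * b = k' * b' := congrArg Subtype.val h
    have e1 : k'⁻¹ * k = b' * b⁻¹ := by
      have : k = k' * b' * b⁻¹ := by rw [← h']; group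
      rw [this]; group
    have h2 : k'⁻¹ * k = 1 := by
      apply B1_inf_V1 (C := C)
      · rw [e1]; exact (B1 C G1).mul_mem hb' ((B1 C G1).inv_mem hb)
      · exact (V1 C G1).mul_mem ((V1 C G1).inv_mem hk'.1) hk.1
    have hkk : k = k' := by
      have : k = k' * (k'⁻¹ * k) := by group
      rw [this, h2, mul_one]
    subst hkk
    have hbb : b = b' := mul_left_cancel h'
    subst hbb
    rfl
  have h3 := Nat.card_le_card_of_injective _ hinj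
  rw [Nat.card_prod, card_Pj] at h3
  have hBpos : 0 < Nat.card (B1 C G1) := Nat.card_pos
  have h4 : Nat.card K ≤ 1 + Nat.card (X T j) := by
    rw [mul_comm] at h3
    exact Nat.le_of_mul_le_mul_left h3 hBpos
  -- `|Y_j|` divides `|K|`
  have h5 : Nat.card (Y T j) ∣ Nat.card K := Subgroup.card_dvd_of_le hle
  rw [card_Y] at h5 ⊢
  obtain ⟨k, hk⟩ := h5
  have hX := one_lt_card_X T j
  have hk0 : k ≠ 0 := by
    rintro rfl
    rw [mul_zero] at hk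
    have : 0 < Nat.card K := Nat.card_pos
    omega
  have hk1 : k = 1 := by
    by_contra hne
    have : 2 ≤ k := by omega
    have : 2 * Nat.card (X T j) ≤ Nat.card (X T j) * k := by
      rw [mul_comm]; exact Nat.mul_le_mul_left _ this
    omega
  rw [hk, hk1, mul_one]

end tw

end Cfsg.Agent.Helper11.FixAut
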