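import Mathlib
import Cfsg.Agent.Helper11.FixAutA

/-!
# Automorphisms of a group of fixed points with a split `(B, N)`-pair: preservation

An automorphism preserving `U¹` preserves `B¹` and permutes the minimal parabolic subgroups; if it
also preserves `V¹` and `P_j` it preserves `Y_j`; if moreover it is the identity on `X_j` then it is
the identity on `Y_j`.
-/

set_option autoImplicit false
set_option linter.unusedSectionVars false
set_option linter.unusedVariables false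

namespace Cfsg.Agent.Helper11.FixAut

open Cfsg.Agent.Helper11.FixBN Cfsg.Agent.Helper2.BN

section pres

variable {G : Type*} [Group G]

/-- `β` maps the subgroup `K` onto itself -/
def Pres (β : G ≃* G) (K : Subgroup G) : Prop := ∀ y, β y ∈ K ↔ y ∈ K

theorem Pres.symm {β : G ≃* G} {K : Subgroup G} (h : Pres β K) : Pres β.symm K := by
  intro y
  have := h (β.symm y)
  rw [β.apply_symm_apply] at this
  exact this.symm

theorem Pres.trans {β γ : G ≃* G} {K : Subgroup G} (h : Pres β K) (h' : Pres γ K) :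
    Pres (β.trans γ) K := by
  intro y
  rw [MulEquiv.trans_apply, h', h]

theorem Pres.inf {β : G ≃* G} {K L : Subgroup G} (h1 : Pres β K) (h2 : Pres β L) :
    Pres β (K ⊓ L) := by
  intro y
  rw [Subgroup.mem_inf, Subgroup.mem_inf, h1, h2]

theorem Pres.eq_of_eq {β : G ≃* G} {K L : Subgroup G} (h : Pres β K) (e : K = L) : Pres β L :=
  e ▸ h

theorem Pres.normalizer {β : G ≃* G} {K : Subgroup G} (h : Pres β K) :
    Pres β (Subgroup.normalizer (K : Set G)) := by
  intro y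
  rw [Subgroup.mem_normalizer_iff, Subgroup.mem_normalizer_iff]
  constructor
  · intro hy k
    have := hy (β k)
    rw [h, ← map_inv, ← map_mul, ← map_mul, h] at this
    exact this
  · intro hy k
    obtain ⟨k', rfl⟩ := β.surjective k
    rw [h, ← map_inv, ← map_mul, ← map_mul, h]
    exact hy k'

theorem pres_of_maps {β : G ≃* G} {K : Subgroup G} [Finite K]
    (h : ∀ y ∈ K, β y ∈ K) : Pres β K := by
  intro y
  refine ⟨fun hy => ?_, h y⟩
  let f : K → K := fun v => ⟨β v.1, h v.1 v.2⟩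
  have hinj : Function.Injective f := by
    intro a b hab
    apply Subtype.ext
    exact β.injective (congrArg Subtype.val hab)
  obtain ⟨v, hv⟩ := (Finite.injective_iff_surjective.1 hinj) ⟨β y, hy⟩
  have : β v.1 = β y := congrArg Subtype.val hv
  rw [← β.injective this]
  exact v.2

theorem pres_conj {x : G} {K : Subgroup G} (hx : x ∈ Subgroup.normalizer (K : Set G)) :
    Pres (MulAut.conj x) K := by
  intro y
  rw [MulAut.conj_apply]
  exact ((Subgroup.mem_normalizer_iff.1 hx) y).symm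

theorem pres_conj_of_mem {x : G} {K : Subgroup G} (hx : x ∈ K) : Pres (MulAut.conj x) K :=
  pres_conj (Subgroup.le_normalizer hx)

theorem Pres.map_eq {β : G ≃* G} {K : Subgroup G} (h : Pres β K) :
    K.map β.toMonoidHom = K := by
  ext y
  rw [Subgroup.mem_map]
  constructor
  · rintro ⟨z, hz, rfl⟩
    exact (h z).2 hz
  · intro hy
    refine ⟨β.symm y, (h.symm y).2 hy, ?_⟩
    simp

end pres

variable {Γ : Type*} [Group Γ] {C : Ctx Γ} {G1 : Subgroup Γ} {ι : Type*} (T : Tw C G1 ι)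

include T in
/-- an automorphism preserving `U¹` preserves `B¹` -/
theorem pres_B1 {β : ↥G1 ≃* ↥G1} (hU : Pres β (U1 C G1)) : Pres β (B1 C G1) :=
  hU.normalizer.eq_of_eq (normalizer_U1 T)

/-- an automorphism preserving `B¹` permutes the minimal parabolic subgroups -/
theorem exists_perm_Pj {β : ↥G1 ≃* ↥G1} (hB : Pres β (B1 C G1)) (j : ι) :
    ∃ j', ∀ y, β y ∈ Pj T j' ↔ y ∈ Pj T j := by
  set P := bnPair' T with hP
  have hPB : Pres β P.B := hB
  have hsi : sJ T j ∈ P.S := sJ_mem_S T j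
  obtain ⟨M, hMdef⟩ : ∃ M, M = (P.parabolic {sJ T j}).map β.toMonoidHom := ⟨_, rfl⟩
  have hmemM : ∀ y, β y ∈ M ↔ y ∈ P.parabolic {sJ T j} := by
    intro y
    rw [hMdef]
    constructor
    · rintro ⟨z, hz, hzy⟩
      have : z = y := β.injective hzy
      rw [← this]; exact hz
    · intro hy; exact ⟨y, hy, rfl⟩
  have hBM : P.B ≤ M := by
    intro b hb
    obtain ⟨z, rfl⟩ := β.surjective b
    rw [hmemM]
    exact B_le_parabolic (P := P) _ ((hPB z).1 hb)
  have hM := eq_parabolic_of_le (P := P) M hBM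
  have hne : (P.S ∩ (M : Set ↥G1)).Nonempty := by
    by_contra hemp
    rw [Set.not_nonempty_iff_eq_empty] at hemp
    rw [hemp] at hM
    have h1 : β (sJ T j) ∈ M :=
      (hmemM _).2 (closure_le_parabolic (P := P) _ (Subgroup.subset_closure rfl))
    rw [hM] at h1
    have h2 : β (sJ T j) ∈ P.B := by
      simpa [Cfsg.BNPair.parabolic] using h1
    exact not_mem_B_of_mem_S (P := P) hsi ((hPB _).1 h2)
  obtain ⟨s, hsS, hsM⟩ := hne
  obtain ⟨j', hj'⟩ := hsS
  have hs : s = sJ T j' := Subtype.ext hj'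
  subst hs
  have hsS : sJ T j' ∈ P.S := sJ_mem_S T j'
  refine ⟨j', fun y => ?_⟩
  have hPsM : P.parabolic {sJ T j'} ≤ M := by
    apply sup_le hBM
    rw [Subgroup.closure_le]
    intro z hz
    rw [Set.mem_singleton_iff] at hz
    rw [hz]; exact hsM
  constructor
  · intro hy; exact (hmemM y).1 (hPsM hy)
  · have hK : P.parabolic {sJ T j} ≤ (P.parabolic {sJ T j'}).comap β.toMonoidHom := by
      apply sup_le
      · intro b hb
        show β b ∈ P.parabolic {sJ T j'}
        exact B_le_parabolic (P := P) _ ((hPB b).2 hb)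
      · rw [Subgroup.closure_le]
        intro z hz
        rw [Set.mem_singleton_iff] at hz
        subst hz
        show β (sJ T j) ∈ P.parabolic {sJ T j'}
        obtain ⟨s', hs'⟩ : ∃ s', β s' = sJ T j' := β.surjective _
        have hs'P : s' ∈ P.parabolic {sJ T j} := (hmemM s').1 (by rw [hs']; exact hsM)
        have hs'B : s' ∉ P.B := fun h =>
          not_mem_B_of_mem_S (P := P) hsS (by rw [← hs']; exact (hPB s').2 h)
        have hmem : s' ∈ (P.parabolic {sJ T j} : Set ↥G1) := hs'P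
        rw [parabolic_singleton_coe hsi] at hmem
        rcases hmem with h | h
        · exact absurd h hs'B
        · obtain ⟨b, hb, b', hb', e⟩ := (mem_C_iff P).1 h
          have e2 : sJ T j = b⁻¹ * s' * b'⁻¹ := by rw [e]; group
          rw [e2, map_mul, map_mul, hs']
          exact Subgroup.mul_mem _ (Subgroup.mul_mem _
            (B_le_parabolic (P := P) _ ((hPB _).2 (inv_mem hb)))
            (closure_le_parabolic (P := P) _ (Subgroup.subset_closure rfl)))
            (B_le_parabolic (P := P) _ ((hPB _).2 (inv_mem hb')))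
    intro hy
    exact hK hy

/-- if the root subgroups have pairwise distinct orders, an automorphism preserving `B¹` preserves
each minimal parabolic subgroup -/
theorem pres_Pj [Finite ↥G1] {β : ↥G1 ≃* ↥G1} (hB : Pres β (B1 C G1))
    (hcard : ∀ j j', Nat.card (X T j) = Nat.card (X T j') → j = j') (j : ι) :
    Pres β (Pj T j) := by
  obtain ⟨j', hj'⟩ := exists_perm_Pj T hB j
  have hc : Nat.card (Pj T j') = Nat.card (Pj T j) := by
    symm
    apply Nat.card_congr
    refine Equiv.ofBijective (fun y : ↥(Pj T j) => (⟨β y.1, (hj' y.1).2 y.2⟩ : ↥(Pj T j')))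
      ⟨?_, ?_⟩
    · intro a b hab
      exact Subtype.ext (β.injective (congrArg Subtype.val hab))
    · rintro ⟨z, hz⟩
      obtain ⟨y, rfl⟩ := β.surjective z
      exact ⟨⟨y, (hj' y).1 hz⟩, rfl⟩
  rw [card_Pj, card_Pj] at hc
  have hBpos : 0 < Nat.card (B1 C G1) := Nat.card_pos
  have h1 : 1 + Nat.card (X T j') = 1 + Nat.card (X T j) := Nat.eq_of_mul_eq_mul_left hBpos hc
  have : j' = j := hcard j' j (by omega)
  subst this
  exact hj'

/-- an automorphism preserving `V¹` and `P_j` preserves `Y_j` -/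
theorem pres_Y [Finite ↥G1] {β : ↥G1 ≃* ↥G1} (hV : Pres β (V1 C G1)) {j : ι}
    (hP : Pres β (Pj T j)) : Pres β (Y T j) :=
  (hV.inf hP).eq_of_eq (V1_inf_Pj T j)

/-- `s_j ∉ Y_j B¹` -/
theorem sJ_ne_mul {j : ι} {y b : ↥G1} (hy : y ∈ Y T j) (hb : b ∈ B1 C G1) : sJ T j ≠ y * b := by
  intro e
  obtain ⟨x, hx, rfl⟩ := (mem_Y T).1 hy
  apply sJ_not_mem_B1 T j
  have h1 : x⁻¹ * b⁻¹ ∈ B1 C G1 :=
    (B1 C G1).mul_mem ((B1 C G1).inv_mem (U1_le_B1 (X_le_U1 T j hx))) ((B1 C G1).inv_mem hb)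
  have h : x * (sJ T j)⁻¹ * b = 1 := by
    apply mul_left_cancel (a := sJ T j)
    rw [mul_one, ← mul_assoc, ← mul_assoc]
    exact e.symm
  have e2 : sJ T j = (x⁻¹ * b⁻¹)⁻¹ := by
    have : sJ T j = b * (x * (sJ T j)⁻¹ * b)⁻¹ * x := by group
    rw [this, h]; group
  rw [e2]
  exact (B1 C G1).inv_mem h1

/-- `P_j = Y_j B¹ ∪ s_j B¹` -/
theorem mem_Pj_cases [Finite ↥G1] {j : ι} {g : ↥G1} (hg : g ∈ Pj T j) :
    (∃ y ∈ Y T j, ∃ b ∈ B1 C G1, g = y * b) ∨ (∃ b ∈ B1 C G1, g = sJ T j * b) := by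
  classical
  by_contra hcon
  rw [not_or] at hcon
  -- count
  let f : (↥(Y T j) × ↥(B1 C G1)) ⊕ ↥(B1 C G1) → {z : ↥(Pj T j) // z.1 ≠ g} := fun p =>
    match p with
    | Sum.inl q => ⟨⟨q.1.1 * q.2.1, (Pj T j).mul_mem (Y_le_Pj T j q.1.2) (B1_le_Pj T j q.2.2)⟩,
        fun h => hcon.1 ⟨q.1.1, q.1.2, q.2.1, q.2.2, h.symm⟩⟩
    | Sum.inr b => ⟨⟨sJ T j * b.1, (Pj T j).mul_mem (sJ_mem_Pj T j) (B1_le_Pj T j b.2)⟩,
        fun h => hcon.2 ⟨b.1, b.2, h.symm⟩⟩
  have hinj : Function.Injective f := by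
    rintro (⟨⟨y, hy⟩, ⟨b, hb⟩⟩ | ⟨b, hb⟩) (⟨⟨y', hy'⟩, ⟨b', hb'⟩⟩ | ⟨b', hb'⟩) h
    · have h' : y * b = y' * b' := congrArg (fun z => z.1.1) h
      have e1 : y'⁻¹ * y = b' * b⁻¹ := by
        have : y = y' * b' * b⁻¹ := by rw [← h']; group
        rw [this]; group
      have h2 : y'⁻¹ * y = 1 := by
        apply B1_inf_V1 (C := C)
        · rw [e1]; exact (B1 C G1).mul_mem hb' ((B1 C G1).inv_mem hb)
        · exact (V1 C G1).mul_mem ((V1 C G1).inv_mem (Y_le_V1 T j hy')) (Y_le_V1 T j hy)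
      have hyy : y = y' := by
        have : y = y' * (y'⁻¹ * y) := by group
        rw [this, h2, mul_one]
      subst hyy
      have hbb : b = b' := mul_left_cancel h'
      subst hbb
      rfl
    · exfalso
      have h' : y * b = sJ T j * b' := congrArg (fun z => z.1.1) h
      refine sJ_ne_mul T hy ((B1 C G1).mul_mem hb ((B1 C G1).inv_mem hb')) ?_
      rw [← mul_assoc, h']; group
    · exfalso
      have h' : sJ T j * b = y' * b' := congrArg (fun z => z.1.1) h
      refine sJ_ne_mul T hy' ((B1 C G1).mul_mem hb' ((B1 C G1).inv_mem hb)) ?_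
      rw [← mul_assoc, ← h']; group
    · have h' : sJ T j * b = sJ T j * b' := congrArg (fun z => z.1.1) h
      have hbb : b = b' := mul_left_cancel h'
      subst hbb
      rfl
  have h3 := Nat.card_le_card_of_injective f hinj
  have h4 : Nat.card {z : ↥(Pj T j) // z.1 ≠ g} + 1 = Nat.card ↥(Pj T j) := by
    have e : {z : ↥(Pj T j) // z.1 ≠ g} = {z : ↥(Pj T j) // z ≠ ⟨g, hg⟩} := by
      congr 1
      ext z
      exact ⟨fun h h' => h (congrArg Subtype.val h'), fun h h' => h (Subtype.ext h')⟩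
    rw [e]
    have := Fintype.ofFinite ↥(Pj T j)
    rw [Nat.card_eq_fintype_card, Nat.card_eq_fintype_card, Fintype.card_subtype_compl,
      Fintype.card_subtype_eq]
    have : 0 < Fintype.card ↥(Pj T j) := Fintype.card_pos
    omega
  rw [Nat.card_sum, Nat.card_prod, card_Y] at h3
  rw [card_Pj] at h4
  have : Nat.card ↥(B1 C G1) * (1 + Nat.card ↥(X T j)) =
      Nat.card ↥(X T j) * Nat.card ↥(B1 C G1) + Nat.card ↥(B1 C G1) := by ring
  omega

/-- rigidity in rank one: an automorphism preserving `B¹`, `P_j`, `Y_j` and fixing `X_j` pointwise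
fixes `Y_j` pointwise -/
theorem eq_on_Y [Finite ↥G1] {β : ↥G1 ≃* ↥G1} (hB : Pres β (B1 C G1)) {j : ι}
    (hP : Pres β (Pj T j)) (hY : Pres β (Y T j)) (hX : ∀ x ∈ X T j, β x = x) :
    ∀ y ∈ Y T j, β y = y := by
  -- `β(s_j) ∈ s_j B¹`
  have hs : ∃ b₀ ∈ B1 C G1, β (sJ T j) = sJ T j * b₀ := by
    rcases mem_Pj_cases T ((hP _).2 (sJ_mem_Pj T j)) with ⟨y, hy, b, hb, e⟩ | h
    · exfalso
      have e2 : sJ T j = β.symm y * β.symm b := by
        rw [← map_mul, ← e, β.symm_apply_apply]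
      exact sJ_ne_mul T ((hY.symm y).2 hy) ((hB.symm b).2 hb) e2
    · exact h
  obtain ⟨b₀, hb₀, hsb⟩ := hs
  intro y hy
  by_cases hy1 : y = 1
  · rw [hy1, map_one]
  have hyV : y ∈ V1 C G1 := Y_le_V1 T j hy
  have hyB : y⁻¹ ∉ B1 C G1 := by
    intro h
    apply hy1
    have := B1_inf_V1 h ((V1 C G1).inv_mem hyV)
    exact inv_eq_one.1 this
  have hyP : y⁻¹ ∈ (Pj T j : Set ↥G1) := (Pj T j).inv_mem (Y_le_Pj T j hy)
  rw [Pj_coe] at hyP
  rcases hyP with h | h
  · exact absurd h hyB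
  obtain ⟨b, hb, c, hc, e⟩ := exists_nf T h
  have ey : y = c⁻¹ * (sJ T j)⁻¹ * b⁻¹ := by
    have : y = (y⁻¹)⁻¹ := (inv_inv y).symm
    rw [this, e]; group
  have e1 : y⁻¹ * β y = b * (sJ T j * β (sJ T j)⁻¹) * (β b)⁻¹ := by
    rw [e]
    conv_lhs => rw [ey]
    rw [map_mul, map_mul, map_inv, map_inv, map_inv, hX c hc]
    group
  have h2 : sJ T j * β (sJ T j)⁻¹ ∈ B1 C G1 := by
    rw [map_inv, hsb]
    have : sJ T j * (sJ T j * b₀)⁻¹ = sJ T j * b₀⁻¹ * (sJ T j)⁻¹ := by group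
    rw [this]
    -- `s b₀⁻¹ s⁻¹ ∈ B¹` since `β(s⁻¹) ∈ P_j \ Y_j B¹`
    have hsq : sJ T j * sJ T j ∈ B1 C G1 := sq_mem' T _ (sJ_mem_S T j)
    rcases mem_Pj_cases T ((hP _).2 ((Pj T j).inv_mem (sJ_mem_Pj T j))) with
      ⟨y', hy', b', hb', e'⟩ | ⟨b', hb', e'⟩
    · exfalso
      have e2 : (sJ T j)⁻¹ = β.symm y' * β.symm b' := by
        rw [← map_mul, ← e', β.symm_apply_apply]
      refine sJ_ne_mul T ((hY.symm y').2 hy')
        ((B1 C G1).mul_mem ((hB.symm b').2 hb') hsq) ?_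
      rw [← mul_assoc, ← e2]; group
    · rw [map_inv, hsb] at e'
      have : sJ T j * b₀⁻¹ * (sJ T j)⁻¹ = (sJ T j * sJ T j) * b' := by
        have e3 : b₀⁻¹ * (sJ T j)⁻¹ = sJ T j * b' := by
          rw [← e']; group
        calc sJ T j * b₀⁻¹ * (sJ T j)⁻¹ = sJ T j * (b₀⁻¹ * (sJ T j)⁻¹) := by group
          _ = sJ T j * (sJ T j * b') := by rw [e3]
          _ = _ := by group
      rw [this]
      exact (B1 C G1).mul_mem hsq hb'
  have h3 : y⁻¹ * β y ∈ B1 C G1 := by
    rw [e1]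
    exact (B1 C G1).mul_mem ((B1 C G1).mul_mem hb h2) ((B1 C G1).inv_mem ((hB b).2 hb))
  have h4 : y⁻¹ * β y ∈ V1 C G1 :=
    (V1 C G1).mul_mem ((V1 C G1).inv_mem hyV) (Y_le_V1 T j ((hY y).2 hy))
  have := B1_inf_V1 h3 h4
  have e5 : β y = y * (y⁻¹ * β y) := by group
  rw [e5, this, mul_one]

end Cfsg.Agent.Helper11.FixAut
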