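import Mathlib
import Cfsg.Agent.Helper11.FixAutB

/-!
# Automorphisms of a group of fixed points with a split `(B, N)`-pair: normalisation

Up to an inner automorphism, an automorphism preserving `U¹` also preserves the opposite subgroup
`V¹ = n₀ U¹ n₀⁻¹`; it then preserves `H¹`, and the root subgroups `X_j` when these are conjugate to
the `Y_j` under `n₀`.
-/

set_option autoImplicit false
set_option linter.unusedSectionVars false
set_option linter.unusedVariables false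

namespace Cfsg.Agent.Helper11.FixAut

open Cfsg.Agent.Helper11.FixBN Cfsg.Agent.Helper2.BN

variable {Γ : Type*} [Group Γ] {C : Ctx Γ} {G1 : Subgroup Γ} {ι : Type*} (T : Tw C G1 ι)

/-- the weak normal form `g = b n c`, `c ∈ U¹` -/
theorem exists_bnc (g : ↥G1) : ∃ b ∈ B1 C G1, ∃ n ∈ N' T, ∃ c ∈ U1 C G1, g = b * n * c := by
  obtain ⟨n, hn, hC⟩ := exists_mem_C (P := bnPair' T) g
  obtain ⟨b₁, hb₁, b₂, hb₂, e⟩ := (mem_C_iff (bnPair' T)).1 hC
  obtain ⟨u, hu, h, hh, e2⟩ := (mem_B1_iff T).1 (((B1 C G1).inv_mem hb₂))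
  have hh' : h ∈ N' T := Subgroup.mem_sup_right hh
  refine ⟨b₁, hb₁, n * h⁻¹, (N' T).mul_mem hn ((N' T).inv_mem hh'), u⁻¹,
    (U1 C G1).inv_mem hu, ?_⟩
  rw [e]
  have : b₂ = (u * h)⁻¹ := by
    rw [← e2, inv_inv]
  rw [this]; group

include T in
/-- if no non-trivial element of `U¹` is conjugated into `B¹` by `n`, then `n` conjugates `U¹` into
`V¹` -/
theorem conj_mem_V1_of_forall {n : ↥G1} (hn : n ∈ N1 C G1)
    (h1 : ∀ w ∈ U1 C G1, n * w * n⁻¹ ∈ B1 C G1 → w = 1) :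
    ∀ u ∈ U1 C G1, n * u * n⁻¹ ∈ V1 C G1 := by
  intro u hu
  have hnN : (n : Γ) ∈ C.N := mem_N1.1 hn
  have hnf : C.sg (n : Γ) = n := T.hfix _ n.2
  have hnG : (n : Γ) ∈ C.G0 := C.hN hnN
  obtain ⟨a, ha, hna, c, hc, hcV, e⟩ := C.adec _ hnN _ (mem_U1.1 hu)
  have huf : C.sg (u : Γ) = u := T.hfix _ u.2
  -- the parts are fixed
  have e2 : C.sg a * C.sg c = a * c := by
    rw [← C.sg_mul _ (C.hU ha) _ (C.hU hc), ← e, huf]
  have hsa : (n : Γ) * C.sg a * (n : Γ)⁻¹ ∈ C.U := by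
    have := C.sgU _ hna
    rwa [C.sg_conj hnG (C.hU ha), hnf] at this
  have hsc : (n : Γ) * C.sg c * (n : Γ)⁻¹ ∈ C.V := by
    have := C.sgV _ hcV
    rwa [C.sg_conj hnG (C.hU hc), hnf] at this
  have e3 : a⁻¹ * C.sg a = c * (C.sg c)⁻¹ := by
    have : C.sg a = a * c * (C.sg c)⁻¹ := by rw [← e2]; group
    rw [this]; group
  have h4 : (n : Γ) * (a⁻¹ * C.sg a) * (n : Γ)⁻¹ = 1 := by
    apply C.U_inf_V
    · have : (n : Γ) * (a⁻¹ * C.sg a) * (n : Γ)⁻¹ =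
          ((n : Γ) * a * (n : Γ)⁻¹)⁻¹ * ((n : Γ) * C.sg a * (n : Γ)⁻¹) := by group
      rw [this]
      exact C.U.mul_mem (C.U.inv_mem hna) hsa
    · rw [e3]
      have : (n : Γ) * (c * (C.sg c)⁻¹) * (n : Γ)⁻¹ =
          ((n : Γ) * c * (n : Γ)⁻¹) * ((n : Γ) * C.sg c * (n : Γ)⁻¹)⁻¹ := by group
      rw [this]
      exact C.V.mul_mem hcV (C.V.inv_mem hsc)
  have hfa : C.sg a = a := by
    have h5 : a⁻¹ * C.sg a = 1 := by
      have : a⁻¹ * C.sg a = (n : Γ)⁻¹ * ((n : Γ) * (a⁻¹ * C.sg a) * (n : Γ)⁻¹) * (n : Γ) := by group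
      rw [this, h4]; group
    exact (inv_mul_eq_one.1 h5).symm
  have haG : a ∈ G1 := T.hUfix a ha hfa
  have ha1 : (⟨a, haG⟩ : ↥G1) = 1 := by
    apply h1 _ (mem_U1.2 ha)
    rw [mem_B1]
    simp only [Subgroup.coe_mul, Subgroup.coe_inv]
    exact C.U_le_B hna
  have ha1' : a = 1 := congrArg Subtype.val ha1
  rw [mem_V1]
  simp only [Subgroup.coe_mul, Subgroup.coe_inv]
  rw [e, ha1', one_mul]
  exact hcV

section opp

variable [Finite ↥G1] (n0 : ↥G1)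
  (hV : ∀ y : ↥G1, y ∈ V1 C G1 ↔ n0⁻¹ * y * n0 ∈ U1 C G1)

include T hV in
/-- if `β` preserves `U¹` then `β(V¹)` is conjugate to `V¹` under `B¹` -/
theorem exists_conj_V1
    {β : ↥G1 ≃* ↥G1} (hU : Pres β (U1 C G1)) :
    ∃ b ∈ B1 C G1, Pres (β.trans (MulAut.conj b⁻¹)) (V1 C G1) := by
  have hPB := pres_B1 T hU
  obtain ⟨b, hb, n, hn, c, hc, e⟩ := exists_bnc T (β n0)
  have c1 : ∀ w ∈ U1 C G1, n * w * n⁻¹ ∈ B1 C G1 → w = 1 := by
    intro w hw hwB
    have hw' : c⁻¹ * w * c ∈ U1 C G1 :=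
      (U1 C G1).mul_mem ((U1 C G1).mul_mem ((U1 C G1).inv_mem hc) hw) hc
    obtain ⟨z, hz⟩ : ∃ z, z = β.symm (c⁻¹ * w * c) := ⟨_, rfl⟩
    have hzU : z ∈ U1 C G1 := by rw [hz]; exact (hU.symm _).2 hw'
    have hβz : β z = c⁻¹ * w * c := by rw [hz]; exact β.apply_symm_apply _
    have hvV : n0 * z * n0⁻¹ ∈ V1 C G1 := by
      rw [hV]
      have : n0⁻¹ * (n0 * z * n0⁻¹) * n0 = z := by group
      rw [this]; exact hzU
    have hβv : β (n0 * z * n0⁻¹) ∈ B1 C G1 := by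
      rw [map_mul, map_mul, map_inv, hβz, e]
      have : b * n * c * (c⁻¹ * w * c) * (b * n * c)⁻¹ = b * (n * w * n⁻¹) * b⁻¹ := by group
      rw [this]
      exact (B1 C G1).mul_mem ((B1 C G1).mul_mem hb hwB) ((B1 C G1).inv_mem hb)
    have hvB := (hPB _).1 hβv
    have hv1 := B1_inf_V1 hvB hvV
    have hz1 : z = 1 := by
      have : z = n0⁻¹ * (n0 * z * n0⁻¹) * n0 := by group
      rw [this, hv1]; group
    have : c⁻¹ * w * c = 1 := by rw [← hβz, hz1, map_one]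
    have e2 : w = c * (c⁻¹ * w * c) * c⁻¹ := by group
    rw [e2, this]; group
  have c3 := conj_mem_V1_of_forall T (N'_le_N1 T hn) c1
  refine ⟨b, hb, ?_⟩
  apply pres_of_maps
  intro v hv
  rw [MulEquiv.trans_apply, MulAut.conj_apply, inv_inv]
  obtain ⟨z, hz⟩ : ∃ z, z = n0⁻¹ * v * n0 := ⟨_, rfl⟩
  have hzU : z ∈ U1 C G1 := by rw [hz]; exact (hV v).1 hv
  have hv' : v = n0 * z * n0⁻¹ := by rw [hz]; group
  have hβzU : β z ∈ U1 C G1 := (hU z).2 hzU
  rw [hv', map_mul, map_mul, map_inv, e]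
  have : b⁻¹ * (b * n * c * β z * (b * n * c)⁻¹) * b = n * (c * β z * c⁻¹) * n⁻¹ := by group
  rw [this]
  exact c3 _ ((U1 C G1).mul_mem ((U1 C G1).mul_mem hc hβzU) ((U1 C G1).inv_mem hc))

include T hV in
/-- every automorphism is, up to an inner automorphism, one preserving `U¹` and `V¹` -/
theorem exists_normalize (p : ℕ) [Fact p.Prime] (P : Sylow p ↥G1)
    (hP : (P : Subgroup ↥G1) = U1 C G1)
    (α : ↥G1 ≃* ↥G1) :
    ∃ x : ↥G1, Pres (α.trans (MulAut.conj x)) (U1 C G1) ∧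
      Pres (α.trans (MulAut.conj x)) (V1 C G1) := by
  -- `α(U¹)` is a Sylow subgroup
  let α' : MulAut ↥G1 := α
  obtain ⟨g, hg⟩ := MulAction.exists_smul_eq ↥G1 (α' • P) P
  have h1 : Pres (α.trans (MulAut.conj g)) (U1 C G1) := by
    apply pres_of_maps
    intro y hy
    rw [MulEquiv.trans_apply, MulAut.conj_apply, ← hP]
    have e := congrArg (fun Q : Sylow p ↥G1 => (Q : Subgroup ↥G1)) hg
    simp only [Sylow.coe_subgroup_smul, Sylow.pointwise_smul_def] at e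
    rw [← e]
    rw [Subgroup.mem_pointwise_smul_iff_inv_smul_mem, Subgroup.mem_pointwise_smul_iff_inv_smul_mem]
    simp only [MulAut.smul_def, MulAut.inv_apply, MulAut.conj_symm_apply]
    have : g⁻¹ * (g * α y * g⁻¹) * g = α y := by group
    rw [this]
    show α.symm (α y) ∈ _
    rw [α.symm_apply_apply, hP]
    exact hy
  obtain ⟨b, hb, hbV⟩ := exists_conj_V1 T n0 hV h1
  refine ⟨b⁻¹ * g, ?_, ?_⟩
  · have e : α.trans (MulAut.conj (b⁻¹ * g)) =
        (α.trans (MulAut.conj g)).trans (MulAut.conj b⁻¹) := by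
      ext y
      simp only [MulEquiv.trans_apply, MulAut.conj_apply]
      group
    rw [e]
    apply h1.trans
    apply pres_conj
    rw [normalizer_U1 T]
    exact (B1 C G1).inv_mem hb
  · have e : α.trans (MulAut.conj (b⁻¹ * g)) =
        (α.trans (MulAut.conj g)).trans (MulAut.conj b⁻¹) := by
      ext y
      simp only [MulEquiv.trans_apply, MulAut.conj_apply]
      group
    rw [e]
    exact hbV

include T hV in
/-- `B¹ ∩ N(V¹) = H¹` -/
theorem B1_inf_normalizer_V1 (hn0 : n0 ∈ N1 C G1) :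
    B1 C G1 ⊓ Subgroup.normalizer ((V1 C G1 : Subgroup ↥G1) : Set ↥G1) = H1 C G1 := by
  have hn0N : (n0 : Γ) ∈ C.N := mem_N1.1 hn0
  apply le_antisymm
  · rintro g ⟨hgB, hgN⟩
    have hgN := Subgroup.mem_normalizer_iff.1 hgN
    have hgB : g ∈ B1 C G1 := hgB
    have h1 : n0⁻¹ * g * n0 ∈ Subgroup.normalizer ((U1 C G1 : Subgroup ↥G1) : Set ↥G1) := by
      rw [Subgroup.mem_normalizer_iff]
      intro u
      have e : n0⁻¹ * g * n0 * u * (n0⁻¹ * g * n0)⁻¹ =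
          n0⁻¹ * (g * (n0 * u * n0⁻¹) * g⁻¹) * n0 := by group
      rw [e, ← hV, ← hgN, hV]
      have : n0⁻¹ * (n0 * u * n0⁻¹) * n0 = u := by group
      rw [this]
    rw [normalizer_U1 T] at h1
    obtain ⟨u, hu, h, hh, e⟩ := (mem_B1_iff T).1 h1
    have hv : n0 * u * n0⁻¹ ∈ V1 C G1 := by
      rw [hV]
      have : n0⁻¹ * (n0 * u * n0⁻¹) * n0 = u := by group
      rw [this]; exact hu
    have hh' : n0 * h * n0⁻¹ ∈ H1 C G1 := by
      rw [mem_H1]
      simp only [Subgroup.coe_mul, Subgroup.coe_inv]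
      exact C.hNH _ hn0N _ (mem_H1.1 hh)
    have eg : g = (n0 * u * n0⁻¹) * (n0 * h * n0⁻¹) := by
      have : g = n0 * (n0⁻¹ * g * n0) * n0⁻¹ := by group
      rw [this, e]; group
    have hvB : n0 * u * n0⁻¹ ∈ B1 C G1 := by
      have : n0 * u * n0⁻¹ = g * (n0 * h * n0⁻¹)⁻¹ := by rw [eg]; group
      rw [this]
      exact (B1 C G1).mul_mem hgB ((B1 C G1).inv_mem (H1_le_B1 T hh'))
    have := B1_inf_V1 hvB hv
    rw [eg, this, one_mul]
    exact hh'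
  · intro h hh
    refine ⟨H1_le_B1 T hh, ?_⟩
    apply Subgroup.mem_normalizer_iff.2
    intro v
    have hh' : n0⁻¹ * h * n0 ∈ B1 C G1 := by
      apply H1_le_B1 T
      rw [mem_H1]
      simp only [Subgroup.coe_mul, Subgroup.coe_inv]
      have := C.hNH _ (C.N.inv_mem hn0N) _ (mem_H1.1 hh)
      rwa [inv_inv] at this
    have hnorm : n0⁻¹ * h * n0 ∈ Subgroup.normalizer ((U1 C G1 : Subgroup ↥G1) : Set ↥G1) := by
      rw [normalizer_U1 T]; exact hh'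
    rw [hV v, hV (h * v * h⁻¹)]
    have e : n0⁻¹ * (h * v * h⁻¹) * n0 =
        (n0⁻¹ * h * n0) * (n0⁻¹ * v * n0) * (n0⁻¹ * h * n0)⁻¹ := by group
    rw [e]
    exact (Subgroup.mem_normalizer_iff.1 hnorm) _

include T hV in
/-- an automorphism preserving `U¹` and `V¹` preserves `H¹` -/
theorem pres_H1 (hn0 : n0 ∈ N1 C G1) {β : ↥G1 ≃* ↥G1} (hU : Pres β (U1 C G1))
    (hVp : Pres β (V1 C G1)) : Pres β (H1 C G1) :=
  ((pres_B1 T hU).inf hVp.normalizer).eq_of_eq (B1_inf_normalizer_V1 T n0 hV hn0)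

include hV in
/-- an automorphism preserving `U¹` and `V¹` preserves the root subgroups `X_j`, if these are the
conjugates of the `Y_j` under `n₀` and have pairwise distinct orders -/
theorem pres_X (hU' : ∀ y : ↥G1, y ∈ U1 C G1 ↔ n0⁻¹ * y * n0 ∈ V1 C G1)
    (hcard : ∀ j j', Nat.card (X T j) = Nat.card (X T j') → j = j')
    {j : ι} (hXY : ∀ y : ↥G1, y ∈ X T j ↔ n0⁻¹ * y * n0 ∈ Y T j)
    {β : ↥G1 ≃* ↥G1} (hU : Pres β (U1 C G1)) (hVp : Pres β (V1 C G1)) : Pres β (X T j) := by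
  set β' : ↥G1 ≃* ↥G1 := (MulAut.conj n0).trans (β.trans (MulAut.conj n0⁻¹)) with hβ'
  have happ : ∀ y, β' y = n0⁻¹ * β (n0 * y * n0⁻¹) * n0 := by
    intro y
    simp only [hβ', MulEquiv.trans_apply, MulAut.conj_apply, inv_inv]
  have h1 : Pres β' (U1 C G1) := by
    intro y
    rw [happ, ← hV, hVp, hV]
    have : n0⁻¹ * (n0 * y * n0⁻¹) * n0 = y := by group
    rw [this]
  have h2 : Pres β' (V1 C G1) := by
    intro y
    rw [happ, ← hU', hU, hU']
    have : n0⁻¹ * (n0 * y * n0⁻¹) * n0 = y := by group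
    rw [this]
  have h3 : Pres β' (Y T j) := pres_Y T h2 (pres_Pj T (pres_B1 T h1) hcard j)
  intro y
  rw [hXY, hXY y, ← h3 (n0⁻¹ * y * n0), happ]
  have : n0 * (n0⁻¹ * y * n0) * n0⁻¹ = y := by group
  rw [this]

end opp

end Cfsg.Agent.Helper11.FixAut
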