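import Mathlib
import Cfsg.Agent.Helper2.Tw.Core
import Cfsg.Agent.Helper11.TwF4Sig

set_option autoImplicit false
set_option linter.unusedSectionVars false
set_option linter.unusedVariables false

/-! The core of `B¹` in `²F₄(q)` is trivial. -/

namespace Cfsg.Agent.Helper11.TwF4

open Cfsg.Lie Cfsg.Agent.Helper6 Cfsg.Agent.Helper2.Tw Cfsg.Agent.Helper11.FixBN

variable {K : Type*} [Field K]

theorem nWr_eq_nW {D : ChevalleyDatum} (hB : BasicOK D) (L : List ℕ) :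
    nWr hB K L = nW hB K L.reverse := by
  induction L with
  | nil => rfl
  | cons j L ih =>
    rw [nWr, List.reverse_cons, nW_append, ih]
    congr 1
    simp [nW]

set_option maxRecDepth 100000 in
theorem w0_chk : w0Chk chevF4 (chevF4.nroots / 2) (chainW 4).reverse = true := by decide +kernel

/-- the longest element conjugates `U` to `V` -/
theorem map_conj_w0 : (chevF4.posUnipotent K).map
    (MulAut.conj (nWr hBF4 K (chainW 4))).toMonoidHom = chevF4.negUnipotent K := by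
  rw [nWr_eq_nW]
  exact (map_conj_nW (bnF4 (K := K)) w0_chk).2

theorem simple_F4 : chevF4.simple 0 = f4p1 ∧ chevF4.simple 1 = f4a ∧ chevF4.simple 2 = f4b ∧
    chevF4.simple 3 = f4p4 ∧ chevF4.rank = 4 := by decide

/-- a torus element commuting with the generators modulo `H` has trivial fundamental characters -/
theorem core_step (θ : ℕ) (k : GL chevF4.Idx K) (c : ℕ → K) (hc : ∀ i, c i ≠ 0)
    (hk : (k : Matrix chevF4.Idx chevF4.Idx K) = torMat chevF4 K c)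
    (hall : ∀ x ∈ twistedF4 K θ, x * k * x⁻¹ * k⁻¹ ∈ chevF4.diagonalSubgroup K) :
    ∀ i < chevF4.rank, torChar chevF4 c (chevF4.simple i) = 1 := by
  have Δ := bnF4 (K := K)
  have hUH : ∀ x ∈ chevF4.posUnipotent K, x ∈ chevF4.diagonalSubgroup K → x = 1 := by
    intro x hx hx'
    have : x ∈ chevF4.posUnipotent K ⊓ chevF4.diagonalSubgroup K := ⟨hx, hx'⟩
    rwa [posUnipotent_inf_diagonal Δ.hB Δ.hH Δ.good, Subgroup.mem_bot] at this
  have hp : ∀ r ∈ [f4p1, f4p4, f4a, f4b, f4ab, f4aab], chevF4.IsPosRoot r := by decide +kernel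
  have hlt : ∀ r ∈ [f4p1, f4p4, f4a, f4b, f4ab, f4aab], r < chevF4.nroots := by decide
  have hU : ∀ r ∈ [f4p1, f4p4, f4a, f4b, f4ab, f4aab], ∀ t : K,
      xU hBF4 r t ∈ chevF4.posUnipotent K := fun r hr t => Δ.xU_pos_mem (hp r hr) t
  have hconj : ∀ r ∈ [f4p1, f4p4, f4a, f4b, f4ab, f4aab], ∀ t : K,
      k * xU hBF4 r t * k⁻¹ = xU hBF4 r (torChar chevF4 c r * t) :=
    fun r hr t => conj_tor Δ hc hk (hlt r hr) t
  -- the class of type `A₁ × A₁`
  have h2 : torChar chevF4 c f4p1 = 1 ∧ torChar chevF4 c f4p4 = 1 := by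
    have hx := hall _ (pairGen_pos_mem θ (1 : K))
    have hxU : pairGen θ f4p1 f4p4 (1 : K) ∈ chevF4.posUnipotent K :=
      Subgroup.mul_mem _ (hU _ (by simp) _) (hU _ (by simp) _)
    have e : k * pairGen θ f4p1 f4p4 (1 : K) * k⁻¹ =
        xU hBF4 f4p1 (torChar chevF4 c f4p1 * (1 : K) ^ θ) *
          xU hBF4 f4p4 (torChar chevF4 c f4p4 * 1) := by
      rw [← hconj f4p1 (by simp), ← hconj f4p4 (by simp)]
      unfold pairGen; group
    have hkU : k * pairGen θ f4p1 f4p4 (1 : K) * k⁻¹ ∈ chevF4.posUnipotent K := by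
      rw [e]
      exact Subgroup.mul_mem _ (hU _ (by simp) _) (hU _ (by simp) _)
    have h1 := hUH (pairGen θ f4p1 f4p4 (1 : K) * (k * pairGen θ f4p1 f4p4 (1 : K) * k⁻¹)⁻¹)
      (Subgroup.mul_mem _ hxU (Subgroup.inv_mem _ hkU)) (by
        have e' : pairGen θ f4p1 f4p4 (1 : K) * (k * pairGen θ f4p1 f4p4 (1 : K) * k⁻¹)⁻¹ =
            pairGen θ f4p1 f4p4 (1 : K) * k * (pairGen θ f4p1 f4p4 (1 : K))⁻¹ * k⁻¹ := by group
        rw [e']; exact hx)
    have h3 : pairGen θ f4p1 f4p4 (1 : K) = k * pairGen θ f4p1 f4p4 (1 : K) * k⁻¹ :=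
      mul_inv_eq_one.1 h1
    rw [e] at h3
    unfold pairGen at h3
    obtain ⟨e1, e2⟩ := W2_inj h3
    rw [one_pow, mul_one] at e1
    rw [mul_one] at e2
    exact ⟨e1.symm, e2.symm⟩
  -- the class of type `B₂`
  have h4 : torChar chevF4 c f4a = 1 ∧ torChar chevF4 c f4b = 1 := by
    have hx := hall _ (b2Gen_pos_mem θ (1 : K) 0)
    obtain ⟨t₃, ht₃⟩ : ∃ t₃ : K, t₃ = (1 : K) ^ (θ + 1) + 0 := ⟨_, rfl⟩
    obtain ⟨t₄, ht₄⟩ : ∃ t₄ : K, t₄ = (0 : K) ^ (2 * θ) := ⟨_, rfl⟩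
    have hg : b2Gen θ f4a f4b f4ab f4aab (1 : K) 0 = W4 f4a f4b f4ab f4aab 1 1 t₃ t₄ := by
      unfold b2Gen
      rw [one_pow, ← ht₃, ← ht₄]
    rw [hg] at hx
    have hxU : W4 f4a f4b f4ab f4aab (1 : K) 1 t₃ t₄ ∈ chevF4.posUnipotent K :=
      Subgroup.mul_mem _ (Subgroup.mul_mem _ (Subgroup.mul_mem _ (hU _ (by simp) _)
        (hU _ (by simp) _)) (hU _ (by simp) _)) (hU _ (by simp) _)
    have e : k * W4 f4a f4b f4ab f4aab (1 : K) 1 t₃ t₄ * k⁻¹ =
        W4 f4a f4b f4ab f4aab (torChar chevF4 c f4a * 1) (torChar chevF4 c f4b * 1)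
          (torChar chevF4 c f4ab * t₃) (torChar chevF4 c f4aab * t₄) := by
      unfold W4
      rw [← hconj f4a (by simp), ← hconj f4b (by simp), ← hconj f4ab (by simp),
        ← hconj f4aab (by simp)]
      group
    have hkU : k * W4 f4a f4b f4ab f4aab (1 : K) 1 t₃ t₄ * k⁻¹ ∈ chevF4.posUnipotent K := by
      rw [e]
      exact Subgroup.mul_mem _ (Subgroup.mul_mem _ (Subgroup.mul_mem _ (hU _ (by simp) _)
        (hU _ (by simp) _)) (hU _ (by simp) _)) (hU _ (by simp) _)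
    have h1 := hUH (W4 f4a f4b f4ab f4aab (1 : K) 1 t₃ t₄ *
        (k * W4 f4a f4b f4ab f4aab (1 : K) 1 t₃ t₄ * k⁻¹)⁻¹)
      (Subgroup.mul_mem _ hxU (Subgroup.inv_mem _ hkU)) (by
        have e' : W4 f4a f4b f4ab f4aab (1 : K) 1 t₃ t₄ *
            (k * W4 f4a f4b f4ab f4aab (1 : K) 1 t₃ t₄ * k⁻¹)⁻¹ =
            W4 f4a f4b f4ab f4aab (1 : K) 1 t₃ t₄ * k *
              (W4 f4a f4b f4ab f4aab (1 : K) 1 t₃ t₄)⁻¹ * k⁻¹ := by group
        rw [e']; exact hx)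
    have h3 : W4 f4a f4b f4ab f4aab (1 : K) 1 t₃ t₄ =
        k * W4 f4a f4b f4ab f4aab (1 : K) 1 t₃ t₄ * k⁻¹ := mul_inv_eq_one.1 h1
    rw [e] at h3
    obtain ⟨e1, e2, -, -⟩ := W4_inj h3
    rw [mul_one] at e1 e2
    exact ⟨e1.symm, e2.symm⟩
  intro i hi
  rw [simple_F4.2.2.2.2] at hi
  interval_cases i
  · rw [simple_F4.1]; exact h2.1
  · rw [simple_F4.2.1]; exact h4.1
  · rw [simple_F4.2.2.1]; exact h4.2
  · rw [simple_F4.2.2.2.1]; exact h2.2

/-- the core of `B¹` is trivial -/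
theorem core_F4 [Fintype K] [CharP K 2] {θ : ℕ} (hθ : θ ≠ 0) :
    ((chevF4.borelSubgroup K ⊓ twistedF4 K θ).subgroupOf (twistedF4 K θ)).normalCore = ⊥ :=
  core_eq_bot (bnF4 (K := K)) (twistedF4 K θ) (chain_mem_and_fixed (K := K) hθ 4).1
    ((bnF4 (K := K)).nWr_mem_monomial (chainW_lt 4)) map_conj_w0 (core_step θ)

end Cfsg.Agent.Helper11.TwF4
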