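import Mathlib
import Cfsg.Agent.Helper11.FixBNB

/-!
# The order of the group of fixed points: the sum over the cells
-/

set_option autoImplicit false
set_option linter.unusedSectionVars false
set_option linter.unusedVariables false

namespace Cfsg.Agent.Helper11.FixBN

open Cfsg.Agent.Helper2.BN

variable {Γ : Type*} [Group Γ] {C : Ctx Γ} {G1 : Subgroup Γ} {ι : Type*} (T : Tw C G1 ι)

include T in
/-- the fixed points of `B` are the product of those of `U` and of `H` -/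
theorem card_B1 : Nat.card ↥(C.B ⊓ G1) = Nat.card ↥(C.U ⊓ G1) * Nat.card ↥(C.H ⊓ G1) := by
  have hmem : ∀ p : ↥(C.U ⊓ G1) × ↥(C.H ⊓ G1), (p.1 : Γ) * (p.2 : Γ) ∈ C.B ⊓ G1 := by
    rintro ⟨⟨u, hu, huG⟩, ⟨h, hh, hhG⟩⟩
    exact ⟨C.B.mul_mem (C.U_le_B hu) (C.H_le_B hh), G1.mul_mem huG hhG⟩
  have hbij : Function.Bijective (fun p : ↥(C.U ⊓ G1) × ↥(C.H ⊓ G1) =>
      (⟨(p.1 : Γ) * (p.2 : Γ), hmem p⟩ : ↥(C.B ⊓ G1))) := by
    constructor
    · rintro ⟨⟨u, hu, huG⟩, ⟨h, hh, hhG⟩⟩ ⟨⟨u', hu', huG'⟩, ⟨h', hh', hhG'⟩⟩ e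
      have e' : u * h = u' * h' := congrArg Subtype.val e
      have e1 : u'⁻¹ * u = h' * h⁻¹ := by
        have : u = u' * h' * h⁻¹ := by rw [← e']; group
        rw [this]; group
      have h1 : u'⁻¹ * u = 1 := by
        apply C.hUH _ (C.U.mul_mem (C.U.inv_mem hu') hu)
        rw [e1]
        exact C.H.mul_mem hh' (C.H.inv_mem hh)
      have huu : u = u' := (inv_mul_eq_one.1 h1).symm
      subst huu
      have hhh : h = h' := mul_left_cancel e'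
      subst hhh
      rfl
    · rintro ⟨b, hb, hbG⟩
      obtain ⟨u, hu, h, hh, hfu, hfh, rfl⟩ := C.B_fixed hb (T.hfix b hbG)
      have huG : u ∈ G1 := T.hUfix u hu hfu
      have hhG : h ∈ G1 := by
        have : h = u⁻¹ * (u * h) := by group
        rw [this]
        exact G1.mul_mem (G1.inv_mem huG) hbG
      exact ⟨(⟨u, hu, huG⟩, ⟨h, hh, hhG⟩), rfl⟩
  rw [← Nat.card_congr (Equiv.ofBijective _ hbij), Nat.card_prod]

include T in
/-- the order of `G¹` as a sum over representatives of `N¹/H¹` -/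
theorem card_G1 [Finite Γ] {κ : Type*} [Fintype κ] (reps : κ → Γ)
    (hN : ∀ w, reps w ∈ C.N) (hG : ∀ w, reps w ∈ G1)
    (hcov : ∀ n ∈ C.N, n ∈ G1 → ∃ w, (reps w)⁻¹ * n ∈ C.H)
    (hinj : ∀ w w', (reps w)⁻¹ * reps w' ∈ C.H → w = w') :
    Nat.card ↥G1 = Nat.card ↥(C.B ⊓ G1) * ∑ w, Nat.card (C.FixUn (reps w)) := by
  have hmem : ∀ x : (Σ w, ↥(C.B ⊓ G1) × C.FixUn (reps w)),
      (x.2.1 : Γ) * reps x.1 * (x.2.2 : Γ) ∈ G1 := by
    rintro ⟨w, ⟨b, hb, hbG⟩, ⟨c, hc, hcf⟩⟩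
    exact G1.mul_mem (G1.mul_mem hbG (hG w)) (T.hUfix c (C.Un_le_U _ hc) hcf)
  have hbij : Function.Bijective (fun x : (Σ w, ↥(C.B ⊓ G1) × C.FixUn (reps w)) =>
      (⟨(x.2.1 : Γ) * reps x.1 * (x.2.2 : Γ), hmem x⟩ : ↥G1)) := by
    constructor
    · rintro ⟨w, ⟨b, hb, hbG⟩, ⟨c, hc, hcf⟩⟩ ⟨w', ⟨b', hb', hbG'⟩, ⟨c', hc', hcf'⟩⟩ e
      have e' : b * reps w * c = b' * reps w' * c' := congrArg Subtype.val e
      obtain ⟨hcU, hcV⟩ := C.mem_Un.1 hc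
      obtain ⟨hcU', hcV'⟩ := C.mem_Un.1 hc'
      have e2 : reps w' = (b'⁻¹ * b) * reps w * (c * c'⁻¹) := by
        have : reps w' = b'⁻¹ * (b' * reps w' * c') * c'⁻¹ := by group
        rw [this, ← e']; group
      have hH := C.bru_un _ (hN w) _ (hN w') _ (C.B.mul_mem (C.B.inv_mem hb') hb) _
        (C.U_le_B (C.U.mul_mem hcU (C.U.inv_mem hcU'))) e2
      have hww := hinj w w' hH
      subst hww
      obtain ⟨rfl, rfl⟩ := C.nf_unique hb hb' hcU hcU' hcV hcV' e'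
      rfl
    · rintro ⟨g, hg⟩
      obtain ⟨n', hn', hC⟩ := exists_mem_C (P := bnPair' T) (⟨g, hg⟩ : ↥G1)
      obtain ⟨b, hb, b', hb', e⟩ := (mem_C_iff (bnPair' T)).1 hC
      have hn'N := mem_N1.1 (N'_le_N1 T hn')
      have hbB : (b : Γ) ∈ C.B := mem_B1.1 hb
      have hb'B : (b' : Γ) ∈ C.B := mem_B1.1 hb'
      have e' : g = b * n' * b' := by
        have := congrArg Subtype.val e
        simpa only [Subgroup.coe_mul] using this
      obtain ⟨w, hw⟩ := hcov _ hn'N n'.2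
      have e2 : g = b * reps w * ((reps w)⁻¹ * n' * b') := by rw [e']; group
      obtain ⟨b₀, hb₀, c, hc, hcV, e3⟩ := C.nf_of_mem (hN w) hbB
        (C.B.mul_mem (C.H_le_B hw) hb'B) e2
      obtain ⟨-, hcf⟩ := C.nf_fixed (hN w) (T.hfix _ (hG w)) hb₀ hc hcV e3 (T.hfix g hg)
      have hcG : c ∈ G1 := T.hUfix c hc hcf
      have hb₀G : b₀ ∈ G1 := by
        have : b₀ = g * c⁻¹ * (reps w)⁻¹ := by rw [e3]; group
        rw [this]
        exact G1.mul_mem (G1.mul_mem hg (G1.inv_mem hcG)) (G1.inv_mem (hG w))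
      refine ⟨⟨w, ⟨b₀, hb₀, hb₀G⟩, ⟨c, C.mem_Un.2 ⟨hc, hcV⟩, hcf⟩⟩, ?_⟩
      apply Subtype.ext
      exact e3.symm
  rw [← Nat.card_congr (Equiv.ofBijective _ hbij), Nat.card_sigma, Finset.mul_sum]
  apply Finset.sum_congr rfl
  intro w _
  rw [Nat.card_prod]

end Cfsg.Agent.Helper11.FixBN
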