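import Mathlib
import Cfsg.Agent.Helper6.Chev.TorusCard
import Cfsg.Agent.Helper6.Chev.TablesTorus
import Cfsg.Agent.Helper11.TwF4Sig

set_option autoImplicit false
set_option linter.unusedSectionVars false
set_option linter.unusedVariables false

/-! The torus `H¹ = H ∩ G¹` of `²F₄(q)`: parameters and the action of the twisted endomorphism. -/

namespace Cfsg.Agent.Helper11.TwF4

open Cfsg.Lie Cfsg.Agent.Helper6 Cfsg.Agent.Helper11.FixBN

variable {K : Type*} [Field K]

theorem rank_F4 : chevF4.rank = 4 := by decide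

/-- the four nodes -/
def i0 : Fin chevF4.rank := ⟨0, by decide⟩
def i1 : Fin chevF4.rank := ⟨1, by decide⟩
def i2 : Fin chevF4.rank := ⟨2, by decide⟩
def i3 : Fin chevF4.rank := ⟨3, by decide⟩

/-- the parameter with the given four entries -/
def vec4 (a b c d : Kˣ) : Fin chevF4.rank → Kˣ := fun j =>
  if j.val = 0 then a else if j.val = 1 then b else if j.val = 2 then c else d

theorem fin_cases4 (j : Fin chevF4.rank) : j = i0 ∨ j = i1 ∨ j = i2 ∨ j = i3 := by
  obtain ⟨j, hj⟩ := j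
  have hj' : j < 4 := by rw [← rank_F4]; exact hj
  interval_cases j
  · exact Or.inl rfl
  · exact Or.inr (Or.inl rfl)
  · exact Or.inr (Or.inr (Or.inl rfl))
  · exact Or.inr (Or.inr (Or.inr rfl))

theorem vec4_eta (c : Fin chevF4.rank → Kˣ) : c = vec4 (c i0) (c i1) (c i2) (c i3) := by
  funext j
  rcases fin_cases4 j with rfl | rfl | rfl | rfl <;> simp [vec4, i0, i1, i2, i3]

theorem vec4_mul (a b c d a' b' c' d' : Kˣ) :
    vec4 a b c d * vec4 a' b' c' d' = vec4 (a * a') (b * b') (c * c') (d * d') := by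
  funext j
  rcases fin_cases4 j with rfl | rfl | rfl | rfl <;> simp [vec4, i0, i1, i2, i3]

theorem vec4_inj {a b c d a' b' c' d' : Kˣ} (h : vec4 a b c d = vec4 a' b' c' d') :
    a = a' ∧ b = b' ∧ c = c' ∧ d = d' := by
  refine ⟨?_, ?_, ?_, ?_⟩
  · simpa [vec4, i0] using congrFun h i0
  · simpa [vec4, i1] using congrFun h i1
  · simpa [vec4, i2] using congrFun h i2
  · simpa [vec4, i3] using congrFun h i3

/-- the torus element with the given four parameters -/
noncomputable def tor4 (a b c d : Kˣ) : GL chevF4.Idx K := torHom chevF4 K (vec4 a b c d)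

theorem tor4_mul (a b c d a' b' c' d' : Kˣ) :
    tor4 a b c d * tor4 a' b' c' d' = tor4 (a * a') (b * b') (c * c') (d * d') := by
  unfold tor4
  rw [← map_mul, vec4_mul]

theorem tor4_one : tor4 (1 : Kˣ) 1 1 1 = 1 := by
  unfold tor4
  have : vec4 (1 : Kˣ) 1 1 1 = 1 := by
    funext j
    rcases fin_cases4 j with rfl | rfl | rfl | rfl <;> simp [vec4, i0, i1, i2, i3]
  rw [this, map_one]

theorem tor4_inv (a b c d : Kˣ) : (tor4 a b c d)⁻¹ = tor4 a⁻¹ b⁻¹ c⁻¹ d⁻¹ := by
  apply inv_eq_of_mul_eq_one_right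
  rw [tor4_mul, mul_inv_cancel, mul_inv_cancel, mul_inv_cancel, mul_inv_cancel, tor4_one]

/-- the character values of a torus element -/
theorem torChar_vec4 (a b c d : Kˣ) (u : ℕ) :
    torChar chevF4 (extPar chevF4 (vec4 a b c d)) u =
      (a : K) ^ chevF4.cartan 0 u * (b : K) ^ chevF4.cartan 1 u * (c : K) ^ chevF4.cartan 2 u *
        (d : K) ^ chevF4.cartan 3 u := by
  unfold torChar
  rw [rank_F4, Finset.prod_range_succ, Finset.prod_range_succ, Finset.prod_range_succ,
    Finset.prod_range_one]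
  simp [extPar, rank_F4, vec4]

theorem tor4_mem_diagonal (a b c d : Kˣ) : tor4 a b c d ∈ chevF4.diagonalSubgroup K := by
  have Δ := bnF4 (K := K)
  rw [← range_torHom Δ.hB Δ.hAll Δ.hH]
  exact ⟨_, rfl⟩

theorem exists_tor4 {g : GL chevF4.Idx K} (hg : g ∈ chevF4.diagonalSubgroup K) :
    ∃ a b c d : Kˣ, g = tor4 a b c d := by
  have Δ := bnF4 (K := K)
  rw [← range_torHom Δ.hB Δ.hAll Δ.hH] at hg
  obtain ⟨c, rfl⟩ := hg
  exact ⟨c i0, c i1, c i2, c i3, by unfold tor4; rw [← vec4_eta]⟩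

/-- injectivity of the parametrisation of the torus, over a finite field -/
theorem tor4_inj [Finite K] {a b c d a' b' c' d' : Kˣ} (h : tor4 a b c d = tor4 a' b' c' d') :
    a = a' ∧ b = b' ∧ c = c' ∧ d = d' := by
  have Δ := bnF4 (K := K)
  apply vec4_inj
  have hk : (torHom chevF4 K).ker = ⊥ := by
    rw [ker_torHom Δ.hB Δ.hAll Δ.hReach]
    apply (Subgroup.card_eq_one).1
    rw [card_ker_F4 Kˣ]
    apply Finset.prod_eq_one
    intro i _
    fin_cases i <;> simp
  exact (MonoidHom.ker_eq_bot_iff _).1 hk h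

end Cfsg.Agent.Helper11.TwF4
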