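import Mathlib
import Cfsg.Agent.Helper11.TwF4TorA

set_option autoImplicit false
set_option linter.unusedSectionVars false
set_option linter.unusedVariables false

/-! The torus of `²F₄(q)`: the action of the twisted endomorphism on the parameters, and the
upper bound for `H ∩ G¹`. -/

namespace Cfsg.Agent.Helper11.TwF4

open Cfsg.Lie Cfsg.Agent.Helper6 Cfsg.Agent.Helper11.FixBN

variable {K : Type*} [Field K]

/-- `h_{p_i}(t)` -/
noncomputable def hS (i : ℕ) (t : K) : GL chevF4.Idx K :=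
  wordU hBF4 (chevF4.hWord (chevF4.simple i) t)

theorem hS_val {i : ℕ} (hi : i < chevF4.rank) {t : K} (ht : t ≠ 0) :
    ((hS i t : GL chevF4.Idx K) : Matrix chevF4.Idx chevF4.Idx K) =
      dMat chevF4 K 1 (fun u => t ^ chevF4.cartan i u) := by
  have Δ := bnF4 (K := K)
  unfold hS
  rw [wordU_val]
  have h1 : chevF4.wordMat K (chevF4.hWord (chevF4.simple i) t) =
      chevF4.hMat K (chevF4.simple i) t := rfl
  rw [h1, hMat_simple_eq_diagonal Δ.hB (Δ.hAll i hi).hS (Δ.hAll i hi).hR ht]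
  rfl

theorem tor4_val (a b c d : Kˣ) :
    ((tor4 a b c d : GL chevF4.Idx K) : Matrix chevF4.Idx chevF4.Idx K) =
      dMat chevF4 K 1 (fun u => (a : K) ^ chevF4.cartan 0 u * (b : K) ^ chevF4.cartan 1 u *
        (c : K) ^ chevF4.cartan 2 u * (d : K) ^ chevF4.cartan 3 u) := by
  unfold tor4
  rw [torHom_val]
  unfold torMat
  congr 1
  funext u
  exact torChar_vec4 a b c d u

theorem tor4_single0 (t : Kˣ) : tor4 t 1 1 1 = hS 0 (t : K) := by
  apply Units.ext
  rw [tor4_val, hS_val (by decide) (Units.ne_zero t)]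
  congr 1; funext u; simp

theorem tor4_single1 (t : Kˣ) : tor4 1 t 1 1 = hS 1 (t : K) := by
  apply Units.ext
  rw [tor4_val, hS_val (by decide) (Units.ne_zero t)]
  congr 1; funext u; simp

theorem tor4_single2 (t : Kˣ) : tor4 1 1 t 1 = hS 2 (t : K) := by
  apply Units.ext
  rw [tor4_val, hS_val (by decide) (Units.ne_zero t)]
  congr 1; funext u; simp

theorem tor4_single3 (t : Kˣ) : tor4 1 1 1 t = hS 3 (t : K) := by
  apply Units.ext
  rw [tor4_val, hS_val (by decide) (Units.ne_zero t)]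
  congr 1; funext u; simp

theorem tor4_split (a b c d : Kˣ) :
    tor4 a b c d = tor4 a 1 1 1 * tor4 1 b 1 1 * tor4 1 1 c 1 * tor4 1 1 1 d := by
  rw [tor4_mul, tor4_mul, tor4_mul]
  simp

section sig

variable [CharP K 2] {θ : ℕ} (hθ : θ ≠ 0) (X : Sig K θ)

theorem simple_short : chevF4.simple 0 ∈ shortL ∧ chevF4.simple 1 ∈ shortL ∧
    chevF4.simple 2 ∉ shortL ∧ chevF4.simple 3 ∉ shortL := by decide

include hθ in
theorem sg_hS {i : ℕ} (hi : i < chevF4.rank) (t : K) :
    X.sg (hS i t) = hS (rhos i) (t ^ eF4 θ (chevF4.simple i)) := by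
  have Δ := bnF4 (K := K)
  unfold hS
  have h := (X.toHyp hθ).sg_hWord (Δ.hAll i hi).hS.1 t
  rw [← (rho_simple i hi).2]
  exact h

include hθ in
/-- the action on the parameters -/
theorem sg_tor4 (a b c d : Kˣ) :
    X.sg (tor4 a b c d) = tor4 (d ^ θ) (c ^ θ) (b ^ (2 * θ)) (a ^ (2 * θ)) := by
  have Δ := bnF4 (K := K)
  have hG : ∀ a b c d : Kˣ, tor4 a b c d ∈ chevF4.group K := fun a b c d =>
    diagonalSubgroup_le_group Δ.hB (tor4_mem_diagonal a b c d)
  rw [tor4_split a b c d, X.sg_mul _ (Subgroup.mul_mem _ (Subgroup.mul_mem _ (hG _ _ _ _)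
    (hG _ _ _ _)) (hG _ _ _ _)) _ (hG _ _ _ _),
    X.sg_mul _ (Subgroup.mul_mem _ (hG _ _ _ _) (hG _ _ _ _)) _ (hG _ _ _ _),
    X.sg_mul _ (hG _ _ _ _) _ (hG _ _ _ _), tor4_single0, tor4_single1, tor4_single2, tor4_single3,
    sg_hS hθ X (by decide), sg_hS hθ X (by decide), sg_hS hθ X (by decide),
    sg_hS hθ X (by decide), eF4_short simple_short.1, eF4_short simple_short.2.1,
    eF4_long simple_short.2.2.1, eF4_long simple_short.2.2.2]
  have e0 : rhos 0 = 3 := rfl
  have e1 : rhos 1 = 2 := rfl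
  have e2 : rhos 2 = 1 := rfl
  have e3 : rhos 3 = 0 := rfl
  rw [e0, e1, e2, e3, ← Units.val_pow_eq_pow_val, ← Units.val_pow_eq_pow_val,
    ← Units.val_pow_eq_pow_val, ← Units.val_pow_eq_pow_val, ← tor4_single0, ← tor4_single1,
    ← tor4_single2, ← tor4_single3, tor4_mul, tor4_mul, tor4_mul]
  simp

end sig

end Cfsg.Agent.Helper11.TwF4
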