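import Mathlib
import Cfsg.Agent.Helper11.TwF4TorB

set_option autoImplicit false
set_option linter.unusedSectionVars false
set_option linter.unusedVariables false

/-! The torus of `²F₄(q)`: the one-parameter subgroup attached to the class of type `A₁ × A₁`
lies in `G¹`. -/

namespace Cfsg.Agent.Helper11.TwF4

open Cfsg.Lie Cfsg.Agent.Helper6 Cfsg.Agent.Helper11.FixBN

variable {K : Type*} [Field K]

/-- root elements of roots without commutator terms commute -/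
theorem xU_commute {r s : ℕ} (hr : r < chevF4.nroots) (hs : s < chevF4.nroots) (h1 : s ≠ r)
    (h2 : s ≠ chevF4.neg r) (hc : chevF4.commTerms r s = []) (t u : K) :
    Commute (xU hBF4 r t) (xU hBF4 s u) := by
  have h := (bnF4 (K := K)).hC r hr s hs h1 h2 t u
  unfold Commute SemiconjBy
  apply Units.ext
  rw [Units.val_mul, Units.val_mul, xU_val, xU_val, h]
  unfold ChevalleyDatum.commWord
  rw [hc]
  simp [ChevalleyDatum.wordMat]

theorem comm14 : ∀ r ∈ [f4p1, f4m1], ∀ s ∈ [f4p4, f4m4], r < chevF4.nroots ∧ s < chevF4.nroots ∧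
    s ≠ r ∧ s ≠ chevF4.neg r ∧ chevF4.commTerms r s = [] := by decide +kernel

theorem xU_commute14 {r s : ℕ} (hr : r ∈ [f4p1, f4m1]) (hs : s ∈ [f4p4, f4m4]) (t u : K) :
    Commute (xU hBF4 r t) (xU hBF4 s u) := by
  obtain ⟨h1, h2, h3, h4, h5⟩ := comm14 r hr s hs
  exact xU_commute h1 h2 h3 h4 h5 t u

/-- `x_r(a) x_{-r}(a⁻¹) x_r(a)` -/
def nn (r rm : ℕ) (a : K) : GL chevF4.Idx K := xU hBF4 r a * xU hBF4 rm a⁻¹ * xU hBF4 r a

theorem nn_commute (a s : K) : Commute (nn f4p1 f4m1 a) (nn f4p4 f4m4 s) := by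
  unfold nn
  have h : ∀ r ∈ [f4p1, f4m1], ∀ t : K,
      Commute (xU hBF4 r t) (xU hBF4 f4p4 s * xU hBF4 f4m4 s⁻¹ * xU hBF4 f4p4 s) := by
    intro r hr t
    exact ((xU_commute14 hr (by simp) t s).mul_right (xU_commute14 hr (by simp) t s⁻¹)).mul_right
      (xU_commute14 hr (by simp) t s)
  exact ((h f4p1 (by simp) a).mul_left (h f4m1 (by simp) a⁻¹)).mul_left (h f4p1 (by simp) a)

section char2

variable [CharP K 2]

theorem neg_F4 : chevF4.neg (chevF4.simple 0) = f4m1 ∧ chevF4.neg (chevF4.simple 3) = f4m4 ∧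
    chevF4.simple 0 = f4p1 ∧ chevF4.simple 3 = f4p4 := by decide +kernel

theorem hS_zero (a : K) : hS 0 a = nn f4p1 f4m1 a * nn f4p1 f4m1 1 := by
  unfold hS ChevalleyDatum.hWord ChevalleyDatum.nWord nn
  rw [neg_F4.1, neg_F4.2.2.1]
  have e : (-1 : K) = 1 := neg_one_eq_one
  simp only [List.cons_append, List.nil_append, wordU, List.map_cons, List.map_nil,
    List.prod_cons, List.prod_nil, mul_one, e, inv_one]
  have e2 : -a⁻¹ = a⁻¹ := by rw [neg_eq_neg_one_mul, e, one_mul]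
  rw [e2]
  group

theorem hS_three (a : K) : hS 3 a = nn f4p4 f4m4 a * nn f4p4 f4m4 1 := by
  unfold hS ChevalleyDatum.hWord ChevalleyDatum.nWord nn
  rw [neg_F4.2.1, neg_F4.2.2.2]
  have e : (-1 : K) = 1 := neg_one_eq_one
  simp only [List.cons_append, List.nil_append, wordU, List.map_cons, List.map_nil,
    List.prod_cons, List.prod_nil, mul_one, e, inv_one]
  have e2 : -a⁻¹ = a⁻¹ := by rw [neg_eq_neg_one_mul, e, one_mul]
  rw [e2]
  group

/-- the product of three generators attached to the class of type `A₁ × A₁` -/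
theorem pair_triple (θ : ℕ) (s : K) :
    pairGen θ f4p1 f4p4 s * pairGen θ f4m1 f4m4 s⁻¹ * pairGen θ f4p1 f4p4 s =
      nn f4p1 f4m1 (s ^ θ) * nn f4p4 f4m4 s := by
  unfold pairGen nn
  rw [inv_pow]
  have c1 := xU_commute14 (r := f4m1) (s := f4p4) (by simp) (by simp) (s ^ θ)⁻¹ s
  have c2 := xU_commute14 (r := f4p1) (s := f4p4) (by simp) (by simp) (s ^ θ) s
  have c3 := xU_commute14 (r := f4p1) (s := f4m4) (by simp) (by simp) (s ^ θ) s⁻¹
  have hc : Commute (xU hBF4 f4p4 s * xU hBF4 f4m4 s⁻¹) (xU hBF4 f4p1 (s ^ θ)) :=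
    (c2.symm.mul_left c3.symm)
  calc xU hBF4 f4p1 (s ^ θ) * xU hBF4 f4p4 s * (xU hBF4 f4m1 (s ^ θ)⁻¹ * xU hBF4 f4m4 s⁻¹) *
        (xU hBF4 f4p1 (s ^ θ) * xU hBF4 f4p4 s)
      = xU hBF4 f4p1 (s ^ θ) * (xU hBF4 f4p4 s * xU hBF4 f4m1 (s ^ θ)⁻¹) * xU hBF4 f4m4 s⁻¹ *
          xU hBF4 f4p1 (s ^ θ) * xU hBF4 f4p4 s := by group
    _ = xU hBF4 f4p1 (s ^ θ) * (xU hBF4 f4m1 (s ^ θ)⁻¹ * xU hBF4 f4p4 s) * xU hBF4 f4m4 s⁻¹ *
          xU hBF4 f4p1 (s ^ θ) * xU hBF4 f4p4 s := by rw [c1.symm.eq]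
    _ = xU hBF4 f4p1 (s ^ θ) * xU hBF4 f4m1 (s ^ θ)⁻¹ *
          ((xU hBF4 f4p4 s * xU hBF4 f4m4 s⁻¹) * xU hBF4 f4p1 (s ^ θ)) * xU hBF4 f4p4 s := by group
    _ = xU hBF4 f4p1 (s ^ θ) * xU hBF4 f4m1 (s ^ θ)⁻¹ *
          (xU hBF4 f4p1 (s ^ θ) * (xU hBF4 f4p4 s * xU hBF4 f4m4 s⁻¹)) * xU hBF4 f4p4 s := by
        rw [hc.eq]
    _ = _ := by group

/-- the torus element attached to the class of type `A₁ × A₁` -/
noncomputable def hJ0 (θ : ℕ) (s : Kˣ) : GL chevF4.Idx K := tor4 (s ^ θ) 1 1 s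

theorem hJ0_mem (θ : ℕ) (s : Kˣ) : hJ0 θ s ∈ twistedF4 K θ := by
  have e : hJ0 θ s = (pairGen θ f4p1 f4p4 (s : K) * pairGen θ f4m1 f4m4 (s : K)⁻¹ *
      pairGen θ f4p1 f4p4 (s : K)) * (pairGen θ f4p1 f4p4 (1 : K) * pairGen θ f4m1 f4m4 (1 : K)⁻¹ *
      pairGen θ f4p1 f4p4 (1 : K)) := by
    rw [pair_triple, pair_triple, one_pow]
    unfold hJ0
    have e1 : tor4 (s ^ θ) 1 1 s = tor4 (s ^ θ) 1 1 1 * tor4 1 1 1 s := by
      rw [tor4_mul]; simp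
    rw [e1, tor4_single0, tor4_single3, hS_zero, hS_three, Units.val_pow_eq_pow_val]
    have hc := nn_commute (1 : K) (s : K)
    calc nn f4p1 f4m1 ((s : K) ^ θ) * nn f4p1 f4m1 1 * (nn f4p4 f4m4 (s : K) * nn f4p4 f4m4 1)
        = nn f4p1 f4m1 ((s : K) ^ θ) * (nn f4p1 f4m1 1 * nn f4p4 f4m4 (s : K)) *
            nn f4p4 f4m4 1 := by group
      _ = nn f4p1 f4m1 ((s : K) ^ θ) * (nn f4p4 f4m4 (s : K) * nn f4p1 f4m1 1) *
            nn f4p4 f4m4 1 := by rw [hc.eq]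
      _ = _ := by group
  rw [e]
  exact Subgroup.mul_mem _
    (Subgroup.mul_mem _ (Subgroup.mul_mem _ (pairGen_pos_mem θ _) (pairGen_neg_mem θ _))
      (pairGen_pos_mem θ _))
    (Subgroup.mul_mem _ (Subgroup.mul_mem _ (pairGen_pos_mem θ _) (pairGen_neg_mem θ _))
      (pairGen_pos_mem θ _))

end char2

end Cfsg.Agent.Helper11.TwF4
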