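import Mathlib
import Cfsg.Agent.Helper6.Chev.Longest
import Cfsg.Agent.Helper11.TwF4TorC

set_option autoImplicit false
set_option linter.unusedSectionVars false
set_option linter.unusedVariables false

/-! The torus of `²F₄(q)`: conjugation by the reflection of type `B₂`, and the order of `H¹`. -/

namespace Cfsg.Agent.Helper11.TwF4

open Cfsg.Lie Cfsg.Agent.Helper6 Cfsg.Agent.Helper11.FixBN

variable {K : Type*} [Field K]

/-- conjugation of a diagonal matrix by a word in the fundamental reflections -/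
theorem nWr_mul_dMat {D : ChevalleyDatum} (Δ : BNData D K) :
    ∀ (L : List ℕ), (∀ j ∈ L, j < D.rank) → ∀ χ : ℕ → K,
    ((nWr Δ.hB K L : GL D.Idx K) : Matrix D.Idx D.Idx K) * dMat D K 1 χ =
      dMat D K 1 (fun u => χ (wFold D L u)) * ((nWr Δ.hB K L : GL D.Idx K) : Matrix D.Idx D.Idx K) := by
  intro L
  induction L with
  | nil =>
    intro _ χ
    simp [nWr, wFold]
  | cons j L ih =>
    intro hL χ
    have hj := hL j List.mem_cons_self
    have hL' : ∀ i ∈ L, i < D.rank := fun i hi => hL i (List.mem_cons_of_mem _ hi)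
    have h1 := nMat_mul_dMat (F := K) Δ.hB (Δ.hAll j hj) χ
    have e : ((nWr Δ.hB K (j :: L) : GL D.Idx K) : Matrix D.Idx D.Idx K) =
        ((nWr Δ.hB K L : GL D.Idx K) : Matrix D.Idx D.Idx K) * D.nMat K (D.simple j) 1 := by
      rw [nWr, Units.val_mul, nU_val]
    rw [e, mul_assoc, h1, ← mul_assoc, ih hL', mul_assoc]
    rfl

theorem conj_of_dMat {D : ChevalleyDatum} (Δ : BNData D K) {L : List ℕ}
    (hL : ∀ j ∈ L, j < D.rank) {g g' : GL D.Idx K} {χ χ' : ℕ → K}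
    (hg : (g : Matrix D.Idx D.Idx K) = dMat D K 1 χ)
    (hg' : (g' : Matrix D.Idx D.Idx K) = dMat D K 1 χ')
    (h : ∀ u < D.nroots, χ (wFold D L u) = χ' u) :
    nWr Δ.hB K L * g * (nWr Δ.hB K L)⁻¹ = g' := by
  rw [mul_inv_eq_iff_eq_mul]
  apply Units.ext
  rw [Units.val_mul, Units.val_mul, hg, hg', nWr_mul_dMat Δ L hL χ, dMat_congr h]

set_option maxRecDepth 100000 in
theorem cartan_wJ1 : ∀ u < chevF4.nroots,
    chevF4.cartan 0 (wFold chevF4 (orbW 1) u) =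
      chevF4.cartan 0 u + 2 * chevF4.cartan 1 u + 2 * chevF4.cartan 2 u ∧
    chevF4.cartan 3 (wFold chevF4 (orbW 1) u) =
      chevF4.cartan 1 u + 2 * chevF4.cartan 2 u + chevF4.cartan 3 u := by decide +kernel

/-- conjugation of the torus elements of the class of type `A₁ × A₁` by `n_{J₁}` -/
theorem conj_hJ0 (θ : ℕ) (s : Kˣ) :
    nWr hBF4 K (orbW 1) * hJ0 θ s * (nWr hBF4 K (orbW 1))⁻¹ =
      tor4 (s ^ θ) (s ^ (2 * θ + 1)) (s ^ (2 * θ + 2)) s := by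
  apply conj_of_dMat (bnF4 (K := K)) (fun j hj => (orbW_lt 1 j hj).2) (tor4_val _ _ _ _)
    (tor4_val _ _ _ _)
  intro u hu
  obtain ⟨e0, e3⟩ := cartan_wJ1 u hu
  have hx : (s : K) ≠ 0 := Units.ne_zero s
  simp only [Units.val_one, one_zpow, mul_one, Units.val_pow_eq_pow_val]
  rw [e0, e3]
  simp only [← zpow_natCast, ← zpow_mul, ← zpow_add₀ hx]
  congr 1
  push_cast
  ring

section main

variable [Fintype K] [CharP K 2] {θ : ℕ} (hθ : θ ≠ 0) (X : Sig K θ)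
  (hfrob : ∀ t : K, t ^ (2 * θ * θ) = t)
  (hadd : ∀ x y : K, (x + y) ^ (2 * θ) = x ^ (2 * θ) + y ^ (2 * θ))
  (hsurj : ∀ t : Kˣ, ∃ s : Kˣ, s ^ (2 * θ + 2) = t)

include hfrob in
theorem frobU (s : Kˣ) : s ^ (2 * θ * θ) = s := by
  apply Units.ext
  rw [Units.val_pow_eq_pow_val]
  exact hfrob _

/-- the torus element attached to the class of type `B₂` -/
noncomputable def hJ1 (θ : ℕ) (t : Kˣ) : GL chevF4.Idx K := tor4 1 (t ^ θ) t 1

include hθ hfrob hsurj in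
theorem hJ1_mem (t : Kˣ) : hJ1 θ t ∈ twistedF4 K θ := by
  obtain ⟨s, rfl⟩ := hsurj t
  have h1 : nWr hBF4 K (orbW 1) * hJ0 θ s * (nWr hBF4 K (orbW 1))⁻¹ * (hJ0 θ s)⁻¹ ∈
      twistedF4 K θ :=
    Subgroup.mul_mem _ (Subgroup.mul_mem _ (Subgroup.mul_mem _ (nJ_mem hθ 1) (hJ0_mem θ s))
      (Subgroup.inv_mem _ (nJ_mem hθ 1))) (Subgroup.inv_mem _ (hJ0_mem θ s))
  have e : nWr hBF4 K (orbW 1) * hJ0 θ s * (nWr hBF4 K (orbW 1))⁻¹ * (hJ0 θ s)⁻¹ =
      hJ1 θ (s ^ (2 * θ + 2)) := by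
    rw [conj_hJ0]
    unfold hJ0 hJ1
    rw [tor4_inv, tor4_mul, mul_inv_cancel, mul_inv_cancel, inv_one, mul_one, mul_one]
    have e2 : (s ^ (2 * θ + 2)) ^ θ = s ^ (2 * θ + 1) := by
      rw [← pow_mul, show (2 * θ + 2) * θ = 2 * θ * θ + 2 * θ by ring, pow_add (n := 2 * θ),
        frobU hfrob, pow_succ, mul_comm]
    rw [e2]
  rw [← e]
  exact h1

include hθ X hfrob hadd hsurj in
/-- `|H ∩ G¹| = (q - 1)²` -/
theorem card_H1 : Nat.card ↥(chevF4.diagonalSubgroup K ⊓ twistedF4 K θ) =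
    (Fintype.card K - 1) ^ 2 := by
  have hmem : ∀ p : Kˣ × Kˣ, hJ0 θ p.1 * hJ1 θ p.2 ∈
      chevF4.diagonalSubgroup K ⊓ twistedF4 K θ := by
    intro p
    refine ⟨Subgroup.mul_mem _ (tor4_mem_diagonal _ _ _ _) (tor4_mem_diagonal _ _ _ _),
      Subgroup.mul_mem _ (hJ0_mem θ p.1) (hJ1_mem hθ hfrob hsurj p.2)⟩
  have hbij : Function.Bijective (fun p : Kˣ × Kˣ =>
      (⟨hJ0 θ p.1 * hJ1 θ p.2, hmem p⟩ : ↥(chevF4.diagonalSubgroup K ⊓ twistedF4 K θ))) := by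
    constructor
    · rintro ⟨d, c⟩ ⟨d', c'⟩ h
      have h' := congrArg Subtype.val h
      simp only [hJ0, hJ1, tor4_mul, mul_one, one_mul] at h'
      obtain ⟨-, -, h3, h4⟩ := tor4_inj h'
      rw [h3, h4]
    · rintro ⟨g, hgH, hgG⟩
      obtain ⟨a, b, c, d, rfl⟩ := exists_tor4 hgH
      have hf := sg_fixed X hfrob hadd hgG
      rw [sg_tor4 hθ X] at hf
      obtain ⟨h1, h2, -, -⟩ := tor4_inj hf
      refine ⟨(d, c), ?_⟩
      apply Subtype.ext
      simp only [hJ0, hJ1, tor4_mul, mul_one, one_mul]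
      rw [h1, h2]
  rw [← Nat.card_congr (Equiv.ofBijective _ hbij), Nat.card_prod, Nat.card_units,
    Nat.card_eq_fintype_card, sq]

end main

end Cfsg.Agent.Helper11.TwF4

namespace Cfsg.Agent.Helper11.TwF4

open Cfsg.Lie Cfsg.Agent.Helper6 Cfsg.Agent.Helper11.FixBN

section card

variable {K : Type*} [Field K] [Fintype K] {m : ℕ} (hK : Fintype.card K = 2 ^ (2 * m + 1))

include hK in
theorem pow_surj (t : Kˣ) : ∃ s : Kˣ, s ^ (2 * 2 ^ m + 2) = t := by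
  classical
  have hq : Fintype.card K = 2 * 2 ^ m * 2 ^ m := by rw [hK]; ring
  have h1 : t ^ (Fintype.card K - 1) = 1 := by
    rw [← Fintype.card_units]
    exact pow_card_eq_one
  refine ⟨t ^ (1 - (2 ^ m : ℤ)), ?_⟩
  rw [← zpow_natCast, ← zpow_mul]
  have e : (1 - (2 ^ m : ℤ)) * ((2 * 2 ^ m + 2 : ℕ) : ℤ) =
      1 - ((Fintype.card K - 1 : ℕ) : ℤ) := by
    rw [Nat.cast_sub Fintype.card_pos, hq]
    push_cast
    ring
  rw [e, zpow_sub, zpow_one, zpow_natCast, h1, inv_one, mul_one]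

include hK in
/-- `|H¹| = (q - 1)²` -/
theorem card_H1_main : Nat.card ↥(chevF4.diagonalSubgroup K ⊓ twistedF4 K (2 ^ m)) =
    (2 ^ (2 * m + 1) - 1) ^ 2 := by
  have := charP_two hK
  obtain ⟨X⟩ := exists_sig (K := K) m
  rw [card_H1 (theta_ne m) X (frob_card hK) (add_pow_card hK) (pow_surj hK), hK]

end card

end Cfsg.Agent.Helper11.TwF4
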