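import Mathlib
import Cfsg.Agent.Helper6.Chev.WeylCox
import Cfsg.Agent.Helper11.DihedralQuot
import Cfsg.Agent.Helper11.TwF4Sig

set_option autoImplicit false
set_option linter.unusedSectionVars false
set_option linter.unusedVariables false

/-! The Weyl group `N¹/H¹` of `²F₄(q)` is dihedral of order 16. -/

namespace Cfsg.Agent.Helper11.TwF4

open Cfsg.Lie Cfsg.Agent.Helper6 Cfsg.Agent.Helper11.FixBN

variable {K : Type*} [Field K]

/-- the word of `(n_{J₀} n_{J₁})^k` -/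
def pw : ℕ → List ℕ
  | 0 => []
  | k + 1 => (orbW 1 ++ orbW 0) ++ pw k

theorem pw_lt : ∀ k, ∀ j ∈ pw k, j < chevF4.rank := by
  intro k
  induction k with
  | zero => intro j hj; simp [pw] at hj
  | succ k ih =>
    intro j hj
    simp only [pw, List.mem_append] at hj
    rcases hj with (h | h) | h
    · exact (orbW_lt 1 j h).2
    · exact (orbW_lt 0 j h).2
    · exact ih j h

theorem nWr_pw (k : ℕ) :
    nWr hBF4 K (pw k) = (nWr hBF4 K (orbW 0) * nWr hBF4 K (orbW 1)) ^ k := by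
  induction k with
  | zero => rfl
  | succ k ih =>
    rw [pw, nWr_append, nWr_append, ih, pow_succ]

set_option maxRecDepth 100000 in
theorem pw_eight : keyEqD chevF4 (pw 8) [] = true := by decide +kernel

set_option maxRecDepth 100000 in
theorem pw_lt_eight : ∀ k < 8, 0 < k → negSomeD chevF4 (chevF4.nroots / 2) (pw k) = true := by
  decide +kernel

set_option maxRecDepth 100000 in
theorem sq_key : ∀ a : Fin 2, keyEqD chevF4 (orbW a ++ orbW a) [] = true := by decide +kernel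

section main

variable [Fintype K] [CharP K 2] {θ : ℕ} (hθ : θ ≠ 0) (X : Sig K θ)
  (hfrob : ∀ t : K, t ^ (2 * θ * θ) = t)
  (hadd : ∀ x y : K, (x + y) ^ (2 * θ) = x ^ (2 * θ) + y ^ (2 * θ))

include hθ X hfrob hadd in
/-- `N¹` is generated by the two reflections and `H¹` -/
theorem N1_le_gen : chevF4.monomialSubgroup K ⊓ twistedF4 K θ ≤
    Subgroup.closure {nWr hBF4 K (orbW 0), nWr hBF4 K (orbW 1)} ⊔
      (chevF4.diagonalSubgroup K ⊓ twistedF4 K θ) := by
  intro n hn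
  have T := twF4 hθ X hfrob hadd
  have h1 : (⟨n, hn.2⟩ : ↥(twistedF4 K θ)) ∈ N1 (ctxF4 hθ X) (twistedF4 K θ) := mem_N1.2 hn.1
  have h2 := N1_le_N' (twF4 hθ X hfrob hadd) h1
  have h3 : (N' (twF4 hθ X hfrob hadd)).map (twistedF4 K θ).subtype ≤
      Subgroup.closure {nWr hBF4 K (orbW 0), nWr hBF4 K (orbW 1)} ⊔
        (chevF4.diagonalSubgroup K ⊓ twistedF4 K θ) := by
    unfold N'
    rw [Subgroup.map_sup, MonoidHom.map_closure]
    apply sup_le_sup
    · apply Subgroup.closure_mono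
      rintro _ ⟨s, ⟨a, ha⟩, rfl⟩
      show (s : GL chevF4.Idx K) ∈ _
      rw [ha]
      fin_cases a
      · exact Or.inl rfl
      · exact Or.inr rfl
    · rintro _ ⟨h, hh, rfl⟩
      exact ⟨mem_H1.1 hh, h.2⟩
  exact h3 ⟨⟨n, hn.2⟩, h2, rfl⟩

include hθ X hfrob hadd in
/-- `N¹/H¹` is the dihedral group of order 16 -/
theorem exists_weyl_hom_F4 :
    ∃ φ : ↥(chevF4.monomialSubgroup K ⊓ twistedF4 K θ) →* DihedralGroup 8,
      Function.Surjective φ ∧
      φ.ker = (chevF4.diagonalSubgroup K ⊓ twistedF4 K θ).subgroupOf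
        (chevF4.monomialSubgroup K ⊓ twistedF4 K θ) := by
  have Δ := bnF4 (K := K)
  have hsG : ∀ a : Fin 2, nWr hBF4 K (orbW a) ∈ twistedF4 K θ := nJ_mem hθ
  have hsN : ∀ a : Fin 2, nWr hBF4 K (orbW a) ∈ chevF4.monomialSubgroup K :=
    fun a => Δ.nWr_mem_monomial (fun j hj => (orbW_lt a j hj).2)
  have hsq : ∀ a : Fin 2, nWr hBF4 K (orbW a) * nWr hBF4 K (orbW a) ∈
      chevF4.diagonalSubgroup K ⊓ twistedF4 K θ := by
    intro a
    refine ⟨?_, Subgroup.mul_mem _ (hsG a) (hsG a)⟩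
    rw [← nWr_append]
    apply Δ.nWr_mem_diag_of_keyEq _ (sq_key a)
    intro j hj
    rcases List.mem_append.1 hj with h | h <;> exact (orbW_lt a j h).2
  have hpowG : ∀ k : ℕ, (nWr hBF4 K (orbW 0) * nWr hBF4 K (orbW 1)) ^ k ∈ twistedF4 K θ :=
    fun k => Subgroup.pow_mem _ (Subgroup.mul_mem _ (hsG 0) (hsG 1)) k
  refine exists_dihedral_hom _ _ (inf_le_inf_right _ Δ.diag_le_monomial) ?_
    (nWr hBF4 K (orbW 0)) (nWr hBF4 K (orbW 1)) ⟨hsN 0, hsG 0⟩ ⟨hsN 1, hsG 1⟩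
    (N1_le_gen hθ X hfrob hadd) (hsq 0) (hsq 1) 8 (by norm_num) ?_ ?_
  · intro x hx h hh
    exact ⟨Δ.conj_diag_mem hx.1 hh.1,
      Subgroup.mul_mem _ (Subgroup.mul_mem _ hx.2 hh.2) (Subgroup.inv_mem _ hx.2)⟩
  · refine ⟨?_, hpowG 8⟩
    rw [← nWr_pw]
    exact Δ.nWr_mem_diag_of_keyEq (pw_lt 8) pw_eight
  · intro k hk0 hk8 hmem
    rw [← nWr_pw] at hmem
    exact Δ.nWr_not_mem_diag_of_neg (pw_lt k) (pw_lt_eight k hk8 hk0) hmem.1

end main

section card

variable [Fintype K] {m : ℕ} (hK : Fintype.card K = 2 ^ (2 * m + 1))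

include hK in
theorem exists_weyl_hom_main :
    ∃ φ : ↥(chevF4.monomialSubgroup K ⊓ twistedF4 K (2 ^ m)) →* DihedralGroup 8,
      Function.Surjective φ ∧
      φ.ker = (chevF4.diagonalSubgroup K ⊓ twistedF4 K (2 ^ m)).subgroupOf
        (chevF4.monomialSubgroup K ⊓ twistedF4 K (2 ^ m)) := by
  have := charP_two hK
  obtain ⟨X⟩ := exists_sig (K := K) m
  exact exists_weyl_hom_F4 (theta_ne m) X (frob_card hK) (add_pow_card hK)

end card

end Cfsg.Agent.Helper11.TwF4
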