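import Mathlib
import Cfsg.Agent.Helper11.FixBNF
import Cfsg.Agent.Helper11.TwF4Weyl
import Cfsg.Agent.Helper11.TwF4TorD

set_option autoImplicit false
set_option linter.unusedSectionVars false
set_option linter.unusedVariables false

/-! The order of `²F₄(q)`. -/

namespace Cfsg.Agent.Helper11.TwF4

open Cfsg.Lie Cfsg.Agent.Helper6 Cfsg.Agent.Helper11.FixBN

variable {K : Type*} [Field K]

/-- the word of the reflection with index of the given parity -/
def orbN (i : ℕ) : List ℕ := if i % 2 = 0 then orbW 0 else orbW 1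

/-- the alternating words -/
def altW (a : ℕ) : ℕ → List ℕ
  | 0 => []
  | j + 1 => orbN (a + j) ++ altW a j

/-- the sixteen representatives -/
def repW (i : Fin 16) : List ℕ := if i.val < 9 then altW 0 i.val else altW 1 (i.val - 8)

set_option maxRecDepth 100000 in
theorem alt_step0 : ∀ j < 8, ∀ r < chevF4.nroots, chevF4.IsPosRoot r →
    (chevF4.IsNegRoot (wFr chevF4 (orbN (0 + j)) r) →
      chevF4.IsNegRoot (wFr chevF4 (orbN (0 + j) ++ altW 0 j) r)) ∧
    (chevF4.IsNegRoot (wFr chevF4 (altW 0 j) r) →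
      chevF4.IsPosRoot (wFr chevF4 (orbN (0 + j)).reverse r)) := by decide +kernel

set_option maxRecDepth 100000 in
theorem alt_step1 : ∀ j < 8, ∀ r < chevF4.nroots, chevF4.IsPosRoot r →
    (chevF4.IsNegRoot (wFr chevF4 (orbN (1 + j)) r) →
      chevF4.IsNegRoot (wFr chevF4 (orbN (1 + j) ++ altW 1 j) r)) ∧
    (chevF4.IsNegRoot (wFr chevF4 (altW 1 j) r) →
      chevF4.IsPosRoot (wFr chevF4 (orbN (1 + j)).reverse r)) := by decide +kernel

theorem alt_step {a : ℕ} (ha : a < 2) {j : ℕ} (hj : j < 8) {r : ℕ} (hr : r < chevF4.nroots)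
    (hp : chevF4.IsPosRoot r) :
    (chevF4.IsNegRoot (wFr chevF4 (orbN (a + j)) r) →
      chevF4.IsNegRoot (wFr chevF4 (orbN (a + j) ++ altW a j) r)) ∧
    (chevF4.IsNegRoot (wFr chevF4 (altW a j) r) →
      chevF4.IsPosRoot (wFr chevF4 (orbN (a + j)).reverse r)) := by
  interval_cases a
  · exact alt_step0 j hj r hr hp
  · exact alt_step1 j hj r hr hp

set_option maxRecDepth 100000 in
theorem rep_inj : ∀ w w' : Fin 16,
    (∀ i < chevF4.rank,
      chevF4.IsPosRoot (wFr chevF4 (repW w' ++ (repW w).reverse) (chevF4.simple i))) →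
    w = w' := by decide +kernel

theorem orbN_lt (i : ℕ) : ∀ j ∈ orbN i, j < chevF4.rank := by
  intro j hj
  unfold orbN at hj
  split_ifs at hj
  · exact (orbW_lt 0 j hj).2
  · exact (orbW_lt 1 j hj).2

theorem altW_lt (a : ℕ) : ∀ k, ∀ j ∈ altW a k, j < chevF4.rank := by
  intro k
  induction k with
  | zero => intro j hj; simp [altW] at hj
  | succ k ih =>
    intro j hj
    simp only [altW, List.mem_append] at hj
    rcases hj with h | h
    · exact orbN_lt _ j h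
    · exact ih j h

theorem repW_lt (w : Fin 16) : ∀ j ∈ repW w, j < chevF4.rank := by
  unfold repW
  split_ifs
  · exact altW_lt 0 _
  · exact altW_lt 1 _

/-- the exponents of the cells -/
def expo (a : ℕ) : ℕ → ℕ
  | 0 => 0
  | j + 1 => expo a j + (if (a + j) % 2 = 0 then 1 else 2)

section main

variable [Fintype K] [CharP K 2] {θ : ℕ} (hθ : θ ≠ 0) (X : Sig K θ)
  (hfrob : ∀ t : K, t ^ (2 * θ * θ) = t)
  (hadd : ∀ x y : K, (x + y) ^ (2 * θ) = x ^ (2 * θ) + y ^ (2 * θ))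
  (hsurj : ∀ t : Kˣ, ∃ s : Kˣ, s ^ (2 * θ + 2) = t)

include hθ in
theorem orbN_mem (i : ℕ) : nWr hBF4 K (orbN i) ∈ twistedF4 K θ := by
  unfold orbN
  split_ifs
  · exact nJ_mem hθ 0
  · exact nJ_mem hθ 1

include hθ in
theorem altW_mem (a : ℕ) : ∀ k, nWr hBF4 K (altW a k) ∈ twistedF4 K θ := by
  intro k
  induction k with
  | zero => exact Subgroup.one_mem _
  | succ k ih =>
    simp only [altW]
    rw [nWr_append]
    exact Subgroup.mul_mem _ ih (orbN_mem hθ _)

include hθ in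
theorem repW_mem (w : Fin 16) : nWr hBF4 K (repW w) ∈ twistedF4 K θ := by
  unfold repW
  split_ifs
  · exact altW_mem hθ 0 _
  · exact altW_mem hθ 1 _

include hfrob hadd in
theorem card_FixUn_orbN (i : ℕ) :
    Nat.card ((ctxF4 hθ X).FixUn (nWr hBF4 K (orbN i))) =
      Fintype.card K ^ (if i % 2 = 0 then 1 else 2) := by
  unfold orbN
  split_ifs
  · rw [card_FixUn0 hθ X hfrob, pow_one]
  · rw [card_FixUn1 hθ X hfrob hadd]

include hfrob hadd in
/-- the orders of the cells -/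
theorem card_alt {a : ℕ} (ha : a < 2) : ∀ k ≤ 8,
    Nat.card ((ctxF4 hθ X).FixUn (nWr hBF4 K (altW a k))) = Fintype.card K ^ expo a k := by
  intro k
  induction k with
  | zero =>
    intro _
    have e : nWr hBF4 K (altW a 0) = 1 := rfl
    rw [e, FixUn_one]
    simp [expo]
  | succ k ih =>
    intro hk
    have hk8 : k < 8 := by omega
    have s0 := chain_step (X.toHyp hθ) (altW_lt a k) (orbN_lt (a + k))
      (sg_fixed X hfrob hadd (altW_mem hθ a k)) (sg_fixed X hfrob hadd (orbN_mem hθ (a + k)))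
      (fun r hp hn => (alt_step ha hk8 hp.1 hp).1 hn)
      (fun r hp hn => (alt_step ha hk8 hp.1 hp).2 hn)
    simp only [altW, expo]
    rw [s0.1, ih (by omega), card_FixUn_orbN hθ X hfrob hadd, ← pow_add]

include hfrob hadd in
theorem card_rep (w : Fin 16) :
    Nat.card ((ctxF4 hθ X).FixUn (nWr hBF4 K (repW w))) =
      Fintype.card K ^ (if w.val < 9 then expo 0 w.val else expo 1 (w.val - 8)) := by
  unfold repW
  split_ifs with h
  · exact card_alt hθ X hfrob hadd (by norm_num) _ (by omega)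
  · exact card_alt hθ X hfrob hadd (by norm_num) _ (by omega)

include hθ X hfrob hadd in
/-- the representatives cover `N¹` modulo `H` -/
theorem rep_cover {n : GL chevF4.Idx K} (hnN : n ∈ chevF4.monomialSubgroup K)
    (hnG : n ∈ twistedF4 K θ) :
    ∃ w : Fin 16, (nWr hBF4 K (repW w))⁻¹ * n ∈ chevF4.diagonalSubgroup K := by
  have Δ := bnF4 (K := K)
  obtain ⟨φ, hφs, hφk⟩ := exists_weyl_hom_F4 hθ X hfrob hadd
  have hrN : ∀ w : Fin 16, nWr hBF4 K (repW w) ∈ chevF4.monomialSubgroup K ⊓ twistedF4 K θ :=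
    fun w => ⟨Δ.nWr_mem_monomial (repW_lt w), repW_mem hθ w⟩
  have hker : ∀ x y : ↥(chevF4.monomialSubgroup K ⊓ twistedF4 K θ), φ x = φ y →
      (x : GL chevF4.Idx K)⁻¹ * (y : GL chevF4.Idx K) ∈ chevF4.diagonalSubgroup K := by
    intro x y hxy
    have h1 : x⁻¹ * y ∈ φ.ker := by
      rw [MonoidHom.mem_ker, map_mul, map_inv, hxy, inv_mul_cancel]
    rw [hφk, Subgroup.mem_subgroupOf] at h1
    exact h1.1
  let f : Fin 16 → DihedralGroup 8 := fun w => φ ⟨_, hrN w⟩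
  have hinj : Function.Injective f := by
    intro w w' h
    have h1 := hker _ _ h
    exact rep_inj w w' (pos_of_inv_mul_mem (Δ := Δ) (repW_lt w) (repW_lt w') h1)
  have hbij : Function.Bijective f := by
    rw [Fintype.bijective_iff_injective_and_card]
    refine ⟨hinj, ?_⟩
    rw [Fintype.card_fin, DihedralGroup.card]
  obtain ⟨w, hw⟩ := hbij.2 (φ ⟨n, hnN, hnG⟩)
  exact ⟨w, hker _ _ hw⟩

include hθ X hfrob hadd hsurj in
/-- the order of `²F₄(q)` as a sum over the sixteen cells -/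
theorem card_G1_F4 : Nat.card ↥(twistedF4 K θ) =
    Fintype.card K ^ 12 * (Fintype.card K - 1) ^ 2 *
      ∑ w : Fin 16, Fintype.card K ^ (if w.val < 9 then expo 0 w.val else expo 1 (w.val - 8)) := by
  have Δ := bnF4 (K := K)
  have h1 := card_G1 (twF4 hθ X hfrob hadd) (fun w : Fin 16 => nWr hBF4 K (repW w))
    (fun w => Δ.nWr_mem_monomial (repW_lt w)) (fun w => repW_mem hθ w)
    (fun n hnN hnG => rep_cover hθ X hfrob hadd hnN hnG)
    (fun w w' h => rep_inj w w' (pos_of_inv_mul_mem (Δ := Δ) (repW_lt w) (repW_lt w') h))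
  have h2 := card_B1 (twF4 hθ X hfrob hadd)
  have hU : Nat.card ↥((ctxF4 hθ X).U ⊓ twistedF4 K θ) = Fintype.card K ^ 12 :=
    card_U_inf hθ X hfrob hadd
  have hH : Nat.card ↥((ctxF4 hθ X).H ⊓ twistedF4 K θ) = (Fintype.card K - 1) ^ 2 :=
    card_H1 hθ X hfrob hadd hsurj
  have h3 : ∑ w : Fin 16, Nat.card ((ctxF4 hθ X).FixUn (nWr hBF4 K (repW w))) =
      ∑ w : Fin 16,
        Fintype.card K ^ (if w.val < 9 then expo 0 w.val else expo 1 (w.val - 8)) :=
    Finset.sum_congr rfl (fun w _ => card_rep hθ X hfrob hadd w)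
  rw [h1, h2, hU, hH, h3]

end main

end Cfsg.Agent.Helper11.TwF4

namespace Cfsg.Agent.Helper11.TwF4

open Cfsg.Lie Cfsg.Agent.Helper6 Cfsg.Agent.Helper11.FixBN

theorem sum_cells (q : ℕ) :
    ∑ w : Fin 16, q ^ (if w.val < 9 then expo 0 w.val else expo 1 (w.val - 8)) =
      1 + q + q ^ 2 + 2 * q ^ 3 + q ^ 4 + q ^ 5 + 2 * q ^ 6 + q ^ 7 + q ^ 8 + 2 * q ^ 9 +
        q ^ 10 + q ^ 11 + q ^ 12 := by
  simp only [Fin.sum_univ_succ, Fin.sum_univ_zero]
  simp [expo]
  ring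

theorem order_arith (q : ℕ) (hq : 1 ≤ q) :
    q ^ 12 * (q - 1) ^ 2 * (1 + q + q ^ 2 + 2 * q ^ 3 + q ^ 4 + q ^ 5 + 2 * q ^ 6 + q ^ 7 + q ^ 8 +
      2 * q ^ 9 + q ^ 10 + q ^ 11 + q ^ 12) =
    q ^ 12 * (q - 1) * (q ^ 3 + 1) * (q ^ 4 - 1) * (q ^ 6 + 1) := by
  obtain ⟨Q, rfl⟩ : ∃ Q, q = Q + 1 := ⟨q - 1, by omega⟩
  have e1 : Q + 1 - 1 = Q := Nat.add_sub_cancel Q 1
  have e2 : (Q + 1) ^ 4 - 1 = Q * ((Q + 1) ^ 3 + (Q + 1) ^ 2 + (Q + 1) + 1) := by
    apply Nat.sub_eq_of_eq_add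
    ring
  rw [e1, e2]
  ring

section card

variable {K : Type*} [Field K] [Fintype K] {m : ℕ} (hK : Fintype.card K = 2 ^ (2 * m + 1))

include hK in
/-- the order of `²F₄(q)` -/
theorem card_main : Nat.card ↥(twistedF4 K (2 ^ m)) =
    (2 ^ (2 * m + 1)) ^ 12 * (2 ^ (2 * m + 1) - 1) * ((2 ^ (2 * m + 1)) ^ 3 + 1) *
      ((2 ^ (2 * m + 1)) ^ 4 - 1) * ((2 ^ (2 * m + 1)) ^ 6 + 1) := by
  have := charP_two hK
  obtain ⟨X⟩ := exists_sig (K := K) m
  rw [card_G1_F4 (theta_ne m) X (frob_card hK) (add_pow_card hK) (pow_surj hK), hK, sum_cells,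
    order_arith _ Nat.one_le_two_pow]

end card

end Cfsg.Agent.Helper11.TwF4
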