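import Mathlib
import Cfsg.Agent.Helper11.FixAutC
import Cfsg.Agent.Helper11.TwF4Ord
import Cfsg.Agent.Helper11.TwF4Core

/-!
# Automorphisms of `²F₄(q)`: the root subgroups

Conjugation formulas in characteristic two, and the explicit description of the root subgroups
`X_j`, `Y_j` of the twisted group.
-/

set_option autoImplicit false
set_option linter.unusedSectionVars false
set_option linter.unusedVariables false

namespace Cfsg.Agent.Helper11.F4Out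

open Cfsg.Lie Cfsg.Agent.Helper6 Cfsg.Agent.Helper11.FixBN Cfsg.Agent.Helper11.TwF4
  Cfsg.Agent.Helper11.FixAut

variable {K : Type*} [Field K]

/-- conjugation of root elements by words in the fundamental reflections, characteristic two -/
theorem nWr_conj2 [CharP K 2] {L : List ℕ} (hL : ∀ j ∈ L, j < chevF4.rank) {r : ℕ}
    (hr : r < chevF4.nroots) (t : K) :
    nWr hBF4 K L * xU hBF4 r t * (nWr hBF4 K L)⁻¹ = xU hBF4 (wFr chevF4 L r) t := by
  obtain ⟨c, hc, h⟩ := (bnF4 (K := K)).nWr_conj hL hr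
  have hc1 : c = 1 := by
    have h2 : (c + 1) * (c + 1) = 0 := by
      have e2 : (2 : K) = 0 := by
        have := CharP.cast_eq_zero K 2
        exact_mod_cast this
      linear_combination hc + (c + 1) * e2
    have h3 : c + 1 = 0 := by
      rcases mul_eq_zero.1 h2 with h | h <;> exact h
    have : c = -1 := eq_neg_of_add_eq_zero_left h3
    rw [this, neg_one_eq_one]
  rw [h t, hc1, one_mul]

theorem nWr_inv_conj2 [CharP K 2] {L : List ℕ} (hL : ∀ j ∈ L, j < chevF4.rank) {r : ℕ}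
    (hr : r < chevF4.nroots) (t : K) :
    (nWr hBF4 K L)⁻¹ * xU hBF4 (wFr chevF4 L r) t * nWr hBF4 K L = xU hBF4 r t := by
  rw [← nWr_conj2 hL hr t]; group

/-- conjugation of root elements by torus elements -/
theorem tor4_conj (a b c d : Kˣ) {r : ℕ} (hr : r < chevF4.nroots) (t : K) :
    tor4 a b c d * xU hBF4 r t * (tor4 a b c d)⁻¹ =
      xU hBF4 r ((a : K) ^ chevF4.cartan 0 r * (b : K) ^ chevF4.cartan 1 r *
        (c : K) ^ chevF4.cartan 2 r * (d : K) ^ chevF4.cartan 3 r * t) := by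
  have h := Cfsg.Agent.Helper2.Tw.conj_tor (bnF4 (K := K)) (k := tor4 a b c d)
    (c := extPar chevF4 (vec4 a b c d)) (extPar_ne_zero _) (torHom_val _) hr t
  rw [torChar_vec4] at h
  exact h

/-! ### The images of the classes under the reflections -/

theorem wFr_orb0 : wFr chevF4 (orbW 0) f4p1 = f4m1 ∧ wFr chevF4 (orbW 0) f4p4 = f4m4 := by
  decide +kernel

theorem wFr_orb1 : wFr chevF4 (orbW 1) f4a = f4ma ∧ wFr chevF4 (orbW 1) f4b = f4mb ∧
    wFr chevF4 (orbW 1) f4ab = f4mab ∧ wFr chevF4 (orbW 1) f4aab = f4maab := by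
  decide +kernel

set_option maxRecDepth 100000 in
theorem wFr_w0 : ∀ r < chevF4.nroots, wFr chevF4 (chainW 4) r = chevF4.neg r := by
  decide +kernel

theorem neg_cls : chevF4.neg f4m1 = f4p1 ∧ chevF4.neg f4m4 = f4p4 ∧ chevF4.neg f4ma = f4a ∧
    chevF4.neg f4mb = f4b ∧ chevF4.neg f4mab = f4ab ∧ chevF4.neg f4maab = f4aab := by
  decide +kernel

theorem orbW0_lt : ∀ j ∈ orbW 0, j < chevF4.rank := fun j hj => (orbW_lt 0 j hj).2

theorem orbW1_lt : ∀ j ∈ orbW 1, j < chevF4.rank := fun j hj => (orbW_lt 1 j hj).2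

section conj

variable [CharP K 2] (θ : ℕ)

theorem conj_pairGen (t : K) :
    nWr hBF4 K (orbW 0) * pairGen θ f4p1 f4p4 t * (nWr hBF4 K (orbW 0))⁻¹ =
      pairGen θ f4m1 f4m4 t := by
  unfold pairGen
  have e : nWr hBF4 K (orbW 0) * (xU hBF4 f4p1 (t ^ θ) * xU hBF4 f4p4 t) *
      (nWr hBF4 K (orbW 0))⁻¹ =
      (nWr hBF4 K (orbW 0) * xU hBF4 f4p1 (t ^ θ) * (nWr hBF4 K (orbW 0))⁻¹) *
        (nWr hBF4 K (orbW 0) * xU hBF4 f4p4 t * (nWr hBF4 K (orbW 0))⁻¹) := by group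
  rw [e, nWr_conj2 orbW0_lt (by decide), nWr_conj2 orbW0_lt (by decide), wFr_orb0.1, wFr_orb0.2]

theorem conj_b2Gen (t u : K) :
    nWr hBF4 K (orbW 1) * b2Gen θ f4a f4b f4ab f4aab t u * (nWr hBF4 K (orbW 1))⁻¹ =
      b2Gen θ f4ma f4mb f4mab f4maab t u := by
  unfold b2Gen W4
  have e : ∀ x₁ x₂ x₃ x₄ : GL chevF4.Idx K, nWr hBF4 K (orbW 1) * (x₁ * x₂ * x₃ * x₄) *
      (nWr hBF4 K (orbW 1))⁻¹ =
      (nWr hBF4 K (orbW 1) * x₁ * (nWr hBF4 K (orbW 1))⁻¹) *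
      (nWr hBF4 K (orbW 1) * x₂ * (nWr hBF4 K (orbW 1))⁻¹) *
      (nWr hBF4 K (orbW 1) * x₃ * (nWr hBF4 K (orbW 1))⁻¹) *
      (nWr hBF4 K (orbW 1) * x₄ * (nWr hBF4 K (orbW 1))⁻¹) := by
    intro x₁ x₂ x₃ x₄; group
  rw [e, nWr_conj2 orbW1_lt (by decide), nWr_conj2 orbW1_lt (by decide),
    nWr_conj2 orbW1_lt (by decide), nWr_conj2 orbW1_lt (by decide), wFr_orb1.1, wFr_orb1.2.1,
    wFr_orb1.2.2.1, wFr_orb1.2.2.2]

theorem w0_conj_pairGen (t : K) :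
    (nWr hBF4 K (chainW 4))⁻¹ * pairGen θ f4p1 f4p4 t * nWr hBF4 K (chainW 4) =
      pairGen θ f4m1 f4m4 t := by
  unfold pairGen
  have e : (nWr hBF4 K (chainW 4))⁻¹ * (xU hBF4 f4p1 (t ^ θ) * xU hBF4 f4p4 t) *
      nWr hBF4 K (chainW 4) =
      ((nWr hBF4 K (chainW 4))⁻¹ * xU hBF4 f4p1 (t ^ θ) * nWr hBF4 K (chainW 4)) *
        ((nWr hBF4 K (chainW 4))⁻¹ * xU hBF4 f4p4 t * nWr hBF4 K (chainW 4)) := by group
  have h1 := nWr_inv_conj2 (K := K) (chainW_lt 4) (by decide : f4m1 < chevF4.nroots) (t ^ θ)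
  have h2 := nWr_inv_conj2 (K := K) (chainW_lt 4) (by decide : f4m4 < chevF4.nroots) t
  rw [wFr_w0 _ (by decide), neg_cls.1] at h1
  rw [wFr_w0 _ (by decide), neg_cls.2.1] at h2
  rw [e, h1, h2]

theorem w0_conj_b2Gen (t u : K) :
    (nWr hBF4 K (chainW 4))⁻¹ * b2Gen θ f4a f4b f4ab f4aab t u * nWr hBF4 K (chainW 4) =
      b2Gen θ f4ma f4mb f4mab f4maab t u := by
  unfold b2Gen W4
  have e : ∀ x₁ x₂ x₃ x₄ : GL chevF4.Idx K, (nWr hBF4 K (chainW 4))⁻¹ * (x₁ * x₂ * x₃ * x₄) *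
      nWr hBF4 K (chainW 4) =
      ((nWr hBF4 K (chainW 4))⁻¹ * x₁ * nWr hBF4 K (chainW 4)) *
      ((nWr hBF4 K (chainW 4))⁻¹ * x₂ * nWr hBF4 K (chainW 4)) *
      ((nWr hBF4 K (chainW 4))⁻¹ * x₃ * nWr hBF4 K (chainW 4)) *
      ((nWr hBF4 K (chainW 4))⁻¹ * x₄ * nWr hBF4 K (chainW 4)) := by
    intro x₁ x₂ x₃ x₄; group
  have h1 := nWr_inv_conj2 (K := K) (chainW_lt 4) (by decide : f4ma < chevF4.nroots) (t ^ θ)
  have h2 := nWr_inv_conj2 (K := K) (chainW_lt 4) (by decide : f4mb < chevF4.nroots) t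
  have h3 := nWr_inv_conj2 (K := K) (chainW_lt 4) (by decide : f4mab < chevF4.nroots)
    (t ^ (θ + 1) + u)
  have h4 := nWr_inv_conj2 (K := K) (chainW_lt 4) (by decide : f4maab < chevF4.nroots)
    (u ^ (2 * θ))
  rw [wFr_w0 _ (by decide), neg_cls.2.2.1] at h1
  rw [wFr_w0 _ (by decide), neg_cls.2.2.2.1] at h2
  rw [wFr_w0 _ (by decide), neg_cls.2.2.2.2.1] at h3
  rw [wFr_w0 _ (by decide), neg_cls.2.2.2.2.2] at h4
  rw [e, h1, h2, h3, h4]

end conj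

end Cfsg.Agent.Helper11.F4Out
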