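import Mathlib

/-!
# Automorphisms of `²F₄(q)`: the field-theoretic lemmas

Pure field algebra used in the determination of the automorphisms: semilinear maps, the rigidity
of the root group of type `B₂`, and some exponent arithmetic.
-/

set_option autoImplicit false
set_option linter.unusedSectionVars false
set_option linter.unusedVariables false

namespace Cfsg.Agent.Helper11.F4Out

/-- an additive injective map of a finite field which is semilinear with respect to the
multiplicative group is a scalar multiple of a field automorphism -/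
theorem exists_semilinear {K : Type*} [Field K] [Finite K] (f : K → K)
    (hadd : ∀ x y, f (x + y) = f x + f y) (hinj : Function.Injective f)
    (hsl : ∀ l : K, l ≠ 0 → ∃ μ : K, ∀ v, f (l * v) = μ * f v) :
    ∃ (c : K) (φ : K ≃+* K), c ≠ 0 ∧ ∀ v, f v = c * φ v := by
  have h0 : f 0 = 0 := by
    have := hadd 0 0
    rw [add_zero] at this
    exact left_eq_add.mp this
  have hc : f 1 ≠ 0 := by
    intro h
    exact one_ne_zero (hinj (h.trans h0.symm))
  have hmul : ∀ l v : K, f (l * v) = (f 1)⁻¹ * f l * f v := by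
    intro l v
    by_cases hl : l = 0
    · rw [hl, zero_mul, h0, mul_zero, zero_mul]
    · obtain ⟨μ, hμ⟩ := hsl l hl
      have h1 := hμ 1
      rw [mul_one] at h1
      rw [hμ v, h1]
      field_simp
  let φ : K →+* K :=
    { toFun := fun v => (f 1)⁻¹ * f v
      map_one' := inv_mul_cancel₀ hc
      map_mul' := fun x y => by
        show (f 1)⁻¹ * f (x * y) = (f 1)⁻¹ * f x * ((f 1)⁻¹ * f y)
        rw [hmul x y]; ring
      map_zero' := by
        show (f 1)⁻¹ * f 0 = 0
        rw [h0, mul_zero]
      map_add' := fun x y => by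
        show (f 1)⁻¹ * f (x + y) = (f 1)⁻¹ * f x + (f 1)⁻¹ * f y
        rw [hadd, mul_add] }
  have hφinj : Function.Injective φ := φ.injective
  have hφbij : Function.Bijective φ := Finite.injective_iff_bijective.mp hφinj
  refine ⟨f 1, RingEquiv.ofBijective φ hφbij, hc, ?_⟩
  intro v
  show f v = f 1 * ((f 1)⁻¹ * f v)
  rw [← mul_assoc, mul_inv_cancel₀ hc, one_mul]

/-- `v ↦ v ^ (θ + 1)` is onto when `v ^ (2 θ²) = v` -/
theorem pow_succ_surj {K : Type*} [Field K] [Finite K] {θ : ℕ}
    (hfrob : ∀ t : K, t ^ (2 * θ * θ) = t) (w : K) : ∃ v : K, v ^ (θ + 1) = w := by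
  have hinj : Function.Injective (fun v : K => v ^ (θ + 1)) := by
    intro v v' h
    have h : v ^ (θ + 1) = v' ^ (θ + 1) := h
    by_cases hv : v = 0
    · rw [hv, zero_pow (Nat.succ_ne_zero θ)] at h
      rw [hv]
      exact (pow_eq_zero_iff (Nat.succ_ne_zero θ)).1 h.symm |>.symm
    · have hv' : v' ≠ 0 := by
        intro h'
        rw [h', zero_pow (Nat.succ_ne_zero θ)] at h
        exact hv ((pow_eq_zero_iff (Nat.succ_ne_zero θ)).1 h)
      have e1 : ∀ x : K, (x ^ (θ + 1)) ^ (2 * θ) = x * x ^ (2 * θ) := by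
        intro x
        rw [← pow_mul, show (θ + 1) * (2 * θ) = 2 * θ * θ + 2 * θ by ring, pow_add, hfrob]
      have e2 : v * v ^ (2 * θ) = v' * v' ^ (2 * θ) := by
        rw [← e1, ← e1, h]
      have e3 : ∀ x : K, x * x ^ (2 * θ) = x ^ θ * x ^ (θ + 1) := by
        intro x; ring
      rw [e3, e3, h] at e2
      have e4 : v ^ θ = v' ^ θ := mul_right_cancel₀ (pow_ne_zero _ hv') e2
      have e5 : v ^ θ * v = v' ^ θ * v' := by
        rw [← pow_succ, ← pow_succ, h]
      rw [e4] at e5
      exact mul_left_cancel₀ (pow_ne_zero _ hv') e5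
  exact (Finite.injective_iff_surjective.mp hinj) w

/-- the rigidity of the root group of type `B₂`: an automorphism commuting with the torus is
induced by a torus element -/
theorem b2_rigid {K : Type*} [Field K] [CharP K 2] {θ : ℕ}
    (hθadd : ∀ x y : K, (x + y) ^ θ = x ^ θ + y ^ θ)
    (hsurj : ∀ w : K, ∃ v : K, v ^ (θ + 1) = w)
    (hne : ∃ w : K, w ^ θ ≠ w)
    (A D : K → K → K)
    (hM : ∀ v u v' u', A (v + v') (u + u' + v ^ θ * v') = A v u + A v' u' ∧
      D (v + v') (u + u' + v ^ θ * v') = D v u + D v' u' + (A v u) ^ θ * A v' u')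
    (hT : ∀ l : K, l ≠ 0 → ∀ v u, A (l * v) (l ^ (θ + 1) * u) = l * A v u ∧
      D (l * v) (l ^ (θ + 1) * u) = l ^ (θ + 1) * D v u)
    (hI : ∀ v u, A v u = 0 → D v u = 0 → v = 0 ∧ u = 0) :
    ∃ a : K, a ≠ 0 ∧ ∀ v u, A v u = a * v ∧ D v u = a ^ (θ + 1) * u := by
  have hA00 : A 0 0 = 0 := by
    have := (hM 0 0 0 0).1
    simp only [add_zero, mul_zero] at this
    exact left_eq_add.mp this
  have hD00 : D 0 0 = 0 := by
    have := (hM 0 0 0 0).2
    simp only [add_zero, mul_zero, hA00] at this
    exact left_eq_add.mp this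
  -- squares
  have hsqA : ∀ v u : K, A 0 (v ^ θ * v) = 0 := by
    intro v u
    have := (hM v u v u).1
    rw [CharTwo.add_self_eq_zero, CharTwo.add_self_eq_zero, CharTwo.add_self_eq_zero,
      zero_add] at this
    exact this
  have hsqD : ∀ v u : K, D 0 (v ^ θ * v) = (A v u) ^ (θ + 1) := by
    intro v u
    have := (hM v u v u).2
    rw [CharTwo.add_self_eq_zero, CharTwo.add_self_eq_zero, CharTwo.add_self_eq_zero,
      zero_add, zero_add] at this
    rw [this, pow_succ]
  have hA0 : ∀ w, A 0 w = 0 := by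
    intro w
    obtain ⟨v, rfl⟩ := hsurj w
    rw [pow_succ]
    exact hsqA v 0
  -- splitting
  have hsplitA : ∀ v u, A v u = A v 0 := by
    intro v u
    have := (hM v 0 0 u).1
    simp only [add_zero, zero_add, mul_zero, hA0] at this
    exact this
  have hsplitD : ∀ v u, D v u = D v 0 + D 0 u := by
    intro v u
    have := (hM v 0 0 u).2
    simp only [add_zero, zero_add, mul_zero, hA0] at this
    exact this
  -- the torus action
  have hg : ∀ μ u : K, D 0 (μ * u) = μ * D 0 u := by
    intro μ u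
    by_cases hμ : μ = 0
    · rw [hμ, zero_mul, zero_mul, hD00]
    · obtain ⟨l, rfl⟩ := hsurj μ
      have hl : l ≠ 0 := by
        rintro rfl
        exact hμ (zero_pow (Nat.succ_ne_zero θ))
      have := (hT l hl 0 u).2
      rwa [mul_zero] at this
  have hg1 : ∀ u : K, D 0 u = D 0 1 * u := by
    intro u
    have := hg u 1
    rw [mul_one] at this
    rw [this, mul_comm]
  have hA1 : ∀ v : K, A v 0 = A 1 0 * v := by
    intro v
    by_cases hv : v = 0
    · rw [hv, hA00, mul_zero]
    · have := (hT v hv 1 0).1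
      rw [mul_one, mul_zero] at this
      rw [this, mul_comm]
  have hD1 : ∀ v : K, D v 0 = D 1 0 * v ^ (θ + 1) := by
    intro v
    by_cases hv : v = 0
    · rw [hv, hD00, zero_pow (Nat.succ_ne_zero θ), mul_zero]
    · have := (hT v hv 1 0).2
      rw [mul_one, mul_zero] at this
      rw [this, mul_comm]
  have he : D 0 1 = (A 1 0) ^ (θ + 1) := by
    have := hsqD 1 0
    rwa [one_pow, one_mul] at this
  have ha : A 1 0 ≠ 0 := by
    intro h
    have h1 : D 0 1 = 0 := by rw [he, h, zero_pow (Nat.succ_ne_zero θ)]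
    exact one_ne_zero (hI 0 1 (hA0 1) h1).2
  -- additivity
  have hd : D 1 0 = 0 := by
    obtain ⟨w, hw⟩ := hne
    have := (hM 1 0 w 0).2
    rw [add_zero, zero_add, one_pow, one_mul, hsplitD, hD1 (1 + w), hg1 w, he, hD1 1, hD1 w,
      hA1 w, one_pow, mul_one] at this
    have e : (1 + w) ^ (θ + 1) = 1 + w + w ^ θ + w ^ (θ + 1) := by
      rw [pow_succ, hθadd, one_pow]; ring
    rw [e] at this
    have e2 : D 1 0 * (w + w ^ θ) = 0 := by
      linear_combination this
    rcases mul_eq_zero.1 e2 with h | h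
    · exact h
    · exfalso
      apply hw
      have := CharTwo.add_eq_zero.1 h
      exact this.symm
  refine ⟨A 1 0, ha, ?_⟩
  intro v u
  constructor
  · rw [hsplitA, hA1]
  · rw [hsplitD, hD1, hd, zero_mul, zero_add, hg1, he]

/-- the exponent arithmetic for the torus element which centralises the root group of type
`A₁ × A₁` and acts on the root group of type `B₂` through a given scalar -/
theorem torus_arith {K : Type*} [Field K] {θ : ℕ} (hfrob : ∀ t : K, t ^ (2 * θ * θ) = t) (a : K) :
    ((a ^ (4 * θ + 3)) ^ 2) ^ 2 =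
      a * a ^ (4 * θ + 3) * (((a ^ (4 * θ + 3)) ^ 2) ^ θ) ^ 2 := by
  have h8 : a ^ (16 * θ * θ) = a ^ 8 := by
    rw [show 16 * θ * θ = (2 * θ * θ) * 8 by ring, pow_mul, hfrob]
  have e : a * a ^ (4 * θ + 3) * (((a ^ (4 * θ + 3)) ^ 2) ^ θ) ^ 2 =
      a ^ (16 * θ * θ) * a ^ (16 * θ + 4) := by
    rw [← pow_mul, ← pow_mul, ← pow_mul, ← pow_add, ← pow_succ', ← pow_add]
    congr 1
    ring
  rw [e, h8, ← pow_mul, ← pow_mul, ← pow_add]
  congr 1
  ring

/-- not every element is fixed by `x ↦ x ^ θ` -/
theorem exists_pow_ne {K : Type*} [Field K] [Fintype K] {θ : ℕ}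
    (hfrob : ∀ t : K, t ^ (2 * θ * θ) = t) (hcard : 2 < Fintype.card K) :
    ∃ w : K, w ^ θ ≠ w := by
  classical
  by_contra hcon
  simp only [not_exists, ne_eq, not_not] at hcon
  have h2 : ∀ w : K, w = 0 ∨ w = 1 := by
    intro w
    have h := hfrob w
    rw [mul_assoc, mul_comm, pow_mul, pow_mul, hcon, hcon] at h
    have : w * (w - 1) = 0 := by linear_combination h
    rcases mul_eq_zero.1 this with h | h
    · exact Or.inl h
    · exact Or.inr (sub_eq_zero.1 h)
  have : Fintype.card K ≤ 2 := by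
    have hsub : (Finset.univ : Finset K) ⊆ {0, 1} := by
      intro w _
      rcases h2 w with h | h <;> simp [h]
    calc Fintype.card K = (Finset.univ : Finset K).card := rfl
      _ ≤ ({0, 1} : Finset K).card := Finset.card_le_card hsub
      _ ≤ 2 := Finset.card_le_two
  omega

end Cfsg.Agent.Helper11.F4Out
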