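import Mathlib
import Cfsg.Agent.Helper11.F4OutA

/-!
# Automorphisms of `²F₄(q)`: normalisation

The subgroups `X_j`, `Y_j` in terms of the generators, the longest element `n₀`, and the
normalisation of an automorphism: up to an inner automorphism it preserves `U¹`, `V¹`, `H¹`, `B¹`
and the four root subgroups `X_j`, `Y_j`.
-/

set_option autoImplicit false
set_option linter.unusedSectionVars false
set_option linter.unusedVariables false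

namespace Cfsg.Agent.Helper11.F4Out

open Cfsg.Lie Cfsg.Agent.Helper6 Cfsg.Agent.Helper11.FixBN Cfsg.Agent.Helper11.TwF4
  Cfsg.Agent.Helper11.FixAut

variable {K : Type*} [Field K] [Fintype K] [CharP K 2] {θ : ℕ} (hθ : θ ≠ 0) (X : Sig K θ)
  (hfrob : ∀ t : K, t ^ (2 * θ * θ) = t)
  (hadd : ∀ x y : K, (x + y) ^ (2 * θ) = x ^ (2 * θ) + y ^ (2 * θ))

/-- the group -/
abbrev GG (K : Type*) [Field K] (θ : ℕ) : Type _ := ↥(twistedF4 K θ)

/-- the positive generators of type `A₁ × A₁` as elements of the group -/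
def xp0 (θ : ℕ) (t : K) : GG K θ := ⟨pairGen θ f4p1 f4p4 t, pairGen_pos_mem θ t⟩

/-- the negative generators of type `A₁ × A₁` -/
def xm0 (θ : ℕ) (t : K) : GG K θ := ⟨pairGen θ f4m1 f4m4 t, pairGen_neg_mem θ t⟩

/-- the positive generators of type `B₂` -/
def xp1 (θ : ℕ) (t u : K) : GG K θ := ⟨b2Gen θ f4a f4b f4ab f4aab t u, b2Gen_pos_mem θ t u⟩

/-- the negative generators of type `B₂` -/
def xm1 (θ : ℕ) (t u : K) : GG K θ :=
  ⟨b2Gen θ f4ma f4mb f4mab f4maab t u, b2Gen_neg_mem θ t u⟩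

include hfrob in
theorem mem_X0 {g : GG K θ} : g ∈ FixAut.X (twF4 hθ X hfrob hadd) 0 ↔ ∃ t : K, g = xp0 θ t := by
  rw [FixAut.mem_X]
  constructor
  · intro h
    have h1 : (g : GL chevF4.Idx K) ∈ (ctxF4 hθ X).FixUn (nWr hBF4 K (orbW 0)) :=
      ⟨(ctxF4 hθ X).mem_Un.2 h, sg_fixed X hfrob hadd g.2⟩
    obtain ⟨t, ht⟩ := (mem_FixUn0 hθ X hfrob).1 h1
    exact ⟨t, Subtype.ext ht⟩
  · rintro ⟨t, rfl⟩
    have h1 := (mem_FixUn0 hθ X hfrob).2 ⟨t, rfl⟩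
    exact (ctxF4 hθ X).mem_Un.1 h1.1

include hfrob hadd in
theorem mem_X1 {g : GG K θ} :
    g ∈ FixAut.X (twF4 hθ X hfrob hadd) 1 ↔ ∃ t u : K, g = xp1 θ t u := by
  rw [FixAut.mem_X]
  constructor
  · intro h
    have h1 : (g : GL chevF4.Idx K) ∈ (ctxF4 hθ X).FixUn (nWr hBF4 K (orbW 1)) :=
      ⟨(ctxF4 hθ X).mem_Un.2 h, sg_fixed X hfrob hadd g.2⟩
    obtain ⟨t, u, ht⟩ := (mem_FixUn1 hθ X hfrob hadd).1 h1
    exact ⟨t, u, Subtype.ext ht⟩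
  · rintro ⟨t, u, rfl⟩
    have h1 := (mem_FixUn1 hθ X hfrob hadd).2 ⟨t, u, rfl⟩
    exact (ctxF4 hθ X).mem_Un.1 h1.1

theorem sJ_conj_xp0 (t : K) :
    sJ (twF4 hθ X hfrob hadd) 0 * xp0 θ t * (sJ (twF4 hθ X hfrob hadd) 0)⁻¹ = xm0 θ t :=
  Subtype.ext (conj_pairGen θ t)

theorem sJ_conj_xp1 (t u : K) :
    sJ (twF4 hθ X hfrob hadd) 1 * xp1 θ t u * (sJ (twF4 hθ X hfrob hadd) 1)⁻¹ = xm1 θ t u :=
  Subtype.ext (conj_b2Gen θ t u)

include hfrob in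
theorem mem_Y0 {g : GG K θ} : g ∈ FixAut.Y (twF4 hθ X hfrob hadd) 0 ↔ ∃ t : K, g = xm0 θ t := by
  rw [FixAut.mem_Y]
  constructor
  · rintro ⟨x, hx, rfl⟩
    obtain ⟨t, rfl⟩ := (mem_X0 hθ X hfrob hadd).1 hx
    exact ⟨t, sJ_conj_xp0 hθ X hfrob hadd t⟩
  · rintro ⟨t, rfl⟩
    exact ⟨xp0 θ t, (mem_X0 hθ X hfrob hadd).2 ⟨t, rfl⟩, (sJ_conj_xp0 hθ X hfrob hadd t).symm⟩

include hfrob hadd in
theorem mem_Y1 {g : GG K θ} :
    g ∈ FixAut.Y (twF4 hθ X hfrob hadd) 1 ↔ ∃ t u : K, g = xm1 θ t u := by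
  rw [FixAut.mem_Y]
  constructor
  · rintro ⟨x, hx, rfl⟩
    obtain ⟨t, u, rfl⟩ := (mem_X1 hθ X hfrob hadd).1 hx
    exact ⟨t, u, sJ_conj_xp1 hθ X hfrob hadd t u⟩
  · rintro ⟨t, u, rfl⟩
    exact ⟨xp1 θ t u, (mem_X1 hθ X hfrob hadd).2 ⟨t, u, rfl⟩,
      (sJ_conj_xp1 hθ X hfrob hadd t u).symm⟩

theorem xp0_injective : Function.Injective (xp0 (K := K) θ) := by
  intro t t' h
  exact (W2_inj (congrArg Subtype.val h)).2

theorem xp1_injective {t u t' u' : K} (h : xp1 θ t u = xp1 θ t' u') : t = t' ∧ u = u' := by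
  obtain ⟨_, e2, e3, _⟩ := W4_inj (congrArg Subtype.val h)
  have e2' : t = t' := e2
  subst e2'
  have e3' : t ^ (θ + 1) + u = t ^ (θ + 1) + u' := e3
  exact ⟨rfl, add_left_cancel e3'⟩

include hfrob in
theorem card_X0 : Nat.card (FixAut.X (twF4 hθ X hfrob hadd) 0) = Fintype.card K := by
  rw [← Nat.card_eq_fintype_card]
  symm
  apply Nat.card_congr
  refine Equiv.ofBijective (fun t : K => (⟨xp0 θ t, (mem_X0 hθ X hfrob hadd).2 ⟨t, rfl⟩⟩ :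
    FixAut.X (twF4 hθ X hfrob hadd) 0)) ⟨?_, ?_⟩
  · intro t t' h
    exact xp0_injective (congrArg Subtype.val h)
  · rintro ⟨g, hg⟩
    obtain ⟨t, rfl⟩ := (mem_X0 hθ X hfrob hadd).1 hg
    exact ⟨t, rfl⟩

include hfrob hadd in
theorem card_X1 : Nat.card (FixAut.X (twF4 hθ X hfrob hadd) 1) = Fintype.card K ^ 2 := by
  have : Fintype.card K ^ 2 = Nat.card (K × K) := by
    rw [Nat.card_prod, Nat.card_eq_fintype_card]; ring
  rw [this]
  symm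
  apply Nat.card_congr
  refine Equiv.ofBijective (fun p : K × K => (⟨xp1 θ p.1 p.2,
    (mem_X1 hθ X hfrob hadd).2 ⟨p.1, p.2, rfl⟩⟩ : FixAut.X (twF4 hθ X hfrob hadd) 1)) ⟨?_, ?_⟩
  · rintro ⟨t, u⟩ ⟨t', u'⟩ h
    obtain ⟨h1, h2⟩ := xp1_injective (congrArg Subtype.val h)
    exact Prod.ext h1 h2
  · rintro ⟨g, hg⟩
    obtain ⟨t, u, rfl⟩ := (mem_X1 hθ X hfrob hadd).1 hg
    exact ⟨(t, u), rfl⟩

include hfrob hadd in
/-- the root subgroups have distinct orders -/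
theorem card_X_inj : ∀ j j' : Fin 2, Nat.card (FixAut.X (twF4 hθ X hfrob hadd) j) =
    Nat.card (FixAut.X (twF4 hθ X hfrob hadd) j') → j = j' := by
  have hq : 1 < Fintype.card K := Fintype.one_lt_card
  have hne : Fintype.card K ≠ Fintype.card K ^ 2 := by
    intro h
    have : Fintype.card K * 1 = Fintype.card K * Fintype.card K := by
      rw [mul_one, ← sq]; exact h
    have := Nat.eq_of_mul_eq_mul_left (by omega) this
    omega
  intro j j' h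
  fin_cases j <;> fin_cases j'
  · rfl
  · exfalso
    have h' : Nat.card (FixAut.X (twF4 hθ X hfrob hadd) 0) =
        Nat.card (FixAut.X (twF4 hθ X hfrob hadd) 1) := h
    rw [card_X0, card_X1] at h'
    exact hne h'
  · exfalso
    have h' : Nat.card (FixAut.X (twF4 hθ X hfrob hadd) 1) =
        Nat.card (FixAut.X (twF4 hθ X hfrob hadd) 0) := h
    rw [card_X0, card_X1] at h'
    exact hne h'.symm
  · rfl

/-! ### The longest element -/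

/-- the longest element -/
def n0 : GG K θ := ⟨nWr hBF4 K (chainW 4), (chain_mem_and_fixed (K := K) hθ 4).1⟩

theorem n0_mem_N1 : n0 hθ ∈ N1 (ctxF4 hθ X) (twistedF4 K θ) := by
  rw [mem_N1]
  exact (bnF4 (K := K)).nWr_mem_monomial (chainW_lt 4)

theorem mem_V1_iff (y : GG K θ) : y ∈ V1 (ctxF4 hθ X) (twistedF4 K θ) ↔
    (n0 hθ)⁻¹ * y * n0 hθ ∈ U1 (ctxF4 hθ X) (twistedF4 K θ) := by
  rw [mem_V1, mem_U1]
  simp only [Subgroup.coe_mul, Subgroup.coe_inv]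
  have h := map_conj_w0 (K := K)
  have hn : ((n0 hθ : GG K θ) : GL chevF4.Idx K) = nWr hBF4 K (chainW 4) := rfl
  rw [hn]
  show (y : GL chevF4.Idx K) ∈ chevF4.negUnipotent K ↔
    (nWr hBF4 K (chainW 4))⁻¹ * y * nWr hBF4 K (chainW 4) ∈ chevF4.posUnipotent K
  constructor
  · intro hy
    rw [← h] at hy
    obtain ⟨u, hu, e⟩ := hy
    simp only [MulEquiv.coe_toMonoidHom, MulAut.conj_apply] at e
    rw [← e]
    have : (nWr hBF4 K (chainW 4))⁻¹ * (nWr hBF4 K (chainW 4) * u * (nWr hBF4 K (chainW 4))⁻¹) *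
        nWr hBF4 K (chainW 4) = u := by group
    rw [this]; exact hu
  · intro hu
    rw [← h]
    refine ⟨_, hu, ?_⟩
    simp only [MulEquiv.coe_toMonoidHom, MulAut.conj_apply]
    group

set_option maxRecDepth 100000 in
theorem w0_sq_key : keyEqD chevF4 (chainW 4 ++ chainW 4) [] = true := by decide +kernel

theorem n0_sq_mem : n0 hθ * n0 hθ ∈ H1 (ctxF4 hθ X) (twistedF4 K θ) := by
  rw [mem_H1]
  show nWr hBF4 K (chainW 4) * nWr hBF4 K (chainW 4) ∈ chevF4.diagonalSubgroup K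
  rw [← nWr_append]
  apply (bnF4 (K := K)).nWr_mem_diag_of_keyEq _ w0_sq_key
  intro j hj
  rcases List.mem_append.1 hj with h | h <;> exact chainW_lt 4 j h

include hfrob hadd in
theorem mem_U1_iff (y : GG K θ) : y ∈ U1 (ctxF4 hθ X) (twistedF4 K θ) ↔
    (n0 hθ)⁻¹ * y * n0 hθ ∈ V1 (ctxF4 hθ X) (twistedF4 K θ) := by
  rw [mem_V1_iff hθ X]
  have hsq : n0 hθ * n0 hθ ∈ B1 (ctxF4 hθ X) (twistedF4 K θ) :=
    H1_le_B1 (twF4 hθ X hfrob hadd) (n0_sq_mem hθ X)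
  have e : (n0 hθ)⁻¹ * ((n0 hθ)⁻¹ * y * n0 hθ) * n0 hθ =
      (n0 hθ * n0 hθ)⁻¹ * y * (n0 hθ * n0 hθ)⁻¹⁻¹ := by
    rw [inv_inv, mul_inv_rev]; simp only [mul_assoc]
  rw [e]
  constructor
  · intro hy
    exact conj_mem_U1 ((B1 _ _).inv_mem hsq) hy
  · intro hy
    have := conj_mem_U1 hsq hy
    have e2 : n0 hθ * n0 hθ * ((n0 hθ * n0 hθ)⁻¹ * y * (n0 hθ * n0 hθ)⁻¹⁻¹) *
        (n0 hθ * n0 hθ)⁻¹ = y := by group
    rwa [e2] at this

include hfrob in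
theorem mem_X0_iff (y : GG K θ) : y ∈ FixAut.X (twF4 hθ X hfrob hadd) 0 ↔
    (n0 hθ)⁻¹ * y * n0 hθ ∈ FixAut.Y (twF4 hθ X hfrob hadd) 0 := by
  rw [mem_X0 hθ X hfrob hadd, mem_Y0 hθ X hfrob hadd]
  have key : ∀ t : K, (n0 hθ)⁻¹ * xp0 θ t * n0 hθ = xm0 θ t :=
    fun t => Subtype.ext (w0_conj_pairGen θ t)
  constructor
  · rintro ⟨t, rfl⟩
    exact ⟨t, key t⟩
  · rintro ⟨t, ht⟩
    refine ⟨t, ?_⟩
    have : y = n0 hθ * ((n0 hθ)⁻¹ * y * n0 hθ) * (n0 hθ)⁻¹ := by group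
    rw [this, ht, ← key t]; group

include hfrob hadd in
theorem mem_X1_iff (y : GG K θ) : y ∈ FixAut.X (twF4 hθ X hfrob hadd) 1 ↔
    (n0 hθ)⁻¹ * y * n0 hθ ∈ FixAut.Y (twF4 hθ X hfrob hadd) 1 := by
  rw [mem_X1 hθ X hfrob hadd, mem_Y1 hθ X hfrob hadd]
  have key : ∀ t u : K, (n0 hθ)⁻¹ * xp1 θ t u * n0 hθ = xm1 θ t u :=
    fun t u => Subtype.ext (w0_conj_b2Gen θ t u)
  constructor
  · rintro ⟨t, u, rfl⟩
    exact ⟨t, u, key t u⟩
  · rintro ⟨t, u, ht⟩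
    refine ⟨t, u, ?_⟩
    have : y = n0 hθ * ((n0 hθ)⁻¹ * y * n0 hθ) * (n0 hθ)⁻¹ := by group
    rw [this, ht, ← key t u]; group

/-- the normalised automorphisms -/
structure Norm (β : GG K θ ≃* GG K θ) : Prop where
  presU : Pres β (U1 (ctxF4 hθ X) (twistedF4 K θ))
  presV : Pres β (V1 (ctxF4 hθ X) (twistedF4 K θ))

variable {hθ X}

include hfrob hadd in
theorem Norm.presB {β : GG K θ ≃* GG K θ} (h : Norm hθ X β) :
    Pres β (B1 (ctxF4 hθ X) (twistedF4 K θ)) := pres_B1 (twF4 hθ X hfrob hadd) h.presU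

include hfrob hadd in
theorem Norm.presH {β : GG K θ ≃* GG K θ} (h : Norm hθ X β) :
    Pres β (H1 (ctxF4 hθ X) (twistedF4 K θ)) :=
  pres_H1 (twF4 hθ X hfrob hadd) (n0 hθ) (mem_V1_iff hθ X) (n0_mem_N1 hθ X) h.presU h.presV

include hfrob hadd in
theorem Norm.presP {β : GG K θ ≃* GG K θ} (h : Norm hθ X β) (j : Fin 2) :
    Pres β (Pj (twF4 hθ X hfrob hadd) j) :=
  pres_Pj (twF4 hθ X hfrob hadd) (h.presB hfrob hadd) (card_X_inj hθ X hfrob hadd) j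

include hfrob hadd in
theorem Norm.presY {β : GG K θ ≃* GG K θ} (h : Norm hθ X β) (j : Fin 2) :
    Pres β (FixAut.Y (twF4 hθ X hfrob hadd) j) :=
  pres_Y (twF4 hθ X hfrob hadd) h.presV (h.presP hfrob hadd j)

include hfrob hadd in
theorem Norm.presX {β : GG K θ ≃* GG K θ} (h : Norm hθ X β) (j : Fin 2) :
    Pres β (FixAut.X (twF4 hθ X hfrob hadd) j) := by
  apply pres_X (twF4 hθ X hfrob hadd) (n0 hθ) (mem_V1_iff hθ X) (mem_U1_iff hθ X hfrob hadd)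
    (card_X_inj hθ X hfrob hadd) _ h.presU h.presV
  fin_cases j
  · exact mem_X0_iff hθ X hfrob hadd
  · exact mem_X1_iff hθ X hfrob hadd

end Cfsg.Agent.Helper11.F4Out
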