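import Mathlib
import Cfsg.Agent.Helper11.FixAutC

/-!
# Automorphisms of a group of fixed points with a split `(B, N)`-pair: the torus

`H¹` normalises the root subgroups `X_j` and `Y_j`.
-/

set_option autoImplicit false
set_option linter.unusedSectionVars false
set_option linter.unusedVariables false

namespace Cfsg.Agent.Helper11.FixAut

open Cfsg.Agent.Helper11.FixBN Cfsg.Agent.Helper2.BN

variable {Γ : Type*} [Group Γ] {C : Ctx Γ} {G1 : Subgroup Γ} {ι : Type*} (T : Tw C G1 ι)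
  [Finite ↥G1] (n0 : ↥G1)
  (hV : ∀ y : ↥G1, y ∈ V1 C G1 ↔ n0⁻¹ * y * n0 ∈ U1 C G1) (hn0 : n0 ∈ N1 C G1)

include T hV hn0 in
theorem H1_conj_mem_V1 {h v : ↥G1} (hh : h ∈ H1 C G1) (hv : v ∈ V1 C G1) :
    h * v * h⁻¹ ∈ V1 C G1 := by
  have h1 : h ∈ B1 C G1 ⊓ Subgroup.normalizer ((V1 C G1 : Subgroup ↥G1) : Set ↥G1) := by
    rw [B1_inf_normalizer_V1 T n0 hV hn0]; exact hh
  exact (Subgroup.mem_normalizer_iff.1 h1.2 v).1 hv

include T hV hn0 in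
theorem H1_conj_mem_X {j : ι} {h x : ↥G1} (hh : h ∈ H1 C G1) (hx : x ∈ X T j) :
    h * x * h⁻¹ ∈ X T j := by
  have hx' := hx
  unfold X at hx ⊢
  rw [Subgroup.mem_inf, Subgroup.mem_comap] at hx ⊢
  refine ⟨conj_mem_U1 (H1_le_B1 T hh) hx.1, ?_⟩
  simp only [MulEquiv.coe_toMonoidHom, MulAut.conj_apply] at hx ⊢
  have hh' : sJ T j * h * (sJ T j)⁻¹ ∈ H1 C G1 := by
    rw [mem_H1]
    simp only [Subgroup.coe_mul, Subgroup.coe_inv, sJ_coe]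
    exact C.hNH _ (nJ_mem_N T j) _ (mem_H1.1 hh)
  have e : sJ T j * (h * x * h⁻¹) * (sJ T j)⁻¹ =
      (sJ T j * h * (sJ T j)⁻¹) * (sJ T j * x * (sJ T j)⁻¹) * (sJ T j * h * (sJ T j)⁻¹)⁻¹ := by
    group
  rw [e]
  exact H1_conj_mem_V1 T n0 hV hn0 hh' hx.2

include T hV hn0 in
theorem H1_conj_mem_Y {j : ι} {h y : ↥G1} (hh : h ∈ H1 C G1) (hy : y ∈ Y T j) :
    h * y * h⁻¹ ∈ Y T j := by
  obtain ⟨x, hx, rfl⟩ := (mem_Y T).1 hy
  have hh' : (sJ T j)⁻¹ * h * sJ T j ∈ H1 C G1 := by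
    rw [mem_H1]
    simp only [Subgroup.coe_mul, Subgroup.coe_inv, sJ_coe]
    have := C.hNH _ (C.N.inv_mem (nJ_mem_N T j)) _ (mem_H1.1 hh)
    rwa [inv_inv] at this
  refine (mem_Y T).2 ⟨((sJ T j)⁻¹ * h * sJ T j) * x * ((sJ T j)⁻¹ * h * sJ T j)⁻¹,
    H1_conj_mem_X T n0 hV hn0 hh' hx, ?_⟩
  group

end Cfsg.Agent.Helper11.FixAut
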