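import Mathlib
import Cfsg.Agent.Helper11.F4OutB
import Cfsg.Agent.Helper11.FixAutD
import Cfsg.Agent.Helper11.F4OutAlg
import Cfsg.Agent.Helper11.TwF4TorD
import Cfsg.Agent.Helper2.Tw.F4Perf

/-!
# Automorphisms of `²F₄(q)`: the root groups and the torus

The group laws of the root groups `X_0` (elementary abelian of order `q`) and `X_1` (of order
`q²`), and the action of the torus on them.
-/

set_option autoImplicit false
set_option linter.unusedSectionVars false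
set_option linter.unusedVariables false

namespace Cfsg.Agent.Helper11.F4Out

open Cfsg.Lie Cfsg.Agent.Helper6 Cfsg.Agent.Helper11.FixBN Cfsg.Agent.Helper11.TwF4
  Cfsg.Agent.Helper11.FixAut

variable {K : Type*} [Field K] [Fintype K] [CharP K 2] {θ : ℕ} (hθ : θ ≠ 0) (X : Sig K θ)
  (hfrob : ∀ t : K, t ^ (2 * θ * θ) = t)
  (hadd : ∀ x y : K, (x + y) ^ (2 * θ) = x ^ (2 * θ) + y ^ (2 * θ))

include hadd in
theorem add_pow_theta (x y : K) : (x + y) ^ θ = x ^ θ + y ^ θ := by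
  have h := hadd x y
  rw [mul_comm 2 θ, pow_mul, pow_mul, pow_mul, ← CharTwo.add_sq] at h
  have h2 : ((x + y) ^ θ + (x ^ θ + y ^ θ)) ^ 2 = 0 := by
    rw [CharTwo.add_sq, h, CharTwo.add_self_eq_zero]
  exact CharTwo.add_eq_zero.1 ((pow_eq_zero_iff (by norm_num)).1 h2)

/-- the field endomorphism `x ↦ x ^ θ` -/
noncomputable def thetaHom : K →+* K where
  toFun x := x ^ θ
  map_one' := one_pow _
  map_mul' x y := mul_pow x y θ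
  map_zero' := zero_pow hθ
  map_add' := add_pow_theta hadd

theorem thetaHom_apply (x : K) : thetaHom hθ hadd x = x ^ θ := rfl

include hfrob in
theorem thetaHom_sq (x : K) : thetaHom hθ hadd (thetaHom hθ hadd x) ^ 2 = x := by
  rw [thetaHom_apply, thetaHom_apply, ← pow_mul, ← pow_mul, show θ * (θ * 2) = 2 * θ * θ by ring]
  exact hfrob x

/-! ### The group laws -/

theorem xp0_mul (v w : K) (haddθ : (v + w) ^ θ = v ^ θ + w ^ θ) :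
    xp0 θ v * xp0 θ w = xp0 θ (v + w) := by
  apply Subtype.ext
  show pairGen θ f4p1 f4p4 v * pairGen θ f4p1 f4p4 w = pairGen θ f4p1 f4p4 (v + w)
  unfold pairGen
  have c := xU_commute14 (K := K) (r := f4p1) (s := f4p4) (by simp) (by simp) (w ^ θ) v
  calc xU hBF4 f4p1 (v ^ θ) * xU hBF4 f4p4 v * (xU hBF4 f4p1 (w ^ θ) * xU hBF4 f4p4 w)
      = xU hBF4 f4p1 (v ^ θ) * (xU hBF4 f4p4 v * xU hBF4 f4p1 (w ^ θ)) * xU hBF4 f4p4 w := by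
        group
    _ = xU hBF4 f4p1 (v ^ θ) * (xU hBF4 f4p1 (w ^ θ) * xU hBF4 f4p4 v) * xU hBF4 f4p4 w := by
        rw [c.eq]
    _ = (xU hBF4 f4p1 (v ^ θ) * xU hBF4 f4p1 (w ^ θ)) * (xU hBF4 f4p4 v * xU hBF4 f4p4 w) := by
        group
    _ = _ := by rw [xU_mul, xU_mul, haddθ]

include hθ in
theorem xp0_zero : xp0 (K := K) θ 0 = 1 := by
  apply Subtype.ext
  show pairGen θ f4p1 f4p4 (0 : K) = 1
  unfold pairGen
  rw [zero_pow hθ, xU_zero, xU_zero, one_mul]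

theorem beta_eq (t u : K) :
    Cfsg.Agent.Helper2.Tw.beta (thetaHom hθ hadd) (xU hBF4 f4a : K → GL chevF4.Idx K)
      (xU hBF4 f4b) (xU hBF4 f4ab) (xU hBF4 f4aab) t u = b2Gen θ f4a f4b f4ab f4aab t u := by
  unfold Cfsg.Agent.Helper2.Tw.beta b2Gen W4
  rw [thetaHom_apply, thetaHom_apply, ← pow_succ, ← pow_mul, mul_comm θ 2]
  group

include hθ hfrob hadd in
theorem xp1_mul (t u t' u' : K) :
    xp1 θ t u * xp1 θ t' u' = xp1 θ (t + t') (u + u' + t ^ θ * t') := by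
  apply Subtype.ext
  show b2Gen θ f4a f4b f4ab f4aab t u * b2Gen θ f4a f4b f4ab f4aab t' u' =
    b2Gen θ f4a f4b f4ab f4aab (t + t') (u + u' + t ^ θ * t')
  have H : Cfsg.Agent.Helper2.Tw.B2Data (xU hBF4 f4a : K → GL chevF4.Idx K) (xU hBF4 f4b)
      (xU hBF4 f4ab) (xU hBF4 f4aab) :=
    Cfsg.Agent.Helper2.Tw.b2Data_of_classOK (bnF4 (K := K)) Cfsg.Agent.Helper2.Tw.f4_classP
  have hb := H.beta_mul (thetaHom hθ hadd) (thetaHom_sq hθ hfrob hadd) t u t' u'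
  rw [beta_eq, beta_eq, beta_eq, thetaHom_apply] at hb
  exact hb

include hθ in
theorem xp1_zero : xp1 (K := K) θ 0 0 = 1 := by
  apply Subtype.ext
  show b2Gen θ f4a f4b f4ab f4aab (0 : K) 0 = 1
  unfold b2Gen W4
  rw [zero_pow hθ, zero_pow (Nat.succ_ne_zero θ), add_zero, zero_pow (by positivity),
    xU_zero, xU_zero, xU_zero, xU_zero, one_mul, one_mul, one_mul]

/-! ### The torus -/

theorem exists_tor4_of_mem_H1 {h : GG K θ} (hh : h ∈ H1 (ctxF4 hθ X) (twistedF4 K θ)) :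
    ∃ a b c d : Kˣ, (h : GL chevF4.Idx K) = tor4 a b c d := exists_tor4 (mem_H1.1 hh)

theorem cartan_p4 : chevF4.cartan 0 f4p4 = 0 ∧ chevF4.cartan 1 f4p4 = 0 ∧
    chevF4.cartan 2 f4p4 = -1 ∧ chevF4.cartan 3 f4p4 = 2 := by decide +kernel

theorem cartan_a : chevF4.cartan 0 f4a = -1 ∧ chevF4.cartan 1 f4a = 2 ∧
    chevF4.cartan 2 f4a = -1 ∧ chevF4.cartan 3 f4a = 0 := by decide +kernel

theorem cartan_b : chevF4.cartan 0 f4b = 0 ∧ chevF4.cartan 1 f4b = -2 ∧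
    chevF4.cartan 2 f4b = 2 ∧ chevF4.cartan 3 f4b = -1 := by decide +kernel

theorem cartan_ab : chevF4.cartan 0 f4ab = -1 ∧ chevF4.cartan 1 f4ab = 0 ∧
    chevF4.cartan 2 f4ab = 1 ∧ chevF4.cartan 3 f4ab = -1 := by decide +kernel

theorem cartan_aab : chevF4.cartan 0 f4aab = -2 ∧ chevF4.cartan 1 f4aab = 2 ∧
    chevF4.cartan 2 f4aab = 0 ∧ chevF4.cartan 3 f4aab = -1 := by decide +kernel

theorem tor4_conj_p4 (a b c d : Kˣ) (t : K) :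
    tor4 a b c d * xU hBF4 f4p4 t * (tor4 a b c d)⁻¹ =
      xU hBF4 f4p4 ((c : K)⁻¹ * (d : K) ^ 2 * t) := by
  rw [tor4_conj a b c d (by decide), cartan_p4.1, cartan_p4.2.1, cartan_p4.2.2.1, cartan_p4.2.2.2]
  simp only [zpow_neg, zpow_ofNat, pow_zero, pow_one, one_mul, mul_one]

theorem tor4_conj_W4 (a b c d : Kˣ) (t₁ t₂ t₃ t₄ : K) :
    tor4 a b c d * W4 f4a f4b f4ab f4aab t₁ t₂ t₃ t₄ * (tor4 a b c d)⁻¹ =
      W4 f4a f4b f4ab f4aab ((a : K)⁻¹ * (b : K) ^ 2 * (c : K)⁻¹ * t₁)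
        (((b : K) ^ 2)⁻¹ * (c : K) ^ 2 * (d : K)⁻¹ * t₂) ((a : K)⁻¹ * (c : K) * (d : K)⁻¹ * t₃)
        (((a : K) ^ 2)⁻¹ * (b : K) ^ 2 * (d : K)⁻¹ * t₄) := by
  unfold W4
  have e : ∀ x₁ x₂ x₃ x₄ : GL chevF4.Idx K, tor4 a b c d * (x₁ * x₂ * x₃ * x₄) *
      (tor4 a b c d)⁻¹ =
      (tor4 a b c d * x₁ * (tor4 a b c d)⁻¹) * (tor4 a b c d * x₂ * (tor4 a b c d)⁻¹) *
      (tor4 a b c d * x₃ * (tor4 a b c d)⁻¹) * (tor4 a b c d * x₄ * (tor4 a b c d)⁻¹) := by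
    intro x₁ x₂ x₃ x₄; group
  rw [e, tor4_conj a b c d (by decide), tor4_conj a b c d (by decide),
    tor4_conj a b c d (by decide), tor4_conj a b c d (by decide),
    cartan_a.1, cartan_a.2.1, cartan_a.2.2.1, cartan_a.2.2.2,
    cartan_b.1, cartan_b.2.1, cartan_b.2.2.1, cartan_b.2.2.2,
    cartan_ab.1, cartan_ab.2.1, cartan_ab.2.2.1, cartan_ab.2.2.2,
    cartan_aab.1, cartan_aab.2.1, cartan_aab.2.2.1, cartan_aab.2.2.2]
  simp only [zpow_neg, zpow_ofNat, pow_zero, pow_one, one_mul, mul_one]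

include hfrob hadd in
/-- the action of the torus on `X_0` -/
theorem H1_conj_xp0 {h : GG K θ} (hh : h ∈ H1 (ctxF4 hθ X) (twistedF4 K θ)) {a b c d : Kˣ}
    (e : (h : GL chevF4.Idx K) = tor4 a b c d) (v : K) :
    h * xp0 θ v * h⁻¹ = xp0 θ ((c : K)⁻¹ * (d : K) ^ 2 * v) := by
  have hm := H1_conj_mem_X (twF4 hθ X hfrob hadd) (n0 hθ) (mem_V1_iff hθ X) (n0_mem_N1 hθ X) hh
    ((mem_X0 hθ X hfrob hadd).2 ⟨v, rfl⟩)
  obtain ⟨v', hv'⟩ := (mem_X0 hθ X hfrob hadd).1 hm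
  rw [hv']
  congr 1
  have h2 := congrArg Subtype.val hv'
  simp only [Subgroup.coe_mul, Subgroup.coe_inv] at h2
  rw [e] at h2
  change tor4 a b c d * (xU hBF4 f4p1 (v ^ θ) * xU hBF4 f4p4 v) * (tor4 a b c d)⁻¹ =
    xU hBF4 f4p1 (v' ^ θ) * xU hBF4 f4p4 v' at h2
  have e2 : tor4 a b c d * (xU hBF4 f4p1 (v ^ θ) * xU hBF4 f4p4 v) * (tor4 a b c d)⁻¹ =
      (tor4 a b c d * xU hBF4 f4p1 (v ^ θ) * (tor4 a b c d)⁻¹) *
        (tor4 a b c d * xU hBF4 f4p4 v * (tor4 a b c d)⁻¹) := by group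
  rw [e2, tor4_conj a b c d (by decide), tor4_conj_p4] at h2
  exact (W2_inj h2).2.symm

include hfrob hadd in
/-- the action of the torus on `X_1` -/
theorem H1_conj_xp1 {h : GG K θ} (hh : h ∈ H1 (ctxF4 hθ X) (twistedF4 K θ)) {a b c d : Kˣ}
    (e : (h : GL chevF4.Idx K) = tor4 a b c d) (v u : K) :
    h * xp1 θ v u * h⁻¹ = xp1 θ (((b : K) ^ 2)⁻¹ * (c : K) ^ 2 * (d : K)⁻¹ * v)
      ((((b : K) ^ 2)⁻¹ * (c : K) ^ 2 * (d : K)⁻¹) ^ (θ + 1) * u) := by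
  have key : ∀ v u : K, ∃ v' u' : K, h * xp1 θ v u * h⁻¹ = xp1 θ v' u' ∧
      v' = ((b : K) ^ 2)⁻¹ * (c : K) ^ 2 * (d : K)⁻¹ * v ∧
      v' ^ (θ + 1) + u' = (a : K)⁻¹ * (c : K) * (d : K)⁻¹ * (v ^ (θ + 1) + u) ∧
      u' ^ (2 * θ) = ((a : K) ^ 2)⁻¹ * (b : K) ^ 2 * (d : K)⁻¹ * u ^ (2 * θ) := by
    intro v u
    have hm := H1_conj_mem_X (twF4 hθ X hfrob hadd) (n0 hθ) (mem_V1_iff hθ X) (n0_mem_N1 hθ X) hh
      ((mem_X1 hθ X hfrob hadd).2 ⟨v, u, rfl⟩)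
    obtain ⟨v', u', hv'⟩ := (mem_X1 hθ X hfrob hadd).1 hm
    refine ⟨v', u', hv', ?_⟩
    have h2 := congrArg Subtype.val hv'
    simp only [Subgroup.coe_mul, Subgroup.coe_inv] at h2
    rw [e] at h2
    change tor4 a b c d * W4 f4a f4b f4ab f4aab (v ^ θ) v (v ^ (θ + 1) + u) (u ^ (2 * θ)) *
      (tor4 a b c d)⁻¹ = W4 f4a f4b f4ab f4aab (v' ^ θ) v' (v' ^ (θ + 1) + u') (u' ^ (2 * θ)) at h2
    rw [tor4_conj_W4] at h2
    obtain ⟨-, h3, h4, h5⟩ := W4_inj h2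
    exact ⟨h3.symm, h4.symm, h5.symm⟩
  obtain ⟨v₁, u₁, -, h1, h2, h3⟩ := key 1 0
  have hu₁ : u₁ = 0 := by
    rw [zero_pow (by positivity), mul_zero] at h3
    exact (pow_eq_zero_iff (by positivity)).1 h3
  have hχ : (((b : K) ^ 2)⁻¹ * (c : K) ^ 2 * (d : K)⁻¹) ^ (θ + 1) =
      (a : K)⁻¹ * (c : K) * (d : K)⁻¹ := by
    rw [hu₁, add_zero, h1, mul_one, one_pow, add_zero, mul_one] at h2
    exact h2
  obtain ⟨v', u', h0, h1, h2, -⟩ := key v u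
  rw [h0]
  have hu' : u' = (((b : K) ^ 2)⁻¹ * (c : K) ^ 2 * (d : K)⁻¹) ^ (θ + 1) * u := by
    rw [h1, mul_pow, hχ, mul_add] at h2
    rw [hχ]
    exact add_left_cancel h2
  rw [h1, hu']

/-- the torus elements attached to the class of type `A₁ × A₁` -/
noncomputable def hh0 (θ : ℕ) (s : Kˣ) : GG K θ := ⟨hJ0 θ s, hJ0_mem θ s⟩

theorem hh0_coe (s : Kˣ) : ((hh0 θ s : GG K θ) : GL chevF4.Idx K) = tor4 (s ^ θ) 1 1 s := rfl

theorem hh0_mem (s : Kˣ) : hh0 θ s ∈ H1 (ctxF4 hθ X) (twistedF4 K θ) :=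
  mem_H1.2 (tor4_mem_diagonal _ _ _ _)

variable (hsurj : ∀ t : Kˣ, ∃ s : Kˣ, s ^ (2 * θ + 2) = t)

/-- the general torus element -/
noncomputable def hh (s t : Kˣ) : GG K θ :=
  ⟨hJ0 θ s * hJ1 θ t, Subgroup.mul_mem _ (hJ0_mem θ s) (hJ1_mem hθ hfrob hsurj t)⟩

theorem hh_coe (s t : Kˣ) :
    ((hh hθ hfrob hsurj s t : GG K θ) : GL chevF4.Idx K) = tor4 (s ^ θ) (t ^ θ) t s := by
  show hJ0 θ s * hJ1 θ t = _
  unfold hJ0 hJ1
  rw [tor4_mul, mul_one, one_mul, one_mul, mul_one]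

theorem hh_mem (s t : Kˣ) : hh hθ hfrob hsurj s t ∈ H1 (ctxF4 hθ X) (twistedF4 K θ) := by
  rw [mem_H1, hh_coe]
  exact tor4_mem_diagonal _ _ _ _

include X hadd in
/-- a torus element acting on `X_0` through a given scalar -/
theorem hh_conj_xp0 (l : Kˣ) (v : K) :
    hh hθ hfrob hsurj 1 l⁻¹ * xp0 θ v * (hh hθ hfrob hsurj 1 l⁻¹)⁻¹ = xp0 θ ((l : K) * v) := by
  rw [H1_conj_xp0 hθ X hfrob hadd (hh_mem hθ X hfrob hsurj 1 l⁻¹) (hh_coe hθ hfrob hsurj 1 l⁻¹)]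
  congr 1
  rw [Units.val_inv_eq_inv_val, inv_inv, Units.val_one, one_pow, mul_one]

include hθ X hfrob hadd in
/-- the action of `h_0(s)` on `X_1` -/
theorem hh0_conj_xp1 (s : Kˣ) (v u : K) :
    hh0 θ s * xp1 θ v u * (hh0 θ s)⁻¹ = xp1 θ ((s : K)⁻¹ * v) (((s : K)⁻¹) ^ (θ + 1) * u) := by
  rw [H1_conj_xp1 hθ X hfrob hadd (hh0_mem hθ X s) (hh0_coe s)]
  simp only [Units.val_one, one_pow, inv_one, one_mul]

/-- the torus element centralising `X_0` and acting on `X_1` through a given scalar -/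
noncomputable def hB (a : Kˣ) : GG K θ :=
  hh hθ hfrob hsurj (a ^ (4 * θ + 3)) ((a ^ (4 * θ + 3)) ^ 2)

theorem hB_mem (a : Kˣ) : hB hθ hfrob hsurj a ∈ H1 (ctxF4 hθ X) (twistedF4 K θ) :=
  hh_mem hθ X hfrob hsurj _ _

include X hadd in
theorem hB_conj_xp0 (a : Kˣ) (v : K) :
    hB hθ hfrob hsurj a * xp0 θ v * (hB hθ hfrob hsurj a)⁻¹ = xp0 θ v := by
  unfold hB
  rw [H1_conj_xp0 hθ X hfrob hadd (hh_mem hθ X hfrob hsurj _ _) (hh_coe hθ hfrob hsurj _ _)]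
  congr 1
  rw [Units.val_pow_eq_pow_val, inv_mul_cancel₀ (pow_ne_zero _ (Units.ne_zero _)), one_mul]

include X hadd in
theorem hB_conj_xp1 (a : Kˣ) (v u : K) :
    hB hθ hfrob hsurj a * xp1 θ v u * (hB hθ hfrob hsurj a)⁻¹ =
      xp1 θ ((a : K) * v) ((a : K) ^ (θ + 1) * u) := by
  unfold hB
  rw [H1_conj_xp1 hθ X hfrob hadd (hh_mem hθ X hfrob hsurj _ _) (hh_coe hθ hfrob hsurj _ _)]
  have e : ((((((a ^ (4 * θ + 3)) ^ 2) ^ θ : Kˣ) : K)) ^ 2)⁻¹ *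
      ((((a ^ (4 * θ + 3)) ^ 2 : Kˣ) : K)) ^ 2 * (((a ^ (4 * θ + 3) : Kˣ) : K))⁻¹ = (a : K) := by
    simp only [Units.val_pow_eq_pow_val]
    rw [torus_arith hfrob (a : K)]
    have h1 : (a : K) ^ (4 * θ + 3) ≠ 0 := pow_ne_zero _ (Units.ne_zero _)
    have h2 : ((((a : K) ^ (4 * θ + 3)) ^ 2) ^ θ) ^ 2 ≠ 0 :=
      pow_ne_zero _ (pow_ne_zero _ (pow_ne_zero _ h1))
    field_simp
  rw [e]

/-- `h_0(s)` as a word in the root elements of `X_0` and `Y_0` -/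
theorem hh0_eq (s : Kˣ) : hh0 θ s = (xp0 θ (s : K) * xm0 θ (s : K)⁻¹ * xp0 θ (s : K)) *
    (xp0 θ (1 : K) * xm0 θ (1 : K)⁻¹ * xp0 θ (1 : K)) := by
  apply Subtype.ext
  show hJ0 θ s = (pairGen θ f4p1 f4p4 (s : K) * pairGen θ f4m1 f4m4 (s : K)⁻¹ *
      pairGen θ f4p1 f4p4 (s : K)) * (pairGen θ f4p1 f4p4 (1 : K) * pairGen θ f4m1 f4m4 (1 : K)⁻¹ *
      pairGen θ f4p1 f4p4 (1 : K))
  rw [pair_triple, pair_triple, one_pow]
  unfold hJ0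
  have e1 : tor4 (s ^ θ) 1 1 s = tor4 (s ^ θ) 1 1 1 * tor4 1 1 1 s := by
    rw [tor4_mul]; simp
  rw [e1, tor4_single0, tor4_single3, hS_zero, hS_three, Units.val_pow_eq_pow_val]
  have hc := nn_commute (1 : K) (s : K)
  calc nn f4p1 f4m1 ((s : K) ^ θ) * nn f4p1 f4m1 1 * (nn f4p4 f4m4 (s : K) * nn f4p4 f4m4 1)
      = nn f4p1 f4m1 ((s : K) ^ θ) * (nn f4p1 f4m1 1 * nn f4p4 f4m4 (s : K)) *
          nn f4p4 f4m4 1 := by group
    _ = nn f4p1 f4m1 ((s : K) ^ θ) * (nn f4p4 f4m4 (s : K) * nn f4p1 f4m1 1) *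
          nn f4p4 f4m4 1 := by rw [hc.eq]
    _ = _ := by group

end Cfsg.Agent.Helper11.F4Out
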