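import Mathlib
import Cfsg.Agent.Helper11.F4OutC
import Cfsg.Agent.Helper6.F4Phi

/-!
# Automorphisms of `²F₄(q)`: the field automorphism

A normalised automorphism acts on the root group `X_0` through a scalar multiple of a field
automorphism.
-/

set_option autoImplicit false
set_option linter.unusedSectionVars false
set_option linter.unusedVariables false

namespace Cfsg.Agent.Helper11.F4Out

open Cfsg.Lie Cfsg.Agent.Helper6 Cfsg.Agent.Helper11.FixBN Cfsg.Agent.Helper11.TwF4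
  Cfsg.Agent.Helper11.FixAut Cfsg.Agent.Helper6.F4Phi

variable {K : Type*} [Field K] [Fintype K] [CharP K 2] {θ : ℕ} {hθ : θ ≠ 0} {X : Sig K θ}
  (hfrob : ∀ t : K, t ^ (2 * θ * θ) = t)
  (hadd : ∀ x y : K, (x + y) ^ (2 * θ) = x ^ (2 * θ) + y ^ (2 * θ))

/-! ### Closure properties of the normalised automorphisms -/

theorem Norm.mul {β γ : MulAut (GG K θ)} (h : Norm hθ X β) (h' : Norm hθ X γ) :
    Norm hθ X (β * γ) :=
  ⟨h'.presU.trans h.presU, h'.presV.trans h.presV⟩

theorem Norm.inv {β : MulAut (GG K θ)} (h : Norm hθ X β) : Norm hθ X β⁻¹ :=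
  ⟨h.presU.symm, h.presV.symm⟩

theorem Norm.one : Norm hθ X (1 : MulAut (GG K θ)) :=
  ⟨fun _ => Iff.rfl, fun _ => Iff.rfl⟩

include hfrob hadd in
theorem norm_conj {h : GG K θ} (hh : h ∈ H1 (ctxF4 hθ X) (twistedF4 K θ)) :
    Norm hθ X (MulAut.conj h) := by
  have h1 : h ∈ B1 (ctxF4 hθ X) (twistedF4 K θ) ⊓ Subgroup.normalizer
      ((V1 (ctxF4 hθ X) (twistedF4 K θ) : Subgroup (GG K θ)) : Set (GG K θ)) := by
    rw [B1_inf_normalizer_V1 (twF4 hθ X hfrob hadd) (n0 hθ) (mem_V1_iff hθ X) (n0_mem_N1 hθ X)]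
    exact hh
  refine ⟨pres_conj ?_, pres_conj h1.2⟩
  rw [normalizer_U1 (twF4 hθ X hfrob hadd)]
  exact h1.1

theorem norm_phiAut (f : K ≃+* K) : Norm hθ X (phiAut θ f) := by
  constructor
  · intro y
    rw [mem_U1, mem_U1]
    constructor
    · intro h
      have := gm_mem_posUnipotent f.symm h
      rwa [phiAut_coe, gm_symm] at this
    · intro h
      exact gm_mem_posUnipotent f h
  · intro y
    rw [mem_V1, mem_V1]
    constructor
    · intro h
      have := gm_mem_negUnipotent f.symm h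
      rwa [phiAut_coe, gm_symm] at this
    · intro h
      exact gm_mem_negUnipotent f h

theorem phiAut_xp0 (f : K ≃+* K) (v : K) : phiAut θ f (xp0 θ v) = xp0 θ (f v) :=
  Subtype.ext (gm_pairGen f θ f4p1 f4p4 v)

theorem phiAut_xp1 (f : K ≃+* K) (v u : K) : phiAut θ f (xp1 θ v u) = xp1 θ (f v) (f u) :=
  Subtype.ext (gm_b2Gen f θ f4a f4b f4ab f4aab v u)

/-! ### The action on `X_0` -/

variable (hsurj : ∀ t : Kˣ, ∃ s : Kˣ, s ^ (2 * θ + 2) = t)

include hfrob hadd hsurj in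
/-- a normalised automorphism acts on `X_0` through a scalar multiple of a field automorphism -/
theorem Norm.exists_field {β : MulAut (GG K θ)} (hN : Norm hθ X β) :
    ∃ (c : Kˣ) (φ : K ≃+* K), ∀ v : K, β (xp0 θ v) = xp0 θ ((c : K) * φ v) := by
  have hX := hN.presX hfrob hadd 0
  have hex : ∀ v : K, ∃ w : K, β (xp0 θ v) = xp0 θ w := by
    intro v
    exact (mem_X0 hθ X hfrob hadd).1 ((hX _).2 ((mem_X0 hθ X hfrob hadd).2 ⟨v, rfl⟩))
  choose f hf using hex
  have haddθ := add_pow_theta (K := K) hadd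
  have hfadd : ∀ x y, f (x + y) = f x + f y := by
    intro x y
    apply xp0_injective (θ := θ)
    rw [← hf, ← xp0_mul _ _ (haddθ _ _), map_mul, hf, hf, xp0_mul _ _ (haddθ _ _)]
  have hfinj : Function.Injective f := by
    intro x y hxy
    apply xp0_injective (θ := θ)
    apply β.injective
    rw [hf, hf, hxy]
  have hsl : ∀ l : K, l ≠ 0 → ∃ μ : K, ∀ v, f (l * v) = μ * f v := by
    intro l hl
    set h := hh hθ hfrob hsurj 1 (Units.mk0 l hl)⁻¹ with hh_def
    have hmem : β h ∈ H1 (ctxF4 hθ X) (twistedF4 K θ) :=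
      ((hN.presH hfrob hadd) h).2 (hh_mem hθ X hfrob hsurj _ _)
    obtain ⟨a, b, c, d, e⟩ := exists_tor4_of_mem_H1 hθ X hmem
    refine ⟨(c : K)⁻¹ * (d : K) ^ 2, ?_⟩
    intro v
    apply xp0_injective (θ := θ)
    have h1 := hh_conj_xp0 hθ X hfrob hadd hsurj (Units.mk0 l hl) v
    rw [Units.val_mk0] at h1
    rw [← hf, ← h1, map_mul, map_mul, map_inv, hf,
      H1_conj_xp0 hθ X hfrob hadd hmem e]
  obtain ⟨c, φ, hc, hφ⟩ := exists_semilinear f hfadd hfinj hsl
  refine ⟨Units.mk0 c hc, φ, ?_⟩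
  intro v
  rw [hf, hφ, Units.val_mk0]

end Cfsg.Agent.Helper11.F4Out
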