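import Mathlib
import Cfsg.Agent.Helper11.F4OutD

/-!
# Automorphisms of `²F₄(q)`: rigidity

A normalised automorphism is the product of a field automorphism and two inner automorphisms
induced by torus elements.
-/

set_option autoImplicit false
set_option linter.unusedSectionVars false
set_option linter.unusedVariables false

namespace Cfsg.Agent.Helper11.F4Out

open Cfsg.Lie Cfsg.Agent.Helper6 Cfsg.Agent.Helper11.FixBN Cfsg.Agent.Helper11.TwF4
  Cfsg.Agent.Helper11.FixAut Cfsg.Agent.Helper6.F4Phi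

variable {K : Type*} [Field K] [Fintype K] [CharP K 2] {θ : ℕ} {hθ : θ ≠ 0} {X : Sig K θ}
  (hfrob : ∀ t : K, t ^ (2 * θ * θ) = t)
  (hadd : ∀ x y : K, (x + y) ^ (2 * θ) = x ^ (2 * θ) + y ^ (2 * θ))

include hfrob hadd in
theorem Norm.fix_xm0 {β : MulAut (GG K θ)} (hN : Norm hθ X β)
    (h0 : ∀ v : K, β (xp0 θ v) = xp0 θ v) (v : K) : β (xm0 θ v) = xm0 θ v := by
  apply eq_on_Y (twF4 hθ X hfrob hadd) (hN.presB hfrob hadd) (hN.presP hfrob hadd 0)
    (hN.presY hfrob hadd 0) _ _ ((mem_Y0 hθ X hfrob hadd).2 ⟨v, rfl⟩)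
  intro x hx
  obtain ⟨t, rfl⟩ := (mem_X0 hθ X hfrob hadd).1 hx
  exact h0 t

include hfrob hadd in
theorem Norm.fix_xm1 {β : MulAut (GG K θ)} (hN : Norm hθ X β)
    (h1 : ∀ v u : K, β (xp1 θ v u) = xp1 θ v u) (v u : K) : β (xm1 θ v u) = xm1 θ v u := by
  apply eq_on_Y (twF4 hθ X hfrob hadd) (hN.presB hfrob hadd) (hN.presP hfrob hadd 1)
    (hN.presY hfrob hadd 1) _ _ ((mem_Y1 hθ X hfrob hadd).2 ⟨v, u, rfl⟩)
  intro x hx
  obtain ⟨t, u, rfl⟩ := (mem_X1 hθ X hfrob hadd).1 hx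
  exact h1 t u

include hfrob hadd in
/-- a normalised automorphism fixing the root groups `X_0` and `X_1` pointwise is trivial -/
theorem Norm.eq_one {β : MulAut (GG K θ)} (hN : Norm hθ X β)
    (h0 : ∀ v : K, β (xp0 θ v) = xp0 θ v) (h1 : ∀ v u : K, β (xp1 θ v u) = xp1 θ v u) :
    β = 1 := by
  have hm0 := hN.fix_xm0 hfrob hadd h0
  have hm1 := hN.fix_xm1 hfrob hadd h1
  let F : Subgroup (GG K θ) :=
    { carrier := {g | β g = g}
      mul_mem' := fun {a b} ha hb => by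
        show β (a * b) = a * b
        rw [map_mul, ha, hb]
      one_mem' := map_one β
      inv_mem' := fun {a} ha => by
        show β a⁻¹ = a⁻¹
        rw [map_inv, ha] }
  have hle : twistedF4 K θ ≤ F.map (twistedF4 K θ).subtype := by
    apply twistedF4_le
    · intro t; exact ⟨xp0 θ t, h0 t, rfl⟩
    · intro t; exact ⟨xm0 θ t, hm0 t, rfl⟩
    · intro t u; exact ⟨xp1 θ t u, h1 t u, rfl⟩
    · intro t u; exact ⟨xm1 θ t u, hm1 t u, rfl⟩
  apply MulEquiv.ext
  intro g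
  obtain ⟨g', hg', e⟩ := hle g.2
  have : g' = g := Subtype.ext e
  rw [← this]
  exact hg'

include hfrob hadd in
/-- a normalised automorphism fixing `X_0` pointwise acts on `X_1` as a torus element -/
theorem Norm.exists_torus (hne : ∃ w : K, w ^ θ ≠ w) {β : MulAut (GG K θ)} (hN : Norm hθ X β)
    (h0 : ∀ v : K, β (xp0 θ v) = xp0 θ v) :
    ∃ a : Kˣ, ∀ v u : K, β (xp1 θ v u) = xp1 θ ((a : K) * v) ((a : K) ^ (θ + 1) * u) := by
  have hm0 := hN.fix_xm0 hfrob hadd h0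
  have hfix : ∀ s : Kˣ, β (hh0 θ s) = hh0 θ s := by
    intro s
    rw [hh0_eq]
    simp only [map_mul, h0, hm0]
  have hX := hN.presX hfrob hadd 1
  have hex : ∀ v u : K, ∃ v' u' : K, β (xp1 θ v u) = xp1 θ v' u' := by
    intro v u
    exact (mem_X1 hθ X hfrob hadd).1 ((hX _).2 ((mem_X1 hθ X hfrob hadd).2 ⟨v, u, rfl⟩))
  choose A D hAD using hex
  have hM : ∀ v u v' u', A (v + v') (u + u' + v ^ θ * v') = A v u + A v' u' ∧
      D (v + v') (u + u' + v ^ θ * v') = D v u + D v' u' + (A v u) ^ θ * A v' u' := by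
    intro v u v' u'
    apply xp1_injective (θ := θ)
    rw [← hAD, ← xp1_mul hθ hfrob hadd, map_mul, hAD, hAD, xp1_mul hθ hfrob hadd]
  have hT : ∀ l : K, l ≠ 0 → ∀ v u, A (l * v) (l ^ (θ + 1) * u) = l * A v u ∧
      D (l * v) (l ^ (θ + 1) * u) = l ^ (θ + 1) * D v u := by
    intro l hl v u
    apply xp1_injective (θ := θ)
    have e := hh0_conj_xp1 hθ X hfrob hadd (Units.mk0 l hl)⁻¹
    simp only [Units.val_inv_eq_inv_val, Units.val_mk0, inv_inv] at e
    rw [← hAD, ← e, map_mul, map_mul, map_inv, hfix, hAD, e]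
  have hI : ∀ v u, A v u = 0 → D v u = 0 → v = 0 ∧ u = 0 := by
    intro v u hA hD
    have h1 := hAD v u
    rw [hA, hD, xp1_zero hθ] at h1
    have h2 : xp1 θ v u = xp1 θ 0 0 := by
      rw [xp1_zero hθ]
      apply β.injective
      rw [h1, map_one]
    exact xp1_injective h2
  obtain ⟨a, ha, hmain⟩ := b2_rigid (add_pow_theta hadd) (pow_succ_surj hfrob) hne A D hM hT hI
  refine ⟨Units.mk0 a ha, ?_⟩
  intro v u
  rw [hAD, (hmain v u).1, (hmain v u).2, Units.val_mk0]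

variable (hsurj : ∀ t : Kˣ, ∃ s : Kˣ, s ^ (2 * θ + 2) = t)

include hfrob hadd hsurj in
/-- the decomposition of a normalised automorphism -/
theorem Norm.exists_decomp (hne : ∃ w : K, w ^ θ ≠ w) {β : MulAut (GG K θ)} (hN : Norm hθ X β) :
    ∃ (g : GG K θ) (φ : K ≃+* K) (g' : GG K θ),
      β = MulAut.conj g * phiAut θ φ * MulAut.conj g' := by
  obtain ⟨c, φ, hc⟩ := hN.exists_field hfrob hadd hsurj
  set hA := hh hθ hfrob hsurj 1 c⁻¹ with hA_def
  have hAmem : hA ∈ H1 (ctxF4 hθ X) (twistedF4 K θ) := hh_mem hθ X hfrob hsurj _ _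
  set β' : MulAut (GG K θ) := (phiAut θ φ)⁻¹ * (MulAut.conj hA)⁻¹ * β with hβ'
  have hN' : Norm hθ X β' :=
    (((norm_phiAut φ).inv).mul ((norm_conj hfrob hadd hAmem).inv)).mul hN
  have h0 : ∀ v : K, β' (xp0 θ v) = xp0 θ v := by
    intro v
    rw [hβ', MulAut.mul_apply, MulAut.mul_apply, hc]
    have e1 : (MulAut.conj hA)⁻¹ (xp0 θ ((c : K) * φ v)) = xp0 θ (φ v) := by
      rw [← hh_conj_xp0 hθ X hfrob hadd hsurj c (φ v), ← MulAut.conj_apply,
        MulAut.inv_apply_self]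
    rw [e1, ← phiAut_xp0, MulAut.inv_apply_self]
  obtain ⟨a, ha⟩ := hN'.exists_torus hfrob hadd hne h0
  set hB' := hB hθ hfrob hsurj a with hB_def
  have hBmem : hB' ∈ H1 (ctxF4 hθ X) (twistedF4 K θ) := hB_mem hθ X hfrob hsurj a
  have hN'' : Norm hθ X ((MulAut.conj hB')⁻¹ * β') :=
    ((norm_conj hfrob hadd hBmem).inv).mul hN'
  have hone : (MulAut.conj hB')⁻¹ * β' = 1 := by
    apply hN''.eq_one hfrob hadd
    · intro v
      rw [MulAut.mul_apply, h0]
      conv_lhs => rw [← hB_conj_xp0 hθ X hfrob hadd hsurj a v, ← MulAut.conj_apply]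
      rw [MulAut.inv_apply_self]
    · intro v u
      rw [MulAut.mul_apply, ha, ← hB_conj_xp1 hθ X hfrob hadd hsurj a v u, ← MulAut.conj_apply,
        MulAut.inv_apply_self]
  refine ⟨hA, φ, hB', ?_⟩
  have e1 : β' = MulAut.conj hB' := by
    have := congrArg (fun z => MulAut.conj hB' * z) hone
    simpa [mul_assoc] using this
  rw [← e1, hβ']
  group

end Cfsg.Agent.Helper11.F4Out
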