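import Mathlib
import Cfsg.Prelude.Def_KGroupFacts
import Cfsg.Agent.Helper11.F4OutE
import Cfsg.Agent.Helper11.TwF4Ord
import Cfsg.Agent.Helper11.TwF4Sig

/-!
# Automorphisms of `²F₄(q)`: the outer automorphism group has order `2m + 1`
-/

set_option autoImplicit false
set_option linter.unusedSectionVars false
set_option linter.unusedVariables false

namespace Cfsg.Agent.Helper11.F4Out

open Cfsg.Lie Cfsg.Agent.Helper6 Cfsg.Agent.Helper11.FixBN Cfsg.Agent.Helper11.TwF4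
  Cfsg.Agent.Helper11.FixAut Cfsg.Agent.Helper6.F4Phi

variable {K : Type*} [Field K] [Fintype K] {m : ℕ}

/-- `U¹` is a Sylow `2`-subgroup -/
theorem exists_sylow_F4 [CharP K 2] (hK : Fintype.card K = 2 ^ (2 * m + 1))
    (X : Sig K (2 ^ m)) :
    ∃ P : Sylow 2 ↥(twistedF4 K (2 ^ m)), (P : Subgroup ↥(twistedF4 K (2 ^ m))) =
      U1 (ctxF4 (theta_ne m) X) (twistedF4 K (2 ^ m)) := by
  have : Fact (Nat.Prime 2) := ⟨Nat.prime_two⟩
  set q := 2 ^ (2 * m + 1) with hq
  have hq1 : 1 ≤ q := Nat.one_le_two_pow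
  have hqe : Even q := by
    rw [hq]; exact (Nat.even_pow.2 ⟨even_two, by omega⟩)
  set U' : Subgroup ↥(twistedF4 K (2 ^ m)) :=
    U1 (ctxF4 (theta_ne m) X) (twistedF4 K (2 ^ m)) with hU'
  have hcU : Nat.card U' = q ^ 12 := by
    have e : U' = (chevF4.posUnipotent K ⊓ twistedF4 K (2 ^ m)).subgroupOf
      (twistedF4 K (2 ^ m)) := rfl
    rw [e, Nat.card_congr (Subgroup.subgroupOfEquivOfLe inf_le_right).toEquiv, card_U1 hK]
  have hUp : IsPGroup 2 U' := by
    apply IsPGroup.of_card (n := (2 * m + 1) * 12)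
    rw [hcU, hq, pow_mul]
  have hidx : U'.index = (q - 1) * (q ^ 3 + 1) * (q ^ 4 - 1) * (q ^ 6 + 1) := by
    have h1 := U'.card_mul_index
    rw [hcU, card_main hK] at h1
    have hpos : 0 < q ^ 12 := pow_pos hq1 _
    apply Nat.eq_of_mul_eq_mul_left hpos
    rw [h1]; ring
  have hodd : ¬ 2 ∣ U'.index := by
    rw [hidx, ← even_iff_two_dvd, Nat.not_even_iff_odd]
    have h1 : Odd (q - 1) := Nat.Even.sub_odd hq1 hqe odd_one
    have h3 : Odd (q ^ 3 + 1) := Even.add_odd (Nat.even_pow.2 ⟨hqe, by norm_num⟩) odd_one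
    have h4 : Odd (q ^ 4 - 1) :=
      Nat.Even.sub_odd (Nat.one_le_pow _ _ hq1) (Nat.even_pow.2 ⟨hqe, by norm_num⟩) odd_one
    have h6 : Odd (q ^ 6 + 1) := Even.add_odd (Nat.even_pow.2 ⟨hqe, by norm_num⟩) odd_one
    exact ((h1.mul h3).mul h4).mul h6
  exact ⟨hUp.toSylow hodd, rfl⟩

/-- `Out(²F₄(q))` has order `2m + 1` -/
theorem card_out (hm : 1 ≤ m) (hK : Fintype.card K = 2 ^ (2 * m + 1)) :
    Nat.card (Cfsg.Out ↥(twistedF4 K (2 ^ m))) = 2 * m + 1 := by
  have := charP_two hK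
  have : Fact (Nat.Prime 2) := ⟨Nat.prime_two⟩
  obtain ⟨X⟩ := exists_sig (K := K) m
  have hθ := theta_ne m
  have hfrob := frob_card hK
  have hadd := add_pow_card hK
  have hsurj := pow_surj hK
  have hcard : 2 < Fintype.card K := by
    rw [hK]
    calc 2 < 2 ^ 2 := by norm_num
      _ ≤ 2 ^ (2 * m + 1) := Nat.pow_le_pow_right (by norm_num) (by omega)
  have hne := exists_pow_ne hfrob hcard
  rw [← card_ringEquiv hK]
  symm
  apply Nat.card_congr
  refine Equiv.ofBijective (fun φ : K ≃+* K =>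
    (QuotientGroup.mk (phiAut (2 ^ m) φ) : Cfsg.Out ↥(twistedF4 K (2 ^ m)))) ⟨?_, ?_⟩
  · intro φ ψ hφψ
    obtain ⟨g, hg⟩ := QuotientGroup.eq.mp hφψ
    have hN : Norm hθ X (MulAut.conj g) := by
      rw [hg]
      exact ((norm_phiAut φ).inv).mul (norm_phiAut ψ)
    have hgB : g ∈ B1 (ctxF4 hθ X) (twistedF4 K (2 ^ m)) := by
      rw [← normalizer_U1 (twF4 hθ X hfrob hadd), Subgroup.mem_normalizer_iff]
      intro y
      have := hN.presU y
      rw [MulAut.conj_apply] at this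
      exact this.symm
    have hgV : g ∈ Subgroup.normalizer ((V1 (ctxF4 hθ X) (twistedF4 K (2 ^ m)) :
        Subgroup ↥(twistedF4 K (2 ^ m))) : Set ↥(twistedF4 K (2 ^ m))) := by
      rw [Subgroup.mem_normalizer_iff]
      intro y
      have := hN.presV y
      rw [MulAut.conj_apply] at this
      exact this.symm
    have hgH : g ∈ H1 (ctxF4 hθ X) (twistedF4 K (2 ^ m)) := by
      rw [← B1_inf_normalizer_V1 (twF4 hθ X hfrob hadd) (n0 hθ) (mem_V1_iff hθ X)
        (n0_mem_N1 hθ X)]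
      exact ⟨hgB, hgV⟩
    obtain ⟨a, b, c, d, e⟩ := exists_tor4_of_mem_H1 hθ X hgH
    have key : ∀ v : K, φ.symm (ψ v) = (c : K)⁻¹ * (d : K) ^ 2 * v := by
      intro v
      apply xp0_injective (θ := 2 ^ m)
      rw [← H1_conj_xp0 hθ X hfrob hadd hgH e, ← MulAut.conj_apply, hg, MulAut.mul_apply,
        phiAut_xp0, ← phiAut_symm, phiAut_xp0]
    have h1 : (c : K)⁻¹ * (d : K) ^ 2 = 1 := by
      have := key 1
      rw [map_one, map_one, mul_one] at this
      exact this.symm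
    apply RingEquiv.ext
    intro v
    have := key v
    rw [h1, one_mul] at this
    have h2 := congrArg φ this
    rw [RingEquiv.apply_symm_apply] at h2
    exact h2.symm
  · intro x
    obtain ⟨α, rfl⟩ := QuotientGroup.mk_surjective x
    obtain ⟨P, hP⟩ := exists_sylow_F4 hK X
    obtain ⟨x₀, hU, hV⟩ := exists_normalize (twF4 hθ X hfrob hadd) (n0 hθ) (mem_V1_iff hθ X)
      2 P hP α
    have hN : Norm hθ X (MulAut.conj x₀ * α) := ⟨hU, hV⟩
    obtain ⟨g, φ, g', hdec⟩ := hN.exists_decomp hfrob hadd hsurj hne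
    refine ⟨φ, ?_⟩
    have hinn : ∀ y : ↥(twistedF4 K (2 ^ m)),
        (QuotientGroup.mk (MulAut.conj y) : Cfsg.Out ↥(twistedF4 K (2 ^ m))) = 1 := by
      intro y
      rw [QuotientGroup.eq_one_iff]
      exact ⟨y, rfl⟩
    have hα : α = (MulAut.conj x₀)⁻¹ * (MulAut.conj g * phiAut (2 ^ m) φ * MulAut.conj g') := by
      rw [← hdec]; group
    show (QuotientGroup.mk (phiAut (2 ^ m) φ) : Cfsg.Out ↥(twistedF4 K (2 ^ m))) =
      QuotientGroup.mk α
    rw [hα, QuotientGroup.mk_mul, QuotientGroup.mk_mul, QuotientGroup.mk_mul, QuotientGroup.mk_inv,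
      hinn, hinn, hinn, inv_one, one_mul, one_mul, mul_one]

end Cfsg.Agent.Helper11.F4Out
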