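import Mathlib

/-! Linear algebra over a finite field: an endomorphism `φ` of prime order `p` of an `n`-dimensional
space over `F_q`, where `p ∤ q` and `p ∤ q^d - 1` for `0 < d < n`, acts irreducibly, and its commutant
is commutative (a field, by Wedderburn). -/

set_option autoImplicit false
set_option linter.unusedSectionVars false

namespace Cfsg.Agent.Helper11.IrrComm

open Module

variable {K V : Type*} [Field K] [Finite K] [AddCommGroup V] [Module K V] [Finite V]

theorem pow_apply_mem (φ : Module.End K V) (W : Submodule K V) (hW : ∀ v ∈ W, φ v ∈ W) (n : ℕ) :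
    ∀ v ∈ W, (φ ^ n) v ∈ W := by
  induction n with
  | zero => intro v hv; simpa using hv
  | succ n ih =>
    intro v hv
    rw [pow_succ', Module.End.mul_apply]
    exact hW _ (ih v hv)

/-- counting fixed points of a `p`-th root of unity on an invariant subspace -/
theorem card_modEq (p : ℕ) [Fact p.Prime] (φ : Module.End K V) (hφ : φ ^ p = 1)
    (W : Submodule K V) (hW : ∀ v ∈ W, φ v ∈ W) :
    Nat.card W ≡ Nat.card ↥(W ⊓ LinearMap.ker (φ - 1)) [MOD p] := by
  classical
  have : Fintype W := Fintype.ofFinite W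
  let f : Function.End W := fun w => ⟨φ w, hW w w.2⟩
  have hfn : ∀ (n : ℕ) (w : W), (((f ^ n) w : W) : V) = (φ ^ n) w := by
    intro n
    induction n with
    | zero => intro w; rfl
    | succ n ih =>
      intro w
      rw [pow_succ', pow_succ', Module.End.mul_apply, ← ih w]
      rfl
  have hf : f ^ p ^ 1 = 1 := by
    rw [pow_one]
    funext w
    apply Subtype.ext
    rw [hfn, hφ]
    rfl
  have h1 := Equiv.Perm.card_fixedPoints_modEq (p := p) (n := 1) hf
  have e : ↥(Function.fixedPoints f) ≃ ↥(W ⊓ LinearMap.ker (φ - 1)) :=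
    { toFun := fun w => ⟨w.1.1, w.1.2, by
        have := congrArg Subtype.val w.2
        show w.1.1 ∈ LinearMap.ker (φ - 1)
        rw [LinearMap.mem_ker, LinearMap.sub_apply, Module.End.one_apply, sub_eq_zero]
        exact this⟩
      invFun := fun v => ⟨⟨v.1, v.2.1⟩, by
        have : v.1 ∈ LinearMap.ker (φ - 1) := v.2.2
        rw [LinearMap.mem_ker, LinearMap.sub_apply, Module.End.one_apply, sub_eq_zero] at this
        exact Subtype.ext this⟩
      left_inv := fun w => rfl
      right_inv := fun v => rfl }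
  rw [Nat.card_eq_fintype_card, ← Nat.card_congr e, Nat.card_eq_fintype_card]
  exact h1


omit [Finite K] [Finite V] in
theorem dvd_pow_sub_one {p q a b : ℕ} (hp : p.Prime) (hq : ¬ p ∣ q) (hab : b ≤ a)
    (h : q ^ a ≡ q ^ b [MOD p]) : p ∣ q ^ (a - b) - 1 := by
  have hcop : Nat.gcd p (q ^ b) = 1 := by
    apply Nat.Coprime.pow_right
    exact (Nat.Prime.coprime_iff_not_dvd hp).mpr hq
  have h1 : q ^ b * q ^ (a - b) ≡ q ^ b * 1 [MOD p] := by
    rw [mul_one, ← pow_add, Nat.add_sub_cancel' hab]
    exact h
  have h2 := Nat.ModEq.cancel_left_of_coprime hcop h1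
  have hq0 : q ≠ 0 := by
    rintro rfl
    exact hq (dvd_zero p)
  have h3 : 1 ≤ q ^ (a - b) := Nat.one_le_pow _ _ (Nat.pos_of_ne_zero hq0)
  exact (Nat.modEq_iff_dvd' h3).mp h2.symm

section main

variable (p : ℕ) [Fact p.Prime] (φ : Module.End K V) (hφ : φ ^ p = 1) (hφ1 : φ ≠ 1)
  (hq : ¬ p ∣ Nat.card K) (hd : ∀ d, 0 < d → d < finrank K V → ¬ p ∣ Nat.card K ^ d - 1)

include hφ hφ1 hq hd

theorem ker_sub_one_eq_bot : LinearMap.ker (φ - 1) = ⊥ := by
  have hp : p.Prime := Fact.out
  have h1 := card_modEq p φ hφ ⊤ (fun v _ => Submodule.mem_top)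
  rw [top_inf_eq, Nat.card_congr (Submodule.topEquiv (R := K) (M := V)).toEquiv,
    Module.natCard_eq_pow_finrank (K := K) (V := V),
    Module.natCard_eq_pow_finrank (K := K) (V := ↥(LinearMap.ker (φ - 1)))] at h1
  have hle : finrank K ↥(LinearMap.ker (φ - 1)) ≤ finrank K V := Submodule.finrank_le _
  have h2 := dvd_pow_sub_one hp hq hle h1
  by_cases h0 : finrank K ↥(LinearMap.ker (φ - 1)) = 0
  · exact Submodule.finrank_eq_zero.mp h0
  · exfalso
    by_cases hn : finrank K ↥(LinearMap.ker (φ - 1)) = finrank K V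
    · have htop : LinearMap.ker (φ - 1) = ⊤ := Submodule.eq_top_of_finrank_eq hn
      apply hφ1
      have := LinearMap.ker_eq_top.mp htop
      exact sub_eq_zero.mp this
    · exact hd _ (by omega) (by omega) h2

theorem invariant_eq_bot_or_top (W : Submodule K V) (hW : ∀ v ∈ W, φ v ∈ W) : W = ⊥ ∨ W = ⊤ := by
  have hp : p.Prime := Fact.out
  have h1 := card_modEq p φ hφ W hW
  rw [ker_sub_one_eq_bot p φ hφ hφ1 hq hd, inf_bot_eq,
    Module.natCard_eq_pow_finrank (K := K) (V := ↥W)] at h1
  have hb : Nat.card ↥(⊥ : Submodule K V) = Nat.card K ^ 0 := by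
    rw [pow_zero]
    exact Nat.card_unique
  rw [hb] at h1
  have hle : finrank K ↥W ≤ finrank K V := Submodule.finrank_le _
  have h2 := dvd_pow_sub_one hp hq (Nat.zero_le _) h1
  rw [Nat.sub_zero] at h2
  by_cases h0 : finrank K ↥W = 0
  · left; exact Submodule.finrank_eq_zero.mp h0
  · right
    by_cases hn : finrank K ↥W = finrank K V
    · exact Submodule.eq_top_of_finrank_eq hn
    · exact absurd h2 (hd _ (by omega) (by omega))

theorem injective_of_comm (A : Module.End K V) (hA : A * φ = φ * A) (hA0 : A ≠ 0) :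
    Function.Injective A := by
  have hinv : ∀ v ∈ LinearMap.ker A, φ v ∈ LinearMap.ker A := by
    intro v hv
    rw [LinearMap.mem_ker] at hv ⊢
    have : A (φ v) = φ (A v) := by
      rw [← Module.End.mul_apply, hA, Module.End.mul_apply]
    rw [this, hv, map_zero]
  rcases invariant_eq_bot_or_top p φ hφ hφ1 hq hd _ hinv with h | h
  · exact LinearMap.ker_eq_bot.mp h
  · exact absurd (LinearMap.ker_eq_top.mp h) hA0

/-- the commutant of `φ` is commutative -/
theorem comm (A B : Module.End K V) (hA : A * φ = φ * A) (hB : B * φ = φ * B) : A * B = B * A := by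
  let Z := Subring.centralizer ({φ} : Set (Module.End K V))
  have hmem : ∀ C : Module.End K V, C * φ = φ * C → C ∈ Z := by
    intro C hC
    rw [Subring.mem_centralizer_iff]
    intro g hg
    rw [Set.mem_singleton_iff] at hg
    rw [hg, hC]
  have hmem' : ∀ C : Z, C.1 * φ = φ * C.1 := by
    intro C
    have := Subring.mem_centralizer_iff.mp C.2 φ rfl
    exact this.symm
  have : Nontrivial Z := by
    refine ⟨⟨0, 1, ?_⟩⟩
    intro h
    have h01 : (0 : Module.End K V) = 1 := congrArg Subtype.val h
    apply hφ1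
    have : ∀ v : V, v = 0 := by
      intro v
      have := congrArg (fun f : Module.End K V => f v) h01
      simpa using this.symm
    ext v
    rw [this v, map_zero, map_zero]
  have : NoZeroDivisors Z := by
    refine ⟨?_⟩
    intro a b hab
    by_cases ha : a = 0
    · exact Or.inl ha
    · right
      have ha' : a.1 ≠ 0 := fun h => ha (Subtype.ext h)
      have hinj := injective_of_comm p φ hφ hφ1 hq hd a.1 (hmem' a) ha'
      apply Subtype.ext
      ext v
      have : a.1 (b.1 v) = 0 := by
        have := congrArg (fun f : Z => f.1 v) hab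
        simpa using this
      rw [← map_zero a.1] at this
      exact hinj this
  have : IsDomain Z := NoZeroDivisors.to_isDomain Z
  have : Finite (Module.End K V) := DFunLike.finite _
  have hfield := Finite.isDomain_to_isField Z
  have := hfield.mul_comm ⟨A, hmem A hA⟩ ⟨B, hmem B hB⟩
  exact congrArg Subtype.val this

end main


/-- matrix form -/
theorem matrix_comm {K : Type*} [Field K] [Fintype K] {n : ℕ} (p : ℕ) [Fact p.Prime]
    (M : Matrix (Fin n) (Fin n) K) (hM : M ^ p = 1) (hM1 : M ≠ 1) (hq : ¬ p ∣ Fintype.card K)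
    (hd : ∀ d, 0 < d → d < n → ¬ p ∣ Fintype.card K ^ d - 1)
    (A B : Matrix (Fin n) (Fin n) K) (hA : A * M = M * A) (hB : B * M = M * B) : A * B = B * A := by
  let e := Matrix.toLinAlgEquiv' (R := K) (n := Fin n)
  have h1 : (e M) ^ p = 1 := by rw [← map_pow, hM, map_one]
  have h2 : e M ≠ 1 := by
    intro h
    apply hM1
    apply e.injective
    rw [h, map_one]
  have hq' : ¬ p ∣ Nat.card K := by rwa [Nat.card_eq_fintype_card]
  have hd' : ∀ d, 0 < d → d < Module.finrank K (Fin n → K) → ¬ p ∣ Nat.card K ^ d - 1 := by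
    intro d h0 hdn
    rw [Module.finrank_fin_fun] at hdn
    rw [Nat.card_eq_fintype_card]
    exact hd d h0 hdn
  have := comm p (e M) h1 h2 hq' hd' (e A) (e B) (by rw [← map_mul, hA, map_mul])
    (by rw [← map_mul, hB, map_mul])
  apply e.injective
  rw [map_mul, map_mul, this]

end Cfsg.Agent.Helper11.IrrComm
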