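import Mathlib
import Cfsg.Agent.Helper11.IrrComm

/-! The commutant `Z` of an irreducible endomorphism `φ` of prime order of a finite vector space is a
field with `[Z : K] = dim V`; consequences for normalisers and centralisers. -/

set_option autoImplicit false
set_option linter.unusedSectionVars false
set_option linter.unusedVariables false

namespace Cfsg.Agent.Helper11.FieldComm

open Module

variable {K V : Type*} [Field K] [Finite K] [AddCommGroup V] [Module K V] [Finite V]

/-- the commutant -/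
abbrev Zc (φ : Module.End K V) : Subalgebra K (Module.End K V) :=
  Subalgebra.centralizer K ({φ} : Set (Module.End K V))

omit [Finite K] [Finite V] in
theorem mem_Zc {φ z : Module.End K V} : z ∈ Zc φ ↔ z * φ = φ * z := by
  rw [Subalgebra.mem_centralizer_iff]
  constructor
  · intro h; exact (h φ rfl).symm
  · intro h g hg
    rw [Set.mem_singleton_iff] at hg
    rw [hg, h]

section main

variable (p : ℕ) [Fact p.Prime] (φ : Module.End K V) (hφ : φ ^ p = 1) (hφ1 : φ ≠ 1)
  (hq : ¬ p ∣ Nat.card K) (hd : ∀ d, 0 < d → d < finrank K V → ¬ p ∣ Nat.card K ^ d - 1)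

include hφ hφ1 hq hd

theorem Zc_comm (a b : Zc φ) : a * b = b * a :=
  Subtype.ext (IrrComm.comm p φ hφ hφ1 hq hd a.1 b.1 (mem_Zc.mp a.2) (mem_Zc.mp b.2))

theorem Zc_nontrivial : Nontrivial (Zc φ) := by
  refine ⟨⟨0, 1, ?_⟩⟩
  intro h
  have h01 : (0 : Module.End K V) = 1 := congrArg Subtype.val h
  apply hφ1
  have : ∀ v : V, v = 0 := by
    intro v
    have := congrArg (fun f : Module.End K V => f v) h01
    simpa using this.symm
  ext v
  rw [this v, map_zero, map_zero]

theorem Zc_injective (a : Zc φ) (ha : a ≠ 0) : Function.Injective a.1 :=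
  IrrComm.injective_of_comm p φ hφ hφ1 hq hd a.1 (mem_Zc.mp a.2) (fun h => ha (Subtype.ext h))

theorem Zc_noZeroDivisors : NoZeroDivisors (Zc φ) := by
  refine ⟨?_⟩
  intro a b hab
  by_cases ha : a = 0
  · exact Or.inl ha
  · right
    have hinj := Zc_injective p φ hφ hφ1 hq hd a ha
    apply Subtype.ext
    ext v
    have : a.1 (b.1 v) = 0 := by
      have := congrArg (fun f : Zc φ => f.1 v) hab
      simpa using this
    rw [← map_zero a.1] at this
    exact hinj this

/-- the commutant as a commutative ring -/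
@[reducible] noncomputable def commRing : CommRing (Zc φ) :=
  { (inferInstance : Ring (Zc φ)) with mul_comm := Zc_comm p φ hφ hφ1 hq hd }

theorem isDomain : @IsDomain (Zc φ) (commRing p φ hφ hφ1 hq hd).toSemiring := by
  let _ := commRing p φ hφ hφ1 hq hd
  have := Zc_nontrivial p φ hφ hφ1 hq hd
  have := Zc_noZeroDivisors p φ hφ hφ1 hq hd
  exact NoZeroDivisors.to_isDomain _

/-- the commutant as a field -/
@[reducible] noncomputable def field : Field (Zc φ) :=
  letI := commRing p φ hφ hφ1 hq hd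
  haveI := isDomain p φ hφ hφ1 hq hd
  haveI : Finite (Module.End K V) := DFunLike.finite _
  (Finite.isField_of_domain (Zc φ)).toField

/-- evaluation at a vector, as a linear map from the commutant -/
def evalAt (v : V) : Zc φ →ₗ[K] V where
  toFun z := z.1 v
  map_add' a b := rfl
  map_smul' c a := rfl

theorem evalAt_injective (v : V) (hv : v ≠ 0) : Function.Injective (evalAt φ v) := by
  rw [← LinearMap.ker_eq_bot, LinearMap.ker_eq_bot']
  intro z hz
  by_contra hz0
  have hinj := Zc_injective p φ hφ hφ1 hq hd z hz0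
  apply hv
  apply hinj
  rw [map_zero]
  exact hz

theorem evalAt_surjective (v : V) (hv : v ≠ 0) : Function.Surjective (evalAt φ v) := by
  rw [← LinearMap.range_eq_top]
  have hinv : ∀ w ∈ LinearMap.range (evalAt φ v), φ w ∈ LinearMap.range (evalAt φ v) := by
    rintro _ ⟨z, rfl⟩
    have hφm : φ ∈ Zc φ := mem_Zc.mpr rfl
    refine ⟨⟨φ, hφm⟩ * z, ?_⟩
    rfl
  rcases IrrComm.invariant_eq_bot_or_top p φ hφ hφ1 hq hd _ hinv with h | h
  · exfalso
    apply hv
    have : v ∈ LinearMap.range (evalAt φ v) := ⟨1, rfl⟩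
    rw [h] at this
    exact (Submodule.mem_bot K).mp this
  · exact h

theorem finrank_Zc : finrank K (Zc φ) = finrank K V := by
  have : Nontrivial V := by
    by_contra hnt
    rw [not_nontrivial_iff_subsingleton] at hnt
    apply hφ1
    ext v
    exact Subsingleton.elim _ _
  obtain ⟨v, hv⟩ := exists_ne (0 : V)
  exact LinearEquiv.finrank_eq (LinearEquiv.ofBijective (evalAt φ v)
    ⟨evalAt_injective p φ hφ hφ1 hq hd v hv, evalAt_surjective p φ hφ hφ1 hq hd v hv⟩)

theorem card_aut : Nat.card (Zc φ ≃ₐ[K] Zc φ) = finrank K V := by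
  let _ := field p φ hφ hφ1 hq hd
  have : Finite (Module.End K V) := DFunLike.finite _
  have h1 := IsGalois.card_aut_eq_finrank K (Zc φ)
  rw [finrank_Zc p φ hφ hφ1 hq hd] at h1
  exact h1

theorem conj_mem (a b : Module.End K V) (hab : a * b = 1)
    (hc : b * φ * a ∈ Zc φ) (z : Zc φ) : a * z.1 * b ∈ Zc φ := by
  rw [mem_Zc]
  have h1 : z.1 * (b * φ * a) = (b * φ * a) * z.1 :=
    congrArg Subtype.val (Zc_comm p φ hφ hφ1 hq hd z ⟨_, hc⟩)
  calc a * z.1 * b * φ = a * z.1 * b * φ * (a * b) := by rw [hab, mul_one]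
    _ = a * (z.1 * (b * φ * a)) * b := by simp only [mul_assoc]
    _ = a * ((b * φ * a) * z.1) * b := by rw [h1]
    _ = (a * b) * φ * (a * z.1 * b) := by simp only [mul_assoc]
    _ = φ * (a * z.1 * b) := by rw [hab, one_mul]

/-- conjugation by an invertible endomorphism normalising the commutant -/
noncomputable def conjEquiv (a b : Module.End K V) (hab : a * b = 1) (hba : b * a = 1)
    (hc : b * φ * a ∈ Zc φ) (hc' : a * φ * b ∈ Zc φ) : Zc φ ≃ₐ[K] Zc φ where
  toFun z := ⟨a * z.1 * b, conj_mem p φ hφ hφ1 hq hd a b hab hc z⟩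
  invFun z := ⟨b * z.1 * a, conj_mem p φ hφ hφ1 hq hd b a hba hc' z⟩
  left_inv z := by
    apply Subtype.ext
    show b * (a * z.1 * b) * a = z.1
    calc b * (a * z.1 * b) * a = (b * a) * z.1 * (b * a) := by simp only [mul_assoc]
      _ = z.1 := by rw [hba, one_mul, mul_one]
  right_inv z := by
    apply Subtype.ext
    show a * (b * z.1 * a) * b = z.1
    calc a * (b * z.1 * a) * b = (a * b) * z.1 * (a * b) := by simp only [mul_assoc]
      _ = z.1 := by rw [hab, one_mul, mul_one]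
  map_mul' z w := by
    apply Subtype.ext
    show a * (z.1 * w.1) * b = (a * z.1 * b) * (a * w.1 * b)
    calc a * (z.1 * w.1) * b = a * z.1 * 1 * w.1 * b := by simp only [mul_assoc, one_mul]
      _ = (a * z.1 * b) * (a * w.1 * b) := by rw [← hba]; simp only [mul_assoc]
  map_add' z w := by
    apply Subtype.ext
    show a * (z.1 + w.1) * b = a * z.1 * b + a * w.1 * b
    rw [mul_add, add_mul]
  commutes' c := by
    apply Subtype.ext
    show a * (algebraMap K (Module.End K V) c) * b = algebraMap K (Module.End K V) c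
    rw [← Algebra.commutes c a, mul_assoc, hab, mul_one]

end main

section group

variable {H : Type*} [Group H] [Finite H] (ρ : H →* Module.End K V) (hρ : Function.Injective ρ)
  (p : ℕ) [Fact p.Prime] (x : H) (hx : x ^ p = 1) (hx1 : x ≠ 1)
  (hq : ¬ p ∣ Nat.card K) (hd : ∀ d, 0 < d → d < finrank K V → ¬ p ∣ Nat.card K ^ d - 1)

include hρ hx hx1 hq hd

theorem rho_pow : ρ x ^ p = 1 := by rw [← map_pow, hx, map_one]

theorem rho_ne_one : ρ x ≠ 1 := fun h => hx1 (hρ (h.trans (map_one ρ).symm))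

theorem rho_mem {t : H} (ht : t * x = x * t) : ρ t ∈ Zc (ρ x) := by
  rw [mem_Zc, ← map_mul, ← map_mul, ht]

/-- a subgroup centralising `x` is cyclic -/
theorem isCyclic_of_le_centralizer (T : Subgroup H)
    (hT : T ≤ Subgroup.centralizer ({x} : Set H)) : IsCyclic T := by
  have hφ := rho_pow ρ hρ p x hx hx1 hq hd
  have hφ1 := rho_ne_one ρ hρ p x hx hx1 hq hd
  let _ := commRing p (ρ x) hφ hφ1 hq hd
  have := isDomain p (ρ x) hφ hφ1 hq hd
  have hcomm : ∀ t : T, t.1 * x = x * t.1 := fun t =>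
    (Subgroup.mem_centralizer_iff.mp (hT t.2) x rfl).symm
  let f : T →* Zc (ρ x) :=
    { toFun := fun t => ⟨ρ t.1, rho_mem ρ hρ p x hx hx1 hq hd (hcomm t)⟩
      map_one' := Subtype.ext (map_one ρ)
      map_mul' := fun a b => Subtype.ext (map_mul ρ a.1 b.1) }
  apply isCyclic_of_injective_ringHom f
  intro a b hab
  apply Subtype.ext
  apply hρ
  exact congrArg Subtype.val hab

/-- the conjugation action of a subgroup normalising the commutant -/
noncomputable def conjHom (N : Subgroup H) (hN : ∀ h ∈ N, Commute (h * x * h⁻¹) x) :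
    N →* (Zc (ρ x) ≃ₐ[K] Zc (ρ x)) where
  toFun h := conjEquiv p (ρ x) (rho_pow ρ hρ p x hx hx1 hq hd) (rho_ne_one ρ hρ p x hx hx1 hq hd)
    hq hd (ρ h.1) (ρ h.1⁻¹) (by rw [← map_mul, mul_inv_cancel, map_one])
    (by rw [← map_mul, inv_mul_cancel, map_one])
    (by
      rw [← map_mul, ← map_mul]
      apply rho_mem ρ hρ p x hx hx1 hq hd
      have := hN h.1⁻¹ (N.inv_mem h.2)
      rw [inv_inv] at this
      exact this.eq)
    (by
      rw [← map_mul, ← map_mul]
      apply rho_mem ρ hρ p x hx hx1 hq hd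
      exact (hN h.1 h.2).eq)
  map_one' := by
    apply AlgEquiv.ext
    intro z
    apply Subtype.ext
    show ρ ((1 : N) : H) * z.1 * ρ ((1 : N) : H)⁻¹ = z.1
    rw [Subgroup.coe_one, inv_one, map_one, one_mul, mul_one]
  map_mul' a b := by
    apply AlgEquiv.ext
    intro z
    apply Subtype.ext
    show ρ ((a * b : N) : H) * z.1 * ρ ((a * b : N) : H)⁻¹ =
      ρ a.1 * (ρ b.1 * z.1 * ρ b.1⁻¹) * ρ a.1⁻¹
    rw [Subgroup.coe_mul, _root_.mul_inv_rev, map_mul, map_mul]
    simp only [mul_assoc]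

theorem mem_ker_conjHom (N : Subgroup H) (hN : ∀ h ∈ N, Commute (h * x * h⁻¹) x) (h : N) :
    h ∈ (conjHom ρ hρ p x hx hx1 hq hd N hN).ker ↔ h.1 * x = x * h.1 := by
  rw [MonoidHom.mem_ker]
  have hφ := rho_pow ρ hρ p x hx hx1 hq hd
  have hφ1 := rho_ne_one ρ hρ p x hx hx1 hq hd
  have hinv : ρ h.1 * ρ h.1⁻¹ = 1 := by rw [← map_mul, mul_inv_cancel, map_one]
  have hinv' : ρ h.1⁻¹ * ρ h.1 = 1 := by rw [← map_mul, inv_mul_cancel, map_one]
  constructor
  · intro hk
    have hxm : ρ x ∈ Zc (ρ x) := mem_Zc.mpr rfl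
    have := congrArg (fun e : Zc (ρ x) ≃ₐ[K] Zc (ρ x) => (e ⟨ρ x, hxm⟩).1) hk
    have h2 : ρ h.1 * ρ x * ρ h.1⁻¹ = ρ x := this
    apply hρ
    rw [map_mul, map_mul]
    calc ρ h.1 * ρ x = ρ h.1 * ρ x * (ρ h.1⁻¹ * ρ h.1) := by rw [hinv', mul_one]
      _ = (ρ h.1 * ρ x * ρ h.1⁻¹) * ρ h.1 := by simp only [mul_assoc]
      _ = ρ x * ρ h.1 := by rw [h2]
  · intro hc
    apply AlgEquiv.ext
    intro z
    apply Subtype.ext
    show ρ h.1 * z.1 * ρ h.1⁻¹ = z.1
    have hm : ρ h.1 ∈ Zc (ρ x) := rho_mem ρ hρ p x hx hx1 hq hd hc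
    have h3 : ρ h.1 * z.1 = z.1 * ρ h.1 :=
      congrArg Subtype.val (Zc_comm p (ρ x) hφ hφ1 hq hd ⟨_, hm⟩ z)
    rw [h3, mul_assoc, hinv, mul_one]

/-- the normaliser has index dividing `dim V` over the centraliser -/
theorem card_dvd (N : Subgroup H) (hN : ∀ h ∈ N, Commute (h * x * h⁻¹) x) :
    Nat.card N ∣ finrank K V * Nat.card ↥(N ⊓ Subgroup.centralizer ({x} : Set H)) := by
  have hφ := rho_pow ρ hρ p x hx hx1 hq hd
  have hφ1 := rho_ne_one ρ hρ p x hx hx1 hq hd
  set ψ := conjHom ρ hρ p x hx hx1 hq hd N hN with hψ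
  have h1 : Nat.card ψ.ker * ψ.ker.index = Nat.card N := Subgroup.card_mul_index ψ.ker
  have h2 : ψ.ker.index = Nat.card ψ.range := Subgroup.index_ker ψ
  have h3 : Nat.card ψ.range ∣ Nat.card (Zc (ρ x) ≃ₐ[K] Zc (ρ x)) :=
    Subgroup.card_subgroup_dvd_card ψ.range
  rw [card_aut p (ρ x) hφ hφ1 hq hd] at h3
  have h4 : ψ.ker = (N ⊓ Subgroup.centralizer ({x} : Set H)).subgroupOf N := by
    ext h
    rw [mem_ker_conjHom, Subgroup.mem_subgroupOf, Subgroup.mem_inf, Subgroup.mem_centralizer_iff]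
    constructor
    · intro hc
      refine ⟨h.2, ?_⟩
      intro g hg
      rw [Set.mem_singleton_iff] at hg
      rw [hg, hc]
    · rintro ⟨-, hc⟩
      exact (hc x rfl).symm
  have h5 : Nat.card ψ.ker = Nat.card ↥(N ⊓ Subgroup.centralizer ({x} : Set H)) := by
    rw [h4]
    exact Nat.card_congr (Subgroup.subgroupOfEquivOfLe inf_le_left).toEquiv
  rw [← h1, h2, h5, mul_comm]
  exact Nat.mul_dvd_mul_right h3 _

end group

end Cfsg.Agent.Helper11.FieldComm
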