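import Mathlib

/-! `GL(5, 2)`: its order, and the absence of elements of order 9. -/

set_option autoImplicit false

namespace Cfsg.Agent.Helper11.GL52

open Matrix
open scoped Pointwise

theorem card_GL52 : Nat.card (GL (Fin 5) (ZMod 2)) = 9999360 := by
  rw [Matrix.card_GL_field, ZMod.card, Fin.prod_univ_five]
  norm_num

/-- the matrix `a`: block `[[0,1],[1,1]]` in position `0,1` -/
def matA : Matrix (Fin 5) (Fin 5) (ZMod 2) :=
  !![0, 1, 0, 0, 0; 1, 1, 0, 0, 0; 0, 0, 1, 0, 0; 0, 0, 0, 1, 0; 0, 0, 0, 0, 1]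

/-- the matrix `b`: block `[[0,1],[1,1]]` in position `2,3` -/
def matB : Matrix (Fin 5) (Fin 5) (ZMod 2) :=
  !![1, 0, 0, 0, 0; 0, 1, 0, 0, 0; 0, 0, 0, 1, 0; 0, 0, 1, 1, 0; 0, 0, 0, 0, 1]

theorem matA_cube : matA * (matA * matA) = 1 := by decide

theorem matA_cube' : (matA * matA) * matA = 1 := by decide

theorem matB_cube : matB * (matB * matB) = 1 := by decide

theorem matB_cube' : (matB * matB) * matB = 1 := by decide

theorem matA_matB : matA * matB = matB * matA := by decide

theorem matA_ne_one : matA ≠ 1 := by decide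

theorem matB_ne_one : matB ≠ 1 := by decide

theorem matB_ne_matA : matB ≠ matA := by decide

theorem matB_ne_matA_sq : matB ≠ matA * matA := by decide

/-- `a` as an element of `GL(5,2)` -/
def gA : GL (Fin 5) (ZMod 2) := ⟨matA, matA * matA, matA_cube, matA_cube'⟩

/-- `b` as an element of `GL(5,2)` -/
def gB : GL (Fin 5) (ZMod 2) := ⟨matB, matB * matB, matB_cube, matB_cube'⟩

theorem gA_pow : gA ^ 3 = 1 := by
  apply Units.ext
  rw [Units.val_pow_eq_pow_val, Units.val_one, pow_succ, pow_two]
  exact matA_cube'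

theorem gB_pow : gB ^ 3 = 1 := by
  apply Units.ext
  rw [Units.val_pow_eq_pow_val, Units.val_one, pow_succ, pow_two]
  exact matB_cube'

theorem gA_gB : gA * gB = gB * gA := by
  apply Units.ext
  exact matA_matB

/-- In a cyclic group of order 9, the solutions of `x ^ 3 = 1` are the powers of any non-identity
solution. -/
theorem mem_zpowers_of_cyclic {G : Type*} [Group G] [Finite G] [IsCyclic G] (hG : Nat.card G = 9)
    (a b : G) (ha : a ^ 3 = 1) (ha1 : a ≠ 1) (hb : b ^ 3 = 1) : b = 1 ∨ b = a ∨ b = a ^ 2 := by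
  classical
  obtain ⟨g, hg⟩ := IsCyclic.exists_generator (α := G)
  have hog : orderOf g = 9 := by rw [orderOf_eq_card_of_forall_mem_zpowers hg, hG]
  have key : ∀ x : G, x ^ 3 = 1 → ∃ i : ℕ, i < 3 ∧ x = g ^ (3 * i) := by
    intro x hx
    obtain ⟨k, hk⟩ := (Subgroup.mem_zpowers_iff).mp (hg x)
    have h1 : g ^ (k * 3) = 1 := by
      rw [_root_.zpow_mul, hk]
      exact_mod_cast hx
    have h2 : (9 : ℤ) ∣ k * 3 := by
      have := (orderOf_dvd_iff_zpow_eq_one).mpr h1
      rwa [hog] at this
    have h3 : (3 : ℤ) ∣ k := by omega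
    obtain ⟨j, rfl⟩ := h3
    refine ⟨(j % 3).toNat, by omega, ?_⟩
    rw [← hk, ← zpow_natCast]
    rw [← zpow_mod_orderOf, hog]
    congr 1
    push_cast
    omega
  obtain ⟨i, hi, rfl⟩ := key a ha
  obtain ⟨j, hj, rfl⟩ := key b hb
  have h9 : g ^ 9 = 1 := by rw [← hog]; exact pow_orderOf_eq_one g
  interval_cases i
  · exact absurd (by simp) ha1
  · interval_cases j
    · left; simp
    · right; left; rfl
    · right; right
      rw [← pow_mul]
  · interval_cases j
    · left; simp
    · right; right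
      rw [← pow_mul]
      show g ^ 3 = g ^ 12
      rw [show 12 = 9 + 3 by norm_num, pow_add, h9, one_mul]
    · right; left; rfl

theorem not_orderOf_nine (g : GL (Fin 5) (ZMod 2)) : orderOf g ≠ 9 := by
  classical
  intro hg
  have : Fact (Nat.Prime 3) := ⟨Nat.prime_three⟩
  -- the Sylow 3-subgroups have order 9
  have hcard : ∀ S : Sylow 3 (GL (Fin 5) (ZMod 2)), Nat.card S = 9 := by
    intro S
    obtain ⟨k, hk⟩ := S.isPGroup'.exists_card_eq
    have h1 := Subgroup.card_mul_index (S : Subgroup (GL (Fin 5) (ZMod 2)))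
    have h2 := S.not_dvd_index
    rw [card_GL52, hk] at h1
    have h3 : (3 : ℕ) ^ k ∣ 9 := by
      have : (3 : ℕ) ^ k ∣ 9 * 1111040 := ⟨_, h1.symm⟩
      exact (Nat.Coprime.pow_left k (by norm_num : Nat.Coprime 3 1111040)).dvd_of_dvd_mul_right this
    have h4 : k ≤ 2 := by
      by_contra hk2
      have : (3 : ℕ) ^ 3 ∣ 3 ^ k := pow_dvd_pow 3 (by omega)
      have := Nat.le_of_dvd (by norm_num) (this.trans h3)
      norm_num at this
    rw [hk]
    interval_cases k
    · exfalso
      apply h2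
      have : (S : Subgroup (GL (Fin 5) (ZMod 2))).index = 9999360 := by simpa using h1
      rw [this]; norm_num
    · exfalso
      apply h2
      have : (S : Subgroup (GL (Fin 5) (ZMod 2))).index = 3333120 := by omega
      rw [this]; norm_num
    · norm_num
  -- a Sylow containing `g`
  have hpg : IsPGroup 3 (Subgroup.zpowers g) := by
    apply IsPGroup.of_card (n := 2)
    rw [Nat.card_zpowers, hg]; norm_num
  obtain ⟨S, hS⟩ := hpg.exists_le_sylow
  have hSg : (S : Subgroup (GL (Fin 5) (ZMod 2))) = Subgroup.zpowers g := by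
    symm
    apply Subgroup.eq_of_le_of_card_ge hS
    rw [hcard S, Nat.card_zpowers, hg]
  -- a Sylow containing `gA`, `gB`
  have hP0 : IsPGroup 3 (Subgroup.closure ({gA, gB} : Set (GL (Fin 5) (ZMod 2)))) := by
    have hcomm : ∀ x ∈ Subgroup.closure ({gA, gB} : Set (GL (Fin 5) (ZMod 2))), x ^ 3 = 1 ∧
        Commute x gA ∧ Commute x gB := by
      intro x hx
      induction hx using Subgroup.closure_induction with
      | mem y hy =>
        rcases hy with rfl | rfl
        · exact ⟨gA_pow, Commute.refl _, gA_gB⟩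
        · exact ⟨gB_pow, gA_gB.symm, Commute.refl _⟩
      | one => exact ⟨one_pow _, Commute.one_left _, Commute.one_left _⟩
      | mul y z hy hz ihy ihz =>
        have hyz : Commute y z := by
          have : ∀ w ∈ Subgroup.closure ({gA, gB} : Set (GL (Fin 5) (ZMod 2))), Commute y w := by
            intro w hw
            induction hw using Subgroup.closure_induction with
            | mem v hv =>
              rcases hv with rfl | rfl
              · exact ihy.2.1
              · exact ihy.2.2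
            | one => exact Commute.one_right _
            | mul v w _ _ ihv ihw => exact ihv.mul_right ihw
            | inv v _ ihv => exact ihv.inv_right
          exact this z hz
        exact ⟨by rw [hyz.mul_pow, ihy.1, ihz.1, one_mul], ihy.2.1.mul_left ihz.2.1,
          ihy.2.2.mul_left ihz.2.2⟩
      | inv y hy ihy => exact ⟨by rw [inv_pow, ihy.1, inv_one], ihy.2.1.inv_left, ihy.2.2.inv_left⟩
    intro x
    refine ⟨1, ?_⟩
    apply Subtype.ext
    rw [pow_one, Subgroup.coe_pow]
    exact (hcomm x.1 x.2).1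
  obtain ⟨T, hT⟩ := hP0.exists_le_sylow
  -- `T` is conjugate to `S`, hence cyclic
  obtain ⟨c, hc⟩ := MulAction.exists_smul_eq (GL (Fin 5) (ZMod 2)) S T
  have hTcyc : IsCyclic (T : Subgroup (GL (Fin 5) (ZMod 2))) := by
    have hScyc : IsCyclic (S : Subgroup (GL (Fin 5) (ZMod 2))) := by
      rw [hSg]; infer_instance
    rw [← hc, Sylow.coe_subgroup_smul]
    have e : (S : Subgroup (GL (Fin 5) (ZMod 2))) ≃*
        (MulAut.conj c • (S : Subgroup (GL (Fin 5) (ZMod 2))) : Subgroup (GL (Fin 5) (ZMod 2))) :=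
      Subgroup.equivSMul (MulAut.conj c) _
    exact isCyclic_of_surjective e e.surjective
  have hgAT : gA ∈ (T : Subgroup (GL (Fin 5) (ZMod 2))) := hT (Subgroup.subset_closure (by simp))
  have hgBT : gB ∈ (T : Subgroup (GL (Fin 5) (ZMod 2))) := hT (Subgroup.subset_closure (by simp))
  have := mem_zpowers_of_cyclic (G := (T : Subgroup (GL (Fin 5) (ZMod 2)))) (hcard T)
    ⟨gA, hgAT⟩ ⟨gB, hgBT⟩ (Subtype.ext (by rw [Subgroup.coe_pow]; exact gA_pow))
    (fun h => matA_ne_one (congrArg (fun x : (T : Subgroup (GL (Fin 5) (ZMod 2))) =>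
      ((x : GL (Fin 5) (ZMod 2)) : Matrix (Fin 5) (Fin 5) (ZMod 2))) h))
    (Subtype.ext (by rw [Subgroup.coe_pow]; exact gB_pow))
  rcases this with h | h | h
  · exact matB_ne_one (congrArg (fun x : (T : Subgroup (GL (Fin 5) (ZMod 2))) =>
      ((x : GL (Fin 5) (ZMod 2)) : Matrix (Fin 5) (Fin 5) (ZMod 2))) h)
  · exact matB_ne_matA (congrArg (fun x : (T : Subgroup (GL (Fin 5) (ZMod 2))) =>
      ((x : GL (Fin 5) (ZMod 2)) : Matrix (Fin 5) (Fin 5) (ZMod 2))) h)
  · apply matB_ne_matA_sq
    have := congrArg (fun x : (T : Subgroup (GL (Fin 5) (ZMod 2))) =>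
      ((x : GL (Fin 5) (ZMod 2)) : Matrix (Fin 5) (Fin 5) (ZMod 2))) h
    simp only [Subgroup.coe_pow, Units.val_pow_eq_pow_val] at this
    rw [pow_two] at this
    exact this

end Cfsg.Agent.Helper11.GL52
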