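import Mathlib

set_option autoImplicit false

namespace Cfsg.Agent.Helper11.JointEigen

open Module Module.End

variable {K V : Type*} [Field K] [AddCommGroup V] [Module K V] [FiniteDimensional K V]

theorem involution_isSemisimple (h2 : (2 : K) ≠ 0) {g : End K V} (hg : g * g = 1) :
    g.IsSemisimple := by
  have hsq : Squarefree (Polynomial.X ^ 2 - Polynomial.C (1 : K)) :=
    (Polynomial.separable_X_pow_sub_C (1 : K) (by exact_mod_cast h2) one_ne_zero).squarefree
  apply isSemisimple_of_squarefree_aeval_eq_zero hsq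
  simp [pow_two, hg]

theorem involution_apply_apply {g : End K V} (hg : g * g = 1) (v : V) : g (g v) = v := by
  have := LinearMap.congr_fun hg v
  simpa using this

theorem involution_iSup_maxGenEigenspace (h2 : (2 : K) ≠ 0) {g : End K V} (hg : g * g = 1) :
    ⨆ μ, g.maxGenEigenspace μ = ⊤ := by
  rw [(involution_isSemisimple h2 hg).iSup_maxGenEigenspace_eq_top_iff, eq_top_iff]
  intro v _
  have hgg := involution_apply_apply hg
  have h1 : (2 : K)⁻¹ • (v + g v) ∈ g.eigenspace 1 := by
    rw [mem_eigenspace_iff]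
    simp only [map_smul, map_add, hgg, one_smul]
    rw [add_comm]
  have h3 : (2 : K)⁻¹ • (v - g v) ∈ g.eigenspace (-1) := by
    rw [mem_eigenspace_iff]
    simp only [map_smul, map_sub, hgg, neg_smul, one_smul]
    rw [← smul_neg, neg_sub]
  have hv : v = (2 : K)⁻¹ • (v + g v) + (2 : K)⁻¹ • (v - g v) := by
    rw [← smul_add, add_add_sub_cancel, ← two_smul K v, smul_smul, inv_mul_cancel₀ h2, one_smul]
  rw [hv]
  exact Submodule.add_mem _ (Submodule.mem_iSup_of_mem 1 h1) (Submodule.mem_iSup_of_mem (-1) h3)

end Cfsg.Agent.Helper11.JointEigen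

namespace Cfsg.Agent.Helper11.JointEigen

open Module Module.End

universe uK uV uι

variable {K : Type uK} {V : Type uV} [Field K] [AddCommGroup V] [Module K V] [FiniteDimensional K V]

/-- A commuting family of involutions of a finite-dimensional space in characteristic `≠ 2` has a
basis of joint eigenvectors, with eigenvalues `±1`. -/
theorem exists_joint_eigenbasis (h2 : (2 : K) ≠ 0) {ι : Type uι} (f : ι → End K V)
    (hc : ∀ i j, Commute (f i) (f j)) (hf : ∀ i, f i * f i = 1) :
    ∃ (κ : Type (max uK uι)) (_ : Fintype κ) (b : Basis κ K V) (ε : κ → ι → K),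
      (∀ k i, f i (b k) = ε k i • b k) ∧ (∀ k i, ε k i = 1 ∨ ε k i = -1) := by
  classical
  have h' : ∀ i, ⨆ μ, (f i).maxGenEigenspace μ = ⊤ := fun i =>
    involution_iSup_maxGenEigenspace h2 (hf i)
  have hsup := iSup_iInf_maxGenEigenspace_eq_top_of_iSup_maxGenEigenspace_eq_top_of_commute f
    (fun i j _ => hc i j) h'
  have hind := independent_iInf_maxGenEigenspace_of_forall_mapsTo f
    (fun i j φ => mapsTo_maxGenEigenspace_of_comm (hc j i) φ)
  have hint := DirectSum.isInternal_submodule_of_iSupIndep_of_iSup_eq_top hind hsup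
  let b := hint.collectedBasis (fun χ => Module.finBasis K _)
  have := FiniteDimensional.fintypeBasisIndex b
  refine ⟨_, inferInstance, b, fun k i => k.1 i, ?_, ?_⟩
  · intro k i
    have hmem : b k ∈ ⨅ i, (f i).maxGenEigenspace (k.1 i) :=
      hint.collectedBasis_mem (fun χ => Module.finBasis K _) k
    have hmem' : b k ∈ (f i).maxGenEigenspace (k.1 i) := (Submodule.mem_iInf _).1 hmem i
    rw [(involution_isSemisimple h2 (hf i)).isFinitelySemisimple.maxGenEigenspace_eq_eigenspace,
      mem_eigenspace_iff] at hmem'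
    exact hmem'
  · intro k i
    have hmem : b k ∈ ⨅ i, (f i).maxGenEigenspace (k.1 i) :=
      hint.collectedBasis_mem (fun χ => Module.finBasis K _) k
    have hmem' : b k ∈ (f i).maxGenEigenspace (k.1 i) := (Submodule.mem_iInf _).1 hmem i
    rw [(involution_isSemisimple h2 (hf i)).isFinitelySemisimple.maxGenEigenspace_eq_eigenspace,
      mem_eigenspace_iff] at hmem'
    have h3 := involution_apply_apply (hf i) (b k)
    rw [hmem', map_smul, hmem', smul_smul] at h3
    have h4 : (k.1 i * k.1 i - 1) • b k = 0 := by rw [sub_smul, h3, one_smul, sub_self]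
    rcases smul_eq_zero.1 h4 with h5 | h5
    · have h6 : (k.1 i - 1) * (k.1 i + 1) = 0 := by linear_combination h5
      rcases mul_eq_zero.1 h6 with h7 | h7
      · left; linear_combination h7
      · right; linear_combination h7
    · exact absurd h5 (b.ne_zero k)

end Cfsg.Agent.Helper11.JointEigen

namespace Cfsg.Agent.Helper11.JointEigen

open Module Module.End

section signs

variable {K : Type*} [Field K]

theorem card_le_of_inj_sign {ι κ : Type*} [Fintype κ] (ε : κ → ι → K)
    (hε : ∀ k i, ε k i = 1 ∨ ε k i = -1) (hinj : ∀ i j, (∀ k, ε k i = ε k j) → i = j) :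
    Nat.card ι ≤ 2 ^ Fintype.card κ := by
  classical
  have hcard : Nat.card (κ → Bool) = 2 ^ Fintype.card κ := by
    rw [Nat.card_eq_fintype_card, Fintype.card_fun, Fintype.card_bool]
  rw [← hcard]
  apply Nat.card_le_card_of_injective (fun i => fun k => decide (ε k i = 1))
  intro i j hij
  apply hinj
  intro k
  have h := congrFun hij k
  simp only [decide_eq_decide] at h
  rcases hε k i with h1 | h1
  · rw [h1, h.1 h1]
  · rcases hε k j with h3 | h3
    · rw [h.2 h3, h3]
    · rw [h1, h3]

theorem card_le_of_inj_sign_prod {ι κ : Type*} [Fintype κ] (k₀ : κ) (ε : κ → ι → K)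
    (hε : ∀ k i, ε k i = 1 ∨ ε k i = -1) (hinj : ∀ i j, (∀ k, ε k i = ε k j) → i = j)
    (hprod : ∀ i, ∏ k, ε k i = 1) :
    Nat.card ι ≤ 2 ^ (Fintype.card κ - 1) := by
  classical
  have hcard : Nat.card ({k : κ // k ≠ k₀} → Bool) = 2 ^ (Fintype.card κ - 1) := by
    rw [Nat.card_eq_fintype_card, Fintype.card_fun, Fintype.card_bool,
      Fintype.card_subtype_compl, Fintype.card_subtype_eq]
  rw [← hcard]
  apply Nat.card_le_card_of_injective
    (fun i => fun k : {k : κ // k ≠ k₀} => decide (ε k.1 i = 1))
  intro i j hij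
  apply hinj
  have hoff : ∀ k, k ≠ k₀ → ε k i = ε k j := by
    intro k hk
    have h := congrFun hij ⟨k, hk⟩
    simp only [decide_eq_decide] at h
    rcases hε k i with h1 | h1
    · rw [h1, h.1 h1]
    · rcases hε k j with h3 | h3
      · rw [h.2 h3, h3]
      · rw [h1, h3]
  intro k
  by_cases hk : k = k₀
  · subst hk
    have hi := hprod i
    have hj := hprod j
    rw [← Finset.mul_prod_erase Finset.univ _ (Finset.mem_univ k)] at hi hj
    have hP : ∏ x ∈ Finset.univ.erase k, ε x i = ∏ x ∈ Finset.univ.erase k, ε x j := by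
      apply Finset.prod_congr rfl
      intro x hx
      exact hoff x (Finset.ne_of_mem_erase hx)
    rw [hP] at hi
    have hne : ∏ x ∈ Finset.univ.erase k, ε x j ≠ 0 := by
      intro h0
      rw [h0, mul_zero] at hj
      exact zero_ne_one hj
    exact mul_right_cancel₀ hne (hi.trans hj.symm)
  · exact hoff k hk

end signs

end Cfsg.Agent.Helper11.JointEigen

namespace Cfsg.Agent.Helper11.JointEigen

open Module Module.End

universe uK uV uι

variable {K : Type uK} {V : Type uV} [Field K] [AddCommGroup V] [Module K V] [FiniteDimensional K V]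

/-- an injective commuting family of involutions has at most `2 ^ dim V` members -/
theorem card_le_two_pow (h2 : (2 : K) ≠ 0) {ι : Type uι} (f : ι → End K V)
    (hinj : Function.Injective f)
    (hc : ∀ i j, Commute (f i) (f j)) (hf : ∀ i, f i * f i = 1) :
    Nat.card ι ≤ 2 ^ finrank K V := by
  obtain ⟨κ, _, b, ε, h1, h3⟩ := exists_joint_eigenbasis h2 f hc hf
  rw [Module.finrank_eq_card_basis b]
  apply card_le_of_inj_sign ε h3
  intro i j hij
  apply hinj
  apply b.ext
  intro k
  rw [h1, h1, hij]

/-- an injective commuting family of involutions of determinant one has at most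
`2 ^ (dim V - 1)` members -/
theorem card_le_two_pow_pred (h2 : (2 : K) ≠ 0) {ι : Type uι} (f : ι → End K V)
    (hinj : Function.Injective f)
    (hc : ∀ i j, Commute (f i) (f j)) (hf : ∀ i, f i * f i = 1)
    (hdet : ∀ i, LinearMap.det (f i) = 1) (hV : 0 < finrank K V) :
    Nat.card ι ≤ 2 ^ (finrank K V - 1) := by
  classical
  obtain ⟨κ, _, b, ε, h1, h3⟩ := exists_joint_eigenbasis h2 f hc hf
  have hcard := Module.finrank_eq_card_basis b
  rw [hcard] at hV ⊢
  obtain ⟨k₀⟩ : Nonempty κ := Fintype.card_pos_iff.1 hV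
  apply card_le_of_inj_sign_prod k₀ ε h3
  · intro i j hij
    apply hinj
    apply b.ext
    intro k
    rw [h1, h1, hij]
  · intro i
    have hM : LinearMap.toMatrix b b (f i) = Matrix.diagonal (fun k => ε k i) := by
      ext k l
      rw [LinearMap.toMatrix_apply, h1, map_smul, Basis.repr_self, Matrix.diagonal_apply]
      by_cases hkl : k = l
      · subst hkl; simp
      · have : l ≠ k := fun h => hkl h.symm
        simp [hkl, Finsupp.single_apply, this]
    have hd := LinearMap.det_toMatrix b (f i)
    rw [hM, Matrix.det_diagonal, hdet] at hd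
    exact hd

end Cfsg.Agent.Helper11.JointEigen

namespace Cfsg.Agent.Helper11.JointEigen

open Module Module.End

theorem two_ne_zero_of_odd_card {F : Type*} [Field F] [Fintype F] (hF : Odd (Fintype.card F)) :
    (2 : F) ≠ 0 := by
  apply Ring.two_ne_zero
  intro h
  rw [FiniteField.even_card_iff_char_two] at h
  rw [← Nat.not_even_iff_odd, Nat.even_iff] at hF
  exact hF h

variable {F : Type*} [Field F] {n : Type*} [Fintype n] [DecidableEq n]

/-- an elementary abelian 2-subgroup of a group of matrices has order at most `2 ^ n` -/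
theorem card_le_of_matrix_hom (h2 : (2 : F) ≠ 0) {G : Type*} [Group G] (φ : G →* Matrix n n F)
    (hφ : Function.Injective φ) (A : Subgroup G) (hA : IsMulCommutative A)
    (hexp : ∀ a ∈ A, a ^ 2 = 1) : Nat.card A ≤ 2 ^ Fintype.card n := by
  have key := card_le_two_pow (K := F) (V := n → F) h2
    (fun a : A => Matrix.toLin' (φ a.1)) ?_ ?_ ?_
  · rwa [Module.finrank_fintype_fun_eq_card] at key
  · intro a b hab
    exact Subtype.ext (hφ (Matrix.toLin'.injective hab))
  · intro a b
    have hab : a.1 * b.1 = b.1 * a.1 := by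
      have := hA.is_comm.comm a b
      exact congrArg Subtype.val this
    change Matrix.toLin' (φ a.1) * Matrix.toLin' (φ b.1) = Matrix.toLin' (φ b.1) * Matrix.toLin' (φ a.1)
    rw [Module.End.mul_eq_comp, Module.End.mul_eq_comp, ← Matrix.toLin'_mul, ← Matrix.toLin'_mul,
      ← map_mul, ← map_mul, hab]
  · intro a
    have := hexp a.1 a.2
    rw [pow_two] at this
    rw [Module.End.mul_eq_comp, ← Matrix.toLin'_mul, ← map_mul, this, map_one, Matrix.toLin'_one]
    rfl

/-- an elementary abelian 2-subgroup of a group of matrices of determinant one has order at most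
`2 ^ (n - 1)` -/
theorem card_le_of_matrix_hom_det (h2 : (2 : F) ≠ 0) {G : Type*} [Group G]
    (φ : G →* Matrix n n F)
    (hφ : Function.Injective φ) (hdet : ∀ g, (φ g).det = 1) (hn : 0 < Fintype.card n)
    (A : Subgroup G) (hA : IsMulCommutative A)
    (hexp : ∀ a ∈ A, a ^ 2 = 1) : Nat.card A ≤ 2 ^ (Fintype.card n - 1) := by
  have key := card_le_two_pow_pred (K := F) (V := n → F) h2
    (fun a : A => Matrix.toLin' (φ a.1)) ?_ ?_ ?_ ?_ ?_
  · rwa [Module.finrank_fintype_fun_eq_card] at key
  · intro a b hab
    exact Subtype.ext (hφ (Matrix.toLin'.injective hab))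
  · intro a b
    have hab : a.1 * b.1 = b.1 * a.1 := by
      have := hA.is_comm.comm a b
      exact congrArg Subtype.val this
    change Matrix.toLin' (φ a.1) * Matrix.toLin' (φ b.1) = Matrix.toLin' (φ b.1) * Matrix.toLin' (φ a.1)
    rw [Module.End.mul_eq_comp, Module.End.mul_eq_comp, ← Matrix.toLin'_mul, ← Matrix.toLin'_mul,
      ← map_mul, ← map_mul, hab]
  · intro a
    have := hexp a.1 a.2
    rw [pow_two] at this
    rw [Module.End.mul_eq_comp, ← Matrix.toLin'_mul, ← map_mul, this, map_one, Matrix.toLin'_one]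
    rfl
  · intro a
    rw [LinearMap.det_toLin', hdet]
  · rwa [Module.finrank_fintype_fun_eq_card]

end Cfsg.Agent.Helper11.JointEigen
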