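import Mathlib
import Cfsg.Agent.Helper11.JointEigen

set_option autoImplicit false

namespace Cfsg.Agent.Helper11.JointEigen

section pairs

variable {K : Type*} [Field K]

/-- if every sign character occurs at least twice among the `ε k`, the bound halves -/
theorem card_le_of_inj_sign_pairs {ι κ : Type*} [Fintype κ] (ε : κ → ι → K)
    (hε : ∀ k i, ε k i = 1 ∨ ε k i = -1) (hinj : ∀ i j, (∀ k, ε k i = ε k j) → i = j)
    (hpair : ∀ k, ∃ l, l ≠ k ∧ ε l = ε k) :
    Nat.card ι ≤ 2 ^ (Fintype.card κ / 2) := by
  classical
  let S : Finset (ι → K) := Finset.univ.image ε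
  have hS : 2 * S.card ≤ Fintype.card κ := by
    have := Finset.mul_card_image_le_card (f := ε) (Finset.univ : Finset κ) 2 ?_
    · simpa using this
    · intro χ hχ
      obtain ⟨k, _, rfl⟩ := Finset.mem_image.1 hχ
      obtain ⟨l, hlk, hl⟩ := hpair k
      have hsub : ({k, l} : Finset κ) ⊆ Finset.univ.filter (fun x => ε x = ε k) := by
        intro x hx
        rcases Finset.mem_insert.1 hx with rfl | hx
        · simp
        · rw [Finset.mem_singleton] at hx
          subst hx
          simp [hl]
      have hcard : ({k, l} : Finset κ).card = 2 := Finset.card_pair (fun h => hlk h.symm)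
      rw [← hcard]
      exact Finset.card_le_card hsub
  have hS' : S.card ≤ Fintype.card κ / 2 := by omega
  have hcard : Nat.card (S → Bool) = 2 ^ S.card := by
    rw [Nat.card_eq_fintype_card, Fintype.card_fun, Fintype.card_bool, Fintype.card_coe]
  refine le_trans ?_ (Nat.pow_le_pow_right (by norm_num) hS')
  rw [← hcard]
  apply Nat.card_le_card_of_injective (fun i => fun χ : S => decide (χ.1 i = 1))
  intro i j hij
  apply hinj
  intro k
  have h := congrFun hij ⟨ε k, Finset.mem_image_of_mem ε (Finset.mem_univ k)⟩
  simp only [decide_eq_decide] at h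
  rcases hε k i with h1 | h1
  · rw [h1, h.1 h1]
  · rcases hε k j with h3 | h3
    · rw [h.2 h3, h3]
    · rw [h1, h3]

end pairs

end Cfsg.Agent.Helper11.JointEigen
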