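import Mathlib
import Cfsg.Agent.Helper11.JointEigen

set_option autoImplicit false

namespace Cfsg.Agent.Helper11.SLRank

open Matrix

variable {F : Type*} [Field F]

/-- the sign of a unit of `ℤ` in `F` -/
def sgn (F : Type*) [Field F] : ℤˣ →* F :=
  (Int.castRingHom F).toMonoidHom.comp (Units.coeHom ℤ)

theorem sgn_mul_self (u : ℤˣ) : sgn F u * sgn F u = 1 := by
  rw [← map_mul, Int.units_mul_self, map_one]

theorem sgn_injective (h2 : (2 : F) ≠ 0) : Function.Injective (sgn F) := by
  intro u v huv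
  rcases Int.units_eq_one_or u with rfl | rfl <;> rcases Int.units_eq_one_or v with rfl | rfl
  · rfl
  · exfalso
    simp only [sgn, MonoidHom.coe_comp, Function.comp_apply, Units.coeHom_apply, Units.val_one,
      RingHom.toMonoidHom_eq_coe, MonoidHom.coe_coe, map_one, Units.val_neg, map_neg] at huv
    apply h2
    linear_combination huv
  · exfalso
    simp only [sgn, MonoidHom.coe_comp, Function.comp_apply, Units.coeHom_apply, Units.val_one,
      RingHom.toMonoidHom_eq_coe, MonoidHom.coe_coe, map_one, Units.val_neg, map_neg] at huv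
    apply h2
    linear_combination -huv
  · rfl

/-- diagonal entries attached to a sign vector: the first entry makes the product one -/
def dvec (F : Type*) [Field F] {k : ℕ} (ε : Fin k → ℤˣ) : Fin (k + 1) → F :=
  Fin.cons (∏ i, sgn F (ε i)) (fun i => sgn F (ε i))

theorem dvec_one {k : ℕ} : dvec F (1 : Fin k → ℤˣ) = 1 := by
  funext j
  refine Fin.cases ?_ (fun i => ?_) j <;> simp [dvec]

theorem dvec_mul {k : ℕ} (ε ε' : Fin k → ℤˣ) : dvec F (ε * ε') = dvec F ε * dvec F ε' := by
  funext j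
  refine Fin.cases ?_ (fun i => ?_) j
  · simp [dvec, Finset.prod_mul_distrib]
  · simp [dvec]

theorem dvec_prod {k : ℕ} (ε : Fin k → ℤˣ) : ∏ j, dvec F ε j = 1 := by
  rw [Fin.prod_univ_succ]
  simp only [dvec, Fin.cons_zero, Fin.cons_succ]
  rw [← Finset.prod_mul_distrib]
  apply Finset.prod_eq_one
  intro i _
  exact sgn_mul_self _

/-- the diagonal sign matrices of determinant one -/
def diagHom (F : Type*) [Field F] (k : ℕ) : (Fin k → ℤˣ) →* SpecialLinearGroup (Fin (k + 1)) F where
  toFun ε := ⟨Matrix.diagonal (dvec F ε), by rw [Matrix.det_diagonal, dvec_prod]⟩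
  map_one' := by
    apply Subtype.ext
    simp only [dvec_one]
    exact Matrix.diagonal_one
  map_mul' ε ε' := by
    apply Subtype.ext
    simp only [dvec_mul]
    exact (Matrix.diagonal_mul_diagonal' _ _).symm

theorem diagHom_injective (h2 : (2 : F) ≠ 0) (k : ℕ) : Function.Injective (diagHom F k) := by
  intro ε ε' h
  have h1 : Matrix.diagonal (dvec F ε) = Matrix.diagonal (dvec F ε') := congrArg Subtype.val h
  have h3 := Matrix.diagonal_injective h1
  funext i
  have h4 := congrFun h3 i.succ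
  simp only [dvec, Fin.cons_succ] at h4
  exact sgn_injective h2 h4

end Cfsg.Agent.Helper11.SLRank

namespace Cfsg.Agent.Helper11.SLRank

open Matrix Cfsg.Agent.Helper11.JointEigen

variable {F : Type*} [Field F]

theorem card_fin_units (k : ℕ) : Nat.card (Fin k → ℤˣ) = 2 ^ k := by
  rw [Nat.card_eq_fintype_card, Fintype.card_fun, Fintype.card_fin]
  rfl

theorem fin_units_sq {k : ℕ} (ε : Fin k → ℤˣ) : ε ^ 2 = 1 := by
  funext i
  simp only [Pi.pow_apply, Pi.one_apply]
  rw [pow_two, Int.units_mul_self]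

theorem sl_rank_lower (h2 : (2 : F) ≠ 0) (k : ℕ) :
    ∃ A : Subgroup (SpecialLinearGroup (Fin (k + 1)) F), IsMulCommutative A ∧
      (∀ a ∈ A, a ^ 2 = 1) ∧ 2 ^ k ≤ Nat.card A := by
  refine ⟨(diagHom F k).range, inferInstance, ?_, ?_⟩
  · rintro a ⟨ε, rfl⟩
    rw [← map_pow, fin_units_sq, map_one]
  · rw [← card_fin_units k]
    exact le_of_eq (Nat.card_congr (MonoidHom.ofInjective (diagHom_injective h2 k)).toEquiv)

theorem sl_rank_upper (h2 : (2 : F) ≠ 0) (m : ℕ) (hm : 1 ≤ m)
    (A : Subgroup (SpecialLinearGroup (Fin m) F)) (hA : IsMulCommutative A)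
    (hexp : ∀ a ∈ A, a ^ 2 = 1) : Nat.card A ≤ 2 ^ (m - 1) := by
  have key := card_le_of_matrix_hom_det (n := Fin m) h2
    (G := SpecialLinearGroup (Fin m) F)
    ⟨⟨fun g => g.1, rfl⟩, fun _ _ => rfl⟩ (fun g g' h => Subtype.ext h) (fun g => g.2)
    (by rw [Fintype.card_fin]; exact hm) A hA hexp
  rwa [Fintype.card_fin] at key

end Cfsg.Agent.Helper11.SLRank
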