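import Mathlib
import Cfsg.Agent.Helper11.JointEigen2
import Cfsg.Agent.Helper11.SLRank
import Cfsg.Agent.Helper2.SpForm

set_option autoImplicit false

namespace Cfsg.Agent.Helper11.SpRank

open Matrix Cfsg.Agent.Helper11.JointEigen Cfsg.Agent.Helper2.Sp Cfsg.Agent.Helper11.SLRank

variable {F : Type*} [Field F] {l : Type*} [Fintype l] [DecidableEq l]

theorem sp_rank_upper (h2 : (2 : F) ≠ 0) (A : Subgroup (symplecticGroup l F))
    (hA : IsMulCommutative A) (hexp : ∀ a ∈ A, a ^ 2 = 1) :
    Nat.card A ≤ 2 ^ Fintype.card l := by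
  classical
  let f : A → Module.End F (l ⊕ l → F) := fun a => Matrix.toLin' (a.1.1)
  have hc : ∀ a b, Commute (f a) (f b) := by
    intro a b
    have hab : a.1 * b.1 = b.1 * a.1 := congrArg Subtype.val (hA.is_comm.comm a b)
    have hab' : a.1.1 * b.1.1 = b.1.1 * a.1.1 := congrArg Subtype.val hab
    change Matrix.toLin' a.1.1 * Matrix.toLin' b.1.1 = Matrix.toLin' b.1.1 * Matrix.toLin' a.1.1
    rw [Module.End.mul_eq_comp, Module.End.mul_eq_comp, ← Matrix.toLin'_mul, ← Matrix.toLin'_mul,
      hab']
  have hf : ∀ a, f a * f a = 1 := by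
    intro a
    have h := hexp a.1 a.2
    rw [pow_two] at h
    have h' : a.1.1 * a.1.1 = 1 := congrArg Subtype.val h
    change Matrix.toLin' a.1.1 * Matrix.toLin' a.1.1 = 1
    rw [Module.End.mul_eq_comp, ← Matrix.toLin'_mul, h', Matrix.toLin'_one]
    rfl
  obtain ⟨κ, _, b, ε, h1, h3⟩ := exists_joint_eigenbasis h2 f hc hf
  have hcard : Fintype.card κ = 2 * Fintype.card l := by
    rw [← Module.finrank_eq_card_basis b, Module.finrank_fintype_fun_eq_card, Fintype.card_sum]
    ring
  have h1' : ∀ k (a : A), a.1.1 *ᵥ b k = ε k a • b k := by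
    intro k a
    rw [← Matrix.toLin'_apply]
    exact h1 k a
  have key := card_le_of_inj_sign_pairs ε h3 ?_ ?_
  · rw [hcard, Nat.mul_div_cancel_left _ (by norm_num)] at key
    exact key
  · intro i j hij
    have hfij : f i = f j := by
      apply b.ext
      intro k
      rw [h1, h1, hij]
    exact Subtype.ext (Subtype.ext (Matrix.toLin'.injective hfij))
  · intro k
    obtain ⟨x, hx⟩ := exists_om_ne_zero (b.ne_zero k)
    have hex : ∃ l', om (b k) (b l') ≠ 0 := by
      by_contra hno
      push Not at hno
      apply hx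
      let φ : (l ⊕ l → F) →ₗ[F] F :=
        { toFun := fun v => om (b k) v
          map_add' := fun v w => om_add_right _ _ _
          map_smul' := fun c v => by
            simp only [RingHom.id_apply, smul_eq_mul]
            exact om_smul_right _ _ _ }
      have hφ : φ = 0 := by
        apply b.ext
        intro l'
        exact hno l'
      have := LinearMap.congr_fun hφ x
      exact this
    obtain ⟨l', hl'⟩ := hex
    refine ⟨l', ?_, ?_⟩
    · intro h
      subst h
      exact hl' (om_self _)
    · funext a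
      have hpres : om (a.1.1 *ᵥ b k) (a.1.1 *ᵥ b l') = om (b k) (b l') :=
        mem_symplectic_iff_om.1 a.1.2 _ _
      rw [h1', h1', om_smul_left, om_smul_right] at hpres
      rcases h3 k a with hk | hk <;> rcases h3 l' a with hl | hl
      · rw [hk, hl]
      · exfalso
        rw [hk, hl] at hpres
        apply hl'
        have h4 : (2 : F) * om (b k) (b l') = 0 := by linear_combination -hpres
        rcases mul_eq_zero.1 h4 with h5 | h5
        · exact absurd h5 h2
        · exact h5
      · exfalso
        rw [hk, hl] at hpres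
        apply hl'
        have h4 : (2 : F) * om (b k) (b l') = 0 := by linear_combination -hpres
        rcases mul_eq_zero.1 h4 with h5 | h5
        · exact absurd h5 h2
        · exact h5
      · rw [hk, hl]

end Cfsg.Agent.Helper11.SpRank

namespace Cfsg.Agent.Helper11.SpRank

open Matrix Cfsg.Agent.Helper11.JointEigen Cfsg.Agent.Helper2.Sp Cfsg.Agent.Helper11.SLRank

variable {F : Type*} [Field F] {l : Type*} [Fintype l] [DecidableEq l]

/-- sign vector doubled -/
def dd (F : Type*) [Field F] {l : Type*} (ε : l → ℤˣ) : l ⊕ l → F :=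
  Sum.elim (fun i => sgn F (ε i)) (fun i => sgn F (ε i))

theorem dd_one : dd F (1 : l → ℤˣ) = 1 := by
  funext j
  rcases j with i | i <;> simp [dd]

theorem dd_mul (ε ε' : l → ℤˣ) : dd F (ε * ε') = dd F ε * dd F ε' := by
  funext j
  rcases j with i | i <;> simp [dd]

theorem diag_dd_mem (ε : l → ℤˣ) : Matrix.diagonal (dd F ε) ∈ symplecticGroup l F := by
  rw [mem_symplectic_iff_om]
  intro x y
  rw [om_eq_sum, om_eq_sum]
  apply Finset.sum_congr rfl
  intro i _
  simp only [mulVec_diagonal, dd, Sum.elim_inl, Sum.elim_inr]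
  have := sgn_mul_self (F := F) (ε i)
  linear_combination (x (Sum.inr i) * y (Sum.inl i) - x (Sum.inl i) * y (Sum.inr i)) * this

/-- the diagonal sign matrices in the symplectic group -/
def spDiagHom (F : Type*) [Field F] (l : Type*) [Fintype l] [DecidableEq l] :
    (l → ℤˣ) →* symplecticGroup l F where
  toFun ε := ⟨Matrix.diagonal (dd F ε), diag_dd_mem ε⟩
  map_one' := by
    apply Subtype.ext
    simp only [dd_one]
    exact Matrix.diagonal_one
  map_mul' ε ε' := by
    apply Subtype.ext
    simp only [dd_mul]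
    exact (Matrix.diagonal_mul_diagonal' _ _).symm

theorem spDiagHom_injective (h2 : (2 : F) ≠ 0) : Function.Injective (spDiagHom F l) := by
  intro ε ε' h
  have h1 : Matrix.diagonal (dd F ε) = Matrix.diagonal (dd F ε') := congrArg Subtype.val h
  have h3 := Matrix.diagonal_injective h1
  funext i
  have h4 := congrFun h3 (Sum.inl i)
  simp only [dd, Sum.elim_inl] at h4
  exact sgn_injective h2 h4

theorem sp_rank_lower (h2 : (2 : F) ≠ 0) :
    ∃ A : Subgroup (symplecticGroup l F), IsMulCommutative A ∧
      (∀ a ∈ A, a ^ 2 = 1) ∧ 2 ^ Fintype.card l ≤ Nat.card A := by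
  refine ⟨(spDiagHom F l).range, inferInstance, ?_, ?_⟩
  · rintro a ⟨ε, rfl⟩
    have hε : ε ^ 2 = 1 := by
      funext i
      simp only [Pi.pow_apply, Pi.one_apply]
      rw [pow_two, Int.units_mul_self]
    rw [← map_pow, hε, map_one]
  · have hc : Nat.card (l → ℤˣ) = 2 ^ Fintype.card l := by
      rw [Nat.card_eq_fintype_card, Fintype.card_fun]
      rfl
    rw [← hc]
    exact le_of_eq (Nat.card_congr (MonoidHom.ofInjective (spDiagHom_injective h2)).toEquiv)

end Cfsg.Agent.Helper11.SpRank
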