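import Mathlib
import Cfsg.Agent.Helper11.SpRank

/-!
# The monomial subgroup `SL₂(F)^l ⋊ Perm l` of the symplectic group (part A)
-/

set_option autoImplicit false

namespace Cfsg.Agent.Helper11.SpNorm

open Matrix

variable {F : Type*} [Field F] {l : Type*} [Fintype l] [DecidableEq l]

/-- block matrix all of whose four blocks are diagonal -/
def blk (a b c d : l → F) : Matrix (l ⊕ l) (l ⊕ l) F :=
  fromBlocks (diagonal a) (diagonal b) (diagonal c) (diagonal d)

theorem blk_mul (a b c d a' b' c' d' : l → F) :
    blk a b c d * blk a' b' c' d' =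
      blk (a * a' + b * c') (a * b' + b * d') (c * a' + d * c') (c * b' + d * d') := by
  unfold blk
  rw [fromBlocks_multiply]
  simp only [diagonal_mul_diagonal', diagonal_add]
  rfl

theorem blk_one : blk (1 : l → F) 0 0 1 = 1 := by
  unfold blk
  show fromBlocks (diagonal fun _ => (1 : F)) (diagonal fun _ => (0 : F))
    (diagonal fun _ => (0 : F)) (diagonal fun _ => (1 : F)) = 1
  simp only [diagonal_one, diagonal_zero, fromBlocks_one]

theorem blk_transpose (a b c d : l → F) : (blk a b c d)ᵀ = blk a c b d := by
  unfold blk
  rw [fromBlocks_transpose]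
  simp only [diagonal_transpose]

theorem blk_injective {a b c d a' b' c' d' : l → F} (h : blk a b c d = blk a' b' c' d') :
    a = a' ∧ b = b' ∧ c = c' ∧ d = d' := by
  unfold blk at h
  rw [fromBlocks_inj] at h
  exact ⟨diagonal_injective h.1, diagonal_injective h.2.1, diagonal_injective h.2.2.1,
    diagonal_injective h.2.2.2⟩

theorem blk_mem (a b c d : l → F) (h : a * d - b * c = 1) :
    blk a b c d ∈ symplecticGroup l F := by
  rw [SymplecticGroup.mem_iff, blk_transpose]
  have hJ : J l F = blk 0 (-1) 1 0 := by
    unfold blk J
    show _ = fromBlocks (diagonal fun _ => (0 : F)) (diagonal fun _ => -(1 : F))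
      (diagonal fun _ => (1 : F)) (diagonal fun _ => (0 : F))
    simp only [diagonal_zero, diagonal_one]
    congr 1
    ext i j
    by_cases hij : i = j
    · subst hij
      simp
    · simp [hij]
  rw [hJ, blk_mul, blk_mul]
  congr 1
  · funext i
    simp only [Pi.add_apply, Pi.mul_apply, Pi.zero_apply, Pi.one_apply, Pi.neg_apply]
    ring
  · funext i
    have := congrFun h i
    simp only [Pi.sub_apply, Pi.mul_apply, Pi.one_apply] at this
    simp only [Pi.add_apply, Pi.mul_apply, Pi.zero_apply, Pi.one_apply, Pi.neg_apply]
    linear_combination -this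
  · funext i
    have := congrFun h i
    simp only [Pi.sub_apply, Pi.mul_apply, Pi.one_apply] at this
    simp only [Pi.add_apply, Pi.mul_apply, Pi.zero_apply, Pi.one_apply, Pi.neg_apply]
    linear_combination this
  · funext i
    simp only [Pi.add_apply, Pi.mul_apply, Pi.zero_apply, Pi.one_apply, Pi.neg_apply]
    ring

/-- the embedding of `SL₂(F)^l` -/
def psi (F : Type*) [Field F] (l : Type*) [Fintype l] [DecidableEq l] :
    (l → SpecialLinearGroup (Fin 2) F) →* symplecticGroup l F where
  toFun B := ⟨blk (fun i => (B i).1 0 0) (fun i => (B i).1 0 1) (fun i => (B i).1 1 0)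
      (fun i => (B i).1 1 1), by
    apply blk_mem
    funext i
    have := (B i).2
    rw [det_fin_two] at this
    simp only [Pi.sub_apply, Pi.mul_apply, Pi.one_apply]
    linear_combination this⟩
  map_one' := by
    apply Subtype.ext
    simp only [Pi.one_apply, Submonoid.coe_one]
    rw [← blk_one]
    congr 1 <;> funext i <;> simp
  map_mul' B B' := by
    apply Subtype.ext
    simp only [Pi.mul_apply, Submonoid.coe_mul]
    rw [blk_mul]
    congr 1 <;> funext i <;> simp [Matrix.mul_apply, Fin.sum_univ_two]

theorem psi_injective : Function.Injective (psi F l) := by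
  intro B B' h
  have h1 := congrArg Subtype.val h
  simp only [psi, MonoidHom.coe_mk, OneHom.coe_mk] at h1
  obtain ⟨ha, hb, hc, hd⟩ := blk_injective h1
  funext i
  apply Subtype.ext
  ext x y
  fin_cases x <;> fin_cases y
  · exact congrFun ha i
  · exact congrFun hb i
  · exact congrFun hc i
  · exact congrFun hd i

end Cfsg.Agent.Helper11.SpNorm
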