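import Mathlib
import Cfsg.Agent.Helper11.SpNormA

/-!
# The monomial subgroup `SL₂(F)^l ⋊ Perm l` of the symplectic group (part B): permutations
-/

set_option autoImplicit false

namespace Cfsg.Agent.Helper11.SpNorm

open Matrix Cfsg.Agent.Helper11.SpRank

variable {F : Type*} [Field F] {l : Type*} [Fintype l] [DecidableEq l]

/-- permutation matrix of `σ ⊕ σ` -/
def pm (F : Type*) [Field F] {l : Type*} [DecidableEq l] (σ : Equiv.Perm l) :
    Matrix (l ⊕ l) (l ⊕ l) F :=
  (Equiv.sumCongr σ σ).toPEquiv.toMatrix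

theorem pm_mul (σ : Equiv.Perm l) (M : Matrix (l ⊕ l) (l ⊕ l) F) :
    pm F σ * M = M.submatrix (Equiv.sumCongr σ σ) id :=
  PEquiv.toMatrix_toPEquiv_mul _ _

theorem mul_pm (σ : Equiv.Perm l) (M : Matrix (l ⊕ l) (l ⊕ l) F) :
    M * pm F σ = M.submatrix id (Equiv.sumCongr σ σ).symm :=
  PEquiv.mul_toMatrix_toPEquiv _ _

theorem pm_trans (σ τ : Equiv.Perm l) : pm F (σ.trans τ) = pm F σ * pm F τ := by
  unfold pm
  rw [← PEquiv.toMatrix_trans, ← Equiv.toPEquiv_trans, Equiv.sumCongr_trans]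

theorem pm_refl : pm F (Equiv.refl l) = 1 := by
  unfold pm
  rw [Equiv.sumCongr_refl, Equiv.toPEquiv_refl, PEquiv.toMatrix_refl]

theorem conj_pm (σ : Equiv.Perm l) (M : Matrix (l ⊕ l) (l ⊕ l) F) :
    pm F σ * M * pm F σ.symm = M.submatrix (Equiv.sumCongr σ σ) (Equiv.sumCongr σ σ) := by
  rw [pm_mul, mul_pm]
  ext x y
  simp [Equiv.sumCongr_symm]

theorem pm_transpose (σ : Equiv.Perm l) : (pm F σ)ᵀ = pm F σ.symm := by
  unfold pm
  rw [← PEquiv.toMatrix_symm, ← Equiv.toPEquiv_symm, Equiv.sumCongr_symm]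

theorem blk_submatrix (a b c d : l → F) (σ : Equiv.Perm l) :
    (blk a b c d).submatrix (Equiv.sumCongr σ σ) (Equiv.sumCongr σ σ) =
      blk (a ∘ σ) (b ∘ σ) (c ∘ σ) (d ∘ σ) := by
  ext x y
  rcases x with i | i <;> rcases y with j | j <;>
    simp [blk, diagonal_apply, σ.injective.eq_iff]

theorem J_eq_blk : J l F = blk 0 (-1) 1 0 := by
  unfold blk J
  show _ = fromBlocks (diagonal fun _ => (0 : F)) (diagonal fun _ => -(1 : F))
    (diagonal fun _ => (1 : F)) (diagonal fun _ => (0 : F))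
  simp only [diagonal_zero, diagonal_one]
  congr 1
  ext i j
  by_cases hij : i = j
  · subst hij
    simp
  · simp [hij]

theorem pm_mem (σ : Equiv.Perm l) : pm F σ ∈ symplecticGroup l F := by
  rw [SymplecticGroup.mem_iff, pm_transpose, conj_pm, J_eq_blk, blk_submatrix]
  rfl

/-- the permutation matrices as a homomorphism (with the inverse, to make it multiplicative) -/
def pi (F : Type*) [Field F] (l : Type*) [Fintype l] [DecidableEq l] :
    Equiv.Perm l →* symplecticGroup l F where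
  toFun σ := ⟨pm F σ.symm, pm_mem _⟩
  map_one' := by
    apply Subtype.ext
    show pm F (Equiv.refl l).symm = 1
    rw [Equiv.refl_symm, pm_refl]
  map_mul' σ τ := by
    apply Subtype.ext
    show pm F (σ * τ).symm = pm F σ.symm * pm F τ.symm
    rw [← pm_trans]
    rfl

/-- the action of permutations on functions -/
def phi (G : Type*) [Group G] (l : Type*) : Equiv.Perm l →* MulAut (l → G) where
  toFun σ :=
    { toFun := fun B => B ∘ σ.symm
      invFun := fun B => B ∘ σ
      left_inv := fun B => by funext i; simp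
      right_inv := fun B => by funext i; simp
      map_mul' := fun _ _ => rfl }
  map_one' := rfl
  map_mul' σ τ := by
    ext B i
    rfl

theorem pi_conj_psi (σ : Equiv.Perm l) (B : l → SpecialLinearGroup (Fin 2) F) :
    pi F l σ * psi F l B * (pi F l σ)⁻¹ = psi F l (phi _ l σ B) := by
  have hinv : (pi F l σ)⁻¹ = pi F l σ⁻¹ := (map_inv (pi F l) σ).symm
  rw [hinv]
  apply Subtype.ext
  show pm F σ.symm * _ * pm F (σ⁻¹).symm = _
  have : (σ⁻¹ : Equiv.Perm l).symm = (σ.symm).symm := rfl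
  rw [this, conj_pm]
  simp only [psi, MonoidHom.coe_mk, OneHom.coe_mk]
  rw [blk_submatrix]
  rfl

theorem pi_conj_diag (σ : Equiv.Perm l) (ε : l → ℤˣ) :
    pi F l σ * spDiagHom F l ε * (pi F l σ)⁻¹ = spDiagHom F l (ε ∘ σ.symm) := by
  have hinv : (pi F l σ)⁻¹ = pi F l σ⁻¹ := (map_inv (pi F l) σ).symm
  rw [hinv]
  apply Subtype.ext
  show pm F σ.symm * Matrix.diagonal (dd F ε) * pm F (σ⁻¹).symm = Matrix.diagonal (dd F (ε ∘ σ.symm))
  have : (σ⁻¹ : Equiv.Perm l).symm = (σ.symm).symm := rfl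
  rw [this, conj_pm]
  ext x y
  rcases x with i | i <;> rcases y with j | j <;>
    simp [dd, diagonal_apply, σ.symm.injective.eq_iff]

theorem psi_comm_diag (B : l → SpecialLinearGroup (Fin 2) F) (ε : l → ℤˣ) :
    psi F l B * spDiagHom F l ε = spDiagHom F l ε * psi F l B := by
  apply Subtype.ext
  have hd : Matrix.diagonal (dd F ε) =
      blk (fun i => Cfsg.Agent.Helper11.SLRank.sgn F (ε i)) 0 0
        (fun i => Cfsg.Agent.Helper11.SLRank.sgn F (ε i)) := by
    unfold blk
    show _ = fromBlocks _ (diagonal fun _ => (0 : F)) (diagonal fun _ => (0 : F)) _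
    rw [diagonal_zero, fromBlocks_diagonal]
    rfl
  show (psi F l B).1 * Matrix.diagonal (dd F ε) = Matrix.diagonal (dd F ε) * (psi F l B).1
  simp only [psi, MonoidHom.coe_mk, OneHom.coe_mk]
  rw [hd, blk_mul, blk_mul]
  congr 1 <;> funext i <;> simp [mul_comm]

end Cfsg.Agent.Helper11.SpNorm
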