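import Mathlib
import Cfsg.Agent.Helper11.SpNormB
import Cfsg.Agent.Helper14.SylSn4

/-!
# Permutational wreath products `(Ω → A) ⋊ Perm Ω`: 2-subgroups of large derived length (part A)

Subgroups supported on a subset of `Ω`, and the doubling lemma.
-/

set_option autoImplicit false

namespace Cfsg.Agent.Helper11.SpDer

open Cfsg.Agent.Helper11.SpNorm Cfsg.Agent.Helper14.SylSn

variable {A : Type*} [Group A] {Ω : Type*}

/-- the permutational wreath product -/
abbrev Wr (A : Type*) [Group A] (Ω : Type*) := (Ω → A) ⋊[phi A Ω] Equiv.Perm Ω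

theorem phi_apply' (σ : Equiv.Perm Ω) (f : Ω → A) (i : Ω) : phi A Ω σ f i = f (σ.symm i) := rfl

/-- elements supported on `Y` -/
def supp (A : Type*) [Group A] {Ω : Type*} (Y : Set Ω) : Subgroup (Wr A Ω) where
  carrier := {x | ∀ i, i ∉ Y → x.left i = 1 ∧ x.right i = i}
  one_mem' := by
    intro i _
    exact ⟨rfl, rfl⟩
  mul_mem' := by
    intro x y hx hy i hi
    have hxi := hx i hi
    have hyi := hy i hi
    have hs : x.right.symm i = i := by
      rw [Equiv.symm_apply_eq]; exact hxi.2.symm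
    refine ⟨?_, ?_⟩
    · rw [SemidirectProduct.mul_left, Pi.mul_apply, phi_apply', hs, hxi.1, hyi.1, one_mul]
    · rw [SemidirectProduct.mul_right, Equiv.Perm.mul_apply, hyi.2, hxi.2]
  inv_mem' := by
    intro x hx i hi
    have hxi := hx i hi
    refine ⟨?_, ?_⟩
    · rw [SemidirectProduct.inv_left, phi_apply']
      have h1 : (x.right⁻¹).symm i = x.right i := rfl
      rw [h1, hxi.2, Pi.inv_apply, hxi.1, inv_one]
    · rw [SemidirectProduct.inv_right, Equiv.Perm.inv_eq_iff_eq]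
      exact hxi.2.symm

theorem mem_supp {Y : Set Ω} {x : Wr A Ω} :
    x ∈ supp A Y ↔ ∀ i, i ∉ Y → x.left i = 1 ∧ x.right i = i := Iff.rfl

theorem supp_mono {Y Y' : Set Ω} (h : Y ⊆ Y') : supp A Y ≤ supp A Y' := by
  intro x hx i hi
  exact hx i (fun h' => hi (h h'))

theorem supp_right_symm {Y : Set Ω} {x : Wr A Ω} (hx : x ∈ supp A Y) {i : Ω} (hi : i ∉ Y) :
    x.right.symm i = i := by
  rw [Equiv.symm_apply_eq]; exact (hx i hi).2.symm

theorem supp_right_symm_mem {Y : Set Ω} {x : Wr A Ω} (hx : x ∈ supp A Y) {i : Ω} (hi : i ∈ Y) :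
    x.right.symm i ∈ Y := by
  by_contra h
  have := (hx _ h).2
  rw [Equiv.apply_symm_apply] at this
  exact h (this ▸ hi)

theorem supp_commute {Y0 Y1 : Set Ω} (hd : Disjoint Y0 Y1) {u v : Wr A Ω}
    (hu : u ∈ supp A Y0) (hv : v ∈ supp A Y1) : Commute u v := by
  have hdis : ∀ i, i ∈ Y0 → i ∉ Y1 := fun i h0 h1 => Set.disjoint_left.mp hd h0 h1
  show u * v = v * u
  ext1
  · funext i
    rw [SemidirectProduct.mul_left, SemidirectProduct.mul_left, Pi.mul_apply, Pi.mul_apply,
      phi_apply', phi_apply']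
    by_cases hi : i ∈ Y0
    · have h1 : u.right.symm i ∈ Y0 := supp_right_symm_mem hu hi
      rw [(hv _ (hdis _ h1)).1, (hv _ (hdis _ hi)).1, supp_right_symm hv (hdis _ hi), mul_one,
        one_mul]
    · rw [(hu _ hi).1, supp_right_symm hu hi, one_mul]
      by_cases hi1 : i ∈ Y1
      · have h1 : v.right.symm i ∈ Y1 := supp_right_symm_mem hv hi1
        have h2 : v.right.symm i ∉ Y0 := fun h0 => hdis _ h0 h1
        rw [(hu _ h2).1, mul_one]
      · rw [supp_right_symm hv hi1, (hu _ hi).1, mul_one]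
  · rw [SemidirectProduct.mul_right, SemidirectProduct.mul_right]
    apply Equiv.Perm.Disjoint.commute
    intro i
    by_cases hi : i ∈ Y0
    · right; exact (hv _ (hdis _ hi)).2
    · left; exact (hu _ hi).2

theorem supp_inf_eq_bot {Y0 Y1 : Set Ω} (hd : Disjoint Y0 Y1) : supp A Y0 ⊓ supp A Y1 = ⊥ := by
  rw [eq_bot_iff]
  rintro x ⟨h0, h1⟩
  rw [Subgroup.mem_bot]
  have h : ∀ i, x.left i = 1 ∧ x.right i = i := by
    intro i
    by_cases hi : i ∈ Y0
    · exact h1 i (fun h => Set.disjoint_left.mp hd hi h)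
    · exact h0 i hi
  ext1
  · funext i; exact (h i).1
  · ext i; exact (h i).2

theorem conj_inr_left (τ : Equiv.Perm Ω) (u : Wr A Ω) :
    (SemidirectProduct.inr τ * u * (SemidirectProduct.inr τ)⁻¹).left = u.left ∘ τ.symm := by
  funext i
  simp only [SemidirectProduct.mul_left, SemidirectProduct.mul_right, SemidirectProduct.left_inr,
    SemidirectProduct.right_inr, SemidirectProduct.inv_left, inv_one, map_one, one_mul, mul_one,
    Pi.mul_apply, Pi.one_apply, Function.comp_apply, phi_apply']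

theorem conj_inr_right (τ : Equiv.Perm Ω) (u : Wr A Ω) :
    (SemidirectProduct.inr τ * u * (SemidirectProduct.inr τ)⁻¹).right = τ * u.right * τ⁻¹ := by
  simp only [SemidirectProduct.mul_right, SemidirectProduct.right_inr, SemidirectProduct.inv_right]

theorem conj_inr_mem_supp {Y0 Y1 : Set Ω} (τ : Equiv.Perm Ω) (hτ : ∀ i ∈ Y0, τ i ∈ Y1)
    {u : Wr A Ω} (hu : u ∈ supp A Y0) :
    SemidirectProduct.inr τ * u * (SemidirectProduct.inr τ)⁻¹ ∈ supp A Y1 := by
  intro i hi
  have h1 : τ.symm i ∉ Y0 := by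
    intro h0
    have := hτ _ h0
    rw [Equiv.apply_symm_apply] at this
    exact hi this
  refine ⟨?_, ?_⟩
  · rw [conj_inr_left, Function.comp_apply, (hu _ h1).1]
  · rw [conj_inr_right, Equiv.Perm.mul_apply, Equiv.Perm.mul_apply]
    have h2 : τ⁻¹ i = τ.symm i := rfl
    rw [h2, (hu _ h1).2, Equiv.apply_symm_apply]

theorem inr_mem_supp {Y : Set Ω} (τ : Equiv.Perm Ω) (hτ : ∀ i, i ∉ Y → τ i = i) :
    (SemidirectProduct.inr τ : Wr A Ω) ∈ supp A Y := by
  intro i hi
  exact ⟨rfl, hτ i hi⟩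

end Cfsg.Agent.Helper11.SpDer
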