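import Mathlib
import Cfsg.Agent.Helper11.SpDerA

/-!
# Permutational wreath products: the doubling lemma (part B)
-/

set_option autoImplicit false

namespace Cfsg.Agent.Helper11.SpDer

open Cfsg.Agent.Helper11.SpNorm Cfsg.Agent.Helper14.SylSn
open scoped commutatorElement

variable {A : Type*} [Group A] {Ω : Type*}

/-- the `Y0`-parts of elements of `M` lying in `supp Y0 * supp Y1` -/
def proj0 (Y0 Y1 : Set Ω) (hd : Disjoint Y0 Y1) (M : Subgroup (Wr A Ω)) : Subgroup (Wr A Ω) where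
  carrier := {u | u ∈ supp A Y0 ∧ ∃ v ∈ supp A Y1, u * v ∈ M}
  one_mem' := ⟨Subgroup.one_mem _, 1, Subgroup.one_mem _, by rw [one_mul]; exact M.one_mem⟩
  mul_mem' := by
    rintro u1 u2 ⟨h1, v1, hv1, hm1⟩ ⟨h2, v2, hv2, hm2⟩
    refine ⟨Subgroup.mul_mem _ h1 h2, v1 * v2, Subgroup.mul_mem _ hv1 hv2, ?_⟩
    have hc : Commute u2 v1 := supp_commute hd h2 hv1
    have : u1 * u2 * (v1 * v2) = (u1 * v1) * (u2 * v2) := by
      calc u1 * u2 * (v1 * v2) = u1 * (u2 * v1) * v2 := by group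
        _ = u1 * (v1 * u2) * v2 := by rw [hc.eq]
        _ = (u1 * v1) * (u2 * v2) := by group
    rw [this]
    exact M.mul_mem hm1 hm2
  inv_mem' := by
    rintro u ⟨h, v, hv, hm⟩
    refine ⟨Subgroup.inv_mem _ h, v⁻¹, Subgroup.inv_mem _ hv, ?_⟩
    have hc : Commute u v := supp_commute hd h hv
    have : u⁻¹ * v⁻¹ = (u * v)⁻¹ := by
      rw [mul_inv_rev, (hc.inv_inv).eq]
    rw [this]
    exact M.inv_mem hm

theorem proj0_bot (Y0 Y1 : Set Ω) (hd : Disjoint Y0 Y1) :
    proj0 Y0 Y1 hd (⊥ : Subgroup (Wr A Ω)) = ⊥ := by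
  rw [eq_bot_iff]
  rintro u ⟨h, v, hv, hm⟩
  rw [Subgroup.mem_bot] at hm ⊢
  have huv : u = v⁻¹ := eq_inv_of_mul_eq_one_left hm
  have : u ∈ supp A Y0 ⊓ supp A Y1 := ⟨h, huv ▸ Subgroup.inv_mem _ hv⟩
  rw [supp_inf_eq_bot hd, Subgroup.mem_bot] at this
  exact this

theorem commutator_mul_of_commute {G : Type*} [Group G] {u1 u2 v1 v2 : G}
    (h11 : Commute u1 v1) (h12 : Commute u1 v2) (h21 : Commute u2 v1) (h22 : Commute u2 v2) :
    ⁅u1 * v1, u2 * v2⁆ = ⁅u1, u2⁆ * ⁅v1, v2⁆ := by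
  let H : Subgroup G := Subgroup.closure {u1, u2}
  let K : Subgroup G := Subgroup.closure {v1, v2}
  have hcomm : ∀ (m : H) (n : K), Commute (H.subtype m) (K.subtype n) := by
    rintro ⟨m, hm⟩ ⟨n, hn⟩
    show Commute m n
    have hn' : n ∈ Subgroup.centralizer ({u1, u2} : Set G) := by
      have : K ≤ Subgroup.centralizer ({u1, u2} : Set G) := by
        rw [Subgroup.closure_le]
        intro x hx
        rw [SetLike.mem_coe, Subgroup.mem_centralizer_iff]
        intro y hy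
        rcases hx with rfl | rfl <;> rcases hy with rfl | rfl
        · exact h11.eq
        · exact h21.eq
        · exact h12.eq
        · exact h22.eq
      exact this hn
    have hm' : m ∈ Subgroup.centralizer ({n} : Set G) := by
      have : H ≤ Subgroup.centralizer ({n} : Set G) := by
        rw [Subgroup.closure_le]
        intro x hx
        rw [SetLike.mem_coe, Subgroup.mem_centralizer_iff]
        intro y hy
        rw [Set.mem_singleton_iff] at hy
        subst hy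
        exact ((Subgroup.mem_centralizer_iff.mp hn') x hx).symm
      exact this hm
    exact ((Subgroup.mem_centralizer_iff.mp hm') n rfl).symm
  let f : H × K →* G := MonoidHom.noncommCoprod H.subtype K.subtype hcomm
  have hu1 : u1 ∈ H := Subgroup.subset_closure (by simp)
  have hu2 : u2 ∈ H := Subgroup.subset_closure (by simp)
  have hv1 : v1 ∈ K := Subgroup.subset_closure (by simp)
  have hv2 : v2 ∈ K := Subgroup.subset_closure (by simp)
  have e1 : f (⟨u1, hu1⟩, ⟨v1, hv1⟩) = u1 * v1 := rfl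
  have e2 : f (⟨u2, hu2⟩, ⟨v2, hv2⟩) = u2 * v2 := rfl
  rw [← e1, ← e2, ← map_commutatorElement]
  rfl

theorem proj0_commutator (Y0 Y1 : Set Ω) (hd : Disjoint Y0 Y1) (M : Subgroup (Wr A Ω)) :
    ⁅proj0 Y0 Y1 hd M, proj0 Y0 Y1 hd M⁆ ≤ proj0 Y0 Y1 hd ⁅M, M⁆ := by
  rw [Subgroup.commutator_le]
  rintro u1 ⟨h1, v1, hv1, hm1⟩ u2 ⟨h2, v2, hv2, hm2⟩
  refine ⟨?_, ⁅v1, v2⁆, ?_, ?_⟩
  · exact (Subgroup.commutator_le_self _) (Subgroup.commutator_mem_commutator h1 h2)
  · exact (Subgroup.commutator_le_self _) (Subgroup.commutator_mem_commutator hv1 hv2)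
  · rw [← commutator_mul_of_commute (supp_commute hd h1 hv1) (supp_commute hd h1 hv2)
      (supp_commute hd h2 hv1) (supp_commute hd h2 hv2)]
    exact Subgroup.commutator_mem_commutator hm1 hm2

/-- **Doubling lemma.** -/
theorem doubling {Y0 Y1 : Set Ω} (hd : Disjoint Y0 Y1) (τ : Equiv.Perm Ω) (hτ2 : τ * τ = 1)
    (hτ01 : ∀ i ∈ Y0, τ i ∈ Y1) (hτfix : ∀ i, i ∉ Y0 → i ∉ Y1 → τ i = i)
    {T : Subgroup (Wr A Ω)} (hT : IsPGroup 2 T) (hTs : T ≤ supp A Y0) {j : ℕ}
    (hj : dS T j ≠ ⊥) :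
    ∃ T' : Subgroup (Wr A Ω), IsPGroup 2 T' ∧ T' ≤ supp A (Y0 ∪ Y1) ∧ dS T' (j + 1) ≠ ⊥ := by
  set s : Wr A Ω := SemidirectProduct.inr τ with hs
  have hs2 : s * s = 1 := by
    rw [hs, ← map_mul, hτ2, map_one]
  have hsinv : s⁻¹ = s := inv_eq_of_mul_eq_one_left hs2
  set c : Wr A Ω →* Wr A Ω := (MulAut.conj s).toMonoidHom with hc
  have hc_apply : ∀ x, c x = s * x * s⁻¹ := fun x => rfl
  have hcc : ∀ x, c (c x) = x := by
    intro x
    rw [hc_apply, hc_apply, hsinv]
    calc s * (s * x * s) * s = (s * s) * x * (s * s) := by group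
      _ = x := by rw [hs2, one_mul, mul_one]
  set Ts : Subgroup (Wr A Ω) := T.map c with hTs'
  have hTs1 : Ts ≤ supp A Y1 := by
    rintro _ ⟨t, ht, rfl⟩
    exact conj_inr_mem_supp τ hτ01 (hTs ht)
  have hTsmap : Ts.map c = T := by
    ext x
    constructor
    · rintro ⟨_, ⟨t, ht, rfl⟩, rfl⟩
      rw [hcc]; exact ht
    · intro hx
      exact ⟨c x, ⟨x, hx, rfl⟩, hcc x⟩
  -- 2-group
  have hp1 : IsPGroup 2 (T ⊔ Ts : Subgroup (Wr A Ω)) := by
    apply IsPGroup.to_sup_of_normal_left' hT (hT.map c)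
    refine le_trans ?_ (Subgroup.centralizer_le_normalizer _)
    intro v hv
    rw [Subgroup.mem_centralizer_iff]
    intro u hu
    exact (supp_commute hd (hTs hu) (hTs1 hv)).eq
  have hp2 : IsPGroup 2 (Subgroup.zpowers s) := by
    rintro ⟨z, hz⟩
    refine ⟨1, ?_⟩
    obtain ⟨m, rfl⟩ := Subgroup.mem_zpowers_iff.mp hz
    apply Subtype.ext
    show (s ^ m) ^ 2 ^ 1 = 1
    rw [pow_one, ← zpow_natCast, ← zpow_mul, mul_comm, zpow_mul, zpow_natCast, pow_two, hs2,
      one_zpow]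
  have hnorm : Subgroup.zpowers s ≤ Subgroup.normalizer ((T ⊔ Ts : Subgroup (Wr A Ω)) : Set (Wr A Ω)) := by
    rw [Subgroup.zpowers_le]
    have hmap : (T ⊔ Ts).map c = T ⊔ Ts := by
      rw [Subgroup.map_sup, hTsmap, sup_comm]
    rw [Subgroup.mem_normalizer_iff]
    intro h
    constructor
    · intro hh
      have : c h ∈ (T ⊔ Ts).map c := ⟨h, hh, rfl⟩
      rw [hmap] at this
      exact this
    · intro hh
      have : c (c h) ∈ (T ⊔ Ts).map c := ⟨c h, hh, rfl⟩
      rw [hmap, hcc] at this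
      exact this
  refine ⟨(T ⊔ Ts) ⊔ Subgroup.zpowers s, IsPGroup.to_sup_of_normal_left' hp1 hp2 hnorm, ?_, ?_⟩
  · refine sup_le (sup_le ?_ ?_) ?_
    · exact hTs.trans (supp_mono Set.subset_union_left)
    · exact hTs1.trans (supp_mono Set.subset_union_right)
    · rw [Subgroup.zpowers_le]
      apply inr_mem_supp
      intro i hi
      exact hτfix i (fun h => hi (Or.inl h)) (fun h => hi (Or.inr h))
  · set T' : Subgroup (Wr A Ω) := (T ⊔ Ts) ⊔ Subgroup.zpowers s with hT'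
    intro hbot
    apply hj
    have hTT' : T ≤ T' := le_sup_left.trans le_sup_left
    have hsT' : s ∈ T' := (le_sup_right : Subgroup.zpowers s ≤ T') (Subgroup.mem_zpowers s)
    have key : ∀ i, dS T i ≤ proj0 Y0 Y1 hd (dS T' (i + 1)) := by
      intro i
      induction i with
      | zero =>
        intro t ht
        refine ⟨hTs ht, c t⁻¹, hTs1 ⟨t⁻¹, T.inv_mem ht, rfl⟩, ?_⟩
        have : t * c t⁻¹ = ⁅t, s⁆ := by
          rw [hc_apply, commutatorElement_def]; group
        rw [this]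
        exact Subgroup.commutator_mem_commutator (hTT' ht) hsT'
      | succ i ih =>
        rw [dS_succ]
        exact (Subgroup.commutator_mono ih ih).trans (proj0_commutator Y0 Y1 hd _)
    have := key j
    rw [hbot, proj0_bot] at this
    exact le_bot_iff.mp this

end Cfsg.Agent.Helper11.SpDer
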