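import Mathlib
import Cfsg.Agent.Helper11.SpDerB

/-!
# Permutational wreath products: 2-subgroups of large derived length (part C)
-/

set_option autoImplicit false

namespace Cfsg.Agent.Helper11.SpDer

open Cfsg.Agent.Helper11.SpNorm Cfsg.Agent.Helper14.SylSn

variable {A : Type*} [Group A] {Ω : Type*} [DecidableEq Ω]

theorem exists_invol (Y0 Y1 : Finset Ω) (hd : Disjoint Y0 Y1) (hc : Y0.card = Y1.card) :
    ∃ τ : Equiv.Perm Ω, τ * τ = 1 ∧ (∀ i ∈ Y0, τ i ∈ Y1) ∧ ∀ i, i ∉ Y0 → i ∉ Y1 → τ i = i := by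
  classical
  let e : Y0 ≃ Y1 := Finset.equivOfCardEq hc
  let f : Ω → Ω := fun i =>
    if h : i ∈ Y0 then (e ⟨i, h⟩ : Ω) else if h' : i ∈ Y1 then (e.symm ⟨i, h'⟩ : Ω) else i
  have hdis : ∀ i, i ∈ Y0 → i ∉ Y1 := fun i h0 h1 => Finset.disjoint_left.mp hd h0 h1
  have hf : Function.Involutive f := by
    intro i
    by_cases h0 : i ∈ Y0
    · have h1 : f i = (e ⟨i, h0⟩ : Ω) := dif_pos h0
      have h2 : (e ⟨i, h0⟩ : Ω) ∈ Y1 := (e ⟨i, h0⟩).2
      have h3 : (e ⟨i, h0⟩ : Ω) ∉ Y0 := fun h => hdis _ h h2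
      rw [h1]
      show (if h : (e ⟨i, h0⟩ : Ω) ∈ Y0 then (e ⟨_, h⟩ : Ω) else
        if h' : (e ⟨i, h0⟩ : Ω) ∈ Y1 then (e.symm ⟨_, h'⟩ : Ω) else _) = i
      rw [dif_neg h3, dif_pos h2]
      simp
    · by_cases h1 : i ∈ Y1
      · have h2 : f i = (e.symm ⟨i, h1⟩ : Ω) := by
          show (if h : i ∈ Y0 then (e ⟨i, h⟩ : Ω) else
            if h' : i ∈ Y1 then (e.symm ⟨i, h'⟩ : Ω) else i) = _
          rw [dif_neg h0, dif_pos h1]
        have h3 : (e.symm ⟨i, h1⟩ : Ω) ∈ Y0 := (e.symm ⟨i, h1⟩).2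
        rw [h2]
        show (if h : (e.symm ⟨i, h1⟩ : Ω) ∈ Y0 then (e ⟨_, h⟩ : Ω) else _) = i
        rw [dif_pos h3]
        simp
      · have h2 : f i = i := by
          show (if h : i ∈ Y0 then (e ⟨i, h⟩ : Ω) else
            if h' : i ∈ Y1 then (e.symm ⟨i, h'⟩ : Ω) else i) = _
          rw [dif_neg h0, dif_neg h1]
        rw [h2, h2]
  refine ⟨hf.toPerm f, ?_, ?_, ?_⟩
  · ext i
    show f (f i) = i
    exact hf i
  · intro i hi
    show f i ∈ Y1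
    have h1 : f i = (e ⟨i, hi⟩ : Ω) := dif_pos hi
    rw [h1]
    exact (e ⟨i, hi⟩).2
  · intro i h0 h1
    show (if h : i ∈ Y0 then (e ⟨i, h⟩ : Ω) else
      if h' : i ∈ Y1 then (e.symm ⟨i, h'⟩ : Ω) else i) = _
    rw [dif_neg h0, dif_neg h1]

/-- the embedding of `A` at the coordinate `x` -/
def embAt (A : Type*) [Group A] {Ω : Type*} [DecidableEq Ω] (x : Ω) : A →* Wr A Ω :=
  (SemidirectProduct.inl).comp (MonoidHom.mulSingle (fun _ : Ω => A) x)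

theorem embAt_injective (x : Ω) : Function.Injective (embAt A x) := by
  intro a b h
  have h1 := SemidirectProduct.inl_injective h
  have h2 := congrFun h1 x
  simpa using h2

theorem embAt_mem_supp (x : Ω) (a : A) : embAt A x a ∈ supp A ({x} : Set Ω) := by
  intro i hi
  have hi' : i ≠ x := hi
  refine ⟨?_, rfl⟩
  show (Pi.mulSingle (M := fun _ : Ω => A) x a) i = 1
  exact Pi.mulSingle_eq_of_ne (M := fun _ : Ω => A) hi' a

theorem exists_of_card (Q0 : Subgroup A) (hQ : IsPGroup 2 Q0) (j0 : ℕ) (hj0 : dS Q0 j0 ≠ ⊥) :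
    ∀ (k : ℕ) (Y : Finset Ω), Y.card = 2 ^ k →
      ∃ T : Subgroup (Wr A Ω), IsPGroup 2 T ∧ T ≤ supp A (Y : Set Ω) ∧ dS T (j0 + k) ≠ ⊥ := by
  intro k
  induction k with
  | zero =>
    intro Y hY
    rw [pow_zero, Finset.card_eq_one] at hY
    obtain ⟨x, rfl⟩ := hY
    refine ⟨Q0.map (embAt A x), hQ.map _, ?_, ?_⟩
    · rintro _ ⟨a, -, rfl⟩
      rw [Finset.coe_singleton]
      exact embAt_mem_supp x a
    · rw [add_zero, Ne, dS_map_eq_bot_iff _ (embAt_injective x)]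
      exact hj0
  | succ k ih =>
    intro Y hY
    have hle : 2 ^ k ≤ Y.card := by
      rw [hY]; exact Nat.pow_le_pow_right (by norm_num) (Nat.le_succ k)
    obtain ⟨Y0, hY0, hc0⟩ := Finset.exists_subset_card_eq hle
    have hc1 : (Y \ Y0).card = 2 ^ k := by
      rw [Finset.card_sdiff_of_subset hY0, hY, hc0, pow_succ]
      omega
    have hd : Disjoint Y0 (Y \ Y0) := Finset.disjoint_sdiff
    obtain ⟨τ, hτ2, hτ01, hτfix⟩ := exists_invol Y0 (Y \ Y0) hd (hc0.trans hc1.symm)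
    obtain ⟨T, hT, hTs, hTj⟩ := ih Y0 hc0
    have hd' : Disjoint (Y0 : Set Ω) ((Y \ Y0 : Finset Ω) : Set Ω) := by
      rw [Finset.disjoint_coe]; exact hd
    obtain ⟨T', hT', hTs', hTj'⟩ := doubling hd' τ hτ2
      (fun i hi => Finset.mem_coe.mpr (hτ01 i (Finset.mem_coe.mp hi)))
      (fun i h0 h1 => hτfix i (fun h => h0 (Finset.mem_coe.mpr h))
        (fun h => h1 (Finset.mem_coe.mpr h))) hT hTs hTj
    refine ⟨T', hT', ?_, ?_⟩
    · have : (Y0 : Set Ω) ∪ ((Y \ Y0 : Finset Ω) : Set Ω) = (Y : Set Ω) := by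
        rw [← Finset.coe_union, Finset.union_sdiff_of_subset hY0]
      rw [← this]
      exact hTs'
    · rw [← add_assoc]
      exact hTj'

/-- a 2-subgroup of derived length `> j0 + k` in the wreath product, if `2 ^ k ≤ |Ω|` -/
theorem exists_two_subgroup [Fintype Ω] (Q0 : Subgroup A) (hQ : IsPGroup 2 Q0) (j0 : ℕ)
    (hj0 : dS Q0 j0 ≠ ⊥) (k : ℕ) (hk : 2 ^ k ≤ Fintype.card Ω) :
    ∃ T : Subgroup (Wr A Ω), IsPGroup 2 T ∧ dS T (j0 + k) ≠ ⊥ := by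
  have hk' : 2 ^ k ≤ (Finset.univ : Finset Ω).card := by rwa [Finset.card_univ]
  obtain ⟨Y, -, hY⟩ := Finset.exists_subset_card_eq hk'
  obtain ⟨T, hT, -, hTj⟩ := exists_of_card Q0 hQ j0 hj0 k Y hY
  exact ⟨T, hT, hTj⟩

end Cfsg.Agent.Helper11.SpDer
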