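import Mathlib
import Cfsg.Agent.Helper11.SpDerC

/-!
# Permutational wreath products: `p`-subgroups of large derived length (general prime `p`)
-/

set_option autoImplicit false

namespace Cfsg.Agent.Helper11.SpDer

open Cfsg.Agent.Helper11.SpNorm Cfsg.Agent.Helper14.SylSn
open scoped commutatorElement

variable {A : Type*} [Group A] {Ω : Type*}

theorem isPGroup_biSup_of_commute {G : Type*} [Group G] (p : ℕ) {ι : Type*} (s : Finset ι)
    (H : ι → Subgroup G) (hH : ∀ i, IsPGroup p (H i))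
    (hc : ∀ i j, i ≠ j → ∀ x ∈ H i, ∀ y ∈ H j, Commute x y) :
    IsPGroup p (⨆ i ∈ s, H i : Subgroup G) := by
  classical
  induction s using Finset.induction_on with
  | empty =>
    have : (⨆ i ∈ (∅ : Finset ι), H i : Subgroup G) = ⊥ := by simp
    rw [this]
    exact IsPGroup.of_bot
  | insert a s ha ih =>
    rw [Finset.iSup_insert]
    apply IsPGroup.to_sup_of_normal_left' (hH a) ih
    refine le_trans ?_ (Subgroup.centralizer_le_normalizer _)
    refine iSup_le (fun i => iSup_le (fun hi => ?_))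
    intro y hy
    rw [Subgroup.mem_centralizer_iff]
    intro x hx
    have hia : a ≠ i := fun h => ha (h ▸ hi)
    exact (hc a i hia x hx y hy).eq

theorem isPGroup_iSup_of_commute {G : Type*} [Group G] (p : ℕ) {ι : Type*} [Fintype ι]
    (H : ι → Subgroup G) (hH : ∀ i, IsPGroup p (H i))
    (hc : ∀ i j, i ≠ j → ∀ x ∈ H i, ∀ y ∈ H j, Commute x y) :
    IsPGroup p (⨆ i, H i : Subgroup G) := by
  have := isPGroup_biSup_of_commute p Finset.univ H hH hc
  have e : (⨆ i ∈ (Finset.univ : Finset ι), H i : Subgroup G) = ⨆ i, H i := by simp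
  rwa [e] at this

/-- **`p`-tupling lemma.** -/
theorem tupling (p : ℕ) [Fact p.Prime] (Y : ZMod p → Set Ω)
    (hY : ∀ i j, i ≠ j → Disjoint (Y i) (Y j))
    (κ : Multiplicative (ZMod p) →* Equiv.Perm Ω)
    (hκ : ∀ (i j : ZMod p), ∀ x ∈ Y j, κ (Multiplicative.ofAdd i) x ∈ Y (j + i))
    (hfix : ∀ (i : ZMod p) (x : Ω), (∀ j, x ∉ Y j) → κ (Multiplicative.ofAdd i) x = x)
    {T : Subgroup (Wr A Ω)} (hT : IsPGroup p T) (hTs : T ≤ supp A (Y 0)) {j : ℕ}
    (hj : dS T j ≠ ⊥) :
    ∃ T' : Subgroup (Wr A Ω), IsPGroup p T' ∧ T' ≤ supp A (⋃ i, Y i) ∧ dS T' (j + 1) ≠ ⊥ := by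
  haveI : Fact (1 < p) := ⟨(Fact.out : p.Prime).one_lt⟩
  let K : Multiplicative (ZMod p) →* Wr A Ω := SemidirectProduct.inr.comp κ
  let c : ZMod p → (Wr A Ω →* Wr A Ω) := fun i =>
    (MulAut.conj (K (Multiplicative.ofAdd i))).toMonoidHom
  have hc_apply : ∀ i x, c i x = K (Multiplicative.ofAdd i) * x * (K (Multiplicative.ofAdd i))⁻¹ :=
    fun i x => rfl
  have hc_add : ∀ i j x, c i (c j x) = c (i + j) x := by
    intro i j x
    rw [hc_apply, hc_apply, hc_apply, ofAdd_add, map_mul]
    group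
  have hc_zero : ∀ x, c 0 x = x := by
    intro x
    rw [hc_apply, ofAdd_zero, map_one]
    group
  let H : ZMod p → Subgroup (Wr A Ω) := fun i => T.map (c i)
  have hH_supp : ∀ i, H i ≤ supp A (Y i) := by
    rintro i _ ⟨t, ht, rfl⟩
    have := conj_inr_mem_supp (A := A) (κ (Multiplicative.ofAdd i)) (hκ i 0) (hTs ht)
    rw [zero_add] at this
    exact this
  have hH0 : H 0 = T := by
    ext x
    constructor
    · rintro ⟨t, ht, rfl⟩
      rw [hc_zero]; exact ht
    · intro hx
      exact ⟨x, hx, hc_zero x⟩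
  have hHmap : ∀ i j, (H j).map (c i) = H (i + j) := by
    intro i j
    ext x
    constructor
    · rintro ⟨_, ⟨t, ht, rfl⟩, rfl⟩
      exact ⟨t, ht, (hc_add i j t).symm⟩
    · rintro ⟨t, ht, rfl⟩
      exact ⟨c j t, ⟨t, ht, rfl⟩, hc_add i j t⟩
  set B : Subgroup (Wr A Ω) := ⨆ i, H i with hB
  have hBp : IsPGroup p B := by
    apply isPGroup_iSup_of_commute p H (fun i => hT.map _)
    intro i j hij x hx y hy
    exact supp_commute (hY i j hij) (hH_supp i hx) (hH_supp j hy)
  set C : Subgroup (Wr A Ω) := K.range with hC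
  have hCp : IsPGroup p C := by
    rintro ⟨_, ⟨m, rfl⟩⟩
    refine ⟨1, ?_⟩
    apply Subtype.ext
    show (K m) ^ p ^ 1 = 1
    rw [pow_one, ← map_pow]
    have h1 : m ^ p = 1 := by
      have := pow_card_eq_one' (x := m)
      rwa [Nat.card_eq_fintype_card, Fintype.card_multiplicative, ZMod.card] at this
    rw [h1, map_one]
  have hBmap : ∀ i, B.map (c i) = B := by
    intro i
    rw [hB, Subgroup.map_iSup]
    have : (fun j => (H j).map (c i)) = fun j => H ((Equiv.addLeft i) j) := by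
      funext j
      exact hHmap i j
    rw [this]
    exact (Equiv.addLeft i).iSup_comp (g := H)
  have hnorm : C ≤ Subgroup.normalizer (B : Set (Wr A Ω)) := by
    rintro _ ⟨m, rfl⟩
    obtain ⟨i, rfl⟩ : ∃ i, Multiplicative.ofAdd i = m := ⟨Multiplicative.toAdd m, rfl⟩
    rw [Subgroup.mem_normalizer_iff]
    intro h
    constructor
    · intro hh
      have : c i h ∈ B.map (c i) := ⟨h, hh, rfl⟩
      rw [hBmap] at this
      exact this
    · intro hh
      have h1 : c i h ∈ B := hh
      rw [← hBmap i] at h1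
      obtain ⟨h', hh', he⟩ := h1
      have : h' = h := (MulAut.conj (K (Multiplicative.ofAdd i))).injective he
      rw [← this]; exact hh'
  have hd : Disjoint (Y 0) (Y 1) := hY 0 1 zero_ne_one
  refine ⟨B ⊔ C, IsPGroup.to_sup_of_normal_left' hBp hCp hnorm, ?_, ?_⟩
  · refine sup_le (iSup_le (fun i => ?_)) ?_
    · exact (hH_supp i).trans (supp_mono (Set.subset_iUnion Y i))
    · rintro _ ⟨m, rfl⟩
      obtain ⟨i, rfl⟩ : ∃ i, Multiplicative.ofAdd i = m := ⟨Multiplicative.toAdd m, rfl⟩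
      apply inr_mem_supp
      intro x hx
      apply hfix
      intro j hj'
      exact hx (Set.mem_iUnion.mpr ⟨j, hj'⟩)
  · set T' : Subgroup (Wr A Ω) := B ⊔ C with hT'
    intro hbot
    apply hj
    have hTT' : T ≤ T' := by
      rw [← hH0]
      exact (le_iSup H 0).trans le_sup_left
    set s : Wr A Ω := K (Multiplicative.ofAdd 1) with hs
    have hsT' : s ∈ T' := (le_sup_right : C ≤ T') ⟨_, rfl⟩
    have key : ∀ i, dS T i ≤ proj0 (Y 0) (Y 1) hd (dS T' (i + 1)) := by
      intro i
      induction i with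
      | zero =>
        intro t ht
        refine ⟨hTs ht, c 1 t⁻¹, hH_supp 1 ⟨t⁻¹, T.inv_mem ht, rfl⟩, ?_⟩
        have : t * c 1 t⁻¹ = ⁅t, s⁆ := by
          rw [hc_apply, commutatorElement_def, ← hs]; group
        rw [this]
        exact Subgroup.commutator_mem_commutator (hTT' ht) hsT'
      | succ i ih =>
        rw [dS_succ]
        exact (Subgroup.commutator_mono ih ih).trans (proj0_commutator (Y 0) (Y 1) hd _)
    have := key j
    rw [hbot, proj0_bot] at this
    exact le_bot_iff.mp this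

end Cfsg.Agent.Helper11.SpDer
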