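import Mathlib
import Cfsg.Agent.Helper11.GLDerA
import Cfsg.Agent.Helper14.SylSn5

/-!
# Permutational wreath products: `p`-subgroups of large derived length, existence and upper bound
-/

set_option autoImplicit false

namespace Cfsg.Agent.Helper11.SpDer

open Cfsg.Agent.Helper11.SpNorm Cfsg.Agent.Helper14.SylSn

variable {A : Type*} [Group A] {Ω : Type*} [DecidableEq Ω]

/-- the translations of the first coordinate -/
def shiftHom (p : ℕ) (Z : Type*) : Multiplicative (ZMod p) →* Equiv.Perm (ZMod p × Z) where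
  toFun m := Equiv.prodCongr (Equiv.addRight (Multiplicative.toAdd m)) (Equiv.refl Z)
  map_one' := by
    ext ⟨a, z⟩ <;> simp
  map_mul' m m' := by
    ext ⟨a, z⟩
    · simp [add_comm (Multiplicative.toAdd m), add_assoc]
    · simp

theorem shiftHom_apply (p : ℕ) (Z : Type*) (i a : ZMod p) (z : Z) :
    shiftHom p Z (Multiplicative.ofAdd i) (a, z) = (a + i, z) := rfl

theorem exists_of_card_p (p : ℕ) [Fact p.Prime] (Q0 : Subgroup A) (hQ : IsPGroup p Q0) (j0 : ℕ)
    (hj0 : dS Q0 j0 ≠ ⊥) :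
    ∀ (k N : ℕ), N = p ^ k → ∀ ι : Fin N ↪ Ω,
      ∃ T : Subgroup (Wr A Ω), IsPGroup p T ∧ T ≤ supp A (Set.range ι) ∧ dS T (j0 + k) ≠ ⊥ := by
  classical
  intro k
  induction k with
  | zero =>
    intro N hN ι
    rw [pow_zero] at hN
    subst hN
    refine ⟨Q0.map (embAt A (ι 0)), hQ.map _, ?_, ?_⟩
    · rintro _ ⟨a, -, rfl⟩
      have hsub : ({ι 0} : Set Ω) ⊆ Set.range ι := Set.singleton_subset_iff.mpr ⟨0, rfl⟩
      exact supp_mono hsub (embAt_mem_supp (ι 0) a)
    · rw [add_zero, Ne, dS_map_eq_bot_iff _ (embAt_injective (ι 0))]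
      exact hj0
  | succ k ih =>
    intro N hN ι
    have hcard : Fintype.card (Fin N) = Fintype.card (ZMod p × Fin (p ^ k)) := by
      rw [Fintype.card_fin, Fintype.card_prod, ZMod.card, Fintype.card_fin, hN, pow_succ']
    let g : Fin N ≃ ZMod p × Fin (p ^ k) := Fintype.equivOfCardEq hcard
    let ι' : ZMod p × Fin (p ^ k) ↪ Ω := g.symm.toEmbedding.trans ι
    let Y : ZMod p → Set Ω := fun i => Set.range (fun z : Fin (p ^ k) => ι' (i, z))
    let ι0 : Fin (p ^ k) ↪ Ω := ⟨fun z => ι' (0, z), fun z z' h => by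
      have := ι'.injective h
      exact (Prod.mk.inj this).2⟩
    obtain ⟨T, hT, hTs, hTj⟩ := ih (p ^ k) rfl ι0
    let κ : Multiplicative (ZMod p) →* Equiv.Perm Ω :=
      (Equiv.Perm.viaEmbeddingHom ι').comp (shiftHom p (Fin (p ^ k)))
    have hY : ∀ i j, i ≠ j → Disjoint (Y i) (Y j) := by
      intro i j hij
      rw [Set.disjoint_left]
      rintro _ ⟨z, rfl⟩ ⟨z', hz'⟩
      have := ι'.injective hz'
      exact hij (Prod.mk.inj this).1.symm
    have hκ : ∀ (i j : ZMod p), ∀ x ∈ Y j, κ (Multiplicative.ofAdd i) x ∈ Y (j + i) := by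
      rintro i j _ ⟨z, rfl⟩
      refine ⟨z, ?_⟩
      show _ = (Equiv.Perm.viaEmbeddingHom ι') (shiftHom p (Fin (p ^ k)) (Multiplicative.ofAdd i))
        (ι' (j, z))
      rw [Equiv.Perm.viaEmbeddingHom_apply, Equiv.Perm.viaEmbedding_apply, shiftHom_apply]
    have hfix : ∀ (i : ZMod p) (x : Ω), (∀ j, x ∉ Y j) → κ (Multiplicative.ofAdd i) x = x := by
      intro i x hx
      show (Equiv.Perm.viaEmbeddingHom ι') (shiftHom p (Fin (p ^ k)) (Multiplicative.ofAdd i)) x = x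
      rw [Equiv.Perm.viaEmbeddingHom_apply]
      apply Equiv.Perm.viaEmbedding_apply_of_notMem
      rintro ⟨⟨j, z⟩, rfl⟩
      exact hx j ⟨z, rfl⟩
    obtain ⟨T', hT', hTs', hTj'⟩ := tupling p Y hY κ hκ hfix hT hTs hTj
    refine ⟨T', hT', ?_, ?_⟩
    · refine hTs'.trans (supp_mono ?_)
      intro x hx
      obtain ⟨i, z, rfl⟩ := Set.mem_iUnion.mp hx
      exact ⟨g.symm (i, z), rfl⟩
    · rw [← add_assoc]
      exact hTj'

/-- a `p`-subgroup of derived length `> j0 + k` in the wreath product, if `p ^ k ≤ |Ω|` -/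
theorem exists_p_subgroup [Fintype Ω] (p : ℕ) [Fact p.Prime] (Q0 : Subgroup A)
    (hQ : IsPGroup p Q0) (j0 : ℕ) (hj0 : dS Q0 j0 ≠ ⊥) (k : ℕ) (hk : p ^ k ≤ Fintype.card Ω) :
    ∃ T : Subgroup (Wr A Ω), IsPGroup p T ∧ dS T (j0 + k) ≠ ⊥ := by
  have hk' : Fintype.card (Fin (p ^ k)) ≤ Fintype.card Ω := by rwa [Fintype.card_fin]
  obtain ⟨ι⟩ := Function.Embedding.nonempty_of_card_le hk'
  obtain ⟨T, hT, -, hTj⟩ := exists_of_card_p p Q0 hQ j0 hj0 k (p ^ k) rfl ι
  exact ⟨T, hT, hTj⟩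

/-- upper bound for `p`-subgroups of the wreath product -/
theorem dS_upper_p {A : Type*} [Group A] (p : ℕ) [Fact p.Prime] (j0 : ℕ)
    (hA : ∀ Q : Subgroup A, IsPGroup p Q → dS Q j0 = ⊥) (n : ℕ)
    (T : Subgroup (Wr A (Fin n))) (hT : IsPGroup p T) : dS T (Nat.log p n + j0) = ⊥ := by
  set k := Nat.log p n with hk
  let r : Wr A (Fin n) →* Equiv.Perm (Fin n) := SemidirectProduct.rightHom
  have h1 : IsPGroup p (T.map r) := hT.map r
  obtain ⟨P, hP⟩ := h1.exists_le_sylow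
  have h2 : dS (T.map r) k = ⊥ := dS_bot_of_le hP (sylow_perm_dS_eq_bot p n P)
  have h3 : (dS T k).map r = ⊥ := by rw [dS_map]; exact h2
  have h4 : dS T k ≤ (SemidirectProduct.inl : (Fin n → A) →* Wr A (Fin n)).range := by
    rw [SemidirectProduct.range_inl_eq_ker_rightHom]
    intro x hx
    rw [MonoidHom.mem_ker]
    have : r x ∈ (dS T k).map r := ⟨x, hx, rfl⟩
    rw [h3, Subgroup.mem_bot] at this
    exact this
  set K := dS T k with hK'
  set K0 := K.comap (SemidirectProduct.inl : (Fin n → A) →* Wr A (Fin n)) with hK0'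
  have h5 : K0.map SemidirectProduct.inl = K := Subgroup.map_comap_eq_self h4
  have hK : IsPGroup p K := hT.to_le (dS_le T k)
  have hK0 : IsPGroup p K0 := hK.comap_of_injective _ SemidirectProduct.inl_injective
  have h6 : dS K0 j0 = ⊥ := by
    rw [eq_bot_iff]
    intro f hf
    rw [Subgroup.mem_bot]
    funext i
    have h7 : dS (K0.map (Pi.evalMonoidHom (fun _ : Fin n => A) i)) j0 = ⊥ := hA _ (hK0.map _)
    have h8 : f i ∈ (dS K0 j0).map (Pi.evalMonoidHom (fun _ : Fin n => A) i) := ⟨f, hf, rfl⟩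
    rw [dS_map, h7, Subgroup.mem_bot] at h8
    exact h8
  have : dS T (k + j0) = dS K j0 := (dS_add T k j0).symm
  rw [this, ← h5, ← dS_map, h6, Subgroup.map_bot]

end Cfsg.Agent.Helper11.SpDer
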