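import Mathlib
import Cfsg.Agent.Helper12.WeirA

/-!
# The `p`-adic valuation of `|GL_n(q)|` for an odd prime `p` not dividing `q`
-/

set_option autoImplicit false

namespace Cfsg.Agent.Helper11.GLDer

open Cfsg.Agent.Helper12.Weir

variable {p q : ℕ} [Fact p.Prime]

theorem padic_pow_mul_sub_one (hp : p ≠ 2) (hq : 2 ≤ q) (hpq : ¬ p ∣ q) (i : ℕ) (hi : i ≠ 0) :
    padicValNat p (q ^ (orderOf (q : ZMod p) * i) - 1) =
      padicValNat p (q ^ orderOf (q : ZMod p) - 1) + padicValNat p i := by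
  have hd : 0 < orderOf (q : ZMod p) := orderOf_pos_of_not_dvd hpq
  have hodd : Odd p := by
    rcases (Fact.out : p.Prime).eq_two_or_odd' with h2 | ho
    · exact absurd h2 hp
    · exact ho
  have h1 : 1 < q ^ orderOf (q : ZMod p) := Nat.one_lt_pow hd.ne' (by omega)
  have h2 : p ∣ q ^ orderOf (q : ZMod p) - 1 := (dvd_pow_sub_one_iff (by omega) _).2 dvd_rfl
  have h3 : ¬ p ∣ q ^ orderOf (q : ZMod p) := fun h =>
    hpq ((Fact.out : p.Prime).dvd_of_dvd_pow h)
  have := padicValNat.pow_sub_pow (p := p) (x := q ^ orderOf (q : ZMod p)) (y := 1) hodd h1 h2 h3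
    (n := i) hi
  rw [one_pow, ← pow_mul] at this
  exact this

theorem sum_padic (hp : p ≠ 2) (hq : 2 ≤ q) (hpq : ¬ p ∣ q) (n : ℕ) :
    ∑ j ∈ Finset.range n, padicValNat p (q ^ (j + 1) - 1) =
      (n / orderOf (q : ZMod p)) * padicValNat p (q ^ orderOf (q : ZMod p) - 1) +
        padicValNat p (n / orderOf (q : ZMod p)).factorial := by
  have hd : 0 < orderOf (q : ZMod p) := orderOf_pos_of_not_dvd hpq
  set e := orderOf (q : ZMod p) with he
  induction n with
  | zero => simp
  | succ n ih =>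
    rw [Finset.sum_range_succ, ih, Nat.succ_div]
    by_cases hdvd : e ∣ n + 1
    · rw [if_pos hdvd]
      obtain ⟨i, hi⟩ := hdvd
      have hi0 : i ≠ 0 := by
        rintro rfl
        omega
      have hne : n / e + 1 = i := by
        have : (n + 1) / e = i := by rw [hi]; exact Nat.mul_div_cancel_left i hd
        rw [Nat.succ_div, if_pos ⟨i, hi⟩] at this
        exact this
      rw [hi, padic_pow_mul_sub_one hp hq hpq i hi0, hne]
      have hfac : i.factorial = i * (n / e).factorial := by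
        rw [← hne, Nat.factorial_succ]
      rw [hfac, padicValNat.mul hi0 (Nat.factorial_ne_zero _), ← hne]
      ring
    · rw [if_neg hdvd, add_zero, padicValNat_pow_sub_one_of_not_dvd (by omega) hdvd, add_zero]

theorem padic_prod_GL (hq : 2 ≤ q) (hpq : ¬ p ∣ q) (n : ℕ) :
    padicValNat p (∏ i : Fin n, (q ^ n - q ^ (i : ℕ))) =
      ∑ j ∈ Finset.range n, padicValNat p (q ^ (j + 1) - 1) := by
  have hr : p.Prime := Fact.out
  have hfac : ∀ i : Fin n, q ^ n - q ^ (i : ℕ) = q ^ (i : ℕ) * (q ^ (n - (i : ℕ)) - 1) := by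
    intro i
    have : q ^ n = q ^ (i : ℕ) * q ^ (n - (i : ℕ)) := by
      rw [← pow_add]
      congr 1
      have := i.2
      omega
    rw [this, Nat.mul_sub, mul_one]
  have hne : ∀ i ∈ (Finset.univ : Finset (Fin n)), q ^ n - q ^ (i : ℕ) ≠ 0 := by
    intro i _
    have : q ^ (i : ℕ) < q ^ n := Nat.pow_lt_pow_right (by omega) i.2
    omega
  rw [← Nat.factorization_def _ hr, Nat.factorization_prod hne, Finsupp.finsetSum_apply]
  have h1 : ∀ i : Fin n, (q ^ n - q ^ (i : ℕ)).factorization p =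
      (fun k : ℕ => padicValNat p (q ^ (n - k) - 1)) (i : ℕ) := by
    intro i
    have hpos : q ^ (n - (i : ℕ)) - 1 ≠ 0 := by
      have : 1 < q ^ (n - (i : ℕ)) := Nat.one_lt_pow (by have := i.2; omega) (by omega)
      omega
    rw [Nat.factorization_def _ hr, hfac i,
      padicValNat.mul (pow_ne_zero _ (by omega)) hpos, padicValNat.pow,
      padicValNat.eq_zero_of_not_dvd hpq, mul_zero, zero_add]
  rw [Finset.sum_congr rfl (fun i _ => h1 i),
    Fin.sum_univ_eq_sum_range (fun k : ℕ => padicValNat p (q ^ (n - k) - 1)) n]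
  have h2 : ∑ k ∈ Finset.range n, padicValNat p (q ^ (n - k) - 1) =
      ∑ k ∈ Finset.range n, (fun j : ℕ => padicValNat p (q ^ (j + 1) - 1)) (n - 1 - k) := by
    apply Finset.sum_congr rfl
    intro k hk
    rw [Finset.mem_range] at hk
    show _ = padicValNat p (q ^ (n - 1 - k + 1) - 1)
    congr 3
    omega
  rw [h2, Finset.sum_range_reflect (fun j : ℕ => padicValNat p (q ^ (j + 1) - 1)) n]

theorem padic_card_GL {F : Type*} [Field F] [Fintype F] (hp : p ≠ 2)
    (hpq : ¬ p ∣ Fintype.card F) (n : ℕ) :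
    padicValNat p (Nat.card (GL (Fin n) F)) =
      (n / orderOf ((Fintype.card F : ℕ) : ZMod p)) *
        padicValNat p (Fintype.card F ^ orderOf ((Fintype.card F : ℕ) : ZMod p) - 1) +
        padicValNat p (n / orderOf ((Fintype.card F : ℕ) : ZMod p)).factorial := by
  have hq : 2 ≤ Fintype.card F := Fintype.one_lt_card
  rw [Matrix.card_GL_field, padic_prod_GL hq hpq, sum_padic hp hq hpq]

end Cfsg.Agent.Helper11.GLDer
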