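import Mathlib
import Cfsg.Agent.Helper11.SpDerA

/-!
# The monomial subgroup `GL_e(F) ≀ S_m` of `GL_n(F)`, `m * e ≤ n`, via linear maps
-/

set_option autoImplicit false

namespace Cfsg.Agent.Helper11.GLDer

open Cfsg.Agent.Helper11.SpNorm Cfsg.Agent.Helper11.SpDer

variable (F : Type*) [Field F] (e m : ℕ)

/-- the linear automorphisms of `F^e` -/
abbrev Ae := (Fin e → F) ≃ₗ[F] (Fin e → F)

/-- `(F^e)^m` -/
abbrev Vm := Fin m → Fin e → F

/-- the base group -/
def f1 : (Fin m → Ae F e) →* (Vm F e m ≃ₗ[F] Vm F e m) where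
  toFun f := LinearEquiv.piCongrRight f
  map_one' := by
    apply LinearEquiv.ext
    intro v
    funext i
    rfl
  map_mul' f g := by
    apply LinearEquiv.ext
    intro v
    funext i
    rfl

/-- the permutations of the blocks -/
def f2 : Equiv.Perm (Fin m) →* (Vm F e m ≃ₗ[F] Vm F e m) where
  toFun σ := LinearEquiv.funCongrLeft F (Fin e → F) σ.symm
  map_one' := by
    apply LinearEquiv.ext
    intro v
    funext i
    rfl
  map_mul' σ τ := by
    apply LinearEquiv.ext
    intro v
    funext i
    rfl

theorem f1_apply (f : Fin m → Ae F e) (v : Vm F e m) (i : Fin m) : f1 F e m f v i = f i (v i) := rfl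

theorem f2_apply (σ : Equiv.Perm (Fin m)) (v : Vm F e m) (i : Fin m) :
    f2 F e m σ v i = v (σ.symm i) := rfl

/-- the wreath product acting on `(F^e)^m` -/
def Psi : Wr (Ae F e) (Fin m) →* (Vm F e m ≃ₗ[F] Vm F e m) :=
  SemidirectProduct.lift (f1 F e m) (f2 F e m) (by
    intro σ
    apply MonoidHom.ext
    intro f
    apply LinearEquiv.ext
    intro v
    funext i
    simp only [MonoidHom.comp_apply, MulEquiv.coe_toMonoidHom, MulAut.conj_apply]
    rw [← map_inv, LinearEquiv.mul_apply, LinearEquiv.mul_apply, f2_apply, f1_apply, f1_apply,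
      f2_apply]
    show f (σ.symm i) (v i) = f (σ.symm i) (v (σ (σ.symm i)))
    rw [Equiv.apply_symm_apply])

theorem Psi_apply (x : Wr (Ae F e) (Fin m)) (v : Vm F e m) (i : Fin m) :
    Psi F e m x v i = x.left i (v (x.right.symm i)) := rfl

theorem Psi_injective (he : 0 < e) : Function.Injective (Psi F e m) := by
  classical
  rw [injective_iff_map_eq_one]
  intro x hx
  have hv : ∀ (v : Vm F e m) (i : Fin m), x.left i (v (x.right.symm i)) = v i := by
    intro v i
    have := congrArg (fun φ : Vm F e m ≃ₗ[F] Vm F e m => φ v i) hx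
    exact this
  let w : Fin e → F := fun _ => 1
  have hw : w ≠ 0 := by
    intro h
    have := congrFun h ⟨0, he⟩
    exact one_ne_zero this
  have hσ : x.right = 1 := by
    apply Equiv.ext
    intro j
    by_contra hne
    have hne' : x.right j ≠ j := hne
    have h1 := hv (Pi.single j w) (x.right j)
    rw [Equiv.symm_apply_apply, Pi.single_eq_same, Pi.single_eq_of_ne hne'] at h1
    have h2 : w = 0 := by
      have := (x.left (x.right j)).injective (h1.trans (map_zero _).symm)
      exact this
    exact hw h2
  have hB : x.left = 1 := by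
    funext i
    apply LinearEquiv.ext
    intro u
    have h1 := hv (fun _ => u) i
    exact h1
  ext1
  · exact hB
  · exact hσ

variable {F}

/-- extension by the identity on a second factor -/
def extHom (V W : Type*) [AddCommGroup V] [Module F V] [AddCommGroup W] [Module F W] :
    (V ≃ₗ[F] V) →* ((V × W) ≃ₗ[F] (V × W)) where
  toFun φ := LinearEquiv.prodCongr φ (LinearEquiv.refl F W)
  map_one' := by
    apply LinearEquiv.ext
    rintro ⟨v, w⟩
    rfl
  map_mul' φ ψ := by
    apply LinearEquiv.ext
    rintro ⟨v, w⟩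
    rfl

theorem extHom_injective (V W : Type*) [AddCommGroup V] [Module F V] [AddCommGroup W]
    [Module F W] : Function.Injective (extHom (F := F) V W) := by
  intro φ ψ h
  apply LinearEquiv.ext
  intro v
  have := congrArg (fun χ : (V × W) ≃ₗ[F] (V × W) => (χ (v, 0)).1) h
  exact this

/-- transport of automorphisms along a linear equivalence -/
def congrHom {V V' : Type*} [AddCommGroup V] [Module F V] [AddCommGroup V'] [Module F V']
    (ε : V ≃ₗ[F] V') : (V ≃ₗ[F] V) →* (V' ≃ₗ[F] V') where
  toFun φ := (ε.symm.trans φ).trans ε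
  map_one' := by
    apply LinearEquiv.ext
    intro v
    simp
  map_mul' φ ψ := by
    apply LinearEquiv.ext
    intro v
    simp [LinearEquiv.mul_apply]

theorem congrHom_injective {V V' : Type*} [AddCommGroup V] [Module F V] [AddCommGroup V']
    [Module F V'] (ε : V ≃ₗ[F] V') : Function.Injective (congrHom ε) := by
  intro φ ψ h
  apply LinearEquiv.ext
  intro v
  have := congrArg (fun χ : V' ≃ₗ[F] V' => ε.symm (χ (ε v))) h
  simpa [congrHom] using this

variable (F)

/-- matrices versus linear automorphisms -/
noncomputable def glEquiv (n : ℕ) : GL (Fin n) F ≃* ((Fin n → F) ≃ₗ[F] (Fin n → F)) :=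
  Matrix.GeneralLinearGroup.toLin.trans (LinearMap.GeneralLinearGroup.generalLinearEquiv F _)

theorem finrank_Vm : Module.finrank F (Vm F e m) = m * e := by
  rw [Module.finrank_pi_fintype F]
  simp [Module.finrank_fintype_fun_eq_card]

/-- the linear equivalence `F^n ≃ (F^e)^m × F^(n - m e)` -/
noncomputable def eps (n : ℕ) (h : m * e ≤ n) :
    (Fin n → F) ≃ₗ[F] (Vm F e m × (Fin (n - m * e) → F)) :=
  LinearEquiv.ofFinrankEq _ _ (by
    rw [Module.finrank_prod, finrank_Vm, Module.finrank_fintype_fun_eq_card,
      Module.finrank_fintype_fun_eq_card, Fintype.card_fin, Fintype.card_fin]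
    omega)

/-- the embedding of the wreath product in `GL_n(F)` -/
noncomputable def Theta (n : ℕ) (h : m * e ≤ n) : Wr (Ae F e) (Fin m) →* GL (Fin n) F :=
  (glEquiv F n).symm.toMonoidHom.comp
    ((congrHom (eps F e m n h).symm).comp
      ((extHom (Vm F e m) (Fin (n - m * e) → F)).comp (Psi F e m)))

theorem Theta_injective (he : 0 < e) (n : ℕ) (h : m * e ≤ n) :
    Function.Injective (Theta F e m n h) := by
  unfold Theta
  exact (glEquiv F n).symm.injective.comp
    ((congrHom_injective _).comp ((extHom_injective _ _).comp (Psi_injective F e m he)))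

theorem card_Wr [Finite F] : Nat.card (Wr (Ae F e) (Fin m)) =
    Nat.card (GL (Fin e) F) ^ m * m.factorial := by
  have h1 : Nat.card (Ae F e) = Nat.card (GL (Fin e) F) :=
    (Nat.card_congr (glEquiv F e).toEquiv).symm
  haveI : Finite (Ae F e) := Finite.of_equiv _ (glEquiv F e).toEquiv
  rw [SemidirectProduct.card, Nat.card_pi, Finset.prod_const, Finset.card_univ, Fintype.card_fin,
    h1, Nat.card_eq_fintype_card (α := Equiv.Perm (Fin m)), Fintype.card_perm, Fintype.card_fin]

end Cfsg.Agent.Helper11.GLDer
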