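import Mathlib
import Cfsg.Agent.Helper11.GLDerB
import Cfsg.Agent.Helper11.GLDerC
import Cfsg.Agent.Helper11.GLDerD

/-!
# Derived length of the Sylow `p`-subgroups of `GL_n(q)`, `p` odd, `p ∤ q`
-/

set_option autoImplicit false

namespace Cfsg.Agent.Helper11.GLDer

open Matrix Cfsg.Agent.Helper11.SpNorm Cfsg.Agent.Helper11.SpDer Cfsg.Agent.Helper14.SylSn
open Cfsg.Agent.Helper12.Weir

variable {F : Type*} [Field F] [Fintype F]

/-- Singer cycle: `GL_n(q)` has an element of order `q^n - 1`. -/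
theorem exists_GL_orderOf_singer (n : ℕ) [NeZero n] :
    ∃ Y : GL (Fin n) F, orderOf Y = Fintype.card F ^ n - 1 := by
  classical
  obtain ⟨p, hp⟩ := CharP.exists F
  haveI := hp
  haveI : Fact p.Prime := ⟨CharP.char_is_prime F p⟩
  let K := FiniteField.Extension F p n
  let b : Module.Basis (Fin n) F K :=
    Module.finBasisOfFinrankEq F K (FiniteField.finrank_extension F p n)
  let φ : K →ₐ[F] Matrix (Fin n) (Fin n) F := Algebra.leftMulMatrix b
  have hφ : Function.Injective φ := Algebra.leftMulMatrix_injective b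
  obtain ⟨ζ, hζ⟩ := IsCyclic.exists_generator (α := Kˣ)
  have hordζ : orderOf ζ = Fintype.card F ^ n - 1 := by
    rw [orderOf_eq_card_of_forall_mem_zpowers hζ, Nat.card_units,
      FiniteField.natCard_extension, Nat.card_eq_fintype_card]
  let ψ : Kˣ →* GL (Fin n) F := Units.map (φ : K →* Matrix (Fin n) (Fin n) F)
  have hψ : Function.Injective ψ := by
    intro x y hxy
    apply Units.ext
    apply hφ
    exact congrArg Units.val hxy
  exact ⟨ψ ζ, by rw [orderOf_injective ψ hψ, hordζ]⟩

variable (p : ℕ) [Fact p.Prime]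

/-- `p`-subgroups of `GL_e(q)`, `e = ord_p(q)`, are abelian (`p` odd) -/
theorem gl_ord_abelian (hp : p ≠ 2) (hpq : ¬ p ∣ Fintype.card F)
    (Q : Subgroup (GL (Fin (orderOf ((Fintype.card F : ℕ) : ZMod p))) F)) (hQ : IsPGroup p Q) :
    dS Q 1 = ⊥ := by
  classical
  set q := Fintype.card F with hq
  set e := orderOf ((q : ℕ) : ZMod p) with he
  have hq2 : 2 ≤ q := Fintype.one_lt_card
  have he0 : 0 < e := orderOf_pos_of_not_dvd hpq
  haveI : NeZero e := ⟨he0.ne'⟩
  obtain ⟨Y, hY⟩ := exists_GL_orderOf_singer (F := F) e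
  set a := padicValNat p (q ^ e - 1) with ha
  have hcard : padicValNat p (Nat.card (GL (Fin e) F)) = a := by
    have := padic_card_GL (p := p) (F := F) hp hpq e
    rw [← hq, ← he, Nat.div_self he0, one_mul, Nat.factorial_one, padicValNat_one_right, add_zero]
      at this
    exact this
  have hne : q ^ e - 1 ≠ 0 := by
    have : 1 < q ^ e := Nat.one_lt_pow he0.ne' (by omega)
    omega
  have hdvd : p ^ a ∣ q ^ e - 1 := pow_padicValNat_dvd
  obtain ⟨c, hc⟩ := hdvd
  have hc0 : c ≠ 0 := by
    rintro rfl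
    rw [mul_zero] at hc
    exact hne hc
  have hcd : c ∣ orderOf Y := by
    rw [hY, hc]; exact Dvd.intro_left _ rfl
  have hord : orderOf (Y ^ c) = p ^ a := by
    rw [orderOf_pow_of_dvd hc0 hcd, hY, hc]
    exact Nat.mul_div_cancel _ (Nat.pos_of_ne_zero hc0)
  set S : Subgroup (GL (Fin e) F) := Subgroup.zpowers (Y ^ c) with hS
  have hScard : Nat.card S = p ^ (Nat.card (GL (Fin e) F)).factorization p := by
    rw [Nat.card_zpowers, hord, Nat.factorization_def _ Fact.out, hcard]
  have hSab : dS S 1 = ⊥ := by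
    rw [dS_succ, dS_zero, Subgroup.commutator_eq_bot_iff_le_centralizer, hS, Subgroup.zpowers_le,
      Subgroup.mem_centralizer_iff]
    intro y hy
    obtain ⟨n, rfl⟩ := Subgroup.mem_zpowers_iff.mp hy
    exact (Commute.zpow_left (Commute.refl _) n).eq
  obtain ⟨P, hP⟩ := hQ.exists_le_sylow
  obtain ⟨g, hg⟩ := MulAction.exists_smul_eq (GL (Fin e) F) (Sylow.ofCard S hScard) P
  have hPS : (P : Subgroup (GL (Fin e) F)) = S.map (MulAut.conj g).toMonoidHom := by
    rw [← hg]
    rfl
  apply dS_bot_of_le hP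
  rw [hPS, dS_map_eq_bot_iff _ (MulAut.conj g).injective]
  exact hSab

theorem ae_abelian (hp : p ≠ 2) (hpq : ¬ p ∣ Fintype.card F)
    (Q : Subgroup (Ae F (orderOf ((Fintype.card F : ℕ) : ZMod p)))) (hQ : IsPGroup p Q) :
    dS Q 1 = ⊥ := by
  have h1 := gl_ord_abelian p hp hpq (Q.map (glEquiv F _).symm.toMonoidHom) (hQ.map _)
  rwa [dS_map_eq_bot_iff _ (glEquiv F _).symm.injective] at h1

theorem main (hp : p ≠ 2) (hpq : ¬ p ∣ Fintype.card F) (n : ℕ)
    (hn : orderOf ((Fintype.card F : ℕ) : ZMod p) ≤ n) (P : Sylow p (GL (Fin n) F)) :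
    dS (P : Subgroup (GL (Fin n) F))
        (Nat.log p (n / orderOf ((Fintype.card F : ℕ) : ZMod p)) + 1) = ⊥ ∧
      dS (P : Subgroup (GL (Fin n) F))
        (Nat.log p (n / orderOf ((Fintype.card F : ℕ) : ZMod p))) ≠ ⊥ := by
  classical
  set q := Fintype.card F with hq
  set e := orderOf ((q : ℕ) : ZMod p) with he
  have hq2 : 2 ≤ q := Fintype.one_lt_card
  have he0 : 0 < e := orderOf_pos_of_not_dvd hpq
  set m := n / e with hm
  have hme : m * e ≤ n := Nat.div_mul_le_self n e
  have hm0 : 0 < m := Nat.div_pos hn he0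
  set a := padicValNat p (q ^ e - 1) with ha
  have hcardA : padicValNat p (Nat.card (GL (Fin e) F)) = a := by
    have := padic_card_GL (p := p) (F := F) hp hpq e
    rw [← hq, ← he, Nat.div_self he0, one_mul, Nat.factorial_one, padicValNat_one_right, add_zero]
      at this
    exact this
  have ha0 : 0 < a := by
    have h2 : p ∣ q ^ e - 1 := (dvd_pow_sub_one_iff (by omega) _).2 dvd_rfl
    have hne : q ^ e - 1 ≠ 0 := by
      have : 1 < q ^ e := Nat.one_lt_pow he0.ne' (by omega)
      omega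
    exact Nat.pos_of_ne_zero (fun h0 => by
      rcases padicValNat.eq_zero_iff.mp h0 with h | h | h
      · exact (Fact.out : p.Prime).one_lt.ne' h
      · exact hne h
      · exact h h2)
  have hcardGL : padicValNat p (Nat.card (GL (Fin n) F)) = m * a + padicValNat p m.factorial := by
    have := padic_card_GL (p := p) (F := F) hp hpq n
    rw [← hq, ← he, ← hm] at this
    exact this
  have hGLne : Nat.card (GL (Fin e) F) ≠ 0 := Nat.card_pos.ne'
  have hcardW : padicValNat p (Nat.card (Wr (Ae F e) (Fin m))) =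
      m * a + padicValNat p m.factorial := by
    rw [card_Wr, padicValNat.mul (pow_ne_zero _ hGLne) (Nat.factorial_ne_zero m),
      padicValNat.pow, hcardA]
  haveI : Finite (Ae F e) := Finite.of_equiv _ (glEquiv F e).toEquiv
  haveI : Finite (Wr (Ae F e) (Fin m)) :=
    Finite.of_injective _ (Theta_injective F e m he0 n hme)
  set Θ := Theta F e m n hme with hΘ
  have hΘinj : Function.Injective Θ := Theta_injective F e m he0 n hme
  constructor
  · -- upper bound
    obtain ⟨T⟩ := (inferInstance : Nonempty (Sylow p (Wr (Ae F e) (Fin m))))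
    have hTcard := T.card_eq_multiplicity
    set T' : Subgroup (GL (Fin n) F) := (T : Subgroup (Wr (Ae F e) (Fin m))).map Θ with hT'
    have hT'card : Nat.card T' = Nat.card (T : Subgroup (Wr (Ae F e) (Fin m))) :=
      Subgroup.card_map_of_injective hΘinj
    have hfac : (Nat.card (Wr (Ae F e) (Fin m))).factorization p =
        (Nat.card (GL (Fin n) F)).factorization p := by
      rw [Nat.factorization_def _ Fact.out, Nat.factorization_def _ Fact.out, hcardW, hcardGL]
    let P0 : Sylow p (GL (Fin n) F) := Sylow.ofCard T' (by rw [hT'card, hTcard, hfac])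
    have hP0 : (P0 : Subgroup (GL (Fin n) F)) = T' := rfl
    obtain ⟨g, hg⟩ := MulAction.exists_smul_eq (GL (Fin n) F) P0 P
    have hR : (P : Subgroup (GL (Fin n) F)) = T'.map (MulAut.conj g).toMonoidHom := by
      rw [← hg, ← hP0]
      rfl
    have hup := dS_upper_p p 1 (fun Q hQ => ae_abelian p hp hpq Q hQ) m
      (T : Subgroup (Wr (Ae F e) (Fin m))) T.2
    rw [hR, dS_map_eq_bot_iff _ (MulAut.conj g).injective, hT',
      dS_map_eq_bot_iff _ hΘinj]
    exact hup
  · -- lower bound
    obtain ⟨Q0⟩ := (inferInstance : Nonempty (Sylow p (Ae F e)))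
    have hQ0 : dS (Q0 : Subgroup (Ae F e)) 0 ≠ ⊥ := by
      rw [dS_zero]
      intro hbot
      have h1 := Q0.card_eq_multiplicity
      rw [hbot, Subgroup.card_bot] at h1
      have h2 : Nat.card (Ae F e) = Nat.card (GL (Fin e) F) :=
        (Nat.card_congr (glEquiv F e).toEquiv).symm
      rw [h2, Nat.factorization_def _ Fact.out, hcardA] at h1
      have : 1 < p ^ a := Nat.one_lt_pow ha0.ne' (Fact.out : p.Prime).one_lt
      omega
    have hk : p ^ Nat.log p m ≤ Fintype.card (Fin m) := by
      rw [Fintype.card_fin]; exact Nat.pow_log_le_self p hm0.ne'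
    obtain ⟨T1, hT1, hT1j⟩ := exists_p_subgroup (Ω := Fin m) p
      (Q0 : Subgroup (Ae F e)) Q0.2 0 hQ0 (Nat.log p m) hk
    rw [zero_add] at hT1j
    have h1 : IsPGroup p (T1.map Θ) := hT1.map _
    obtain ⟨P', hP'⟩ := h1.exists_le_sylow
    have h2 : dS (P' : Subgroup (GL (Fin n) F)) (Nat.log p m) ≠ ⊥ := by
      intro hbot
      have h3 := dS_bot_of_le hP' hbot
      rw [dS_map_eq_bot_iff _ hΘinj] at h3
      exact hT1j h3
    obtain ⟨g, hg⟩ := MulAction.exists_smul_eq (GL (Fin n) F) P' P
    have hR : (P : Subgroup (GL (Fin n) F)) =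
        (P' : Subgroup (GL (Fin n) F)).map (MulAut.conj g).toMonoidHom := by
      rw [← hg]
      rfl
    rw [hR, Ne, dS_map_eq_bot_iff _ (MulAut.conj g).injective]
    exact h2

end Cfsg.Agent.Helper11.GLDer
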