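import Mathlib
import Cfsg.Agent.Helper11.SpNormB

/-!
# The monomial subgroup `SL₂(F)^l ⋊ Perm l` of the symplectic group (part C): the subgroup
-/

set_option autoImplicit false

namespace Cfsg.Agent.Helper11.SpNorm

open Matrix Cfsg.Agent.Helper11.SpRank

variable {F : Type*} [Field F] {l : Type*} [Fintype l] [DecidableEq l]

/-- the homomorphism from the semidirect product -/
noncomputable def Phi (F : Type*) [Field F] (l : Type*) [Fintype l] [DecidableEq l] :
    (l → SpecialLinearGroup (Fin 2) F) ⋊[phi (SpecialLinearGroup (Fin 2) F) l] Equiv.Perm l →*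
      symplecticGroup l F :=
  SemidirectProduct.lift (psi F l) (pi F l) (by
    intro σ
    ext B : 1
    simp only [MonoidHom.comp_apply, MulEquiv.coe_toMonoidHom, MulAut.conj_apply]
    exact (pi_conj_psi σ B).symm)

theorem Phi_apply (x : (l → SpecialLinearGroup (Fin 2) F) ⋊[phi (SpecialLinearGroup (Fin 2) F) l]
    Equiv.Perm l) : Phi F l x = psi F l x.left * pi F l x.right := rfl

theorem Phi_injective : Function.Injective (Phi F l) := by
  rw [injective_iff_map_eq_one]
  intro x hx
  rw [Phi_apply] at hx
  have hm : (psi F l x.left).1 * (pi F l x.right).1 = 1 := congrArg Subtype.val hx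
  -- the permutation is trivial
  have hσ : x.right = 1 := by
    ext j
    by_contra hne
    -- look at column `inl j`, rows `inl (σ j)` and `inr (σ j)`
    have hpi : (pi F l x.right).1 = pm F x.right.symm := rfl
    have he : ((Equiv.symm x.right).sumCongr (Equiv.symm x.right)).symm (Sum.inl j) =
        Sum.inl (x.right j) := rfl
    have h1 : ((psi F l x.left).1 * pm F x.right.symm) (Sum.inl (x.right j)) (Sum.inl j) =
        (1 : Matrix (l ⊕ l) (l ⊕ l) F) (Sum.inl (x.right j)) (Sum.inl j) := by rw [← hpi, hm]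
    have h2 : ((psi F l x.left).1 * pm F x.right.symm) (Sum.inr (x.right j)) (Sum.inl j) =
        (1 : Matrix (l ⊕ l) (l ⊕ l) F) (Sum.inr (x.right j)) (Sum.inl j) := by rw [← hpi, hm]
    rw [mul_pm] at h1 h2
    simp only [submatrix_apply, id, he] at h1 h2
    rw [Matrix.one_apply_ne (by simpa using hne)] at h1
    rw [Matrix.one_apply_ne (by simp)] at h2
    simp only [psi, MonoidHom.coe_mk, OneHom.coe_mk, blk, fromBlocks_apply₁₁, fromBlocks_apply₂₁,
      diagonal_apply_eq] at h1 h2
    have hdet := (x.left (x.right j)).2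
    rw [det_fin_two, h1, h2] at hdet
    simp at hdet
  have hB : x.left = 1 := by
    rw [hσ, map_one, mul_one] at hx
    exact psi_injective (hx.trans (map_one _).symm)
  ext : 1
  · exact hB
  · exact hσ

/-- the monomial subgroup -/
noncomputable def monomial (F : Type*) [Field F] (l : Type*) [Fintype l] [DecidableEq l] :
    Subgroup (symplecticGroup l F) := (Phi F l).range

theorem card_monomial [Finite F] : Nat.card (monomial F l) =
    Nat.card (SpecialLinearGroup (Fin 2) F) ^ Fintype.card l * (Fintype.card l).factorial := by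
  have h1 : Nat.card (monomial F l) = Nat.card ((l → SpecialLinearGroup (Fin 2) F)
      ⋊[phi (SpecialLinearGroup (Fin 2) F) l] Equiv.Perm l) :=
    (Nat.card_congr (MonoidHom.ofInjective Phi_injective).toEquiv).symm
  rw [h1, SemidirectProduct.card, Nat.card_pi, Finset.prod_const, Finset.card_univ,
    Nat.card_eq_fintype_card (α := Equiv.Perm l), Fintype.card_perm]

/-- the diagonal sign matrices -/
def E0 (F : Type*) [Field F] (l : Type*) [Fintype l] [DecidableEq l] :
    Subgroup (symplecticGroup l F) := (spDiagHom F l).range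

theorem conj_mem_E0 {m e : symplecticGroup l F} (hm : m ∈ monomial F l) (he : e ∈ E0 F l) :
    m * e * m⁻¹ ∈ E0 F l := by
  obtain ⟨x, rfl⟩ := hm
  obtain ⟨ε, rfl⟩ := he
  rw [Phi_apply]
  have h1 : psi F l x.left * pi F l x.right * spDiagHom F l ε * (psi F l x.left * pi F l x.right)⁻¹ =
      psi F l x.left * (pi F l x.right * spDiagHom F l ε * (pi F l x.right)⁻¹) *
        (psi F l x.left)⁻¹ := by group
  rw [h1, pi_conj_diag, psi_comm_diag, mul_inv_cancel_right]
  exact ⟨_, rfl⟩

/-- scalar sign matrix in `SL₂` -/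
def sgnSL (F : Type*) [Field F] (u : ℤˣ) : SpecialLinearGroup (Fin 2) F :=
  ⟨!![Cfsg.Agent.Helper11.SLRank.sgn F u, 0; 0, Cfsg.Agent.Helper11.SLRank.sgn F u], by
    rw [det_fin_two_of]
    have := Cfsg.Agent.Helper11.SLRank.sgn_mul_self (F := F) u
    linear_combination this⟩

theorem psi_sgnSL (ε : l → ℤˣ) : psi F l (fun i => sgnSL F (ε i)) = spDiagHom F l ε := by
  apply Subtype.ext
  show blk _ _ _ _ = Matrix.diagonal (dd F ε)
  unfold blk sgnSL
  simp only [cons_val', cons_val_zero, cons_val_one, of_apply, cons_val_fin_one]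
  show fromBlocks _ (diagonal fun _ => (0 : F)) (diagonal fun _ => (0 : F)) _ = _
  rw [diagonal_zero, fromBlocks_diagonal]
  rfl

theorem E0_le_monomial : E0 F l ≤ monomial F l := by
  rintro _ ⟨ε, rfl⟩
  refine ⟨SemidirectProduct.inl (fun i => sgnSL F (ε i)), ?_⟩
  rw [Phi_apply, SemidirectProduct.left_inl, SemidirectProduct.right_inl, map_one, mul_one]
  exact psi_sgnSL ε

end Cfsg.Agent.Helper11.SpNorm
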