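import Mathlib
import Cfsg.Agent.Helper11.SpNormC
import Cfsg.Agent.Helper2.SpCard
import Cfsg.Agent.Helper2.SL2Sylow

/-!
# The monomial subgroup of the symplectic group (part D): 2-parts of the orders
-/

set_option autoImplicit false

namespace Cfsg.Agent.Helper11.SpNorm

open Matrix

/-- lifting the exponent for `q^(2k) - 1`, `q` odd -/
theorem padic_pow_sub_one (q : ℕ) (hq : Odd q) (hq1 : 1 < q) (k : ℕ) (hk : k ≠ 0) :
    padicValNat 2 (q ^ (2 * k) - 1) = padicValNat 2 (q ^ 2 - 1) + padicValNat 2 k := by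
  have hx : ¬ 2 ∣ q := by
    rw [← even_iff_two_dvd, Nat.not_even_iff_odd]; exact hq
  have hxy : 2 ∣ q - 1 := by
    obtain ⟨m, rfl⟩ := hq
    exact ⟨m, by omega⟩
  have h1 := padicValNat.pow_two_sub_pow hq1 hxy hx (n := 2 * k) (by omega) (even_two_mul k)
  have h2 := padicValNat.pow_two_sub_pow hq1 hxy hx (n := 2) (by omega) even_two
  rw [one_pow] at h1 h2
  have h3 : padicValNat 2 (2 * k) = 1 + padicValNat 2 k := by
    rw [padicValNat.mul (by omega) hk, padicValNat_self]
  have h4 : padicValNat 2 2 = 1 := padicValNat_self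
  rw [h3] at h1
  rw [h4] at h2
  omega

variable {F : Type*} [Field F] [Fintype F]

theorem padic_card_sp (hodd : Odd (Fintype.card F)) (n : ℕ) :
    padicValNat 2 (Nat.card (symplecticGroup (Fin n) F)) =
      n * padicValNat 2 (Fintype.card F ^ 2 - 1) + padicValNat 2 n.factorial := by
  have hq1 : 1 < Fintype.card F := Fintype.one_lt_card
  set q := Fintype.card F with hqdef
  rw [Cfsg.Agent.Helper2.Sp.card_symplectic_fin]
  have hx : ¬ 2 ∣ q := by
    rw [← even_iff_two_dvd, Nat.not_even_iff_odd]; exact hodd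
  have hne : ∀ i, q ^ (2 * (i + 1)) - 1 ≠ 0 := by
    intro i
    have : 1 < q ^ (2 * (i + 1)) := Nat.one_lt_pow (by omega) hq1
    omega
  have hprodne : ∏ i ∈ Finset.range n, (q ^ (2 * (i + 1)) - 1) ≠ 0 :=
    Finset.prod_ne_zero_iff.mpr (fun i _ => hne i)
  rw [← hqdef]
  have hq0 : q ≠ 0 := by omega
  rw [padicValNat.mul (pow_ne_zero _ hq0) hprodne, padicValNat.pow q (n ^ 2),
    padicValNat.eq_zero_of_not_dvd hx, mul_zero, zero_add]
  have hfact : n.factorial = ∏ i ∈ Finset.range n, (i + 1) :=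
    (Finset.prod_range_add_one_eq_factorial n).symm
  rw [hfact]
  clear hfact hprodne
  induction n with
  | zero => simp
  | succ m ih =>
    have h1 : ∏ i ∈ Finset.range m, (q ^ (2 * (i + 1)) - 1) ≠ 0 :=
      Finset.prod_ne_zero_iff.mpr (fun i _ => hne i)
    have h2 : ∏ i ∈ Finset.range m, (i + 1) ≠ 0 :=
      Finset.prod_ne_zero_iff.mpr (fun i _ => by omega)
    rw [Finset.prod_range_succ, Finset.prod_range_succ, padicValNat.mul h1 (hne m),
      padicValNat.mul h2 (by omega), ih, padic_pow_sub_one q hodd hq1 (m + 1) (by omega)]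
    ring

theorem padic_card_monomial (hodd : Odd (Fintype.card F)) (n : ℕ) :
    padicValNat 2 (Nat.card (monomial F (Fin n))) =
      n * padicValNat 2 (Fintype.card F ^ 2 - 1) + padicValNat 2 n.factorial := by
  have hq1 : 1 < Fintype.card F := Fintype.one_lt_card
  set q := Fintype.card F with hqdef
  have hx : ¬ 2 ∣ q := by
    rw [← even_iff_two_dvd, Nat.not_even_iff_odd]; exact hodd
  have hq2 : q ^ 2 - 1 ≠ 0 := by
    have : 1 < q ^ 2 := Nat.one_lt_pow (by omega) hq1
    omega
  have hq0 : q ≠ 0 := by omega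
  rw [card_monomial, Cfsg.Agent.Helper2.SL2.card_SL2, Fintype.card_fin, ← hqdef,
    padicValNat.mul (pow_ne_zero _ (Nat.mul_ne_zero hq0 hq2)) (Nat.factorial_ne_zero n),
    padicValNat.pow (q * (q ^ 2 - 1)) n, padicValNat.mul hq0 hq2,
    padicValNat.eq_zero_of_not_dvd hx, zero_add]

end Cfsg.Agent.Helper11.SpNorm
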