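import Mathlib
import Cfsg.Agent.Helper11.GLDerC
import Cfsg.Agent.Helper11.SpNormD

/-!
# The 2-adic valuation of `|GL_n(q)|`, `q` odd
-/

set_option autoImplicit false

namespace Cfsg.Agent.Helper11.GLDer

open Cfsg.Agent.Helper11.SpNorm

theorem padic_odd_pow (q : ℕ) (hq : Odd q) (hq1 : 1 < q) (k : ℕ) :
    padicValNat 2 (q ^ (2 * k + 1) - 1) = padicValNat 2 (q - 1) := by
  have h1 : q ^ (2 * k + 1) - 1 = (∑ i ∈ Finset.range (2 * k + 1), q ^ i) * (q - 1) := by
    have := geom_sum_mul_add (q - 1) (2 * k + 1)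
    rw [Nat.sub_add_cancel hq1.le] at this
    omega
  have hs : Odd (∑ i ∈ Finset.range (2 * k + 1), q ^ i) := by
    rw [← ZMod.natCast_eq_one_iff_odd]
    have hq' : ((q : ℕ) : ZMod 2) = 1 := ZMod.natCast_eq_one_iff_odd.mpr hq
    push_cast
    rw [hq']
    simp only [one_pow, Finset.sum_const, Finset.card_range, nsmul_eq_mul, mul_one]
    have : ((2 * k + 1 : ℕ) : ZMod 2) = 1 := ZMod.natCast_eq_one_iff_odd.mpr ⟨k, rfl⟩
    exact this
  have hs0 : (∑ i ∈ Finset.range (2 * k + 1), q ^ i) ≠ 0 := by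
    rintro h
    rw [h] at hs
    exact Nat.not_odd_zero hs
  have hs2 : ¬ 2 ∣ ∑ i ∈ Finset.range (2 * k + 1), q ^ i := by
    rw [← even_iff_two_dvd, Nat.not_even_iff_odd]; exact hs
  rw [h1, padicValNat.mul hs0 (by omega), padicValNat.eq_zero_of_not_dvd hs2, zero_add]

/-- the sum of the valuations over exponents `1, …, 2k` -/
theorem sum_padic_two_even (q : ℕ) (hq : Odd q) (hq1 : 1 < q) (k : ℕ) :
    ∑ j ∈ Finset.range (2 * k), padicValNat 2 (q ^ (j + 1) - 1) =
      k * (padicValNat 2 (q - 1) + padicValNat 2 (q ^ 2 - 1)) + padicValNat 2 k.factorial := by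
  induction k with
  | zero => simp
  | succ k ih =>
    have e : 2 * (k + 1) = 2 * k + 1 + 1 := by ring
    rw [e, Finset.sum_range_succ, Finset.sum_range_succ, ih, padic_odd_pow q hq hq1 k]
    have e2 : 2 * k + 1 + 1 = 2 * (k + 1) := by ring
    rw [e2, padic_pow_sub_one q hq hq1 (k + 1) (by omega), Nat.factorial_succ,
      padicValNat.mul (by omega) (Nat.factorial_ne_zero k)]
    ring

theorem sum_padic_two (q : ℕ) (hq : Odd q) (hq1 : 1 < q) (n : ℕ) :
    ∑ j ∈ Finset.range n, padicValNat 2 (q ^ (j + 1) - 1) =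
      (n / 2) * (padicValNat 2 (q - 1) + padicValNat 2 (q ^ 2 - 1)) +
        padicValNat 2 (n / 2).factorial + (n % 2) * padicValNat 2 (q - 1) := by
  rcases Nat.even_or_odd' n with ⟨k, rfl | rfl⟩
  · rw [sum_padic_two_even q hq hq1 k]
    have h1 : 2 * k / 2 = k := by omega
    have h2 : 2 * k % 2 = 0 := by omega
    rw [h1, h2, zero_mul, add_zero]
  · rw [Finset.sum_range_succ, sum_padic_two_even q hq hq1 k, padic_odd_pow q hq hq1 k]
    have h1 : (2 * k + 1) / 2 = k := by omega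
    have h2 : (2 * k + 1) % 2 = 1 := by omega
    rw [h1, h2, one_mul]

theorem padic_two_card_GL {F : Type*} [Field F] [Fintype F] (hodd : Odd (Fintype.card F))
    (n : ℕ) :
    padicValNat 2 (Nat.card (GL (Fin n) F)) =
      (n / 2) * (padicValNat 2 (Fintype.card F - 1) + padicValNat 2 (Fintype.card F ^ 2 - 1)) +
        padicValNat 2 (n / 2).factorial + (n % 2) * padicValNat 2 (Fintype.card F - 1) := by
  have hq : 2 ≤ Fintype.card F := Fintype.one_lt_card
  have h2 : ¬ 2 ∣ Fintype.card F := by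
    rw [← even_iff_two_dvd, Nat.not_even_iff_odd]; exact hodd
  rw [Matrix.card_GL_field, padic_prod_GL hq h2, sum_padic_two _ hodd hq]

end Cfsg.Agent.Helper11.GLDer
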