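import Mathlib
import Cfsg.Agent.Helper11.GLDerE
import Cfsg.Agent.Helper11.GLDerF
import Cfsg.Agent.Helper18.GL2Sylow4
import Cfsg.Agent.Helper18.Wr4

/-!
# 2-subgroups of `GL_n(q)`, `q` odd: derived length at most `log₂ n + 1`
-/

set_option autoImplicit false
set_option linter.unusedSectionVars false

namespace Cfsg.Agent.Helper11.GLDer

open Matrix Cfsg.Agent.Helper11.SpNorm Cfsg.Agent.Helper11.SpDer Cfsg.Agent.Helper14.SylSn

theorem dS_anti {G : Type*} [Group G] (H : Subgroup G) {i j : ℕ} (h : j ≤ i) : dS H i ≤ dS H j := by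
  obtain ⟨d, rfl⟩ := Nat.exists_eq_add_of_le h
  rw [← dS_add]
  exact dS_le _ _

theorem dS_eq_bot_of_le {G : Type*} [Group G] (H : Subgroup G) {i j : ℕ} (h : j ≤ i)
    (hj : dS H j = ⊥) : dS H i = ⊥ :=
  le_bot_iff.mp ((dS_anti H h).trans hj.le)

/-- a group with an abelian subgroup of index 2 is metabelian -/
theorem metabelian_of_index_two {G : Type*} [Group G] (U : Subgroup G) (hU : U.index = 2)
    (hab : ∀ a ∈ U, ∀ b ∈ U, a * b = b * a) : derivedSeries G 2 = ⊥ := by
  haveI : U.Normal := Subgroup.normal_of_index_eq_two hU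
  haveI : Fact (Nat.Prime 2) := ⟨Nat.prime_two⟩
  have hcard : Nat.card (G ⧸ U) = 2 := by rw [← Subgroup.index_eq_card, hU]
  haveI : IsCyclic (G ⧸ U) := isCyclic_of_prime_card hcard
  letI : CommGroup (G ⧸ U) := IsCyclic.commGroup
  have h1 : commutator G ≤ U := by
    have := Abelianization.commutator_subset_ker (QuotientGroup.mk' U)
    rwa [QuotientGroup.ker_mk'] at this
  rw [derivedSeries_succ, derivedSeries_one, eq_bot_iff]
  refine (Subgroup.commutator_mono h1 h1).trans ?_
  rw [Subgroup.commutator_le]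
  intro a ha b hb
  rw [Subgroup.mem_bot, commutatorElement_eq_one_iff_commute]
  exact hab a ha b hb

variable {F : Type*} [Field F] [Fintype F]

theorem gl2_sylow_metabelian (hodd : Odd (Fintype.card F)) (P : Sylow 2 (GL (Fin 2) F)) :
    derivedSeries ↥(P : Subgroup (GL (Fin 2) F)) 2 = ⊥ := by
  have hmod : Fintype.card F % 4 = 3 ∨ Fintype.card F % 4 = 1 := by
    obtain ⟨k, hk⟩ := hodd
    omega
  rcases hmod with h | h
  · obtain ⟨n, hn, hcard, x, y, hx, hy, hyx⟩ := Cfsg.Agent.Helper18.GL2Sylow.qd_case P h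
    apply metabelian_of_index_two (Subgroup.zpowers x)
    · have h1 := Subgroup.card_mul_index (Subgroup.zpowers x)
      rw [Nat.card_zpowers, hx, hcard, pow_succ] at h1
      exact Nat.eq_of_mul_eq_mul_left (by positivity) h1
    · intro a ha b hb
      obtain ⟨i, rfl⟩ := Subgroup.mem_zpowers_iff.mp ha
      obtain ⟨j, rfl⟩ := Subgroup.mem_zpowers_iff.mp hb
      exact (Commute.zpow_zpow (Commute.refl x) i j).eq
  · have hw := Cfsg.Agent.Helper18.GL2Sylow.wreathed_case P h
    obtain ⟨D⟩ := Cfsg.Agent.Helper18.Wr.exists_wrData hw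
    exact metabelian_of_index_two D.U D.U_index D.U_comm

theorem gl2_two_subgroup_dS (hodd : Odd (Fintype.card F)) (Q : Subgroup (GL (Fin 2) F))
    (hQ : IsPGroup 2 Q) : dS Q 2 = ⊥ := by
  haveI : Fact (Nat.Prime 2) := ⟨Nat.prime_two⟩
  obtain ⟨P, hP⟩ := hQ.exists_le_sylow
  apply dS_bot_of_le hP
  rw [← derivedSeries_eq_bot_iff]
  exact gl2_sylow_metabelian hodd P

theorem ae2_two_subgroup_dS (hodd : Odd (Fintype.card F)) (Q : Subgroup (Ae F 2))
    (hQ : IsPGroup 2 Q) : dS Q 2 = ⊥ := by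
  have h1 := gl2_two_subgroup_dS hodd (Q.map (glEquiv F 2).symm.toMonoidHom) (hQ.map _)
  rwa [dS_map_eq_bot_iff _ (glEquiv F 2).symm.injective] at h1

omit [Fintype F] in
theorem gl_small_comm (r : ℕ) (hr : r ≤ 1) (x y : GL (Fin r) F) : x * y = y * x := by
  apply Units.ext
  show (x : Matrix (Fin r) (Fin r) F) * (y : Matrix (Fin r) (Fin r) F) = y * x
  interval_cases r
  · exact Subsingleton.elim _ _
  · ext i j
    rw [Matrix.mul_apply, Matrix.mul_apply, Fin.sum_univ_one, Fin.sum_univ_one]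
    have hi : i = 0 := Subsingleton.elim _ _
    have hj : j = 0 := Subsingleton.elim _ _
    rw [hi, hj, mul_comm]

omit [Fintype F] in
theorem ae_small_dS (r : ℕ) (hr : r ≤ 1) (Q : Subgroup (Ae F r)) : dS Q 1 = ⊥ := by
  rw [dS_succ, dS_zero, Subgroup.commutator_eq_bot_iff_le_centralizer]
  intro a _
  rw [Subgroup.mem_centralizer_iff]
  intro b _
  have := gl_small_comm r hr ((glEquiv F r).symm b) ((glEquiv F r).symm a)
  rw [← map_mul, ← map_mul] at this
  exact (glEquiv F r).symm.injective this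

variable (F)

/-- the product of two automorphisms -/
def prodHom (V W : Type*) [AddCommGroup V] [Module F V] [AddCommGroup W] [Module F W] :
    (V ≃ₗ[F] V) × (W ≃ₗ[F] W) →* ((V × W) ≃ₗ[F] (V × W)) where
  toFun φ := LinearEquiv.prodCongr φ.1 φ.2
  map_one' := by
    apply LinearEquiv.ext
    rintro ⟨v, w⟩
    rfl
  map_mul' φ ψ := by
    apply LinearEquiv.ext
    rintro ⟨v, w⟩
    rfl

theorem prodHom_injective (V W : Type*) [AddCommGroup V] [Module F V] [AddCommGroup W]
    [Module F W] : Function.Injective (prodHom F V W) := by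
  rintro ⟨φ1, φ2⟩ ⟨ψ1, ψ2⟩ h
  have h1 : φ1 = ψ1 := by
    apply LinearEquiv.ext
    intro v
    have := congrArg (fun χ : (V × W) ≃ₗ[F] (V × W) => (χ (v, 0)).1) h
    exact this
  have h2 : φ2 = ψ2 := by
    apply LinearEquiv.ext
    intro w
    have := congrArg (fun χ : (V × W) ≃ₗ[F] (V × W) => (χ (0, w)).2) h
    exact this
  rw [h1, h2]

/-- the embedding of `(GL_e ≀ S_m) × GL_r` in `GL_n(F)`, `r = n - m e` -/
noncomputable def Theta2 (e m n : ℕ) (h : m * e ≤ n) :
    Wr (Ae F e) (Fin m) × Ae F (n - m * e) →* GL (Fin n) F :=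
  (glEquiv F n).symm.toMonoidHom.comp
    ((congrHom (eps F e m n h).symm).comp
      ((prodHom F (Vm F e m) (Fin (n - m * e) → F)).comp
        (MonoidHom.prodMap (Psi F e m) (MonoidHom.id _))))

theorem Theta2_injective (e m n : ℕ) (he : 0 < e) (h : m * e ≤ n) :
    Function.Injective (Theta2 F e m n h) := by
  unfold Theta2
  refine (glEquiv F n).symm.injective.comp
    ((congrHom_injective _).comp ((prodHom_injective F _ _).comp ?_))
  rintro ⟨a, b⟩ ⟨a', b'⟩ hab
  have h1 : Psi F e m a = Psi F e m a' := congrArg Prod.fst hab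
  have h2 : b = b' := congrArg Prod.snd hab
  rw [Psi_injective F e m he h1, h2]

variable {F}

/-- derived series in a product -/
theorem dS_prod_eq_bot {G1 G2 : Type*} [Group G1] [Group G2] (T : Subgroup (G1 × G2)) (j : ℕ)
    (h1 : dS (T.map (MonoidHom.fst G1 G2)) j = ⊥) (h2 : dS (T.map (MonoidHom.snd G1 G2)) j = ⊥) :
    dS T j = ⊥ := by
  rw [eq_bot_iff]
  intro x hx
  rw [Subgroup.mem_bot]
  have e1 : x.1 ∈ (dS T j).map (MonoidHom.fst G1 G2) := ⟨x, hx, rfl⟩
  have e2 : x.2 ∈ (dS T j).map (MonoidHom.snd G1 G2) := ⟨x, hx, rfl⟩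
  rw [dS_map, h1, Subgroup.mem_bot] at e1
  rw [dS_map, h2, Subgroup.mem_bot] at e2
  exact Prod.ext e1 e2

/-- 2-subgroups of `GL_n(q)`, `q` odd -/
theorem main_two (hodd : Odd (Fintype.card F)) (n : ℕ) (hn : 1 ≤ n) (P : Subgroup (GL (Fin n) F))
    (hP : IsPGroup 2 P) : dS P (Nat.log 2 n + 1) = ⊥ := by
  classical
  haveI : Fact (Nat.Prime 2) := ⟨Nat.prime_two⟩
  set q := Fintype.card F with hq
  set m := n / 2 with hm
  have hme : m * 2 ≤ n := Nat.div_mul_le_self n 2
  set r := n - m * 2 with hr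
  have hr1 : r ≤ 1 := by omega
  have hrmod : r = n % 2 := by omega
  set c := padicValNat 2 (q - 1) + padicValNat 2 (q ^ 2 - 1) with hc
  have hGL2 : padicValNat 2 (Nat.card (GL (Fin 2) F)) = c := by
    rw [padic_two_card_GL hodd 2]
    simp [hc, hq]
  have hGLr : padicValNat 2 (Nat.card (GL (Fin r) F)) = r * padicValNat 2 (q - 1) := by
    rw [padic_two_card_GL hodd r]
    interval_cases r <;> simp [hq]
  have hGLn : padicValNat 2 (Nat.card (GL (Fin n) F)) =
      m * c + padicValNat 2 m.factorial + r * padicValNat 2 (q - 1) := by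
    rw [padic_two_card_GL hodd n, hrmod]
  haveI : Finite (Ae F 2) := Finite.of_equiv _ (glEquiv F 2).toEquiv
  haveI : Finite (Ae F r) := Finite.of_equiv _ (glEquiv F r).toEquiv
  set Θ := Theta2 F 2 m n hme with hΘ
  have hΘinj : Function.Injective Θ := Theta2_injective F 2 m n (by norm_num) hme
  haveI : Finite (Wr (Ae F 2) (Fin m) × Ae F r) := Finite.of_injective _ hΘinj
  have hcardG : padicValNat 2 (Nat.card (Wr (Ae F 2) (Fin m) × Ae F r)) =
      m * c + padicValNat 2 m.factorial + r * padicValNat 2 (q - 1) := by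
    have hr' : Nat.card (Ae F r) = Nat.card (GL (Fin r) F) :=
      (Nat.card_congr (glEquiv F r).toEquiv).symm
    have hne1 : Nat.card (Wr (Ae F 2) (Fin m)) ≠ 0 := by
      rw [card_Wr]
      exact Nat.mul_ne_zero (pow_ne_zero _ Nat.card_pos.ne') (Nat.factorial_ne_zero m)
    rw [Nat.card_prod, padicValNat.mul hne1 (by rw [hr']; exact Nat.card_pos.ne'), hr', hGLr,
      card_Wr, padicValNat.mul (pow_ne_zero _ Nat.card_pos.ne') (Nat.factorial_ne_zero m),
      padicValNat.pow, hGL2]
  -- a Sylow 2-subgroup of the product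
  obtain ⟨T⟩ := (inferInstance : Nonempty (Sylow 2 (Wr (Ae F 2) (Fin m) × Ae F r)))
  have hTcard := T.card_eq_multiplicity
  set T' : Subgroup (GL (Fin n) F) :=
    (T : Subgroup (Wr (Ae F 2) (Fin m) × Ae F r)).map Θ with hT'
  have hT'card : Nat.card T' = Nat.card (T : Subgroup (Wr (Ae F 2) (Fin m) × Ae F r)) :=
    Subgroup.card_map_of_injective hΘinj
  have hfac : (Nat.card (Wr (Ae F 2) (Fin m) × Ae F r)).factorization 2 =
      (Nat.card (GL (Fin n) F)).factorization 2 := by
    rw [Nat.factorization_def _ Nat.prime_two, Nat.factorization_def _ Nat.prime_two, hcardG, hGLn]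
  let P0 : Sylow 2 (GL (Fin n) F) := Sylow.ofCard T' (by rw [hT'card, hTcard, hfac])
  have hP0 : (P0 : Subgroup (GL (Fin n) F)) = T' := rfl
  obtain ⟨P1, hP1⟩ := hP.exists_le_sylow
  obtain ⟨g, hg⟩ := MulAction.exists_smul_eq (GL (Fin n) F) P0 P1
  have hR : (P1 : Subgroup (GL (Fin n) F)) = T'.map (MulAut.conj g).toMonoidHom := by
    rw [← hg, ← hP0]
    rfl
  apply dS_bot_of_le hP1
  rw [hR, dS_map_eq_bot_iff _ (MulAut.conj g).injective, hT', dS_map_eq_bot_iff _ hΘinj]
  apply dS_prod_eq_bot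
  · -- the wreath product part
    have hTp : IsPGroup 2 ((T : Subgroup (Wr (Ae F 2) (Fin m) × Ae F r)).map
        (MonoidHom.fst (Wr (Ae F 2) (Fin m)) (Ae F r))) := T.2.map _
    rcases Nat.lt_or_ge n 2 with hn2 | hn2
    · -- n = 1: the wreath product is trivial
      have hm0 : m = 0 := by omega
      rw [eq_bot_iff]
      intro x _
      rw [Subgroup.mem_bot]
      ext1
      · funext i
        rw [hm0] at i
        exact i.elim0
      · apply Equiv.ext
        intro i
        rw [hm0] at i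
        exact i.elim0
    · have hup := dS_upper_p 2 2 (fun Q hQ => ae2_two_subgroup_dS hodd Q hQ) m _ hTp
      have hlog : Nat.log 2 n + 1 = Nat.log 2 m + 2 := by
        rw [Nat.log_of_one_lt_of_le (by norm_num) hn2]
      rw [hlog]
      exact hup
  · exact dS_eq_bot_of_le _ (by omega) (ae_small_dS r hr1 _)

end Cfsg.Agent.Helper11.GLDer
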