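import Mathlib
import Cfsg.Prelude.Def_CaseTheorems

/-!
# Normal elementary abelian subgroups of quasi-dihedral groups have order at most 2
-/

set_option autoImplicit false

namespace Cfsg.Agent.Helper11.GLNr

theorem qd_normal_elem_card_le {Q : Type*} [Group Q] [Finite Q] (hQ : Cfsg.IsQuasiDihedral Q)
    (N : Subgroup Q) (hN : ∀ c : Q, ∀ a ∈ N, c * a * c⁻¹ ∈ N) (hexp : ∀ a ∈ N, a ^ 2 = 1) :
    Nat.card N ≤ 2 := by
  classical
  obtain ⟨n, hn, hcard, x, y, hx, hy, hyx⟩ := hQ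
  set C : Subgroup Q := Subgroup.zpowers x with hC
  have hpow : (2 : ℕ) ^ n = 2 ^ (n - 1) * 2 := by
    rw [← pow_succ]; congr 1; omega
  have h4 : 4 ≤ 2 ^ (n - 1) := by
    calc 4 = 2 ^ 2 := by norm_num
      _ ≤ 2 ^ (n - 1) := Nat.pow_le_pow_right (by norm_num) (by omega)
  have hCidx : C.index = 2 := by
    have h1 := Subgroup.card_mul_index C
    rw [hC, Nat.card_zpowers, hx, hcard, pow_succ] at h1
    exact Nat.eq_of_mul_eq_mul_left (by positivity) h1
  have hyC : y ∉ C := by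
    intro hyC
    obtain ⟨k, hk⟩ := Subgroup.mem_zpowers_iff.mp hyC
    have hcomm : y * x * y⁻¹ = x := by
      rw [← hk]
      have : Commute (x ^ k) x := (Commute.refl x).zpow_left k
      rw [this.eq, mul_inv_cancel_right]
    rw [hcomm] at hyx
    have h1 : x ^ 1 = x ^ (2 ^ (n - 1) - 1) := by rw [pow_one]; exact hyx
    rw [pow_eq_pow_iff_modEq, hx] at h1
    have h2 := Nat.ModEq.eq_of_lt_of_lt h1 (by omega) (by omega)
    omega
  have hNC : N ≤ C := by
    intro w hw
    by_contra hwC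
    have hc : w * y⁻¹ ∈ C := by
      rw [Subgroup.mul_mem_iff_of_index_two hCidx]
      constructor
      · intro h; exact absurd h hwC
      · intro h; exact absurd (C.inv_mem_iff.mp h) hyC
    obtain ⟨k, hk⟩ := Subgroup.mem_zpowers_iff.mp hc
    have hw' : w = x ^ k * y := by rw [hk]; group
    set M := 2 ^ (n - 1) - 1 with hM
    have hz : x * w * x⁻¹ * w⁻¹ ∈ N := N.mul_mem (hN x w hw) (N.inv_mem hw)
    have hzeq : x * w * x⁻¹ * w⁻¹ = x * (x ^ M)⁻¹ := by
      have hyxinv : y * x⁻¹ * y⁻¹ = (x ^ M)⁻¹ := by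
        rw [← hyx]; group
      have hcx : Commute (x ^ k) x := (Commute.refl x).zpow_left k
      have hcxM : Commute (x ^ k) (x * (x ^ M)⁻¹) :=
        hcx.mul_right ((Commute.refl x).zpow_left k |>.pow_right M).inv_right
      calc x * w * x⁻¹ * w⁻¹ = x * (x ^ k) * (y * x⁻¹ * y⁻¹) * (x ^ k)⁻¹ := by
            rw [hw']; group
        _ = x * (x ^ k) * (x ^ M)⁻¹ * (x ^ k)⁻¹ := by rw [hyxinv]
        _ = (x ^ k) * (x * (x ^ M)⁻¹) * (x ^ k)⁻¹ := by rw [← hcx.eq]; group
        _ = x * (x ^ M)⁻¹ := by rw [hcxM.eq, mul_inv_cancel_right]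
    have hsq := hexp _ hz
    rw [hzeq] at hsq
    have hcomm2 : Commute x (x ^ M)⁻¹ := ((Commute.refl x).pow_right M).inv_right
    rw [hcomm2.mul_pow, inv_pow, mul_inv_eq_one, ← pow_mul, pow_eq_pow_iff_modEq, hx] at hsq
    have h2 := Nat.ModEq.eq_of_lt_of_lt hsq (by omega) (by omega)
    omega
  -- counting
  haveI : Fintype C := Fintype.ofFinite _
  have hcount := IsCyclic.card_pow_eq_one_le (α := C) (n := 2) (by norm_num)
  let f : N → {a : C // a ^ 2 = 1} := fun a =>
    ⟨⟨a.1, hNC a.2⟩, by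
      apply Subtype.ext
      exact hexp a.1 a.2⟩
  have hf : Function.Injective f := by
    intro a b hab
    apply Subtype.ext
    have := congrArg (fun t : {a : C // a ^ 2 = 1} => (t.1 : Q)) hab
    exact this
  calc Nat.card N ≤ Nat.card {a : C // a ^ 2 = 1} := Nat.card_le_card_of_injective f hf
    _ = (Finset.univ.filter (fun a : C => a ^ 2 = 1)).card := by
        rw [Nat.card_eq_fintype_card, Fintype.card_subtype]
    _ ≤ 2 := hcount

end Cfsg.Agent.Helper11.GLNr
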