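import Mathlib
import Cfsg.Agent.Helper11.SpDerC

/-!
# Normal elementary abelian 2-subgroups of `(Q ≀ P) × Q'` (abstract part)
-/

set_option autoImplicit false

namespace Cfsg.Agent.Helper11.GLNr

open Cfsg.Agent.Helper11.SpNorm Cfsg.Agent.Helper11.SpDer

variable {A : Type*} [Group A] {Ω : Type*}

theorem conj_mem_supp_image (w : Wr A Ω) {Y : Set Ω} {x : Wr A Ω} (hx : x ∈ supp A Y) :
    w * x * w⁻¹ ∈ supp A (w.right '' Y) := by
  intro j hj
  have hj' : w.right.symm j ∉ Y := fun h => hj ⟨_, h, Equiv.apply_symm_apply _ _⟩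
  obtain ⟨h1, h2⟩ := hx _ hj'
  have h3 : x.right.symm (w.right.symm j) = w.right.symm j := supp_right_symm hx hj'
  refine ⟨?_, ?_⟩
  · rw [SemidirectProduct.mul_left, SemidirectProduct.mul_left, SemidirectProduct.mul_right,
      SemidirectProduct.inv_left, Pi.mul_apply, Pi.mul_apply, phi_apply', phi_apply', phi_apply', h1,
      mul_one]
    have e1 : (w.right * x.right).symm j = x.right.symm (w.right.symm j) := rfl
    have e2 : ∀ k, (w.right⁻¹).symm k = w.right k := fun k => rfl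
    rw [e1, h3, e2, Equiv.apply_symm_apply, Pi.inv_apply, mul_inv_cancel]
  · rw [SemidirectProduct.mul_right, SemidirectProduct.mul_right, SemidirectProduct.inv_right,
      Equiv.Perm.mul_apply, Equiv.Perm.mul_apply]
    have e3 : w.right⁻¹ j = w.right.symm j := rfl
    rw [e3, h2, Equiv.apply_symm_apply]

/-- the wreath product of two subgroups -/
def wrS (Q : Subgroup A) (P : Subgroup (Equiv.Perm Ω)) : Subgroup (Wr A Ω) where
  carrier := {x | (∀ i, x.left i ∈ Q) ∧ x.right ∈ P}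
  one_mem' := ⟨fun _ => Q.one_mem, P.one_mem⟩
  mul_mem' := by
    rintro x y ⟨hx1, hx2⟩ ⟨hy1, hy2⟩
    refine ⟨fun i => ?_, ?_⟩
    · rw [SemidirectProduct.mul_left, Pi.mul_apply, phi_apply']
      exact Q.mul_mem (hx1 i) (hy1 _)
    · rw [SemidirectProduct.mul_right]; exact P.mul_mem hx2 hy2
  inv_mem' := by
    rintro x ⟨hx1, hx2⟩
    refine ⟨fun i => ?_, ?_⟩
    · rw [SemidirectProduct.inv_left, phi_apply', Pi.inv_apply]
      exact Q.inv_mem (hx1 _)
    · rw [SemidirectProduct.inv_right]; exact P.inv_mem hx2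

theorem mem_wrS {Q : Subgroup A} {P : Subgroup (Equiv.Perm Ω)} {x : Wr A Ω} :
    x ∈ wrS Q P ↔ (∀ i, x.left i ∈ Q) ∧ x.right ∈ P := Iff.rfl

theorem card_wrS [Fintype Ω] (Q : Subgroup A) (P : Subgroup (Equiv.Perm Ω)) :
    Nat.card (wrS Q P) = Nat.card Q ^ Fintype.card Ω * Nat.card P := by
  let e : wrS Q P ≃ (Ω → Q) × P :=
    { toFun := fun x => (fun i => ⟨x.1.left i, x.2.1 i⟩, ⟨x.1.right, x.2.2⟩)
      invFun := fun y => ⟨⟨fun i => (y.1 i).1, y.2.1⟩, ⟨fun i => (y.1 i).2, y.2.2⟩⟩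
      left_inv := fun x => rfl
      right_inv := fun y => rfl }
  rw [Nat.card_congr e, Nat.card_prod, Nat.card_pi, Finset.prod_const, Finset.card_univ]

theorem embAt_mem_wrS [DecidableEq Ω] {Q : Subgroup A} (P : Subgroup (Equiv.Perm Ω)) (i : Ω) {c : A}
    (hc : c ∈ Q) : embAt A i c ∈ wrS Q P := by
  refine ⟨fun j => ?_, P.one_mem⟩
  show (Pi.mulSingle (M := fun _ : Ω => A) i c) j ∈ Q
  by_cases hj : j = i
  · subst hj
    rw [Pi.mulSingle_eq_same (M := fun _ : Ω => A)]; exact hc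
  · rw [Pi.mulSingle_eq_of_ne (M := fun _ : Ω => A) hj]; exact Q.one_mem

/-- **Upper bound.** -/
theorem card_le_of_normal_elem {A' : Type*} [Group A'] [Finite A] [Finite A'] [Fintype Ω]
    [DecidableEq Ω] (Q : Subgroup A) (P : Subgroup (Equiv.Perm Ω)) (Q' : Subgroup A') (r : ℕ)
    (h4 : ∃ c ∈ Q, c * c ≠ 1)
    (hQ : ∀ N : Subgroup A, N ≤ Q → (∀ c ∈ Q, ∀ a ∈ N, c * a * c⁻¹ ∈ N) →
      (∀ a ∈ N, a ^ 2 = 1) → Nat.card N ≤ 2)
    (hQ' : Nat.card Q' ≤ 2 ^ r)
    (E : Subgroup (Wr A Ω × A')) (hET : E ≤ (wrS Q P).prod Q')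
    (hnorm : ∀ t ∈ (wrS Q P).prod Q', ∀ a ∈ E, t * a * t⁻¹ ∈ E) (hexp : ∀ a ∈ E, a ^ 2 = 1) :
    Nat.card E ≤ 2 ^ (Fintype.card Ω + r) := by
  classical
  obtain ⟨c, hcQ, hcc⟩ := h4
  -- Step 1: the permutation parts are trivial
  have step1 : ∀ x ∈ E, x.1.right = 1 := by
    intro x hx
    by_contra hne
    obtain ⟨i, hi⟩ : ∃ i, x.1.right i ≠ i := by
      by_contra hall
      push Not at hall
      exact hne (Equiv.ext hall)
    set u : Wr A Ω := embAt A i c with hu
    have hut : ((u, 1) : Wr A Ω × A') ∈ (wrS Q P).prod Q' :=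
      Subgroup.mem_prod.mpr ⟨embAt_mem_wrS P i hcQ, Q'.one_mem⟩
    have hy : ((u, 1) : Wr A Ω × A') * x * ((u, 1) : Wr A Ω × A')⁻¹ * x⁻¹ ∈ E :=
      E.mul_mem (hnorm _ hut x hx) (E.inv_mem hx)
    set v : Wr A Ω := x.1 * u⁻¹ * x.1⁻¹ with hv
    have hy1 : (((u, 1) : Wr A Ω × A') * x * ((u, 1) : Wr A Ω × A')⁻¹ * x⁻¹).1 = u * v := by
      show u * x.1 * u⁻¹ * x.1⁻¹ = u * (x.1 * u⁻¹ * x.1⁻¹)
      group
    have husupp : u ∈ supp A ({i} : Set Ω) := embAt_mem_supp i c
    have hvsupp : v ∈ supp A ({x.1.right i} : Set Ω) := by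
      have := conj_mem_supp_image x.1 ((supp A ({i} : Set Ω)).inv_mem husupp)
      rwa [Set.image_singleton] at this
    have hiv : i ∉ ({x.1.right i} : Set Ω) := fun h => hi (Set.mem_singleton_iff.mp h).symm
    have hur : u.right = 1 := rfl
    have hul : u.left i = c := by
      show (Pi.mulSingle (M := fun _ : Ω => A) i c) i = c
      exact Pi.mulSingle_eq_same (M := fun _ : Ω => A) i c
    have huvl : (u * v).left i = c := by
      rw [SemidirectProduct.mul_left, Pi.mul_apply, phi_apply', hur]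
      show u.left i * v.left i = c
      rw [(hvsupp i hiv).1, mul_one, hul]
    have huvr : (u * v).right.symm i = i := by
      rw [SemidirectProduct.mul_right, hur, one_mul]
      exact supp_right_symm hvsupp hiv
    have hsq := hexp _ hy
    have hsq1 : (u * v) ^ 2 = 1 := by
      have := congrArg Prod.fst hsq
      rw [Prod.pow_fst, hy1] at this
      exact this
    have hsq2 : ((u * v) * (u * v)).left i = 1 := by
      rw [← pow_two, hsq1]; rfl
    rw [SemidirectProduct.mul_left, Pi.mul_apply, phi_apply', huvr, huvl] at hsq2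
    exact hcc hsq2
  -- the coordinate subgroups
  have hinl : ∀ x ∈ E, x.1 = SemidirectProduct.inl x.1.left := by
    intro x hx
    ext1
    · rfl
    · rw [step1 x hx]; rfl
  let N : Ω → Subgroup A := fun i =>
    ((E.map (MonoidHom.fst (Wr A Ω) A')).comap
      (SemidirectProduct.inl : (Ω → A) →* Wr A Ω)).map (Pi.evalMonoidHom (fun _ : Ω => A) i)
  have hmemN : ∀ i, ∀ x ∈ E, x.1.left i ∈ N i := by
    intro i x hx
    refine ⟨x.1.left, ?_, rfl⟩
    show SemidirectProduct.inl x.1.left ∈ E.map (MonoidHom.fst (Wr A Ω) A')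
    rw [← hinl x hx]
    exact ⟨x, hx, rfl⟩
  have hNcard : ∀ i, Nat.card (N i) ≤ 2 := by
    intro i
    apply hQ
    · rintro _ ⟨f, ⟨x, hx, hxf⟩, rfl⟩
      have h1 : x.1.left = f := by
        have := congrArg SemidirectProduct.left hxf
        exact this
      have := (Subgroup.mem_prod.mp (hET hx)).1.1 i
      rw [h1] at this
      exact this
    · rintro d hd _ ⟨f, ⟨x, hx, hxf⟩, rfl⟩
      have hdt : ((embAt A i d, 1) : Wr A Ω × A') ∈ (wrS Q P).prod Q' :=
        Subgroup.mem_prod.mpr ⟨embAt_mem_wrS P i hd, Q'.one_mem⟩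
      have h1 := hnorm _ hdt x hx
      have h2 := hmemN i _ h1
      have h3 : (((embAt A i d, 1) : Wr A Ω × A') * x * ((embAt A i d, 1) : Wr A Ω × A')⁻¹).1 =
          SemidirectProduct.inl (Pi.mulSingle (M := fun _ : Ω => A) i d * f *
            (Pi.mulSingle (M := fun _ : Ω => A) i d)⁻¹) := by
        show embAt A i d * x.1 * (embAt A i d)⁻¹ = _
        have hx1 : x.1 = SemidirectProduct.inl f := hxf
        rw [hx1, map_mul, map_mul, map_inv]
        rfl
      rw [h3] at h2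
      have h4 : (SemidirectProduct.inl (Pi.mulSingle (M := fun _ : Ω => A) i d * f *
            (Pi.mulSingle (M := fun _ : Ω => A) i d)⁻¹) : Wr A Ω).left i = d * f i * d⁻¹ := by
        show (Pi.mulSingle (M := fun _ : Ω => A) i d * f *
            (Pi.mulSingle (M := fun _ : Ω => A) i d)⁻¹) i = d * f i * d⁻¹
        rw [Pi.mul_apply, Pi.mul_apply, Pi.inv_apply, Pi.mulSingle_eq_same (M := fun _ : Ω => A)]
      rw [h4] at h2
      exact h2
    · rintro _ ⟨f, ⟨x, hx, hxf⟩, rfl⟩
      have h1 := hexp x hx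
      have h2 : (SemidirectProduct.inl f : Wr A Ω) ^ 2 = 1 := by
        have := congrArg Prod.fst h1
        rw [Prod.pow_fst] at this
        have hx1 : x.1 = SemidirectProduct.inl f := hxf
        rw [hx1] at this
        exact this
      rw [← map_pow] at h2
      have h3 : f ^ 2 = 1 := SemidirectProduct.inl_injective (h2.trans (map_one _).symm)
      have := congrFun h3 i
      exact this
  set N' : Subgroup A' := E.map (MonoidHom.snd (Wr A Ω) A') with hN'
  have hN'le : N' ≤ Q' := by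
    rintro _ ⟨x, hx, rfl⟩
    exact (Subgroup.mem_prod.mp (hET hx)).2
  have hN'card : Nat.card N' ≤ 2 ^ r := (Subgroup.card_le_of_le hN'le).trans hQ'
  -- the injection
  let g : E → ((i : Ω) → N i) × N' := fun x =>
    (fun i => ⟨x.1.1.left i, hmemN i x.1 x.2⟩, ⟨x.1.2, ⟨x.1, x.2, rfl⟩⟩)
  have hg : Function.Injective g := by
    intro x y hxy
    apply Subtype.ext
    have h1 : x.1.1.left = y.1.1.left := by
      funext i
      have := congrArg (fun t : ((i : Ω) → N i) × N' => ((t.1 i : N i) : A)) hxy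
      exact this
    have h2 : x.1.2 = y.1.2 := by
      have := congrArg (fun t : ((i : Ω) → N i) × N' => ((t.2 : N') : A')) hxy
      exact this
    apply Prod.ext
    · rw [hinl x.1 x.2, hinl y.1 y.2, h1]
    · exact h2
  calc Nat.card E ≤ Nat.card (((i : Ω) → N i) × N') := Nat.card_le_card_of_injective g hg
    _ = (∏ i, Nat.card (N i)) * Nat.card N' := by rw [Nat.card_prod, Nat.card_pi]
    _ ≤ 2 ^ Fintype.card Ω * 2 ^ r := by
        apply Nat.mul_le_mul _ hN'card
        have := Finset.prod_le_pow_card Finset.univ (fun i => Nat.card (N i)) 2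
          (fun i _ => hNcard i)
        rwa [Finset.card_univ] at this
    _ = 2 ^ (Fintype.card Ω + r) := (pow_add 2 _ _).symm

end Cfsg.Agent.Helper11.GLNr
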