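import Mathlib
import Cfsg.Prelude.Def_Transfer
import Cfsg.Agent.Helper11.GLNrB

/-!
# Normal elementary abelian 2-subgroups of `(Q ≀ P) × Q'`: existence, transfer along isomorphisms
-/

set_option autoImplicit false

namespace Cfsg.Agent.Helper11.GLNr

open Cfsg.Agent.Helper11.SpNorm Cfsg.Agent.Helper11.SpDer

/-- existence of a normal elementary abelian 2-subgroup of order at least `2 ^ k` -/
def NRex (X : Type*) [Group X] (k : ℕ) : Prop :=
  ∃ E : Subgroup X, E.Normal ∧ Cfsg.IsElementaryAbelian 2 E ∧ 2 ^ k ≤ Nat.card E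

/-- all normal elementary abelian 2-subgroups have order at most `2 ^ k` -/
def NRle (X : Type*) [Group X] (k : ℕ) : Prop :=
  ∀ E : Subgroup X, E.Normal → Cfsg.IsElementaryAbelian 2 E → Nat.card E ≤ 2 ^ k

theorem map_equiv_props {X Y : Type*} [Group X] [Group Y] (e : X ≃* Y) (E : Subgroup X)
    (hn : E.Normal) (he : Cfsg.IsElementaryAbelian 2 E) :
    (E.map e.toMonoidHom).Normal ∧ Cfsg.IsElementaryAbelian 2 (E.map e.toMonoidHom) ∧
      Nat.card (E.map e.toMonoidHom) = Nat.card E := by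
  obtain ⟨hc, hexp⟩ := he
  refine ⟨Subgroup.Normal.map hn _ e.surjective, ⟨⟨⟨fun a b => ?_⟩⟩, ?_⟩,
    Subgroup.card_map_of_injective e.injective⟩
  · obtain ⟨_, x, hx, rfl⟩ := a
    obtain ⟨_, y, hy, rfl⟩ := b
    apply Subtype.ext
    show e.toMonoidHom x * e.toMonoidHom y = e.toMonoidHom y * e.toMonoidHom x
    rw [← map_mul, ← map_mul]
    have := hc.is_comm.comm (⟨x, hx⟩ : E) ⟨y, hy⟩
    exact congrArg (fun t : E => e.toMonoidHom t.1) this
  · rintro _ ⟨x, hx, rfl⟩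
    rw [← map_pow, hexp x hx, map_one]

theorem NRex_of_equiv {X Y : Type*} [Group X] [Group Y] (e : X ≃* Y) {k : ℕ} (h : NRex X k) :
    NRex Y k := by
  obtain ⟨E, hn, he, hcard⟩ := h
  obtain ⟨h1, h2, h3⟩ := map_equiv_props e E hn he
  exact ⟨_, h1, h2, by rw [h3]; exact hcard⟩

theorem NRle_of_equiv {X Y : Type*} [Group X] [Group Y] (e : X ≃* Y) {k : ℕ} (h : NRle X k) :
    NRle Y k := by
  intro E hn he
  obtain ⟨h1, h2, h3⟩ := map_equiv_props e.symm E hn he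
  rw [← h3]
  exact h _ h1 h2

variable {A : Type*} [Group A] {Ω : Type*}

theorem wrS_mono {Q1 Q2 : Subgroup A} {P1 P2 : Subgroup (Equiv.Perm Ω)} (hQ : Q1 ≤ Q2)
    (hP : P1 ≤ P2) : wrS Q1 P1 ≤ wrS Q2 P2 :=
  fun _ hx => ⟨fun i => hQ (hx.1 i), hP hx.2⟩

/-- **Existence.** -/
theorem NRex_T {A' : Type*} [Group A'] [Finite A] [Finite A'] [Fintype Ω] [DecidableEq Ω]
    (Q : Subgroup A) (P : Subgroup (Equiv.Perm Ω)) (Q' : Subgroup A') (r : ℕ)
    (z : A) (hzQ : z ∈ Q) (hz1 : z ≠ 1) (hz2 : z * z = 1) (hzc : ∀ a : A, a * z = z * a)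
    (hA' : ∀ a b : A', a * b = b * a) (hQ'exp : ∀ a ∈ Q', a ^ 2 = 1)
    (hQ'card : 2 ^ r ≤ Nat.card Q') :
    NRex ↥((wrS Q P).prod Q') (Fintype.card Ω + r) := by
  classical
  set Z : Subgroup A := Subgroup.zpowers z with hZ
  have hZc : ∀ a ∈ Z, ∀ b : A, a * b = b * a := by
    intro a ha b
    obtain ⟨k, rfl⟩ := Subgroup.mem_zpowers_iff.mp ha
    have : Commute b z := hzc b
    exact (this.zpow_right k).eq.symm
  have hZsq : ∀ a ∈ Z, a * a = 1 := by
    intro a ha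
    obtain ⟨k, rfl⟩ := Subgroup.mem_zpowers_iff.mp ha
    have hc : Commute z z := Commute.refl z
    rw [← hc.mul_zpow, hz2, one_zpow]
  have hZcard : Nat.card Z = 2 := by
    rw [hZ, Nat.card_zpowers]
    exact orderOf_eq_prime (by rw [pow_two]; exact hz2) hz1
  set E0 : Subgroup (Wr A Ω × A') := (wrS Z (⊥ : Subgroup (Equiv.Perm Ω))).prod Q' with hE0
  set T : Subgroup (Wr A Ω × A') := (wrS Q P).prod Q' with hT
  have hE0T : E0 ≤ T :=
    Subgroup.prod_mono (wrS_mono (by rw [hZ, Subgroup.zpowers_le]; exact hzQ) bot_le) le_rfl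
  have hmemE0 : ∀ x : Wr A Ω × A', x ∈ E0 ↔ ((∀ i, x.1.left i ∈ Z) ∧ x.1.right = 1) ∧ x.2 ∈ Q' := by
    intro x
    rw [hE0, Subgroup.mem_prod, mem_wrS, Subgroup.mem_bot]
  have hE0n : E0.Normal := by
    constructor
    intro x hx w
    rw [hmemE0] at hx ⊢
    obtain ⟨⟨hx1, hx2⟩, hx3⟩ := hx
    refine ⟨⟨fun i => ?_, ?_⟩, ?_⟩
    · show (w.1 * x.1 * w.1⁻¹).left i ∈ Z
      rw [SemidirectProduct.mul_left, SemidirectProduct.mul_left, SemidirectProduct.mul_right,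
        SemidirectProduct.inv_left, Pi.mul_apply, Pi.mul_apply, phi_apply', phi_apply', phi_apply',
        hx2, mul_one]
      have e2 : ∀ k, (w.1.right⁻¹).symm k = w.1.right k := fun k => rfl
      rw [e2, Equiv.apply_symm_apply, Pi.inv_apply,
        ← hZc _ (hx1 (w.1.right.symm i)) (w.1.left i), mul_inv_cancel_right]
      exact hx1 _
    · show (w.1 * x.1 * w.1⁻¹).right = 1
      rw [SemidirectProduct.mul_right, SemidirectProduct.mul_right, SemidirectProduct.inv_right,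
        hx2, mul_one, mul_inv_cancel]
    · show w.2 * x.2 * w.2⁻¹ ∈ Q'
      rw [hA' w.2 x.2, mul_inv_cancel_right]
      exact hx3
  have hE0comm : ∀ x ∈ E0, ∀ y ∈ E0, x * y = y * x := by
    intro x hx y hy
    rw [hmemE0] at hx hy
    obtain ⟨⟨hx1, hx2⟩, hx3⟩ := hx
    obtain ⟨⟨hy1, hy2⟩, hy3⟩ := hy
    apply Prod.ext
    · show x.1 * y.1 = y.1 * x.1
      ext1
      · funext i
        rw [SemidirectProduct.mul_left, SemidirectProduct.mul_left, Pi.mul_apply, Pi.mul_apply,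
          phi_apply', phi_apply', hx2, hy2]
        exact hZc _ (hx1 i) _
      · rw [SemidirectProduct.mul_right, SemidirectProduct.mul_right, hx2, hy2]
    · exact hA' _ _
  have hE0exp : ∀ x ∈ E0, x ^ 2 = 1 := by
    intro x hx
    have hx' := hx
    rw [hmemE0] at hx'
    obtain ⟨⟨hx1, hx2⟩, hx3⟩ := hx'
    apply Prod.ext
    · show (x ^ 2).1 = 1
      rw [Prod.pow_fst, pow_two]
      ext1
      · funext i
        rw [SemidirectProduct.mul_left, Pi.mul_apply, phi_apply', hx2]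
        exact hZsq _ (hx1 i)
      · rw [SemidirectProduct.mul_right, hx2, mul_one]; rfl
    · show (x ^ 2).2 = 1
      rw [Prod.pow_snd]
      exact hQ'exp _ hx3
  have hE0card : Nat.card E0 = 2 ^ Fintype.card Ω * Nat.card Q' := by
    rw [hE0, Nat.card_congr (Subgroup.prodEquiv _ _).toEquiv, Nat.card_prod, card_wrS, hZcard,
      Subgroup.card_bot, mul_one]
  refine ⟨E0.subgroupOf T, hE0n.subgroupOf T, ⟨⟨⟨fun a b => ?_⟩⟩, ?_⟩, ?_⟩
  · apply Subtype.ext
    apply Subtype.ext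
    exact hE0comm _ a.2 _ b.2
  · intro a ha
    apply Subtype.ext
    exact hE0exp _ ha
  · rw [Nat.card_congr (Subgroup.subgroupOfEquivOfLe hE0T).toEquiv, hE0card, pow_add]
    exact Nat.mul_le_mul_left _ hQ'card

/-- **Upper bound.** -/
theorem NRle_T {A' : Type*} [Group A'] [Finite A] [Finite A'] [Fintype Ω]
    [DecidableEq Ω] (Q : Subgroup A) (P : Subgroup (Equiv.Perm Ω)) (Q' : Subgroup A') (r : ℕ)
    (h4 : ∃ c ∈ Q, c * c ≠ 1)
    (hQ : ∀ N : Subgroup A, N ≤ Q → (∀ c ∈ Q, ∀ a ∈ N, c * a * c⁻¹ ∈ N) →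
      (∀ a ∈ N, a ^ 2 = 1) → Nat.card N ≤ 2)
    (hQ' : Nat.card Q' ≤ 2 ^ r) :
    NRle ↥((wrS Q P).prod Q') (Fintype.card Ω + r) := by
  intro E hn he
  have hcard : Nat.card (E.map ((wrS Q P).prod Q').subtype) = Nat.card E :=
    Subgroup.card_map_of_injective ((wrS Q P).prod Q').subtype_injective
  refine hcard.symm.le.trans ?_
  apply card_le_of_normal_elem Q P Q' r h4 hQ hQ'
  · rintro _ ⟨x, _, rfl⟩
    exact x.2
  · rintro t ht _ ⟨x, hx, rfl⟩
    refine ⟨(⟨t, ht⟩ : ↥((wrS Q P).prod Q')) * x * (⟨t, ht⟩ : ↥((wrS Q P).prod Q'))⁻¹,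
      hn.conj_mem x hx _, rfl⟩
  · rintro _ ⟨x, hx, rfl⟩
    rw [← map_pow, he.2 x hx, map_one]

end Cfsg.Agent.Helper11.GLNr
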