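import Mathlib
import Cfsg.Agent.Helper11.GLNrA
import Cfsg.Agent.Helper11.GLNrC
import Cfsg.Agent.Helper11.GLDerG
import Cfsg.Agent.Helper11.JointEigen

/-!
# The normal 2-rank of a Sylow 2-subgroup of `GL_n(q)`, `q` odd
-/

set_option autoImplicit false
set_option linter.unusedSectionVars false

namespace Cfsg.Agent.Helper11.GLNr

open Matrix Cfsg.Agent.Helper11.SpNorm Cfsg.Agent.Helper11.SpDer Cfsg.Agent.Helper11.GLDer

theorem isQuasiDihedral_of_equiv {X Y : Type*} [Group X] [Group Y] (e : X ≃* Y)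
    (h : Cfsg.IsQuasiDihedral X) : Cfsg.IsQuasiDihedral Y := by
  obtain ⟨n, hn, hcard, x, y, hx, hy, hyx⟩ := h
  refine ⟨n, hn, by rw [← Nat.card_congr e.toEquiv]; exact hcard, e x, e y,
    by rw [MulEquiv.orderOf_eq]; exact hx, by rw [MulEquiv.orderOf_eq]; exact hy, ?_⟩
  rw [← map_inv, ← map_mul, ← map_mul, hyx, map_pow]

theorem padic_two_of_mod_four (k : ℕ) (h : k % 4 = 2) : padicValNat 2 k = 1 := by
  haveI : Fact (Nat.Prime 2) := ⟨Nat.prime_two⟩
  obtain ⟨j, rfl⟩ : ∃ j, k = 2 * j := ⟨k / 2, by omega⟩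
  have hj : ¬ 2 ∣ j := by omega
  have hj0 : j ≠ 0 := by rintro rfl; omega
  rw [padicValNat.mul (by norm_num) hj0, padicValNat.self (by norm_num),
    padicValNat.eq_zero_of_not_dvd hj]

theorem isPGroup_zpowers_of_sq {A : Type*} [Group A] (z : A) (hz2 : z * z = 1) :
    IsPGroup 2 (Subgroup.zpowers z) := by
  rintro ⟨a, ha⟩
  obtain ⟨k, rfl⟩ := Subgroup.mem_zpowers_iff.mp ha
  refine ⟨1, ?_⟩
  apply Subtype.ext
  show (z ^ k) ^ 2 ^ 1 = 1
  rw [pow_one, pow_two, ← (Commute.refl z).mul_zpow, hz2, _root_.one_zpow]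

variable {F : Type*} [Field F]

/-- minus the identity -/
def negOne (e : ℕ) : Ae F e := LinearEquiv.neg F

theorem negOne_apply (e : ℕ) (v : Fin e → F) : negOne (F := F) e v = -v := rfl

theorem negOne_mul_self (e : ℕ) : negOne (F := F) e * negOne e = 1 := by
  apply LinearEquiv.ext
  intro v
  show negOne e (negOne e v) = v
  rw [negOne_apply, negOne_apply, neg_neg]

theorem negOne_central (e : ℕ) (a : Ae F e) : a * negOne e = negOne e * a := by
  apply LinearEquiv.ext
  intro v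
  show a (negOne e v) = negOne e (a v)
  rw [negOne_apply, negOne_apply, map_neg]

theorem negOne_ne_one (h2 : (2 : F) ≠ 0) (e : ℕ) (he : 0 < e) : negOne (F := F) e ≠ 1 := by
  intro h
  have h1 := congrArg (fun a : Ae F e => a (fun _ => (1 : F)) ⟨0, he⟩) h
  have h3 : (-1 : F) = 1 := h1
  apply h2
  have : (2 : F) = 1 - (-1) := by ring
  rw [this, h3, sub_self]

variable [Fintype F]

theorem exists_sylow_iso (e m n : ℕ) (he : 0 < e) (h : m * e ≤ n)
    (Q : Subgroup (Ae F e)) (P : Subgroup (Equiv.Perm (Fin m)))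
    (Q' : Subgroup (Ae F (n - m * e)))
    (hcard : Nat.card Q ^ m * Nat.card P * Nat.card Q' =
      2 ^ padicValNat 2 (Nat.card (GL (Fin n) F)))
    (S : Sylow 2 (GL (Fin n) F)) :
    Nonempty (↥((wrS Q P).prod Q') ≃* ↥(S : Subgroup (GL (Fin n) F))) := by
  classical
  haveI : Fact (Nat.Prime 2) := ⟨Nat.prime_two⟩
  have hΘinj : Function.Injective (Theta2 F e m n h) := Theta2_injective F e m n he h
  have hTcard : Nat.card ↥((wrS Q P).prod Q') = 2 ^ padicValNat 2 (Nat.card (GL (Fin n) F)) := by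
    rw [Nat.card_congr (Subgroup.prodEquiv _ _).toEquiv, Nat.card_prod, card_wrS,
      Fintype.card_fin, hcard]
  let S0 : Sylow 2 (GL (Fin n) F) := Sylow.ofCard (((wrS Q P).prod Q').map (Theta2 F e m n h)) (by
    rw [Subgroup.card_map_of_injective hΘinj, hTcard, Nat.factorization_def _ Nat.prime_two])
  exact ⟨(((wrS Q P).prod Q').equivMapOfInjective (Theta2 F e m n h) hΘinj).trans
    (Sylow.equiv S0 S)⟩

theorem ae_small_comm (r : ℕ) (hr : r ≤ 1) (a b : Ae F r) : a * b = b * a := by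
  have := gl_small_comm r hr ((glEquiv F r).symm a) ((glEquiv F r).symm b)
  rw [← map_mul, ← map_mul] at this
  exact (glEquiv F r).symm.injective this

theorem card_sylow_perm (m : ℕ) (P : Sylow 2 (Equiv.Perm (Fin m))) :
    Nat.card P = 2 ^ padicValNat 2 m.factorial := by
  haveI : Fact (Nat.Prime 2) := ⟨Nat.prime_two⟩
  rw [P.card_eq_multiplicity, Nat.factorization_def _ Nat.prime_two,
    Nat.card_eq_fintype_card, Fintype.card_perm, Fintype.card_fin]

theorem card_sylow_ae (e : ℕ) [Finite (Ae F e)] (Q : Sylow 2 (Ae F e)) :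
    Nat.card Q = 2 ^ padicValNat 2 (Nat.card (GL (Fin e) F)) := by
  haveI : Fact (Nat.Prime 2) := ⟨Nat.prime_two⟩
  rw [Q.card_eq_multiplicity, Nat.factorization_def _ Nat.prime_two,
    ← Nat.card_congr (glEquiv F e).toEquiv]

/-- the case `q ≡ 3 (mod 4)` -/
theorem case3 (hodd : Odd (Fintype.card F)) (h3 : Fintype.card F % 4 = 3) (n : ℕ)
    (S : Sylow 2 (GL (Fin n) F)) :
    NRex ↥(S : Subgroup (GL (Fin n) F)) ((n + 1) / 2) ∧
      NRle ↥(S : Subgroup (GL (Fin n) F)) ((n + 1) / 2) := by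
  classical
  haveI : Fact (Nat.Prime 2) := ⟨Nat.prime_two⟩
  have h2 : (2 : F) ≠ 0 := Cfsg.Agent.Helper11.JointEigen.two_ne_zero_of_odd_card hodd
  set q := Fintype.card F with hq
  set m := n / 2 with hm
  have hme : m * 2 ≤ n := Nat.div_mul_le_self n 2
  set r := n - m * 2 with hr
  have hr1 : r ≤ 1 := by omega
  have hrmod : r = n % 2 := by omega
  have hq1 : padicValNat 2 (q - 1) = 1 := padic_two_of_mod_four _ (by omega)
  set c := padicValNat 2 (q - 1) + padicValNat 2 (q ^ 2 - 1) with hc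
  have hGL2 : padicValNat 2 (Nat.card (GL (Fin 2) F)) = c := by
    rw [padic_two_card_GL hodd 2]
    simp [hc, hq]
  have hGLr : padicValNat 2 (Nat.card (GL (Fin r) F)) = r := by
    rw [padic_two_card_GL hodd r, ← hq, hq1]
    interval_cases r <;> simp
  have hGLn0 : padicValNat 2 (Nat.card (GL (Fin n) F)) =
      m * c + padicValNat 2 m.factorial + r * padicValNat 2 (q - 1) := by
    rw [padic_two_card_GL hodd n, hrmod]
  have hGLn : padicValNat 2 (Nat.card (GL (Fin n) F)) =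
      m * c + padicValNat 2 m.factorial + r := by
    rw [hGLn0, hq1, mul_one]
  haveI : Finite (Ae F 2) := Finite.of_equiv _ (glEquiv F 2).toEquiv
  haveI : Finite (Ae F r) := Finite.of_equiv _ (glEquiv F r).toEquiv
  -- the Sylow subgroups
  obtain ⟨Q0, hQ0⟩ := (isPGroup_zpowers_of_sq (negOne (F := F) 2) (negOne_mul_self 2)).exists_le_sylow
  have hzQ : negOne (F := F) 2 ∈ (Q0 : Subgroup (Ae F 2)) := hQ0 (Subgroup.mem_zpowers _)
  have hQ0card : Nat.card (Q0 : Subgroup (Ae F 2)) = 2 ^ c := by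
    rw [card_sylow_ae 2 Q0, hGL2]
  obtain ⟨P⟩ := (inferInstance : Nonempty (Sylow 2 (Equiv.Perm (Fin m))))
  obtain ⟨Q'⟩ := (inferInstance : Nonempty (Sylow 2 (Ae F r)))
  have hQ'card : Nat.card (Q' : Subgroup (Ae F r)) = 2 ^ r := by
    rw [card_sylow_ae r Q', hGLr]
  have hcard : Nat.card (Q0 : Subgroup (Ae F 2)) ^ m * Nat.card (P : Subgroup (Equiv.Perm (Fin m))) *
      Nat.card (Q' : Subgroup (Ae F r)) = 2 ^ padicValNat 2 (Nat.card (GL (Fin n) F)) := by
    rw [hQ0card, card_sylow_perm m P, hQ'card, hGLn, ← pow_mul, ← pow_add, ← pow_add, mul_comm c m]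
  obtain ⟨iso⟩ := exists_sylow_iso 2 m n (by norm_num) hme (Q0 : Subgroup (Ae F 2))
    (P : Subgroup (Equiv.Perm (Fin m))) (Q' : Subgroup (Ae F r)) hcard S
  have hk : Fintype.card (Fin m) + r = (n + 1) / 2 := by
    rw [Fintype.card_fin]; omega
  -- quasi-dihedral
  have hinj : Function.Injective (glEquiv F 2).symm.toMonoidHom := (glEquiv F 2).symm.injective
  let P0 : Sylow 2 (GL (Fin 2) F) :=
    Sylow.ofCard ((Q0 : Subgroup (Ae F 2)).map (glEquiv F 2).symm.toMonoidHom) (by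
      rw [Subgroup.card_map_of_injective hinj, hQ0card, Nat.factorization_def _ Nat.prime_two,
        hGL2])
  have hqd0 : Cfsg.IsQuasiDihedral ↥(P0 : Subgroup (GL (Fin 2) F)) :=
    Cfsg.Agent.Helper18.GL2Sylow.qd_case P0 h3
  have hqd : Cfsg.IsQuasiDihedral ↥(Q0 : Subgroup (Ae F 2)) :=
    isQuasiDihedral_of_equiv
      ((Q0 : Subgroup (Ae F 2)).equivMapOfInjective (glEquiv F 2).symm.toMonoidHom hinj).symm hqd0
  have hQ'exp : ∀ a ∈ (Q' : Subgroup (Ae F r)), a ^ 2 = 1 := by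
    intro a ha
    have h1 : orderOf (⟨a, ha⟩ : (Q' : Subgroup (Ae F r))) ∣ 2 ^ r := by
      rw [← hQ'card]; exact orderOf_dvd_natCard _
    have h2 : (2 : ℕ) ^ r ∣ 2 := by
      rcases Nat.le_one_iff_eq_zero_or_eq_one.mp hr1 with h | h <;> rw [h] <;> norm_num
    have h3 := orderOf_dvd_iff_pow_eq_one.mp (h1.trans h2)
    exact congrArg Subtype.val h3
  refine ⟨?_, ?_⟩
  · rw [← hk]
    apply NRex_of_equiv iso
    exact NRex_T _ _ _ r (negOne 2) hzQ (negOne_ne_one h2 2 (by norm_num)) (negOne_mul_self 2)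
      (negOne_central 2) (ae_small_comm r hr1) hQ'exp hQ'card.ge
  · rw [← hk]
    apply NRle_of_equiv iso
    apply NRle_T _ _ _ r _ _ hQ'card.le
    · obtain ⟨k, hk3, -, x, -, hx, -, -⟩ := hqd
      refine ⟨x.1, x.2, fun hxx => ?_⟩
      have h1 : x ^ 2 = 1 := by
        apply Subtype.ext
        rw [pow_two]
        exact hxx
      have h2 := orderOf_dvd_of_pow_eq_one h1
      rw [hx] at h2
      have h3 : (2 : ℕ) ^ k ≤ 2 := Nat.le_of_dvd (by norm_num) h2
      have h4 : (2 : ℕ) ^ 3 ≤ 2 ^ k := Nat.pow_le_pow_right (by norm_num) hk3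
      omega
    · intro N hNQ hNn hNexp
      rw [← Nat.card_congr (Subgroup.subgroupOfEquivOfLe hNQ).toEquiv]
      apply qd_normal_elem_card_le hqd
      · intro c a ha
        exact hNn c.1 c.2 a.1 ha
      · intro a ha
        apply Subtype.ext
        exact hNexp a.1 ha

end Cfsg.Agent.Helper11.GLNr
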