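import Mathlib
import Cfsg.Agent.Helper11.GLNrD

/-!
# The normal 2-rank of a Sylow 2-subgroup of `GL_n(q)`, `q ≡ 1 (mod 4)`
-/

set_option autoImplicit false
set_option linter.unusedSectionVars false
set_option linter.style.haveILetI false

namespace Cfsg.Agent.Helper11.GLNr

open Matrix Cfsg.Agent.Helper11.SpNorm Cfsg.Agent.Helper11.SpDer Cfsg.Agent.Helper11.GLDer

theorem padic_two_factorial (n : ℕ) :
    padicValNat 2 n.factorial = n / 2 + padicValNat 2 (n / 2).factorial := by
  haveI : Fact (Nat.Prime 2) := ⟨Nat.prime_two⟩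
  have h1 : n = 2 * (n / 2) + n % 2 := by omega
  have h2 : n % 2 < 2 := Nat.mod_lt _ (by norm_num)
  conv_lhs => rw [h1]
  rw [padicValNat_factorial_mul_add (n / 2) h2, padicValNat_factorial_mul, add_comm]

variable {F : Type*} [Field F] [Fintype F]

/-- the case `q ≡ 1 (mod 4)` -/
theorem case1 (hodd : Odd (Fintype.card F)) (h1 : Fintype.card F % 4 = 1) (n : ℕ)
    (S : Sylow 2 (GL (Fin n) F)) :
    NRex ↥(S : Subgroup (GL (Fin n) F)) n ∧ NRle ↥(S : Subgroup (GL (Fin n) F)) n := by
  classical
  haveI : Fact (Nat.Prime 2) := ⟨Nat.prime_two⟩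
  have h2 : (2 : F) ≠ 0 := Cfsg.Agent.Helper11.JointEigen.two_ne_zero_of_odd_card hodd
  refine ⟨?_, ?_⟩
  · set q := Fintype.card F with hq
    have hq5 : 5 ≤ q := by
      have : 1 < q := Fintype.one_lt_card
      omega
    have hme : n * 1 ≤ n := by omega
    set r := n - n * 1 with hr
    have hr0 : r = 0 := by omega
    set a := padicValNat 2 (q - 1) with ha
    have hq2 : padicValNat 2 (q ^ 2 - 1) = a + 1 := by
      have e1 : q ^ 2 - 1 = (q + 1) * (q - 1) := by
        have := Nat.sq_sub_sq q 1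
        rwa [one_pow] at this
      rw [e1, padicValNat.mul (by omega) (by omega), padic_two_of_mod_four (q + 1) (by omega),
        add_comm]
    have hGL1 : padicValNat 2 (Nat.card (GL (Fin 1) F)) = a := by
      rw [padic_two_card_GL hodd 1]
      simp [ha, hq]
    have hGLn : padicValNat 2 (Nat.card (GL (Fin n) F)) = n * a + padicValNat 2 n.factorial := by
      rw [padic_two_card_GL hodd n, ← hq, ← ha, hq2, padic_two_factorial n]
      have h3 : n = 2 * (n / 2) + n % 2 := by omega
      generalize padicValNat 2 (n / 2).factorial = t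
      generalize n / 2 = k at h3 ⊢
      generalize n % 2 = s at h3 ⊢
      rw [h3]; ring
    haveI : Finite (Ae F 1) := Finite.of_equiv _ (glEquiv F 1).toEquiv
    haveI : Finite (Ae F r) := Finite.of_equiv _ (glEquiv F r).toEquiv
    have hsub : ∀ x y : Ae F r, x = y := by
      intro x y
      apply LinearEquiv.ext
      intro v
      funext i
      rw [hr0] at i
      exact i.elim0
    obtain ⟨Q0, hQ0⟩ :=
      (isPGroup_zpowers_of_sq (negOne (F := F) 1) (negOne_mul_self 1)).exists_le_sylow
    have hzQ : negOne (F := F) 1 ∈ (Q0 : Subgroup (Ae F 1)) := hQ0 (Subgroup.mem_zpowers _)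
    have hQ0card : Nat.card (Q0 : Subgroup (Ae F 1)) = 2 ^ a := by
      rw [card_sylow_ae 1 Q0, hGL1]
    obtain ⟨P⟩ := (inferInstance : Nonempty (Sylow 2 (Equiv.Perm (Fin n))))
    have hQ'card : Nat.card (⊤ : Subgroup (Ae F r)) = 1 := by
      rw [Subgroup.card_top]
      haveI : Subsingleton (Ae F r) := ⟨hsub⟩
      exact Nat.card_unique
    have hcard : Nat.card (Q0 : Subgroup (Ae F 1)) ^ n *
        Nat.card (P : Subgroup (Equiv.Perm (Fin n))) *
        Nat.card (⊤ : Subgroup (Ae F r)) = 2 ^ padicValNat 2 (Nat.card (GL (Fin n) F)) := by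
      rw [hQ0card, card_sylow_perm n P, hQ'card, hGLn, ← pow_mul, ← pow_add, mul_one, mul_comm a n]
    obtain ⟨iso⟩ := exists_sylow_iso 1 n n (by norm_num) hme (Q0 : Subgroup (Ae F 1))
      (P : Subgroup (Equiv.Perm (Fin n))) (⊤ : Subgroup (Ae F r)) hcard S
    have hk : Fintype.card (Fin n) + 0 = n := by
      rw [Fintype.card_fin, add_zero]
    have key := NRex_of_equiv iso
      (NRex_T _ _ _ 0 (negOne 1) hzQ (negOne_ne_one h2 1 (by norm_num)) (negOne_mul_self 1)
      (negOne_central 1) (fun x y => hsub _ _) (fun x _ => hsub _ _) (by rw [hQ'card, pow_zero]))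
    rwa [hk] at key
  · intro E _ he
    have key := Cfsg.Agent.Helper11.JointEigen.card_le_of_matrix_hom h2
      (((Units.coeHom (Matrix (Fin n) (Fin n) F))).comp (S : Subgroup (GL (Fin n) F)).subtype)
      (Units.val_injective.comp (Subgroup.subtype_injective _)) E he.1 he.2
    rwa [Fintype.card_fin] at key

end Cfsg.Agent.Helper11.GLNr
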