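import Mathlib

/-! Rigidity of the Gold power map `x ↦ x^(s+1)` on a finite field of characteristic two:
additive bijections `A`, `B` with `B (a^(s+1)) = (A a)^(s+1)` are semilinear. -/

set_option autoImplicit false
set_option linter.unusedSectionVars false
set_option linter.unusedVariables false

namespace Cfsg.Agent.Helper11.Gold

variable {F : Type*} [Field F] [Fintype F] [CharP F 2]

/-- the Hua-type identity in characteristic two -/
theorem hua_id {a b : F} (ha : a ≠ 0) (hb : b ≠ 0) (hw : b⁻¹ + a ≠ 0) :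
    (a⁻¹ + (b⁻¹ + a)⁻¹)⁻¹ = a + a ^ 2 * b := by
  have hwa : (b⁻¹ + a) + a = b⁻¹ := by
    rw [add_assoc, CharTwo.add_self_eq_zero, add_zero]
  generalize hw' : b⁻¹ + a = w at hw hwa
  have h0 : a⁻¹ + w⁻¹ = (w + a) / (a * w) := by
    field_simp
  have h1 : a⁻¹ + w⁻¹ = (a * b * w)⁻¹ := by
    rw [h0, hwa]
    field_simp
  rw [h1, inv_inv, ← hw']
  field_simp

section

variable (s : ℕ) (hadd : ∀ a b : F, (a + b) ^ s = a ^ s + b ^ s)
  (hfix : ∀ a : F, a ^ s = a → a = 0 ∨ a = 1)

/-- the additive map `x ↦ x + x^s` -/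
def tau : F →+ F where
  toFun x := x + x ^ s
  map_zero' := by
    have := hadd 0 0
    simp only [add_zero] at this
    have h0 : (0 : F) ^ s = 0 := by
      have h1 : (0 : F) ^ s + 0 = (0 : F) ^ s + (0 : F) ^ s := by rw [add_zero]; exact this
      exact (add_left_cancel h1).symm
    rw [h0, add_zero]
  map_add' x y := by rw [hadd]; ring

/-- the hyperplane `{x + x^s}` -/
def hyp : AddSubgroup F := (tau s hadd).range

theorem mem_hyp {z : F} : z ∈ hyp s hadd ↔ ∃ x : F, x + x ^ s = z := Iff.rfl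

include hfix in
theorem hyp_index : (hyp s hadd).index = 2 := by
  unfold hyp
  rw [AddSubgroup.index_range]
  have hker : ((tau s hadd).ker : Set F) = {0, 1} := by
    ext x
    simp only [SetLike.mem_coe, AddMonoidHom.mem_ker, Set.mem_insert_iff, Set.mem_singleton_iff]
    constructor
    · intro h
      have h1 : x + x ^ s = 0 := h
      apply hfix
      have h2 : x ^ s = -x := by linear_combination h1
      rw [h2, CharTwo.neg_eq]
    · rintro (rfl | rfl)
      · exact (tau s hadd).map_zero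
      · show (1 : F) + 1 ^ s = 0
        rw [one_pow]
        exact CharTwo.add_self_eq_zero 1
  have : Nat.card ((tau s hadd).ker : Set F) = 2 := by
    rw [hker, Nat.card_coe_set_eq, Set.ncard_pair zero_ne_one]
  exact this

include hfix in
theorem add_mem_hyp_iff {a b : F} :
    a + b ∈ hyp s hadd ↔ (a ∈ hyp s hadd ↔ b ∈ hyp s hadd) :=
  AddSubgroup.add_mem_iff_of_index_two (hyp_index s hadd hfix)

include hfix in
theorem eq_zero_of_forall_mul_mem {d : F} (h : ∀ y : F, y * d ∈ hyp s hadd) : d = 0 := by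
  by_contra hd
  have htop : hyp s hadd = ⊤ := by
    rw [eq_top_iff]
    intro z _
    have := h (z / d)
    rwa [div_mul_cancel₀ z hd] at this
  have := hyp_index s hadd hfix
  rw [htop, AddSubgroup.index_top] at this
  omega

variable (hN : Function.Bijective (fun a : F => a ^ (s + 1)))
  (A B : F →+ F) (hA : Function.Bijective A) (hB : Function.Bijective B)
  (h : ∀ a : F, B (a ^ (s + 1)) = (A a) ^ (s + 1))

include hN hA h in
/-- polarised form: `B` maps `u • H` into `B u • H` -/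
theorem map_mul_hyp {u : F} (hu : u ≠ 0) {z : F} (hz : z ∈ hyp s hadd) :
    ∃ z' ∈ hyp s hadd, B (u * z) = B u * z' := by
  obtain ⟨a, rfl⟩ : ∃ a : F, a ^ (s + 1) = u := hN.2 u
  have ha : a ≠ 0 := by
    rintro rfl
    exact hu (zero_pow (Nat.succ_ne_zero _))
  have hAa : A a ≠ 0 := by
    intro h0
    apply ha
    apply hA.1
    rw [h0, map_zero]
  obtain ⟨x, rfl⟩ := (mem_hyp s hadd).mp hz
  refine ⟨A (a * x) / A a + (A (a * x) / A a) ^ s, (mem_hyp s hadd).mpr ⟨_, rfl⟩, ?_⟩
  -- polarisation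
  have e1 := h (a + a * x)
  have e2 := h a
  have e3 := h (a * x)
  have p1 : (a + a * x) ^ (s + 1) = a ^ (s + 1) + a ^ (s + 1) * (x + x ^ s) + (a * x) ^ (s + 1) := by
    rw [pow_succ (a + a * x), hadd, pow_succ, pow_succ, mul_pow]
    ring
  have p2 : (A a + A (a * x)) ^ (s + 1) = (A a) ^ (s + 1) +
      ((A a) ^ s * A (a * x) + A a * (A (a * x)) ^ s) + (A (a * x)) ^ (s + 1) := by
    rw [pow_succ (A a + A (a * x)), hadd, pow_succ, pow_succ]
    ring
  rw [p1, map_add, map_add, map_add, p2, e2, e3] at e1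
  have e4 : B (a ^ (s + 1) * (x + x ^ s)) =
      (A a) ^ s * A (a * x) + A a * (A (a * x)) ^ s := by
    have := add_right_cancel e1
    exact add_left_cancel this
  rw [e4, e2, div_pow]
  field_simp
  ring

include hN hA hB h hfix in
/-- `B` maps `u • H` onto `B u • H` -/
theorem mem_hyp_iff {u : F} (hu : u ≠ 0) (x : F) :
    x / u ∈ hyp s hadd ↔ B x / B u ∈ hyp s hadd := by
  have hBu : B u ≠ 0 := by
    intro h0
    apply hu
    apply hB.1
    rw [h0, map_zero]
  constructor
  · intro hx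
    obtain ⟨z', hz', e⟩ := map_mul_hyp s hadd hN A B hA h hu hx
    rw [mul_div_cancel₀ x hu] at e
    rw [e, mul_div_cancel_left₀ z' hBu]
    exact hz'
  · intro hx
    -- the injective map `H → H`, `z ↦ B (u z) / B u` is surjective
    let g : hyp s hadd → hyp s hadd := fun z =>
      ⟨B (u * z.1) / B u, by
        obtain ⟨z', hz', e⟩ := map_mul_hyp s hadd hN A B hA h hu z.2
        rw [e, mul_div_cancel_left₀ z' hBu]
        exact hz'⟩
    have hg : Function.Injective g := by
      intro z w hzw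
      have h1 : B (u * z.1) / B u = B (u * w.1) / B u := congrArg Subtype.val hzw
      have h2 : B (u * z.1) = B (u * w.1) := by
        field_simp at h1
        exact h1
      have h3 := hB.1 h2
      exact Subtype.ext (mul_left_cancel₀ hu h3)
    have hg' : Function.Surjective g := Finite.injective_iff_surjective.mp hg
    obtain ⟨z, hz⟩ := hg' ⟨B x / B u, hx⟩
    have h1 : B (u * z.1) / B u = B x / B u := congrArg Subtype.val hz
    have h2 : B (u * z.1) = B x := by
      field_simp at h1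
      exact h1
    have h3 := hB.1 h2
    rw [← h3, mul_div_cancel_left₀ _ hu]
    exact z.2

include hN hA hB h hfix in
theorem mem_hyp_iff' (t x : F) :
    x * t ∈ hyp s hadd ↔ B x * (B t⁻¹)⁻¹ ∈ hyp s hadd := by
  by_cases ht : t = 0
  · subst ht
    simp only [mul_zero, inv_zero, map_zero]
  · have := mem_hyp_iff s hadd hfix hN A B hA hB h (inv_ne_zero ht) x
    rwa [div_inv_eq_mul, div_eq_mul_inv] at this

include hadd hN hA hB h hfix in
/-- the dual map `t ↦ (B t⁻¹)⁻¹` is additive -/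
theorem dual_add (t t' : F) :
    (B (t + t')⁻¹)⁻¹ = (B t⁻¹)⁻¹ + (B t'⁻¹)⁻¹ := by
  have hd : (B (t + t')⁻¹)⁻¹ + ((B t⁻¹)⁻¹ + (B t'⁻¹)⁻¹) = 0 := by
    apply eq_zero_of_forall_mul_mem s hadd hfix
    intro y
    obtain ⟨x, rfl⟩ := hB.2 y
    rw [mul_add, mul_add, add_mem_hyp_iff s hadd hfix, add_mem_hyp_iff s hadd hfix,
      ← mem_hyp_iff' s hadd hfix hN A B hA hB h, ← mem_hyp_iff' s hadd hfix hN A B hA hB h,
      ← mem_hyp_iff' s hadd hfix hN A B hA hB h, mul_add, add_mem_hyp_iff s hadd hfix]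
  have := CharTwo.add_eq_zero.mp hd
  exact this

include hadd hN hA hB h hfix in
/-- **Rigidity**: `A = l φ`, `B = l^(s+1) φ` for a field endomorphism `φ`. -/
theorem rigidity :
    ∃ (l : F) (φ : F →+* F), l ≠ 0 ∧ (∀ a, A a = l * φ a) ∧ (∀ b, B b = l ^ (s + 1) * φ b) := by
  have hB0 : ∀ x : F, B x = 0 → x = 0 := by
    intro x hx
    apply hB.1
    rw [hx, map_zero]
  have hβ : B 1 ≠ 0 := fun h0 => one_ne_zero (hB0 1 h0)
  -- the normalised maps
  let f : F →+ F := (AddMonoidHom.mulLeft (B 1)⁻¹).comp B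
  have hf : ∀ x, f x = (B 1)⁻¹ * B x := fun x => rfl
  have hf1 : f 1 = 1 := by rw [hf, inv_mul_cancel₀ hβ]
  have hf0 : ∀ x : F, f x = 0 → x = 0 := by
    intro x hx
    rw [hf] at hx
    rcases mul_eq_zero.mp hx with h1 | h1
    · exact absurd h1 (inv_ne_zero hβ)
    · exact hB0 x h1
  have hfne : ∀ x : F, x ≠ 0 → f x ≠ 0 := fun x hx h0 => hx (hf0 x h0)
  -- `g t = (f t⁻¹)⁻¹` is additive
  have hg : ∀ t t' : F, (f (t + t')⁻¹)⁻¹ = (f t⁻¹)⁻¹ + (f t'⁻¹)⁻¹ := by
    intro t t'
    have := dual_add s hadd hfix hN A B hA hB h t t'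
    rw [hf, hf, hf, mul_inv, mul_inv, mul_inv, inv_inv, this]
    ring
  have hg1 : (f (1 : F)⁻¹)⁻¹ = 1 := by rw [inv_one, hf1, inv_one]
  -- Hua
  have hua : ∀ a b : F, a ≠ 0 → b ≠ 0 → b⁻¹ + a ≠ 0 →
      f (a + a ^ 2 * b) = f a + (f a) ^ 2 * (f b⁻¹)⁻¹ := by
    intro a b ha hb hw
    rw [← hua_id ha hb hw]
    have e1 : f ((a⁻¹ + (b⁻¹ + a)⁻¹)⁻¹) = ((f ((a⁻¹ + (b⁻¹ + a)⁻¹)⁻¹))⁻¹)⁻¹ := (inv_inv _).symm
    rw [e1, hg, inv_inv, inv_inv, map_add]
    have hfw : f b⁻¹ + f a ≠ 0 := by
      rw [← map_add]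
      exact hfne _ hw
    have := hua_id (hfne a ha) (inv_ne_zero (hfne b⁻¹ (inv_ne_zero hb)))
      (by rw [inv_inv]; exact hfw)
    rw [inv_inv] at this
    exact this
  -- `g = f`
  have hgf : ∀ b : F, (f b⁻¹)⁻¹ = f b := by
    intro b
    by_cases hb : b = 0
    · subst hb
      rw [inv_zero, map_zero, inv_zero]
    by_cases hb1 : b = 1
    · subst hb1
      rw [hg1, hf1]
    have hw : b⁻¹ + 1 ≠ 0 := by
      intro h0
      have : b⁻¹ = 1 := by
        have := CharTwo.add_eq_zero.mp h0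
        exact this
      exact hb1 (inv_eq_one.mp this)
    have := hua 1 b one_ne_zero hb hw
    rw [one_pow, one_mul, map_add, hf1, one_pow, one_mul] at this
    exact (add_left_cancel this).symm
  -- multiplicativity on squares
  have hsq : ∀ a b : F, f (a ^ 2 * b) = (f a) ^ 2 * f b := by
    intro a b
    by_cases ha : a = 0
    · subst ha
      simp
    by_cases hb : b = 0
    · subst hb
      simp
    by_cases hw : b⁻¹ + a = 0
    · have hba : b⁻¹ = a := CharTwo.add_eq_zero.mp hw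
      have hb' : b = a⁻¹ := by rw [← hba, inv_inv]
      subst hb'
      have e1 : a ^ 2 * a⁻¹ = a := by field_simp
      rw [e1, ← hgf a⁻¹, inv_inv]
      have := hfne a ha
      field_simp
    · have := hua a b ha hb hw
      rw [map_add, hgf] at this
      exact add_left_cancel this
  have hmul : ∀ c b : F, f (c * b) = f c * f b := by
    intro c b
    obtain ⟨a, rfl⟩ := FiniteField.isSquare_of_char_two (ringChar.eq F 2) c
    have e1 : a * a = a ^ 2 := (sq a).symm
    have e2 := hsq a 1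
    rw [mul_one, hf1, mul_one] at e2
    rw [e1, hsq, e2]
  let φ : F →+* F :=
    { toFun := f
      map_one' := hf1
      map_mul' := hmul
      map_zero' := f.map_zero
      map_add' := f.map_add }
  have hφ : ∀ x, φ x = f x := fun x => rfl
  obtain ⟨l, hl⟩ : ∃ l : F, l ^ (s + 1) = B 1 := hN.2 (B 1)
  have hl0 : l ≠ 0 := by
    rintro rfl
    rw [zero_pow (Nat.succ_ne_zero _)] at hl
    exact hβ hl.symm
  have hBf : ∀ b, B b = l ^ (s + 1) * φ b := by
    intro b
    rw [hφ, hf, hl, ← mul_assoc, mul_inv_cancel₀ hβ, one_mul]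
  refine ⟨l, φ, hl0, ?_, hBf⟩
  intro a
  apply hN.1
  show (A a) ^ (s + 1) = (l * φ a) ^ (s + 1)
  rw [← h, hBf, mul_pow, map_pow]

end

end Cfsg.Agent.Helper11.Gold
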