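import Mathlib
import Cfsg.Agent.Helper22.HSK

/-! Two elements `a` (order 10) and `b` (order 7) of the stabiliser of helper22's set of fifty points in
the permutation model `K` of the Higman–Sims group on 100 points, as packed tables, with the straight
line program showing that they lie in `K`: `a = u u z U z u u u z u z U U z u z u`, `b = u z u u u z u z U z u u z U` (`U = u⁻¹`). They satisfy the
seven relators of helper11's presentation of `PSU₃(5)`. (generated) -/

set_option autoImplicit false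
set_option linter.all false
set_option maxRecDepth 100000
set_option maxHeartbeats 0

namespace Cfsg.Agent.Helper11.HS352

open Cfsg.Agent.Helper22.PermPack Cfsg.Agent.Helper22.HSKData Cfsg.Agent.Helper22.HSK

/-- the table of `a` -/
def hsA : ℕ := 0x4b7c02c6b253af8379a2184798d6ab4669b6cae5442f4decb6e72ca832fd1d4bb145085c74a47185948464b66620c2c90eb93ebd26181da6721e18d040d01878e099f2a3c0db48419baa1608da9c6b085138d53e8d02422
/-- the table of `a⁻¹` -/
def hsAi : ℕ := 0xcc04a6c569fab283228e53529c094a290f542e8b19136f01700df4c435ed82841249b4a4119a8f3efd922ceaa7b8ed9609c15ac4ba931938202c1d3159d46a02a19c96d8bb932b46922cb10375cf43bc44bc4343c7cae1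
/-- the table of `b` -/
def hsB : ℕ := 0x4b757151611ed71ac451cb2caacf44e1d836c26d3710ad3917cb28d3a0319a6692afba5f22a630c162cd3d62752c2d410e990406260f24aa5b73056b66ce92030a5b94302198404cb46327c8290f11fa3511ca1a2e3d25e
/-- the table of `b⁻¹` -/
def hsBi : ℕ := 0x70a17a17a031223f36bb2b882ab988c22c3a8c5a2b32f92ba0c41a8a2a69516131eea6a2f0c52993d73f835ad2777851c694906079303181114cb931ccced83c107940647005247240d04b2dc2bf6674b16ddb5ea0b4da9

/-- `a`, `a⁻¹`, `b`, `b⁻¹` from `z`, `u` -/
def slp1 : List (ℕ × List ℕ) := [(0x508581f449d331465412d3058a0e587158b375d4809ae57dc7082ae287122bda8fab3a48ee361bb1e525b404ed81541b08bc155035ccc60f79064909e5e76009665c81b8c8927f7db86b678989a30a9b432d43d28130d32, [1, 1, 1, 1, 1, 1]), (hsA, [1, 1, 0, 2, 0, 1, 1, 1, 0, 1, 0, 2, 2, 0, 1, 0, 1]), (hsAi, [2, 0, 2, 0, 1, 1, 0, 2, 0, 2, 2, 2, 0, 1, 0, 2, 2]), (hsB, [1, 0, 1, 1, 1, 0, 1, 0, 2, 0, 1, 1, 0, 2]), (hsBi, [1, 0, 2, 2, 0, 1, 0, 2, 0, 2, 2, 2, 0, 2])]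

/-- the new elements -/
def gens4 : List ℕ := [hsA, hsAi, hsB, hsBi]

/-- the mask of the set of fifty points (helper22's `HS352.S50`) -/
def m50 : ℕ := 0xef6ae76b4e9b3cba404001ed1

theorem slp1_okK : slpOK 100 7 zu slp1 = true := by decide +kernel
theorem gens4_goodK : gens4.all (goodB 100 7) = true := by decide +kernel
/-- `a a⁻¹ = 1` and `b b⁻¹ = 1` on the tables -/
theorem inv_okK : (allN 100 fun i => Nat.beq (slot 7 hsA (slot 7 hsAi i)) i && Nat.beq (slot 7 hsB (slot 7 hsBi i)) i) = true := by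
  decide +kernel
/-- `a` and `b` preserve the set of fifty points -/
theorem stab_okK : (allN 100 fun i => (m50.testBit (slot 7 hsA i) == m50.testBit i) &&
    (m50.testBit (slot 7 hsB i) == m50.testBit i)) = true := by
  decide +kernel
/-- `a` moves the point 0 -/
theorem move_okK : (!(Nat.beq (slot 7 hsA 0) 0)) = true := by
  decide +kernel

end Cfsg.Agent.Helper11.HS352
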