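import Mathlib
import Cfsg.Agent.Helper19.Schur.Table

/-! Recognition by a generating pair: if every group generated by a pair satisfying the relators `rels`
has order at most `n`, then any two groups of order `n` generated by such pairs are isomorphic
(diagonal-subgroup trick, no presented group needed). -/

set_option autoImplicit false
set_option linter.all false

namespace Cfsg.Agent.Helper11.RecogPair

open Cfsg.Agent.Helper19.TCS Cfsg.Agent.Helper19.Schur

universe u v

theorem bijective_of_surjective_of_card_le {D H : Type*} [Group D] [Group H] [Finite D] (f : D →* H)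
    (hf : Function.Surjective f) (hcard : Nat.card D ≤ Nat.card H) : Function.Bijective f := by
  haveI : Finite H := Finite.of_surjective f hf
  have h1 : Nat.card H ≤ Nat.card D := Nat.card_le_card_of_surjective f hf
  have h2 : Nat.card D = Nat.card H := le_antisymm hcard h1
  exact (Nat.bijective_iff_surjective_and_card f).mpr ⟨hf, h2⟩

theorem surjective_of_closure {D H : Type*} [Group D] [Group H] (f : D →* H) (A B : D) (a b : H)
    (hA : f A = a) (hB : f B = b) (hab : Subgroup.closure ({a, b} : Set H) = ⊤) :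
    Function.Surjective f := by
  rw [← MonoidHom.range_eq_top, eq_top_iff, ← hab, Subgroup.closure_le]
  rintro g (rfl | rfl)
  · exact ⟨A, hA⟩
  · exact ⟨B, hB⟩

/-- two groups of order `n`, each generated by a pair satisfying `rels`, are isomorphic as soon as
every group generated by such a pair has order at most `n`. -/
theorem nonempty_mulEquiv {H : Type u} {K : Type v} [Group H] [Group K] (rels : List (List ℕ)) (n : ℕ)
    (hT : ∀ (Δ : Type (max u v)) [Group Δ] (a b : Δ), Subgroup.closure {a, b} = (⊤ : Subgroup Δ) →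
      (∀ w ∈ rels, prodw (gc2 a b) w = 1) → Finite Δ ∧ Nat.card Δ ≤ n)
    (hH : Nat.card H = n) (hK : Nat.card K = n)
    (a b : H) (hab : Subgroup.closure ({a, b} : Set H) = ⊤) (hrelH : ∀ w ∈ rels, prodw (gc2 a b) w = 1)
    (x y : K) (hxy : Subgroup.closure ({x, y} : Set K) = ⊤) (hrelK : ∀ w ∈ rels, prodw (gc2 x y) w = 1) :
    Nonempty (H ≃* K) := by
  set At : H × K := (a, x) with hAt
  set Bt : H × K := (b, y) with hBt
  set D : Subgroup (H × K) := Subgroup.closure ({At, Bt} : Set (H × K)) with hD
  set A : ↥D := ⟨At, Subgroup.subset_closure (by simp)⟩ with hA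
  set B : ↥D := ⟨Bt, Subgroup.subset_closure (by simp)⟩ with hB
  have hgen : Subgroup.closure ({A, B} : Set ↥D) = ⊤ := closure_pair_subtype At Bt
  have hrelD : ∀ w ∈ rels, prodw (gc2 A B) w = 1 := by
    intro w hw
    apply Subtype.ext
    have h := map_prodw D.subtype A B w
    rw [Subgroup.coe_subtype] at h
    rw [h]
    show prodw (gc2 At Bt) w = 1
    rw [hAt, hBt, prodw_prodGroup, hrelH w hw, hrelK w hw]
    rfl
  obtain ⟨hfin, hcard⟩ := hT ↥D A B hgen hrelD
  haveI := hfin
  let f1 : ↥D →* H := (MonoidHom.fst H K).comp D.subtype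
  let f2 : ↥D →* K := (MonoidHom.snd H K).comp D.subtype
  have hs1 : Function.Surjective f1 := surjective_of_closure f1 A B a b rfl rfl hab
  have hs2 : Function.Surjective f2 := surjective_of_closure f2 A B x y rfl rfl hxy
  have hb1 : Function.Bijective f1 := bijective_of_surjective_of_card_le f1 hs1 (by rw [hH]; exact hcard)
  have hb2 : Function.Bijective f2 := bijective_of_surjective_of_card_le f2 hs2 (by rw [hK]; exact hcard)
  exact ⟨(MulEquiv.ofBijective f1 hb1).symm.trans (MulEquiv.ofBijective f2 hb2)⟩

/-- the subgroup generated by a nontrivial pair satisfying `rels` is isomorphic to the simple group `K`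
of order `n` generated by such a pair, as soon as every group generated by such a pair has order at
most `n`. -/
theorem nonempty_mulEquiv_closure {X : Type u} {K : Type v} [Group X] [Group K] [IsSimpleGroup K]
    (rels : List (List ℕ)) (n : ℕ)
    (hT : ∀ (Δ : Type (max u v)) [Group Δ] (a b : Δ), Subgroup.closure {a, b} = (⊤ : Subgroup Δ) →
      (∀ w ∈ rels, prodw (gc2 a b) w = 1) → Finite Δ ∧ Nat.card Δ ≤ n)
    (hK : Nat.card K = n)
    (a b : X) (hrelX : ∀ w ∈ rels, prodw (gc2 a b) w = 1) (hne : a ≠ 1)
    (x y : K) (hxy : Subgroup.closure ({x, y} : Set K) = ⊤) (hrelK : ∀ w ∈ rels, prodw (gc2 x y) w = 1) :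
    Nonempty (↥(Subgroup.closure ({a, b} : Set X)) ≃* K) := by
  set D0 : Subgroup X := Subgroup.closure ({a, b} : Set X) with hD0
  set a' : ↥D0 := ⟨a, Subgroup.subset_closure (by simp)⟩ with ha'
  set b' : ↥D0 := ⟨b, Subgroup.subset_closure (by simp)⟩ with hb'
  have hab' : Subgroup.closure ({a', b'} : Set ↥D0) = ⊤ := closure_pair_subtype a b
  have hrel' : ∀ w ∈ rels, prodw (gc2 a' b') w = 1 := by
    intro w hw
    apply Subtype.ext
    have h := map_prodw D0.subtype a' b' w
    rw [Subgroup.coe_subtype] at h
    rw [h]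
    exact hrelX w hw
  have hne' : a' ≠ 1 := by
    intro h
    exact hne (congrArg Subtype.val h)
  set At : ↥D0 × K := (a', x) with hAt
  set Bt : ↥D0 × K := (b', y) with hBt
  set D : Subgroup (↥D0 × K) := Subgroup.closure ({At, Bt} : Set (↥D0 × K)) with hD
  set A : ↥D := ⟨At, Subgroup.subset_closure (by simp)⟩ with hA
  set B : ↥D := ⟨Bt, Subgroup.subset_closure (by simp)⟩ with hB
  have hgen : Subgroup.closure ({A, B} : Set ↥D) = ⊤ := closure_pair_subtype At Bt
  have hrelD : ∀ w ∈ rels, prodw (gc2 A B) w = 1 := by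
    intro w hw
    apply Subtype.ext
    have h := map_prodw D.subtype A B w
    rw [Subgroup.coe_subtype] at h
    rw [h]
    show prodw (gc2 At Bt) w = 1
    rw [hAt, hBt, prodw_prodGroup, hrel' w hw, hrelK w hw]
    rfl
  obtain ⟨hfin, hcard⟩ := hT ↥D A B hgen hrelD
  haveI := hfin
  let f1 : ↥D →* ↥D0 := (MonoidHom.fst ↥D0 K).comp D.subtype
  let f2 : ↥D →* K := (MonoidHom.snd ↥D0 K).comp D.subtype
  have hs1 : Function.Surjective f1 := surjective_of_closure f1 A B a' b' rfl rfl hab'
  have hs2 : Function.Surjective f2 := surjective_of_closure f2 A B x y rfl rfl hxy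
  have hb2 : Function.Bijective f2 := bijective_of_surjective_of_card_le f2 hs2 (by rw [hK]; exact hcard)
  let e2 : ↥D ≃* K := MulEquiv.ofBijective f2 hb2
  haveI : Nontrivial ↥D := e2.toEquiv.nontrivial
  haveI : IsSimpleGroup ↥D :=
    IsSimpleGroup.isSimpleGroup_of_surjective e2.symm.toMonoidHom e2.symm.surjective
  have hker : f1.ker = ⊥ := by
    rcases (f1.normal_ker).eq_bot_or_eq_top with h | h
    · exact h
    · exfalso
      apply hne'
      have : A ∈ f1.ker := by rw [h]; exact Subgroup.mem_top A
      exact (MonoidHom.mem_ker).mp this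
  have hb1 : Function.Bijective f1 := ⟨(MonoidHom.ker_eq_bot_iff f1).mp hker, hs1⟩
  exact ⟨(MulEquiv.ofBijective f1 hb1).symm.trans e2⟩

end Cfsg.Agent.Helper11.RecogPair
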