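import Mathlib
import Cfsg.Agent.Helper19.TCR.StaticDefs

/-! Code-level arithmetic of the field with four elements (`ω ^ 2 = ω + 1`), `3 × 3` matrices of
codes with forced products, and their evaluation in a field of characteristic two containing such
an `ω` (after helper23's `Sz8Code`). -/

set_option autoImplicit false

namespace Cfsg.Agent.Helper11.L34

open Cfsg.Agent.Helper19.TCS

/-- binary digits of a code. -/
def d0 (n : ℕ) : ℕ := n % 2
def d1 (n : ℕ) : ℕ := n / 2 % 2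

/-- code from two digits (reduced mod two). -/
def pack (r0 r1 : ℕ) : ℕ := r0 % 2 + 2 * (r1 % 2)

/-- addition of codes. -/
def cadd (x y : ℕ) : ℕ := pack (d0 x + d0 y) (d1 x + d1 y)

/-- multiplication of codes, modulo `ω ^ 2 = ω + 1`. -/
def cmul (x y : ℕ) : ℕ :=
  pack (d0 x * d0 y + d1 x * d1 y) (d0 x * d1 y + d1 x * d0 y + d1 x * d1 y)

theorem d0_pack (r0 r1 : ℕ) : d0 (pack r0 r1) = r0 % 2 := by unfold d0 pack; omega
theorem d1_pack (r0 r1 : ℕ) : d1 (pack r0 r1) = r1 % 2 := by unfold d1 pack; omega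

section ev

variable {F : Type*} [Field F]

/-- evaluation of a code at `ω`. -/
def ev (ω : F) (n : ℕ) : F := (d0 n : F) + (d1 n : F) * ω

theorem cast_mod_two (h2 : (2 : F) = 0) (n : ℕ) : ((n % 2 : ℕ) : F) = (n : F) := by
  obtain ⟨q, r, hn, hr⟩ : ∃ q r, n = 2 * q + r ∧ n % 2 = r :=
    ⟨n / 2, n % 2, (Nat.div_add_mod n 2).symm, rfl⟩
  rw [hr, hn]
  push_cast
  rw [h2]
  ring

theorem ev_pack (h2 : (2 : F) = 0) (ω : F) (r0 r1 : ℕ) :
    ev ω (pack r0 r1) = (r0 : F) + (r1 : F) * ω := by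
  unfold ev
  rw [d0_pack, d1_pack, cast_mod_two h2, cast_mod_two h2]

theorem ev_add (h2 : (2 : F) = 0) (ω : F) (x y : ℕ) : ev ω (cadd x y) = ev ω x + ev ω y := by
  unfold cadd
  rw [ev_pack h2]
  unfold ev
  push_cast
  ring

theorem ev_mul (h2 : (2 : F) = 0) {ω : F} (hω : ω ^ 2 = ω + 1) (x y : ℕ) :
    ev ω (cmul x y) = ev ω x * ev ω y := by
  unfold cmul
  rw [ev_pack h2]
  unfold ev
  push_cast
  linear_combination (-((d1 x : F) * (d1 y : F))) * hω

theorem ev_zero (ω : F) : ev ω 0 = 0 := by simp [ev, d0, d1]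
theorem ev_one (ω : F) : ev ω 1 = 1 := by simp [ev, d0, d1]
theorem ev_two (ω : F) : ev ω 2 = ω := by simp [ev, d0, d1]
theorem ev_three (ω : F) : ev ω 3 = 1 + ω := by simp [ev, d0, d1]

end ev

/-- a `3 × 3` matrix of codes. -/
structure CM where
  a00 : ℕ
  a01 : ℕ
  a02 : ℕ
  a10 : ℕ
  a11 : ℕ
  a12 : ℕ
  a20 : ℕ
  a21 : ℕ
  a22 : ℕ
deriving DecidableEq

/-- the identity matrix of codes. -/
def cone : CM := ⟨1, 0, 0, 0, 1, 0, 0, 0, 1⟩

/-- the scalar matrix of codes. -/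
def cscal (c : ℕ) : CM := ⟨c, 0, 0, 0, c, 0, 0, 0, c⟩

/-- a row times a column. -/
def dot3 (a b c e f g : ℕ) : ℕ := cadd (cadd (cmul a e) (cmul b f)) (cmul c g)

/-- product of code matrices, with forced evaluation of the entries. -/
noncomputable def mmul : CM → CM → CM
  | ⟨a00, a01, a02, a10, a11, a12, a20, a21, a22⟩, ⟨b00, b01, b02, b10, b11, b12, b20, b21, b22⟩ =>
    force (dot3 a00 a01 a02 b00 b10 b20) fun c00 =>
    force (dot3 a00 a01 a02 b01 b11 b21) fun c01 =>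
    force (dot3 a00 a01 a02 b02 b12 b22) fun c02 =>
    force (dot3 a10 a11 a12 b00 b10 b20) fun c10 =>
    force (dot3 a10 a11 a12 b01 b11 b21) fun c11 =>
    force (dot3 a10 a11 a12 b02 b12 b22) fun c12 =>
    force (dot3 a20 a21 a22 b00 b10 b20) fun c20 =>
    force (dot3 a20 a21 a22 b01 b11 b21) fun c21 =>
    force (dot3 a20 a21 a22 b02 b12 b22) fun c22 =>
    ⟨c00, c01, c02, c10, c11, c12, c20, c21, c22⟩

section evM

variable {F : Type*} [Field F]

/-- evaluation of a matrix of codes. -/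
def evM (ω : F) (A : CM) : Matrix (Fin 3) (Fin 3) F :=
  !![ev ω A.a00, ev ω A.a01, ev ω A.a02;
     ev ω A.a10, ev ω A.a11, ev ω A.a12;
     ev ω A.a20, ev ω A.a21, ev ω A.a22]

theorem ev_dot3 (h2 : (2 : F) = 0) {ω : F} (hω : ω ^ 2 = ω + 1) (a b c e f g : ℕ) :
    ev ω (dot3 a b c e f g) = ev ω a * ev ω e + ev ω b * ev ω f + ev ω c * ev ω g := by
  unfold dot3
  rw [ev_add h2, ev_add h2, ev_mul h2 hω, ev_mul h2 hω, ev_mul h2 hω]

theorem evM_one (ω : F) : evM ω cone = 1 := by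
  ext i j
  fin_cases i <;> fin_cases j <;> simp [evM, cone, ev_zero, ev_one]

theorem evM_scal (ω : F) (c : ℕ) : evM ω (cscal c) = Matrix.scalar (Fin 3) (ev ω c) := by
  ext i j
  fin_cases i <;> fin_cases j <;> simp [evM, cscal, ev_zero]

theorem evM_mul (h2 : (2 : F) = 0) {ω : F} (hω : ω ^ 2 = ω + 1) (A B : CM) :
    evM ω (mmul A B) = evM ω A * evM ω B := by
  obtain ⟨a00, a01, a02, a10, a11, a12, a20, a21, a22⟩ := A
  obtain ⟨b00, b01, b02, b10, b11, b12, b20, b21, b22⟩ := B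
  ext i j
  fin_cases i <;> fin_cases j <;>
    simp [evM, mmul, force_eq, ev_dot3 h2 hω, Matrix.mul_apply, Fin.sum_univ_three]

end evM

/-- code-level word product, in the convention `prodw (l :: w) = prodw w * g l`. -/
noncomputable def cprodw (G : ℕ → CM) : List ℕ → CM
  | [] => cone
  | l :: w => mmul (cprodw G w) (G l)

end Cfsg.Agent.Helper11.L34
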