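import Mathlib

set_option autoImplicit false

/-! Elements of order three in `PSL₃(𝔽₄)`: all conjugate to `diag(1, ω, ω²)`. -/

namespace Cfsg.Agent.Helper11.PSL34

open Matrix Polynomial
open scoped Pointwise

variable {F : Type*} [Field F] [Fintype F]

theorem two_eq_zero (hF : Fintype.card F = 4) : (2 : F) = 0 := by
  have h4 : (4 : F) = 0 := by
    have := card_nsmul_eq_zero' (G := F) (x := 1)
    rw [Nat.card_eq_fintype_card, hF] at this
    simpa using this
  have : (2 : F) * 2 = 0 := by rw [← h4]; norm_num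
  exact mul_self_eq_zero.mp this

theorem cube_eq_one (hF : Fintype.card F = 4) {a : F} (ha : a ≠ 0) : a ^ 3 = 1 := by
  have := FiniteField.pow_card_sub_one_eq_one a ha
  rwa [hF] at this

theorem exists_omega (hF : Fintype.card F = 4) :
    ∃ ω : F, ω ≠ 0 ∧ ω ≠ 1 ∧ ω ^ 3 = 1 ∧ ω ^ 2 + ω + 1 = 0 := by
  classical
  obtain ⟨ω, hω⟩ : ∃ ω : F, ω ∉ ({0, 1} : Finset F) := by
    by_contra hcon
    push Not at hcon
    have : (Finset.univ : Finset F) ⊆ {0, 1} := fun a _ => hcon a
    have h1 := Finset.card_le_card this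
    rw [Finset.card_univ, hF] at h1
    have h2 : ({0, 1} : Finset F).card ≤ 2 := Finset.card_le_two
    omega
  simp only [Finset.mem_insert, Finset.mem_singleton, not_or] at hω
  obtain ⟨h0, h1⟩ := hω
  have h3 := cube_eq_one hF h0
  refine ⟨ω, h0, h1, h3, ?_⟩
  have h4 : (ω - 1) * (ω ^ 2 + ω + 1) = 0 := by
    have : (ω - 1) * (ω ^ 2 + ω + 1) = ω ^ 3 - 1 := by ring
    rw [this, h3, sub_self]
  rcases mul_eq_zero.mp h4 with h | h
  · exact absurd (sub_eq_zero.mp h) h1
  · exact h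

omit [Fintype F] in
theorem charpoly_expand (M : Matrix (Fin 3) (Fin 3) F) :
    M.charpoly.coeff 0 • (1 : Matrix (Fin 3) (Fin 3) F) + M.charpoly.coeff 1 • M +
      M.charpoly.coeff 2 • M ^ 2 + M ^ 3 = 0 := by
  have h := Matrix.aeval_self_charpoly M
  have hdeg : M.charpoly.natDegree = 3 := by simp [Matrix.charpoly_natDegree_eq_dim M]
  have hmonic := Matrix.charpoly_monic M
  have h3 : M.charpoly.coeff 3 = 1 := by
    have := hmonic.coeff_natDegree
    rwa [hdeg] at this
  rw [Polynomial.aeval_eq_sum_range, hdeg] at h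
  simp only [Finset.sum_range_succ, Finset.range_one, Finset.sum_singleton, pow_zero, pow_one, h3,
    one_smul] at h
  exact h

omit [Fintype F] in
theorem scalar_of_smul_eq (M : Matrix (Fin 3) (Fin 3) F) (s t : F) (hs : s ≠ 0)
    (h : s • M = t • (1 : Matrix (Fin 3) (Fin 3) F)) : ∃ μ : F, M = μ • 1 :=
  ⟨s⁻¹ * t, by rw [← smul_smul, ← h, smul_smul, inv_mul_cancel₀ hs, one_smul]⟩

omit [Fintype F] in
theorem eq_zero_of_smul_one (s : F) (h : s • (1 : Matrix (Fin 3) (Fin 3) F) = 0) : s = 0 := by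
  have := congrFun (congrFun h 0) 0
  simpa using this

/-- Cayley–Hamilton analysis: a non-scalar `3 × 3` matrix of determinant one over `𝔽₄` whose cube
is a nonzero scalar `λ` has `λ = 1` and characteristic polynomial `X³ + 1`. -/
theorem charpoly_coeffs (hF : Fintype.card F = 4) (M : Matrix (Fin 3) (Fin 3) F)
    (hdet : M.det = 1) (lam : F) (hlam : lam ≠ 0) (hM3 : M ^ 3 = lam • 1)
    (hns : ¬ ∃ μ : F, M = μ • 1) :
    lam = 1 ∧ M.charpoly.coeff 2 = 0 ∧ M.charpoly.coeff 1 = 0 ∧ M.charpoly.coeff 0 = 1 := by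
  have h2 := two_eq_zero hF
  have hneg : (-1 : F) = 1 := by
    have : (1 : F) + 1 = 0 := by rw [← h2]; norm_num
    exact (eq_neg_of_add_eq_zero_left this).symm
  set a := M.charpoly.coeff 2 with ha
  set b := M.charpoly.coeff 1 with hb
  set c := M.charpoly.coeff 0 with hc
  have hc1 : c = 1 := by
    have := Matrix.det_eq_sign_charpoly_coeff M
    rw [hdet, Fintype.card_fin, ← hc] at this
    have h3 : ((-1 : F)) ^ 3 = 1 := by rw [hneg, one_pow]
    rw [h3, one_mul] at this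
    exact this.symm
  have hexp := charpoly_expand M
  rw [← ha, ← hb, ← hc, hc1, hM3] at hexp
  -- `(1 + λ) • 1 + b • M + a • M² = 0`
  have hexp' : (1 + lam) • (1 : Matrix (Fin 3) (Fin 3) F) + b • M + a • M ^ 2 = 0 := by
    rw [add_smul, ← hexp]; abel
  by_cases ha0 : a = 0
  · rw [ha0, zero_smul, add_zero] at hexp'
    by_cases hb0 : b = 0
    · rw [hb0, zero_smul, add_zero] at hexp'
      have h1 := eq_zero_of_smul_one _ hexp'
      have hl : lam = 1 := by
        have : lam = -1 := (eq_neg_of_add_eq_zero_right h1)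
        rw [this, hneg]
      exact ⟨hl, ha0, hb0, hc1⟩
    · exfalso
      apply hns
      apply scalar_of_smul_eq M b (-(1 + lam)) hb0
      rw [neg_smul]
      exact eq_neg_of_add_eq_zero_right hexp'
  · exfalso
    -- `M² = β M + γ`
    set β := -(b / a) with hβ
    set γ := -((1 + lam) / a) with hγ
    have hsq : M ^ 2 = β • M + γ • (1 : Matrix (Fin 3) (Fin 3) F) := by
      have h1 : a • M ^ 2 = -(b • M) + -((1 + lam) • (1 : Matrix (Fin 3) (Fin 3) F)) := by
        rw [← neg_add, eq_neg_iff_add_eq_zero, ← hexp']; abel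
      have h2' : M ^ 2 = a⁻¹ • (a • M ^ 2) := by rw [smul_smul, inv_mul_cancel₀ ha0, one_smul]
      rw [h2', h1, smul_add, smul_neg, smul_neg, smul_smul, smul_smul, hβ, hγ, neg_smul, neg_smul]
      congr 2
      · rw [div_eq_inv_mul]
      · rw [div_eq_inv_mul]
    have hcube : M ^ 3 = (β ^ 2 + γ) • M + (β * γ) • (1 : Matrix (Fin 3) (Fin 3) F) := by
      have : M ^ 3 = M * M ^ 2 := by rw [pow_succ']
      rw [this, hsq, mul_add, mul_smul_comm, mul_smul_comm, mul_one, ← pow_two, hsq, smul_add,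
        smul_smul, smul_smul, add_smul, pow_two]
      abel
    rw [hM3] at hcube
    by_cases hbg : β ^ 2 + γ = 0
    · rw [hbg, zero_smul, zero_add] at hcube
      have h1 : (lam - β * γ) • (1 : Matrix (Fin 3) (Fin 3) F) = 0 := by
        rw [sub_smul, hcube, sub_self]
      have h3 : lam = β * γ := sub_eq_zero.mp (eq_zero_of_smul_one _ h1)
      have hγ' : γ = -β ^ 2 := eq_neg_of_add_eq_zero_right hbg
      have hβ0 : β ≠ 0 := by
        intro h0
        rw [h0, zero_mul] at h3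
        exact hlam h3
      have hβ3 := cube_eq_one hF hβ0
      have hl1 : lam = 1 := by
        rw [h3, hγ', mul_neg, ← pow_succ', hβ3, hneg]
      have hγ0 : γ = 0 := by
        rw [hγ, hl1]
        have : (1 : F) + 1 = 0 := by rw [← h2]; norm_num
        rw [this, zero_div, neg_zero]
      rw [hγ0] at hγ'
      have : β ^ 2 = 0 := by
        have := hγ'.symm
        rwa [neg_eq_zero] at this
      exact hβ0 (pow_eq_zero_iff (by norm_num) |>.mp this)
    · apply hns
      apply scalar_of_smul_eq M (β ^ 2 + γ) (lam - β * γ) hbg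
      rw [sub_smul, hcube]
      abel

omit [Fintype F] in
theorem exists_eigenvector (M : Matrix (Fin 3) (Fin 3) F) (h2 : (2 : F) = 0)
    (ha : M.charpoly.coeff 2 = 0) (hb : M.charpoly.coeff 1 = 0) (hc : M.charpoly.coeff 0 = 1)
    (r : F) (hr : r ^ 3 = 1) : ∃ v : Fin 3 → F, v ≠ 0 ∧ M *ᵥ v = r • v := by
  have hdeg : M.charpoly.natDegree = 3 := by simp [Matrix.charpoly_natDegree_eq_dim M]
  have h3 : M.charpoly.coeff 3 = 1 := by
    have := (Matrix.charpoly_monic M).coeff_natDegree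
    rwa [hdeg] at this
  have heval : M.charpoly.eval r = 0 := by
    rw [Polynomial.eval_eq_sum_range, hdeg]
    simp only [Finset.sum_range_succ, Finset.range_one, Finset.sum_singleton, ha, hb, hc, h3, hr]
    have : (1 : F) + 1 = 0 := by rw [← h2]; norm_num
    simp [this]
  rw [Matrix.eval_charpoly] at heval
  obtain ⟨v, hv0, hv⟩ := Matrix.exists_mulVec_eq_zero_iff.mpr heval
  refine ⟨v, hv0, ?_⟩
  rw [Matrix.sub_mulVec] at hv
  have h1 := sub_eq_zero.mp hv
  rw [← h1]
  ext i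
  simp [Matrix.mulVec, dotProduct, Matrix.scalar, Matrix.diagonal_apply]

/-- Diagonalisation: `x` is `SL₃`-conjugate to `diag(1, ω, ω²)`. -/
theorem exists_sl_conj (hF : Fintype.card F = 4) (ω : F) (hω1 : ω ≠ 1) (hω3 : ω ^ 3 = 1)
    (hω : ω ^ 2 + ω + 1 = 0)
    (M : Matrix (Fin 3) (Fin 3) F) (hdet : M.det = 1) (lam : F) (hlam : lam ≠ 0)
    (hM3 : M ^ 3 = lam • 1) (hns : ¬ ∃ μ : F, M = μ • 1) :
    ∃ h : Matrix (Fin 3) (Fin 3) F, h.det = 1 ∧ M * h = h * Matrix.diagonal ![1, ω, ω ^ 2] := by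
  have h2 := two_eq_zero hF
  obtain ⟨-, ha, hb, hc⟩ := charpoly_coeffs hF M hdet lam hlam hM3 hns
  set r : Fin 3 → F := ![1, ω, ω ^ 2] with hr
  have hr3 : ∀ j, r j ^ 3 = 1 := by
    intro j
    fin_cases j
    · simp [hr]
    · simpa [hr] using hω3
    · simp only [hr]
      show (ω ^ 2) ^ 3 = 1
      rw [← pow_mul, mul_comm, pow_mul, hω3, one_pow]
  choose v hv0 hv using fun j => exists_eigenvector M h2 ha hb hc (r j) (hr3 j)
  set g : Matrix (Fin 3) (Fin 3) F := Matrix.of fun i j => v j i with hg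
  have hMg : M * g = g * Matrix.diagonal r := by
    ext i j
    rw [Matrix.mul_diagonal]
    have := congrFun (hv j) i
    simp only [Matrix.mulVec, dotProduct, Pi.smul_apply, smul_eq_mul] at this
    simp only [Matrix.mul_apply, hg, Matrix.of_apply]
    rw [this, mul_comm]
  -- `g` is invertible
  have hgdet : g.det ≠ 0 := by
    intro h0
    obtain ⟨c, hc0, hgc⟩ := Matrix.exists_mulVec_eq_zero_iff.mpr h0
    have key : ∀ c' : Fin 3 → F, g *ᵥ c' = 0 → g *ᵥ (fun j => r j * c' j) = 0 := by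
      intro c' hc'
      have h1 : (M * g) *ᵥ c' = 0 := by rw [← Matrix.mulVec_mulVec, hc', Matrix.mulVec_zero]
      rw [hMg, ← Matrix.mulVec_mulVec] at h1
      have h3 : Matrix.diagonal r *ᵥ c' = fun j => r j * c' j := by
        ext j
        rw [Matrix.mulVec_diagonal]
      rwa [h3] at h1
    have e0 := hgc
    have e1 := key c hgc
    have e2 := key _ e1
    have e0' : ∀ i, v 0 i * c 0 + v 1 i * c 1 + v 2 i * c 2 = 0 := by
      intro i
      have := congrFun e0 i
      simpa [Matrix.mulVec, dotProduct, Fin.sum_univ_three, hg] using this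
    have e1' : ∀ i, v 0 i * c 0 + v 1 i * (ω * c 1) + v 2 i * (ω ^ 2 * c 2) = 0 := by
      intro i
      have := congrFun e1 i
      simpa [Matrix.mulVec, dotProduct, Fin.sum_univ_three, hg, hr] using this
    have e2' : ∀ i, v 0 i * c 0 + v 1 i * (ω * (ω * c 1)) + v 2 i * (ω ^ 2 * (ω ^ 2 * c 2)) = 0 := by
      intro i
      have := congrFun e2 i
      simpa [Matrix.mulVec, dotProduct, Fin.sum_univ_three, hg, hr] using this
    have e2'' : ∀ i, v 0 i * c 0 + v 1 i * (ω ^ 2 * c 1) + v 2 i * (ω * c 2) = 0 := by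
      intro i
      linear_combination e2' i - (v 2 i * c 2 * ω) * hω3
    have hc0' : ∀ i, v 0 i * c 0 = 0 := by
      intro i
      linear_combination e0' i + e1' i + e2'' i - (v 0 i * c 0) * h2
        - (v 1 i * c 1 + v 2 i * c 2) * hω
    have hc1' : ∀ i, v 1 i * c 1 = 0 := by
      intro i
      linear_combination e0' i + ω ^ 2 * e1' i + ω * e2'' i - (v 0 i * c 0) * hω
        - (2 * (v 1 i * c 1) + v 2 i * c 2 * ω) * hω3 - (v 1 i * c 1) * h2 - (v 2 i * c 2) * hω
    have hc2' : ∀ i, v 2 i * c 2 = 0 := by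
      intro i
      linear_combination e0' i + ω * e1' i + ω ^ 2 * e2'' i - (v 0 i * c 0) * hω
        - (v 1 i * c 1 * ω + 2 * (v 2 i * c 2)) * hω3 - (v 2 i * c 2) * h2 - (v 1 i * c 1) * hω
    apply hc0
    have hz : ∀ j, c j = 0 := by
      intro j
      have hvj : ∃ i, v j i ≠ 0 := by
        by_contra hcon
        push Not at hcon
        exact hv0 j (funext hcon)
      obtain ⟨i, hi⟩ := hvj
      fin_cases j
      · exact (mul_eq_zero.mp (hc0' i)).resolve_left hi
      · exact (mul_eq_zero.mp (hc1' i)).resolve_left hi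
      · exact (mul_eq_zero.mp (hc2' i)).resolve_left hi
    exact funext hz
  -- normalise the determinant
  set E : Matrix (Fin 3) (Fin 3) F := Matrix.diagonal ![(g.det)⁻¹, 1, 1] with hE
  refine ⟨g * E, ?_, ?_⟩
  · rw [Matrix.det_mul, hE, Matrix.det_diagonal]
    simp [Fin.prod_univ_three, mul_inv_cancel₀ hgdet]
  · rw [← Matrix.mul_assoc, hMg, Matrix.mul_assoc, Matrix.mul_assoc, hE,
      Matrix.diagonal_mul_diagonal, Matrix.diagonal_mul_diagonal]
    congr 2
    ext j
    fin_cases j <;> simp [hr, mul_comm]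

theorem conj_smul_zpowers {G : Type*} [Group G] (g a : G) :
    MulAut.conj g • Subgroup.zpowers a = Subgroup.zpowers (g * a * g⁻¹) := by
  have h1 : MulAut.conj g • Subgroup.zpowers a =
      (Subgroup.zpowers a).map (MulAut.conj g).toMonoidHom := by
    rw [Subgroup.pointwise_smul_def]
    rfl
  rw [h1, MonoidHom.map_zpowers]
  rfl

/-- Every subgroup of order three of `PSL₃(𝔽₄)` is generated by the image of an `SL₃`-conjugate of
`diag(1, ω, ω²)`. -/
theorem exists_conj_of_card_three (hF : Fintype.card F = 4) (ω : F) (hω1 : ω ≠ 1)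
    (hω3 : ω ^ 3 = 1) (hω : ω ^ 2 + ω + 1 = 0)
    (D : Matrix.SpecialLinearGroup (Fin 3) F)
    (hD : (D : Matrix (Fin 3) (Fin 3) F) = Matrix.diagonal ![1, ω, ω ^ 2])
    (Z : Subgroup (Matrix.ProjectiveSpecialLinearGroup (Fin 3) F)) (hZ : Nat.card ↥Z = 3) :
    ∃ h : Matrix.SpecialLinearGroup (Fin 3) F,
      Z = Subgroup.zpowers (QuotientGroup.mk (h * D * h⁻¹) :
        Matrix.ProjectiveSpecialLinearGroup (Fin 3) F) := by
  have : Fact (Nat.Prime 3) := ⟨Nat.prime_three⟩
  have hZnt : Z ≠ ⊥ := by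
    intro h0
    rw [h0, Subgroup.card_bot] at hZ
    omega
  obtain ⟨zb, hzbZ, hzb1⟩ : ∃ zb : Matrix.ProjectiveSpecialLinearGroup (Fin 3) F,
      zb ∈ Z ∧ zb ≠ 1 := by
    obtain ⟨z, hz⟩ := (Subgroup.ne_bot_iff_exists_ne_one).mp hZnt
    exact ⟨z, z.2, fun h => hz (Subtype.ext h)⟩
  obtain ⟨z, rfl⟩ := QuotientGroup.mk_surjective zb
  have hz3 : ((z ^ 3 : Matrix.SpecialLinearGroup (Fin 3) F) :
      Matrix.ProjectiveSpecialLinearGroup (Fin 3) F) = 1 := by
    have h1 : (⟨_, hzbZ⟩ : Z) ^ 3 = 1 := by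
      have h0 : (⟨_, hzbZ⟩ : Z) ^ Nat.card Z = 1 := pow_card_eq_one'
      rwa [hZ] at h0
    have h2 := congrArg Subtype.val h1
    simpa using h2
  have hzc : z ^ 3 ∈ Subgroup.center (Matrix.SpecialLinearGroup (Fin 3) F) :=
    (QuotientGroup.eq_one_iff _).mp hz3
  have hznc : z ∉ Subgroup.center (Matrix.SpecialLinearGroup (Fin 3) F) := fun h =>
    hzb1 ((QuotientGroup.eq_one_iff _).mpr h)
  obtain ⟨lam, hlam3, hlam⟩ := Matrix.SpecialLinearGroup.mem_center_iff.mp hzc
  have hlam0 : lam ≠ 0 := by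
    rintro rfl
    simp at hlam3
  have hM3 : (z : Matrix (Fin 3) (Fin 3) F) ^ 3 = lam • 1 := by
    have : ((z ^ 3 : Matrix.SpecialLinearGroup (Fin 3) F) : Matrix (Fin 3) (Fin 3) F) =
        (z : Matrix (Fin 3) (Fin 3) F) ^ 3 := by simp
    rw [← this, ← hlam, Matrix.smul_one_eq_diagonal]
    rfl
  have hns : ¬ ∃ μ : F, (z : Matrix (Fin 3) (Fin 3) F) = μ • 1 := by
    rintro ⟨μ, hμ⟩
    apply hznc
    rw [Matrix.SpecialLinearGroup.mem_center_iff]
    refine ⟨μ, ?_, ?_⟩
    · have h1 := z.2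
      rw [hμ, Matrix.det_smul, Matrix.det_one, mul_one, Fintype.card_fin] at h1
      rw [Fintype.card_fin]; exact h1
    · rw [hμ, Matrix.smul_one_eq_diagonal]
      rfl
  obtain ⟨h, hdet, hh⟩ := exists_sl_conj hF ω hω1 hω3 hω (z : Matrix (Fin 3) (Fin 3) F) z.2 lam
    hlam0 hM3 hns
  set hsl : Matrix.SpecialLinearGroup (Fin 3) F := ⟨h, hdet⟩ with hhsl
  have hzh : z * hsl = hsl * D := by
    apply Subtype.ext
    show (z : Matrix (Fin 3) (Fin 3) F) * h = h * (D : Matrix (Fin 3) (Fin 3) F)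
    rw [hD]; exact hh
  have hz : z = hsl * D * hsl⁻¹ := by
    rw [← hzh, mul_inv_cancel_right]
  refine ⟨hsl, ?_⟩
  rw [← hz]
  symm
  apply Subgroup.eq_of_le_of_card_ge
  · rw [Subgroup.zpowers_le]; exact hzbZ
  · rw [hZ, Nat.card_zpowers]
    have h1 : orderOf (z : Matrix.ProjectiveSpecialLinearGroup (Fin 3) F) ∣ 3 := by
      apply orderOf_dvd_of_pow_eq_one
      rw [← QuotientGroup.mk_pow]; exact hz3
    rcases (Nat.dvd_prime Nat.prime_three).mp h1 with h2 | h2
    · exact absurd (orderOf_eq_one_iff.mp h2) hzb1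
    · exact h2.ge

/-- In `PSL₃(𝔽₄)` all subgroups of order three are conjugate. -/
theorem psl34_order_three_conj (hF : Fintype.card F = 4)
    (X Y : Subgroup (Matrix.ProjectiveSpecialLinearGroup (Fin 3) F))
    (hX : Nat.card ↥X = 3) (hY : Nat.card ↥Y = 3) :
    ∃ g : Matrix.ProjectiveSpecialLinearGroup (Fin 3) F, MulAut.conj g • X = Y := by
  obtain ⟨ω, -, hω1, hω3, hω⟩ := exists_omega hF
  have hDdet : (Matrix.diagonal ![1, ω, ω ^ 2] : Matrix (Fin 3) (Fin 3) F).det = 1 := by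
    rw [Matrix.det_diagonal, Fin.prod_univ_three]
    simp only [Matrix.cons_val_zero, Matrix.cons_val_one, Matrix.cons_val_two, Matrix.head_cons,
      Matrix.tail_cons, one_mul]
    rw [← pow_succ', hω3]
  set D : Matrix.SpecialLinearGroup (Fin 3) F := ⟨Matrix.diagonal ![1, ω, ω ^ 2], hDdet⟩ with hD
  obtain ⟨hx, rfl⟩ := exists_conj_of_card_three hF ω hω1 hω3 hω D rfl X hX
  obtain ⟨hy, rfl⟩ := exists_conj_of_card_three hF ω hω1 hω3 hω D rfl Y hY
  refine ⟨QuotientGroup.mk (hy * hx⁻¹), ?_⟩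
  rw [conj_smul_zpowers]
  congr 1
  rw [← QuotientGroup.mk_inv, ← QuotientGroup.mk_mul, ← QuotientGroup.mk_mul]
  congr 1
  group

end Cfsg.Agent.Helper11.PSL34
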