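import Mathlib
import Cfsg.Agent.Helper11.L34Code
import Cfsg.Agent.Helper11.PSL34
import Cfsg.Agent.Helper12.CyclicGen2
import Cfsg.Agent.Helper12.SLCardDvd
import Cfsg.Agent.Helper19.Schur.Basic

/-! Concrete side of the Schur multiplier of `PSL₃(4)`: two generators of
`Matrix.ProjectiveSpecialLinearGroup (Fin 3) F` (`|F| = 4`) satisfying the seven relators `rels`,
and the order of the group. -/

set_option autoImplicit false
set_option linter.unusedSectionVars false
set_option linter.unusedVariables false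

namespace Cfsg.Agent.Helper11.L34

open Cfsg.Agent.Helper19.TCS Cfsg.Agent.Helper19.Schur Matrix

/-- the seven relators. -/
def rels : List (List ℕ) :=
  [[2, 2, 2, 2, 2], [0, 0, 0, 0, 0, 0, 0], [0, 3, 0, 3, 0, 3, 0, 3],
   [0, 0, 0, 2, 0, 0, 0, 2, 0, 0, 0, 2], [0, 2, 0, 3, 0, 2, 0, 3, 0, 2, 0, 3],
   [0, 0, 3, 0, 0, 3, 3, 0, 2, 0, 2, 2, 1, 2], [0, 0, 3, 3, 0, 3, 3, 1, 2, 2, 1, 3, 1, 2]]

/-! ### code matrices -/

def cA : CM := ⟨0,0,1, 1,0,1, 0,1,0⟩
def cAi : CM := ⟨1,1,0, 0,0,1, 1,0,0⟩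
def cB : CM := ⟨0,0,1, 0,2,0, 3,0,1⟩
def cBi : CM := ⟨2,0,2, 0,3,0, 1,0,0⟩
def cW : CM := ⟨0,1,0, 0,0,1, 1,0,0⟩
def cT (c : ℕ) : CM := ⟨1,c,0, 0,1,0, 0,0,1⟩

/-- the code matrices of the four letters. -/
def cG (l : ℕ) : CM :=
  match l with
  | 0 => cA
  | 1 => cAi
  | 2 => cB
  | 3 => cBi
  | _ => cone

theorem cA_cAi : mmul cA cAi = cone := by decide +kernel
theorem cB_cBi : mmul cB cBi = cone := by decide +kernel
theorem crels : ∀ w ∈ rels, cprodw cG w = cscal 1 ∨ cprodw cG w = cscal 2 ∨ cprodw cG w = cscal 3 := by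
  decide +kernel
theorem cword_W : cprodw cG [2, 1, 3, 0, 3, 1, 3, 1, 2, 0] = cW := by decide +kernel
theorem cword_T1 : cprodw cG [3, 1, 3, 1, 2, 1, 2, 2, 0, 2] = cT 1 := by decide +kernel
theorem cword_T2 : cprodw cG [3, 0, 0, 3, 0, 3, 1, 2] = cT 2 := by decide +kernel
theorem cword_T3 : cprodw cG [1, 1, 3, 3, 1, 3, 0, 0, 3] = cT 3 := by decide +kernel

/-! ### words -/

section words

variable {Γ : Type*} [Group Γ]

theorem gc2_mem (x y : Γ) (l : ℕ) : gc2 x y l ∈ Subgroup.closure ({x, y} : Set Γ) := by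
  have hx : x ∈ Subgroup.closure ({x, y} : Set Γ) := Subgroup.subset_closure (by simp)
  have hy : y ∈ Subgroup.closure ({x, y} : Set Γ) := Subgroup.subset_closure (by simp)
  match l with
  | 0 => exact hx
  | 1 => exact inv_mem hx
  | 2 => exact hy
  | 3 => exact inv_mem hy
  | (n + 4) => exact one_mem _

theorem prodw_mem (x y : Γ) (w : List ℕ) :
    prodw (gc2 x y) w ∈ Subgroup.closure ({x, y} : Set Γ) := by
  induction w with
  | nil => exact one_mem _
  | cons l w ih => exact mul_mem ih (gc2_mem x y l)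

theorem gc2_map {Δ : Type*} [Group Δ] (e : Γ →* Δ) (x y : Γ) (l : ℕ) :
    gc2 (e x) (e y) l = e (gc2 x y l) := by
  match l with
  | 0 => rfl
  | 1 => exact (map_inv e x).symm
  | 2 => rfl
  | 3 => exact (map_inv e y).symm
  | (n + 4) => exact (map_one e).symm

theorem prodw_map {Δ : Type*} [Group Δ] (e : Γ →* Δ) (x y : Γ) (w : List ℕ) :
    prodw (gc2 (e x) (e y)) w = e (prodw (gc2 x y) w) := by
  induction w with
  | nil => exact (map_one e).symm
  | cons l w ih =>
    show prodw (gc2 (e x) (e y)) w * gc2 (e x) (e y) l = e (prodw (gc2 x y) w * gc2 x y l)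
    rw [map_mul, ih, gc2_map]

end words

/-! ### the generators in `SL₃(F)` -/

section group

variable {F : Type*} [Field F] [Fintype F] (h2 : (2 : F) = 0) {ω : F} (hω : ω ^ 2 = ω + 1)

/-- the matrix of an element of the special linear group. -/
def mat (g : SpecialLinearGroup (Fin 3) F) : Matrix (Fin 3) (Fin 3) F := g.1

theorem mat_mul (g h : SpecialLinearGroup (Fin 3) F) : mat (g * h) = mat g * mat h := rfl

theorem mat_one : mat (1 : SpecialLinearGroup (Fin 3) F) = 1 := rfl

theorem mat_injective :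
    Function.Injective (mat : SpecialLinearGroup (Fin 3) F → Matrix (Fin 3) (Fin 3) F) :=
  fun g h e => Subtype.ext e

theorem det_cA (ω : F) : (evM ω cA).det = 1 := by
  rw [Matrix.det_fin_three]
  simp [evM, cA, ev_zero, ev_one]

include h2 hω in
theorem det_cB : (evM ω cB).det = 1 := by
  rw [Matrix.det_fin_three]
  simp [evM, cB, ev_zero, ev_one, ev_two, ev_three]
  linear_combination (-1 : F) * hω - (ω + 1) * h2

/-- the generator of order seven. -/
def gA (ω : F) : SpecialLinearGroup (Fin 3) F := ⟨evM ω cA, det_cA ω⟩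

/-- the generator of order five (modulo scalars). -/
def gB : SpecialLinearGroup (Fin 3) F := ⟨evM ω cB, det_cB h2 hω⟩

theorem mat_gA : mat (gA ω) = evM ω cA := rfl

theorem mat_gB : mat (gB h2 hω) = evM ω cB := rfl

include h2 hω in
theorem mat_inv_of {g : SpecialLinearGroup (Fin 3) F} {c ci : CM} (hg : mat g = evM ω c)
    (hc : mmul c ci = cone) : mat g⁻¹ = evM ω ci := by
  have h1 : mat g * evM ω ci = 1 := by rw [hg, ← evM_mul h2 hω, hc, evM_one]
  have h3 : mat g⁻¹ * mat g = 1 := by rw [← mat_mul, inv_mul_cancel, mat_one]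
  calc mat g⁻¹ = mat g⁻¹ * (mat g * evM ω ci) := by rw [h1, mul_one]
    _ = (mat g⁻¹ * mat g) * evM ω ci := by rw [Matrix.mul_assoc]
    _ = evM ω ci := by rw [h3, one_mul]

theorem mat_gc2 (l : ℕ) : mat (gc2 (gA ω) (gB h2 hω) l) = evM ω (cG l) := by
  match l with
  | 0 => exact mat_gA
  | 1 => exact mat_inv_of h2 hω mat_gA cA_cAi
  | 2 => exact mat_gB h2 hω
  | 3 => exact mat_inv_of h2 hω (mat_gB h2 hω) cB_cBi
  | (n + 4) => exact (evM_one ω).symm

theorem mat_prodw (w : List ℕ) :
    mat (prodw (gc2 (gA ω) (gB h2 hω)) w) = evM ω (cprodw cG w) := by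
  induction w with
  | nil => exact (evM_one ω).symm
  | cons l w ih =>
    show mat (prodw (gc2 (gA ω) (gB h2 hω)) w * gc2 (gA ω) (gB h2 hω) l) =
      evM ω (mmul (cprodw cG w) (cG l))
    rw [mat_mul, evM_mul h2 hω, ih, mat_gc2]

include h2 hω in
theorem ev_pow_three (c : ℕ) (hc : c = 1 ∨ c = 2 ∨ c = 3) : ev ω c ^ 3 = 1 := by
  rcases hc with rfl | rfl | rfl
  · rw [ev_one, one_pow]
  · rw [ev_two]
    linear_combination (ω + 1) * hω + ω * h2
  · rw [ev_three]
    linear_combination (ω + 4) * hω + (4 * ω + 2) * h2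

/-- the relator words are scalar matrices, hence central. -/
theorem rels_center : ∀ w ∈ rels, prodw (gc2 (gA ω) (gB h2 hω)) w ∈
    Subgroup.center (SpecialLinearGroup (Fin 3) F) := by
  intro w hw
  rw [Matrix.SpecialLinearGroup.mem_center_iff]
  have key : ∀ c : ℕ, (c = 1 ∨ c = 2 ∨ c = 3) → cprodw cG w = cscal c →
      ∃ r : F, r ^ Fintype.card (Fin 3) = 1 ∧
        Matrix.scalar (Fin 3) r = (prodw (gc2 (gA ω) (gB h2 hω)) w).1 := by
    intro c hc he
    refine ⟨ev ω c, ?_, ?_⟩
    · rw [Fintype.card_fin]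
      exact ev_pow_three h2 hω c hc
    · have := mat_prodw h2 hω w
      rw [he, evM_scal] at this
      exact this.symm
  rcases crels w hw with h | h | h
  · exact key 1 (Or.inl rfl) h
  · exact key 2 (Or.inr (Or.inl rfl)) h
  · exact key 3 (Or.inr (Or.inr rfl)) h

end group

/-! ### generation -/

section generation

variable {F : Type*} [Field F] [Fintype F] (hF : Fintype.card F = 4) (h2 : (2 : F) = 0) {ω : F}
  (hω : ω ^ 2 = ω + 1)

include hF h2 hω in
theorem field_cases (c : F) : c = 0 ∨ c = 1 ∨ c = ω ∨ c = 1 + ω := by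
  have h4 : c ^ 4 = c := by
    have := FiniteField.pow_card c
    rwa [hF] at this
  have hprod : c * ((c - 1) * ((c - ω) * (c - (1 + ω)))) = 0 := by
    linear_combination h4 + (c ^ 2 - c) * hω + (-c ^ 3 - ω * c ^ 3 + 2 * ω * c ^ 2 + c ^ 2 - ω * c) * h2
  rcases mul_eq_zero.mp hprod with h | h
  · exact Or.inl h
  · rcases mul_eq_zero.mp h with h | h
    · exact Or.inr (Or.inl (sub_eq_zero.mp h))
    · rcases mul_eq_zero.mp h with h | h
      · exact Or.inr (Or.inr (Or.inl (sub_eq_zero.mp h)))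
      · exact Or.inr (Or.inr (Or.inr (sub_eq_zero.mp h)))

theorem word_eq {g : SpecialLinearGroup (Fin 3) F} {w : List ℕ} {c : CM}
    (hw : cprodw cG w = c) (hg : mat g = evM ω c) :
    prodw (gc2 (gA ω) (gB h2 hω)) w = g := by
  apply mat_injective
  rw [mat_prodw, hw, hg]

theorem mat_transvection (h : (0 : Fin 3) ≠ 1) (c : ℕ) :
    mat (SpecialLinearGroup.transvection h (ev ω c)) = evM ω (cT c) := by
  show ((SpecialLinearGroup.transvection h (ev ω c) : SpecialLinearGroup (Fin 3) F) :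
    Matrix (Fin 3) (Fin 3) F) = _
  rw [Matrix.SpecialLinearGroup.transvection_coe]
  ext i j
  fin_cases i <;> fin_cases j <;> simp [evM, cT, ev_zero, ev_one, Matrix.single]

include hF in
theorem closure_SL_eq_top :
    Subgroup.closure ({gA ω, gB h2 hω} : Set (SpecialLinearGroup (Fin 3) F)) = ⊤ := by
  set H := Subgroup.closure ({gA ω, gB h2 hω} : Set (SpecialLinearGroup (Fin 3) F)) with hH
  have hT : ∀ (h : (0 : Fin 3) ≠ 1) (c : ℕ) (w : List ℕ), cprodw cG w = cT c →
      SpecialLinearGroup.transvection h (ev ω c) ∈ H := by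
    intro h c w hw
    rw [← word_eq h2 hω hw (mat_transvection h c)]
    exact prodw_mem _ _ _
  apply Cfsg.Agent.Helper12.CycGen.eq_top_of_mem (n := 2) (by norm_num) H
    (prodw (gc2 (gA ω) (gB h2 hω)) [2, 1, 3, 0, 3, 1, 3, 1, 2, 0])
  · have h1 := mat_prodw h2 hω [2, 1, 3, 0, 3, 1, 3, 1, 2, 0]
    rw [cword_W] at h1
    show mat _ = _
    rw [h1]
    ext i j
    fin_cases i <;> fin_cases j <;>
      simp [evM, cW, ev_zero, ev_one, Cfsg.Agent.Helper12.CycGen.eps] <;> decide
  · exact prodw_mem _ _ _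
  · intro h c
    rcases field_cases hF h2 hω c with rfl | rfl | rfl | rfl
    · rw [Matrix.SpecialLinearGroup.transvection_coeff_zero]
      exact one_mem _
    · have := hT h 1 _ cword_T1
      rwa [ev_one] at this
    · have := hT h 2 _ cword_T2
      rwa [ev_two] at this
    · have := hT h 3 _ cword_T3
      rwa [ev_three] at this

end generation

/-! ### the projective group -/

section psl

variable {F : Type*} [Field F] [Fintype F]

/-- the projection onto the projective special linear group. -/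
def pr : SpecialLinearGroup (Fin 3) F →* Matrix.ProjectiveSpecialLinearGroup (Fin 3) F :=
  QuotientGroup.mk' (Subgroup.center (SpecialLinearGroup (Fin 3) F))

theorem pr_surjective : Function.Surjective (pr : SpecialLinearGroup (Fin 3) F →* _) :=
  QuotientGroup.mk'_surjective _

theorem exists_gens (hF : Fintype.card F = 4) :
    ∃ x y : Matrix.ProjectiveSpecialLinearGroup (Fin 3) F,
      Subgroup.closure {x, y} = (⊤ : Subgroup (Matrix.ProjectiveSpecialLinearGroup (Fin 3) F)) ∧
      ∀ w ∈ rels, prodw (gc2 x y) w = 1 := by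
  have h2 : (2 : F) = 0 := Cfsg.Agent.Helper11.PSL34.two_eq_zero hF
  obtain ⟨ω, -, -, -, hω0⟩ := Cfsg.Agent.Helper11.PSL34.exists_omega hF
  have hω : ω ^ 2 = ω + 1 := by linear_combination hω0 - (ω + 1) * h2
  refine ⟨pr (gA ω), pr (gB h2 hω), ?_, ?_⟩
  · have h1 := congrArg (Subgroup.map (pr : SpecialLinearGroup (Fin 3) F →* _))
      (closure_SL_eq_top hF h2 hω)
    rw [MonoidHom.map_closure, Set.image_pair, Subgroup.map_top_of_surjective _ pr_surjective] at h1
    exact h1
  · intro w hw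
    rw [prodw_map]
    exact (QuotientGroup.eq_one_iff _).mpr (rels_center h2 hω w hw)

theorem card_center (hF : Fintype.card F = 4) :
    Nat.card (Subgroup.center (SpecialLinearGroup (Fin 3) F)) = 3 := by
  have e := Matrix.SpecialLinearGroup.center_equiv_rootsOfUnity (n := Fin 3) (R := F)
  rw [Nat.card_congr e.toEquiv]
  have hmax : max (Fintype.card (Fin 3)) 1 = 3 := by simp
  rw [hmax]
  have htop : rootsOfUnity 3 F = ⊤ := by
    rw [eq_top_iff]
    intro u _
    rw [mem_rootsOfUnity]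
    apply Units.ext
    rw [Units.val_pow_eq_pow_val, Units.val_one]
    exact Cfsg.Agent.Helper11.PSL34.cube_eq_one hF u.ne_zero
  rw [htop, Nat.card_congr Subgroup.topEquiv.toEquiv, Nat.card_units, Nat.card_eq_fintype_card, hF]

theorem card_psl34 (hF : Fintype.card F = 4) :
    Nat.card (Matrix.ProjectiveSpecialLinearGroup (Fin 3) F) = 20160 := by
  have h1 := Subgroup.card_eq_card_quotient_mul_card_subgroup
    (Subgroup.center (SpecialLinearGroup (Fin 3) F))
  have h3 : Nat.card (SpecialLinearGroup (Fin 3) F) = 60480 := by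
    rw [Cfsg.Agent.Helper12.SLCardDvd.card_SL_succ 2, hF]
    norm_num [Finset.prod_range_succ]
  rw [h3, card_center hF] at h1
  show Nat.card (SpecialLinearGroup (Fin 3) F ⧸ Subgroup.center (SpecialLinearGroup (Fin 3) F)) = _
  omega

end psl

end Cfsg.Agent.Helper11.L34
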