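import Mathlib
import Cfsg.Agent.Helper19.TCR.StaticDefs

/-! Code-level arithmetic of the field with twenty-five elements (`i ^ 2 = 2`, code `a + 5 b` for
`a + b i`), `3 × 3` matrices of codes with forced products, vectors coded by a number below `25 ^ 3`,
and their evaluation in a field of characteristic five containing such an `i`
(after `U43Code`). -/

set_option autoImplicit false

namespace Cfsg.Agent.Helper11.U35

open Cfsg.Agent.Helper19.TCS

/-- digits of a code. -/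
def d0 (n : ℕ) : ℕ := n % 5
def d1 (n : ℕ) : ℕ := n / 5 % 5

/-- code from two digits (reduced mod five). -/
def pack (r0 r1 : ℕ) : ℕ := r0 % 5 + 5 * (r1 % 5)

/-- addition of codes. -/
def cadd (x y : ℕ) : ℕ := pack (d0 x + d0 y) (d1 x + d1 y)

/-- multiplication of codes, modulo `i ^ 2 = 2`. -/
def cmul (x y : ℕ) : ℕ :=
  pack (d0 x * d0 y + 2 * (d1 x * d1 y)) (d0 x * d1 y + d1 x * d0 y)

/-- conjugation `a + b i ↦ a - b i` (the Frobenius `x ↦ x ^ 5`). -/
def cconj (x : ℕ) : ℕ := pack (d0 x) (4 * d1 x)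

/-- subtraction of codes. -/
def csub (x y : ℕ) : ℕ := pack (d0 x + 4 * d0 y) (d1 x + 4 * d1 y)

theorem d0_pack (r0 r1 : ℕ) : d0 (pack r0 r1) = r0 % 5 := by unfold d0 pack; omega
theorem d1_pack (r0 r1 : ℕ) : d1 (pack r0 r1) = r1 % 5 := by unfold d1 pack; omega
theorem pack_lt (r0 r1 : ℕ) : pack r0 r1 < 25 := by unfold pack; omega
theorem cadd_lt (x y : ℕ) : cadd x y < 25 := pack_lt _ _
theorem cmul_lt (x y : ℕ) : cmul x y < 25 := pack_lt _ _
theorem csub_eq_zero : ∀ m < 25, ∀ n < 25, csub m n = 0 → m = n := by decide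

section ev

variable {F : Type*} [Field F]

/-- evaluation of a code at `i`. -/
def ev (i : F) (n : ℕ) : F := (d0 n : F) + (d1 n : F) * i

theorem cast_mod_five (h5 : (5 : F) = 0) (n : ℕ) : ((n % 5 : ℕ) : F) = (n : F) := by
  obtain ⟨q, r, hn, hr⟩ : ∃ q r, n = 5 * q + r ∧ n % 5 = r :=
    ⟨n / 5, n % 5, (Nat.div_add_mod n 5).symm, rfl⟩
  rw [hr, hn]
  push_cast
  rw [h5]
  ring

theorem ev_pack (h5 : (5 : F) = 0) (i : F) (r0 r1 : ℕ) :
    ev i (pack r0 r1) = (r0 : F) + (r1 : F) * i := by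
  unfold ev
  rw [d0_pack, d1_pack, cast_mod_five h5, cast_mod_five h5]

theorem ev_add (h5 : (5 : F) = 0) (i : F) (x y : ℕ) : ev i (cadd x y) = ev i x + ev i y := by
  unfold cadd
  rw [ev_pack h5]
  unfold ev
  push_cast
  ring

theorem ev_sub (h5 : (5 : F) = 0) (i : F) (x y : ℕ) : ev i (csub x y) = ev i x - ev i y := by
  unfold csub
  rw [ev_pack h5]
  unfold ev
  push_cast
  linear_combination ((d0 y : F) + (d1 y : F) * i) * h5

theorem ev_mul (h5 : (5 : F) = 0) {i : F} (hi : i ^ 2 = 2) (x y : ℕ) :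
    ev i (cmul x y) = ev i x * ev i y := by
  unfold cmul
  rw [ev_pack h5]
  unfold ev
  push_cast
  linear_combination (-((d1 x : F) * (d1 y : F))) * hi

theorem digit_pow5 (h5 : (5 : F) = 0) (k : ℕ) (hk : k < 5) : ((k : ℕ) : F) ^ 5 = (k : F) := by
  interval_cases k
  · simp
  · simp
  · push_cast
    linear_combination 6 * h5
  · push_cast
    linear_combination 48 * h5
  · push_cast
    linear_combination 204 * h5

theorem add_pow5 (h5 : (5 : F) = 0) (x y : F) : (x + y) ^ 5 = x ^ 5 + y ^ 5 := by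
  linear_combination (x ^ 4 * y + 2 * x ^ 3 * y ^ 2 + 2 * x ^ 2 * y ^ 3 + x * y ^ 4) * h5

theorem ev_conj (h5 : (5 : F) = 0) {i : F} (hi : i ^ 2 = 2) (x : ℕ) :
    ev i (cconj x) = ev i x ^ 5 := by
  unfold cconj
  rw [ev_pack h5]
  unfold ev
  have ha := digit_pow5 h5 (d0 x) (Nat.mod_lt _ (by norm_num))
  have hb := digit_pow5 h5 (d1 x) (Nat.mod_lt _ (by norm_num))
  have hi5 : i ^ 5 = 4 * i := by
    have : i ^ 5 = (i ^ 2) ^ 2 * i := by ring
    rw [this, hi]
    ring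
  rw [add_pow5 h5, mul_pow, ha, hb, hi5]
  push_cast
  ring

theorem ev_zero (i : F) : ev i 0 = 0 := by simp [ev, d0, d1]
theorem ev_one (i : F) : ev i 1 = 1 := by simp [ev, d0, d1]

/-- a code below twenty-five evaluating to zero is zero. -/
theorem eq_zero_of_ev [CharP F 5] {i : F} (hi : i ^ 2 = 2) (n : ℕ) (hn : n < 25)
    (h : ev i n = 0) : n = 0 := by
  unfold ev at h
  have ha : d0 n < 5 := Nat.mod_lt _ (by norm_num)
  have hb : d1 n < 5 := Nat.mod_lt _ (by norm_num)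
  have key : ((d0 n * d0 n + 3 * (d1 n * d1 n) : ℕ) : F) = 0 := by
    have h5 : (5 : F) = 0 := by
      have := CharP.cast_eq_zero F 5
      exact_mod_cast this
    push_cast
    linear_combination ((d0 n : F) - (d1 n : F) * i) * h + (d1 n : F) ^ 2 * hi + (d1 n : F) ^ 2 * h5
  have hdvd : 5 ∣ d0 n * d0 n + 3 * (d1 n * d1 n) := (CharP.cast_eq_zero_iff F 5 _).mp key
  have h0 : d0 n = 0 ∧ d1 n = 0 := by
    generalize d0 n = a at ha hdvd
    generalize d1 n = b at hb hdvd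
    interval_cases a <;> interval_cases b <;> omega
  unfold d0 d1 at h0
  omega

theorem five_eq_zero [CharP F 5] : (5 : F) = 0 := by
  have := CharP.cast_eq_zero F 5
  exact_mod_cast this

theorem ev_inj [CharP F 5] {i : F} (hi : i ^ 2 = 2) (m n : ℕ) (hm : m < 25) (hn : n < 25)
    (h : ev i m = ev i n) : m = n := by
  have h5 : (5 : F) = 0 := five_eq_zero
  have h0 : ev i (csub m n) = 0 := by rw [ev_sub h5, h, sub_self]
  have h1 := eq_zero_of_ev hi (csub m n) (pack_lt _ _) h0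
  exact csub_eq_zero m hm n hn h1

theorem ev_surj [Fintype F] [CharP F 5] (hF : Fintype.card F = 25) {i : F} (hi : i ^ 2 = 2)
    (c : F) : ∃ n, n < 25 ∧ ev i n = c := by
  let f : Fin 25 → F := fun k => ev i k
  have hinj : Function.Injective f := by
    intro a b hab
    exact Fin.ext (ev_inj hi a b a.2 b.2 hab)
  have hbij : Function.Bijective f := by
    rw [Fintype.bijective_iff_injective_and_card]
    exact ⟨hinj, by rw [Fintype.card_fin, hF]⟩
  obtain ⟨k, hk⟩ := hbij.2 c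
  exact ⟨k, k.2, hk⟩

end ev

/-- a `3 × 3` matrix of codes. -/
structure CM where

  a00 : ℕ
  a01 : ℕ
  a02 : ℕ
  a10 : ℕ
  a11 : ℕ
  a12 : ℕ
  a20 : ℕ
  a21 : ℕ
  a22 : ℕ
deriving DecidableEq

/-- the identity matrix of codes. -/
def cone : CM := ⟨1, 0, 0, 0, 1, 0, 0, 0, 1⟩

/-- the scalar matrix of codes. -/
def cscal (c : ℕ) : CM := ⟨c, 0, 0, 0, c, 0, 0, 0, c⟩

/-- a row times a column. -/
def dot3 (a b c e f g : ℕ) : ℕ := cadd (cadd (cmul a e) (cmul b f)) (cmul c g)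

theorem dot3_lt (a b c e f g : ℕ) : dot3 a b c e f g < 25 := cadd_lt _ _

/-- product of code matrices, with forced evaluation of the entries. -/
noncomputable def mmul : CM → CM → CM
  | ⟨a00, a01, a02, a10, a11, a12, a20, a21, a22⟩, ⟨b00, b01, b02, b10, b11, b12, b20, b21, b22⟩ =>
    force (dot3 a00 a01 a02 b00 b10 b20) fun c00 =>
    force (dot3 a00 a01 a02 b01 b11 b21) fun c01 =>
    force (dot3 a00 a01 a02 b02 b12 b22) fun c02 =>
    force (dot3 a10 a11 a12 b00 b10 b20) fun c10 =>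
    force (dot3 a10 a11 a12 b01 b11 b21) fun c11 =>
    force (dot3 a10 a11 a12 b02 b12 b22) fun c12 =>
    force (dot3 a20 a21 a22 b00 b10 b20) fun c20 =>
    force (dot3 a20 a21 a22 b01 b11 b21) fun c21 =>
    force (dot3 a20 a21 a22 b02 b12 b22) fun c22 =>
    ⟨c00, c01, c02, c10, c11, c12, c20, c21, c22⟩

/-- transpose. -/
def ctr : CM → CM
  | ⟨a00, a01, a02, a10, a11, a12, a20, a21, a22⟩ => ⟨a00, a10, a20, a01, a11, a21, a02, a12, a22⟩

/-- entrywise conjugation. -/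
def cconjM : CM → CM
  | ⟨a00, a01, a02, a10, a11, a12, a20, a21, a22⟩ => ⟨cconj a00, cconj a01, cconj a02, cconj a10, cconj a11, cconj a12, cconj a20, cconj a21, cconj a22⟩

section evM

variable {F : Type*} [Field F]

/-- evaluation of a matrix of codes. -/
def evM (i : F) (A : CM) : Matrix (Fin 3) (Fin 3) F :=
  !![ev i A.a00, ev i A.a01, ev i A.a02;
     ev i A.a10, ev i A.a11, ev i A.a12;
     ev i A.a20, ev i A.a21, ev i A.a22]

theorem ev_dot3 (h5 : (5 : F) = 0) {i : F} (hi : i ^ 2 = 2) (a b c e f g : ℕ) :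
    ev i (dot3 a b c e f g) = ev i a * ev i e + ev i b * ev i f + ev i c * ev i g := by
  unfold dot3
  rw [ev_add h5, ev_add h5, ev_mul h5 hi, ev_mul h5 hi, ev_mul h5 hi]

theorem evM_one (i : F) : evM i cone = 1 := by
  ext r c
  fin_cases r <;> fin_cases c <;> simp [evM, cone, ev_zero, ev_one]

theorem evM_scal (i : F) (c : ℕ) : evM i (cscal c) = Matrix.scalar (Fin 3) (ev i c) := by
  ext r s
  fin_cases r <;> fin_cases s <;> simp [evM, cscal, ev_zero]

theorem evM_mul (h5 : (5 : F) = 0) {i : F} (hi : i ^ 2 = 2) (A B : CM) :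
    evM i (mmul A B) = evM i A * evM i B := by
  obtain ⟨a00, a01, a02, a10, a11, a12, a20, a21, a22⟩ := A
  obtain ⟨b00, b01, b02, b10, b11, b12, b20, b21, b22⟩ := B
  ext r s
  fin_cases r <;> fin_cases s <;>
    simp [evM, mmul, force_eq, ev_dot3 h5 hi, Matrix.mul_apply, Fin.sum_univ_three]

theorem evM_ctr (i : F) (A : CM) : evM i (ctr A) = (evM i A).transpose := by
  obtain ⟨a00, a01, a02, a10, a11, a12, a20, a21, a22⟩ := A
  ext r s
  fin_cases r <;> fin_cases s <;> simp [evM, ctr]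

theorem evM_conj (h5 : (5 : F) = 0) {i : F} (hi : i ^ 2 = 2) (A : CM) :
    evM i (cconjM A) = (evM i A).map (fun x => x ^ 5) := by
  obtain ⟨a00, a01, a02, a10, a11, a12, a20, a21, a22⟩ := A
  ext r s
  fin_cases r <;> fin_cases s <;> simp [evM, cconjM, ev_conj h5 hi]

end evM

/-- code-level word product, in the convention `prodw (l :: w) = prodw w * g l`. -/
noncomputable def cprodw (G : ℕ → CM) : List ℕ → CM
  | [] => cone
  | l :: w => mmul (cprodw G w) (G l)

/-! ### Vectors, coded by a number below `25 ^ 3` -/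

/-- matrix times vector. -/
noncomputable def mvec : CM → ℕ → ℕ
  | ⟨a00, a01, a02, a10, a11, a12, a20, a21, a22⟩, n =>
    force (n % 25) fun v0 => force (n / 25 % 25) fun v1 => force (n / 625 % 25) fun v2 =>
    force (dot3 a00 a01 a02 v0 v1 v2) fun c0 =>
    force (dot3 a10 a11 a12 v0 v1 v2) fun c1 =>
    force (dot3 a20 a21 a22 v0 v1 v2) fun c2 =>
    c0 + 25 * c1 + 625 * c2

/-- the code of `h(v, v)`. -/
def cherm (n : ℕ) : ℕ :=
  cadd (cadd (cmul (n % 25) (cconj (n % 25))) (cmul (n / 25 % 25) (cconj (n / 25 % 25))))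
    (cmul (n / 625 % 25) (cconj (n / 625 % 25)))

theorem cherm_lt (n : ℕ) : cherm n < 25 := cadd_lt _ _

section evV

variable {F : Type*} [Field F]

/-- evaluation of a coded vector. -/
def evV (i : F) (n : ℕ) : Fin 3 → F :=
  ![ev i (n % 25), ev i (n / 25 % 25), ev i (n / 625 % 25)]

theorem evV_mvec (h5 : (5 : F) = 0) {i : F} (hi : i ^ 2 = 2) (A : CM) (n : ℕ) :
    evV i (mvec A n) = Matrix.mulVec (evM i A) (evV i n) := by
  obtain ⟨a00, a01, a02, a10, a11, a12, a20, a21, a22⟩ := A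
  have e0 := dot3_lt a00 a01 a02 (n % 25) (n / 25 % 25) (n / 625 % 25)
  have e1 := dot3_lt a10 a11 a12 (n % 25) (n / 25 % 25) (n / 625 % 25)
  have e2 := dot3_lt a20 a21 a22 (n % 25) (n / 25 % 25) (n / 625 % 25)
  have g0 := ev_dot3 h5 hi a00 a01 a02 (n % 25) (n / 25 % 25) (n / 625 % 25)
  have g1 := ev_dot3 h5 hi a10 a11 a12 (n % 25) (n / 25 % 25) (n / 625 % 25)
  have g2 := ev_dot3 h5 hi a20 a21 a22 (n % 25) (n / 25 % 25) (n / 625 % 25)
  simp only [mvec, force_eq]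
  generalize dot3 a00 a01 a02 (n % 25) (n / 25 % 25) (n / 625 % 25) = c0 at e0 g0 ⊢
  generalize dot3 a10 a11 a12 (n % 25) (n / 25 % 25) (n / 625 % 25) = c1 at e1 g1 ⊢
  generalize dot3 a20 a21 a22 (n % 25) (n / 25 % 25) (n / 625 % 25) = c2 at e2 g2 ⊢
  have r0 : (c0 + 25 * c1 + 625 * c2) % 25 = c0 := by omega
  have r1 : (c0 + 25 * c1 + 625 * c2) / 25 % 25 = c1 := by omega
  have r2 : (c0 + 25 * c1 + 625 * c2) / 625 % 25 = c2 := by omega
  ext k
  fin_cases k <;>
    simp [evV, evM, r0, r1, r2, g0, g1, g2, Matrix.mulVec, dotProduct, Fin.sum_univ_three]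

theorem evV_surj [Fintype F] [CharP F 5] (hF : Fintype.card F = 25) {i : F} (hi : i ^ 2 = 2)
    (v : Fin 3 → F) : ∃ n, n < 15625 ∧ evV i n = v := by
  obtain ⟨n0, h0, e0⟩ := ev_surj hF hi (v 0)
  obtain ⟨n1, h1, e1⟩ := ev_surj hF hi (v 1)
  obtain ⟨n2, h2, e2⟩ := ev_surj hF hi (v 2)
  refine ⟨n0 + 25 * n1 + 625 * n2, by omega, ?_⟩
  have r0 : (n0 + 25 * n1 + 625 * n2) % 25 = n0 := by omega
  have r1 : (n0 + 25 * n1 + 625 * n2) / 25 % 25 = n1 := by omega
  have r2 : (n0 + 25 * n1 + 625 * n2) / 625 % 25 = n2 := by omega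
  ext k
  fin_cases k <;> simp [evV, r0, r1, r2, e0, e1, e2]

theorem ev_cherm (h5 : (5 : F) = 0) {i : F} (hi : i ^ 2 = 2) (n : ℕ) :
    ev i (cherm n) = ∑ k : Fin 3, evV i n k * evV i n k ^ 5 := by
  unfold cherm
  rw [Fin.sum_univ_three, ev_add h5, ev_add h5, ev_mul h5 hi, ev_mul h5 hi, ev_mul h5 hi,
    ev_conj h5 hi, ev_conj h5 hi, ev_conj h5 hi]
  simp [evV]

end evV

end Cfsg.Agent.Helper11.U35
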