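import Mathlib
import Cfsg.Agent.Helper11.U35Data
import Cfsg.Agent.Helper11.L34Gens
import Cfsg.Agent.Helper2.UnitarySU
import Cfsg.Agent.S2644

/-! The two generators of `SU₃(5)` (over any field with twenty-five elements) as evaluated code
matrices: determinant, unitarity, words, the relators are scalar, a word is a unitary transvection. -/

set_option autoImplicit false
set_option linter.all false

namespace Cfsg.Agent.Helper11.U35

open Matrix Cfsg.Agent.Helper19.TCS Cfsg.Agent.Helper19.Schur

/-! ### code-level checks -/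

theorem cX_cXi : mmul cX cXi = cone := by decide +kernel
theorem cY_cYi : mmul cY cYi = cone := by decide +kernel
theorem cX_unitary : mmul (ctr cX) (cconjM cX) = cone := by decide +kernel
theorem cY_unitary : mmul (ctr cY) (cconjM cY) = cone := by decide +kernel
theorem crels : ∀ w ∈ rels, cprodw cG w = cscal 1 ∨ cprodw cG w = cscal 12 ∨
    cprodw cG w = cscal 17 := by
  decide +kernel

/-- determinant of a code matrix. -/
def cdet : CM → ℕ
  | ⟨a00, a01, a02, a10, a11, a12, a20, a21, a22⟩ =>
    cadd (csub (cadd (csub (csub (cmul (cmul a00 a11) a22) (cmul (cmul a00 a12) a21))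
      (cmul (cmul a01 a10) a22)) (cmul (cmul a01 a12) a20)) (cmul (cmul a02 a11) a20))
      (cmul (cmul a02 a10) a21)

theorem cX_det : cdet cX = 1 := by decide +kernel
theorem cY_det : cdet cY = 1 := by decide +kernel

/-- the code matrix of the unitary transvection with centre `n` and scalar `c`. -/
def ctransv (n c : ℕ) : CM :=
  ⟨cadd 1 (cmul c (cmul (n % 25) (cconj (n % 25)))), cadd 0 (cmul c (cmul (n % 25) (cconj (n / 25 % 25)))), cadd 0 (cmul c (cmul (n % 25) (cconj (n / 625 % 25)))),
   cadd 0 (cmul c (cmul (n / 25 % 25) (cconj (n % 25)))), cadd 1 (cmul c (cmul (n / 25 % 25) (cconj (n / 25 % 25)))), cadd 0 (cmul c (cmul (n / 25 % 25) (cconj (n / 625 % 25)))),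
   cadd 0 (cmul c (cmul (n / 625 % 25) (cconj (n % 25)))), cadd 0 (cmul c (cmul (n / 625 % 25) (cconj (n / 25 % 25)))), cadd 1 (cmul c (cmul (n / 625 % 25) (cconj (n / 625 % 25))))⟩

theorem cW0 : cprodw cG W0 = ctransv n0 c0 := by decide +kernel
theorem cherm_n0 : cherm n0 = 0 := by decide +kernel

/-! ### evaluation -/

section field

variable {F : Type*} [Field F]

theorem det_evM (h5 : (5 : F) = 0) {i : F} (hi : i ^ 2 = 2) (A : CM) :
    (evM i A).det = ev i (cdet A) := by
  obtain ⟨a00, a01, a02, a10, a11, a12, a20, a21, a22⟩ := A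
  unfold evM
  rw [Matrix.det_fin_three]
  simp only [cdet, ev_add h5, ev_sub h5, ev_mul h5 hi]
  simp only [Matrix.of_apply, Matrix.cons_val', Matrix.cons_val_zero, Matrix.cons_val_one,
    Matrix.cons_val, Matrix.empty_val', Matrix.cons_val_fin_one]
  ring

theorem evM_ctransv (h5 : (5 : F) = 0) {i : F} (hi : i ^ 2 = 2) (n c : ℕ) :
    evM i (ctransv n c) = Cfsg.unitaryTransvection 3 5 (evV i n) (ev i c) := by
  ext r s
  fin_cases r <;> fin_cases s <;>
    simp [ctransv, evM, evV, Cfsg.unitaryTransvection, Matrix.vecMulVec, ev_add h5, ev_mul h5 hi,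
      ev_conj h5 hi, ev_zero, ev_one, Matrix.one_apply]

theorem isON_of (h5 : (5 : F) = 0) {i : F} (hi : i ^ 2 = 2) (A : CM)
    (hA : mmul (ctr A) (cconjM A) = cone) :
    Cfsg.Agent.Helper2.Herm.IsON 5 (Cfsg.Agent.Helper2.Herm.cols (evM i A)) := by
  have key : (evM i A).transpose * (evM i A).map (fun x => x ^ 5) = 1 := by
    rw [← evM_ctr, ← evM_conj h5 hi, ← evM_mul h5 hi, hA, evM_one]
  intro j k
  have h1 := congrFun (congrFun key j) k
  rw [Matrix.mul_apply, Matrix.one_apply] at h1
  simp only [Matrix.transpose_apply, Matrix.map_apply] at h1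
  unfold Cfsg.hermForm Cfsg.Agent.Helper2.Herm.cols
  exact h1

end field

section group

variable {F : Type*} [Field F] [Fintype F] [CharP F 5] (hF : Fintype.card F = 5 ^ 2) {i : F}
  (hi : i ^ 2 = 2)

local notation "tm" => Cfsg.Agent.S2644.toM F 3 5

include hF hi in
theorem mem_SU_of (A : CM) (hdet : cdet A = 1) (hA : mmul (ctr A) (cconjM A) = cone) :
    ∃ g : Cfsg.SU 3 F 5, tm g = evM i A := by
  have h5 : (5 : F) = 0 := five_eq_zero
  have hd : (evM i A).det = 1 := by rw [det_evM h5 hi, hdet, ev_one]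
  let s : Matrix.SpecialLinearGroup (Fin 3) F := ⟨evM i A, hd⟩
  have hs : s ∈ Cfsg.SU 3 F 5 := by
    rw [Cfsg.Agent.Helper2.Herm.mem_SU_iff, Cfsg.Agent.Helper2.Herm.mem_GU_iff hF]
    exact isON_of h5 hi A hA
  exact ⟨⟨s, hs⟩, rfl⟩

/-- the generator of order ten (modulo scalars). -/
noncomputable def gX : Cfsg.SU 3 F 5 := (mem_SU_of hF hi cX cX_det cX_unitary).choose

/-- the generator of order seven. -/
noncomputable def gY : Cfsg.SU 3 F 5 := (mem_SU_of hF hi cY cY_det cY_unitary).choose

theorem mat_gX : tm (gX hF hi) = evM i cX := (mem_SU_of hF hi cX cX_det cX_unitary).choose_spec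

theorem mat_gY : tm (gY hF hi) = evM i cY := (mem_SU_of hF hi cY cY_det cY_unitary).choose_spec

include hi in
theorem mat_inv_of {g : Cfsg.SU 3 F 5} {c ci : CM} (hg : tm g = evM i c)
    (hc : mmul c ci = cone) : tm g⁻¹ = evM i ci := by
  have h5 : (5 : F) = 0 := five_eq_zero
  have h1 : tm g * evM i ci = 1 := by rw [hg, ← evM_mul h5 hi, hc, evM_one]
  have h4 : tm g⁻¹ * tm g = 1 := by rw [← map_mul, inv_mul_cancel, map_one]
  calc tm g⁻¹ = tm g⁻¹ * (tm g * evM i ci) := by rw [h1, mul_one]
    _ = (tm g⁻¹ * tm g) * evM i ci := by rw [Matrix.mul_assoc]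
    _ = evM i ci := by rw [h4, one_mul]

theorem mat_gc2 (l : ℕ) : tm (gc2 (gX hF hi) (gY hF hi) l) = evM i (cG l) := by
  match l with
  | 0 => exact mat_gX hF hi
  | 1 => exact mat_inv_of hi (mat_gX hF hi) cX_cXi
  | 2 => exact mat_gY hF hi
  | 3 => exact mat_inv_of hi (mat_gY hF hi) cY_cYi
  | (n + 4) => exact (map_one _).trans (evM_one i).symm

theorem mat_prodw (w : List ℕ) :
    tm (prodw (gc2 (gX hF hi) (gY hF hi)) w) = evM i (cprodw cG w) := by
  have h5 : (5 : F) = 0 := five_eq_zero
  induction w with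
  | nil => exact (map_one _).trans (evM_one i).symm
  | cons l w ih =>
    show tm (prodw (gc2 (gX hF hi) (gY hF hi)) w * gc2 (gX hF hi) (gY hF hi) l) =
      evM i (mmul (cprodw cG w) (cG l))
    rw [map_mul, evM_mul h5 hi, ih, mat_gc2]

/-- the relator words are scalar matrices, hence central. -/
theorem rels_center : ∀ w ∈ rels, prodw (gc2 (gX hF hi) (gY hF hi)) w ∈
    Subgroup.center (Cfsg.SU 3 F 5) := by
  intro w hw
  have key : ∀ c : ℕ, cprodw cG w = cscal c →
      prodw (gc2 (gX hF hi) (gY hF hi)) w ∈ Subgroup.center (Cfsg.SU 3 F 5) := by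
    intro c he
    rw [Subgroup.mem_center_iff]
    intro h
    apply Cfsg.Agent.S2644.toM_injective
    have h1 := mat_prodw hF hi w
    rw [he, evM_scal] at h1
    rw [map_mul, map_mul, h1]
    exact (Matrix.scalar_commute (ev i c) (fun r => Commute.all _ _) (tm h)).symm.eq
  rcases crels w hw with h | h | h
  · exact key 1 h
  · exact key 12 h
  · exact key 17 h

end group

end Cfsg.Agent.Helper11.U35
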