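import Mathlib
import Cfsg.Agent.S0780
import Cfsg.Agent.S0781
import Cfsg.Agent.S2644
import Cfsg.Agent.Helper11.U35Data

/-! Generation of `SU₃(5)`: a subgroup containing one unitary transvection and transitive on the
isotropic points is everything (after helper2's `U43GEN`); the submonoid generated by the four
letter matrices moves the base isotropic vector `n0` to every non-zero isotropic vector (one
kernel-checked walk, after helper2's `U43TRANS`). -/

set_option autoImplicit false
set_option linter.all false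

namespace Cfsg.Agent.Helper11.U35

open Matrix Cfsg.Agent.S2644 Cfsg.Agent.Helper19.TCS

theorem mem_prime_of_pow5 {F : Type*} [Field F] (h5 : (5 : F) = 0) (k : F) (hk : k ^ 5 = k) :
    k = 0 ∨ k = 1 ∨ k = 2 ∨ k = 3 ∨ k = 4 := by
  have h : k * ((k - 1) * ((k - 2) * ((k - 3) * (k - 4)))) = 0 := by
    linear_combination hk + (-2 * k ^ 4 + 7 * k ^ 3 - 10 * k ^ 2 + 5 * k) * h5
  rcases mul_eq_zero.mp h with h | h
  · exact Or.inl h
  rcases mul_eq_zero.mp h with h | h
  · exact Or.inr (Or.inl (sub_eq_zero.mp h))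
  rcases mul_eq_zero.mp h with h | h
  · exact Or.inr (Or.inr (Or.inl (sub_eq_zero.mp h)))
  rcases mul_eq_zero.mp h with h | h
  · exact Or.inr (Or.inr (Or.inr (Or.inl (sub_eq_zero.mp h))))
  · exact Or.inr (Or.inr (Or.inr (Or.inr (sub_eq_zero.mp h))))

theorem eq_top_of_transvection {F : Type*} [Field F] [Fintype F] (hF : Fintype.card F = 5 ^ 2)
    (h5 : (5 : F) = 0)
    (H : Subgroup (Cfsg.SU 3 F 5)) (v0 : Fin 3 → F) (c0 : F)
    (hiso : Cfsg.hermForm 3 F 5 v0 v0 = 0) (hc0 : c0 ≠ 0) (hskew : c0 ^ 5 = -c0)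
    (hT : ∃ g ∈ H, Cfsg.Agent.S2644.toM F 3 5 g = Cfsg.unitaryTransvection 3 5 v0 c0)
    (htrans : ∀ v : Fin 3 → F, v ≠ 0 → Cfsg.hermForm 3 F 5 v v = 0 →
      ∃ g ∈ H, ∃ a : F, a ≠ 0 ∧ Matrix.mulVec (Cfsg.Agent.S2644.toM F 3 5 g) v0 = a • v) : H = ⊤ := by
  classical
  obtain ⟨σ, hσ, hσ2⟩ := Cfsg.Agent.Helper28.exists_frob hF
  rw [eq_top_iff, ← Cfsg.Agent.S0780.result hF 3 (by norm_num) (by norm_num), Subgroup.closure_le]
  rintro A ⟨v, c, hv, hA⟩
  have hA' : toM F 3 5 A = Cfsg.unitaryTransvection 3 5 v c := hA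
  show A ∈ H
  by_cases hv0 : v = 0
  · have : A = 1 := by
      apply toM_injective
      rw [hA', hv0, Cfsg.Agent.S0781.T_zero_vec, map_one]
    rw [this]
    exact one_mem H
  by_cases hc : c = 0
  · have : A = 1 := by
      apply toM_injective
      rw [hA', hc, Cfsg.Agent.S0781.T_zero_coeff, map_one]
    rw [this]
    exact one_mem H
  have hPT : Pres (q := 5) (Cfsg.unitaryTransvection 3 5 v c) := by
    rw [← hA']
    exact toM_pres A
  have hcs : c ^ 5 = -c := Cfsg.Agent.S0781.skew_of_Pres σ hσ hσ2 v c hv0 hv hPT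
  obtain ⟨g, hgH, a, ha, hga⟩ := htrans v hv0 hv
  obtain ⟨t, htH, htM⟩ := hT
  set B : Cfsg.SU 3 F 5 := g * t * g⁻¹ with hB
  have hBH : B ∈ H := H.mul_mem (H.mul_mem hgH htH) (H.inv_mem hgH)
  have hBM : toM F 3 5 B = Cfsg.unitaryTransvection 3 5 v (c0 * a ^ (5 + 1)) := by
    rw [hB, map_mul, map_mul, htM, T_conj _ (toM_pres g), hga, Matrix.mul_assoc, ← map_mul,
      mul_inv_cancel, map_one, Matrix.mul_one, T_smul]
  set c1 : F := c0 * a ^ (5 + 1) with hc1
  have hPT1 : Pres (q := 5) (Cfsg.unitaryTransvection 3 5 v c1) := by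
    rw [← hBM]
    exact toM_pres B
  have hc1s : c1 ^ 5 = -c1 := Cfsg.Agent.S0781.skew_of_Pres σ hσ hσ2 v c1 hv0 hv hPT1
  have hc1ne : c1 ≠ 0 := mul_ne_zero hc0 (pow_ne_zero _ ha)
  -- powers of `B`
  have hpow : ∀ m : ℕ, toM F 3 5 (B ^ m) = Cfsg.unitaryTransvection 3 5 v ((m : F) * c1) := by
    intro m
    induction m with
    | zero => rw [pow_zero, map_one, Nat.cast_zero, zero_mul, Cfsg.Agent.S0781.T_zero_coeff]
    | succ m ih =>
      rw [pow_succ, map_mul, ih, hBM, Cfsg.Agent.S0781.T_mul σ hσ v _ c1 hv]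
      congr 1
      push_cast
      ring
  -- `c / c1` lies in the prime field
  set k : F := c / c1 with hk
  have hkc : c = k * c1 := by rw [hk, div_mul_cancel₀ _ hc1ne]
  have hk5 : k ^ 5 = k := by
    rw [hk, div_pow, hcs, hc1s, neg_div_neg_eq]
  have hmem : ∀ m : ℕ, c = (m : F) * c1 → A ∈ H := by
    intro m hm
    have : A = B ^ m := by
      apply toM_injective
      rw [hA', hpow, hm]
    rw [this]
    exact H.pow_mem hBH m
  rcases mem_prime_of_pow5 h5 k hk5 with h | h | h | h | h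
  · exact hmem 0 (by rw [hkc, h]; push_cast; ring)
  · exact hmem 1 (by rw [hkc, h]; push_cast; ring)
  · exact hmem 2 (by rw [hkc, h]; push_cast; ring)
  · exact hmem 3 (by rw [hkc, h]; push_cast; ring)
  · exact hmem 4 (by rw [hkc, h]; push_cast; ring)

/-! ### the walk -/

/-- follow the walk, accumulating the bit mask of the visited codes. -/
noncomputable def walkMask : List ℕ → ℕ → ℕ → ℕ
  | [], _, m => m
  | l :: w, n, m =>
    force (mvec (cG l) n) fun n' => force (m ||| 2 ^ n') fun m' => walkMask w n' m'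

/-- the final test: every non-zero isotropic code below `25 ^ 3` has its bit set. -/
def allIso (M : ℕ) : Bool :=
  (List.range 15625).all fun n => n == 0 || !(cherm n == 0) || M.testBit n

theorem walkMask_spec (R : ℕ → Prop) (step : ∀ l n, l < 4 → R n → R (mvec (cG l) n)) :
    ∀ (w : List ℕ) (n m : ℕ), (∀ l ∈ w, l < 4) → R n → (∀ k, m.testBit k = true → R k) →
      ∀ k, (walkMask w n m).testBit k = true → R k := by
  intro w
  induction w with
  | nil =>
    intro n m _ _ hm k hk
    exact hm k hk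
  | cons l w ih =>
    intro n m hw hn hm k hk
    simp only [walkMask, force_eq] at hk
    have hl : l < 4 := hw l (List.mem_cons_self)
    have hn' : R (mvec (cG l) n) := step l n hl hn
    refine ih (mvec (cG l) n) (m ||| 2 ^ mvec (cG l) n)
      (fun l' hl' => hw l' (List.mem_cons_of_mem _ hl')) hn' ?_ k hk
    intro k' hk'
    rw [Nat.testBit_or, Bool.or_eq_true] at hk'
    rcases hk' with h | h
    · exact hm k' h
    · rw [Nat.testBit_two_pow, decide_eq_true_eq] at h
      rw [← h]; exact hn'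

theorem letters_ok : walkW.all (fun l => decide (l < 4)) = true := by decide +kernel

theorem walk_check : allIso (walkMask walkW n0 (2 ^ n0)) = true := by decide +kernel

theorem trans_of_codes {F : Type*} [Field F] [Fintype F] [CharP F 5] (hF : Fintype.card F = 25)
    {i : F} (hi : i ^ 2 = 2) (S : Submonoid (Matrix (Fin 3) (Fin 3) F))
    (hG : ∀ l, l < 4 → evM i (cG l) ∈ S) :
    ∀ v : Fin 3 → F, v ≠ 0 → Cfsg.hermForm 3 F 5 v v = 0 →
      ∃ A ∈ S, Matrix.mulVec A (evV i n0) = v := by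
  have h5 : (5 : F) = 0 := five_eq_zero
  intro v hv hherm
  obtain ⟨n, hn, rfl⟩ := evV_surj hF hi v
  have hn0 : n ≠ 0 := by
    rintro rfl
    apply hv
    ext k
    fin_cases k <;> simp [evV, ev_zero]
  have hc : cherm n = 0 := by
    apply eq_zero_of_ev hi (cherm n) (cherm_lt n)
    rw [ev_cherm h5 hi]
    exact hherm
  let R : ℕ → Prop := fun k => ∃ A ∈ S, Matrix.mulVec A (evV i n0) = evV i k
  have step : ∀ l k, l < 4 → R k → R (mvec (cG l) k) := by
    rintro l k hl ⟨A, hA, hAk⟩
    refine ⟨evM i (cG l) * A, S.mul_mem (hG l hl) hA, ?_⟩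
    rw [evV_mvec h5 hi, ← hAk, Matrix.mulVec_mulVec]
  have hR0 : R n0 := ⟨1, S.one_mem, Matrix.one_mulVec _⟩
  have hlet : ∀ l ∈ walkW, l < 4 := by
    intro l hl
    have := List.all_eq_true.mp letters_ok l hl
    exact of_decide_eq_true this
  have hmask := walkMask_spec R step walkW n0 (2 ^ n0) hlet hR0 (by
    intro k hk
    rw [Nat.testBit_two_pow, decide_eq_true_eq] at hk
    rw [← hk]; exact hR0)
  have hall := walk_check
  unfold allIso at hall
  rw [List.all_eq_true] at hall
  have hn' := hall n (List.mem_range.mpr hn)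
  simp only [Bool.or_eq_true, beq_iff_eq, Bool.not_eq_true', beq_eq_false_iff_ne] at hn'
  rcases hn' with (h | h) | h
  · exact absurd h hn0
  · exact absurd hc h
  · exact hmask n h

end Cfsg.Agent.Helper11.U35
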