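import Mathlib
import Cfsg.Agent.Helper11.U35Gens
import Cfsg.Agent.Helper11.U35Trans
import Cfsg.Agent.Helper2.UnitaryCenter

/-! `PSU₃(5)` is generated by two elements satisfying helper11's seven relators; its order. -/

set_option autoImplicit false
set_option linter.all false

namespace Cfsg.Agent.Helper11.U35

open Matrix Cfsg.Agent.Helper19.TCS Cfsg.Agent.Helper19.Schur

section gen

variable {F : Type*} [Field F] [Fintype F] [CharP F 5] (hF : Fintype.card F = 5 ^ 2) {i : F}
  (hi : i ^ 2 = 2)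

local notation "tm" => Cfsg.Agent.S2644.toM F 3 5

theorem closure_SU_eq_top :
    Subgroup.closure {gX hF hi, gY hF hi} = (⊤ : Subgroup (Cfsg.SU 3 F 5)) := by
  have h5 : (5 : F) = 0 := five_eq_zero
  have hF25 : Fintype.card F = 25 := by rw [hF]; norm_num
  set H : Subgroup (Cfsg.SU 3 F 5) := Subgroup.closure {gX hF hi, gY hF hi} with hH
  apply eq_top_of_transvection hF h5 H (evV i n0) (ev i c0)
  · -- isotropic
    have := ev_cherm h5 hi n0
    rw [cherm_n0, ev_zero] at this
    unfold Cfsg.hermForm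
    exact this.symm
  · -- c0 ≠ 0
    intro h0
    have := eq_zero_of_ev hi c0 (by decide) h0
    exact absurd this (by decide)
  · -- skew
    have e1 : ev i (cconj c0) = ev i c0 ^ 5 := ev_conj h5 hi c0
    have e2 : ev i (cadd (cconj c0) c0) = ev i (cconj c0) + ev i c0 := ev_add h5 i _ _
    have e3 : cadd (cconj c0) c0 = 0 := by decide
    rw [e3, ev_zero] at e2
    rw [← e1]
    linear_combination -e2
  · -- the transvection
    refine ⟨prodw (gc2 (gX hF hi) (gY hF hi)) W0, Cfsg.Agent.Helper11.L34.prodw_mem _ _ _, ?_⟩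
    rw [mat_prodw, cW0, evM_ctransv h5 hi]
  · -- transitivity
    intro v hv hiso
    have hS : ∀ l, l < 4 → evM i (cG l) ∈ Submonoid.map (tm) H.toSubmonoid := by
      intro l _
      refine ⟨gc2 (gX hF hi) (gY hF hi) l, Cfsg.Agent.Helper11.L34.gc2_mem _ _ l, ?_⟩
      exact mat_gc2 hF hi l
    obtain ⟨A, ⟨g, hg, rfl⟩, hA⟩ :=
      trans_of_codes hF25 hi (Submonoid.map (tm) H.toSubmonoid) hS v hv hiso
    exact ⟨g, hg, 1, one_ne_zero, by rw [one_smul]; exact hA⟩

end gen

section psu

variable {F : Type*} [Field F] [Fintype F]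

theorem charP_five_of_card (hF : Fintype.card F = 25) : CharP F 5 := by
  obtain ⟨p, hc, n, hp, hn⟩ := FiniteField.card' F
  rw [hF] at hn
  have h2 : p ∣ 25 := by rw [hn]; exact dvd_pow_self p n.ne_zero
  have h3 : p = 5 := by
    have : p ∣ 5 ^ 2 := by norm_num; exact h2
    exact (Nat.prime_dvd_prime_iff_eq hp Nat.prime_five).1 (hp.dvd_of_dvd_pow this)
  subst h3
  exact hc

/-- the projection onto the projective special unitary group. -/
def pr : Cfsg.SU 3 F 5 →* Cfsg.PSU 3 F 5 :=
  QuotientGroup.mk' (Subgroup.center (Cfsg.SU 3 F 5))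

theorem pr_surjective : Function.Surjective (pr : Cfsg.SU 3 F 5 →* Cfsg.PSU 3 F 5) :=
  QuotientGroup.mk'_surjective _

theorem exists_sqrt_two (hF : Fintype.card F = 25) : ∃ i : F, i ^ 2 = 2 := by
  haveI : CharP F 5 := charP_five_of_card hF
  have h5 : (5 : F) = 0 := five_eq_zero
  have hchar : ringChar F ≠ 2 := by
    rw [ringChar.eq F 5]
    norm_num
  have h2 : (2 : F) ≠ 0 := by
    intro h
    have : ((2 : ℕ) : F) = 0 := by exact_mod_cast h
    rw [CharP.cast_eq_zero_iff F 5] at this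
    omega
  have h1 : IsSquare (2 : F) := by
    rw [FiniteField.isSquare_iff hchar h2, hF]
    norm_num
    linear_combination 819 * h5
  obtain ⟨r, hr⟩ := h1
  exact ⟨r, by rw [hr]; ring⟩

theorem exists_gens (hF : Fintype.card F = 25) :
    ∃ x y : Cfsg.PSU 3 F 5,
      Subgroup.closure {x, y} = (⊤ : Subgroup (Cfsg.PSU 3 F 5)) ∧
      ∀ w ∈ rels, prodw (gc2 x y) w = 1 := by
  haveI : CharP F 5 := charP_five_of_card hF
  have hF' : Fintype.card F = 5 ^ 2 := by rw [hF]; norm_num
  obtain ⟨i, hi⟩ := exists_sqrt_two hF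
  refine ⟨pr (gX hF' hi), pr (gY hF' hi), ?_, ?_⟩
  · have h1 := congrArg (Subgroup.map (pr : Cfsg.SU 3 F 5 →* _)) (closure_SU_eq_top hF' hi)
    rw [MonoidHom.map_closure, Set.image_pair, Subgroup.map_top_of_surjective _ pr_surjective] at h1
    exact h1
  · intro w hw
    rw [Cfsg.Agent.Helper11.L34.prodw_map]
    exact (QuotientGroup.eq_one_iff _).mpr (rels_center hF' hi w hw)

theorem card_PSU35 (hF : Fintype.card F = 25) : Nat.card (Cfsg.PSU 3 F 5) = 126000 := by
  have hF' : Fintype.card F = 5 ^ 2 := by rw [hF]; norm_num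
  have h := Cfsg.Agent.Helper2.Herm.card_PSU_closed (q := 5) hF' 3 (by norm_num)
  have e : ∏ i ∈ Finset.range 3, (if Even i then 5 ^ (i + 1) + 1 else 5 ^ (i + 1) - 1) = 18144 := by
    decide
  rw [e] at h
  norm_num at h
  omega

end psu

end Cfsg.Agent.Helper11.U35
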