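import Mathlib
import Cfsg.Agent.Helper11.RecogPair
import Cfsg.Agent.Helper11.SchU35.Inst
import Cfsg.Agent.Helper11.U35Main
import Cfsg.Agent.S0283

/-! Recognition of `PSU₃(5)`: a group of order `126000` generated by a pair satisfying the seven
relators `U35.rels` is isomorphic to `PSU 3 F 5`, `|F| = 9`. -/

set_option autoImplicit false
set_option linter.all false
set_option maxRecDepth 100000

namespace Cfsg.Agent.Helper11.U35

open Cfsg.Agent.Helper19.TCS Cfsg.Agent.Helper19.Schur

universe u v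

theorem rels_eq_sch : rels = Cfsg.Agent.Helper11.SchU35.rels := by decide

/-- a group of order `126000` generated by two elements satisfying the relators `U35.rels` is
isomorphic to `PSU₃(5)`. -/
theorem nonempty_equiv_PSU35 {H : Type u} [Group H] (hcard : Nat.card H = 126000) (a b : H)
    (hab : Subgroup.closure ({a, b} : Set H) = ⊤) (hrel : ∀ w ∈ rels, prodw (gc2 a b) w = 1)
    {F : Type v} [Field F] [Fintype F] (hF : Fintype.card F = 25) :
    Nonempty (H ≃* Cfsg.PSU 3 F 5) := by
  obtain ⟨x, y, hxy, hrelK⟩ := exists_gens hF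
  refine Cfsg.Agent.Helper11.RecogPair.nonempty_mulEquiv rels 126000 ?_ hcard (card_PSU35 hF)
    a b hab hrel x y hxy hrelK
  intro Δ _ a b h1 h2
  rw [rels_eq_sch] at h2
  exact Cfsg.Agent.Helper11.SchU35.hT1 Δ a b h1 h2

/-- the subgroup generated by a pair `a ≠ 1`, `b` satisfying the relators `U35.rels` is isomorphic
to `PSU₃(5)` (uses the simplicity of `PSU₃(5)`, S0283). -/
theorem nonempty_closure_equiv_PSU35 {X : Type u} [Group X] (a b : X)
    (hrel : ∀ w ∈ rels, prodw (gc2 a b) w = 1) (hne : a ≠ 1)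
    {F : Type v} [Field F] [Fintype F] (hF : Fintype.card F = 25) :
    Nonempty (↥(Subgroup.closure ({a, b} : Set X)) ≃* Cfsg.PSU 3 F 5) := by
  obtain ⟨x, y, hxy, hrelK⟩ := exists_gens hF
  haveI : IsSimpleGroup (Cfsg.PSU 3 F 5) :=
    Cfsg.Agent.S0283.result (q := 5) (by rw [hF]; norm_num) 3 (by norm_num) (by norm_num)
  refine Cfsg.Agent.Helper11.RecogPair.nonempty_mulEquiv_closure rels 126000 ?_ (card_PSU35 hF)
    a b hrel hne x y hxy hrelK
  intro Δ _ a b h1 h2
  rw [rels_eq_sch] at h2
  exact Cfsg.Agent.Helper11.SchU35.hT1 Δ a b h1 h2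

/-- a group of order `126000` containing a pair `a ≠ 1`, `b` satisfying the relators is `PSU₃(5)`. -/
theorem nonempty_equiv_PSU35_of_mem {H : Type u} [Group H] (hcard : Nat.card H = 126000) (a b : H)
    (hrel : ∀ w ∈ rels, prodw (gc2 a b) w = 1) (hne : a ≠ 1)
    {F : Type v} [Field F] [Fintype F] (hF : Fintype.card F = 25) :
    Nonempty (H ≃* Cfsg.PSU 3 F 5) := by
  obtain ⟨e⟩ := nonempty_closure_equiv_PSU35 a b hrel hne hF
  haveI : Finite H := Nat.finite_of_card_ne_zero (by rw [hcard]; norm_num)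
  have hc : Nat.card ↥(Subgroup.closure ({a, b} : Set H)) = 126000 := by
    rw [Nat.card_congr e.toEquiv, card_PSU35 hF]
  have htop : Subgroup.closure ({a, b} : Set H) = ⊤ :=
    Subgroup.eq_top_of_card_eq _ (by rw [hc, hcard])
  exact ⟨(Subgroup.topEquiv.symm.trans (MulEquiv.subgroupCongr htop.symm)).trans e⟩

end Cfsg.Agent.Helper11.U35
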