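import Mathlib
import Cfsg.Agent.Helper11.HS352K
import Cfsg.Agent.Helper11.U35Recog
import Cfsg.Agent.Helper22.HS352

/-! The stabiliser `H50` of helper22's set of fifty points in the permutation model `K` of the
Higman–Sims group on 100 points is isomorphic to `PSU₃(5)`: it has order `126000` and contains a pair
satisfying helper11's presentation of `PSU₃(5)`. -/

set_option autoImplicit false
set_option linter.all false
set_option maxRecDepth 100000
set_option maxHeartbeats 0

namespace Cfsg.Agent.Helper11.HS352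

open Cfsg.Agent.Helper22.PermPack Cfsg.Agent.Helper22.HSKData Cfsg.Agent.Helper22.HSK
  Cfsg.Agent.Helper19.TCS Cfsg.Agent.Helper19.Schur

theorem gens4_good : ∀ y ∈ gens4, Good 100 7 y :=
  fun y hy => good_of_goodB (List.all_eq_true.mp gens4_goodK y hy)

theorem slp1_mem : ∀ e ∈ slp1, Good 100 7 e.1 ∧ P 100 7 e.1 ∈ Grp 100 7 zu :=
  slp_sound zu slp1 zu (fun t ht => ⟨zu_good t ht, P_mem_Grp ht⟩) slp1_okK

/-- the element of order 10 -/
noncomputable def aP : Pm 100 := P 100 7 hsA
/-- its inverse -/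
noncomputable def aiP : Pm 100 := P 100 7 hsAi
/-- the element of order 7 -/
noncomputable def bP : Pm 100 := P 100 7 hsB
/-- its inverse -/
noncomputable def biP : Pm 100 := P 100 7 hsBi

theorem aP_mem : aP ∈ K := by
  have h : ∃ e ∈ slp1, e.1 = hsA := by
    refine ⟨slp1.getD 1 (0, []), by decide, rfl⟩
  obtain ⟨e, he, h1⟩ := h
  have := (slp1_mem e he).2
  rw [h1] at this
  exact this

theorem bP_mem : bP ∈ K := by
  have h : ∃ e ∈ slp1, e.1 = hsB := by
    refine ⟨slp1.getD 3 (0, []), by decide, rfl⟩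
  obtain ⟨e, he, h1⟩ := h
  have := (slp1_mem e he).2
  rw [h1] at this
  exact this

theorem hA : Rep (slot 7 hsA) aP := rep_P (gens4_good hsA (by simp [gens4]))
theorem hAi : Rep (slot 7 hsAi) aiP := rep_P (gens4_good hsAi (by simp [gens4]))
theorem hB : Rep (slot 7 hsB) bP := rep_P (gens4_good hsB (by simp [gens4]))
theorem hBi : Rep (slot 7 hsBi) biP := rep_P (gens4_good hsBi (by simp [gens4]))

theorem aP_mul_aiP : aP * aiP = 1 := by
  apply rep_unique (f := fun i => i) _ rep_one
  apply rep_congr (rep_mul hA hAi)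
  intro i hi
  have := allN_spec inv_okK i hi
  rw [Bool.and_eq_true] at this
  exact (beq_iff.mp this.1).symm

theorem bP_mul_biP : bP * biP = 1 := by
  apply rep_unique (f := fun i => i) _ rep_one
  apply rep_congr (rep_mul hB hBi)
  intro i hi
  have := allN_spec inv_okK i hi
  rw [Bool.and_eq_true] at this
  exact (beq_iff.mp this.2).symm

theorem aiP_eq : aiP = aP⁻¹ := eq_inv_of_mul_eq_one_right aP_mul_aiP

theorem biP_eq : biP = bP⁻¹ := eq_inv_of_mul_eq_one_right bP_mul_biP

theorem m50_eq : m50 = Cfsg.Agent.Helper22.HS352.S50 := rfl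

theorem aP_stab : aP ∈ Cfsg.Agent.Helper22.HS352.stab50 := by
  rw [Cfsg.Agent.Helper22.HS352.mem_stab50]
  intro i
  have h := allN_spec stab_okK i.1 i.2
  rw [Bool.and_eq_true] at h
  rw [hA i, ← m50_eq]
  exact beq_iff_eq.mp h.1

theorem bP_stab : bP ∈ Cfsg.Agent.Helper22.HS352.stab50 := by
  rw [Cfsg.Agent.Helper22.HS352.mem_stab50]
  intro i
  have h := allN_spec stab_okK i.1 i.2
  rw [Bool.and_eq_true] at h
  rw [hB i, ← m50_eq]
  exact beq_iff_eq.mp h.2

theorem aP_ne : aP ≠ 1 := by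
  intro h
  have h1 := hA (⟨0, by norm_num⟩ : Fin 100)
  rw [h] at h1
  have h2 := move_okK
  simp only [Bool.not_eq_true'] at h2
  have h3 : Nat.beq (slot 7 hsA 0) 0 = true := beq_iff.mpr h1.symm
  rw [h3] at h2
  exact absurd h2 (by decide)

/-! ### The relators -/

/-- the table of a letter -/
def tabOf (l : ℕ) : ℕ :=
  match l with
  | 0 => hsA
  | 1 => hsAi
  | 2 => hsB
  | _ => hsBi

/-- the function of a word -/
def wlook : List ℕ → ℕ → ℕ
  | [], i => i
  | a :: w, i => wlook w (slot 7 (tabOf a) i)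

theorem rep_gc2 : ∀ l, l < 4 → Rep (slot 7 (tabOf l)) (gc2 aP bP l) := by
  intro l hl
  interval_cases l
  · exact hA
  · show Rep (slot 7 hsAi) aP⁻¹
    rw [← aiP_eq]
    exact hAi
  · exact hB
  · show Rep (slot 7 hsBi) bP⁻¹
    rw [← biP_eq]
    exact hBi

theorem rep_wlook : ∀ w : List ℕ, (∀ l ∈ w, l < 4) → Rep (wlook w) (prodw (gc2 aP bP) w) := by
  intro w
  induction w with
  | nil => intro _; exact rep_one
  | cons a w ih =>
    intro hw
    have h1 := ih (fun l hl => hw l (List.mem_cons_of_mem _ hl))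
    have h2 := rep_gc2 a (hw a (List.mem_cons_self))
    exact rep_congr (rep_mul h1 h2) (fun _ _ => rfl)

theorem rels_okK : Cfsg.Agent.Helper11.U35.rels.all (fun w => w.all (fun l => Nat.blt l 4) &&
    allN 100 (fun i => Nat.beq (wlook w i) i)) = true := by
  decide +kernel

theorem hrelP : ∀ w ∈ Cfsg.Agent.Helper11.U35.rels, prodw (gc2 aP bP) w = 1 := by
  intro w hw
  have h := List.all_eq_true.mp rels_okK w hw
  rw [Bool.and_eq_true] at h
  have h4 : ∀ l ∈ w, l < 4 := fun l hl => blt_iff.mp (List.all_eq_true.mp h.1 l hl)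
  apply rep_unique (f := fun i => i) _ rep_one
  apply rep_congr (rep_wlook w h4)
  intro i hi
  exact (beq_iff.mp (allN_spec h.2 i hi)).symm

/-! ### The stabiliser -/

/-- the generators in the stabiliser of the set of fifty points -/
noncomputable def aS : ↥Cfsg.Agent.Helper22.HS352.H50 := ⟨aP, ⟨aP_mem, aP_stab⟩⟩
noncomputable def bS : ↥Cfsg.Agent.Helper22.HS352.H50 := ⟨bP, ⟨bP_mem, bP_stab⟩⟩

theorem hrelS : ∀ w ∈ Cfsg.Agent.Helper11.U35.rels, prodw (gc2 aS bS) w = 1 := by
  intro w hw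
  apply Subtype.ext
  have h := map_prodw (Cfsg.Agent.Helper22.HS352.H50.subtype) aS bS w
  have h' : ((prodw (gc2 aS bS) w : ↥Cfsg.Agent.Helper22.HS352.H50) : Pm 100) = prodw (gc2 aP bP) w := h
  rw [h']
  exact hrelP w hw

theorem aS_ne : aS ≠ 1 := by
  intro h
  apply aP_ne
  have := congrArg (fun g : ↥Cfsg.Agent.Helper22.HS352.H50 => (g : Pm 100)) h
  exact this

/-- the stabiliser of the set of fifty points in the Higman–Sims group on 100 points is `PSU₃(5)`. -/
theorem nonempty_equiv_H50 {F : Type*} [Field F] [Fintype F] (hF : Fintype.card F = 25) :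
    Nonempty (↥Cfsg.Agent.Helper22.HS352.H50 ≃* Cfsg.PSU 3 F 5) :=
  Cfsg.Agent.Helper11.U35.nonempty_equiv_PSU35_of_mem Cfsg.Agent.Helper22.HS352.card_H50 aS bS hrelS
    aS_ne hF

end Cfsg.Agent.Helper11.HS352
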