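import Cfsg.Agent.Helper15.Iso44Bas
import Cfsg.Agent.Helper20.Iso44YL1

/-! # s3044pieces ALY: in case A, `L ∩ Y = Y_L` (helper11) -/

set_option autoImplicit false

namespace Cfsg.Agent.Helper15.Iso44

open Cfsg Subgroup
open scoped commutatorElement

variable {G : Type*} [Group G] [Finite G] {p : ℕ} [Fact p.Prime] {S : Sylow p G} {P : Subgroup G}

omit [Finite G] in
private theorem ALY_le_normalizer {H K : Subgroup G}
    (h : ∀ k ∈ K, ∀ x ∈ H, k * x * k⁻¹ ∈ H) : K ≤ normalizer (H : Set G) := by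
  intro k hk
  rw [mem_normalizer_iff]
  intro x
  constructor
  · exact h k hk x
  · intro hx
    have := h k⁻¹ (K.inv_mem hk) _ hx
    simpa [mul_assoc] using this

theorem caseA_L_inf_Y (h : Ctx p S P) (hA : ⁅Ysub p P, Ysub p P⁆ ≤ YLsub p S P) :
    Lsub p S P ⊓ Ysub p P = YLsub p S P := by
  apply le_antisymm
  · have h1 : Ysub p P ≤ normalizer ((Lsub p S P ⊓ Ysub p P : Subgroup G) : Set G) := by
      apply ALY_le_normalizer
      intro y hy x hx
      have hc : ⁅y, x⁆ ∈ YLsub p S P := hA (commutator_mem_commutator hy hx.2)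
      have hc' : ⁅y, x⁆ ∈ Lsub p S P ⊓ Ysub p P := ⟨YL_le_L hc, YL_le_Y hc⟩
      have : y * x * y⁻¹ = ⁅y, x⁆ * x := by
        simp [commutatorElement_def, mul_assoc]
      rw [this]
      exact mul_mem hc' hx
    have h2 : Lsub p S P ≤ normalizer ((Lsub p S P ⊓ Ysub p P : Subgroup G) : Set G) := by
      apply ALY_le_normalizer
      intro l hl x hx
      exact ⟨(Lsub p S P).mul_mem ((Lsub p S P).mul_mem hl hx.1) ((Lsub p S P).inv_mem hl),
        (Y_normal (p := p) (P := P)).conj_mem x hx.2 l⟩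
    have htop : normalizer ((Lsub p S P ⊓ Ysub p P : Subgroup G) : Set G) = ⊤ := by
      apply top_le_iff.mp
      rw [← Y_sup_L h]
      exact sup_le h1 h2
    have hN : (Lsub p S P ⊓ Ysub p P).Normal := normalizer_eq_top_iff.mp htop
    exact normal_le_YL hN inf_le_right inf_le_left
  · exact le_inf YL_le_L YL_le_Y

end Cfsg.Agent.Helper15.Iso44
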