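import Cfsg.Agent.Helper15.Iso44Defs

/-! # s3044pieces CP1: `p ∤ |Y/O_p(Y)|` gives `PPrimeQuot` (helper11) -/

set_option autoImplicit false

namespace Cfsg.Agent.Helper15.Iso44

open Cfsg Subgroup

variable {G : Type*} [Group G] [Finite G] {p : ℕ} [Fact p.Prime] {S : Sylow p G} {P : Subgroup G}

theorem pprime_of_not_dvd [hn : (Cfsg.pCore p ↥(Ysub p P)).Normal]
    (hnd : ¬ p ∣ Nat.card (↥(Ysub p P) ⧸ Cfsg.pCore p ↥(Ysub p P))) :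
    PPrimeQuot p P := by
  intro T hT hTY t ht
  have hp : p.Prime := Fact.out
  have htY : t ∈ Ysub p P := hTY ht
  obtain ⟨k, hk⟩ := hT ⟨t, ht⟩
  have hk' : t ^ (p ^ k) = 1 := by
    have := congrArg Subtype.val hk
    simpa using this
  have h1 : (QuotientGroup.mk' (Cfsg.pCore p ↥(Ysub p P)) ⟨t, htY⟩) ^ (p ^ k) = 1 := by
    rw [← map_pow]
    have : (⟨t, htY⟩ : ↥(Ysub p P)) ^ (p ^ k) = 1 := by
      apply Subtype.ext
      simpa using hk'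
    rw [this, map_one]
  have h2 := orderOf_dvd_of_pow_eq_one h1
  have h3 := orderOf_dvd_natCard (QuotientGroup.mk' (Cfsg.pCore p ↥(Ysub p P)) ⟨t, htY⟩)
  have hcop : Nat.Coprime (p ^ k) (Nat.card (↥(Ysub p P) ⧸ Cfsg.pCore p ↥(Ysub p P))) :=
    Nat.Coprime.pow_left k ((Nat.Prime.coprime_iff_not_dvd hp).mpr hnd)
  have h4 : orderOf (QuotientGroup.mk' (Cfsg.pCore p ↥(Ysub p P)) ⟨t, htY⟩) = 1 :=
    Nat.eq_one_of_dvd_coprimes hcop h2 h3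
  have hq : QuotientGroup.mk' (Cfsg.pCore p ↥(Ysub p P)) ⟨t, htY⟩ = 1 := orderOf_eq_one_iff.mp h4
  have hmem : (⟨t, htY⟩ : ↥(Ysub p P)) ∈ Cfsg.pCore p ↥(Ysub p P) :=
    (QuotientGroup.eq_one_iff _).mp hq
  exact ⟨⟨t, htY⟩, hmem, rfl⟩

end Cfsg.Agent.Helper15.Iso44
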