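import Cfsg.Agent.Helper15.Iso44Defs

/-! # s3044pieces XN: `[[Y,Y],Y] ≤ O` makes `Y/O_p(Y)` nilpotent of class at most 2 (helper11) -/

set_option autoImplicit false

namespace Cfsg.Agent.Helper15.Iso44

open Cfsg Subgroup

open scoped commutatorElement

variable {G : Type*} [Group G] [Finite G] {p : ℕ} [Fact p.Prime] {S : Sylow p G} {P : Subgroup G}

theorem quot_nilpotent [hn : (Cfsg.pCore p ↥(Ysub p P)).Normal]
    (hc : ⁅⁅Ysub p P, Ysub p P⁆, Ysub p P⁆ ≤ Osub p P) :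
    ∃ _ : Group.IsNilpotent (↥(Ysub p P) ⧸ Cfsg.pCore p ↥(Ysub p P)),
      Group.nilpotencyClass (↥(Ysub p P) ⧸ Cfsg.pCore p ↥(Ysub p P)) ≤ 2 := by
  -- triple commutators die in the quotient
  have htriple : ∀ a b c : ↥(Ysub p P) ⧸ Cfsg.pCore p ↥(Ysub p P), ⁅⁅a, b⁆, c⁆ = 1 := by
    intro a b c
    obtain ⟨y1, rfl⟩ := QuotientGroup.mk'_surjective (Cfsg.pCore p ↥(Ysub p P)) a
    obtain ⟨y2, rfl⟩ := QuotientGroup.mk'_surjective (Cfsg.pCore p ↥(Ysub p P)) b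
    obtain ⟨y3, rfl⟩ := QuotientGroup.mk'_surjective (Cfsg.pCore p ↥(Ysub p P)) c
    have hG : ⁅⁅(y1 : G), (y2 : G)⁆, (y3 : G)⁆ ∈ Osub p P :=
      hc (commutator_mem_commutator (commutator_mem_commutator y1.2 y2.2) y3.2)
    obtain ⟨z, hz, hzeq⟩ := hG
    have hzz : z = ⁅⁅y1, y2⁆, y3⁆ := by
      apply Subtype.ext
      rw [show ((Ysub p P).subtype z : G) = (z : G) from rfl] at hzeq
      rw [hzeq]
      simp [commutatorElement_def]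
    have hmem : ⁅⁅y1, y2⁆, y3⁆ ∈ Cfsg.pCore p ↥(Ysub p P) := hzz ▸ hz
    have := (QuotientGroup.eq_one_iff (N := Cfsg.pCore p ↥(Ysub p P)) ⁅⁅y1, y2⁆, y3⁆).mpr hmem
    simpa [commutatorElement_def] using this
  have hcen : ⁅(⊤ : Subgroup (↥(Ysub p P) ⧸ Cfsg.pCore p ↥(Ysub p P))), ⊤⁆ ≤
      center (↥(Ysub p P) ⧸ Cfsg.pCore p ↥(Ysub p P)) := by
    rw [Subgroup.commutator_le]
    intro a _ b _
    rw [mem_center_iff]
    intro d
    have := htriple a b d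
    rw [commutatorElement_def ⁅a, b⁆ d] at this
    have h3 : ⁅a, b⁆ * d * ⁅a, b⁆⁻¹ * d⁻¹ * d * ⁅a, b⁆ = d * ⁅a, b⁆ := by rw [this]; group
    rw [← h3]; group
  have h2 : (⊤ : Subgroup (↥(Ysub p P) ⧸ Cfsg.pCore p ↥(Ysub p P))).lowerCentralSeries 2 = ⊥ := by
    rw [eq_bot_iff]
    show ⁅⁅(⊤ : Subgroup (↥(Ysub p P) ⧸ Cfsg.pCore p ↥(Ysub p P))), ⊤⁆, ⊤⁆ ≤ ⊥
    rw [Subgroup.commutator_le]
    intro g hg c _
    have hgc := mem_center_iff.mp (hcen hg) c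
    rw [mem_bot, commutatorElement_def, ← hgc]
    group
  have hnil : Group.IsNilpotent (↥(Ysub p P) ⧸ Cfsg.pCore p ↥(Ysub p P)) :=
    Subgroup.nilpotent_iff_lowerCentralSeries.mpr ⟨2, h2⟩
  exact ⟨hnil, Subgroup.lowerCentralSeries_eq_bot_iff_nilpotencyClass_le.mp h2⟩

end Cfsg.Agent.Helper15.Iso44
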