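import Mathlib
import Cfsg.Agent.Helper7.K2M.Defs2
import Cfsg.Agent.Helper4.K2MQB
import Cfsg.Agent.Helper3.K2MRACT
import Cfsg.Agent.Helper19.K2MUNIV
import Cfsg.Agent.Helper27.K2MSTAB
import Cfsg.Agent.Helper27.K2MPERM
import Cfsg.Agent.Helper27.K2MIND2

set_option autoImplicit false
set_option linter.unusedSectionVars false
set_option linter.unusedVariables false

/-! # S5694, `k = 2` minus blocks, chapter INV (driver helper27), piece INV-INVOLA (helper11). -/

namespace Cfsg.Agent.K2M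

open Matrix Cfsg.Agent.OC2P Cfsg.Agent.Helper28.Sg Cfsg.Agent.Helper28.Spin
  Cfsg.Agent.Helper12.OrthGen

variable {F : Type*} [Field F] [Fintype F] {t : ℕ} {Q : QuadraticForm F (Fin t × Fin 2 → F)}
  {q : QuadraticForm F (Fin 2 → F)}

/-! ## INV-INVOLA (S-M): the component map `y ↦ (x (binj i₀ y))_i` is injective, hence onto; no `p ≠ 0` is orthogonal
to its image [`IND2.surj`, `QB.exists_polar_ne bm hp`] -/
theorem INVOLA.main (bm : BM Q q) {x : OG Q} {i₀ i : Fin t}
    (hfull : ∀ y : Fin 2 → F, y ≠ 0 → bproj i (mt Q x *ᵥ binj i₀ y) ≠ 0) {p : Fin 2 → F} (hp : p ≠ 0)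
    (hA : ∀ y : Fin 2 → F, QuadraticMap.polar ⇑q p (bproj i (mt Q x *ᵥ binj i₀ y)) = 0) : False := by
  obtain ⟨y', hy'⟩ := QB.exists_polar_ne bm hp
  obtain ⟨y, hy⟩ := IND2.surj (fun y : Fin 2 → F => bproj i (mt Q x *ᵥ binj i₀ y))
    (fun y y'' => by
      show bproj i (mt Q x *ᵥ binj i₀ (y + y'')) = _
      rw [QB.binj_add, Matrix.mulVec_add, QB.bproj_add])
    (fun y h => by
      by_contra hne
      exact hfull y hne h) y'
  have := hA y
  rw [show bproj i (mt Q x *ᵥ binj i₀ y) = y' from hy, hy'] at this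
  exact one_ne_zero this

end Cfsg.Agent.K2M
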