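import Mathlib
import Cfsg.Agent.Helper18.K2P.Defs
import Cfsg.Agent.Helper18.K2P.Defs2
import Cfsg.Agent.Helper18.K2P.QB
import Cfsg.Agent.Helper18.K2P.RACT
import Cfsg.Agent.Helper18.K2P.STAB
import Cfsg.Agent.Helper18.K2P.OMEGA
import Cfsg.Agent.Helper18.K2P.PERM
import Cfsg.Agent.Helper20.K2PACLS

set_option autoImplicit false
set_option linter.unusedSectionVars false
set_option linter.unusedVariables false

/-! # K2P (S5692, `k = 2`, hyperbolic blocks), chapter A, piece A-PROPP (helper11): if no non-block vector is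
`M`-related to a block vector, an element of `M` mapping some nonsingular block vector to a block vector
permutes the blocks. -/

namespace Cfsg.Agent.K2P

open Matrix Cfsg.Agent.OC2P Cfsg.Agent.Helper28.Sg Cfsg.Agent.Helper28.Spin
  Cfsg.Agent.Helper12.OrthGen Cfsg.Agent.K2M

variable {F : Type*} [Field F] [Fintype F] {t : ℕ} {Q : QuadraticForm F (Fin t × Fin 2 → F)}
  {q : QuadraticForm F (Fin 2 → F)} {e f : Fin 2 → F} {M : Subgroup (OG Q)}

theorem A.PROPP (bp : BP Q q e f) (ht : 3 ≤ t) (hq : 7 ≤ Fintype.card F) (hM : HasMO M)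
    (hI : ∀ a, InA M a → IsBlk a) {m : OG Q} (hm : m ∈ M) {i : Fin t} {y : Fin 2 → F} (hy : q y ≠ 0)
    (h : IsBlk (mt Q m *ᵥ binj i y)) : StabD Q m := by
  classical
  by_contra hnS
  have bm : BM0 Q q := bp.toBM0
  -- CLS, contrapositive
  have h1 : ∃ (l : Fin t) (y' : Fin 2 → F), q y' ≠ 0 ∧ IsSquare (q y' * q y) ∧
      ¬ IsBlk (mt Q m *ᵥ binj l y') := by
    by_contra hcon
    push Not at hcon
    exact hnS (A.CLS bp hq m hy (fun l y' h0 hsq => hcon l y' h0 hsq))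
  obtain ⟨l, y', hqy', ⟨s, hs⟩, hnb⟩ := h1
  have hz0 : Q (binj i y) ≠ 0 := by rw [QB.Q_binj bm]; exact hy
  have hb0 : Q (binj l y') ≠ 0 := by rw [QB.Q_binj bm]; exact hqy'
  have hpair := OMEGA.pair_mem bm ht hM l i y' y hb0 hz0 ⟨s, hs⟩
  have hconj : m * (reflO Q (binj l y') hb0 * reflO Q (binj i y) hz0) * m⁻¹ ∈ M :=
    M.mul_mem (M.mul_mem hm hpair) (M.inv_mem hm)
  have ha0 : Q (mt Q m *ᵥ binj l y') ≠ 0 := by rw [Q_isom]; exact hb0
  have hc0 : Q (mt Q m *ᵥ binj i y) ≠ 0 := by rw [Q_isom]; exact hz0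
  have e1 : m * (reflO Q (binj l y') hb0 * reflO Q (binj i y) hz0) * m⁻¹ =
      reflO Q (mt Q m *ᵥ binj l y') ha0 * reflO Q (mt Q m *ᵥ binj i y) hc0 := by
    rw [reflO_conj Q m _ hb0 ha0, reflO_conj Q m _ hz0 hc0]
    group
  rw [e1] at hconj
  -- rescale the block vector `m z` to the norm of `m b'`
  have hs0 : s ≠ 0 := by
    intro h0
    rw [h0, mul_zero] at hs
    exact (mul_ne_zero hqy' hy) hs
  have hc : s / q y ≠ 0 := div_ne_zero hs0 hy
  have hQc : Q ((s / q y) • (mt Q m *ᵥ binj i y)) = q y' := by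
    rw [Q_smul, Q_isom, QB.Q_binj bm]
    field_simp
    linear_combination (-1 : F) * hs
  have hc0' : Q ((s / q y) • (mt Q m *ᵥ binj i y)) ≠ 0 := by rw [hQc]; exact hqy'
  have e2 : reflO Q ((s / q y) • (mt Q m *ᵥ binj i y)) hc0' = reflO Q (mt Q m *ᵥ binj i y) hc0 :=
    reflO_smul Q _ hc0 hc hc0'
  rw [← e2] at hconj
  obtain ⟨j, hj⟩ := h
  have hblk : IsBlk ((s / q y) • (mt Q m *ᵥ binj i y)) := ⟨j, Submodule.smul_mem _ _ hj⟩
  apply hnb
  apply hI
  refine ⟨(s / q y) • (mt Q m *ᵥ binj i y), ha0, hc0', hblk, ?_, hconj⟩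
  rw [hQc, Q_isom, QB.Q_binj bm]

end Cfsg.Agent.K2P
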