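import Mathlib
import Cfsg.Agent.Helper18.K2P.Defs
import Cfsg.Agent.Helper18.K2P.Defs2
import Cfsg.Agent.Helper18.K2P.QB
import Cfsg.Agent.Helper18.K2P.RACT
import Cfsg.Agent.Helper18.K2P.STAB
import Cfsg.Agent.Helper18.K2P.OMEGA
import Cfsg.Agent.Helper18.K2P.PERM
import Cfsg.Agent.Helper18.K2P.BASIS

set_option autoImplicit false
set_option linter.unusedSectionVars false
set_option linter.unusedVariables false

/-! # K2P (S5692, `k = 2`, hyperbolic blocks), chapter A, piece A-ROTNOTH (helper11): if a conjugate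
`m ρ_i(ν) m⁻¹` (`ν² ≠ 1`) of a block rotation permutes the blocks, then `m e_i` is a block vector.

With `a = m e_i`, `b = m f_i` the conjugate is `x ↦ x + (ν-1) B(x,b) a + (ν⁻¹-1) B(x,a) b`.  A moved block `l` gives
`y + (ν-1)⟨y,b_l⟩ a_l + (ν⁻¹-1)⟨y,a_l⟩ b_l = 0` for all `y`, which is impossible (pair with `e, f`).  If all blocks are
fixed the components of `a` are `ν`-eigenvectors, hence singular, and the block `j` with `⟨a_j,b_j⟩ ≠ 0` contains `a`. -/

namespace Cfsg.Agent.K2P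

open Matrix Cfsg.Agent.OC2P Cfsg.Agent.Helper28.Sg Cfsg.Agent.Helper28.Spin
  Cfsg.Agent.Helper12.OrthGen Cfsg.Agent.K2M

variable {F : Type*} [Field F] [Fintype F] {t : ℕ} {Q : QuadraticForm F (Fin t × Fin 2 → F)}
  {q : QuadraticForm F (Fin 2 → F)} {e f : Fin 2 → F} {M : Subgroup (OG Q)}

/-- the conjugate rotation in terms of `a = m e_i`, `b = m f_i` -/
theorem A.ROTNOTH.aux_formula (bp : BP Q q e f) {m g : OG Q} {i : Fin t} {ν : F}
    (hg : ∀ x, mt Q g *ᵥ x = x + binj i (rotV q e f ν (bproj i x) - bproj i x))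
    (x : Fin t × Fin 2 → F) :
    mt Q (m * g * m⁻¹) *ᵥ x =
      x + ((ν - 1) * B Q x (mt Q m *ᵥ binj i f)) • (mt Q m *ᵥ binj i e)
        + ((ν⁻¹ - 1) * B Q x (mt Q m *ᵥ binj i e)) • (mt Q m *ᵥ binj i f) := by
  have bm : BM0 Q q := bp.toBM0
  rw [mt_mul_mulVec, mt_mul_mulVec, hg]
  obtain ⟨y₀, hy₀⟩ : ∃ y₀, y₀ = mt Q m⁻¹ *ᵥ x := ⟨_, rfl⟩
  rw [← hy₀]
  obtain ⟨w, hw⟩ : ∃ w, w = bproj i y₀ := ⟨_, rfl⟩
  rw [← hw]
  have hmy : mt Q m *ᵥ y₀ = x := by rw [hy₀, mt_mulVec_inv]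
  obtain ⟨pf, hpf⟩ : ∃ pf : F, pf = QuadraticMap.polar ⇑q w f := ⟨_, rfl⟩
  obtain ⟨pe, hpe⟩ : ∃ pe : F, pe = QuadraticMap.polar ⇑q w e := ⟨_, rfl⟩
  have h1 : B Q x (mt Q m *ᵥ binj i f) = pf := by
    rw [← hmy, B_isom, QB.B_binj_right bm, ← hw, hpf]
  have h2 : B Q x (mt Q m *ᵥ binj i e) = pe := by
    rw [← hmy, B_isom, QB.B_binj_right bm, ← hw, hpe]
  have hw' : w = pf • e + pe • f := by rw [hpf, hpe]; exact BASIS.eq bp w
  have h3 : rotV q e f ν w - w = ((ν - 1) * pf) • e + ((ν⁻¹ - 1) * pe) • f := by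
    unfold rotV
    rw [← hpf, ← hpe]
    have e1 : (ν * pf) • e + (ν⁻¹ * pe) • f - w =
        (ν * pf) • e + (ν⁻¹ * pe) • f - (pf • e + pe • f) := by rw [← hw']
    rw [e1]
    module
  rw [h3, h1, h2, Matrix.mulVec_add, hmy, QB.binj_add, QB.binj_smul, QB.binj_smul, Matrix.mulVec_add,
    Matrix.mulVec_smul, Matrix.mulVec_smul, add_assoc]

theorem A.ROTNOTH (bp : BP Q q e f) (ht : 3 ≤ t) {m g : OG Q} {i : Fin t} {ν : F} (hν0 : ν ≠ 0)
    (hν2 : ν ^ 2 ≠ 1)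
    (hg : ∀ x, mt Q g *ᵥ x = x + binj i (rotV q e f ν (bproj i x) - bproj i x))
    (hS : StabD Q (m * g * m⁻¹)) : IsBlk (mt Q m *ᵥ binj i e) := by
  classical
  have bm : BM0 Q q := bp.toBM0
  obtain ⟨σ, hσ⟩ := (STAB.iff bm _).mp hS
  obtain ⟨a, ha⟩ : ∃ a, a = mt Q m *ᵥ binj i e := ⟨_, rfl⟩
  obtain ⟨b, hb⟩ : ∃ b, b = mt Q m *ᵥ binj i f := ⟨_, rfl⟩
  obtain ⟨ρ, hρ⟩ : ∃ ρ : OG Q, ρ = m * g * m⁻¹ := ⟨_, rfl⟩
  rw [← ha]
  rw [← hρ] at hσ
  have hform : ∀ x, mt Q ρ *ᵥ x = x + ((ν - 1) * B Q x b) • a + ((ν⁻¹ - 1) * B Q x a) • b := by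
    intro x
    rw [hρ, ha, hb]
    exact A.ROTNOTH.aux_formula bp hg x
  have hν1 : ν ≠ 1 := by
    rintro rfl
    exact hν2 (one_pow 2)
  have hu : ν - 1 ≠ 0 := sub_ne_zero.mpr hν1
  have huu : (ν - 1) - (ν⁻¹ - 1) ≠ 0 := by
    intro h
    apply hν2
    have h1 : ν = ν⁻¹ := by linear_combination h
    have h2 : ν * ν = 1 := by
      nth_rewrite 2 [h1]
      exact mul_inv_cancel₀ hν0
    rw [pow_two]
    exact h2
  have hQa : Q a = 0 := by rw [ha, Q_isom, QB.Q_binj bm, bp.qe]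
  have hQb : Q b = 0 := by rw [hb, Q_isom, QB.Q_binj bm, bp.qf]
  have hab : B Q a b = 1 := by rw [ha, hb, B_isom, QB.B_binj_left bm, bproj_binj, bp.ef]
  have hcomp : ∀ (l k : Fin t) (y : Fin 2 → F), bproj k (mt Q ρ *ᵥ binj l y) =
      bproj k (binj l y) + ((ν - 1) * QuadraticMap.polar ⇑q y (bproj l b)) • bproj k a
        + ((ν⁻¹ - 1) * QuadraticMap.polar ⇑q y (bproj l a)) • bproj k b := by
    intro l k y
    rw [hform, QB.bproj_add, QB.bproj_add, QB.bproj_smul, QB.bproj_smul, QB.B_binj_left bm,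
      QB.B_binj_left bm]
  have hee : QuadraticMap.polar ⇑q e e = 0 := by rw [QuadraticMap.polar_self, bp.qe, smul_zero]
  have hff : QuadraticMap.polar ⇑q f f = 0 := by rw [QuadraticMap.polar_self, bp.qf, smul_zero]
  have hef : QuadraticMap.polar ⇑q e f = 1 := bp.ef
  have hfe : QuadraticMap.polar ⇑q f e = 1 := by rw [QuadraticMap.polar_comm]; exact bp.ef
  -- Case A: no block is moved
  have hfix : ∀ l, σ l = l := by
    intro l
    by_contra hl
    have h0 : ∀ y : Fin 2 → F,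
        y + ((ν - 1) * QuadraticMap.polar ⇑q y (bproj l b)) • bproj l a
          + ((ν⁻¹ - 1) * QuadraticMap.polar ⇑q y (bproj l a)) • bproj l b = 0 := by
      intro y
      have h1 := (QB.mem_Dblk_iff.mp (hσ l y)) l (Ne.symm hl)
      rw [hcomp, bproj_binj] at h1
      exact h1
    have h1 : ∀ y z : Fin 2 → F,
        QuadraticMap.polar ⇑q y z
          + (ν - 1) * QuadraticMap.polar ⇑q y (bproj l b) * QuadraticMap.polar ⇑q (bproj l a) z
          + (ν⁻¹ - 1) * QuadraticMap.polar ⇑q y (bproj l a) * QuadraticMap.polar ⇑q (bproj l b) z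
          = 0 := by
      intro y z
      have h2 := congrArg (fun v => QuadraticMap.polar ⇑q v z) (h0 y)
      simp only [QuadraticMap.polar_add_left, QuadraticMap.polar_smul_left,
        QuadraticMap.polar_zero_left, smul_eq_mul] at h2
      linear_combination h2
    obtain ⟨p, hp⟩ : ∃ p : F, p = QuadraticMap.polar ⇑q e (bproj l a) := ⟨_, rfl⟩
    obtain ⟨p', hp'⟩ : ∃ p' : F, p' = QuadraticMap.polar ⇑q f (bproj l a) := ⟨_, rfl⟩
    obtain ⟨r, hr⟩ : ∃ r : F, r = QuadraticMap.polar ⇑q e (bproj l b) := ⟨_, rfl⟩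
    obtain ⟨r', hr'⟩ : ∃ r' : F, r' = QuadraticMap.polar ⇑q f (bproj l b) := ⟨_, rfl⟩
    have E1 := h1 e e
    have E2 := h1 f f
    have E3 := h1 e f
    have E4 := h1 f e
    rw [QuadraticMap.polar_comm (⇑q) (bproj l a) e, QuadraticMap.polar_comm (⇑q) (bproj l b) e,
      hee, ← hp, ← hr] at E1
    rw [QuadraticMap.polar_comm (⇑q) (bproj l a) f, QuadraticMap.polar_comm (⇑q) (bproj l b) f,
      hff, ← hp', ← hr'] at E2
    rw [QuadraticMap.polar_comm (⇑q) (bproj l a) f, QuadraticMap.polar_comm (⇑q) (bproj l b) f,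
      hef, ← hp, ← hr, ← hp', ← hr'] at E3
    rw [QuadraticMap.polar_comm (⇑q) (bproj l a) e, QuadraticMap.polar_comm (⇑q) (bproj l b) e,
      hfe, ← hp, ← hr, ← hp', ← hr'] at E4
    -- E1 : 0 + u r p + u' p r = 0; E2 : 0 + u r' p' + u' p' r' = 0
    -- E3 : 1 + u r p' + u' p r' = 0; E4 : 1 + u r' p + u' p' r = 0
    have hk : ((ν - 1) - (ν⁻¹ - 1)) * (r * p' - r' * p) = 0 := by linear_combination E3 - E4
    have key : r * p' = r' * p := by
      rcases mul_eq_zero.mp hk with h | h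
      · exact absurd h huu
      · exact sub_eq_zero.mp h
    have E3' : ((ν - 1) + (ν⁻¹ - 1)) * (r * p') = -1 := by linear_combination E3 + (ν⁻¹ - 1) * key
    have E1' : ((ν - 1) + (ν⁻¹ - 1)) * (p * r) = 0 := by linear_combination E1
    have hp0 : p = 0 := by linear_combination (-p') * E1' + p * E3'
    have h01 : (1 : F) = 0 := by
      linear_combination E3' + (-((ν - 1) + (ν⁻¹ - 1))) * key + (-((ν - 1) + (ν⁻¹ - 1)) * r') * hp0
    exact one_ne_zero h01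
  -- Case B: all blocks are fixed
  have hblk : ∀ (l : Fin t) (y : Fin 2 → F), mt Q ρ *ᵥ binj l y ∈ Dblk F t 2 l := by
    intro l y
    have h1 := hσ l y
    rwa [hfix l] at h1
  have hρa : mt Q ρ *ᵥ a = ν • a := by
    rw [hform, hab, B_self_of_singular Q hQa]
    module
  have hproj : ∀ l, bproj l (mt Q ρ *ᵥ a) = bproj l (mt Q ρ *ᵥ binj l (bproj l a)) := by
    intro l
    have e1 : mt Q ρ *ᵥ a = ∑ k : Fin t, mt Q ρ *ᵥ binj k (bproj k a) := by
      rw [← Matrix.mulVec_sum, ← QB.eq_sum a]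
    rw [e1]
    funext j
    show (∑ k : Fin t, mt Q ρ *ᵥ binj k (bproj k a)) (l, j) = _
    rw [Finset.sum_apply, Finset.sum_eq_single l]
    · rfl
    · intro k _ hkl
      have h1 := (QB.mem_Dblk_iff.mp (hblk k (bproj k a))) l (Ne.symm hkl)
      exact congrFun h1 j
    · intro h
      exact absurd (Finset.mem_univ l) h
  have heig : ∀ l, mt Q ρ *ᵥ binj l (bproj l a) = ν • binj l (bproj l a) := by
    intro l
    have h1 := QB.mem_Dblk_iff'.mp (hblk l (bproj l a))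
    rw [h1, ← hproj l, hρa, QB.bproj_smul, QB.binj_smul]
  have hq0 : ∀ l, q (bproj l a) = 0 := by
    intro l
    have h1 : Q (mt Q ρ *ᵥ binj l (bproj l a)) = Q (binj l (bproj l a)) := Q_isom ρ _
    rw [heig l, Q_smul, QB.Q_binj bm] at h1
    have h2 : (ν * ν - 1) * q (bproj l a) = 0 := by linear_combination h1
    rcases mul_eq_zero.mp h2 with h | h
    · exfalso
      apply hν2
      rw [pow_two]
      linear_combination h
    · exact h
  have hsum : ∑ l : Fin t, QuadraticMap.polar ⇑q (bproj l a) (bproj l b) = 1 := by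
    rw [← QB.B_eq bm]
    exact hab
  obtain ⟨j, hj⟩ : ∃ j, QuadraticMap.polar ⇑q (bproj j a) (bproj j b) ≠ 0 := by
    by_contra hcon
    push Not at hcon
    rw [Finset.sum_eq_zero (fun l _ => hcon l)] at hsum
    exact zero_ne_one hsum
  refine ⟨j, QB.mem_Dblk_iff.mpr ?_⟩
  intro k hkj
  have h1 := (QB.mem_Dblk_iff.mp (hblk j (bproj j a))) k hkj
  rw [hcomp, bproj_binj_ne hkj, zero_add] at h1
  have h2 : QuadraticMap.polar ⇑q (bproj j a) (bproj j a) = 0 := by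
    rw [QuadraticMap.polar_self, hq0 j, smul_zero]
  rw [h2, mul_zero, zero_smul, add_zero] at h1
  exact (smul_eq_zero.mp h1).resolve_left (mul_ne_zero hu hj)

end Cfsg.Agent.K2P
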