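import Mathlib
import Cfsg.Agent.Helper18.K2P.Defs
import Cfsg.Agent.Helper18.K2P.Defs2
import Cfsg.Agent.Helper18.K2P.QB
import Cfsg.Agent.Helper18.K2P.RACT
import Cfsg.Agent.Helper18.K2P.STAB
import Cfsg.Agent.Helper18.K2P.OMEGA
import Cfsg.Agent.Helper18.K2P.PERM
import Cfsg.Agent.Helper18.K2P.BASIS
import Cfsg.Agent.Helper8.K2PG
import Cfsg.Agent.Helper8.K2PROT

set_option autoImplicit false
set_option linter.unusedSectionVars false
set_option linter.unusedVariables false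

/-! # K2P (S5692, `k = 2`, hyperbolic blocks), chapter B, piece B-ROT2 (helper11, hedge): the element
`ρ_i(λ) ρ_j(λ⁻¹) ∈ M`, the blocks it fixes pointwise and the norm of its displacement of `a`. -/

namespace Cfsg.Agent.K2P

open Matrix Cfsg.Agent.OC2P Cfsg.Agent.Helper28.Sg Cfsg.Agent.Helper28.Spin
  Cfsg.Agent.Helper12.OrthGen Cfsg.Agent.K2M

variable {F : Type*} [Field F] [Fintype F] {t : ℕ} {Q : QuadraticForm F (Fin t × Fin 2 → F)}
  {q : QuadraticForm F (Fin 2 → F)} {e f : Fin 2 → F} {M : Subgroup (OG Q)}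

/-- the norm of the displacement of a block rotation (private copy of `B.QROT.norm`) -/
theorem B.ROT2.aux_norm (bp : BP Q q e f) (ν : F) (y : Fin 2 → F) :
    q (rotV q e f ν y - y) = (ν - 1) * (ν⁻¹ - 1) * q y := by
  rw [ROT.aux_rotV_sub bp ν y, PLANE.q_comb bp, PLANE.q_eq bp y]
  ring

/-- a rotation maps `0` to `0` -/
theorem B.ROT2.aux_zero (ν : F) : rotV q e f ν 0 - 0 = 0 := by
  unfold rotV
  rw [QuadraticMap.polar_zero_left, QuadraticMap.polar_zero_left, mul_zero, mul_zero, zero_smul, zero_smul,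
    add_zero, sub_zero]

theorem B.ROT2 (bp : BP Q q e f) (ht : 3 ≤ t) (hM : HasMO M) {i j : Fin t} (hij : i ≠ j) {lam : F}
    (hl : lam ≠ 0) (a : Fin t × Fin 2 → F) :
    ∃ m ∈ M, (∀ (k : Fin t), k ≠ i → k ≠ j → ∀ y : Fin 2 → F, mt Q m *ᵥ binj k y = binj k y) ∧
      (∀ x, mt Q m *ᵥ x = x + binj i (rotV q e f lam (bproj i x) - bproj i x)
        + binj j (rotV q e f lam⁻¹ (bproj j x) - bproj j x)) ∧
      Q (binj i (rotV q e f lam (bproj i a) - bproj i a) + binj j (rotV q e f lam⁻¹ (bproj j a) - bproj j a))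
        = (lam - 1) * (lam⁻¹ - 1) * (q (bproj i a) + q (bproj j a)) := by
  have bm : BM0 Q q := bp.toBM0
  obtain ⟨g, hgM, hg⟩ := ROT.two bp ht hM hij hl
  refine ⟨g, hgM, ?_, hg, ?_⟩
  · intro k hki hkj y
    rw [hg, bproj_binj_ne (Ne.symm hki), bproj_binj_ne (Ne.symm hkj), B.ROT2.aux_zero, B.ROT2.aux_zero,
      QB.binj_zero, QB.binj_zero, add_zero, add_zero]
  · rw [Q_add, QB.Q_binj bm, QB.Q_binj bm, QB.B_binj_binj_ne bm hij, add_zero, B.ROT2.aux_norm bp,
      B.ROT2.aux_norm bp, inv_inv]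
    ring

end Cfsg.Agent.K2P
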