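import Mathlib
import Cfsg.Prelude.Def_OddOrderLocal

set_option autoImplicit false

/-!
Centralizers of non-scalar 2×2 matrices are commutative; commutative-transitive groups have
TI centralizers.
-/

namespace Cfsg.Agent.Helper11.Mat2Cent

open Matrix

variable {F : Type*} [Field F]

/-- A 2×2 matrix commuting with a non-scalar matrix `B` is a combination of `1` and `B`. -/
theorem exists_eq_add_of_commute (B X : Matrix (Fin 2) (Fin 2) F)
    (hB : B 0 1 ≠ 0 ∨ B 1 0 ≠ 0 ∨ B 0 0 ≠ B 1 1) (h : X * B = B * X) :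
    ∃ α β : F, X = α • (1 : Matrix (Fin 2) (Fin 2) F) + β • B := by
  have h00 := congrFun (congrFun h 0) 0
  have h01 := congrFun (congrFun h 0) 1
  have h10 := congrFun (congrFun h 1) 0
  simp only [Matrix.mul_apply, Fin.sum_univ_two] at h00 h01 h10
  rcases hB with hb | hc | had
  · refine ⟨X 0 0 - X 0 1 / B 0 1 * B 0 0, X 0 1 / B 0 1, ?_⟩
    ext i j
    fin_cases i <;> fin_cases j
    · simp
    · simp
      field_simp
    · simp
      field_simp
      linear_combination (-1 : F) * h00
    · simp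
      field_simp
      linear_combination (-1 : F) * h01
  · refine ⟨X 0 0 - X 1 0 / B 1 0 * B 0 0, X 1 0 / B 1 0, ?_⟩
    ext i j
    fin_cases i <;> fin_cases j
    · simp
    · simp
      field_simp
      linear_combination h00
    · simp
      field_simp
    · simp
      field_simp
      linear_combination h10
  · have hsub : B 0 0 - B 1 1 ≠ 0 := sub_ne_zero.2 had
    refine ⟨X 0 0 - (X 0 0 - X 1 1) / (B 0 0 - B 1 1) * B 0 0, (X 0 0 - X 1 1) / (B 0 0 - B 1 1), ?_⟩
    ext i j
    fin_cases i <;> fin_cases j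
    · simp
    · simp
      field_simp
      linear_combination (-1 : F) * h01
    · simp
      field_simp
      linear_combination h10
    · simp
      field_simp
      ring

/-- Commuting with a non-scalar 2×2 matrix is a transitive relation. -/
theorem commute_of_commute_nonscalar (A B C : Matrix (Fin 2) (Fin 2) F)
    (hB : B 0 1 ≠ 0 ∨ B 1 0 ≠ 0 ∨ B 0 0 ≠ B 1 1) (hAB : A * B = B * A) (hBC : B * C = C * B) :
    A * C = C * A := by
  obtain ⟨α, β, rfl⟩ := exists_eq_add_of_commute B A hB hAB
  obtain ⟨γ, δ, rfl⟩ := exists_eq_add_of_commute B C hB hBC.symm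
  simp only [add_mul, mul_add, smul_mul_assoc, mul_smul_comm, one_mul, mul_one, smul_add,
    smul_smul]
  rw [mul_comm γ α, mul_comm δ α, mul_comm γ β, mul_comm δ β]
  abel

/-- In a group where commuting is transitive on non-identity elements, centralizers of elements
are TI-subsets. -/
theorem isTISubset_centralizer_of_CT {G : Type*} [Group G]
    (hCT : ∀ a b c : G, b ≠ 1 → a * b = b * a → b * c = c * b → a * c = c * a) (x : G) :
    Cfsg.IsTISubset (Subgroup.centralizer ({x} : Set G) : Set G) := by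
  intro g hg y hy hgy
  by_contra hy1
  apply hg
  rw [SetLike.mem_coe, Subgroup.mem_centralizer_singleton_iff] at hy hgy
  have hy'1 : g * y * g⁻¹ ≠ 1 := by
    intro h
    apply hy1
    have : y = g⁻¹ * (g * y * g⁻¹) * g := by group
    rw [this, h]
    group
  by_cases hx1 : x = 1
  · subst hx1
    rw [Subgroup.mem_set_normalizer_iff]
    intro n
    simp [Subgroup.mem_centralizer_singleton_iff]
  have key : ∀ z : G, z ≠ 1 → z * x = x * z → ∀ n : G,
      n ∈ Subgroup.centralizer ({x} : Set G) ↔ n * z = z * n := by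
    intro z hz hzx n
    rw [Subgroup.mem_centralizer_singleton_iff]
    constructor
    · intro hn
      exact hCT n x z hx1 hn hzx.symm
    · intro hn
      exact hCT n z x hz hn hzx
  rw [Subgroup.mem_set_normalizer_iff]
  intro n
  rw [SetLike.mem_coe, SetLike.mem_coe, key y hy1 hy n, key (g * y * g⁻¹) hy'1 hgy (g * n * g⁻¹)]
  constructor
  · intro h
    have : g * n * g⁻¹ * (g * y * g⁻¹) = g * (n * y) * g⁻¹ := by group
    rw [this, h]
    group
  · intro h
    have e1 : n * y = g⁻¹ * (g * n * g⁻¹ * (g * y * g⁻¹)) * g := by group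
    have e2 : y * n = g⁻¹ * (g * y * g⁻¹ * (g * n * g⁻¹)) * g := by group
    rw [e1, e2, h]

/-- In characteristic 2, a non-identity element of `SL₂(F)` is a non-scalar matrix. -/
theorem nonscalar_of_ne_one [CharP F 2] (B : Matrix.SpecialLinearGroup (Fin 2) F) (hB : B ≠ 1) :
    (B : Matrix (Fin 2) (Fin 2) F) 0 1 ≠ 0 ∨ (B : Matrix (Fin 2) (Fin 2) F) 1 0 ≠ 0 ∨
      (B : Matrix (Fin 2) (Fin 2) F) 0 0 ≠ (B : Matrix (Fin 2) (Fin 2) F) 1 1 := by
  by_contra hcon
  push Not at hcon
  obtain ⟨h01, h10, h00⟩ := hcon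
  apply hB
  have hdet := B.det_coe
  rw [Matrix.det_fin_two, h01, h00] at hdet
  have h1 : ((B : Matrix (Fin 2) (Fin 2) F) 1 1 - 1) ^ 2 = 0 := by
    have h2 : (2 : F) = 0 := CharP.cast_eq_zero F 2
    have : ((B : Matrix (Fin 2) (Fin 2) F) 1 1 - 1) ^ 2 =
        ((B : Matrix (Fin 2) (Fin 2) F) 1 1 * (B : Matrix (Fin 2) (Fin 2) F) 1 1 -
          0 * (B : Matrix (Fin 2) (Fin 2) F) 1 0) - 1
          - 2 * ((B : Matrix (Fin 2) (Fin 2) F) 1 1 - 1) := by ring
    rw [this, hdet, h2]
    ring
  have h2 : (B : Matrix (Fin 2) (Fin 2) F) 1 1 = 1 := by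
    have := pow_eq_zero_iff (two_ne_zero) |>.1 h1
    exact sub_eq_zero.1 this
  apply Subtype.ext
  ext i j
  fin_cases i <;> fin_cases j
  · simp [h00, h2]
  · simp [h01]
  · simp [h10]
  · simp [h2]

/-- In characteristic 2, commuting is transitive on non-identity elements of `SL₂(F)`. -/
theorem sl2_CT [CharP F 2] (A B C : Matrix.SpecialLinearGroup (Fin 2) F) (hB : B ≠ 1)
    (hAB : A * B = B * A) (hBC : B * C = C * B) : A * C = C * A := by
  apply Subtype.ext
  have h1 : (A : Matrix (Fin 2) (Fin 2) F) * B = B * A := congrArg Subtype.val hAB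
  have h2 : (B : Matrix (Fin 2) (Fin 2) F) * C = C * B := congrArg Subtype.val hBC
  exact commute_of_commute_nonscalar _ _ _ (nonscalar_of_ne_one B hB) h1 h2

/-- In characteristic 2, the centre of `SL₂(F)` is trivial. -/
theorem sl2_center_eq_bot [CharP F 2] :
    Subgroup.center (Matrix.SpecialLinearGroup (Fin 2) F) = ⊥ := by
  rw [eq_bot_iff]
  intro Z hZ
  rw [Subgroup.mem_bot]
  by_contra hne
  have hns := nonscalar_of_ne_one Z hne
  rw [Matrix.SpecialLinearGroup.mem_center_iff] at hZ
  obtain ⟨r, -, hr⟩ := hZ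
  have hZ' : (Z : Matrix (Fin 2) (Fin 2) F) = Matrix.scalar (Fin 2) r := by rw [hr]
  rcases hns with h | h | h
  · apply h
    rw [hZ']
    simp
  · apply h
    rw [hZ']
    simp
  · apply h
    rw [hZ']
    simp

/-- In characteristic 2, commuting is transitive on non-identity elements of `PSL₂(F)`. -/
theorem psl2_CT [CharP F 2] (a b c : Matrix.ProjectiveSpecialLinearGroup (Fin 2) F) (hb : b ≠ 1)
    (hab : a * b = b * a) (hbc : b * c = c * b) : a * c = c * a := by
  have hinj : Function.Injective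
      (QuotientGroup.mk' (Subgroup.center (Matrix.SpecialLinearGroup (Fin 2) F))) := by
    rw [← MonoidHom.ker_eq_bot_iff, QuotientGroup.ker_mk', sl2_center_eq_bot]
  obtain ⟨A, rfl⟩ := QuotientGroup.mk'_surjective _ a
  obtain ⟨B, rfl⟩ := QuotientGroup.mk'_surjective _ b
  obtain ⟨C, rfl⟩ := QuotientGroup.mk'_surjective _ c
  rw [← map_mul, ← map_mul] at hab hbc ⊢
  have hB : B ≠ 1 := by
    rintro rfl
    exact hb (map_one _)
  rw [sl2_CT A B C hB (hinj hab) (hinj hbc)]

end Cfsg.Agent.Helper11.Mat2Cent
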