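import Mathlib

/-! Automorphisms of `PSL₂(F)`, part A: root elements, projective equality, relations. -/

set_option autoImplicit false
set_option linter.unusedSectionVars false
set_option linter.unusedVariables false

namespace Cfsg.Agent.Helper11.PSL2Aut

open Matrix

variable {F : Type*} [Field F]

/-- the projection `SL₂ → PSL₂` -/
abbrev pr : Matrix.SpecialLinearGroup (Fin 2) F →* Matrix.ProjectiveSpecialLinearGroup (Fin 2) F :=
  QuotientGroup.mk' (Subgroup.center (Matrix.SpecialLinearGroup (Fin 2) F))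

theorem pr_surjective : Function.Surjective (pr (F := F)) := QuotientGroup.mk'_surjective _

/-- equality in `PSL₂` is equality up to sign -/
theorem pr_eq_iff (g h : Matrix.SpecialLinearGroup (Fin 2) F) :
    pr g = pr h ↔ ∃ r : F, r * r = 1 ∧
      (h : Matrix (Fin 2) (Fin 2) F) = r • (g : Matrix (Fin 2) (Fin 2) F) := by
  constructor
  · intro he
    have h1 : g⁻¹ * h ∈ Subgroup.center (Matrix.SpecialLinearGroup (Fin 2) F) :=
      QuotientGroup.eq.mp he
    rw [Matrix.SpecialLinearGroup.mem_center_iff] at h1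
    obtain ⟨r, hr, hs⟩ := h1
    refine ⟨r, ?_, ?_⟩
    · simpa [sq] using hr
    · have h2 : (h : Matrix (Fin 2) (Fin 2) F) =
          (g : Matrix (Fin 2) (Fin 2) F) * ((g⁻¹ * h : Matrix.SpecialLinearGroup (Fin 2) F) :
            Matrix (Fin 2) (Fin 2) F) := by
        rw [← Matrix.SpecialLinearGroup.coe_mul, mul_inv_cancel_left]
      rw [h2, ← hs]
      ext i j
      simp [Matrix.mul_apply, Matrix.scalar_apply, Matrix.diagonal_apply, mul_comm]
  · rintro ⟨r, hr, hs⟩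
    apply QuotientGroup.eq.mpr
    rw [Matrix.SpecialLinearGroup.mem_center_iff]
    refine ⟨r, by simpa [sq] using hr, ?_⟩
    have h2 : ((g⁻¹ * h : Matrix.SpecialLinearGroup (Fin 2) F) : Matrix (Fin 2) (Fin 2) F) =
        r • (1 : Matrix (Fin 2) (Fin 2) F) := by
      rw [Matrix.SpecialLinearGroup.coe_mul, hs, Matrix.mul_smul,
        ← Matrix.SpecialLinearGroup.coe_mul, inv_mul_cancel, Matrix.SpecialLinearGroup.coe_one]
    rw [h2]
    ext i j
    simp [Matrix.scalar_apply, Matrix.diagonal_apply, Matrix.one_apply]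

theorem pr_eq_one_iff (g : Matrix.SpecialLinearGroup (Fin 2) F) :
    pr g = 1 ↔ ∃ r : F, r * r = 1 ∧
      (g : Matrix (Fin 2) (Fin 2) F) = r • (1 : Matrix (Fin 2) (Fin 2) F) := by
  rw [← map_one pr, eq_comm, pr_eq_iff]
  simp

/-- upper unitriangular -/
def uS (x : F) : Matrix.SpecialLinearGroup (Fin 2) F :=
  ⟨!![1, x; 0, 1], by simp [Matrix.det_fin_two_of]⟩

/-- lower unitriangular -/
def vS (y : F) : Matrix.SpecialLinearGroup (Fin 2) F :=
  ⟨!![1, 0; y, 1], by simp [Matrix.det_fin_two_of]⟩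

/-- diagonal -/
def tS (a : Fˣ) : Matrix.SpecialLinearGroup (Fin 2) F :=
  ⟨!![(a : F), 0; 0, ((a⁻¹ : Fˣ) : F)], by simp [Matrix.det_fin_two_of]⟩

/-- the Weyl element -/
def wS : Matrix.SpecialLinearGroup (Fin 2) F :=
  ⟨!![0, 1; -1, 0], by simp [Matrix.det_fin_two_of]⟩

theorem uS_coe (x : F) : ((uS x : Matrix.SpecialLinearGroup (Fin 2) F) :
    Matrix (Fin 2) (Fin 2) F) = !![1, x; 0, 1] := rfl

theorem vS_coe (y : F) : ((vS y : Matrix.SpecialLinearGroup (Fin 2) F) :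
    Matrix (Fin 2) (Fin 2) F) = !![1, 0; y, 1] := rfl

theorem tS_coe (a : Fˣ) : ((tS a : Matrix.SpecialLinearGroup (Fin 2) F) :
    Matrix (Fin 2) (Fin 2) F) = !![(a : F), 0; 0, ((a⁻¹ : Fˣ) : F)] := rfl

theorem wS_coe : ((wS : Matrix.SpecialLinearGroup (Fin 2) F) :
    Matrix (Fin 2) (Fin 2) F) = !![0, 1; -1, 0] := rfl

theorem sl2_ext {g h : Matrix.SpecialLinearGroup (Fin 2) F}
    (h00 : (g : Matrix (Fin 2) (Fin 2) F) 0 0 = (h : Matrix (Fin 2) (Fin 2) F) 0 0)
    (h01 : (g : Matrix (Fin 2) (Fin 2) F) 0 1 = (h : Matrix (Fin 2) (Fin 2) F) 0 1)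
    (h10 : (g : Matrix (Fin 2) (Fin 2) F) 1 0 = (h : Matrix (Fin 2) (Fin 2) F) 1 0)
    (h11 : (g : Matrix (Fin 2) (Fin 2) F) 1 1 = (h : Matrix (Fin 2) (Fin 2) F) 1 1) : g = h := by
  apply Subtype.ext
  ext i j
  fin_cases i <;> fin_cases j <;> assumption

theorem uS_add (x y : F) : uS (x + y) = uS x * uS y := by
  apply sl2_ext <;>
    simp [uS_coe, Matrix.SpecialLinearGroup.coe_mul, Matrix.mul_apply, Fin.sum_univ_two, add_comm]

theorem uS_zero : uS (0 : F) = 1 := by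
  apply sl2_ext <;> simp [uS_coe]

theorem vS_add (x y : F) : vS (x + y) = vS x * vS y := by
  apply sl2_ext <;>
    simp [vS_coe, Matrix.SpecialLinearGroup.coe_mul, Matrix.mul_apply, Fin.sum_univ_two, add_comm]

theorem vS_zero : vS (0 : F) = 1 := by
  apply sl2_ext <;> simp [vS_coe]

theorem tS_mul (a b : Fˣ) : tS (a * b) = tS a * tS b := by
  apply sl2_ext <;>
    simp [tS_coe, Matrix.SpecialLinearGroup.coe_mul, Matrix.mul_apply, Fin.sum_univ_two, mul_comm]

theorem tS_one : tS (1 : Fˣ) = 1 := by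
  apply sl2_ext <;> simp [tS_coe]

theorem tS_mul_uS (a : Fˣ) (x : F) : tS a * uS x = uS ((a : F) ^ 2 * x) * tS a := by
  apply sl2_ext <;>
    simp [tS_coe, uS_coe, Matrix.SpecialLinearGroup.coe_mul, Matrix.mul_apply, Fin.sum_univ_two]
  field_simp

theorem tS_mul_vS (a : Fˣ) (y : F) : tS a * vS y = vS (((a⁻¹ : Fˣ) : F) ^ 2 * y) * tS a := by
  apply sl2_ext <;>
    simp [tS_coe, vS_coe, Matrix.SpecialLinearGroup.coe_mul, Matrix.mul_apply, Fin.sum_univ_two]
  field_simp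

theorem wS_mul_uS (x : F) : wS * uS x = vS (-x) * wS := by
  apply sl2_ext <;>
    simp [wS_coe, uS_coe, vS_coe, Matrix.SpecialLinearGroup.coe_mul, Matrix.mul_apply,
      Fin.sum_univ_two]

theorem wS_mul_vS (y : F) : wS * vS y = uS (-y) * wS := by
  apply sl2_ext <;>
    simp [wS_coe, uS_coe, vS_coe, Matrix.SpecialLinearGroup.coe_mul, Matrix.mul_apply,
      Fin.sum_univ_two]

/-- `u(a) v(-a⁻¹) u(a) = t(a) w` -/
theorem uvu (a : Fˣ) : uS (a : F) * vS (-((a⁻¹ : Fˣ) : F)) * uS (a : F) = tS a * wS := by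
  apply sl2_ext <;>
    simp [wS_coe, uS_coe, vS_coe, tS_coe, Matrix.SpecialLinearGroup.coe_mul, Matrix.mul_apply,
      Fin.sum_univ_two]

theorem wS_mul_wS_mem : (wS : Matrix.SpecialLinearGroup (Fin 2) F) * wS = -1 := by
  apply sl2_ext <;>
    simp [wS_coe, Matrix.SpecialLinearGroup.coe_mul, Matrix.mul_apply, Fin.sum_univ_two]

/-- upper triangular elements -/
theorem upper_eq (g : Matrix.SpecialLinearGroup (Fin 2) F)
    (hg : (g : Matrix (Fin 2) (Fin 2) F) 1 0 = 0) :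
    ∃ (a : Fˣ) (x : F), g = uS x * tS a := by
  have hdet := g.2
  rw [Matrix.det_fin_two, hg, mul_zero, sub_zero] at hdet
  set a := Units.mkOfMulEqOne _ _ hdet with ha
  refine ⟨a, (g : Matrix (Fin 2) (Fin 2) F) 0 1 * (g : Matrix (Fin 2) (Fin 2) F) 0 0, ?_⟩
  have ha0 : (a : F) = (g : Matrix (Fin 2) (Fin 2) F) 0 0 := rfl
  have ha1 : ((a⁻¹ : Fˣ) : F) = (g : Matrix (Fin 2) (Fin 2) F) 1 1 := rfl
  apply sl2_ext
  · simp [uS_coe, tS_coe, Matrix.SpecialLinearGroup.coe_mul, Matrix.mul_apply, Fin.sum_univ_two, ha0]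
  · simp only [uS_coe, tS_coe, Matrix.SpecialLinearGroup.coe_mul, Matrix.mul_apply,
      Fin.sum_univ_two, ha1]
    simp
    rw [mul_assoc, hdet, mul_one]
  · simp [uS_coe, tS_coe, Matrix.SpecialLinearGroup.coe_mul, Matrix.mul_apply, Fin.sum_univ_two, hg]
  · simp [uS_coe, tS_coe, Matrix.SpecialLinearGroup.coe_mul, Matrix.mul_apply, Fin.sum_univ_two, ha1]

/-- Bruhat decomposition -/
theorem bruhat (g : Matrix.SpecialLinearGroup (Fin 2) F) :
    (∃ (a : Fˣ) (x : F), g = uS x * tS a) ∨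
      ∃ (x : F) (a : Fˣ) (y : F), g = uS x * wS * (uS y * tS a) := by
  by_cases hc : (g : Matrix (Fin 2) (Fin 2) F) 1 0 = 0
  · left
    exact upper_eq g hc
  · right
    set c := (g : Matrix (Fin 2) (Fin 2) F) 1 0 with hcdef
    set x := (g : Matrix (Fin 2) (Fin 2) F) 0 0 / c with hx
    have hb : ((wS⁻¹ * uS (-x) * g : Matrix.SpecialLinearGroup (Fin 2) F) :
        Matrix (Fin 2) (Fin 2) F) 1 0 = 0 := by
      have hw : ((wS⁻¹ : Matrix.SpecialLinearGroup (Fin 2) F) : Matrix (Fin 2) (Fin 2) F) =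
          !![0, -1; 1, 0] := by
        rw [Matrix.SpecialLinearGroup.coe_inv, wS_coe, Matrix.adjugate_fin_two_of]
        simp
      rw [Matrix.SpecialLinearGroup.coe_mul, Matrix.SpecialLinearGroup.coe_mul, hw, uS_coe]
      simp [Matrix.mul_apply, Fin.sum_univ_two]
      rw [hx, ← hcdef]
      field_simp
      ring
    obtain ⟨a, y, hay⟩ := upper_eq _ hb
    refine ⟨x, a, y, ?_⟩
    rw [← hay]
    have : uS x * uS (-x) = (1 : Matrix.SpecialLinearGroup (Fin 2) F) := by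
      rw [← uS_add, add_neg_cancel, uS_zero]
    calc g = (uS x * uS (-x)) * g := by rw [this, one_mul]
      _ = uS x * wS * (wS⁻¹ * uS (-x) * g) := by group

end Cfsg.Agent.Helper11.PSL2Aut
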