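import Mathlib

/-! Subgroups that are the centraliser of each of their non-identity elements: conjugates, counting
of the union of conjugates, Sylow subgroups. -/

set_option autoImplicit false
set_option linter.unusedSectionVars false
set_option linter.unusedVariables false

namespace Cfsg.Agent.Helper11.SCTI

variable {G : Type*} [Group G]

/-- `T` is the centraliser of each of its non-identity elements -/
def SC (T : Subgroup G) : Prop :=
  ∀ t ∈ T, t ≠ 1 → Subgroup.centralizer ({t} : Set G) = T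

/-- the conjugate `g T g⁻¹` -/
abbrev cj (g : G) (T : Subgroup G) : Subgroup G := T.map (MulAut.conj g).toMonoidHom

theorem mem_cj {g x : G} {T : Subgroup G} : x ∈ cj g T ↔ g⁻¹ * x * g ∈ T := by
  constructor
  · rintro ⟨t, ht, rfl⟩
    have : g⁻¹ * ((MulAut.conj g).toMonoidHom t) * g = t := by
      show g⁻¹ * (g * t * g⁻¹) * g = t
      group
    rw [this]
    exact ht
  · intro h
    refine ⟨g⁻¹ * x * g, h, ?_⟩
    show g * (g⁻¹ * x * g) * g⁻¹ = x
    group

theorem conj_mem_cj {g t : G} {T : Subgroup G} (ht : t ∈ T) : g * t * g⁻¹ ∈ cj g T :=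
  ⟨t, ht, rfl⟩

theorem cj_one (T : Subgroup G) : cj 1 T = T := by
  ext x
  rw [mem_cj]
  simp

theorem cj_cj (g h : G) (T : Subgroup G) : cj g (cj h T) = cj (g * h) T := by
  ext x
  rw [mem_cj, mem_cj, mem_cj]
  have : h⁻¹ * (g⁻¹ * x * g) * h = (g * h)⁻¹ * x * (g * h) := by group
  rw [this]

theorem card_cj (g : G) (T : Subgroup G) : Nat.card (cj g T) = Nat.card T :=
  (Nat.card_congr (T.equivMapOfInjective _ (MulAut.conj g).injective).toEquiv).symm

theorem mem_centralizer_singleton {a c : G} :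
    c ∈ Subgroup.centralizer ({a} : Set G) ↔ a * c = c * a := by
  rw [Subgroup.mem_centralizer_iff]
  constructor
  · intro h; exact h a rfl
  · intro h g hg
    rw [Set.mem_singleton_iff] at hg
    rw [hg, h]

theorem centralizer_conj (g t : G) :
    Subgroup.centralizer ({g * t * g⁻¹} : Set G) = cj g (Subgroup.centralizer ({t} : Set G)) := by
  ext c
  rw [mem_cj, mem_centralizer_singleton, mem_centralizer_singleton]
  constructor
  · intro h
    calc t * (g⁻¹ * c * g) = g⁻¹ * (g * t * g⁻¹ * c) * g := by group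
      _ = g⁻¹ * (c * (g * t * g⁻¹)) * g := by rw [h]
      _ = g⁻¹ * c * g * t := by group
  · intro h
    calc g * t * g⁻¹ * c = g * (t * (g⁻¹ * c * g)) * g⁻¹ := by group
      _ = g * ((g⁻¹ * c * g) * t) * g⁻¹ := by rw [h]
      _ = c * (g * t * g⁻¹) := by group

theorem SC.comm {T : Subgroup G} (h : SC T) : ∀ a ∈ T, ∀ b ∈ T, a * b = b * a := by
  intro a ha b hb
  by_cases ha1 : a = 1
  · rw [ha1, one_mul, mul_one]
  · have : b ∈ Subgroup.centralizer ({a} : Set G) := by rw [h a ha ha1]; exact hb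
    exact mem_centralizer_singleton.mp this

theorem SC.conj {T : Subgroup G} (h : SC T) (g : G) : SC (cj g T) := by
  intro x hx hx1
  rw [mem_cj] at hx
  have hx1' : g⁻¹ * x * g ≠ 1 := by
    intro h1
    apply hx1
    have := congrArg (fun z => g * z * g⁻¹) h1
    simpa [mul_assoc] using this
  have h1 := h _ hx hx1'
  have h2 := centralizer_conj g (g⁻¹ * x * g)
  have e : g * (g⁻¹ * x * g) * g⁻¹ = x := by group
  rw [e, h1] at h2
  exact h2

theorem SC.eq_of_mem {T T' : Subgroup G} (hT : SC T) (hT' : SC T') {x : G} (hx1 : x ≠ 1)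
    (h1 : x ∈ T) (h2 : x ∈ T') : T = T' := by
  rw [← hT x h1 hx1, ← hT' x h2 hx1]

theorem cj_eq_self_iff {g : G} {T : Subgroup G} :
    cj g T = T ↔ g ∈ Subgroup.normalizer (T : Set G) := by
  rw [Subgroup.mem_normalizer_iff]
  constructor
  · intro h x
    constructor
    · intro hx
      rw [← h]
      exact conj_mem_cj hx
    · intro hx
      rw [← h, mem_cj] at hx
      have e : g⁻¹ * (g * x * g⁻¹) * g = x := by group
      rw [e] at hx
      exact hx
  · intro h
    ext x
    rw [mem_cj, h (g⁻¹ * x * g)]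
    have e : g * (g⁻¹ * x * g) * g⁻¹ = x := by group
    rw [e]

theorem SC.mem_normalizer {T : Subgroup G} (h : SC T) {g t : G} (ht : t ∈ T) (ht1 : t ≠ 1)
    (hg : g * t * g⁻¹ ∈ T) : g ∈ Subgroup.normalizer (T : Set G) := by
  rw [← cj_eq_self_iff]
  have hne : g * t * g⁻¹ ≠ 1 := by
    intro h1
    apply ht1
    have := congrArg (fun z => g⁻¹ * z * g) h1
    simpa [mul_assoc] using this
  exact (SC.eq_of_mem (h.conj g) h hne (conj_mem_cj ht) hg)

/-- the non-identity elements conjugate into `T` -/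
def cov (T : Subgroup G) : Set G := {g | g ≠ 1 ∧ ∃ h : G, h * g * h⁻¹ ∈ T}

theorem cov_cj (g : G) (T : Subgroup G) : cov (cj g T) = cov T := by
  ext x
  constructor
  · rintro ⟨hx1, h, hh⟩
    rw [mem_cj] at hh
    refine ⟨hx1, g⁻¹ * h, ?_⟩
    have e : g⁻¹ * h * x * (g⁻¹ * h)⁻¹ = g⁻¹ * (h * x * h⁻¹) * g := by group
    rw [e]
    exact hh
  · rintro ⟨hx1, h, hh⟩
    refine ⟨hx1, g * h, ?_⟩
    rw [mem_cj]
    have e : g⁻¹ * (g * h * x * (g * h)⁻¹) * g = h * x * h⁻¹ := by group
    rw [e]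
    exact hh

theorem card_ne_one_subtype (T : Subgroup G) [Finite T] :
    Nat.card {t : T // t ≠ 1} = Nat.card T - 1 := by
  classical
  have : Fintype T := Fintype.ofFinite T
  rw [Nat.card_eq_fintype_card, Nat.card_eq_fintype_card, Fintype.card_subtype_compl,
    Fintype.card_subtype_eq]

/-- counting the union of the conjugates of a self-centralising TI subgroup -/
theorem card_cov [Finite G] {T : Subgroup G} (hT : SC T) :
    Nat.card (cov T) * Nat.card (Subgroup.normalizer (T : Set G)) =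
      Nat.card G * (Nat.card T - 1) := by
  classical
  let S := {p : G × G // p.2 ≠ 1 ∧ p.1 * p.2 * p.1⁻¹ ∈ T}
  have e1 : S ≃ G × {t : T // t ≠ 1} :=
    { toFun := fun p => (p.1.1, ⟨⟨p.1.1 * p.1.2 * p.1.1⁻¹, p.2.2⟩, by
        intro h
        have h' : p.1.1 * p.1.2 * p.1.1⁻¹ = 1 := congrArg Subtype.val h
        apply p.2.1
        have := congrArg (fun z => p.1.1⁻¹ * z * p.1.1) h'
        simpa [mul_assoc] using this⟩)
      invFun := fun q => ⟨(q.1, q.1⁻¹ * q.2.1.1 * q.1), by
        constructor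
        · intro h
          apply q.2.2
          apply Subtype.ext
          have := congrArg (fun z => q.1 * z * q.1⁻¹) h
          simpa [mul_assoc] using this
        · have e : q.1 * (q.1⁻¹ * q.2.1.1 * q.1) * q.1⁻¹ = q.2.1.1 := by group
          show q.1 * (q.1⁻¹ * q.2.1.1 * q.1) * q.1⁻¹ ∈ T
          rw [e]
          exact q.2.1.2⟩
      left_inv := by
        rintro ⟨⟨h, g⟩, hp⟩
        apply Subtype.ext
        show (h, h⁻¹ * (h * g * h⁻¹) * h) = (h, g)
        congr 1
        group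
      right_inv := by
        rintro ⟨h, ⟨t, ht⟩⟩
        show (h, _) = (h, _)
        congr 1
        apply Subtype.ext
        apply Subtype.ext
        show h * (h⁻¹ * t.1 * h) * h⁻¹ = t.1
        group }
  let h₀ : cov T → G := fun g => Classical.choose g.2.2
  have hh₀ : ∀ g : cov T, h₀ g * g.1 * (h₀ g)⁻¹ ∈ T := fun g => Classical.choose_spec g.2.2
  have e2 : S ≃ cov T × Subgroup.normalizer (T : Set G) :=
    { toFun := fun p => (⟨p.1.2, p.2.1, p.1.1, p.2.2⟩,
        ⟨p.1.1 * (h₀ ⟨p.1.2, p.2.1, p.1.1, p.2.2⟩)⁻¹, by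
          set g : cov T := ⟨p.1.2, p.2.1, p.1.1, p.2.2⟩ with hg
          have ht := hh₀ g
          have ht1 : h₀ g * g.1 * (h₀ g)⁻¹ ≠ 1 := by
            intro h1
            apply g.2.1
            have := congrArg (fun z => (h₀ g)⁻¹ * z * h₀ g) h1
            simpa [mul_assoc] using this
          apply hT.mem_normalizer ht ht1
          have e : p.1.1 * (h₀ g)⁻¹ * (h₀ g * g.1 * (h₀ g)⁻¹) * (p.1.1 * (h₀ g)⁻¹)⁻¹ =
              p.1.1 * g.1 * p.1.1⁻¹ := by group
          rw [e]
          exact p.2.2⟩)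
      invFun := fun q => ⟨(q.2.1 * h₀ q.1, q.1.1), q.1.2.1, by
        have e : q.2.1 * h₀ q.1 * q.1.1 * (q.2.1 * h₀ q.1)⁻¹ =
            q.2.1 * (h₀ q.1 * q.1.1 * (h₀ q.1)⁻¹) * q.2.1⁻¹ := by group
        show q.2.1 * h₀ q.1 * q.1.1 * (q.2.1 * h₀ q.1)⁻¹ ∈ T
        rw [e]
        exact (Subgroup.mem_normalizer_iff.mp q.2.2 _).mp (hh₀ q.1)⟩
      left_inv := by
        rintro ⟨⟨h, g⟩, hp⟩
        apply Subtype.ext
        show (h * (h₀ _)⁻¹ * h₀ _, g) = (h, g)
        congr 1
        group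
      right_inv := by
        rintro ⟨g, n⟩
        show (_, _) = (g, n)
        congr 1
        apply Subtype.ext
        show n.1 * h₀ g * (h₀ _)⁻¹ = n.1
        group }
  have := Nat.card_congr (e2.symm.trans e1)
  rw [Nat.card_prod, Nat.card_prod, card_ne_one_subtype] at this
  exact this

/-- a self-centralising TI subgroup contains a full Sylow `p`-subgroup for each `p ∣ |T|` -/
theorem SC.exists_sylow_le [Finite G] {T : Subgroup G} (hT : SC T) (p : ℕ) [Fact p.Prime]
    (hp : p ∣ Nat.card T) : ∃ P : Sylow p G, (P : Subgroup G) ≤ T ∧ (P : Subgroup G) ≠ ⊥ := by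
  obtain ⟨t, ht⟩ := exists_prime_orderOf_dvd_card' (G := T) p hp
  have ht1 : t ≠ 1 := by
    intro h
    rw [h, orderOf_one] at ht
    exact (Fact.out : p.Prime).one_lt.ne ht
  have hpg : IsPGroup p (Subgroup.zpowers (t : G)) := by
    apply IsPGroup.of_card (n := 1)
    rw [Nat.card_zpowers, pow_one, Subgroup.orderOf_coe, ht]
  obtain ⟨P, hP⟩ := hpg.exists_le_sylow
  have htP : (t : G) ∈ (P : Subgroup G) := hP (Subgroup.mem_zpowers _)
  have hne : (P : Subgroup G) ≠ ⊥ := by
    intro h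
    rw [h, Subgroup.mem_bot] at htP
    exact ht1 (Subtype.ext htP)
  have : Nontrivial (P : Subgroup G) := (Subgroup.nontrivial_iff_ne_bot _).mpr hne
  have hcn := IsPGroup.center_nontrivial (G := (P : Subgroup G)) P.2
  obtain ⟨z, hz⟩ := exists_ne (1 : Subgroup.center (P : Subgroup G))
  have hz1 : (z.1.1 : G) ≠ 1 := by
    intro h
    apply hz
    apply Subtype.ext
    apply Subtype.ext
    exact h
  have hzc : ∀ y : (P : Subgroup G), y.1 * z.1.1 = z.1.1 * y.1 := by
    intro y
    have := Subgroup.mem_center_iff.mp z.2 y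
    exact congrArg Subtype.val this
  have ht1' : (t : G) ≠ 1 := fun h => ht1 (Subtype.ext h)
  have hzT : (z.1.1 : G) ∈ T := by
    rw [← hT t.1 t.2 ht1', mem_centralizer_singleton]
    exact hzc ⟨t.1, htP⟩
  refine ⟨P, ?_, hne⟩
  intro y hy
  rw [← hT z.1.1 hzT hz1, mem_centralizer_singleton]
  exact (hzc ⟨y, hy⟩).symm

theorem SC.conj_of_sylow [Finite G] {T T' : Subgroup G} (hT : SC T) (hT' : SC T') (p : ℕ)
    [Fact p.Prime] (P P' : Sylow p G) (hP : (P : Subgroup G) ≤ T) (hP' : (P' : Subgroup G) ≤ T')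
    (hne : (P : Subgroup G) ≠ ⊥) : ∃ g : G, T' = cj g T := by
  obtain ⟨g, hg⟩ := MulAction.exists_smul_eq G P P'
  obtain ⟨z, hz1⟩ := (Subgroup.ne_bot_iff_exists_ne_one.mp hne)
  refine ⟨g, ?_⟩
  have hz1' : (z : G) ≠ 1 := fun h => hz1 (Subtype.ext h)
  have h1 : g * z.1 * g⁻¹ ∈ (P' : Subgroup G) := by
    rw [← hg, Sylow.coe_subgroup_smul]
    exact ⟨z.1, z.2, rfl⟩
  have h2 : g * z.1 * g⁻¹ ≠ 1 := by
    intro h
    apply hz1'
    have := congrArg (fun w => g⁻¹ * w * g) h
    simpa [mul_assoc] using this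
  exact SC.eq_of_mem hT' (hT.conj g) h2 (hP' h1) (conj_mem_cj (hP z.2))

/-- two self-centralising TI subgroups whose orders share a prime are conjugate -/
theorem SC.conj_of_prime [Finite G] {T T' : Subgroup G} (hT : SC T) (hT' : SC T') (p : ℕ)
    [Fact p.Prime] (hp : p ∣ Nat.card T) (hp' : p ∣ Nat.card T') : ∃ g : G, T' = cj g T := by
  obtain ⟨P, hP, hne⟩ := hT.exists_sylow_le p hp
  obtain ⟨P', hP', -⟩ := hT'.exists_sylow_le p hp'
  exact hT.conj_of_sylow hT' p P P' hP hP' hne

end Cfsg.Agent.Helper11.SCTI
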