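import Mathlib
import Cfsg.Agent.Helper11.SelfCentTI

/-! Generic lemmas for the subgroup theorem of the Suzuki groups: conjugating involutions in a
dihedral group of twice odd order, and the Frobenius-partition counting argument. -/

set_option autoImplicit false
set_option linter.unusedSectionVars false
set_option linter.unusedVariables false

namespace Cfsg.Agent.Helper11.SzSg

open Cfsg.Agent.Helper11.SCTI

variable {G : Type*} [Group G]

/-- two involutions whose product has odd order are conjugate by an involution of the subgroup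
they generate -/
theorem exists_invol_conj (u v : G) (hu : u * u = 1) (hv : v * v = 1) (k : ℕ)
    (hk : (u * v) ^ (2 * k + 1) = 1) :
    ∃ t ∈ Subgroup.closure ({u, v} : Set G), t * t = 1 ∧ t * u * t = v := by
  have hu' : u⁻¹ = u := inv_eq_of_mul_eq_one_left hu
  have hv' : v⁻¹ = v := inv_eq_of_mul_eq_one_left hv
  set w := u * v with hw
  have hsc : SemiconjBy u w w⁻¹ := by
    unfold SemiconjBy
    rw [hw, mul_inv_rev, hu', hv', ← mul_assoc, hu, one_mul, mul_assoc, hu, mul_one]
  have hscp : ∀ j : ℕ, u * w ^ j = (w⁻¹) ^ j * u := fun j => (hsc.pow_right j).eq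
  have hum : u ∈ Subgroup.closure ({u, v} : Set G) := Subgroup.subset_closure (by simp)
  have hvm : v ∈ Subgroup.closure ({u, v} : Set G) := Subgroup.subset_closure (by simp)
  have hwm : w ∈ Subgroup.closure ({u, v} : Set G) := Subgroup.mul_mem _ hum hvm
  refine ⟨w ^ k * u, Subgroup.mul_mem _ (Subgroup.pow_mem _ hwm k) hum, ?_, ?_⟩
  · calc w ^ k * u * (w ^ k * u) = w ^ k * (u * w ^ k) * u := by group
      _ = w ^ k * ((w⁻¹) ^ k * u) * u := by rw [hscp]
      _ = (w ^ k * (w⁻¹) ^ k) * (u * u) := by group
      _ = 1 := by rw [hu, inv_pow, mul_inv_cancel, one_mul]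
  · have h2k : w ^ (2 * k) = w⁻¹ := by
      rw [eq_inv_iff_mul_eq_one, ← pow_succ]
      exact hk
    calc w ^ k * u * u * (w ^ k * u) = w ^ k * (u * u) * w ^ k * u := by group
      _ = w ^ (2 * k) * u := by rw [hu, mul_one, ← pow_add, two_mul]
      _ = v := by rw [h2k, hw, mul_inv_rev, hu', hv', mul_assoc, hu, mul_one]

/-- the Frobenius-partition counting argument: a finite group in which every centraliser of a
non-identity element is self-centralising (in the sense `SC`) and self-normalising is abelian -/
theorem centralizer_eq_top_of_partition [Finite G]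
    (h : ∀ x : G, x ≠ 1 → SC (Subgroup.centralizer ({x} : Set G)) ∧
      Subgroup.normalizer ((Subgroup.centralizer ({x} : Set G) : Subgroup G) : Set G) =
        Subgroup.centralizer ({x} : Set G))
    (x : G) (hx : x ≠ 1) : Subgroup.centralizer ({x} : Set G) = ⊤ := by
  classical
  by_contra hne
  set H := Subgroup.centralizer ({x} : Set G) with hH
  obtain ⟨hscH, hnH⟩ := h x hx
  have hxH : x ∈ H := by rw [hH, mem_centralizer_singleton]
  set n := Nat.card G with hn
  set a := Nat.card H with ha
  have hcH : (cov H).ncard * a = n * (a - 1) := by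
    have := card_cov hscH
    rw [hnH] at this
    exact this
  have hn0 : 0 < n := Nat.card_pos
  have ha2 : 2 ≤ a := by
    have : 1 < Nat.card H := by
      rw [Subgroup.one_lt_card_iff_ne_bot]
      intro hb
      rw [hb, Subgroup.mem_bot] at hxH
      exact hx hxH
    exact this
  have halt : a < n := by
    have h1 : a ≤ n := Subgroup.card_le_card_group H
    rcases Nat.lt_or_ge a n with h2 | h2
    · exact h2
    · exfalso
      exact hne (Subgroup.card_eq_iff_eq_top H |>.mp (le_antisymm h1 h2))
  -- all covs are in the non-identity elements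
  have hsub : ∀ T : Subgroup G, cov T ⊆ {g : G | g ≠ 1} := fun T g hg => hg.1
  have hcard1 : Nat.card {g : G // g ≠ 1} = n - 1 := by
    have : Fintype G := Fintype.ofFinite G
    rw [Nat.card_eq_fintype_card, Fintype.card_subtype_compl, Fintype.card_subtype_eq, hn,
      Nat.card_eq_fintype_card]
  have hfin : (Set.univ : Set G).Finite := Set.toFinite _
  have hcovle : ∀ T : Subgroup G, (cov T).ncard ≤ n - 1 := by
    intro T
    have := Set.ncard_le_ncard (hsub T) (Set.toFinite _)
    rw [← hcard1]
    exact this
  -- an element outside cov H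
  have hex : ∃ y : G, y ≠ 1 ∧ y ∉ cov H := by
    by_contra hall
    have hall' : ∀ g : G, g ≠ 1 → g ∈ cov H := by
      intro g hg
      by_contra hg'
      exact hall ⟨g, hg, hg'⟩
    have heq : cov H = {g : G | g ≠ 1} := Set.Subset.antisymm (hsub H) (fun g hg => hall' g hg)
    have : (cov H).ncard = n - 1 := by rw [heq]; exact hcard1
    rw [this] at hcH
    -- (n-1) a = n (a-1)
    have h1 : (n - 1) * a + a = n * a := by
      have : n - 1 + 1 = n := Nat.sub_add_cancel hn0
      calc (n - 1) * a + a = (n - 1 + 1) * a := by ring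
        _ = n * a := by rw [this]
    have h2 : n * (a - 1) + n = n * a := by
      have : a - 1 + 1 = a := Nat.sub_add_cancel (by omega)
      calc n * (a - 1) + n = n * (a - 1 + 1) := by ring
        _ = n * a := by rw [this]
    omega
  obtain ⟨y, hy1, hycov⟩ := hex
  set K := Subgroup.centralizer ({y} : Set G) with hK
  obtain ⟨hscK, hnK⟩ := h y hy1
  have hyK : y ∈ K := by rw [hK, mem_centralizer_singleton]
  set b := Nat.card K with hb
  have hcK : (cov K).ncard * b = n * (b - 1) := by
    have := card_cov hscK
    rw [hnK] at this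
    exact this
  have hb2 : 2 ≤ b := by
    have : 1 < Nat.card K := by
      rw [Subgroup.one_lt_card_iff_ne_bot]
      intro hb'
      rw [hb', Subgroup.mem_bot] at hyK
      exact hy1 hyK
    exact this
  -- disjointness
  have hdisj : Disjoint (cov H) (cov K) := by
    rw [Set.disjoint_left]
    rintro z ⟨hz1, h₁, hh₁⟩ ⟨-, k₁, hk₁⟩
    apply hycov
    have hne1 : h₁ * z * h₁⁻¹ ≠ 1 := by
      intro h1
      apply hz1
      have := congrArg (fun t => h₁⁻¹ * t * h₁) h1
      simpa [mul_assoc] using this
    have hne2 : k₁ * z * k₁⁻¹ ≠ 1 := by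
      intro h1
      apply hz1
      have := congrArg (fun t => k₁⁻¹ * t * k₁) h1
      simpa [mul_assoc] using this
    have e1 : H = cj h₁ (Subgroup.centralizer ({z} : Set G)) := by
      rw [← centralizer_conj]
      exact (hscH _ hh₁ hne1).symm
    have e2 : K = cj k₁ (Subgroup.centralizer ({z} : Set G)) := by
      rw [← centralizer_conj]
      exact (hscK _ hk₁ hne2).symm
    have e3 : K = cj (k₁ * h₁⁻¹) H := by
      rw [e1, cj_cj, inv_mul_cancel_right]
      exact e2
    refine ⟨hy1, (k₁ * h₁⁻¹)⁻¹, ?_⟩
    rw [e3, mem_cj] at hyK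
    simpa using hyK
  have hunion : (cov H ∪ cov K).ncard = (cov H).ncard + (cov K).ncard :=
    Set.ncard_union_eq hdisj (Set.toFinite _) (Set.toFinite _)
  have hule : (cov H ∪ cov K).ncard ≤ n - 1 := by
    have := Set.ncard_le_ncard (Set.union_subset (hsub H) (hsub K)) (Set.toFinite _)
    rw [← hcard1]
    exact this
  -- 2 * cov ≥ n
  have h2H : n ≤ 2 * (cov H).ncard := by
    by_contra hlt
    replace hlt := Nat.lt_of_not_le hlt
    have h3 : 2 * ((cov H).ncard * a) < n * a := by
      have := Nat.mul_lt_mul_of_pos_right hlt (by omega : 0 < a)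
      linarith
    rw [hcH] at h3
    have h4 : n * a ≤ 2 * (n * (a - 1)) := by
      have : a ≤ 2 * (a - 1) := by omega
      calc n * a ≤ n * (2 * (a - 1)) := Nat.mul_le_mul_left _ this
        _ = 2 * (n * (a - 1)) := by ring
    omega
  have h2K : n ≤ 2 * (cov K).ncard := by
    by_contra hlt
    replace hlt := Nat.lt_of_not_le hlt
    have h3 : 2 * ((cov K).ncard * b) < n * b := by
      have := Nat.mul_lt_mul_of_pos_right hlt (by omega : 0 < b)
      linarith
    rw [hcK] at h3
    have h4 : n * b ≤ 2 * (n * (b - 1)) := by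
      have : b ≤ 2 * (b - 1) := by omega
      calc n * b ≤ n * (2 * (b - 1)) := Nat.mul_le_mul_left _ this
        _ = 2 * (n * (b - 1)) := by ring
    omega
  omega

end Cfsg.Agent.Helper11.SzSg
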