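import Mathlib
import Cfsg.Agent.Helper11.PSL2AutA
import Cfsg.Agent.Helper11.Mat2Cent
import Cfsg.Agent.Helper11.SelfCentTI
import Cfsg.Agent.Helper11.SzSgA
import Cfsg.Agent.Helper2.SL2Char2
import Cfsg.Agent.Helper2.SLCard

/-! `SL₂(F)` in characteristic two, part A: root elements, the unipotent, diagonal and Borel
subgroups, centralisers and orders. -/

set_option autoImplicit false
set_option linter.unusedSectionVars false
set_option linter.unusedVariables false

namespace Cfsg.Agent.Helper11.L2E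

open Cfsg.Agent.Helper11.PSL2Aut Cfsg.Agent.Helper11.SCTI

variable {F : Type*} [Field F]

local notation "S2" => Matrix.SpecialLinearGroup (Fin 2) F

theorem mul_apply' (g h : S2) (i j : Fin 2) :
    (g * h : S2) i j = g i 0 * h 0 j + g i 1 * h 1 j := by
  show ((g * h : S2) : Matrix (Fin 2) (Fin 2) F) i j = _
  rw [Matrix.SpecialLinearGroup.coe_mul, Matrix.mul_apply, Fin.sum_univ_two]

theorem det_eq (g : S2) : g 0 0 * g 1 1 - g 0 1 * g 1 0 = 1 := by
  have := g.2
  rw [Matrix.det_fin_two] at this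
  exact this

theorem inv_apply_00 (g : S2) : (g⁻¹ : S2) 0 0 = g 1 1 := by
  show ((g⁻¹ : S2) : Matrix (Fin 2) (Fin 2) F) 0 0 = _
  rw [Matrix.SpecialLinearGroup.coe_inv, Matrix.adjugate_fin_two]
  rfl

theorem inv_apply_01 (g : S2) : (g⁻¹ : S2) 0 1 = - g 0 1 := by
  show ((g⁻¹ : S2) : Matrix (Fin 2) (Fin 2) F) 0 1 = _
  rw [Matrix.SpecialLinearGroup.coe_inv, Matrix.adjugate_fin_two]
  rfl

theorem inv_apply_10 (g : S2) : (g⁻¹ : S2) 1 0 = - g 1 0 := by
  show ((g⁻¹ : S2) : Matrix (Fin 2) (Fin 2) F) 1 0 = _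
  rw [Matrix.SpecialLinearGroup.coe_inv, Matrix.adjugate_fin_two]
  rfl

theorem inv_apply_11 (g : S2) : (g⁻¹ : S2) 1 1 = g 0 0 := by
  show ((g⁻¹ : S2) : Matrix (Fin 2) (Fin 2) F) 1 1 = _
  rw [Matrix.SpecialLinearGroup.coe_inv, Matrix.adjugate_fin_two]
  rfl

theorem ext' {g h : S2} (h00 : g 0 0 = h 0 0) (h01 : g 0 1 = h 0 1) (h10 : g 1 0 = h 1 0)
    (h11 : g 1 1 = h 1 1) : g = h := sl2_ext h00 h01 h10 h11

@[simp] theorem uS_00 (x : F) : (uS x : S2) 0 0 = 1 := rfl
@[simp] theorem uS_01 (x : F) : (uS x : S2) 0 1 = x := rfl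
@[simp] theorem uS_10 (x : F) : (uS x : S2) 1 0 = 0 := rfl
@[simp] theorem uS_11 (x : F) : (uS x : S2) 1 1 = 1 := rfl
@[simp] theorem vS_00 (x : F) : (vS x : S2) 0 0 = 1 := rfl
@[simp] theorem vS_01 (x : F) : (vS x : S2) 0 1 = 0 := rfl
@[simp] theorem vS_10 (x : F) : (vS x : S2) 1 0 = x := rfl
@[simp] theorem vS_11 (x : F) : (vS x : S2) 1 1 = 1 := rfl
@[simp] theorem tS_00 (a : Fˣ) : (tS a : S2) 0 0 = a := rfl
@[simp] theorem tS_01 (a : Fˣ) : (tS a : S2) 0 1 = 0 := rfl
@[simp] theorem tS_10 (a : Fˣ) : (tS a : S2) 1 0 = 0 := rfl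
@[simp] theorem tS_11 (a : Fˣ) : (tS a : S2) 1 1 = ((a⁻¹ : Fˣ) : F) := rfl
@[simp] theorem wS_00 : (wS : S2) 0 0 = 0 := rfl
@[simp] theorem wS_01 : (wS : S2) 0 1 = 1 := rfl
@[simp] theorem wS_10 : (wS : S2) 1 0 = -1 := rfl
@[simp] theorem wS_11 : (wS : S2) 1 1 = 0 := rfl
@[simp] theorem one_00 : (1 : S2) 0 0 = 1 := rfl
@[simp] theorem one_01 : (1 : S2) 0 1 = 0 := rfl
@[simp] theorem one_10 : (1 : S2) 1 0 = 0 := rfl
@[simp] theorem one_11 : (1 : S2) 1 1 = 1 := rfl

theorem uS_inv (x : F) : (uS x : S2)⁻¹ = uS (-x) := by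
  apply inv_eq_of_mul_eq_one_right
  rw [← uS_add, add_neg_cancel, uS_zero]

theorem vS_inv (x : F) : (vS x : S2)⁻¹ = vS (-x) := by
  apply inv_eq_of_mul_eq_one_right
  rw [← vS_add, add_neg_cancel, vS_zero]

theorem tS_inv (a : Fˣ) : (tS a : S2)⁻¹ = tS a⁻¹ := by
  apply inv_eq_of_mul_eq_one_right
  rw [← tS_mul, mul_inv_cancel, tS_one]

theorem uS_injective {x y : F} (h : (uS x : S2) = uS y) : x = y := by
  have := congrArg (fun g : S2 => g 0 1) h
  simpa using this

theorem vS_injective {x y : F} (h : (vS x : S2) = vS y) : x = y := by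
  have := congrArg (fun g : S2 => g 1 0) h
  simpa using this

theorem tS_injective {a b : Fˣ} (h : (tS a : S2) = tS b) : a = b := by
  have := congrArg (fun g : S2 => g 0 0) h
  apply Units.ext
  simpa using this

theorem uS_eq_one_iff {x : F} : (uS x : S2) = 1 ↔ x = 0 := by
  constructor
  · intro h
    rw [← uS_zero] at h
    exact uS_injective h
  · rintro rfl
    exact uS_zero

theorem tS_eq_one_iff {a : Fˣ} : (tS a : S2) = 1 ↔ a = 1 := by
  constructor
  · intro h
    rw [← tS_one] at h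
    exact tS_injective h
  · rintro rfl
    exact tS_one

theorem tS_conj_uS (a : Fˣ) (x : F) : tS a * uS x * (tS a)⁻¹ = (uS ((a : F) ^ 2 * x) : S2) := by
  rw [tS_mul_uS, mul_assoc, mul_inv_cancel, mul_one]

theorem tS_conj_vS (a : Fˣ) (x : F) :
    tS a * vS x * (tS a)⁻¹ = (vS (((a⁻¹ : Fˣ) : F) ^ 2 * x) : S2) := by
  rw [tS_mul_vS, mul_assoc, mul_inv_cancel, mul_one]

/-- the unipotent subgroup -/
def Usub : Subgroup S2 where
  carrier := {g | ∃ a, g = uS a}
  mul_mem' := by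
    rintro _ _ ⟨a, rfl⟩ ⟨b, rfl⟩
    exact ⟨a + b, (uS_add a b).symm⟩
  one_mem' := ⟨0, uS_zero.symm⟩
  inv_mem' := by
    rintro _ ⟨a, rfl⟩
    exact ⟨-a, uS_inv a⟩

/-- the lower unipotent subgroup -/
def Vsub : Subgroup S2 where
  carrier := {g | ∃ a, g = vS a}
  mul_mem' := by
    rintro _ _ ⟨a, rfl⟩ ⟨b, rfl⟩
    exact ⟨a + b, (vS_add a b).symm⟩
  one_mem' := ⟨0, vS_zero.symm⟩
  inv_mem' := by
    rintro _ ⟨a, rfl⟩
    exact ⟨-a, vS_inv a⟩

/-- the diagonal subgroup -/
def Dsub : Subgroup S2 where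
  carrier := {g | ∃ a, g = tS a}
  mul_mem' := by
    rintro _ _ ⟨a, rfl⟩ ⟨b, rfl⟩
    exact ⟨a * b, (tS_mul a b).symm⟩
  one_mem' := ⟨1, tS_one.symm⟩
  inv_mem' := by
    rintro _ ⟨a, rfl⟩
    exact ⟨a⁻¹, tS_inv a⟩

/-- the Borel subgroup of upper triangular matrices -/
def Bsub : Subgroup S2 where
  carrier := {g | g 1 0 = 0}
  mul_mem' := by
    intro g h hg hh
    show (g * h : S2) 1 0 = 0
    have hg' : g 1 0 = 0 := hg
    have hh' : h 1 0 = 0 := hh
    rw [mul_apply', hg', hh']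
    ring
  one_mem' := rfl
  inv_mem' := by
    intro g hg
    show (g⁻¹ : S2) 1 0 = 0
    have hg' : g 1 0 = 0 := hg
    rw [inv_apply_10, hg', neg_zero]

theorem mem_Usub {g : S2} : g ∈ (Usub : Subgroup S2) ↔ ∃ a, g = uS a := Iff.rfl
theorem mem_Vsub {g : S2} : g ∈ (Vsub : Subgroup S2) ↔ ∃ a, g = vS a := Iff.rfl
theorem mem_Dsub {g : S2} : g ∈ (Dsub : Subgroup S2) ↔ ∃ a, g = tS a := Iff.rfl
theorem mem_Bsub {g : S2} : g ∈ (Bsub : Subgroup S2) ↔ g 1 0 = 0 := Iff.rfl

theorem uS_mem_Usub (a : F) : (uS a : S2) ∈ (Usub : Subgroup S2) := ⟨a, rfl⟩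
theorem vS_mem_Vsub (a : F) : (vS a : S2) ∈ (Vsub : Subgroup S2) := ⟨a, rfl⟩
theorem tS_mem_Dsub (a : Fˣ) : (tS a : S2) ∈ (Dsub : Subgroup S2) := ⟨a, rfl⟩

theorem Usub_le_Bsub : (Usub : Subgroup S2) ≤ Bsub := by
  rintro _ ⟨a, rfl⟩
  exact uS_10 a

theorem Dsub_le_Bsub : (Dsub : Subgroup S2) ≤ Bsub := by
  rintro _ ⟨a, rfl⟩
  exact tS_10 a

theorem mem_Bsub_iff {g : S2} : g ∈ (Bsub : Subgroup S2) ↔ ∃ (a : Fˣ) (x : F), g = uS x * tS a :=
  ⟨fun h => upper_eq g h, by
    rintro ⟨a, x, rfl⟩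
    exact Bsub.mul_mem (Usub_le_Bsub (uS_mem_Usub x)) (Dsub_le_Bsub (tS_mem_Dsub a))⟩


/-! ### Characteristic two -/

section char2

variable [CharP F 2]

theorem two_eq_zero' : (2 : F) = 0 := CharTwo.two_eq_zero

theorem neg_eq' (x : F) : -x = x := CharTwo.neg_eq x

theorem sq_eq_one_iff' {a : F} : a ^ 2 = 1 ↔ a = 1 := by
  constructor
  · intro h
    have : (a - 1) ^ 2 = 0 := by
      have h2 : (2 : F) = 0 := two_eq_zero'
      linear_combination h - (a - 1) * h2
    have := pow_eq_zero_iff (two_ne_zero) |>.mp this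
    linear_combination this
  · rintro rfl
    exact one_pow 2

theorem sq_injective' {a b : F} (h : a ^ 2 = b ^ 2) : a = b := by
  have h2 : (2 : F) = 0 := two_eq_zero'
  have : (a - b) ^ 2 = 0 := by linear_combination h - (a * b - b ^ 2) * h2
  have := pow_eq_zero_iff (two_ne_zero) |>.mp this
  linear_combination this

theorem uS_mul_self (x : F) : (uS x : S2) * uS x = 1 := by
  rw [← uS_add, CharTwo.add_self_eq_zero, uS_zero]

theorem vS_mul_self (x : F) : (vS x : S2) * vS x = 1 := by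
  rw [← vS_add, CharTwo.add_self_eq_zero, vS_zero]

theorem wS_mul_self : (wS : S2) * wS = 1 := by
  apply ext' <;> simp [mul_apply', neg_eq']

theorem wS_inv : (wS : S2)⁻¹ = wS := inv_eq_of_mul_eq_one_right wS_mul_self

/-- Cayley–Hamilton in characteristic two -/
theorem mul_self_eq (g : S2) : ∀ i j, (g * g : S2) i j =
    (g 0 0 + g 1 1) * g i j + (1 : S2) i j := by
  have hd := det_eq g
  have h2 : (2 : F) = 0 := two_eq_zero'
  intro i j
  fin_cases i <;> fin_cases j <;> simp [mul_apply']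
  · linear_combination (-1 : F) * hd - h2
  · ring
  · ring
  · linear_combination (-1 : F) * hd - h2

theorem mul_self_eq_one_of_trace (g : S2) (ht : g 0 0 + g 1 1 = 0) : g * g = 1 := by
  apply ext' <;> rw [mul_self_eq, ht, zero_mul, zero_add]

theorem trace_eq_zero_of_mul_self (g : S2) (hg : g * g = 1) : g 0 0 + g 1 1 = 0 := by
  by_contra ht
  have h00 := mul_self_eq g 0 0
  have h01 := mul_self_eq g 0 1
  have h10 := mul_self_eq g 1 0
  have h11 := mul_self_eq g 1 1
  rw [hg] at h00 h01 h10 h11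
  simp at h00 h01 h10 h11
  have hd := det_eq g
  rcases h00 with h | h
  · exact ht h
  rcases h11 with h' | h'
  · exact ht h'
  rw [h, h'] at hd
  rcases h01 with h'' | h''
  · exact ht h''
  rw [h''] at hd
  simp at hd

theorem odd_orderOf_of_trace [Finite F] (g : S2) (ht : g 0 0 + g 1 1 ≠ 0) : Odd (orderOf g) :=
  Cfsg.Agent.Helper2.SL2Char2.odd_orderOf_of_trace_ne_zero g ht

theorem trace_ne_zero_of_odd (g : S2) (hg1 : g ≠ 1) (hodd : Odd (orderOf g)) :
    g 0 0 + g 1 1 ≠ 0 := by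
  intro ht
  have h2 : g ^ 2 = 1 := by rw [pow_two]; exact mul_self_eq_one_of_trace g ht
  have hd : orderOf g ∣ 2 := orderOf_dvd_of_pow_eq_one h2
  have h1 : orderOf g = 1 := by
    rcases (Nat.dvd_prime Nat.prime_two).mp hd with h | h
    · exact h
    · rw [h] at hodd; exact absurd hodd (by decide)
  exact hg1 (orderOf_eq_one_iff.mp h1)

/-- the centraliser of a non-identity upper unipotent element -/
theorem centralizer_uS {c : F} (hc : c ≠ 0) :
    Subgroup.centralizer ({uS c} : Set S2) = Usub := by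
  ext g
  rw [mem_centralizer_singleton, mem_Usub]
  constructor
  · intro h
    have h00 := congrArg (fun m : S2 => m 0 0) h
    have h01 := congrArg (fun m : S2 => m 0 1) h
    simp [mul_apply'] at h00 h01
    have h10 : g 1 0 = 0 := by
      rcases h00 with h | h
      · exact absurd h hc
      · exact h
    have hd := det_eq g
    rw [h10, mul_zero, sub_zero] at hd
    have h11 : g 0 0 = g 1 1 := by
      have : c * (g 0 0 - g 1 1) = 0 := by linear_combination -h01
      rcases mul_eq_zero.mp this with h | h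
      · exact absurd h hc
      · linear_combination h
    have h1 : g 0 0 = 1 := by
      apply sq_eq_one_iff'.mp
      rw [pow_two]
      nth_rewrite 2 [h11]
      exact hd
    refine ⟨g 0 1, ?_⟩
    apply ext' <;> simp [h10, h1, ← h11]
  · rintro ⟨a, rfl⟩
    rw [← uS_add, ← uS_add, add_comm]

/-- the centraliser of a non-identity diagonal element -/
theorem centralizer_tS {k : Fˣ} (hk : k ≠ 1) :
    Subgroup.centralizer ({tS k} : Set S2) = Dsub := by
  have hkk : (k : F) ≠ ((k⁻¹ : Fˣ) : F) := by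
    intro h
    apply hk
    have : (k : F) ^ 2 = 1 := by
      rw [pow_two]
      nth_rewrite 2 [h]
      simp
    apply Units.ext
    exact sq_eq_one_iff'.mp this
  ext g
  rw [mem_centralizer_singleton, mem_Dsub]
  constructor
  · intro h
    have h01 := congrArg (fun m : S2 => m 0 1) h
    have h10 := congrArg (fun m : S2 => m 1 0) h
    simp [mul_apply'] at h01 h10
    have e01 : g 0 1 = 0 := by
      have : g 0 1 * ((k : F) - ((k⁻¹ : Fˣ) : F)) = 0 := by
        simp only [Units.val_inv_eq_inv_val]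
        linear_combination h01
      rcases mul_eq_zero.mp this with h | h
      · exact h
      · exact absurd (sub_eq_zero.mp h) hkk
    have e10 : g 1 0 = 0 := by
      have : g 1 0 * ((k : F) - ((k⁻¹ : Fˣ) : F)) = 0 := by
        simp only [Units.val_inv_eq_inv_val]
        linear_combination -h10
      rcases mul_eq_zero.mp this with h | h
      · exact h
      · exact absurd (sub_eq_zero.mp h) hkk
    have hd := det_eq g
    rw [e01, zero_mul, sub_zero] at hd
    refine ⟨Units.mkOfMulEqOne _ _ hd, ?_⟩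
    apply ext' <;> simp [e01, e10]
    exact eq_inv_of_mul_eq_one_right hd
  · rintro ⟨a, rfl⟩
    rw [← tS_mul, ← tS_mul, mul_comm]

theorem sc_Usub : SC (Usub : Subgroup S2) := by
  rintro _ ⟨c, rfl⟩ h1
  apply centralizer_uS
  intro h0
  exact h1 (uS_eq_one_iff.mpr h0)

theorem sc_Dsub : SC (Dsub : Subgroup S2) := by
  rintro _ ⟨k, rfl⟩ h1
  apply centralizer_tS
  intro h0
  exact h1 (tS_eq_one_iff.mpr h0)

/-- the normaliser of the unipotent subgroup is the Borel subgroup -/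
theorem normalizer_Usub : Subgroup.normalizer ((Usub : Subgroup S2) : Set S2) = Bsub := by
  apply le_antisymm
  · intro g hg
    rw [Subgroup.mem_normalizer_iff] at hg
    have h1 := (hg (uS 1)).mp (uS_mem_Usub 1)
    obtain ⟨a, ha⟩ := h1
    have h10 := congrArg (fun m : S2 => m 1 0) ha
    simp [mul_apply', inv_apply_00, inv_apply_10] at h10
    rw [mem_Bsub]
    have : (g 1 0) ^ 2 = 0 := by linear_combination -h10
    exact pow_eq_zero_iff (two_ne_zero) |>.mp this
  · intro g hg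
    obtain ⟨a, x, rfl⟩ := mem_Bsub_iff.mp hg
    apply Subgroup.mul_mem
    · exact Subgroup.le_normalizer (uS_mem_Usub x)
    · rw [Subgroup.mem_normalizer_iff]
      intro h
      constructor
      · rintro ⟨y, rfl⟩
        rw [tS_conj_uS]
        exact uS_mem_Usub _
      · intro hh
        obtain ⟨y, hy⟩ := hh
        have : h = (tS a)⁻¹ * uS y * ((tS a)⁻¹)⁻¹ := by rw [← hy]; group
        rw [this, tS_inv, tS_conj_uS]
        exact uS_mem_Usub _

end char2

/-! ### Orders -/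

section card

variable [Fintype F]

theorem card_Usub : Nat.card (Usub : Subgroup S2) = Fintype.card F := by
  rw [← Nat.card_eq_fintype_card]
  symm
  apply Nat.card_congr
  refine Equiv.ofBijective (fun a => ⟨uS a, uS_mem_Usub a⟩) ⟨?_, ?_⟩
  · intro a b h
    exact uS_injective (congrArg Subtype.val h)
  · rintro ⟨_, a, rfl⟩
    exact ⟨a, rfl⟩

theorem card_Dsub : Nat.card (Dsub : Subgroup S2) = Fintype.card F - 1 := by
  rw [← Cfsg.Agent.Helper2.card_units_field]
  symm
  apply Nat.card_congr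
  refine Equiv.ofBijective (fun a => ⟨tS a, tS_mem_Dsub a⟩) ⟨?_, ?_⟩
  · intro a b h
    exact tS_injective (congrArg Subtype.val h)
  · rintro ⟨_, a, rfl⟩
    exact ⟨a, rfl⟩

theorem card_Bsub : Nat.card (Bsub : Subgroup S2) = Fintype.card F * (Fintype.card F - 1) := by
  rw [← Cfsg.Agent.Helper2.card_units_field]
  have : Nat.card (F × Fˣ) = Fintype.card F * Nat.card Fˣ := by
    rw [Nat.card_prod, Nat.card_eq_fintype_card]
  rw [← this]
  symm
  apply Nat.card_congr
  refine Equiv.ofBijective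
    (fun p => ⟨uS p.1 * tS p.2, mem_Bsub_iff.mpr ⟨p.2, p.1, rfl⟩⟩) ⟨?_, ?_⟩
  · rintro ⟨x, a⟩ ⟨y, b⟩ h
    have h' : (uS x * tS a : S2) = uS y * tS b := congrArg Subtype.val h
    have h00 := congrArg (fun m : S2 => m 0 0) h'
    have h01 := congrArg (fun m : S2 => m 0 1) h'
    simp [mul_apply'] at h00 h01
    have hab : a = b := Units.ext h00
    subst hab
    have hxy : x = y := mul_right_cancel₀ (inv_ne_zero a.ne_zero) h01
    rw [hxy]
  · rintro ⟨g, hg⟩
    obtain ⟨a, x, rfl⟩ := mem_Bsub_iff.mp hg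
    exact ⟨(x, a), rfl⟩

theorem card_S2 : Nat.card S2 = Fintype.card F * (Fintype.card F ^ 2 - 1) := by
  have h1 := Cfsg.Agent.Helper2.card_SL_mul_card_units (ι := Fin 2) (F := F)
  have h2 := Matrix.card_GL_field (𝔽 := F) 2
  have h3 := Cfsg.Agent.Helper2.card_units_field (F := F)
  rw [h2, h3, Fin.prod_univ_two] at h1
  simp only [Fin.val_zero, pow_zero, Fin.val_one, pow_one] at h1
  have hq : 2 ≤ Fintype.card F := Fintype.one_lt_card
  obtain ⟨r, hr⟩ : ∃ r, Fintype.card F = r + 1 := ⟨Fintype.card F - 1, by omega⟩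
  rw [hr] at h1 ⊢
  have e1 : (r + 1) ^ 2 - 1 = r * (r + 2) := by
    have : (r + 1) ^ 2 = r * (r + 2) + 1 := by ring
    omega
  have e2 : (r + 1) ^ 2 - (r + 1) = (r + 1) * r := by
    have : (r + 1) ^ 2 = (r + 1) * r + (r + 1) := by ring
    omega
  rw [e1, e2, Nat.add_sub_cancel] at h1
  rw [e1]
  have hr0 : 0 < r := by omega
  apply Nat.eq_of_mul_eq_mul_right hr0
  rw [h1]; ring

end card

end Cfsg.Agent.Helper11.L2E
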