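import Mathlib
import Cfsg.Agent.Helper11.L2EA
import Cfsg.Agent.Helper12.SL2Torus

/-! `SL₂(F)` in characteristic two, part B: involutions, the self-centralising subgroups and their
classification, tori and their normalisers. -/

set_option autoImplicit false
set_option linter.unusedSectionVars false
set_option linter.unusedVariables false

namespace Cfsg.Agent.Helper11.L2E

open Cfsg.Agent.Helper11.PSL2Aut Cfsg.Agent.Helper11.SCTI

variable {F : Type*} [Field F] [CharP F 2]

local notation "S2" => Matrix.SpecialLinearGroup (Fin 2) F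

/-- the shape of an involution -/
theorem invol_cases (u : S2) (hu : u * u = 1) :
    (∃ b, u = uS b) ∨ ∃ s c, c ≠ 0 ∧ u = uS s * vS c * uS s := by
  have ht := trace_eq_zero_of_mul_self u hu
  have h2 : (2 : F) = 0 := two_eq_zero'
  have h11 : u 1 1 = u 0 0 := by linear_combination ht - u 0 0 * h2
  have hd := det_eq u
  rw [h11] at hd
  by_cases hc : u 1 0 = 0
  · left
    rw [hc, mul_zero, sub_zero, ← pow_two] at hd
    have h00 := sq_eq_one_iff'.mp hd
    refine ⟨u 0 1, ?_⟩
    apply ext' <;> simp [hc, h00, h11]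
  · right
    have hs : (u 0 0 + 1) / u 1 0 * u 1 0 = u 0 0 + 1 := div_mul_cancel₀ _ hc
    generalize (u 0 0 + 1) / u 1 0 = s at hs
    refine ⟨s, u 1 0, hc, ?_⟩
    apply ext'
    · simp [mul_apply']
      linear_combination (-1 : F) * hs - h2
    · simp [mul_apply']
      have : u 1 0 * (u 0 1 - ((1 + s * u 1 0) * s + s)) = 0 := by
        linear_combination (-1 : F) * hd - (s * u 1 0 + u 0 0 + 1) * hs - (s * u 1 0 + u 0 0 + 1) * h2
      rcases mul_eq_zero.mp this with h | h
      · exact absurd h hc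
      · linear_combination h
    · simp [mul_apply']
    · simp [mul_apply', h11]
      linear_combination (-1 : F) * hs - h2

/-- every involution is conjugate to `u(1)` -/
theorem exists_conj_uS_one [Finite F] (u : S2) (hu1 : u ≠ 1) (hu : u * u = 1) :
    ∃ g : S2, g * u * g⁻¹ = uS 1 := by
  have key : ∀ b : F, b ≠ 0 → ∃ g : S2, g * uS b * g⁻¹ = uS 1 := by
    intro b hb
    obtain ⟨r, hr⟩ := FiniteField.isSquare_of_char_two (ringChar.eq F 2) b⁻¹
    have hr0 : r ≠ 0 := by
      rintro rfl
      rw [mul_zero] at hr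
      exact inv_ne_zero hb hr
    refine ⟨tS (Units.mk0 r hr0), ?_⟩
    rw [tS_conj_uS, Units.val_mk0, pow_two, ← hr, inv_mul_cancel₀ hb]
  rcases invol_cases u hu with ⟨b, rfl⟩ | ⟨s, c, hc, rfl⟩
  · apply key
    intro hb
    exact hu1 (uS_eq_one_iff.mpr hb)
  · obtain ⟨g, hg⟩ := key c hc
    refine ⟨g * wS * uS s, ?_⟩
    have e : g * wS * uS s * (uS s * vS c * uS s) * (g * wS * uS s)⁻¹ =
        g * (wS * (uS s * uS s) * vS c * (uS s * (uS s)⁻¹) * wS⁻¹) * g⁻¹ := by group
    rw [e, uS_mul_self, mul_inv_cancel, mul_one, mul_one, wS_mul_vS, mul_inv_cancel_right, neg_eq']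
    exact hg

/-- centralisers of non-identity elements are self-centralising -/
theorem sc_centralizer (x : S2) (hx : x ≠ 1) : SC (Subgroup.centralizer ({x} : Set S2)) := by
  intro t ht ht1
  rw [mem_centralizer_singleton] at ht
  ext g
  rw [mem_centralizer_singleton, mem_centralizer_singleton]
  constructor
  · intro h
    exact Mat2Cent.sl2_CT x t g ht1 ht h
  · intro h
    exact Mat2Cent.sl2_CT t x g hx ht.symm h

theorem mem_centralizer_self (x : S2) : x ∈ Subgroup.centralizer ({x} : Set S2) := by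
  rw [mem_centralizer_singleton]

theorem centralizer_ne_bot (x : S2) (hx : x ≠ 1) : Subgroup.centralizer ({x} : Set S2) ≠ ⊥ := by
  intro h
  have := mem_centralizer_self x
  rw [h, Subgroup.mem_bot] at this
  exact hx this

/-- the trace is a class function -/
theorem trace_conj (n y : S2) :
    (n * y * n⁻¹ : S2) 0 0 + (n * y * n⁻¹ : S2) 1 1 = y 0 0 + y 1 1 := by
  simp only [mul_apply', inv_apply_00, inv_apply_01, inv_apply_10, inv_apply_11]
  linear_combination (y 0 0 + y 1 1) * det_eq n

/-- an element commuting with `x` and with the same non-zero trace is `x` or `x⁻¹` -/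
theorem commute_trace_cases (x y : S2) (hc : y * x = x * y)
    (ht : y 0 0 + y 1 1 = x 0 0 + x 1 1) (hx : x 0 0 + x 1 1 ≠ 0) : y = x ∨ y = x⁻¹ := by
  have h2 : (2 : F) = 0 := two_eq_zero'
  have hx1 : x ≠ 1 := by
    rintro rfl
    apply hx
    simp
    rw [one_add_one_eq_two]
    exact h2
  have hns := Mat2Cent.nonscalar_of_ne_one x hx1
  have hc' : (y : Matrix (Fin 2) (Fin 2) F) * x = x * y := by
    have := congrArg Subtype.val hc
    simpa using this
  obtain ⟨α, β, hαβ⟩ := Mat2Cent.exists_eq_add_of_commute (x : Matrix (Fin 2) (Fin 2) F) y hns hc'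
  have e00 : y 0 0 = α + β * x 0 0 := by
    have := congrFun (congrFun hαβ 0) 0
    simpa using this
  have e01 : y 0 1 = β * x 0 1 := by
    have := congrFun (congrFun hαβ 0) 1
    simpa using this
  have e10 : y 1 0 = β * x 1 0 := by
    have := congrFun (congrFun hαβ 1) 0
    simpa using this
  have e11 : y 1 1 = α + β * x 1 1 := by
    have := congrFun (congrFun hαβ 1) 1
    simpa using this
  have hβ : β = 1 := by
    have : (β - 1) * (x 0 0 + x 1 1) = 0 := by
      linear_combination ht - e00 - e11 - α * h2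
    rcases mul_eq_zero.mp this with h | h
    · linear_combination h
    · exact absurd h hx
  subst hβ
  have hdx := det_eq x
  have hdy := det_eq y
  rw [e00, e01, e10, e11] at hdy
  have hα : α * (α + (x 0 0 + x 1 1)) = 0 := by
    linear_combination hdy - hdx
  rcases mul_eq_zero.mp hα with h | h
  · left
    subst h
    apply ext' <;> simp [e00, e01, e10, e11]
  · right
    have hα' : α = x 0 0 + x 1 1 := by linear_combination h - (x 0 0 + x 1 1) * h2
    apply ext'
    · rw [inv_apply_00, e00, hα']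
      linear_combination x 0 0 * h2
    · rw [inv_apply_01, e01, neg_eq', one_mul]
    · rw [inv_apply_10, e10, neg_eq', one_mul]
    · rw [inv_apply_11, e11, hα']
      linear_combination x 1 1 * h2

/-- an element of non-zero trace is inverted by an involution -/
theorem exists_inverting (x : S2) (hx : x 0 0 + x 1 1 ≠ 0) :
    ∃ s : S2, s ≠ 1 ∧ s * s = 1 ∧ s * x * s⁻¹ = x⁻¹ := by
  have h2 : (2 : F) = 0 := two_eq_zero'
  have key : ∀ s : S2, s * s = 1 → (s * x) * (s * x) = 1 → s * x * s⁻¹ = x⁻¹ := by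
    intro s hs hsx
    have hsi : s⁻¹ = s := inv_eq_of_mul_eq_one_right hs
    rw [hsi]
    apply eq_inv_of_mul_eq_one_left
    rw [← hsx]; group
  by_cases hc : x 1 0 = 0
  · by_cases hb : x 0 1 = 0
    · refine ⟨wS, ?_, wS_mul_self, key _ wS_mul_self ?_⟩
      · intro h
        have := congrArg (fun m : S2 => m 0 1) h
        simp at this
      · apply mul_self_eq_one_of_trace
        simp [mul_apply', hc, hb]
    · have hne : (x 0 0 + x 1 1) / x 0 1 ≠ 0 := div_ne_zero hx hb
      refine ⟨vS ((x 0 0 + x 1 1) / x 0 1), ?_, vS_mul_self _, key _ (vS_mul_self _) ?_⟩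
      · intro h
        rw [← vS_zero] at h
        exact hne (vS_injective h)
      · apply mul_self_eq_one_of_trace
        simp [mul_apply']
        field_simp
        linear_combination (x 0 0 + x 1 1) * h2
  · have hne : (x 0 0 + x 1 1) / x 1 0 ≠ 0 := div_ne_zero hx hc
    refine ⟨uS ((x 0 0 + x 1 1) / x 1 0), ?_, uS_mul_self _, key _ (uS_mul_self _) ?_⟩
    · intro h
      rw [← uS_zero] at h
      exact hne (uS_injective h)
    · apply mul_self_eq_one_of_trace
      simp [mul_apply']
      field_simp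
      linear_combination (x 0 0 + x 1 1) * h2

/-! ### The self-centralising subgroups -/

section fin

variable [Fintype F]

theorem exists_Y : ∃ Y : S2, orderOf Y = Fintype.card F + 1 := by
  have : Fact (Nat.Prime 2) := ⟨Nat.prime_two⟩
  obtain ⟨Y, hY, -⟩ := Cfsg.Agent.Helper12.exists_sl2_orderOf_card_add_one (F := F) 2
  exact ⟨Y, hY⟩

theorem card_F_eq : ∃ n : ℕ, 1 ≤ n ∧ Fintype.card F = 2 ^ n := by
  obtain ⟨n, -, hn⟩ := FiniteField.card F 2
  exact ⟨n, n.pos, hn⟩

theorem two_dvd_card_F : 2 ∣ Fintype.card F := by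
  obtain ⟨n, hn, h⟩ := card_F_eq (F := F)
  rw [h]
  exact dvd_pow_self 2 (by omega)

theorem two_le_card_F : 2 ≤ Fintype.card F := Fintype.one_lt_card

theorem odd_card_sub_one : Odd (Fintype.card F - 1) := by
  have h1 := two_dvd_card_F (F := F)
  have h2 := two_le_card_F (F := F)
  rw [Nat.odd_iff]
  omega

theorem odd_card_add_one : Odd (Fintype.card F + 1) := by
  have h1 := two_dvd_card_F (F := F)
  rw [Nat.odd_iff]
  omega

theorem prime_dvd_cases {r : ℕ} (hr : r.Prime) (h : r ∣ Nat.card S2) :
    r = 2 ∨ r ∣ Fintype.card F - 1 ∨ r ∣ Fintype.card F + 1 := by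
  rw [card_S2] at h
  obtain ⟨n, hn, hq⟩ := card_F_eq (F := F)
  rcases (Nat.Prime.dvd_mul hr).mp h with h1 | h1
  · left
    rw [hq] at h1
    exact (Nat.prime_dvd_prime_iff_eq hr Nat.prime_two).mp (hr.dvd_of_dvd_pow h1)
  · right
    have hq2 := two_le_card_F (F := F)
    have e : Fintype.card F ^ 2 - 1 = (Fintype.card F - 1) * (Fintype.card F + 1) := by
      obtain ⟨k, hk⟩ : ∃ k, Fintype.card F = k + 1 := ⟨Fintype.card F - 1, by omega⟩
      rw [hk, Nat.add_sub_cancel]
      have : (k + 1) ^ 2 = k * (k + 1 + 1) + 1 := by ring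
      omega
    rw [e] at h1
    exact (Nat.Prime.dvd_mul hr).mp h1

theorem card_zpowers_dvd_centralizer (Y : S2) :
    orderOf Y ∣ Nat.card (Subgroup.centralizer ({Y} : Set S2)) := by
  rw [← Nat.card_zpowers]
  apply Subgroup.card_dvd_of_le
  rw [Subgroup.zpowers_le]
  exact mem_centralizer_self Y

/-- every self-centralising subgroup is conjugate to one of three -/
theorem sc_trichotomy (Y : S2) (hY : orderOf Y = Fintype.card F + 1) (T : Subgroup S2)
    (hT : SC T) (hne : T ≠ ⊥) :
    (∃ g, T = cj g Usub) ∨ (∃ g, T = cj g Dsub) ∨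
      ∃ g, T = cj g (Subgroup.centralizer ({Y} : Set S2)) := by
  have h1 : Nat.card T ≠ 1 := by
    intro h
    exact hne (Subgroup.card_eq_one.mp h)
  obtain ⟨r, hr, hrT⟩ := Nat.exists_prime_and_dvd h1
  have : Fact r.Prime := ⟨hr⟩
  have hrG : r ∣ Nat.card S2 := hrT.trans (Subgroup.card_subgroup_dvd_card T)
  rcases prime_dvd_cases hr hrG with rfl | h | h
  · left
    exact SC.conj_of_prime sc_Usub hT 2 (by rw [card_Usub]; exact two_dvd_card_F) hrT
  · right; left
    exact SC.conj_of_prime sc_Dsub hT r (by rw [card_Dsub]; exact h) hrT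
  · right; right
    have hY1 : Y ≠ 1 := by
      rintro rfl
      rw [orderOf_one] at hY
      have := two_le_card_F (F := F)
      omega
    exact SC.conj_of_prime (sc_centralizer Y hY1) hT r
      (by
        have := card_zpowers_dvd_centralizer Y
        rw [hY] at this
        exact h.trans this) hrT

/-- the non-split torus has order `q + 1` -/
theorem card_centralizer_Y (Y : S2) (hY : orderOf Y = Fintype.card F + 1) :
    Nat.card (Subgroup.centralizer ({Y} : Set S2)) = Fintype.card F + 1 := by
  have hq2 := two_le_card_F (F := F)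
  have hY1 : Y ≠ 1 := by
    rintro rfl
    rw [orderOf_one] at hY
    omega
  set T := Subgroup.centralizer ({Y} : Set S2) with hTdef
  have hT : SC T := sc_centralizer Y hY1
  have hdvd : Fintype.card F + 1 ∣ Nat.card T := by
    rw [← hY]; exact card_zpowers_dvd_centralizer Y
  have hpos : 0 < Nat.card T := Nat.card_pos
  have hle : Fintype.card F + 1 ≤ Nat.card T := Nat.le_of_dvd hpos hdvd
  apply Nat.dvd_antisymm _ hdvd
  -- coprimality with `q (q - 1)`
  have hcop : Nat.Coprime (Nat.card T) (Fintype.card F * (Fintype.card F - 1)) := by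
    apply Nat.coprime_of_dvd
    intro r hr hrT hrq
    have : Fact r.Prime := ⟨hr⟩
    rcases (Nat.Prime.dvd_mul hr).mp hrq with h | h
    · obtain ⟨g, hg⟩ := SC.conj_of_prime sc_Usub hT r (by rw [card_Usub]; exact h) hrT
      have := congrArg (fun H : Subgroup S2 => Nat.card H) hg
      simp only [card_cj, card_Usub] at this
      omega
    · obtain ⟨g, hg⟩ := SC.conj_of_prime sc_Dsub hT r (by rw [card_Dsub]; exact h) hrT
      have := congrArg (fun H : Subgroup S2 => Nat.card H) hg
      simp only [card_cj, card_Dsub] at this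
      omega
  have hG : Nat.card T ∣ Fintype.card F * (Fintype.card F - 1) * (Fintype.card F + 1) := by
    have := Subgroup.card_subgroup_dvd_card T
    rw [card_S2] at this
    have e : Fintype.card F ^ 2 - 1 = (Fintype.card F - 1) * (Fintype.card F + 1) := by
      obtain ⟨k, hk⟩ : ∃ k, Fintype.card F = k + 1 := ⟨Fintype.card F - 1, by omega⟩
      rw [hk, Nat.add_sub_cancel]
      have : (k + 1) ^ 2 = k * (k + 1 + 1) + 1 := by ring
      omega
    rw [e, ← mul_assoc] at this
    exact this
  exact hcop.dvd_of_dvd_mul_left hG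

/-- tori: the self-centralising subgroups of odd order -/
def IsTor (T : Subgroup S2) : Prop := SC T ∧ T ≠ ⊥ ∧ Odd (Nat.card T)

omit [Fintype F] in
theorem cj_ne_bot {G : Type*} [Group G] (g : G) {T : Subgroup G} (h : T ≠ ⊥) : cj g T ≠ ⊥ := by
  intro hb
  apply h
  rw [eq_bot_iff]
  intro x hx
  have : g * x * g⁻¹ ∈ cj g T := conj_mem_cj hx
  rw [hb, Subgroup.mem_bot] at this
  rw [Subgroup.mem_bot]
  have e : x = g⁻¹ * (g * x * g⁻¹) * g := by group
  rw [e, this]; group

theorem IsTor.conj {T : Subgroup S2} (hT : IsTor T) (g : S2) : IsTor (cj g T) :=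
  ⟨hT.1.conj g, cj_ne_bot g hT.2.1, by rw [card_cj]; exact hT.2.2⟩

theorem IsTor.card {T : Subgroup S2} (hT : IsTor T) :
    Nat.card T = Fintype.card F - 1 ∨ Nat.card T = Fintype.card F + 1 := by
  obtain ⟨Y, hY⟩ := exists_Y (F := F)
  rcases sc_trichotomy Y hY T hT.1 hT.2.1 with ⟨g, hg⟩ | ⟨g, hg⟩ | ⟨g, hg⟩
  · exfalso
    have h := hT.2.2
    rw [hg, card_cj, card_Usub] at h
    have := two_dvd_card_F (F := F)
    rw [Nat.odd_iff] at h
    omega
  · left
    rw [hg, card_cj, card_Dsub]
  · right
    rw [hg, card_cj, card_centralizer_Y Y hY]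

omit [Fintype F] in
theorem isCyclic_cj {G : Type*} [Group G] (g : G) (T : Subgroup G) (h : IsCyclic T) :
    IsCyclic (cj g T) := by
  have e : T ≃* (cj g T) := Subgroup.equivMapOfInjective T (MulAut.conj g).toMonoidHom
    (MulAut.conj g).injective
  exact isCyclic_of_surjective e e.surjective

theorem isCyclic_Dsub : IsCyclic (Dsub : Subgroup S2) := by
  let f : Fˣ →* (Dsub : Subgroup S2) :=
    { toFun := fun a => ⟨tS a, tS_mem_Dsub a⟩
      map_one' := Subtype.ext tS_one
      map_mul' := fun a b => Subtype.ext (tS_mul a b) }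
  apply isCyclic_of_surjective f
  rintro ⟨_, a, rfl⟩
  exact ⟨a, rfl⟩

theorem IsTor.isCyclic {T : Subgroup S2} (hT : IsTor T) : IsCyclic T := by
  obtain ⟨Y, hY⟩ := exists_Y (F := F)
  rcases sc_trichotomy Y hY T hT.1 hT.2.1 with ⟨g, hg⟩ | ⟨g, hg⟩ | ⟨g, hg⟩
  · exfalso
    have h := hT.2.2
    rw [hg, card_cj, card_Usub] at h
    have := two_dvd_card_F (F := F)
    rw [Nat.odd_iff] at h
    omega
  · rw [hg]
    exact isCyclic_cj g _ isCyclic_Dsub
  · rw [hg]
    apply isCyclic_cj
    have heq : Subgroup.zpowers Y = Subgroup.centralizer ({Y} : Set S2) := by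
      apply Subgroup.eq_of_le_of_card_ge
      · rw [Subgroup.zpowers_le]; exact mem_centralizer_self Y
      · rw [card_centralizer_Y Y hY, Nat.card_zpowers, hY]
    rw [← heq]
    infer_instance

/-- elements of a torus have odd order -/
theorem IsTor.odd_orderOf {T : Subgroup S2} (hT : IsTor T) {y : S2} (hy : y ∈ T) :
    Odd (orderOf y) := by
  have h1 : orderOf (⟨y, hy⟩ : T) ∣ Nat.card T := orderOf_dvd_natCard _
  rw [Subgroup.orderOf_mk] at h1
  exact Odd.of_dvd_nat hT.2.2 h1

omit [Fintype F] in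
theorem IsTor.trace_ne_zero {T : Subgroup S2} [Finite F] (hT : IsTor T) {y : S2} (hy : y ∈ T)
    (hy1 : y ≠ 1) (hodd : Odd (orderOf y)) : y 0 0 + y 1 1 ≠ 0 :=
  trace_ne_zero_of_odd y hy1 hodd

/-- the centraliser of a non-identity element of odd order is a torus -/
theorem isTor_centralizer (x : S2) (hx1 : x ≠ 1) (hodd : Odd (orderOf x)) :
    IsTor (Subgroup.centralizer ({x} : Set S2)) := by
  refine ⟨sc_centralizer x hx1, centralizer_ne_bot x hx1, ?_⟩
  obtain ⟨Y, hY⟩ := exists_Y (F := F)
  rcases sc_trichotomy Y hY _ (sc_centralizer x hx1) (centralizer_ne_bot x hx1) with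
    ⟨g, hg⟩ | ⟨g, hg⟩ | ⟨g, hg⟩
  · exfalso
    have hx : x ∈ cj g (Usub : Subgroup S2) := by rw [← hg]; exact mem_centralizer_self x
    rw [mem_cj] at hx
    obtain ⟨a, ha⟩ := hx
    have hxx : x * x = 1 := by
      have e : x = g * uS a * g⁻¹ := by rw [← ha]; group
      rw [e]
      calc g * uS a * g⁻¹ * (g * uS a * g⁻¹) = g * (uS a * uS a) * g⁻¹ := by group
        _ = 1 := by rw [uS_mul_self]; group
    have := trace_ne_zero_of_odd x hx1 hodd
    exact this (trace_eq_zero_of_mul_self x hxx)
  · rw [hg, card_cj, card_Dsub]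
    exact odd_card_sub_one
  · rw [hg, card_cj, card_centralizer_Y Y hY]
    exact odd_card_add_one

/-- a torus is the centraliser of each of its non-identity elements -/
theorem IsTor.eq_centralizer {T : Subgroup S2} (hT : IsTor T) {y : S2} (hy : y ∈ T) (hy1 : y ≠ 1) :
    T = Subgroup.centralizer ({y} : Set S2) := (hT.1 y hy hy1).symm

/-- the structure of the normaliser of a torus -/
theorem IsTor.normalizer_cases {T : Subgroup S2} (hT : IsTor T) (n : S2)
    (hn : n ∈ Subgroup.normalizer (T : Set S2)) :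
    n ∈ T ∨ (n * n = 1 ∧ ∀ y ∈ T, n * y * n⁻¹ = y⁻¹) := by
  by_cases hnT : n ∈ T
  · left; exact hnT
  right
  have hcomm := hT.1.comm
  have hconj : ∀ y ∈ T, n * y * n⁻¹ ∈ T := fun y hy =>
    (Subgroup.mem_normalizer_iff.mp hn y).mp hy
  have hinv : ∀ y ∈ T, n * y * n⁻¹ = y⁻¹ := by
    intro y hy
    by_cases hy1 : y = 1
    · subst hy1; group
    have hyo := hT.odd_orderOf hy
    have htr := trace_ne_zero_of_odd y hy1 hyo
    rcases commute_trace_cases y (n * y * n⁻¹) (hcomm _ (hconj y hy) _ hy) (trace_conj n y) htr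
      with h | h
    · exfalso
      apply hnT
      rw [hT.eq_centralizer hy hy1, mem_centralizer_singleton]
      have : n * y = n * y * n⁻¹ * n := by group
      rw [this, h]
    · exact h
  refine ⟨?_, hinv⟩
  obtain ⟨y, hy1⟩ := (Subgroup.ne_bot_iff_exists_ne_one (H := T)).mp hT.2.1
  have hy1' : (y : S2) ≠ 1 := fun h => hy1 (Subtype.ext h)
  by_contra hnn
  have h1 : n * n ∈ T := by
    rw [hT.eq_centralizer y.2 hy1', mem_centralizer_singleton]
    have e1 := hinv y y.2
    have e2 : n * (y : S2)⁻¹ * n⁻¹ = y := by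
      have := hinv _ (T.inv_mem y.2)
      rw [inv_inv] at this
      exact this
    calc (y : S2) * (n * n) = n * (n⁻¹ * y * n) * n := by group
      _ = n * (n⁻¹ * (n * (y : S2)⁻¹ * n⁻¹) * n) * n := by rw [e2]
      _ = n * (y : S2)⁻¹ * n := by group
      _ = n * (n * y * n⁻¹) * n := by rw [e1]
      _ = n * n * y := by group
  apply hnT
  rw [hT.eq_centralizer h1 hnn, mem_centralizer_singleton]
  group

/-- a torus is inverted by an involution of its normaliser -/
theorem IsTor.exists_inverting {T : Subgroup S2} (hT : IsTor T) :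
    ∃ s ∈ Subgroup.normalizer (T : Set S2), s ∉ T ∧ s * s = 1 ∧ ∀ y ∈ T, s * y * s⁻¹ = y⁻¹ := by
  obtain ⟨y, hy1⟩ := (Subgroup.ne_bot_iff_exists_ne_one (H := T)).mp hT.2.1
  have hy1' : (y : S2) ≠ 1 := fun h => hy1 (Subtype.ext h)
  have htr := trace_ne_zero_of_odd (y : S2) hy1' (hT.odd_orderOf y.2)
  obtain ⟨s, hs1, hss, hsy⟩ := L2E.exists_inverting (y : S2) htr
  have hsN : s ∈ Subgroup.normalizer (T : Set S2) :=
    hT.1.mem_normalizer y.2 hy1' (by rw [hsy]; exact T.inv_mem y.2)
  have hsT : s ∉ T := by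
    intro h
    have ho := hT.odd_orderOf h
    have h2 : s ^ 2 = 1 := by rw [pow_two]; exact hss
    have hd : orderOf s ∣ 2 := orderOf_dvd_of_pow_eq_one h2
    rcases (Nat.dvd_prime Nat.prime_two).mp hd with h' | h'
    · exact hs1 (orderOf_eq_one_iff.mp h')
    · rw [h'] at ho; exact absurd ho (by decide)
  rcases hT.normalizer_cases s hsN with h | h
  · exact absurd h hsT
  · exact ⟨s, hsN, hsT, h.1, h.2⟩

theorem IsTor.le_normalizer {T : Subgroup S2} (hT : IsTor T) :
    T ≤ Subgroup.normalizer (T : Set S2) := Subgroup.le_normalizer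

/-- the normaliser of a torus has twice its order -/
theorem IsTor.card_normalizer {T : Subgroup S2} (hT : IsTor T) :
    Nat.card (Subgroup.normalizer (T : Set S2)) = 2 * Nat.card T := by
  obtain ⟨s, hsN, hsT, hss, hsinv⟩ := hT.exists_inverting
  obtain ⟨y, hy1⟩ := (Subgroup.ne_bot_iff_exists_ne_one (H := T)).mp hT.2.1
  have hy1' : (y : S2) ≠ 1 := fun h => hy1 (Subtype.ext h)
  have hidx : (T.subgroupOf (Subgroup.normalizer (T : Set S2))).index = 2 := by
    rw [Subgroup.index_eq_two_iff]
    refine ⟨⟨s, hsN⟩, ?_⟩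
    rintro ⟨b, hbN⟩
    simp only [Subgroup.mem_subgroupOf, Subgroup.coe_mul]
    rcases hT.normalizer_cases b hbN with hb | ⟨hbb, hbinv⟩
    · right
      refine ⟨hb, ?_⟩
      intro h
      apply hsT
      have : s = b⁻¹ * (b * s) := by group
      rw [this]
      exact T.mul_mem (T.inv_mem hb) h
    · left
      have hbT : b ∉ T := by
        intro h
        have e1 := hbinv b h
        have e2 : b * b * b⁻¹ = b := by group
        rw [e2] at e1
        have : b = 1 := by
          have h3 : b * b = b * b⁻¹ := by rw [← e1]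
          rw [mul_inv_cancel] at h3
          have := hT.odd_orderOf h
          have h2 : b ^ 2 = 1 := by rw [pow_two]; exact h3
          have hd : orderOf b ∣ 2 := orderOf_dvd_of_pow_eq_one h2
          rcases (Nat.dvd_prime Nat.prime_two).mp hd with h' | h'
          · exact orderOf_eq_one_iff.mp h'
          · rw [h'] at this; exact absurd this (by decide)
        subst this
        have := hbinv y y.2
        rw [one_mul, inv_one, mul_one] at this
        have h4 : (y : S2) * y = 1 := by
          calc (y : S2) * y = y * (y : S2)⁻¹ := by rw [← this]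
            _ = 1 := mul_inv_cancel _
        have ho := hT.odd_orderOf y.2
        have h2 : (y : S2) ^ 2 = 1 := by rw [pow_two]; exact h4
        have hd : orderOf (y : S2) ∣ 2 := orderOf_dvd_of_pow_eq_one h2
        rcases (Nat.dvd_prime Nat.prime_two).mp hd with h' | h'
        · exact hy1' (orderOf_eq_one_iff.mp h')
        · rw [h'] at ho; exact absurd ho (by decide)
      refine ⟨?_, hbT⟩
      rw [hT.eq_centralizer y.2 hy1', mem_centralizer_singleton]
      have e1 := hsinv y y.2
      have e2 := hbinv _ (T.inv_mem y.2)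
      rw [inv_inv] at e2
      calc (y : S2) * (b * s) = b * (b⁻¹ * y * b) * s := by group
        _ = b * (b⁻¹ * (b * (y : S2)⁻¹ * b⁻¹) * b) * s := by rw [e2]
        _ = b * (y : S2)⁻¹ * s := by group
        _ = b * (s * y * s⁻¹) * s := by rw [e1]
        _ = b * s * y := by group
  have h1 := Subgroup.card_mul_index (T.subgroupOf (Subgroup.normalizer (T : Set S2)))
  rw [hidx] at h1
  rw [← h1, mul_comm]
  congr 1
  exact Nat.card_congr (Subgroup.subgroupOfEquivOfLe hT.le_normalizer).toEquiv

end fin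

end Cfsg.Agent.Helper11.L2E
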