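import Mathlib
import Cfsg.Agent.Helper11.L2EB

/-! `SL₂(F)` in characteristic two, part C: the subfield subgroups, the form of the conclusion of
the subgroup theorem, subgroups of odd order and subgroups with a cyclic Sylow 2-subgroup. -/

set_option autoImplicit false
set_option linter.unusedSectionVars false
set_option linter.unusedVariables false

namespace Cfsg.Agent.Helper11.L2E

open Cfsg.Agent.Helper11.PSL2Aut Cfsg.Agent.Helper11.SCTI

variable {F : Type*} [Field F]

local notation "S2" => Matrix.SpecialLinearGroup (Fin 2) F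

/-- the subgroup of matrices with entries in a subfield -/
def SL2K (K : Subfield F) : Subgroup S2 where
  carrier := {g | ∀ i j, g i j ∈ K}
  mul_mem' := by
    intro g h hg hh i j
    rw [mul_apply']
    exact K.add_mem (K.mul_mem (hg i 0) (hh 0 j)) (K.mul_mem (hg i 1) (hh 1 j))
  one_mem' := by
    intro i j
    fin_cases i <;> fin_cases j
    · exact K.one_mem
    · exact K.zero_mem
    · exact K.zero_mem
    · exact K.one_mem
  inv_mem' := by
    intro g hg i j
    fin_cases i <;> fin_cases j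
    · show (g⁻¹ : S2) 0 0 ∈ K
      rw [inv_apply_00]; exact hg 1 1
    · show (g⁻¹ : S2) 0 1 ∈ K
      rw [inv_apply_01]; exact K.neg_mem (hg 0 1)
    · show (g⁻¹ : S2) 1 0 ∈ K
      rw [inv_apply_10]; exact K.neg_mem (hg 1 0)
    · show (g⁻¹ : S2) 1 1 ∈ K
      rw [inv_apply_11]; exact hg 0 0

theorem mem_SL2K {K : Subfield F} {g : S2} : g ∈ SL2K K ↔ ∀ i j, g i j ∈ K := Iff.rfl

theorem mem_SL2K_iff {K : Subfield F} {g : S2} :
    g ∈ SL2K K ↔ g 0 0 ∈ K ∧ g 0 1 ∈ K ∧ g 1 0 ∈ K ∧ g 1 1 ∈ K := by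
  rw [mem_SL2K]
  constructor
  · intro h
    exact ⟨h 0 0, h 0 1, h 1 0, h 1 1⟩
  · rintro ⟨h00, h01, h10, h11⟩ i j
    fin_cases i <;> fin_cases j <;> assumption

theorem uS_mem_SL2K {K : Subfield F} {a : F} : (uS a : S2) ∈ SL2K K ↔ a ∈ K := by
  rw [mem_SL2K_iff]
  simp only [uS_00, uS_01, uS_10, uS_11]
  exact ⟨fun h => h.2.1, fun h => ⟨K.one_mem, h, K.zero_mem, K.one_mem⟩⟩

theorem vS_mem_SL2K {K : Subfield F} {a : F} : (vS a : S2) ∈ SL2K K ↔ a ∈ K := by
  rw [mem_SL2K_iff]
  simp only [vS_00, vS_01, vS_10, vS_11]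
  exact ⟨fun h => h.2.2.1, fun h => ⟨K.one_mem, K.zero_mem, h, K.one_mem⟩⟩

theorem tS_mem_SL2K {K : Subfield F} {a : Fˣ} : (tS a : S2) ∈ SL2K K ↔ (a : F) ∈ K := by
  rw [mem_SL2K_iff]
  simp only [tS_00, tS_01, tS_10, tS_11]
  refine ⟨fun h => h.1, fun h => ⟨h, K.zero_mem, K.zero_mem, ?_⟩⟩
  rw [Units.val_inv_eq_inv_val]
  exact K.inv_mem h

theorem wS_mem_SL2K {K : Subfield F} : (wS : S2) ∈ SL2K K := by
  rw [mem_SL2K_iff]
  simp only [wS_00, wS_01, wS_10, wS_11]
  exact ⟨K.zero_mem, K.one_mem, K.neg_mem K.one_mem, K.zero_mem⟩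

theorem SL2K_top : SL2K (⊤ : Subfield F) = ⊤ := by
  rw [eq_top_iff]
  intro g _ i j
  exact Subfield.mem_top _

theorem SL2K_mono {K L : Subfield F} (h : K ≤ L) : SL2K K ≤ SL2K L :=
  fun g hg i j => h (hg i j)

section char2

variable [CharP F 2] [Fintype F]

/-- the form of the conclusion of the subgroup theorem -/
def Concl (M : Subgroup S2) : Prop :=
  (∃ g : S2, M ≤ cj g Bsub) ∨
  (∃ T : Subgroup S2, IsTor T ∧ M ≤ Subgroup.normalizer (T : Set S2)) ∨
  (∃ (g : S2) (K : Subfield F), (∃ c ∈ K, c ≠ 0 ∧ c ≠ 1) ∧ M = cj g (SL2K K))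

omit [CharP F 2] [Fintype F] in
theorem cj_mono {G : Type*} [Group G] (g : G) {M N : Subgroup G} (h : M ≤ N) : cj g M ≤ cj g N :=
  Subgroup.map_mono h

omit [CharP F 2] [Fintype F] in
theorem mem_normalizer_cj {G : Type*} [Group G] (g x : G) (U : Subgroup G) :
    x ∈ Subgroup.normalizer ((cj g U : Subgroup G) : Set G) ↔
      g⁻¹ * x * g ∈ Subgroup.normalizer (U : Set G) := by
  rw [← cj_eq_self_iff, ← cj_eq_self_iff, cj_cj]
  constructor
  · intro h
    have := congrArg (cj g⁻¹) h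
    rw [cj_cj, cj_cj, inv_mul_cancel, cj_one] at this
    rw [← this]
    congr 1
    group
  · intro h
    have := congrArg (cj g) h
    rw [cj_cj] at this
    rw [← this]
    congr 1
    group

omit [CharP F 2] [Fintype F] in
theorem cj_le_normalizer_cj {G : Type*} [Group G] (g : G) {M U : Subgroup G}
    (h : M ≤ Subgroup.normalizer (U : Set G)) :
    cj g M ≤ Subgroup.normalizer ((cj g U : Subgroup G) : Set G) := by
  intro x hx
  rw [mem_normalizer_cj]
  rw [mem_cj] at hx
  exact h hx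

theorem Concl.conj {M : Subgroup S2} (h : Concl M) (g : S2) : Concl (cj g M) := by
  rcases h with ⟨k, hk⟩ | ⟨T, hT, hM⟩ | ⟨k, K, hK, hM⟩
  · left
    refine ⟨g * k, ?_⟩
    rw [← cj_cj]
    exact cj_mono g hk
  · right; left
    exact ⟨cj g T, hT.conj g, cj_le_normalizer_cj g hM⟩
  · right; right
    refine ⟨g * k, K, hK, ?_⟩
    rw [hM, cj_cj]

omit [CharP F 2] [Fintype F] in
theorem cj_inv_cj {G : Type*} [Group G] (g : G) (M : Subgroup G) : cj g⁻¹ (cj g M) = M := by
  rw [cj_cj, inv_mul_cancel, cj_one]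

theorem Concl.of_conj {M : Subgroup S2} (g : S2) (h : Concl (cj g M)) : Concl M := by
  have := h.conj g⁻¹
  rwa [cj_inv_cj] at this

omit [CharP F 2] [Fintype F] in
theorem eq_one_of_odd_of_mul_self {G : Type*} [Group G] (n : G) (hodd : Odd (orderOf n))
    (h : n * n = 1) : n = 1 := by
  have h2 : n ^ 2 = 1 := by rw [pow_two]; exact h
  have hd : orderOf n ∣ 2 := orderOf_dvd_of_pow_eq_one h2
  rcases (Nat.dvd_prime Nat.prime_two).mp hd with h' | h'
  · exact orderOf_eq_one_iff.mp h'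
  · rw [h'] at hodd; exact absurd hodd (by decide)

/-- subgroups of odd order lie in a torus -/
theorem odd_case (M : Subgroup S2) (hodd : ∀ x ∈ M, Odd (orderOf x)) (hne : M ≠ ⊥) :
    ∃ T : Subgroup S2, IsTor T ∧ M ≤ T := by
  obtain ⟨x₀, hx₀M, hx₀1⟩ : ∃ x₀ : S2, x₀ ∈ M ∧ x₀ ≠ 1 := by
    obtain ⟨x, hx⟩ := (Subgroup.ne_bot_iff_exists_ne_one (H := M)).mp hne
    exact ⟨x.1, x.2, fun h => hx (Subtype.ext h)⟩
  have hct : ∀ y : M, y ≠ 1 → IsTor (Subgroup.centralizer ({(y : S2)} : Set S2)) := by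
    intro y hy
    apply isTor_centralizer
    · intro h; exact hy (Subtype.ext h)
    · exact hodd _ y.2
  have hmemc : ∀ y z : M, z ∈ Subgroup.centralizer ({y} : Set M) ↔
      (z : S2) ∈ Subgroup.centralizer ({(y : S2)} : Set S2) := by
    intro y z
    rw [mem_centralizer_singleton, mem_centralizer_singleton]
    constructor
    · intro h; exact congrArg Subtype.val h
    · intro h; exact Subtype.ext h
  have key := Cfsg.Agent.Helper11.SzSg.centralizer_eq_top_of_partition (G := M) (by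
    intro y hy
    have hy' : (y : S2) ≠ 1 := fun h => hy (Subtype.ext h)
    have hT := hct y hy
    have hsc := hT.1
    have hyU : (y : S2) ∈ Subgroup.centralizer ({(y : S2)} : Set S2) := mem_centralizer_self _
    constructor
    · intro t ht ht1
      have ht1' : (t : S2) ≠ 1 := fun h => ht1 (Subtype.ext h)
      have htU := (hmemc y t).mp ht
      ext z
      rw [hmemc, hmemc, hsc _ htU ht1']
    · apply le_antisymm _ Subgroup.le_normalizer
      intro n hn
      have h1 : n * y * n⁻¹ ∈ Subgroup.centralizer ({y} : Set M) :=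
        (Subgroup.mem_normalizer_iff.mp hn y).mp ((hmemc y y).mpr hyU)
      have h2 := (hmemc y _).mp h1
      have h3 : (n : S2) ∈ Subgroup.normalizer
          ((Subgroup.centralizer ({(y : S2)} : Set S2) : Subgroup _) : Set _) :=
        hsc.mem_normalizer hyU hy' (by simpa using h2)
      rw [hmemc]
      rcases hT.normalizer_cases _ h3 with h4 | ⟨h4, -⟩
      · exact h4
      · rw [eq_one_of_odd_of_mul_self _ (hodd _ n.2) h4]
        exact Subgroup.one_mem _) ⟨x₀, hx₀M⟩ (fun h => hx₀1 (congrArg Subtype.val h))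
  refine ⟨_, hct ⟨x₀, hx₀M⟩ (fun h => hx₀1 (congrArg Subtype.val h)), ?_⟩
  intro z hz
  have : (⟨z, hz⟩ : M) ∈ Subgroup.centralizer ({(⟨x₀, hx₀M⟩ : M)} : Set M) := by
    rw [key]; exact Subgroup.mem_top _
  exact (hmemc _ _).mp this

/-- a 2-subgroup containing a non-identity upper unipotent element is upper unipotent -/
theorem two_group_le_Usub (R : Subgroup S2) (hR : IsPGroup 2 R) {c : F} (hc : c ≠ 0)
    (hcR : uS c ∈ R) : R ≤ Usub := by
  have : Fact (Nat.Prime 2) := ⟨Nat.prime_two⟩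
  have hne : R ≠ ⊥ := by
    intro h
    rw [h, Subgroup.mem_bot, uS_eq_one_iff] at hcR
    exact hc hcR
  have : Nontrivial R := (Subgroup.nontrivial_iff_ne_bot _).mpr hne
  have hcn := IsPGroup.center_nontrivial (G := R) hR
  obtain ⟨z, hz⟩ := exists_ne (1 : Subgroup.center R)
  have hz1 : (z.1.1 : S2) ≠ 1 := by
    intro h
    apply hz
    apply Subtype.ext
    apply Subtype.ext
    exact h
  have hzc : ∀ y : R, y.1 * z.1.1 = z.1.1 * y.1 := by
    intro y
    have := Subgroup.mem_center_iff.mp z.2 y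
    exact congrArg Subtype.val this
  have hzU : (z.1.1 : S2) ∈ (Usub : Subgroup S2) := by
    rw [← centralizer_uS hc, mem_centralizer_singleton]
    exact hzc ⟨uS c, hcR⟩
  intro y hy
  rw [← sc_Usub _ hzU hz1, mem_centralizer_singleton]
  exact (hzc ⟨y, hy⟩).symm

/-- subgroups of even order with a single involution in `M ∩ U` -/
theorem cyclic_case (M : Subgroup S2) (c₀ : F) (hc₀ : c₀ ≠ 0)
    (h0 : uS c₀ ∈ M) (huniq : ∀ c, uS c ∈ M → c = 0 ∨ c = c₀) : Concl M := by
  classical
  have : Fact (Nat.Prime 2) := ⟨Nat.prime_two⟩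
  have hQp : IsPGroup 2 (Usub : Subgroup S2) := by
    intro g
    refine ⟨1, ?_⟩
    obtain ⟨g, a, rfl⟩ := g
    apply Subtype.ext
    rw [pow_one, Subgroup.coe_pow, pow_two]
    exact uS_mul_self a
  let P₀ : Subgroup M := (Usub : Subgroup S2).subgroupOf M
  have hP₀ : IsPGroup 2 P₀ := hQp.comap_of_injective M.subtype Subtype.val_injective
  have hmax : ∀ {R : Subgroup M}, IsPGroup 2 R → P₀ ≤ R → R = P₀ := by
    intro R hR hle
    apply le_antisymm _ hle
    have hmem : uS c₀ ∈ R.map M.subtype := by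
      refine ⟨⟨uS c₀, h0⟩, hle ?_, rfl⟩
      show uS c₀ ∈ (Usub : Subgroup S2)
      exact uS_mem_Usub _
    have := two_group_le_Usub _ (hR.map M.subtype) hc₀ hmem
    intro r hr
    show (r : S2) ∈ (Usub : Subgroup S2)
    exact this ⟨r, hr, rfl⟩
  let P : Sylow 2 M := ⟨P₀, hP₀, hmax⟩
  have hPcoe : (P : Subgroup M) = P₀ := rfl
  have hcyc : IsCyclic (P : Subgroup M) := by
    rw [hPcoe]
    refine ⟨⟨⟨⟨uS c₀, h0⟩, uS_mem_Usub _⟩, ?_⟩⟩
    rintro ⟨⟨y, hyM⟩, hy⟩
    obtain ⟨a, rfl⟩ : ∃ a, y = uS a := hy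
    rcases huniq a hyM with h | h
    · refine ⟨0, ?_⟩
      apply Subtype.ext
      apply Subtype.ext
      simp [h, uS_zero]
    · refine ⟨1, ?_⟩
      apply Subtype.ext
      apply Subtype.ext
      simp [h]
  have h2dvd : 2 ∣ Nat.card M := by
    have ho : orderOf (⟨uS c₀, h0⟩ : M) = 2 := by
      apply orderOf_eq_prime
      · apply Subtype.ext
        rw [pow_two]
        show uS c₀ * uS c₀ = 1
        exact uS_mul_self _
      · intro h
        have h1 : uS c₀ = (1 : S2) := congrArg Subtype.val h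
        exact hc₀ (uS_eq_one_iff.mp h1)
    have := orderOf_dvd_natCard (⟨uS c₀, h0⟩ : M)
    rwa [ho] at this
  have hp : (Nat.card M).minFac = 2 := (Nat.minFac_eq_two_iff _).mpr h2dvd
  have hcompl := IsCyclic.isComplement' hp hcyc
  have hNodd := MonoidHom.not_dvd_card_ker_transferSylow P (hcyc.normalizer_le_centralizer hp)
  set N := (MonoidHom.transferSylow P (hcyc.normalizer_le_centralizer hp)).ker with hN
  have hNnormal : N.Normal := MonoidHom.normal_ker _
  by_cases hbot : N = ⊥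
  · left
    refine ⟨1, ?_⟩
    rw [cj_one]
    have hcard := hcompl.card_mul_card
    rw [hbot] at hcard
    have hcard' : Nat.card (P : Subgroup M) = Nat.card M := by
      rw [Subgroup.card_bot, one_mul] at hcard
      exact hcard
    have htop : (P : Subgroup M) = ⊤ := (Subgroup.card_eq_iff_eq_top _).mp hcard'
    intro z hz
    apply Usub_le_Bsub
    have : (⟨z, hz⟩ : M) ∈ (P : Subgroup M) := by rw [htop]; exact Subgroup.mem_top _
    exact this
  · right; left
    set N' := N.map M.subtype with hN'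
    have hN'odd : ∀ y ∈ N', Odd (orderOf y) := by
      rintro y ⟨n, hn, rfl⟩
      have h1 : orderOf (M.subtype n) = orderOf n :=
        orderOf_injective M.subtype Subtype.val_injective n
      rw [h1]
      have h2 : orderOf (⟨n, hn⟩ : N) = orderOf n := Subgroup.orderOf_mk n hn
      rw [← h2]
      have h3 : orderOf (⟨n, hn⟩ : N) ∣ Nat.card N := orderOf_dvd_natCard _
      rcases Nat.even_or_odd (orderOf (⟨n, hn⟩ : N)) with he | ho
      · exfalso
        exact hNodd (dvd_trans (even_iff_two_dvd.mp he) h3)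
      · exact ho
    have hN'ne : N' ≠ ⊥ := by
      intro h
      apply hbot
      rw [hN'] at h
      exact (Subgroup.map_eq_bot_iff_of_injective N Subtype.val_injective).mp h
    obtain ⟨U, hU, hle⟩ := odd_case N' hN'odd hN'ne
    refine ⟨U, hU, ?_⟩
    obtain ⟨n, hn1⟩ := (Subgroup.ne_bot_iff_exists_ne_one (H := N)).mp hbot
    have hn1' : ((n : M) : S2) ≠ 1 := by
      intro h
      apply hn1
      apply Subtype.ext
      apply Subtype.ext
      exact h
    have hnU' : ((n : M) : S2) ∈ U := hle ⟨n.1, n.2, rfl⟩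
    intro g hg
    apply hU.1.mem_normalizer hnU' hn1'
    apply hle
    have hconj : (⟨g, hg⟩ : M) * n.1 * (⟨g, hg⟩ : M)⁻¹ ∈ N := hNnormal.conj_mem _ n.2 _
    have hval : M.subtype ((⟨g, hg⟩ : M) * n.1 * (⟨g, hg⟩ : M)⁻¹) =
        g * ((n : M) : S2) * g⁻¹ := by
      simp only [map_mul, map_inv, Subgroup.subtype_apply]
    rw [← hval]
    exact Subgroup.mem_map_of_mem _ hconj

end char2

end Cfsg.Agent.Helper11.L2E
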