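import Mathlib
import Cfsg.Agent.Helper11.L2EC

/-! `SL₂(F)` in characteristic two, part D: subgroups containing two involutions of `U` and not
contained in the Borel subgroup (the normalised situation `NC`). -/

set_option autoImplicit false
set_option linter.unusedSectionVars false
set_option linter.unusedVariables false

namespace Cfsg.Agent.Helper11.L2E

open Cfsg.Agent.Helper11.PSL2Aut Cfsg.Agent.Helper11.SCTI

variable {F : Type*} [Field F]

local notation "S2" => Matrix.SpecialLinearGroup (Fin 2) F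

/-- antidiagonal elements -/
theorem eq_wS_mul_tS (t : S2) (h00 : t 0 0 = 0) (h11 : t 1 1 = 0) : ∃ k : Fˣ, t = wS * tS k := by
  have hd := det_eq t
  rw [h00, zero_mul, zero_sub] at hd
  have hd' : (-(t 1 0)) * t 0 1 = 1 := by linear_combination hd
  refine ⟨Units.mkOfMulEqOne _ _ hd', ?_⟩
  apply ext'
  · simp [mul_apply', h00]
  · simp [mul_apply']
    rw [neg_inv]
    exact eq_inv_of_mul_eq_one_right hd'
  · simp [mul_apply']
  · simp [mul_apply', h11]

theorem wS_mul_tS_00 (k : Fˣ) : (wS * tS k : S2) 0 0 = 0 := by simp [mul_apply']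
theorem wS_mul_tS_11 (k : Fˣ) : (wS * tS k : S2) 1 1 = 0 := by simp [mul_apply']
theorem wS_mul_tS_10 (k : Fˣ) : (wS * tS k : S2) 1 0 = -(k : F) := by simp [mul_apply']

section char2

variable [CharP F 2]

/-- the lower unipotent subgroup is conjugate to the upper one -/
theorem wS_conj_uS (x : F) : wS * uS x * wS⁻¹ = (vS x : S2) := by
  rw [wS_mul_uS, mul_inv_cancel_right, neg_eq']

theorem wS_conj_vS (x : F) : wS * vS x * wS⁻¹ = (uS x : S2) := by
  rw [wS_mul_vS, mul_inv_cancel_right, neg_eq']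

theorem Vsub_eq : (Vsub : Subgroup S2) = cj wS Usub := by
  ext g
  rw [mem_cj, mem_Vsub, mem_Usub]
  constructor
  · rintro ⟨a, rfl⟩
    refine ⟨a, ?_⟩
    have := wS_conj_vS (F := F) a
    rw [wS_inv] at this ⊢
    exact this
  · rintro ⟨a, ha⟩
    refine ⟨a, ?_⟩
    have e : g = wS * (wS⁻¹ * g * wS) * wS⁻¹ := by group
    rw [e, ha, wS_conj_uS]

theorem sc_Vsub : SC (Vsub : Subgroup S2) := by
  rw [Vsub_eq]
  exact sc_Usub.conj wS

theorem centralizer_vS {c : F} (hc : c ≠ 0) :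
    Subgroup.centralizer ({vS c} : Set S2) = Vsub := by
  apply sc_Vsub _ (vS_mem_Vsub c)
  intro h
  rw [← vS_zero] at h
  exact hc (vS_injective h)

/-- elements conjugating a non-identity element of `U` into `U` lie in `B` -/
theorem mem_Bsub_of_conj (n : S2) {a : F} (ha : a ≠ 0) (h : n * uS a * n⁻¹ ∈ (Usub : Subgroup S2)) :
    n ∈ (Bsub : Subgroup S2) := by
  rw [← normalizer_Usub]
  apply sc_Usub.mem_normalizer (uS_mem_Usub a) _ h
  intro h1
  exact ha (uS_eq_one_iff.mp h1)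

/-- elements conjugating a non-identity element of `V` into `V` are lower triangular -/
theorem lower_of_conj (n : S2) {a : F} (ha : a ≠ 0) (h : n * vS a * n⁻¹ ∈ (Vsub : Subgroup S2)) :
    n 0 1 = 0 := by
  have h1 : (wS * n * wS⁻¹) * uS a * (wS * n * wS⁻¹)⁻¹ ∈ (Usub : Subgroup S2) := by
    obtain ⟨b, hb⟩ := h
    refine ⟨b, ?_⟩
    have e : (wS * n * wS⁻¹) * uS a * (wS * n * wS⁻¹)⁻¹ =
        wS * (n * (wS⁻¹ * uS a * wS) * n⁻¹) * wS⁻¹ := by group
    have e2 : (wS⁻¹ * uS a * wS : S2) = vS a := by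
      have := wS_conj_uS (F := F) a
      rw [wS_inv] at this ⊢
      exact this
    rw [e, e2, hb, wS_conj_vS]
  have h2 := mem_Bsub_of_conj _ ha h1
  rw [mem_Bsub, wS_inv] at h2
  simp [mul_apply'] at h2
  exact h2

/-- involutions that do not commute have a product of odd order -/
theorem exists_pow_eq_one_of_not_commute [Finite F] (u v : S2) (hu : u * u = 1) (hv : v * v = 1)
    (hne : u * v ≠ v * u) : ∃ k : ℕ, (u * v) ^ (2 * k + 1) = 1 := by
  have htr : (u * v : S2) 0 0 + (u * v : S2) 1 1 ≠ 0 := by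
    intro h
    apply hne
    have h1 := mul_self_eq_one_of_trace _ h
    have hu' : u⁻¹ = u := inv_eq_of_mul_eq_one_left hu
    have hv' : v⁻¹ = v := inv_eq_of_mul_eq_one_left hv
    calc u * v = (u * v)⁻¹ := (inv_eq_of_mul_eq_one_left h1).symm
      _ = v * u := by rw [mul_inv_rev, hu', hv']
  obtain ⟨k, hk⟩ := odd_orderOf_of_trace _ htr
  exact ⟨k, by rw [← hk]; exact pow_orderOf_eq_one _⟩

/-- non-commuting involutions of `M` are conjugate under an involution of `M` -/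
theorem exists_swap [Finite F] (M : Subgroup S2) (u v : S2) (huM : u ∈ M) (hvM : v ∈ M)
    (hu : u * u = 1) (hv : v * v = 1) (hne : u * v ≠ v * u) :
    ∃ t ∈ M, t * t = 1 ∧ t * u * t = v := by
  obtain ⟨k, hk⟩ := exists_pow_eq_one_of_not_commute u v hu hv hne
  obtain ⟨t, ht, htt, htu⟩ := Cfsg.Agent.Helper11.SzSg.exists_invol_conj u v hu hv k hk
  refine ⟨t, ?_, htt, htu⟩
  have : Subgroup.closure ({u, v} : Set S2) ≤ M := by
    rw [Subgroup.closure_le]
    intro x hx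
    rcases hx with rfl | rfl
    · exact huM
    · exact hvM
  exact this ht

theorem uS_vS_not_commute {a y : F} (ha : a ≠ 0) (hy : y ≠ 0) :
    (uS a * vS y : S2) ≠ vS y * uS a := by
  intro h
  have := congrArg (fun m : S2 => m 0 0) h
  simp [mul_apply'] at this
  rcases this with h | h
  · exact ha h
  · exact hy h

/-- an involution swapping `u(a)` and `v(y)` is antidiagonal -/
theorem antidiag_of_swap (t : S2) (htt : t * t = 1) {a y : F} (ha : a ≠ 0)
    (h : t * uS a * t = vS y) : ∃ k : Fˣ, t = wS * tS k := by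
  have h1 : t * uS a = vS y * t := by
    have hti : t⁻¹ = t := inv_eq_of_mul_eq_one_left htt
    calc t * uS a = t * uS a * t * t⁻¹ := by group
      _ = vS y * t := by rw [h, hti]
  have h01 := congrArg (fun m : S2 => m 0 1) h1
  simp [mul_apply'] at h01
  have h00 : t 0 0 = 0 := by
    rcases h01 with h | h
    · exact h
    · exact absurd h ha
  have htr := trace_eq_zero_of_mul_self t htt
  rw [h00, zero_add] at htr
  exact eq_wS_mul_tS t h00 htr

/-- the normalised situation in the non-cyclic case -/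
structure NC (M : Subgroup S2) : Prop where
  one_mem : uS 1 ∈ M
  two : ∃ c₂ : F, c₂ ≠ 0 ∧ c₂ ≠ 1 ∧ uS c₂ ∈ M
  invol : ∃ y : F, y ≠ 0 ∧ vS y ∈ M

variable [Fintype F] {M : Subgroup (Matrix.SpecialLinearGroup (Fin 2) F)}

theorem NC.exists_t (h : NC M) : ∃ k₁ : Fˣ, wS * tS k₁ ∈ M := by
  obtain ⟨y, hy, hyM⟩ := h.invol
  obtain ⟨t, htM, htt, htu⟩ := exists_swap M (uS 1) (vS y) h.one_mem hyM (uS_mul_self 1)
    (vS_mul_self y) (uS_vS_not_commute one_ne_zero hy)
  obtain ⟨k, hk⟩ := antidiag_of_swap t htt one_ne_zero htu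
  exact ⟨k, hk ▸ htM⟩

theorem conj_wS_tS_uS (k : Fˣ) (c : F) :
    (wS * tS k) * uS c * (wS * tS k)⁻¹ = (vS ((k : F) ^ 2 * c) : S2) := by
  have e : (wS * tS k) * uS c * (wS * tS k)⁻¹ = wS * (tS k * uS c * (tS k)⁻¹) * wS⁻¹ := by group
  rw [e, tS_conj_uS, wS_conj_uS]

/-- the torus part of `M` is transitive on the involutions of `M ∩ U` -/
theorem NC.trans (h : NC M) {c c' : F} (hc : c ≠ 0) (hc' : c' ≠ 0) (hcM : uS c ∈ M)
    (hc'M : uS c' ∈ M) : ∃ k : Fˣ, tS k ∈ M ∧ (k : F) ^ 2 * c = c' := by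
  obtain ⟨k₁, ht⟩ := h.exists_t
  set t := wS * tS k₁ with htdef
  have hv'M : vS ((k₁ : F) ^ 2 * c') ∈ M := by
    rw [← conj_wS_tS_uS]
    exact M.mul_mem (M.mul_mem ht hc'M) (M.inv_mem ht)
  have hne : (k₁ : F) ^ 2 * c' ≠ 0 := mul_ne_zero (pow_ne_zero _ k₁.ne_zero) hc'
  obtain ⟨t', ht'M, ht't', ht'u⟩ := exists_swap M (uS c) (vS ((k₁ : F) ^ 2 * c')) hcM hv'M
    (uS_mul_self c) (vS_mul_self _) (uS_vS_not_commute hc hne)
  obtain ⟨k', hk'⟩ := antidiag_of_swap t' ht't' hc ht'u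
  have hd : tS (k₁⁻¹ * k') = t⁻¹ * t' := by
    rw [hk', htdef, tS_mul, ← tS_inv]
    group
  refine ⟨k₁⁻¹ * k', ?_, ?_⟩
  · rw [hd]
    exact M.mul_mem (M.inv_mem ht) ht'M
  · have hconj : tS (k₁⁻¹ * k') * uS c * (tS (k₁⁻¹ * k'))⁻¹ = uS c' := by
      rw [hd]
      have ht'inv : t'⁻¹ = t' := inv_eq_of_mul_eq_one_left ht't'
      calc t⁻¹ * t' * uS c * (t⁻¹ * t')⁻¹ = t⁻¹ * (t' * uS c * t'⁻¹) * t := by group
        _ = t⁻¹ * vS ((k₁ : F) ^ 2 * c') * t := by rw [ht'inv, ht'u]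
        _ = t⁻¹ * (t * uS c' * t⁻¹) * t := by rw [htdef, conj_wS_tS_uS]
        _ = uS c' := by group
    rw [tS_conj_uS] at hconj
    exact uS_injective hconj

/-- the two factors of an element of `M ∩ B` lie in `M` -/
theorem NC.mem_of_fix (h : NC M) (a : F) (k : Fˣ) (hg : uS a * tS k ∈ M) :
    uS a ∈ M ∧ tS k ∈ M := by
  have hconj : uS ((k : F) ^ 2 * 1) ∈ M := by
    have e : (uS ((k : F) ^ 2 * 1) : S2) = (uS a * tS k) * uS 1 * (uS a * tS k)⁻¹ := by
      have e1 : (uS a * tS k) * uS 1 * (uS a * tS k)⁻¹ =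
          uS a * (tS k * uS 1 * (tS k)⁻¹) * (uS a)⁻¹ := by group
      rw [e1, tS_conj_uS, uS_inv, ← uS_add, ← uS_add]
      congr 1
      ring
    rw [e]
    exact M.mul_mem (M.mul_mem hg h.one_mem) (M.inv_mem hg)
  have hkne : (k : F) ^ 2 * 1 ≠ 0 := by
    rw [mul_one]; exact pow_ne_zero _ k.ne_zero
  obtain ⟨k', hk'M, hk'⟩ := h.trans one_ne_zero hkne h.one_mem hconj
  have hkk : k' = k := by
    apply Units.ext
    apply sq_injective'
    rw [mul_one, mul_one] at hk'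
    exact hk'
  rw [hkk] at hk'M
  refine ⟨?_, hk'M⟩
  have : (uS a : S2) = uS a * tS k * (tS k)⁻¹ := by group
  rw [this]
  exact M.mul_mem hg (M.inv_mem hk'M)

theorem NC.smul_mem (h : NC M) {k : Fˣ} {a : F} (hk : tS k ∈ M) (ha : uS a ∈ M) :
    uS ((k : F) ^ 2 * a) ∈ M := by
  rw [← tS_conj_uS]
  exact M.mul_mem (M.mul_mem hk ha) (M.inv_mem hk)

theorem NC.mul_mem (h : NC M) {c c' : F} (hc : uS c ∈ M) (hc' : uS c' ∈ M) :
    uS (c * c') ∈ M := by
  by_cases hc0 : c = 0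
  · rw [hc0, zero_mul, uS_zero]; exact M.one_mem
  obtain ⟨k, hkM, hk⟩ := h.trans one_ne_zero hc0 h.one_mem hc
  rw [mul_one] at hk
  rw [← hk]
  exact h.smul_mem hkM hc'

theorem NC.inv_mem (h : NC M) {c : F} (hc : uS c ∈ M) : uS c⁻¹ ∈ M := by
  by_cases hc0 : c = 0
  · rw [hc0, inv_zero, uS_zero]; exact M.one_mem
  obtain ⟨k, hkM, hk⟩ := h.trans one_ne_zero hc0 h.one_mem hc
  rw [mul_one] at hk
  have h1 : tS k⁻¹ ∈ M := by rw [← tS_inv]; exact M.inv_mem hkM
  have := h.smul_mem h1 h.one_mem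
  rw [mul_one, Units.val_inv_eq_inv_val, inv_pow, hk] at this
  exact this

/-- the subfield attached to `M` -/
def NC.subfield (h : NC M) : Subfield F where
  carrier := {c | uS c ∈ M}
  mul_mem' := fun hc hc' => h.mul_mem hc hc'
  one_mem' := h.one_mem
  add_mem' := by
    intro a b ha hb
    show uS (a + b) ∈ M
    rw [uS_add]
    exact M.mul_mem ha hb
  zero_mem' := by
    show uS 0 ∈ M
    rw [uS_zero]; exact M.one_mem
  neg_mem' := by
    intro a ha
    show uS (-a) ∈ M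
    rw [neg_eq']
    exact ha
  inv_mem' := fun c hc => h.inv_mem hc

theorem NC.mem_subfield (h : NC M) (c : F) : c ∈ h.subfield ↔ uS c ∈ M := Iff.rfl

/-- square roots in the subfield -/
theorem NC.mem_of_sq_mem (h : NC M) {x : F} (hx : x ^ 2 ∈ h.subfield) : x ∈ h.subfield := by
  have : CharP h.subfield 2 := by
    have hinj : Function.Injective (h.subfield.subtype : h.subfield →+* F) :=
      Subtype.val_injective
    exact (RingHom.charP_iff h.subfield.subtype hinj 2).mpr inferInstance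
  have : Finite h.subfield := Finite.of_injective (fun x : h.subfield => (x : F))
    Subtype.val_injective
  obtain ⟨r, hr⟩ := FiniteField.isSquare_of_char_two (ringChar.eq h.subfield 2)
    (⟨x ^ 2, hx⟩ : h.subfield)
  have hr' : x ^ 2 = (r : F) ^ 2 := by
    have := congrArg (fun z : h.subfield => (z : F)) hr
    simp only [Subfield.coe_mul] at this
    rw [this, pow_two]
  rw [sq_injective' hr']
  exact r.2

theorem NC.tS_mem_iff (h : NC M) (k : Fˣ) : tS k ∈ M ↔ (k : F) ∈ h.subfield := by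
  constructor
  · intro hk
    apply h.mem_of_sq_mem
    have := h.smul_mem hk h.one_mem
    rw [mul_one] at this
    exact this
  · intro hk
    have hk2 : uS ((k : F) ^ 2) ∈ M := by
      rw [pow_two]
      exact h.mul_mem hk hk
    obtain ⟨k', hk'M, hk'⟩ := h.trans one_ne_zero (pow_ne_zero 2 k.ne_zero) h.one_mem hk2
    rw [mul_one] at hk'
    have : k' = k := Units.ext (sq_injective' hk')
    rw [← this]
    exact hk'M

/-- conjugating `u(1)` by an element sending `∞` to `0` -/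
theorem conj_uS_of_00 (h : S2) (h00 : h 0 0 = 0) (e : F) :
    h * uS e * h⁻¹ = vS ((h 1 0) ^ 2 * e) := by
  have h2 : (2 : F) = 0 := two_eq_zero'
  have hd := det_eq h
  rw [h00, zero_mul, zero_sub] at hd
  apply ext'
  · simp [mul_apply', inv_apply_00, inv_apply_10, h00]
    exact hd
  · simp [mul_apply', inv_apply_01, inv_apply_11, h00]
  · simp [mul_apply', inv_apply_00, inv_apply_10]
    linear_combination (-(h 1 0 ^ 2 * e)) * h2
  · simp [mul_apply', inv_apply_01, inv_apply_11, h00]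
    linear_combination hd

/-- images of `∞` under `M` -/
theorem NC.uS_mem_of_not_B (h : NC M) (g : S2) (hgM : g ∈ M) (hg : g 1 0 ≠ 0) :
    uS (g 0 0 / g 1 0) ∈ M := by
  have h2 : (2 : F) = 0 := two_eq_zero'
  obtain ⟨c₂, hc0, hc1, hcM⟩ := h.two
  set x := g 0 0 / g 1 0 with hx
  set h₀ := uS x * g with hh₀
  have hh00 : h₀ 0 0 = 0 := by
    rw [hh₀, hx]
    simp [mul_apply']
    field_simp
    linear_combination g 0 0 * h2
  have hh10 : h₀ 1 0 = g 1 0 := by
    rw [hh₀]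
    simp [mul_apply']
  set y := (g 1 0) ^ 2 with hy
  have hy0 : y ≠ 0 := pow_ne_zero 2 hg
  have hxx : (uS x : S2)⁻¹ = uS x := inv_eq_of_mul_eq_one_left (uS_mul_self x)
  -- the involutions `w e = g u(e) g⁻¹ = u(x) v(y e) u(x)`
  have hw : ∀ e : F, g * uS e * g⁻¹ = uS x * vS (y * e) * uS x := by
    intro e
    have e1 : g = uS x * h₀ := by
      rw [hh₀, ← mul_assoc, uS_mul_self, one_mul]
    have e2 : g * uS e * g⁻¹ = uS x * (h₀ * uS e * h₀⁻¹) * (uS x)⁻¹ := by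
      rw [e1]; group
    rw [e2, conj_uS_of_00 h₀ hh00, hh10, hxx]
  set w := g * uS 1 * g⁻¹ with hwdef
  have hwM : w ∈ M := M.mul_mem (M.mul_mem hgM h.one_mem) (M.inv_mem hgM)
  have hww : w * w = 1 := by
    rw [hwdef]
    calc g * uS 1 * g⁻¹ * (g * uS 1 * g⁻¹) = g * (uS 1 * uS 1) * g⁻¹ := by group
      _ = 1 := by rw [uS_mul_self]; group
  have hw1 : w = uS x * vS y * uS x := by
    rw [hwdef, hw 1, mul_one]
  have hw10 : w 1 0 = y := by
    rw [hw1]
    simp [mul_apply']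
  have hncomm : ∀ e : F, e ≠ 0 → (uS e : S2) * w ≠ w * uS e := by
    intro e he hcomm
    have : w ∈ Subgroup.centralizer ({uS e} : Set S2) := by
      rw [mem_centralizer_singleton]; exact hcomm
    rw [centralizer_uS he] at this
    obtain ⟨a, ha⟩ := this
    rw [ha] at hw10
    simp at hw10
    exact hy0 hw10.symm
  obtain ⟨t₁, ht₁M, ht₁t₁, ht₁u⟩ := exists_swap M (uS 1) w h.one_mem hwM (uS_mul_self 1) hww
    (hncomm 1 one_ne_zero)
  obtain ⟨t₂, ht₂M, ht₂t₂, ht₂u⟩ := exists_swap M (uS c₂) w hcM hwM (uS_mul_self c₂) hww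
    (hncomm c₂ hc0)
  have ht₁i : t₁⁻¹ = t₁ := inv_eq_of_mul_eq_one_left ht₁t₁
  have ht₂i : t₂⁻¹ = t₂ := inv_eq_of_mul_eq_one_left ht₂t₂
  set d := t₁ * t₂ with hd
  have hdM : d ∈ M := M.mul_mem ht₁M ht₂M
  -- `d u(c₂) d⁻¹ = u(1)`
  have hd1 : d * uS c₂ * d⁻¹ = uS 1 := by
    rw [hd]
    calc t₁ * t₂ * uS c₂ * (t₁ * t₂)⁻¹ = t₁ * (t₂ * uS c₂ * t₂⁻¹) * t₁⁻¹ := by group
      _ = t₁ * w * t₁ := by rw [ht₂i, ht₂u, ht₁i]
      _ = t₁ * (t₁ * uS 1 * t₁) * t₁ := by rw [ht₁u]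
      _ = (t₁ * t₁) * uS 1 * (t₁ * t₁) := by group
      _ = uS 1 := by rw [ht₁t₁, one_mul, mul_one]
  have hdB : d ∈ (Bsub : Subgroup S2) :=
    mem_Bsub_of_conj d hc0 (by rw [hd1]; exact uS_mem_Usub 1)
  obtain ⟨k, a', hda⟩ := mem_Bsub_iff.mp hdB
  have hk2 : (k : F) ^ 2 * c₂ = 1 := by
    have e1 : d * uS c₂ * d⁻¹ = uS ((k : F) ^ 2 * c₂) := by
      rw [hda]
      have : uS a' * tS k * uS c₂ * (uS a' * tS k)⁻¹ =
          uS a' * (tS k * uS c₂ * (tS k)⁻¹) * (uS a')⁻¹ := by group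
      rw [this, tS_conj_uS, uS_inv, ← uS_add, ← uS_add]
      congr 1
      ring
    rw [hd1] at e1
    exact (uS_injective e1).symm
  have hk21 : (k : F) ^ 2 ≠ 1 := by
    intro h1
    rw [h1, one_mul] at hk2
    exact hc1 hk2
  -- `d w d⁻¹` commutes with `w`
  have hdw : d * w * d⁻¹ = t₁ * uS c₂ * t₁ := by
    rw [hd]
    calc t₁ * t₂ * w * (t₁ * t₂)⁻¹ = t₁ * (t₂ * w * t₂⁻¹) * t₁⁻¹ := by group
      _ = t₁ * (t₂ * (t₂ * uS c₂ * t₂) * t₂) * t₁ := by rw [ht₂i, ht₂u, ht₁i]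
      _ = t₁ * ((t₂ * t₂) * uS c₂ * (t₂ * t₂)) * t₁ := by group
      _ = t₁ * uS c₂ * t₁ := by rw [ht₂t₂, one_mul, mul_one]
  have hdwc : (d * w * d⁻¹) * w = w * (d * w * d⁻¹) := by
    rw [hdw, ← ht₁u]
    calc t₁ * uS c₂ * t₁ * (t₁ * uS 1 * t₁) = t₁ * uS c₂ * (t₁ * t₁) * uS 1 * t₁ := by group
      _ = t₁ * (uS c₂ * uS 1) * t₁ := by rw [ht₁t₁, mul_one]; group
      _ = t₁ * (uS 1 * uS c₂) * t₁ := by rw [← uS_add, ← uS_add, add_comm]
      _ = t₁ * uS 1 * (t₁ * t₁) * uS c₂ * t₁ := by rw [ht₁t₁, mul_one]; group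
      _ = t₁ * uS 1 * t₁ * (t₁ * uS c₂ * t₁) := by group
  -- conjugate back by `u(x)`
  set d₀ := uS x * d * uS x with hd₀
  have hd₀B : d₀ ∈ (Bsub : Subgroup S2) :=
    Bsub.mul_mem (Bsub.mul_mem (Usub_le_Bsub (uS_mem_Usub x)) hdB) (Usub_le_Bsub (uS_mem_Usub x))
  have hd₀v : d₀ * vS y * d₀⁻¹ ∈ (Vsub : Subgroup S2) := by
    rw [← centralizer_vS hy0, mem_centralizer_singleton]
    have e1 : vS y = uS x * w * uS x := by
      rw [hw1]
      calc vS y = (uS x * uS x) * vS y * (uS x * uS x) := by rw [uS_mul_self, one_mul, mul_one]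
        _ = uS x * (uS x * vS y * uS x) * uS x := by group
    have e2 : d₀ * vS y * d₀⁻¹ = uS x * (d * w * d⁻¹) * uS x := by
      rw [hd₀, e1]
      calc uS x * d * uS x * (uS x * w * uS x) * (uS x * d * uS x)⁻¹
          = uS x * d * (uS x * uS x) * w * (uS x * (uS x)⁻¹) * d⁻¹ * (uS x)⁻¹ := by group
        _ = uS x * (d * w * d⁻¹) * uS x := by
          rw [uS_mul_self, mul_inv_cancel, hxx]; group
    rw [e2, e1]
    calc uS x * w * uS x * (uS x * (d * w * d⁻¹) * uS x)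
        = uS x * w * (uS x * uS x) * (d * w * d⁻¹) * uS x := by group
      _ = uS x * (w * (d * w * d⁻¹)) * uS x := by rw [uS_mul_self, mul_one]; group
      _ = uS x * ((d * w * d⁻¹) * w) * uS x := by rw [hdwc]
      _ = uS x * (d * w * d⁻¹) * (uS x * uS x) * w * uS x := by
        rw [uS_mul_self, mul_one]; group
      _ = uS x * (d * w * d⁻¹) * uS x * (uS x * w * uS x) := by group
  have hd₀01 : d₀ 0 1 = 0 := lower_of_conj d₀ hy0 hd₀v
  -- compute the entry
  have hentry : d₀ 0 1 = (a' + x * (1 + (k : F) ^ 2)) * ((k⁻¹ : Fˣ) : F) := by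
    rw [hd₀, hda]
    simp [mul_apply']
    field_simp
    ring
  rw [hentry] at hd₀01
  have hxa : a' = x * (1 + (k : F) ^ 2) := by
    rcases mul_eq_zero.mp hd₀01 with h' | h'
    · linear_combination h' - x * (1 + (k : F) ^ 2) * h2
    · exact absurd h' (Units.ne_zero _)
  rw [hda] at hdM
  obtain ⟨haM, hkM⟩ := h.mem_of_fix a' k hdM
  have hk2M : (k : F) ^ 2 ∈ h.subfield := by
    have := h.smul_mem hkM h.one_mem
    rw [mul_one] at this
    exact this
  have h1k : (1 + (k : F) ^ 2) ∈ h.subfield := h.subfield.add_mem h.subfield.one_mem hk2M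
  have h1k0 : (1 + (k : F) ^ 2) ≠ 0 := by
    intro h0
    apply hk21
    linear_combination h0 - h2
  have : x = a' * (1 + (k : F) ^ 2)⁻¹ := by
    rw [hxa]
    field_simp
  show x ∈ h.subfield
  rw [this]
  exact h.subfield.mul_mem haM (h.subfield.inv_mem h1k)

theorem NC.wS_mem (h : NC M) : wS ∈ M := by
  obtain ⟨k₁, ht⟩ := h.exists_t
  have hv : vS ((k₁ : F) ^ 2 * 1) ∈ M := by
    rw [← conj_wS_tS_uS]
    exact M.mul_mem (M.mul_mem ht h.one_mem) (M.inv_mem ht)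
  rw [mul_one] at hv
  have hk0 : (k₁ : F) ^ 2 ≠ 0 := pow_ne_zero 2 k₁.ne_zero
  have h1 := h.uS_mem_of_not_B _ hv (by simp)
  simp only [vS_00, vS_10] at h1
  have h2 : (k₁ : F) ^ 2 ∈ h.subfield := by
    have := h.subfield.inv_mem h1
    rw [one_div, inv_inv] at this
    exact this
  have h3 : tS k₁ ∈ M := (h.tS_mem_iff k₁).mpr (h.mem_of_sq_mem h2)
  have : (wS : S2) = wS * tS k₁ * (tS k₁)⁻¹ := by group
  rw [this]
  exact M.mul_mem ht (M.inv_mem h3)

/-- upper triangular elements with entries in a subfield -/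
theorem upper_eq_of_mem {K : Subfield F} (g : S2) (hg : g ∈ SL2K K) (h10 : g 1 0 = 0) :
    ∃ (a : Fˣ) (x : F), (a : F) ∈ K ∧ x ∈ K ∧ g = uS x * tS a := by
  obtain ⟨a, x, hax⟩ := upper_eq g h10
  have h00 : g 0 0 = a := by rw [hax]; simp [mul_apply']
  have h01 : g 0 1 = x * ((a⁻¹ : Fˣ) : F) := by rw [hax]; simp [mul_apply']
  have haK : (a : F) ∈ K := by rw [← h00]; exact hg 0 0
  refine ⟨a, x, haK, ?_, hax⟩
  have : x = g 0 1 * a := by
    rw [h01, mul_assoc, Units.inv_mul, mul_one]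
  rw [this]
  exact K.mul_mem (hg 0 1) haK

/-- the Bruhat decomposition of an element outside the Borel subgroup -/
theorem bruhat_of_ne (g : S2) (hg : g 1 0 ≠ 0) :
    (uS (g 0 0 / g 1 0) * wS : S2)⁻¹ * g ∈ (Bsub : Subgroup S2) := by
  rw [mem_Bsub, mul_inv_rev, wS_inv, uS_inv]
  simp [mul_apply']
  field_simp
  ring

theorem NC.eq_SL2K (h : NC M) : M = SL2K h.subfield := by
  have hB : ∀ g : S2, g 1 0 = 0 → (g ∈ M ↔ g ∈ SL2K h.subfield) := by
    intro g h10
    constructor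
    · intro hgM
      obtain ⟨a, x, hax⟩ := upper_eq g h10
      rw [hax] at hgM ⊢
      obtain ⟨hx, ha⟩ := h.mem_of_fix x a hgM
      exact Subgroup.mul_mem _ (uS_mem_SL2K.mpr hx) (tS_mem_SL2K.mpr ((h.tS_mem_iff a).mp ha))
    · intro hg
      obtain ⟨a, x, ha, hx, hax⟩ := upper_eq_of_mem g hg h10
      rw [hax]
      exact M.mul_mem hx ((h.tS_mem_iff a).mpr ha)
  ext g
  by_cases h10 : g 1 0 = 0
  · exact hB g h10
  · have hb := bruhat_of_ne g h10
    rw [mem_Bsub] at hb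
    have hg : g = uS (g 0 0 / g 1 0) * wS * ((uS (g 0 0 / g 1 0) * wS : S2)⁻¹ * g) := by group
    constructor
    · intro hgM
      have hx := h.uS_mem_of_not_B g hgM h10
      have h1 : (uS (g 0 0 / g 1 0) * wS : S2) ∈ M := M.mul_mem hx h.wS_mem
      have h2 : (uS (g 0 0 / g 1 0) * wS : S2)⁻¹ * g ∈ M := M.mul_mem (M.inv_mem h1) hgM
      rw [hg]
      exact Subgroup.mul_mem _ (Subgroup.mul_mem _ (uS_mem_SL2K.mpr hx) wS_mem_SL2K)
        ((hB _ hb).mp h2)
    · intro hgK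
      have hx : g 0 0 / g 1 0 ∈ h.subfield := by
        rw [div_eq_mul_inv]
        exact h.subfield.mul_mem (hgK 0 0) (h.subfield.inv_mem (hgK 1 0))
      have h1 : (uS (g 0 0 / g 1 0) * wS : S2) ∈ SL2K h.subfield :=
        Subgroup.mul_mem _ (uS_mem_SL2K.mpr hx) wS_mem_SL2K
      have h2 : (uS (g 0 0 / g 1 0) * wS : S2)⁻¹ * g ∈ SL2K h.subfield :=
        Subgroup.mul_mem _ (Subgroup.inv_mem _ h1) hgK
      rw [hg]
      exact M.mul_mem (M.mul_mem hx h.wS_mem) ((hB _ hb).mpr h2)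

end char2

end Cfsg.Agent.Helper11.L2E
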