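import Mathlib
import Cfsg.Agent.Helper11.L2ED

/-! `SL₂(F)` in characteristic two, part E: the subgroup theorem. -/

set_option autoImplicit false
set_option linter.unusedSectionVars false
set_option linter.unusedVariables false

namespace Cfsg.Agent.Helper11.L2E

open Cfsg.Agent.Helper11.PSL2Aut Cfsg.Agent.Helper11.SCTI

variable {F : Type*} [Field F] [CharP F 2] [Fintype F]

local notation "S2" => Matrix.SpecialLinearGroup (Fin 2) F

/-- the case where `M` contains at least two involutions of `U` -/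
theorem two_invol_case (M : Subgroup S2) (c₂ : F) (hc₂ : c₂ ≠ 0) (hne : c₂ ≠ 1)
    (h1M : uS 1 ∈ M) (hc₂M : uS c₂ ∈ M) : Concl M := by
  by_cases hfix : M ≤ Bsub
  · left
    exact ⟨1, by rw [cj_one]; exact hfix⟩
  · obtain ⟨g, hgM, hg⟩ := SetLike.not_le_iff_exists.mp hfix
    rw [mem_Bsub] at hg
    set x := g 0 0 / g 1 0 with hx
    apply Concl.of_conj (uS x)
    have hxx : (uS x : S2)⁻¹ = uS x := inv_eq_of_mul_eq_one_left (uS_mul_self x)
    have key : ∀ c, uS c ∈ M → uS c ∈ cj (uS x) M := by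
      intro c hc
      rw [mem_cj, hxx]
      have : uS x * uS c * uS x = uS c := by
        rw [← uS_add, ← uS_add]
        congr 1
        have h2 : (2 : F) = 0 := two_eq_zero'
        linear_combination x * h2
      rw [this]
      exact hc
    have hNC : NC (cj (uS x) M) := by
      refine ⟨key 1 h1M, ⟨c₂, hc₂, hne, key c₂ hc₂M⟩, ?_⟩
      set h₀ := uS x * g with hh₀
      have hh00 : h₀ 0 0 = 0 := by
        have h2 : (2 : F) = 0 := two_eq_zero'
        rw [hh₀, hx]
        simp [mul_apply']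
        field_simp
        linear_combination g 0 0 * h2
      have hh10 : h₀ 1 0 = g 1 0 := by
        rw [hh₀]
        simp [mul_apply']
      refine ⟨(g 1 0) ^ 2 * 1, ?_, ?_⟩
      · rw [mul_one]; exact pow_ne_zero 2 hg
      · rw [← hh10, ← conj_uS_of_00 h₀ hh00, mem_cj, hxx, hh₀]
        have : uS x * (uS x * g * uS 1 * (uS x * g)⁻¹) * uS x =
            (uS x * uS x) * (g * uS 1 * g⁻¹) * ((uS x)⁻¹ * uS x) := by group
        rw [this, uS_mul_self, inv_mul_cancel, one_mul, mul_one]
        exact M.mul_mem (M.mul_mem hgM h1M) (M.inv_mem hgM)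
    right; right
    refine ⟨1, hNC.subfield, ⟨c₂, key c₂ hc₂M, hc₂, hne⟩, ?_⟩
    rw [cj_one]
    exact hNC.eq_SL2K

/-- the subgroup theorem for `SL₂(F)`, `F` finite of characteristic two -/
theorem main (M : Subgroup S2) : Concl M := by
  by_cases hodd : ∀ x ∈ M, Odd (orderOf x)
  · by_cases hbot : M = ⊥
    · left
      exact ⟨1, by rw [hbot]; exact bot_le⟩
    · obtain ⟨T, hT, hle⟩ := odd_case M hodd hbot
      right; left
      exact ⟨T, hT, hle.trans Subgroup.le_normalizer⟩
  · push Not at hodd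
    obtain ⟨x, hxM, hx⟩ := hodd
    rw [Nat.not_odd_iff_even] at hx
    obtain ⟨j, hj⟩ := hx
    have hopos : 0 < orderOf x := orderOf_pos x
    have hj0 : 0 < j := by omega
    set u := x ^ j with hu
    have huM : u ∈ M := M.pow_mem hxM j
    have hu1 : u ≠ 1 := by
      intro h1
      have h2 := orderOf_dvd_of_pow_eq_one h1
      have := Nat.le_of_dvd hj0 h2
      omega
    have huu : u * u = 1 := by rw [hu, ← pow_add, ← hj, pow_orderOf_eq_one]
    obtain ⟨g, e⟩ := exists_conj_uS_one u hu1 huu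
    apply Concl.of_conj g
    have h1M : uS 1 ∈ cj g M := by rw [← e]; exact conj_mem_cj huM
    by_cases huniq : ∀ c', uS c' ∈ cj g M → c' = 0 ∨ c' = 1
    · exact cyclic_case (cj g M) 1 one_ne_zero h1M huniq
    · push Not at huniq
      obtain ⟨c₂, hc₂M, hc₂0, hc₂1⟩ := huniq
      exact two_invol_case (cj g M) c₂ hc₂0 hc₂1 h1M hc₂M

end Cfsg.Agent.Helper11.L2E
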