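import Mathlib
import Cfsg.Agent.Helper11.L2EE
import Cfsg.Agent.Helper11.DihedralLift

/-! `SL₂(F)` in characteristic two, part F: maximal subgroups. -/

set_option autoImplicit false
set_option linter.unusedSectionVars false
set_option linter.unusedVariables false

namespace Cfsg.Agent.Helper11.L2E

open Cfsg.Agent.Helper11.PSL2Aut Cfsg.Agent.Helper11.SCTI

variable {F : Type*} [Field F] [CharP F 2] [Fintype F]

local notation "S2" => Matrix.SpecialLinearGroup (Fin 2) F

omit [CharP F 2] [Fintype F] in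
theorem cj_ne_top {G : Type*} [Group G] (g : G) {M : Subgroup G} (h : M ≠ ⊤) : cj g M ≠ ⊤ := by
  intro ht
  apply h
  rw [eq_top_iff]
  intro x _
  have h1 : g * x * g⁻¹ ∈ cj g M := by rw [ht]; exact Subgroup.mem_top _
  rw [mem_cj] at h1
  have e : g⁻¹ * (g * x * g⁻¹) * g = x := by group
  rwa [e] at h1

omit [CharP F 2] [Fintype F] in
theorem Bsub_ne_top : (Bsub : Subgroup S2) ≠ ⊤ := by
  intro h
  have : (wS : S2) ∈ (Bsub : Subgroup S2) := by rw [h]; exact Subgroup.mem_top _
  rw [mem_Bsub] at this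
  simp at this

/-- the normaliser of a torus is dihedral -/
theorem IsTor.normalizer_dihedral {T : Subgroup S2} (hT : IsTor T) :
    Nonempty (Subgroup.normalizer (T : Set S2) ≃* DihedralGroup (Nat.card T)) := by
  have hcyc := hT.isCyclic
  obtain ⟨a₀, ha₀⟩ := IsCyclic.exists_generator (α := T)
  have hord : orderOf a₀ = Nat.card T := orderOf_eq_card_of_forall_mem_zpowers ha₀
  obtain ⟨s, hsN, hsT, hss, hsinv⟩ := hT.exists_inverting
  have hsi : s⁻¹ = s := inv_eq_of_mul_eq_one_left hss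
  apply Cfsg.Agent.Helper11.nonempty_mulEquiv_dihedralGroup (Nat.card T) hT.card_normalizer
    (⟨a₀.1, hT.le_normalizer a₀.2⟩ : Subgroup.normalizer (T : Set S2)) ⟨s, hsN⟩
  · rw [← hord]
    rw [← Subgroup.orderOf_coe a₀]
    exact Subgroup.orderOf_mk _ _
  · apply Subtype.ext
    exact hss
  · apply Subtype.ext
    have := hsinv a₀.1 a₀.2
    rw [hsi] at this
    exact this
  · intro hmem
    rw [Subgroup.mem_zpowers_iff] at hmem
    obtain ⟨k, hk⟩ := hmem
    apply hsT
    have : s = (a₀.1) ^ k := by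
      have := congrArg Subtype.val hk
      simp only [Subgroup.coe_zpow] at this
      exact this.symm
    rw [this]
    exact T.zpow_mem a₀.2 k

theorem IsTor.normalizer_ne_top {T : Subgroup S2} (hT : IsTor T) (h4 : 4 ≤ Fintype.card F) :
    Subgroup.normalizer (T : Set S2) ≠ ⊤ := by
  intro h
  have h1 := hT.card_normalizer
  rw [h, Subgroup.card_top, card_S2] at h1
  have h2 : Nat.card T ≤ Fintype.card F + 1 := by
    rcases hT.card with h | h <;> omega
  have h3 : Fintype.card F ^ 2 - 1 = (Fintype.card F - 1) * (Fintype.card F + 1) := by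
    obtain ⟨k, hk⟩ : ∃ k, Fintype.card F = k + 1 := ⟨Fintype.card F - 1, by omega⟩
    rw [hk, Nat.add_sub_cancel]
    have : (k + 1) ^ 2 = k * (k + 1 + 1) + 1 := by ring
    omega
  rw [h3] at h1
  have h5 : 3 ≤ Fintype.card F - 1 := by omega
  have h6 : 4 * (3 * (Fintype.card F + 1)) ≤
      Fintype.card F * ((Fintype.card F - 1) * (Fintype.card F + 1)) :=
    Nat.mul_le_mul h4 (Nat.mul_le_mul h5 (le_refl _))
  omega

/-- the maximal subgroups -/
theorem coatom_cases (M : Subgroup S2) (hM : IsCoatom M) (h4 : 4 ≤ Fintype.card F) :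
    (∃ g : S2, M = cj g Bsub) ∨
    (∃ T : Subgroup S2, IsTor T ∧ M = Subgroup.normalizer (T : Set S2)) ∨
    (∃ (g : S2) (K : Subfield F), (∃ c ∈ K, c ≠ 0 ∧ c ≠ 1) ∧ K ≠ ⊤ ∧ M = cj g (SL2K K)) := by
  rcases main M with ⟨g, hg⟩ | ⟨T, hT, hle⟩ | ⟨g, K, hK, hMK⟩
  · left
    refine ⟨g, ?_⟩
    rcases hM.le_iff.mp hg with h | h
    · exact absurd h (cj_ne_top g Bsub_ne_top)
    · exact h.symm
  · right; left
    refine ⟨T, hT, ?_⟩
    rcases hM.le_iff.mp hle with h | h
    · exact absurd h (hT.normalizer_ne_top h4)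
    · exact h.symm
  · right; right
    refine ⟨g, K, hK, ?_, hMK⟩
    rintro rfl
    apply hM.1
    rw [hMK, SL2K_top]
    rw [eq_top_iff]
    intro x _
    rw [mem_cj]
    exact Subgroup.mem_top _

end Cfsg.Agent.Helper11.L2E
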