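import Mathlib
import Cfsg.Agent.Helper11.L2EF
import Cfsg.Agent.Helper11.FinSub

/-! `SL₂(F)` in characteristic two, part G: the subfield subgroups as maximal subgroups, and the
transfer to `PSL₂`. -/

set_option autoImplicit false
set_option linter.unusedSectionVars false
set_option linter.unusedVariables false

namespace Cfsg.Agent.Helper11.L2E

open Cfsg.Agent.Helper11.PSL2Aut Cfsg.Agent.Helper11.SCTI Cfsg.Agent.Helper11.FinSub

/-- transport of `SL₂` along a ring isomorphism -/
noncomputable def slCongr {R S : Type*} [CommRing R] [CommRing S] (e : R ≃+* S) :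
    Matrix.SpecialLinearGroup (Fin 2) R ≃* Matrix.SpecialLinearGroup (Fin 2) S where
  toFun := Matrix.SpecialLinearGroup.map e.toRingHom
  invFun := Matrix.SpecialLinearGroup.map e.symm.toRingHom
  left_inv g := by
    apply Subtype.ext
    ext i j
    simp [Matrix.SpecialLinearGroup.map_apply_coe]
  right_inv g := by
    apply Subtype.ext
    ext i j
    simp [Matrix.SpecialLinearGroup.map_apply_coe]
  map_mul' := map_mul _

/-- in characteristic two, `SL₂` is `PSL₂` -/
noncomputable def slEquivPSL (F : Type*) [Field F] [CharP F 2] :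
    Matrix.SpecialLinearGroup (Fin 2) F ≃* Matrix.ProjectiveSpecialLinearGroup (Fin 2) F :=
  MulEquiv.ofBijective (QuotientGroup.mk' (Subgroup.center (Matrix.SpecialLinearGroup (Fin 2) F)))
    ⟨by
      rw [← MonoidHom.ker_eq_bot_iff, QuotientGroup.ker_mk']
      exact Mat2Cent.sl2_center_eq_bot, QuotientGroup.mk'_surjective _⟩

variable {F : Type*} [Field F]

local notation "S2" => Matrix.SpecialLinearGroup (Fin 2) F

/-- the subfield subgroup is a copy of `SL₂` of the subfield -/
theorem nonempty_SL2K_equiv (K : Subfield F) :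
    Nonempty (SL2K K ≃* Matrix.SpecialLinearGroup (Fin 2) K) := by
  set f : Matrix.SpecialLinearGroup (Fin 2) K →* S2 :=
    Matrix.SpecialLinearGroup.map K.subtype with hf
  have hcoe : ∀ (g : Matrix.SpecialLinearGroup (Fin 2) K) (i j : Fin 2), (f g) i j = (g i j : F) := by
    intro g i j
    rfl
  have hinj : Function.Injective f := by
    intro g h hgh
    apply Subtype.ext
    ext i j
    have := congrArg (fun m : S2 => m i j) hgh
    simp only [hcoe] at this
    exact this
  have hrange : f.range = SL2K K := by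
    ext g
    constructor
    · rintro ⟨g', rfl⟩ i j
      rw [hcoe]
      exact (g' i j).2
    · intro hg
      have hdet : (Matrix.of fun i j => (⟨g i j, hg i j⟩ : K)).det = 1 := by
        apply Subtype.val_injective
        have := RingHom.map_det K.subtype (Matrix.of fun i j => (⟨g i j, hg i j⟩ : K))
        rw [Subfield.coe_one]
        have h2 : K.subtype.mapMatrix (Matrix.of fun i j => (⟨g i j, hg i j⟩ : K)) =
            (g : Matrix (Fin 2) (Fin 2) F) := by
          ext i j
          rfl
        rw [h2, g.2] at this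
        exact this
      refine ⟨⟨Matrix.of fun i j => (⟨g i j, hg i j⟩ : K), hdet⟩, ?_⟩
      apply Subtype.ext
      ext i j
      rfl
  exact ⟨(MulEquiv.subgroupCongr hrange.symm).trans (MonoidHom.ofInjective hinj).symm⟩

section char2

variable [CharP F 2] [Fintype F]

omit [CharP F 2] [Fintype F] in
theorem SL2K_le_iff {K L : Subfield F} : SL2K K ≤ SL2K L ↔ K ≤ L := by
  constructor
  · intro h x hx
    exact uS_mem_SL2K.mp (h (uS_mem_SL2K.mpr hx))
  · exact SL2K_mono

omit [CharP F 2] [Fintype F] in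
theorem SL2K_injective {K L : Subfield F} (h : SL2K K = SL2K L) : K = L :=
  le_antisymm (SL2K_le_iff.mp h.le) (SL2K_le_iff.mp h.ge)

omit [CharP F 2] [Fintype F] in
theorem SL2K_eq_top_iff {K : Subfield F} : SL2K K = ⊤ ↔ K = ⊤ := by
  constructor
  · intro h
    apply SL2K_injective
    rw [h, SL2K_top]
  · rintro rfl
    exact SL2K_top

/-- subgroups containing a subfield subgroup (over a subfield with more than two elements) are
subfield subgroups -/
theorem eq_SL2K_of_le (K₀ : Subfield F) (hK₀ : ∃ c ∈ K₀, c ≠ 0 ∧ c ≠ 1) (M : Subgroup S2)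
    (hle : SL2K K₀ ≤ M) : ∃ K : Subfield F, K₀ ≤ K ∧ M = SL2K K := by
  obtain ⟨c, hc, hc0, hc1⟩ := hK₀
  have hNC : NC M := by
    refine ⟨hle (uS_mem_SL2K.mpr K₀.one_mem), ⟨c, hc0, hc1, hle (uS_mem_SL2K.mpr hc)⟩,
      ⟨1, one_ne_zero, hle (vS_mem_SL2K.mpr K₀.one_mem)⟩⟩
  refine ⟨hNC.subfield, ?_, hNC.eq_SL2K⟩
  intro x hx
  exact hle (uS_mem_SL2K.mpr hx)

/-- the subfield subgroups of prime degree are maximal -/
theorem isCoatom_SL2K (K₀ : Subfield F) (hK₀ : ∃ c ∈ K₀, c ≠ 0 ∧ c ≠ 1) (r : ℕ) (hr : r.Prime)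
    (hcard : Fintype.card F = Nat.card K₀ ^ r) : IsCoatom (SL2K K₀) := by
  have h2 := two_le_card K₀
  constructor
  · rw [Ne, SL2K_eq_top_iff]
    rintro rfl
    have h1 : Nat.card (⊤ : Subfield F) = Fintype.card F := by
      rw [← Nat.card_eq_fintype_card]
      exact Nat.card_congr Subfield.topEquiv.toEquiv
    rw [← h1] at hcard
    have h3 : Nat.card (⊤ : Subfield F) ^ 1 = Nat.card (⊤ : Subfield F) ^ r := by
      rw [pow_one]; exact hcard
    have := Nat.pow_right_injective h2 h3
    exact hr.one_lt.ne this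
  · intro M hM
    obtain ⟨K, hKle, rfl⟩ := eq_SL2K_of_le K₀ hK₀ M hM.le
    rw [SL2K_eq_top_iff]
    obtain ⟨s, hs, hKs⟩ := card_pow_of_le K₀ K hKle
    obtain ⟨t, ht, hFt⟩ := card_pow_top K
    rw [hKs, ← pow_mul, hcard] at hFt
    have hst : r = s * t := Nat.pow_right_injective h2 hFt
    have hsdvd : s ∣ r := ⟨t, hst⟩
    rcases (Nat.dvd_prime hr).mp hsdvd with h1 | h1
    · exfalso
      rw [h1, pow_one] at hKs
      have := eq_of_le_of_card_eq K₀ K hKle hKs.symm
      rw [this] at hM
      exact lt_irrefl _ hM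
    · have ht1 : t = 1 := by
        rw [h1] at hst
        have hr0 : 0 < r := hr.pos
        nlinarith
      apply eq_top_of_card_eq
      rw [hKs, h1, hcard]

/-- a maximal subfield subgroup has prime degree -/
theorem prime_degree_of_isCoatom (g : S2) (K : Subfield F) (hM : IsCoatom (cj g (SL2K K))) :
    ∃ r : ℕ, r.Prime ∧ Fintype.card F = Nat.card K ^ r := by
  classical
  have : Fact (Nat.Prime 2) := ⟨Nat.prime_two⟩
  have h2 := two_le_card K
  obtain ⟨s, hs, hFs⟩ := card_pow_top K
  refine ⟨s, ?_, hFs⟩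
  have hKtop : K ≠ ⊤ := by
    rintro rfl
    apply hM.1
    rw [SL2K_top, eq_top_iff]
    intro x _
    rw [mem_cj]
    exact Subgroup.mem_top _
  have hs1 : s ≠ 1 := by
    rintro rfl
    rw [pow_one] at hFs
    exact hKtop (eq_top_of_card_eq K hFs.symm)
  by_contra hnp
  obtain ⟨a, ⟨b, hab⟩, ha2, has⟩ := Nat.exists_dvd_of_not_prime2 (by omega) hnp
  -- the order of `K`
  let _ : Fintype K := Fintype.ofFinite K
  have hcharK : CharP K 2 := by
    have hinj : Function.Injective (K.subtype : K →+* F) := Subtype.val_injective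
    exact (RingHom.charP_iff K.subtype hinj 2).mpr inferInstance
  obtain ⟨k, -, hk⟩ := FiniteField.card K 2
  have hk' : Nat.card K = 2 ^ (k : ℕ) := by rw [Nat.card_eq_fintype_card]; exact hk
  have hFN : Fintype.card F = 2 ^ ((k : ℕ) * s) := by rw [hFs, hk', pow_mul]
  have hb2 : 2 ≤ b := by
    by_contra hb
    have : b = 0 ∨ b = 1 := by omega
    rcases this with rfl | rfl
    · omega
    · omega
  obtain ⟨L, hL⟩ := exists_subfield (F := F) 2 ((k : ℕ) * s) ((k : ℕ) * a) hFN
    (Nat.mul_ne_zero k.ne_zero (by omega)) (by rw [hab]; exact ⟨b, by ring⟩)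
  have hLK : Nat.card L = Nat.card K ^ a := by rw [hL, hk', pow_mul]
  have hKL : K ≤ L := le_of_card_pow K L a hLK
  have hne1 : K ≠ L := by
    intro h
    rw [← h, hk'] at hL
    have := Nat.pow_right_injective (le_refl 2) hL
    have hkpos : 0 < (k : ℕ) := k.pos
    nlinarith
  have hne2 : L ≠ ⊤ := by
    intro h
    have h1 : Nat.card (⊤ : Subfield F) = Fintype.card F := by
      rw [← Nat.card_eq_fintype_card]
      exact Nat.card_congr Subfield.topEquiv.toEquiv
    rw [h, h1, hFN] at hL
    have := Nat.pow_right_injective (le_refl 2) hL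
    have hkpos : 0 < (k : ℕ) := k.pos
    rw [hab] at this
    nlinarith
  have hlt : cj g (SL2K K) < cj g (SL2K L) := by
    apply lt_of_le_of_ne (cj_mono g (SL2K_mono hKL))
    intro h
    apply hne1
    apply SL2K_injective
    have := congrArg (cj g⁻¹) h
    rwa [cj_inv_cj, cj_inv_cj] at this
  have := hM.2 _ hlt
  apply hne2
  rw [← SL2K_eq_top_iff]
  have h3 := congrArg (cj g⁻¹) this
  rw [cj_inv_cj] at h3
  rw [h3, eq_top_iff]
  intro x _
  rw [mem_cj]
  exact Subgroup.mem_top _

end char2

end Cfsg.Agent.Helper11.L2E
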