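import Mathlib
import Cfsg.Agent.Helper11.L2EG

/-! `SL₂(F)` in characteristic two, part H: solubilizers when `|F| = 2^p`, `p` prime: when do two
elements generate a solvable subgroup. -/

set_option autoImplicit false
set_option linter.unusedSectionVars false
set_option linter.unusedVariables false
set_option linter.unusedSimpArgs false

namespace Cfsg.Agent.Helper11.L2E

open Cfsg.Agent.Helper11.PSL2Aut Cfsg.Agent.Helper11.SCTI Cfsg.Agent.Helper11.FinSub

variable {F : Type*} [Field F] [CharP F 2] [Fintype F]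

local notation "S2" => Matrix.SpecialLinearGroup (Fin 2) F

omit [CharP F 2] in
theorem exists_ne_zero_sq_ne_one' (h4 : 4 ≤ Fintype.card F) : ∃ a : F, a ≠ 0 ∧ a ^ 2 ≠ 1 := by
  classical
  by_contra hcon
  push Not at hcon
  have hsub : (Finset.univ : Finset F) ⊆ {0, 1, -1} := by
    intro a _
    by_cases ha : a = 0
    · simp [ha]
    have h := hcon a ha
    have h' : (a - 1) * (a + 1) = 0 := by linear_combination h
    rcases mul_eq_zero.mp h' with h | h
    · have : a = 1 := by linear_combination h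
      simp [this]
    · have : a = -1 := by linear_combination h
      simp [this]
  have := Finset.card_le_card hsub
  rw [Finset.card_univ] at this
  have h3 : ({0, 1, -1} : Finset F).card ≤ 3 := Finset.card_le_three
  omega

omit [CharP F 2] in
theorem not_isSolvable_S2 (h4 : 4 ≤ Fintype.card F) : ¬ Group.IsSolvable S2 := by
  intro h
  obtain ⟨a, ha, hasq⟩ := exists_ne_zero_sq_ne_one' h4
  have : Nontrivial S2 := by
    refine ⟨⟨1, uS 1, ?_⟩⟩
    intro h1
    have := (uS_eq_one_iff (F := F)).mp h1.symm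
    exact one_ne_zero this
  have hlt := Group.IsSolvable.commutator_lt_top_of_nontrivial S2
  rw [Matrix.SL2.commutator_eq_top ha hasq] at hlt
  exact lt_irrefl _ hlt

/-- the Borel subgroup is solvable -/
theorem isSolvable_Bsub : Group.IsSolvable ↥(Bsub : Subgroup S2) := by
  set B : Subgroup S2 := Bsub with hB
  have hnorm : ((Usub : Subgroup S2).subgroupOf B).Normal := by
    rw [hB, ← normalizer_Usub]
    exact Subgroup.normal_in_normalizer
  have h1 : Group.IsSolvable ↥((Usub : Subgroup S2).subgroupOf B) := by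
    apply Group.isSolvable_of_comm
    intro a b
    apply Subtype.ext
    apply Subtype.ext
    exact sc_Usub.comm _ a.2 _ b.2
  have h2 : Group.IsSolvable (↥B ⧸ (Usub : Subgroup S2).subgroupOf B) := by
    apply Group.isSolvable_of_comm
    intro a b
    induction a using QuotientGroup.induction_on with
    | H g =>
      induction b using QuotientGroup.induction_on with
      | H h =>
        rw [← QuotientGroup.mk_mul, ← QuotientGroup.mk_mul, QuotientGroup.eq]
        rw [Subgroup.mem_subgroupOf]
        obtain ⟨g, hg⟩ := g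
        obtain ⟨h, hh⟩ := h
        show (g * h)⁻¹ * (h * g) ∈ (Usub : Subgroup S2)
        have hg0 : g 1 0 = 0 := hg
        have hh0 : h 1 0 = 0 := hh
        have dg := det_eq g
        have dh := det_eq h
        rw [hg0, mul_zero, sub_zero] at dg
        rw [hh0, mul_zero, sub_zero] at dh
        have hc : (g * h)⁻¹ * (h * g) ∈ (Bsub : Subgroup S2) :=
          B.mul_mem (B.inv_mem (B.mul_mem hg hh)) (B.mul_mem hh hg)
        have hc0 : ((g * h)⁻¹ * (h * g) : S2) 1 0 = 0 := hc
        have h00 : ((g * h)⁻¹ * (h * g) : S2) 0 0 = 1 := by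
          rw [mul_apply', inv_apply_00, inv_apply_01, mul_apply', mul_apply', mul_apply', mul_apply',
            hg0, hh0]
          linear_combination (g 0 0 * g 1 1) * dh + dg
        have dc := det_eq ((g * h)⁻¹ * (h * g))
        rw [hc0, mul_zero, sub_zero, h00, one_mul] at dc
        refine ⟨((g * h)⁻¹ * (h * g) : S2) 0 1, ?_⟩
        apply ext'
        · rw [h00]; simp
        · simp
        · rw [hc0]; simp
        · rw [dc]; simp
  exact (Group.isSolvable_iff_subgroup_quotient ((Usub : Subgroup S2).subgroupOf B)).mpr ⟨h1, h2⟩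

omit [CharP F 2] [Fintype F] in
theorem isSolvable_cj {G : Type*} [Group G] (g : G) (M : Subgroup G) (h : Group.IsSolvable ↥M) :
    Group.IsSolvable ↥(cj g M) := by
  have e : M ≃* (cj g M) := Subgroup.equivMapOfInjective M (MulAut.conj g).toMonoidHom
    (MulAut.conj g).injective
  exact Group.isSolvable_of_surjective (f := e.toMonoidHom) e.surjective

omit [CharP F 2] [Fintype F] in
theorem isSolvable_of_le {G : Type*} [Group G] {M N : Subgroup G} (hle : M ≤ N)
    (h : Group.IsSolvable ↥N) : Group.IsSolvable ↥M :=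
  Group.isSolvable_of_isSolvable_injective (f := Subgroup.inclusion hle)
    (Subgroup.inclusion_injective hle)

/-- normalisers of tori are solvable -/
theorem IsTor.isSolvable_normalizer {T : Subgroup S2} (hT : IsTor T) :
    Group.IsSolvable ↥(Subgroup.normalizer (T : Set S2)) := by
  have : Fact (Nat.Prime 2) := ⟨Nat.prime_two⟩
  set N := Subgroup.normalizer (T : Set S2) with hN
  have hnorm : (T.subgroupOf N).Normal := Subgroup.normal_in_normalizer
  have h1 : Group.IsSolvable ↥(T.subgroupOf N) := by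
    apply Group.isSolvable_of_comm
    intro a b
    apply Subtype.ext
    apply Subtype.ext
    exact hT.1.comm _ a.2 _ b.2
  have h2 : Group.IsSolvable (↥N ⧸ T.subgroupOf N) := by
    have hp : IsPGroup 2 (↥N ⧸ T.subgroupOf N) := by
      intro a
      refine ⟨1, ?_⟩
      induction a using QuotientGroup.induction_on with
      | H g =>
        rw [← QuotientGroup.mk_pow, QuotientGroup.eq_one_iff, Subgroup.mem_subgroupOf]
        rcases hT.normalizer_cases g.1 g.2 with h | ⟨h, -⟩
        · simpa using T.pow_mem h 2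
        · simp only [pow_one, pow_two, Subgroup.coe_mul]
          rw [h]
          exact T.one_mem
    have := hp.isNilpotent
    infer_instance
  exact (Group.isSolvable_iff_subgroup_quotient (T.subgroupOf N)).mpr ⟨h1, h2⟩

omit [CharP F 2] in
/-- subfields of a field of order `2^p`, `p` prime -/
theorem subfield_eq_top {p : ℕ} (hp : p.Prime) (hF : Fintype.card F = 2 ^ p) (K : Subfield F)
    (hK : ∃ c ∈ K, c ≠ 0 ∧ c ≠ 1) : K = ⊤ := by
  obtain ⟨s, hs, hKs⟩ := card_pow_top K
  have hdvd : Nat.card K ∣ 2 ^ p := by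
    rw [← hF, hKs]; exact dvd_pow_self _ (by omega)
  obtain ⟨d, hd, hKd⟩ := (Nat.dvd_prime_pow Nat.prime_two).mp hdvd
  rw [hKd, ← pow_mul, hF] at hKs
  have hpds : p = d * s := Nat.pow_right_injective (le_refl 2) hKs
  rcases (Nat.dvd_prime hp).mp ⟨s, hpds⟩ with h | h
  · exfalso
    obtain ⟨c, hcK, hc0, hc1⟩ := hK
    have := pow_card_of_mem K hcK
    rw [hKd, h, pow_one, pow_two] at this
    have h' : c * (c - 1) = 0 := by linear_combination this
    rcases mul_eq_zero.mp h' with h0 | h0
    · exact hc0 h0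
    · exact hc1 (by linear_combination h0)
  · apply eq_top_of_card_eq
    rw [hKd, h, hF]

omit [CharP F 2] [Fintype F] in
theorem cj_top {G : Type*} [Group G] (g : G) : cj g (⊤ : Subgroup G) = ⊤ := by
  rw [eq_top_iff]
  intro x _
  rw [mem_cj]
  exact Subgroup.mem_top _

/-- when `|F| = 2^p` with `p` prime every proper subgroup lies in a Borel subgroup or in the
normaliser of a torus -/
theorem dichotomy {p : ℕ} (hp : p.Prime) (hF : Fintype.card F = 2 ^ p) (M : Subgroup S2)
    (hM : M ≠ ⊤) :
    (∃ g : S2, M ≤ cj g Bsub) ∨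
      (∃ T : Subgroup S2, IsTor T ∧ M ≤ Subgroup.normalizer (T : Set S2)) := by
  rcases main M with h | h | ⟨g, K, hK, hMK⟩
  · exact Or.inl h
  · exact Or.inr h
  · exfalso
    apply hM
    rw [hMK, subfield_eq_top hp hF K hK, SL2K_top, cj_top]

/-- the relation that will turn out to be "generate a solvable subgroup" -/
def Rel (x y : S2) : Prop :=
  (∃ g : S2, x ∈ cj g (Bsub : Subgroup S2) ∧ y ∈ cj g (Bsub : Subgroup S2)) ∨
  (∃ T : Subgroup S2, IsTor T ∧ x ∈ Subgroup.normalizer (T : Set S2) ∧
    y ∈ Subgroup.normalizer (T : Set S2))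

/-- solvability of two-generated subgroups when `|F| = 2^p`, `p` prime -/
theorem sol_iff {p : ℕ} (hp : p.Prime) (hF : Fintype.card F = 2 ^ p) (x y : S2) :
    Group.IsSolvable ↥(Subgroup.closure ({x, y} : Set S2)) ↔ Rel x y := by
  have hxM : x ∈ Subgroup.closure ({x, y} : Set S2) := Subgroup.subset_closure (by simp)
  have hyM : y ∈ Subgroup.closure ({x, y} : Set S2) := Subgroup.subset_closure (by simp)
  have h4 : 4 ≤ Fintype.card F := by
    rw [hF]
    calc 4 = 2 ^ 2 := by norm_num
      _ ≤ 2 ^ p := Nat.pow_le_pow_right (by norm_num) hp.two_le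
  constructor
  · intro hsol
    have hne : Subgroup.closure ({x, y} : Set S2) ≠ ⊤ := by
      intro htop
      rw [htop] at hsol
      apply not_isSolvable_S2 h4
      exact Group.isSolvable_of_surjective (f := (Subgroup.topEquiv (G := S2)).toMonoidHom)
        (Subgroup.topEquiv (G := S2)).surjective
    rcases dichotomy hp hF _ hne with ⟨g, hg⟩ | ⟨T, hT, hle⟩
    · left; exact ⟨g, hg hxM, hg hyM⟩
    · right; exact ⟨T, hT, hle hxM, hle hyM⟩
  · rintro (⟨g, hx, hy⟩ | ⟨T, hT, hx, hy⟩)
    · have hle : Subgroup.closure ({x, y} : Set S2) ≤ cj g (Bsub : Subgroup S2) := by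
        rw [Subgroup.closure_le]
        intro z hz
        rcases hz with rfl | rfl
        · exact hx
        · exact hy
      exact isSolvable_of_le hle (isSolvable_cj g _ isSolvable_Bsub)
    · have hle : Subgroup.closure ({x, y} : Set S2) ≤ Subgroup.normalizer (T : Set S2) := by
        rw [Subgroup.closure_le]
        intro z hz
        rcases hz with rfl | rfl
        · exact hx
        · exact hy
      exact isSolvable_of_le hle hT.isSolvable_normalizer

theorem Rel.conj {x y : S2} (h : Rel x y) (g : S2) : Rel (g * x * g⁻¹) (g * y * g⁻¹) := by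
  rcases h with ⟨k, hx, hy⟩ | ⟨T, hT, hx, hy⟩
  · left
    refine ⟨g * k, ?_, ?_⟩
    · rw [← cj_cj]; exact conj_mem_cj hx
    · rw [← cj_cj]; exact conj_mem_cj hy
  · right
    refine ⟨cj g T, hT.conj g, ?_, ?_⟩
    · rw [mem_normalizer_cj]
      have e : g⁻¹ * (g * x * g⁻¹) * g = x := by group
      rw [e]; exact hx
    · rw [mem_normalizer_cj]
      have e : g⁻¹ * (g * y * g⁻¹) * g = y := by group
      rw [e]; exact hy

theorem card_rel_conj (g x : S2) :
    Nat.card {y : S2 // Rel (g * x * g⁻¹) y} = Nat.card {y : S2 // Rel x y} := by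
  refine Nat.card_congr
    { toFun := fun y => ⟨g⁻¹ * y.1 * g, by
        have := y.2.conj g⁻¹
        have e : g⁻¹ * (g * x * g⁻¹) * g⁻¹⁻¹ = x := by group
        rw [e] at this
        simpa using this⟩
      invFun := fun y => ⟨g * y.1 * g⁻¹, y.2.conj g⟩
      left_inv := by
        intro y
        apply Subtype.ext
        show g * (g⁻¹ * y.1 * g) * g⁻¹ = y.1
        group
      right_inv := by
        intro y
        apply Subtype.ext
        show g⁻¹ * (g * y.1 * g⁻¹) * g = y.1
        group }

theorem card_sol {p : ℕ} (hp : p.Prime) (hF : Fintype.card F = 2 ^ p) (x : S2) :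
    Nat.card {y : S2 // Group.IsSolvable ↥(Subgroup.closure ({x, y} : Set S2))} =
      Nat.card {y : S2 // Rel x y} :=
  Nat.card_congr (Equiv.subtypeEquivRight (fun y => sol_iff hp hF x y))

/-! ### elements of odd order -/

omit [CharP F 2] [Fintype F] in
theorem eq_one_of_odd_of_mul_self' {G : Type*} [Group G] (n : G) (hodd : Odd (orderOf n))
    (h : n * n = 1) : n = 1 := by
  have h2 : n ^ 2 = 1 := by rw [pow_two]; exact h
  have hd : orderOf n ∣ 2 := orderOf_dvd_of_pow_eq_one h2
  rcases (Nat.dvd_prime Nat.prime_two).mp hd with h' | h'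
  · exact orderOf_eq_one_iff.mp h'
  · rw [h'] at hodd; exact absurd hodd (by decide)

/-- a non-identity element of odd order is in the normaliser of a single torus -/
theorem IsTor.eq_of_mem_normalizer {T : Subgroup S2} (hT : IsTor T) {x : S2} (hx1 : x ≠ 1)
    (hodd : Odd (orderOf x)) (hx : x ∈ Subgroup.normalizer (T : Set S2)) :
    T = Subgroup.centralizer ({x} : Set S2) := by
  rcases hT.normalizer_cases x hx with h | ⟨h, -⟩
  · exact hT.eq_centralizer h hx1
  · exact absurd (eq_one_of_odd_of_mul_self' x hodd h) hx1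

theorem orderOf_dvd_card_cj_Bsub (g x : S2) (hx : x ∈ cj g (Bsub : Subgroup S2)) :
    orderOf x ∣ Fintype.card F * (Fintype.card F - 1) := by
  have h := orderOf_dvd_natCard (⟨x, hx⟩ : cj g (Bsub : Subgroup S2))
  rwa [Subgroup.orderOf_mk, card_cj, card_Bsub] at h

theorem coprime_card_add_one :
    Nat.Coprime (Fintype.card F + 1) (Fintype.card F * (Fintype.card F - 1)) := by
  have h2 := two_le_card_F (F := F)
  apply Nat.Coprime.mul_right
  · simp
  · have hodd : Odd (Fintype.card F - 1) := odd_card_sub_one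
    have e : Fintype.card F + 1 = (Fintype.card F - 1) + 2 := by omega
    rw [e, Nat.coprime_self_add_left, Nat.coprime_two_left]
    exact hodd

theorem coprime_card_add_one_sub_one :
    Nat.Coprime (Fintype.card F + 1) (Fintype.card F - 1) :=
  Nat.Coprime.coprime_mul_left_right coprime_card_add_one

theorem orderOf_dvd_card_centralizer (x : S2) :
    orderOf x ∣ Nat.card (Subgroup.centralizer ({x} : Set S2)) := by
  have h := orderOf_dvd_natCard (⟨x, mem_centralizer_self x⟩ : Subgroup.centralizer ({x} : Set S2))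
  rwa [Subgroup.orderOf_mk] at h

theorem rel_iff_of_dvd_add_one (x : S2) (hx1 : x ≠ 1) (hx : orderOf x ∣ Fintype.card F + 1)
    (y : S2) :
    Rel x y ↔ y ∈ Subgroup.normalizer
      ((Subgroup.centralizer ({x} : Set S2) : Subgroup S2) : Set S2) := by
  have hodd : Odd (orderOf x) := Odd.of_dvd_nat odd_card_add_one hx
  have hT := isTor_centralizer x hx1 hodd
  constructor
  · rintro (⟨g, hxg, -⟩ | ⟨T, hT', hxT, hyT⟩)
    · exfalso
      have h1 := orderOf_dvd_card_cj_Bsub g x hxg
      have h2 : orderOf x = 1 := Nat.eq_one_of_dvd_coprimes coprime_card_add_one hx h1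
      exact hx1 (orderOf_eq_one_iff.mp h2)
    · rw [← hT'.eq_of_mem_normalizer hx1 hodd hxT]; exact hyT
  · intro hy
    right
    exact ⟨_, hT, Subgroup.le_normalizer (mem_centralizer_self x), hy⟩

/-- the third case: elements of order dividing `q + 1` -/
theorem card_rel_of_dvd_add_one (x : S2) (hx1 : x ≠ 1) (hx : orderOf x ∣ Fintype.card F + 1) :
    Nat.card {y : S2 // Rel x y} = 2 * (Fintype.card F + 1) := by
  have hodd : Odd (orderOf x) := Odd.of_dvd_nat odd_card_add_one hx
  have hT := isTor_centralizer x hx1 hodd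
  have hcard : Nat.card (Subgroup.centralizer ({x} : Set S2)) = Fintype.card F + 1 := by
    rcases hT.card with h | h
    · exfalso
      have h1 := orderOf_dvd_card_centralizer x
      rw [h] at h1
      have h2 : orderOf x = 1 := Nat.eq_one_of_dvd_coprimes coprime_card_add_one_sub_one hx h1
      exact hx1 (orderOf_eq_one_iff.mp h2)
    · exact h
  rw [← hcard, ← hT.card_normalizer]
  exact Nat.card_congr (Equiv.subtypeEquivRight (fun y => rel_iff_of_dvd_add_one x hx1 hx y))

/-- non-identity elements of order dividing `q - 1` are conjugate into the diagonal torus -/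
theorem exists_conj_tS_of_dvd (x : S2) (hx1 : x ≠ 1) (hx : orderOf x ∣ Fintype.card F - 1) :
    ∃ (g : S2) (k : Fˣ), k ≠ 1 ∧ g * x * g⁻¹ = tS k := by
  have hodd : Odd (orderOf x) := Odd.of_dvd_nat odd_card_sub_one hx
  have hT := isTor_centralizer x hx1 hodd
  obtain ⟨Y, hY⟩ := exists_Y (F := F)
  have hxT := mem_centralizer_self x
  rcases sc_trichotomy Y hY _ hT.1 hT.2.1 with ⟨g, hg⟩ | ⟨g, hg⟩ | ⟨g, hg⟩
  · exfalso
    have h := hT.2.2
    rw [hg, card_cj, card_Usub] at h
    have := two_dvd_card_F (F := F)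
    rw [Nat.odd_iff] at h
    omega
  · rw [hg, mem_cj] at hxT
    obtain ⟨k, hk⟩ := hxT
    refine ⟨g⁻¹, k, ?_, by rw [inv_inv]; exact hk⟩
    rintro rfl
    rw [tS_one] at hk
    apply hx1
    have := congrArg (fun z => g * z * g⁻¹) hk
    simp only [mul_one, mul_inv_cancel] at this
    rw [← this]
    group
  · exfalso
    have h1 := orderOf_dvd_card_centralizer x
    rw [hg, card_cj, card_centralizer_Y Y hY] at h1
    have h2 : orderOf x = 1 := Nat.eq_one_of_dvd_coprimes coprime_card_add_one_sub_one h1 hx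
    exact hx1 (orderOf_eq_one_iff.mp h2)

/-! ### membership in Borel subgroups -/

omit [CharP F 2] [Fintype F] in
theorem conj_inv_10 (g y : S2) : (g⁻¹ * y * g : S2) 1 0 =
    g 0 0 ^ 2 * y 1 0 - g 1 0 ^ 2 * y 0 1 + g 0 0 * g 1 0 * (y 1 1 - y 0 0) := by
  rw [mul_apply', mul_apply', mul_apply', inv_apply_10, inv_apply_11]
  ring

omit [CharP F 2] [Fintype F] in
theorem mem_cj_Bsub_iff (g y : S2) : y ∈ cj g (Bsub : Subgroup S2) ↔
    g 0 0 ^ 2 * y 1 0 - g 1 0 ^ 2 * y 0 1 + g 0 0 * g 1 0 * (y 1 1 - y 0 0) = 0 := by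
  rw [mem_cj, mem_Bsub, conj_inv_10]

omit [CharP F 2] [Fintype F] in
theorem mem_cj_Bsub_of_10 (g y : S2) (hg : g 1 0 = 0) :
    y ∈ cj g (Bsub : Subgroup S2) ↔ y 1 0 = 0 := by
  rw [mem_cj_Bsub_iff, hg]
  have hd := det_eq g
  rw [hg, mul_zero, sub_zero] at hd
  have h00 : g 0 0 ≠ 0 := left_ne_zero_of_mul_eq_one hd
  constructor
  · intro h
    have h' : g 0 0 ^ 2 * y 1 0 = 0 := by linear_combination h
    rcases mul_eq_zero.mp h' with h | h
    · exact absurd h (pow_ne_zero 2 h00)
    · exact h
  · intro h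
    rw [h]; ring

omit [CharP F 2] [Fintype F] in
theorem mem_cj_Bsub_of_00 (g y : S2) (hg : g 0 0 = 0) :
    y ∈ cj g (Bsub : Subgroup S2) ↔ y 0 1 = 0 := by
  rw [mem_cj_Bsub_iff, hg]
  have hd := det_eq g
  rw [hg, zero_mul, zero_sub] at hd
  have h10 : g 1 0 ≠ 0 := by
    intro h
    rw [h, mul_zero, neg_zero] at hd
    exact zero_ne_one hd
  constructor
  · intro h
    have h' : g 1 0 ^ 2 * y 0 1 = 0 := by linear_combination -h
    rcases mul_eq_zero.mp h' with h | h
    · exact absurd h (pow_ne_zero 2 h10)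
    · exact h
  · intro h
    rw [h]; ring

/-! ### the diagonal torus -/

theorem tS_val_ne_inv {k : Fˣ} (hk : k ≠ 1) : (k : F) ≠ ((k⁻¹ : Fˣ) : F) := by
  intro h
  apply hk
  have : (k : F) ^ 2 = 1 := by
    rw [pow_two]
    nth_rewrite 2 [h]
    simp
  apply Units.ext
  exact sq_eq_one_iff'.mp this

theorem tS_ne_one {k : Fˣ} (hk : k ≠ 1) : (tS k : S2) ≠ 1 := by
  intro h
  exact hk (tS_eq_one_iff.mp h)

theorem odd_orderOf_tS (k : Fˣ) : Odd (orderOf (tS k : S2)) := by
  have h := orderOf_dvd_natCard (⟨tS k, tS_mem_Dsub k⟩ : (Dsub : Subgroup S2))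
  rw [Subgroup.orderOf_mk, card_Dsub] at h
  exact Odd.of_dvd_nat odd_card_sub_one h

theorem isTor_Dsub (h4 : 4 ≤ Fintype.card F) : IsTor (Dsub : Subgroup S2) := by
  obtain ⟨a, ha, hasq⟩ := exists_ne_zero_sq_ne_one' h4
  have hk : Units.mk0 a ha ≠ 1 := by
    intro h
    apply hasq
    have := congrArg Units.val h
    rw [Units.val_mk0, Units.val_one] at this
    rw [this, one_pow]
  rw [← centralizer_tS hk]
  exact isTor_centralizer _ (tS_ne_one hk) (odd_orderOf_tS _)

omit [CharP F 2] [Fintype F] in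
theorem wS_conj_tS (k : Fˣ) : wS * tS k * wS⁻¹ = (tS k⁻¹ : S2) := by
  apply ext' <;> simp [mul_apply', inv_apply_00, inv_apply_01, inv_apply_10, inv_apply_11]

omit [CharP F 2] in
theorem wS_mul_tS_mem_normalizer (l : Fˣ) :
    (wS * tS l : S2) ∈ Subgroup.normalizer ((Dsub : Subgroup S2) : Set S2) := by
  apply Subgroup.mem_normalizer_fintype
  rintro g ⟨k', rfl⟩
  show wS * tS l * tS k' * (wS * tS l)⁻¹ ∈ (Dsub : Subgroup S2)
  have e : wS * tS l * tS k' * (wS * tS l)⁻¹ =
      wS * (tS l * tS k' * (tS l)⁻¹) * (wS : S2)⁻¹ := by group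
  rw [e, tS_inv, ← tS_mul, ← tS_mul, wS_conj_tS]
  exact tS_mem_Dsub _

/-- the solubilizer of a non-identity diagonal element -/
theorem rel_tS_iff (h4 : 4 ≤ Fintype.card F) {k : Fˣ} (hk : k ≠ 1) (y : S2) :
    Rel (tS k) y ↔ (y 1 0 = 0 ∨ y 0 1 = 0 ∨ (y 0 0 = 0 ∧ y 1 1 = 0)) := by
  have hkk := tS_val_ne_inv hk
  constructor
  · rintro (⟨g, hxg, hyg⟩ | ⟨T, hT, hxT, hyT⟩)
    · rw [mem_cj_Bsub_iff] at hxg
      simp only [tS_10, tS_01, tS_11, tS_00, mul_zero, sub_zero, zero_add] at hxg
      rcases mul_eq_zero.mp hxg with h | h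
      · rcases mul_eq_zero.mp h with h | h
        · right; left
          exact (mem_cj_Bsub_of_00 g y h).mp hyg
        · left
          exact (mem_cj_Bsub_of_10 g y h).mp hyg
      · exact absurd (sub_eq_zero.mp h).symm hkk
    · have hTe := hT.eq_of_mem_normalizer (tS_ne_one hk) (odd_orderOf_tS k) hxT
      rw [centralizer_tS hk] at hTe
      rw [hTe] at hyT
      obtain ⟨k', hk'⟩ := (Subgroup.mem_normalizer_iff.mp hyT _).mp (tS_mem_Dsub k)
      have hk'e : y * tS k = tS k' * y := by
        have : tS k' = y * tS k * y⁻¹ := hk'.symm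
        rw [this]; group
      have h00 := congrArg (fun m : S2 => m 0 0) hk'e
      have h01 := congrArg (fun m : S2 => m 0 1) hk'e
      have h11 := congrArg (fun m : S2 => m 1 1) hk'e
      simp [mul_apply'] at h00 h01 h11
      have hkk' : (k : F)⁻¹ - (k : F) ≠ 0 := by
        intro h
        apply hkk
        rw [Units.val_inv_eq_inv_val]
        exact (sub_eq_zero.mp h).symm
      by_cases hy00 : y 0 0 = 0
      · right; right
        refine ⟨hy00, ?_⟩
        have hd := det_eq y
        rw [hy00, zero_mul, zero_sub] at hd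
        have hy01 : y 0 1 ≠ 0 := by
          intro h
          rw [h, zero_mul, neg_zero] at hd
          exact zero_ne_one hd
        have e1 : (k' : F) = (k : F)⁻¹ := by
          have : y 0 1 * ((k : F)⁻¹ - (k' : F)) = 0 := by linear_combination h01
          rcases mul_eq_zero.mp this with h | h
          · exact absurd h hy01
          · exact (sub_eq_zero.mp h).symm
        rw [e1, inv_inv] at h11
        have : y 1 1 * ((k : F)⁻¹ - (k : F)) = 0 := by linear_combination h11
        rcases mul_eq_zero.mp this with h | h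
        · exact h
        · exact absurd h hkk'
      · right; left
        have e1 : (k' : F) = (k : F) := by
          have : y 0 0 * ((k : F) - (k' : F)) = 0 := by linear_combination h00
          rcases mul_eq_zero.mp this with h | h
          · exact absurd h hy00
          · exact (sub_eq_zero.mp h).symm
        rw [e1] at h01
        have : y 0 1 * ((k : F)⁻¹ - (k : F)) = 0 := by linear_combination h01
        rcases mul_eq_zero.mp this with h | h
        · exact h
        · exact absurd h hkk'
  · rintro (h | h | ⟨h0, h1⟩)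
    · left
      refine ⟨1, ?_, ?_⟩
      · rw [cj_one]; exact Dsub_le_Bsub (tS_mem_Dsub k)
      · rw [cj_one]; exact h
    · left
      refine ⟨wS, ?_, ?_⟩
      · rw [mem_cj_Bsub_of_00 _ _ wS_00]; simp
      · rw [mem_cj_Bsub_of_00 _ _ wS_00]; exact h
    · right
      obtain ⟨l, rfl⟩ := eq_wS_mul_tS y h0 h1
      exact ⟨Dsub, isTor_Dsub h4, Subgroup.le_normalizer (tS_mem_Dsub k),
        wS_mul_tS_mem_normalizer l⟩

omit [CharP F 2] [Fintype F] in
theorem mem_Dsub_iff {g : S2} : g ∈ (Dsub : Subgroup S2) ↔ g 0 1 = 0 ∧ g 1 0 = 0 := by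
  constructor
  · rintro ⟨a, rfl⟩
    simp
  · rintro ⟨e01, e10⟩
    have hd := det_eq g
    rw [e01, zero_mul, sub_zero] at hd
    refine ⟨Units.mkOfMulEqOne _ _ hd, ?_⟩
    apply ext' <;> simp [e01, e10]
    exact eq_inv_of_mul_eq_one_right hd

omit [CharP F 2] in
theorem ncard_Bsub : ((Bsub : Subgroup S2) : Set S2).ncard =
    Fintype.card F * (Fintype.card F - 1) := by
  rw [← card_Bsub, ← Nat.card_coe_set_eq]
  rfl

omit [CharP F 2] in
theorem ncard_Dsub : ((Dsub : Subgroup S2) : Set S2).ncard = Fintype.card F - 1 := by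
  rw [← card_Dsub, ← Nat.card_coe_set_eq]
  rfl

omit [CharP F 2] in
theorem ncard_lower : {y : S2 | y 0 1 = 0}.ncard = Fintype.card F * (Fintype.card F - 1) := by
  have : {y : S2 | y 0 1 = 0} = ((cj wS (Bsub : Subgroup S2) : Subgroup S2) : Set S2) := by
    ext y
    exact (mem_cj_Bsub_of_00 wS y wS_00).symm
  rw [this, ← card_Bsub, ← card_cj wS (Bsub : Subgroup S2), ← Nat.card_coe_set_eq]
  rfl

omit [CharP F 2] in
theorem ncard_antidiag : {y : S2 | y 0 0 = 0 ∧ y 1 1 = 0}.ncard = Fintype.card F - 1 := by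
  have : {y : S2 | y 0 0 = 0 ∧ y 1 1 = 0} =
      (fun y => wS * y) '' ((Dsub : Subgroup S2) : Set S2) := by
    ext y
    constructor
    · rintro ⟨h0, h1⟩
      obtain ⟨l, rfl⟩ := eq_wS_mul_tS y h0 h1
      exact ⟨tS l, tS_mem_Dsub l, rfl⟩
    · rintro ⟨z, ⟨l, rfl⟩, rfl⟩
      exact ⟨wS_mul_tS_00 l, wS_mul_tS_11 l⟩
  rw [this, Set.ncard_image_of_injective _ (mul_right_injective (wS : S2)), ncard_Dsub]

/-- the second case, for a diagonal element -/
theorem card_rel_tS (h4 : 4 ≤ Fintype.card F) {k : Fˣ} (hk : k ≠ 1) :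
    Nat.card {y : S2 // Rel (tS k) y} = 2 * Fintype.card F * (Fintype.card F - 1) := by
  set A : Set S2 := ((Bsub : Subgroup S2) : Set S2) with hA
  set B : Set S2 := {y : S2 | y 0 1 = 0} with hB
  set C : Set S2 := {y : S2 | y 0 0 = 0 ∧ y 1 1 = 0} with hC
  have e1 : Nat.card {y : S2 // Rel (tS k) y} = ((A ∪ B) ∪ C).ncard := by
    rw [← Nat.card_coe_set_eq]
    apply Nat.card_congr
    apply Equiv.subtypeEquivRight
    intro y
    rw [rel_tS_iff h4 hk]
    simp only [Set.mem_union, hA, hB, hC, Set.mem_ofPred_eq, or_assoc, SetLike.mem_coe, mem_Bsub]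
  have hdisj : Disjoint (A ∪ B) C := by
    rw [Set.disjoint_left]
    rintro y (h | h) ⟨h1, h2⟩
    · have h' : y 1 0 = 0 := h
      have hd := det_eq y
      rw [h1, h', zero_mul, mul_zero, sub_zero] at hd
      exact zero_ne_one hd
    · have h' : y 0 1 = 0 := h
      have hd := det_eq y
      rw [h1, h', zero_mul, zero_mul, sub_zero] at hd
      exact zero_ne_one hd
  have hAB : A ∩ B = ((Dsub : Subgroup S2) : Set S2) := by
    ext y
    simp only [Set.mem_inter_iff, hA, hB, Set.mem_ofPred_eq, SetLike.mem_coe, mem_Bsub,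
      mem_Dsub_iff]
    tauto
  have hfin : ∀ s : Set S2, s.Finite := fun s => Set.toFinite s
  rw [e1, Set.ncard_union_eq hdisj (hfin _) (hfin _)]
  have h2 := Set.ncard_union_add_ncard_inter A B (hfin _) (hfin _)
  rw [hAB, ncard_Dsub, hA, ncard_Bsub, hB, ncard_lower] at h2
  rw [hC, ncard_antidiag]
  have : 2 * Fintype.card F * (Fintype.card F - 1) =
      Fintype.card F * (Fintype.card F - 1) + Fintype.card F * (Fintype.card F - 1) := by ring
  rw [this]
  exact h2

/-- the second case: elements of order dividing `q - 1` -/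
theorem card_rel_of_dvd_sub_one (h4 : 4 ≤ Fintype.card F) (x : S2) (hx1 : x ≠ 1)
    (hx : orderOf x ∣ Fintype.card F - 1) :
    Nat.card {y : S2 // Rel x y} = 2 * Fintype.card F * (Fintype.card F - 1) := by
  obtain ⟨g, k, hk, e⟩ := exists_conj_tS_of_dvd x hx1 hx
  rw [← card_rel_conj g x, e]
  exact card_rel_tS h4 hk

/-! ### involutions -/

omit [Fintype F] in
theorem ne_one_of_trace (g : S2) (ht : g 0 0 + g 1 1 ≠ 0) : g ≠ 1 := by
  rintro rfl
  apply ht
  simp only [one_00, one_11]
  have := two_eq_zero' (F := F)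
  linear_combination this

/-- an element of non-zero trace inverted by `x` shares a torus normaliser with it -/
theorem rel_of_inverts (x z : S2) (hz : z 0 0 + z 1 1 ≠ 0) (hxz : x * z * x⁻¹ = z⁻¹) :
    ∃ T : Subgroup S2, IsTor T ∧ x ∈ Subgroup.normalizer (T : Set S2) ∧ z ∈ T := by
  have hz1 := ne_one_of_trace z hz
  have hodd := odd_orderOf_of_trace z hz
  have hT := isTor_centralizer z hz1 hodd
  have hzT := mem_centralizer_self z
  refine ⟨_, hT, ?_, hzT⟩
  apply hT.1.mem_normalizer hzT hz1
  rw [hxz]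
  exact Subgroup.inv_mem _ hzT

/-- the solubilizer of the involution `u(1)` -/
theorem rel_uS_one_iff (y : S2) :
    Rel (uS 1) y ↔ (y 1 0 = 0 ∨ y 1 1 = y 0 0 ∨ y 1 1 = y 0 0 + y 1 0) := by
  have h2 := two_eq_zero' (F := F)
  have hxx : (uS 1 : S2) * uS 1 = 1 := uS_mul_self 1
  have hxi : (uS 1 : S2)⁻¹ = uS 1 := inv_eq_of_mul_eq_one_left hxx
  have hx1 : (uS 1 : S2) ≠ 1 := by
    intro h
    exact one_ne_zero (uS_eq_one_iff.mp h)
  constructor
  · rintro (⟨g, hxg, hyg⟩ | ⟨T, hT, hxT, hyT⟩)
    · left
      rw [mem_cj_Bsub_iff] at hxg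
      simp only [uS_10, uS_01, uS_11, uS_00, mul_zero, sub_self, mul_one, zero_sub, add_zero,
        neg_eq_zero] at hxg
      have hg := pow_eq_zero_iff (two_ne_zero) |>.mp hxg
      exact (mem_cj_Bsub_of_10 g y hg).mp hyg
    · right
      rcases hT.normalizer_cases _ hxT with h | ⟨-, hinv⟩
      · exact absurd (eq_one_of_odd_of_mul_self' _ (hT.odd_orderOf h) hxx) hx1
      rcases hT.normalizer_cases y hyT with h | ⟨h, -⟩
      · right
        have e := hinv y h
        have e' : uS 1 * y = y⁻¹ * uS 1 := by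
          rw [← e]; group
        have h00 := congrArg (fun m : S2 => m 0 0) e'
        simp only [mul_apply', inv_apply_00, inv_apply_01, uS_00, uS_01, uS_10, one_mul,
          mul_one, mul_zero, add_zero] at h00
        exact h00.symm
      · left
        have := trace_eq_zero_of_mul_self y h
        linear_combination this - y 0 0 * h2
  · intro h
    by_cases h10 : y 1 0 = 0
    · left
      refine ⟨1, ?_, ?_⟩
      · rw [cj_one]; exact Usub_le_Bsub (uS_mem_Usub 1)
      · rw [cj_one]; exact h10
    right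
    rcases h with h | h | h
    · exact absurd h h10
    · -- `y` is an involution
      have hyy : y * y = 1 := mul_self_eq_one_of_trace y (by rw [h]; linear_combination y 0 0 * h2)
      have hyi : y⁻¹ = y := inv_eq_of_mul_eq_one_left hyy
      have htr : (uS 1 * y : S2) 0 0 + (uS 1 * y : S2) 1 1 ≠ 0 := by
        simp only [mul_apply', uS_00, uS_01, uS_10, uS_11, one_mul, zero_mul, zero_add, h]
        intro h'
        apply h10
        linear_combination h' - y 0 0 * h2
      have hxz : (uS 1 : S2) * (uS 1 * y) * (uS 1)⁻¹ = (uS 1 * y)⁻¹ := by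
        rw [mul_inv_rev, hyi, hxi, ← mul_assoc, hxx, one_mul]
      obtain ⟨T, hT, hxT, hzT⟩ := rel_of_inverts (uS 1) (uS 1 * y) htr hxz
      refine ⟨T, hT, hxT, ?_⟩
      have : y = (uS 1)⁻¹ * (uS 1 * y) := by group
      rw [this]
      exact Subgroup.mul_mem _ (Subgroup.inv_mem _ hxT) (hT.le_normalizer hzT)
    · have htr : y 0 0 + y 1 1 ≠ 0 := by
        rw [h]
        intro h'
        apply h10
        linear_combination h' - y 0 0 * h2
      have hxz : (uS 1 : S2) * y * (uS 1)⁻¹ = y⁻¹ := by
        rw [hxi]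
        have : (uS 1 : S2) * y = y⁻¹ * uS 1 := by
          apply ext'
          · simp only [mul_apply', inv_apply_00, inv_apply_01, uS_00, uS_01, uS_10, uS_11, one_mul,
              mul_one, mul_zero, add_zero]
            rw [h]
          · simp only [mul_apply', inv_apply_00, inv_apply_01, uS_00, uS_01, uS_10, uS_11, one_mul,
              mul_one]
            linear_combination y 0 1 * h2
          · simp only [mul_apply', inv_apply_10, inv_apply_11, uS_00, uS_01, uS_10, uS_11, one_mul,
              mul_one, mul_zero, add_zero, zero_mul, zero_add]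
            linear_combination y 1 0 * h2
          · simp only [mul_apply', inv_apply_10, inv_apply_11, uS_00, uS_01, uS_10, uS_11, one_mul,
              mul_one, zero_mul, zero_add]
            rw [h]
            linear_combination y 1 0 * h2
        rw [this, mul_assoc, hxx, mul_one]
      obtain ⟨T, hT, hxT, hzT⟩ := rel_of_inverts (uS 1) y htr hxz
      exact ⟨T, hT, hxT, hT.le_normalizer hzT⟩

omit [CharP F 2] in
theorem card_ne_zero' : Nat.card {c : F // c ≠ 0} = Fintype.card F - 1 := by
  rw [← Nat.card_congr (unitsEquivNeZero (G₀ := F))]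
  rw [Nat.card_units, Nat.card_eq_fintype_card]

omit [CharP F 2] in
/-- elements outside the Borel subgroup with prescribed lower right entry -/
theorem ncard_graph (δ : F → F → F) :
    {y : S2 | y 1 0 ≠ 0 ∧ y 1 1 = δ (y 0 0) (y 1 0)}.ncard =
      Fintype.card F * (Fintype.card F - 1) := by
  rw [← Nat.card_coe_set_eq, ← card_ne_zero', ← Nat.card_eq_fintype_card (α := F), ← Nat.card_prod]
  refine Nat.card_congr
    { toFun := fun y => (y.1 0 0, ⟨y.1 1 0, y.2.1⟩)
      invFun := fun ac => ⟨⟨!![ac.1, (ac.1 * δ ac.1 ac.2.1 - 1) / ac.2.1; ac.2.1, δ ac.1 ac.2.1], by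
        rw [Matrix.det_fin_two_of]
        have := ac.2.2
        field_simp
        ring⟩, ac.2.2, rfl⟩
      left_inv := ?_
      right_inv := ?_ }
  · rintro ⟨y, hy10, hy11⟩
    apply Subtype.ext
    apply ext'
    · rfl
    · show (y 0 0 * δ (y 0 0) (y 1 0) - 1) / y 1 0 = y 0 1
      have hd := det_eq y
      rw [← hy11]
      field_simp
      linear_combination hd
    · rfl
    · exact hy11.symm
  · rintro ⟨a, c, hc⟩
    rfl

/-- the first case, for `u(1)` -/
theorem card_rel_uS_one :
    Nat.card {y : S2 // Rel (uS 1) y} = 3 * Fintype.card F * (Fintype.card F - 1) := by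
  set A : Set S2 := ((Bsub : Subgroup S2) : Set S2) with hA
  set B : Set S2 := {y : S2 | y 1 0 ≠ 0 ∧ y 1 1 = (fun a _ => a) (y 0 0) (y 1 0)} with hB
  set C : Set S2 := {y : S2 | y 1 0 ≠ 0 ∧ y 1 1 = (fun a c => a + c) (y 0 0) (y 1 0)} with hC
  have e1 : Nat.card {y : S2 // Rel (uS 1) y} = ((A ∪ B) ∪ C).ncard := by
    rw [← Nat.card_coe_set_eq]
    apply Nat.card_congr
    apply Equiv.subtypeEquivRight
    intro y
    rw [rel_uS_one_iff]
    simp only [Set.mem_union, hA, hB, hC, Set.mem_ofPred_eq, SetLike.mem_coe, mem_Bsub]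
    by_cases h : y 1 0 = 0
    · simp [h]
    · simp [h]
  have hdisj : Disjoint (A ∪ B) C := by
    rw [Set.disjoint_left]
    rintro y (h | ⟨-, h⟩) ⟨h1, h2⟩
    · exact h1 h
    · apply h1
      simp only at h h2
      rw [h] at h2
      linear_combination -h2
  have hdisj' : Disjoint A B := by
    rw [Set.disjoint_left]
    rintro y h ⟨h1, -⟩
    exact h1 h
  have hfin : ∀ s : Set S2, s.Finite := fun s => Set.toFinite s
  have hBn : B.ncard = Fintype.card F * (Fintype.card F - 1) := ncard_graph (fun a _ => a)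
  have hCn : C.ncard = Fintype.card F * (Fintype.card F - 1) := ncard_graph (fun a c => a + c)
  rw [e1, Set.ncard_union_eq hdisj (hfin _) (hfin _), Set.ncard_union_eq hdisj' (hfin _) (hfin _),
    hBn, hCn, hA, ncard_Bsub]
  ring

/-- the first case: involutions -/
theorem card_rel_of_orderOf_two (x : S2) (hx : orderOf x = 2) :
    Nat.card {y : S2 // Rel x y} = 3 * Fintype.card F * (Fintype.card F - 1) := by
  have hx1 : x ≠ 1 := by
    rintro rfl
    rw [orderOf_one] at hx
    omega
  have hxx : x * x = 1 := by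
    have := pow_orderOf_eq_one x
    rwa [hx, pow_two] at this
  obtain ⟨g, e⟩ := exists_conj_uS_one x hx1 hxx
  rw [← card_rel_conj g x, e]
  exact card_rel_uS_one

/-! ### transfer to `PSL₂` -/

omit [CharP F 2] [Fintype F] in
theorem isSolvable_closure_pair_iff' {G H : Type*} [Group G] [Group H] (e : G ≃* H) (x y : G) :
    Group.IsSolvable ↥(Subgroup.closure ({x, y} : Set G)) ↔
      Group.IsSolvable ↥(Subgroup.closure ({e x, e y} : Set H)) := by
  have hmap : Subgroup.closure ({e x, e y} : Set H) =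
      (Subgroup.closure ({x, y} : Set G)).map e.toMonoidHom := by
    rw [MonoidHom.map_closure, Set.image_pair]
    rfl
  rw [hmap]
  have f : ↥(Subgroup.closure ({x, y} : Set G)) ≃*
      ↥((Subgroup.closure ({x, y} : Set G)).map e.toMonoidHom) :=
    Subgroup.equivMapOfInjective _ e.toMonoidHom e.injective
  constructor
  · intro h
    have := h
    exact Group.isSolvable_of_isSolvable_injective (f := f.symm.toMonoidHom) f.symm.injective
  · intro h
    have := h
    exact Group.isSolvable_of_isSolvable_injective (f := f.toMonoidHom) f.injective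

omit [CharP F 2] [Fintype F] in
theorem card_sol_congr' {G H : Type*} [Group G] [Group H] (e : G ≃* H) (x : G) :
    Nat.card {y : G // Group.IsSolvable ↥(Subgroup.closure ({x, y} : Set G))} =
      Nat.card {y : H // Group.IsSolvable ↥(Subgroup.closure ({e x, y} : Set H))} :=
  Nat.card_congr (e.toEquiv.subtypeEquiv (fun y => isSolvable_closure_pair_iff' e x y))

/-- the solubilizer of `x` in `PSL₂(F)`, counted in `SL₂(F)` -/
theorem card_sol_psl {p : ℕ} (hp : p.Prime) (hF : Fintype.card F = 2 ^ p)
    (x : Matrix.ProjectiveSpecialLinearGroup (Fin 2) F) :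
    Nat.card {y : Matrix.ProjectiveSpecialLinearGroup (Fin 2) F //
        Group.IsSolvable ↥(Subgroup.closure
          ({x, y} : Set (Matrix.ProjectiveSpecialLinearGroup (Fin 2) F)))} =
      Nat.card {y : S2 // Rel ((slEquivPSL F).symm x) y} := by
  rw [card_sol_congr' (slEquivPSL F).symm x]
  exact card_sol hp hF _

end Cfsg.Agent.Helper11.L2E
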