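import Mathlib
import Cfsg.Agent.Helper22.McLK

/-! Two elements `a` (order 7) and `b` (an involution) of the stabiliser of the point `0` in
helper22's permutation model `K` of the McLaughlin group on 275 points, as packed tables, with the
straight line program showing that they lie in `K`: `a = u`, `b = g z g⁻¹` with `g = z u u z U U U z U U` (`U = u⁻¹`). They satisfy the seven relators of helper11's presentation of `PSU₄(3)`. (generated) -/

set_option autoImplicit false
set_option linter.all false
set_option maxRecDepth 100000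
set_option maxHeartbeats 0

namespace Cfsg.Agent.Helper11.McLStab

open Cfsg.Agent.Helper22.PermPack Cfsg.Agent.Helper22.McLKData Cfsg.Agent.Helper22.McLK

/-- the table of `a` -/
def mclA : ℕ := 0x2dd269278bf90c1044a204e642a4300e6355ab0f80479814b8175022dbed84227962617133da2f91426486a122aa936af0a2b93a6043b807c6780be8e21136b35850e4a809965b19b2214c4099ec16205a8f1acd05f9fcbcda7b2ec32ee3c16868ea5c1e8d6c983b941cc648209d62a602d89d086b8189e804b05a04726612a1abd3ac259c7e192f8108147060aea4878293ea529aa1a66a14bed7311738497868373f47e8c54ac0c4ed7329c1aad15960aa741e888fa97280903e762c9c2204870bd1a8b30491dc83b0e354df040e8b834361ac0cbac1763a216911c8b046987b925c65f2309462fc780b4cc73203fc98f8208bc60db6f400ac794d10874b47aa35de2642bc89ae982b1dba691b8841e6522449464b831443cdc1c06d8aa24e23d74010605514946920d6452619dd9403363654c00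
/-- the table of `a⁻¹` -/
def mclAi : ℕ := 0x79106949b61430628b453cac5b86c4e5c2b295be361f439044445379e03c25b0c5e667f8aa1e4316b00f85358af05052439ed6c6124bcccee27c8dc4a181c31004f855b24bc654682de2c879275b4a36a81570d2132d02ad003b64a8af63a6940856104512bb892b9963032025ea7e74398f10281ba8fe8e3d00520940e851d8fb48bd9ca13748cddc4c3829dae0c88c40a0b30925c5c807d036170a71c3456f7052c930a863270e301672e868bf031b13e7420291ba6a2ea0db6035ca304884701044108821f5e8e424314aafd6a2f8d6764a8d4eb0747820346f54ab4523d0e28894683111dd61f768c8763f40b84e6ca300c49e1711960aebd69a6c8a391d168844e3bac116ef848b08c6e269c844cc36864b65f0b16582967e2981ce767a19b90c10ad4f20f66a48c69982aa9fd00023582000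
/-- the table of the involution `b` -/
def mclB : ℕ := 0x4495e08562c022ae39a8196fd2ab550af2233e602f007a92101c7721204217ba1930f403410490012bed50ec4f9c082490a1a894dd71a311c0e4ba45c8dc2034594d84da4e0c1766349b4160281d3cd384b65922711a2cee580aaeca2a154af97a966123d125c27808dcb44e805630e88c30510f0f8417eed3e1494afe16831810a75b3566946b8e086f56faf0529c6b19dbc3e5d3846ee263229725304bda0afa419ed02123118ce2a7411e8f261628d07a13858a8faea1dad4a06c19b986c3f491985c2b3f1fcf032178f09ab82c968b6c42b87a0e5444299826d5b864ba4c23b95d04825c0c40444c875d2db34240ea5e37868729a469a46076359804c352f995462c321c92aad640c5def163889f0455595884fc0d8e89c0b6a34186e73a2021aaa7fb8008a20c0290f10673cd9e0d01ad96400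

/-- `a`, `a⁻¹`, `b` from `z`, `u` -/
def slp1 : List (ℕ × List ℕ) := [(mclAi, [1, 1, 1, 1, 1, 1]), (mclA, [1]), (mclB, [0, 1, 1, 0, 2, 2, 2, 0, 2, 2, 0, 1, 1, 0, 1, 1, 1, 0, 2, 2, 0])]

/-- the new elements -/
def gens3 : List ℕ := [mclA, mclAi, mclB]

theorem slp1_okK : slpOK 275 9 zu slp1 = true := by decide +kernel
theorem gens3_goodK : gens3.all (goodB 275 9) = true := by decide +kernel
/-- `a a⁻¹ = 1` and `b b = 1` on the tables -/
theorem inv_okK : (allN 275 fun i => Nat.beq (slot 9 mclA (slot 9 mclAi i)) i && Nat.beq (slot 9 mclB (slot 9 mclB i)) i) = true := by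
  decide +kernel
/-- `a`, `a⁻¹` and `b` fix the point 0; `a` moves the point 1 -/
theorem fix_okK : (Nat.beq (slot 9 mclA 0) 0 && Nat.beq (slot 9 mclAi 0) 0 && Nat.beq (slot 9 mclB 0) 0 &&
    !(Nat.beq (slot 9 mclA 1) 1)) = true := by
  decide +kernel

end Cfsg.Agent.Helper11.McLStab
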