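import Mathlib
import Cfsg.Agent.Helper11.SL2MultB

/-! The Schur multiplier of `SL₂(9)`: the upper bound.  The kernel of a finite stem extension of
`SL₂(9)` is generated by an element `z` with `z ^ 3 = 1`. -/

set_option autoImplicit false
set_option linter.unusedSectionVars false
set_option linter.unusedVariables false

namespace Cfsg.Agent.Helper11.SzMult

open scoped commutatorElement
open Matrix Cfsg.Agent.Helper2.SL2 Cfsg.Agent.Helper2.SL2C

variable {F : Type*} [Field F] [Fintype F] {Γ : Type*} [Group Γ] [Finite Γ]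
  (σ : Γ →* SpecialLinearGroup (Fin 2) F)

/-- the kernel of a stem extension of `SL₂(q)` has no element of prime order `r` different from
the characteristic -/
theorem sl2_ker_prime_part (p : ℕ) [hp : Fact p.Prime] [CharP F p]
    (hσ : Function.Surjective σ) (hK : σ.ker ≤ Subgroup.center Γ)
    (hC : σ.ker ≤ commutator Γ) (r : ℕ) [hrp : Fact r.Prime] (hrp' : r ≠ p)
    (x : Γ) (hxK : x ∈ σ.ker) (hxr : x ^ r = 1) : x = 1 := by
  classical
  by_cases h2 : r = 2
  · -- quaternion Sylow 2-subgroups
    have hp2 : p ≠ 2 := fun h => hrp' (h2.trans h.symm)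
    have hodd : Odd (Fintype.card F) := by
      obtain ⟨n, -, hn⟩ := FiniteField.card F p
      rw [hn]
      exact (hp.out.odd_of_ne_two hp2).pow
    have : Fact (Nat.Prime 2) := ⟨Nat.prime_two⟩
    let P : Sylow 2 (SpecialLinearGroup (Fin 2) F) := Classical.arbitrary _
    obtain ⟨k, hk, ⟨e⟩⟩ := Cfsg.Agent.Helper2.SL2Q.sylow_quaternion hodd P
    have : NeZero (2 ^ k) := ⟨by positivity⟩
    set H : Subgroup Γ := (P : Subgroup (SpecialLinearGroup (Fin 2) F)).comap σ with hH
    have haH : x ∈ H := by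
      rw [hH, Subgroup.mem_comap, MonoidHom.mem_ker.mp hxK]
      exact Subgroup.one_mem _
    have htr := pow_index_mem_commutator H x (hK hxK) (hC hxK) haH
    have hidx : Odd H.index := by
      rw [hH, Subgroup.index_comap_of_surjective _ hσ]
      have := Sylow.not_dvd_index P
      exact Nat.odd_iff.mpr (Nat.two_dvd_ne_zero.mp this)
    rw [h2] at hxr
    have hpow : (⟨x, haH⟩ : ↥H) ^ H.index = ⟨x, haH⟩ := by
      obtain ⟨j, hj⟩ := hidx
      apply Subtype.ext
      rw [Subgroup.coe_pow, hj, pow_succ, pow_mul, hxr, one_pow, one_mul]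
    rw [hpow] at htr
    let f : ↥H →* ↥(P : Subgroup (SpecialLinearGroup (Fin 2) F)) :=
      (σ.comp H.subtype).codRestrict (P : Subgroup (SpecialLinearGroup (Fin 2) F)) (fun x => x.2)
    let φ : ↥H →* QuaternionGroup (2 ^ k) := e.toMonoidHom.comp f
    have hφs : Function.Surjective φ := by
      apply e.surjective.comp
      rintro ⟨y, hy⟩
      obtain ⟨z, rfl⟩ := hσ y
      exact ⟨⟨z, hy⟩, rfl⟩
    have hφk : φ.ker ≤ Subgroup.center ↥H := by
      intro z hz
      rw [MonoidHom.mem_ker] at hz
      have hz1 : f z = 1 := e.map_eq_one_iff.mp hz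
      have hz' : σ (z : Γ) = 1 := congrArg Subtype.val hz1
      have hc := hK (MonoidHom.mem_ker.mpr hz')
      rw [Subgroup.mem_center_iff] at hc ⊢
      intro g
      exact Subtype.ext (hc g)
    have hφx : φ ⟨x, haH⟩ = 1 := by
      have : f ⟨x, haH⟩ = 1 := by
        apply Subtype.ext
        exact MonoidHom.mem_ker.mp hxK
      change e (f ⟨x, haH⟩) = 1
      rw [this, map_one]
    have := quat_comm_inf_ker φ hφs hφk _ htr hφx
    exact congrArg Subtype.val this
  · -- cyclic Sylow subgroups
    let R : Sylow r (SpecialLinearGroup (Fin 2) F) := Classical.arbitrary _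
    have hcyc := Cfsg.Agent.Helper2.SL2C.isCyclic_sylow (F := F) p r h2 hrp' R
    exact cyclic_sylow_part σ hσ hK r R hcyc x hxK (hC hxK) hxr

theorem charP_three_of_card (hF : Fintype.card F = 9) : CharP F 3 := by
  obtain ⟨p, hc, n, hp, hn⟩ := FiniteField.card' F
  rw [hF] at hn
  have h2 : p ∣ 9 := by rw [hn]; exact dvd_pow_self p n.ne_zero
  have h3 : p = 3 := by
    have : p ∣ 3 ^ 2 := by norm_num; exact h2
    exact (Nat.prime_dvd_prime_iff_eq hp Nat.prime_three).1 (hp.dvd_of_dvd_pow this)
  subst h3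
  exact hc

/-- a basis `1, i` of the field with nine elements over its prime field -/
theorem exists_pair_span (hF : Fintype.card F = 9) :
    ∃ i : F, ∀ b : F, ∃ m n : ℤ, m • (1 : F) + n • i = b := by
  classical
  have h3 := charP_three_of_card hF
  have hZ : Nat.card (AddSubgroup.zmultiples (1 : F)) = 3 := by
    rw [Nat.card_zmultiples]
    exact CharP.eq F (CharP.addOrderOf_one F) h3
  have hne : ∃ i : F, i ∉ AddSubgroup.zmultiples (1 : F) := by
    by_contra hcon
    push Not at hcon
    have htop : AddSubgroup.zmultiples (1 : F) = ⊤ := by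
      rw [eq_top_iff]; intro x _; exact hcon x
    rw [htop, AddSubgroup.card_top, Nat.card_eq_fintype_card, hF] at hZ
    norm_num at hZ
  obtain ⟨i, hi⟩ := hne
  refine ⟨i, ?_⟩
  set C : AddSubgroup F := AddSubgroup.closure {1, i} with hC
  have hle : AddSubgroup.zmultiples (1 : F) ≤ C := by
    rw [AddSubgroup.zmultiples_eq_closure]
    exact AddSubgroup.closure_mono (by simp)
  have hiC : i ∈ C := AddSubgroup.subset_closure (by simp)
  have hlt : AddSubgroup.zmultiples (1 : F) < C := lt_of_le_of_ne hle (fun h => hi (h ▸ hiC))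
  have hd : Nat.card C ∣ 9 := by
    have := AddSubgroup.card_addSubgroup_dvd_card C
    rwa [Nat.card_eq_fintype_card (α := F), hF] at this
  have hd3 : 3 ∣ Nat.card C := by
    rw [← hZ]
    exact AddSubgroup.card_dvd_of_le hle
  have hcard : Nat.card C = 9 := by
    have hne3 : Nat.card C ≠ 3 := by
      intro h3'
      have := AddSubgroup.eq_of_le_of_card_ge hle (by rw [hZ, h3'])
      exact hlt.ne this
    have hle9 : Nat.card C ≤ 9 := Nat.le_of_dvd (by norm_num) hd
    obtain ⟨k, hk⟩ := hd3
    obtain ⟨l, hl⟩ := hd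
    have hk3 : k ∣ 3 := by
      rw [hk] at hl
      exact ⟨l, by nlinarith⟩
    rcases (Nat.dvd_prime Nat.prime_three).mp hk3 with h1 | h1
    · rw [h1] at hk; omega
    · rw [h1] at hk; omega
  have htop : C = ⊤ := by
    apply AddSubgroup.eq_top_of_card_eq
    rw [hcard, Nat.card_eq_fintype_card, hF]
  intro b
  have hb : b ∈ C := by rw [htop]; trivial
  rw [hC, AddSubgroup.mem_closure_pair] at hb
  exact hb

/-- the kernel of a finite stem extension of `SL₂(9)` is generated by an element of order
dividing 3 -/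
theorem sl2_nine_ker (hF : Fintype.card F = 9)
    (hσ : Function.Surjective σ) (hK : σ.ker ≤ Subgroup.center Γ)
    (hC : σ.ker ≤ commutator Γ) :
    ∃ z : Γ, z ∈ σ.ker ∧ z ^ 3 = 1 ∧ ∀ a ∈ σ.ker, a ∈ Subgroup.zpowers z := by
  classical
  have h3 := charP_three_of_card hF
  have hp3 : Fact (Nat.Prime 3) := ⟨Nat.prime_three⟩
  obtain ⟨i, hi⟩ := exists_pair_span hF
  set s : SpecialLinearGroup (Fin 2) F → Γ := Function.surjInv hσ with hs'
  have hs : ∀ g, σ (s g) = g := Function.surjInv_eq hσ
  set c : F → F → Γ := fun b b' => ⁅s (u b), s (u b')⁆ with hc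
  have hcen : ∀ b b', c b b' ∈ Subgroup.center Γ := by
    intro b b'
    apply commute_of_map_commute σ hK
    rw [hs, hs, ← u_add, ← u_add, add_comm]
  have hcomm : ∀ b b' (g : Γ), Commute g (c b b') := fun b b' g =>
    (Subgroup.mem_center_iff.mp (hcen b b') g)
  have hl : ∀ x x' y, c (x + x') y = c x y * c x' y := by
    intro b₁ b₂ b'
    have e : c (b₁ + b₂) b' = ⁅s (u b₂) * s (u b₁), s (u b')⁆ := by
      apply comm_congr σ hK _ rfl
      rw [map_mul, hs, hs, hs, ← u_add, add_comm]
    rw [e, comm_mul_left _ _ _ (hcomm _ _ _)]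
  have hr : ∀ x y y', c x (y + y') = c x y * c x y' := by
    intro b b₁ b₂
    have e : c b (b₁ + b₂) = ⁅s (u b), s (u b₁) * s (u b₂)⁆ := by
      apply comm_congr σ hK rfl
      rw [map_mul, hs, hs, hs, ← u_add]
    rw [e, comm_mul_right _ _ _ (hcomm _ _ _)]
  -- homomorphisms in each variable
  let fL : F → Multiplicative F →* Γ := fun y =>
    MonoidHom.mk' (fun x => c (Multiplicative.toAdd x) y) (fun a b => hl _ _ y)
  let fR : F → Multiplicative F →* Γ := fun x =>
    MonoidHom.mk' (fun y => c x (Multiplicative.toAdd y)) (fun a b => hr x _ _)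
  have hlz : ∀ (m : ℤ) x y, c (m • x) y = c x y ^ m := by
    intro m x y
    have := map_zpow (fL y) (Multiplicative.ofAdd x) m
    rw [← ofAdd_zsmul] at this
    exact this
  have hrz : ∀ (m : ℤ) x y, c x (m • y) = c x y ^ m := by
    intro m x y
    have := map_zpow (fR x) (Multiplicative.ofAdd y) m
    rw [← ofAdd_zsmul] at this
    exact this
  have hself : ∀ x, c x x = 1 := fun x => commutatorElement_self _
  have hswap : ∀ x y, c x y = (c y x)⁻¹ := fun x y => (commutatorElement_inv _ _).symm
  set z : Γ := c 1 i with hz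
  have hzK : z ∈ σ.ker := by
    rw [MonoidHom.mem_ker, hz, hc]
    simp only [map_commutatorElement, hs]
    rw [commutatorElement_eq_one_iff_commute]
    show u (1 : F) * u i = u i * u 1
    rw [← u_add, ← u_add, add_comm]
  have hz3 : z ^ 3 = 1 := by
    have h30 : ((3 : ℤ) • (1 : F)) = 0 := by
      have := CharP.cast_eq_zero F 3
      simp only [zsmul_eq_mul, mul_one]
      exact_mod_cast this
    have := hlz 3 1 i
    rw [h30] at this
    have h0 : c 0 i = 1 := by
      have := hl 0 0 i
      rw [add_zero] at this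
      exact (mul_eq_left (a := c 0 i)).mp this.symm
    rw [h0] at this
    rw [hz, ← zpow_natCast]
    exact this.symm
  have hcz : ∀ b b', c b b' ∈ Subgroup.zpowers z := by
    intro b b'
    obtain ⟨m, n, rfl⟩ := hi b
    obtain ⟨m', n', rfl⟩ := hi b'
    rw [hl, hr, hr, hlz, hlz, hlz, hlz, hrz, hrz, hrz, hrz, hself, hself, hswap i 1]
    simp only [_root_.one_zpow, one_mul, mul_one]
    refine Subgroup.mul_mem _ ?_ ?_
    · exact Subgroup.zpow_mem _ (Subgroup.zpow_mem _ (Subgroup.mem_zpowers z) _) _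
    · exact Subgroup.zpow_mem _ (Subgroup.zpow_mem _
        (Subgroup.inv_mem _ (Subgroup.mem_zpowers z)) _) _
  refine ⟨z, hzK, hz3, ?_⟩
  intro a ha
  -- the preimage of `U`
  set H : Subgroup Γ := (U : Subgroup (SpecialLinearGroup (Fin 2) F)).comap σ with hH
  have haH : a ∈ H := by
    rw [hH, Subgroup.mem_comap, MonoidHom.mem_ker.mp ha]
    exact Subgroup.one_mem _
  have htr := pow_index_mem_commutator H a (hK ha) (hC ha) haH
  have hle : commutator ↥H ≤ (Subgroup.zpowers z).comap H.subtype := by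
    rw [commutator_eq_closure, Subgroup.closure_le]
    rintro _ ⟨x, y, rfl⟩
    rw [SetLike.mem_coe, Subgroup.mem_comap]
    obtain ⟨b, hb⟩ := mem_U_iff.mp x.2
    obtain ⟨b', hb'⟩ := mem_U_iff.mp y.2
    have e : (H.subtype ⁅x, y⁆ : Γ) = c b b' := by
      rw [map_commutatorElement]
      apply comm_congr σ hK
      · rw [hs]; exact hb.symm
      · rw [hs]; exact hb'.symm
    rw [e]
    exact hcz b b'
  have h1 : a ^ H.index ∈ Subgroup.zpowers z := by
    have := hle htr
    rw [Subgroup.mem_comap] at this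
    simpa using this
  -- `a` is a 3-element
  have hidx : ¬ 3 ∣ H.index := by
    obtain ⟨P0, hP0⟩ := exists_sylow_eq_U (F := F) 3
    rw [hH, Subgroup.index_comap_of_surjective _ hσ, ← hP0]
    exact Sylow.not_dvd_index P0
  have hord : ∀ r : ℕ, r.Prime → r ∣ orderOf a → r = 3 := by
    intro r hr hra
    by_contra hne
    have : Fact r.Prime := ⟨hr⟩
    obtain ⟨k, hk⟩ := hra
    have hx : (a ^ k) ^ r = 1 := by
      rw [← pow_mul, mul_comm, ← hk, pow_orderOf_eq_one]
    have hxK : a ^ k ∈ σ.ker := Subgroup.pow_mem _ ha _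
    have h1 := sl2_ker_prime_part σ 3 hσ hK hC r hne (a ^ k) hxK hx
    have hdvd := orderOf_dvd_of_pow_eq_one h1
    have hpos : 0 < orderOf a := orderOf_pos a
    rw [hk] at hdvd hpos
    have hkpos : 0 < k := Nat.pos_of_mul_pos_left hpos
    have := Nat.le_of_dvd hkpos hdvd
    have h2 := hr.two_le
    nlinarith
  have hcop : Nat.Coprime H.index (orderOf a) := by
    apply Nat.coprime_of_dvd
    intro r hr hr1 hr2
    have := hord r hr hr2
    rw [this] at hr1
    exact hidx hr1
  obtain ⟨m, hm⟩ := exists_pow_eq_self_of_coprime hcop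
  rw [← hm]
  exact Subgroup.pow_mem _ h1 _

end Cfsg.Agent.Helper11.SzMult
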