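import Mathlib
import Cfsg.Agent.Helper19.TCR.StaticDefs

/-! Code-level arithmetic of the field with nine elements (`i ^ 2 = -1`, code `a + 3 b` for
`a + b i`), `4 × 4` matrices of codes with forced products, vectors coded by a number below `9 ^ 4`,
and their evaluation in a field of characteristic three containing such an `i`
(after helper23's `Sz8Code` and `L34Code`). -/

set_option autoImplicit false

namespace Cfsg.Agent.Helper11.U43

open Cfsg.Agent.Helper19.TCS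

/-- ternary digits of a code. -/
def d0 (n : ℕ) : ℕ := n % 3
def d1 (n : ℕ) : ℕ := n / 3 % 3

/-- code from two digits (reduced mod three). -/
def pack (r0 r1 : ℕ) : ℕ := r0 % 3 + 3 * (r1 % 3)

/-- addition of codes. -/
def cadd (x y : ℕ) : ℕ := pack (d0 x + d0 y) (d1 x + d1 y)

/-- multiplication of codes, modulo `i ^ 2 = -1`. -/
def cmul (x y : ℕ) : ℕ :=
  pack (d0 x * d0 y + 2 * (d1 x * d1 y)) (d0 x * d1 y + d1 x * d0 y)

/-- conjugation `a + b i ↦ a - b i` (the Frobenius `x ↦ x ^ 3`). -/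
def cconj (x : ℕ) : ℕ := pack (d0 x) (2 * d1 x)

/-- subtraction of codes. -/
def csub (x y : ℕ) : ℕ := pack (d0 x + 2 * d0 y) (d1 x + 2 * d1 y)

theorem d0_pack (r0 r1 : ℕ) : d0 (pack r0 r1) = r0 % 3 := by unfold d0 pack; omega
theorem d1_pack (r0 r1 : ℕ) : d1 (pack r0 r1) = r1 % 3 := by unfold d1 pack; omega
theorem pack_lt (r0 r1 : ℕ) : pack r0 r1 < 9 := by unfold pack; omega
theorem cadd_lt (x y : ℕ) : cadd x y < 9 := pack_lt _ _
theorem csub_eq_zero : ∀ m < 9, ∀ n < 9, csub m n = 0 → m = n := by decide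

section ev

variable {F : Type*} [Field F]

/-- evaluation of a code at `i`. -/
def ev (i : F) (n : ℕ) : F := (d0 n : F) + (d1 n : F) * i

theorem cast_mod_three (h3 : (3 : F) = 0) (n : ℕ) : ((n % 3 : ℕ) : F) = (n : F) := by
  obtain ⟨q, r, hn, hr⟩ : ∃ q r, n = 3 * q + r ∧ n % 3 = r :=
    ⟨n / 3, n % 3, (Nat.div_add_mod n 3).symm, rfl⟩
  rw [hr, hn]
  push_cast
  rw [h3]
  ring

theorem ev_pack (h3 : (3 : F) = 0) (i : F) (r0 r1 : ℕ) :
    ev i (pack r0 r1) = (r0 : F) + (r1 : F) * i := by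
  unfold ev
  rw [d0_pack, d1_pack, cast_mod_three h3, cast_mod_three h3]

theorem ev_add (h3 : (3 : F) = 0) (i : F) (x y : ℕ) : ev i (cadd x y) = ev i x + ev i y := by
  unfold cadd
  rw [ev_pack h3]
  unfold ev
  push_cast
  ring

theorem ev_sub (h3 : (3 : F) = 0) (i : F) (x y : ℕ) : ev i (csub x y) = ev i x - ev i y := by
  unfold csub
  rw [ev_pack h3]
  unfold ev
  push_cast
  linear_combination ((d0 y : F) + (d1 y : F) * i) * h3

theorem ev_mul (h3 : (3 : F) = 0) {i : F} (hi : i ^ 2 = -1) (x y : ℕ) :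
    ev i (cmul x y) = ev i x * ev i y := by
  unfold cmul
  rw [ev_pack h3]
  unfold ev
  push_cast
  linear_combination (-((d1 x : F) * (d1 y : F))) * hi + ((d1 x : F) * (d1 y : F)) * h3

theorem digit_cube (h3 : (3 : F) = 0) (k : ℕ) (hk : k < 3) : ((k : ℕ) : F) ^ 3 = (k : F) := by
  interval_cases k
  · simp
  · simp
  · push_cast
    linear_combination 2 * h3

theorem ev_conj (h3 : (3 : F) = 0) {i : F} (hi : i ^ 2 = -1) (x : ℕ) :
    ev i (cconj x) = ev i x ^ 3 := by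
  unfold cconj
  rw [ev_pack h3]
  unfold ev
  have ha := digit_cube h3 (d0 x) (Nat.mod_lt _ (by norm_num))
  have hb := digit_cube h3 (d1 x) (Nat.mod_lt _ (by norm_num))
  push_cast
  linear_combination (-1 : F) * ha + i * hb - (3 * (d0 x : F) * (d1 x : F) ^ 2 + (d1 x : F) ^ 3 * i) * hi
    - ((d0 x : F) ^ 2 * (d1 x : F) * i - (d0 x : F) * (d1 x : F) ^ 2 - (d1 x : F) * i) * h3

theorem ev_zero (i : F) : ev i 0 = 0 := by simp [ev, d0, d1]
theorem ev_one (i : F) : ev i 1 = 1 := by simp [ev, d0, d1]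

/-- a code below nine evaluating to zero is zero. -/
theorem eq_zero_of_ev [CharP F 3] {i : F} (hi : i ^ 2 = -1) (n : ℕ) (hn : n < 9)
    (h : ev i n = 0) : n = 0 := by
  unfold ev at h
  have ha : d0 n < 3 := Nat.mod_lt _ (by norm_num)
  have hb : d1 n < 3 := Nat.mod_lt _ (by norm_num)
  have key : ((d0 n * d0 n + d1 n * d1 n : ℕ) : F) = 0 := by
    push_cast
    linear_combination ((d0 n : F) - (d1 n : F) * i) * h + (d1 n : F) ^ 2 * hi
  have hdvd : 3 ∣ d0 n * d0 n + d1 n * d1 n := (CharP.cast_eq_zero_iff F 3 _).mp key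
  have h0 : d0 n = 0 ∧ d1 n = 0 := by
    generalize d0 n = a at ha hdvd
    generalize d1 n = b at hb hdvd
    interval_cases a <;> interval_cases b <;> omega
  unfold d0 d1 at h0
  omega

theorem three_eq_zero [CharP F 3] : (3 : F) = 0 := by
  have := CharP.cast_eq_zero F 3
  exact_mod_cast this

theorem ev_inj [CharP F 3] {i : F} (hi : i ^ 2 = -1) (m n : ℕ) (hm : m < 9) (hn : n < 9)
    (h : ev i m = ev i n) : m = n := by
  have h3 : (3 : F) = 0 := three_eq_zero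
  have h0 : ev i (csub m n) = 0 := by rw [ev_sub h3, h, sub_self]
  have h1 := eq_zero_of_ev hi (csub m n) (pack_lt _ _) h0
  exact csub_eq_zero m hm n hn h1

theorem ev_surj [Fintype F] [CharP F 3] (hF : Fintype.card F = 9) {i : F} (hi : i ^ 2 = -1)
    (c : F) : ∃ n, n < 9 ∧ ev i n = c := by
  let f : Fin 9 → F := fun k => ev i k
  have hinj : Function.Injective f := by
    intro a b hab
    exact Fin.ext (ev_inj hi a b a.2 b.2 hab)
  have hbij : Function.Bijective f := by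
    rw [Fintype.bijective_iff_injective_and_card]
    exact ⟨hinj, by rw [Fintype.card_fin, hF]⟩
  obtain ⟨k, hk⟩ := hbij.2 c
  exact ⟨k, k.2, hk⟩

end ev

/-- a `4 × 4` matrix of codes. -/
structure CM where
  a00 : ℕ
  a01 : ℕ
  a02 : ℕ
  a03 : ℕ
  a10 : ℕ
  a11 : ℕ
  a12 : ℕ
  a13 : ℕ
  a20 : ℕ
  a21 : ℕ
  a22 : ℕ
  a23 : ℕ
  a30 : ℕ
  a31 : ℕ
  a32 : ℕ
  a33 : ℕ
deriving DecidableEq

/-- the identity matrix of codes. -/
def cone : CM := ⟨1, 0, 0, 0, 0, 1, 0, 0, 0, 0, 1, 0, 0, 0, 0, 1⟩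

/-- the scalar matrix of codes. -/
def cscal (c : ℕ) : CM := ⟨c, 0, 0, 0, 0, c, 0, 0, 0, 0, c, 0, 0, 0, 0, c⟩

/-- a row times a column. -/
def dot4 (a b c d e f g h : ℕ) : ℕ := cadd (cadd (cadd (cmul a e) (cmul b f)) (cmul c g)) (cmul d h)

theorem dot4_lt (a b c d e f g h : ℕ) : dot4 a b c d e f g h < 9 := cadd_lt _ _

/-- product of code matrices, with forced evaluation of the entries. -/
noncomputable def mmul : CM → CM → CM
  | ⟨a00, a01, a02, a03, a10, a11, a12, a13, a20, a21, a22, a23, a30, a31, a32, a33⟩, ⟨b00, b01, b02, b03, b10, b11, b12, b13, b20, b21, b22, b23, b30, b31, b32, b33⟩ =>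
    force (dot4 a00 a01 a02 a03 b00 b10 b20 b30) fun c00 =>
    force (dot4 a00 a01 a02 a03 b01 b11 b21 b31) fun c01 =>
    force (dot4 a00 a01 a02 a03 b02 b12 b22 b32) fun c02 =>
    force (dot4 a00 a01 a02 a03 b03 b13 b23 b33) fun c03 =>
    force (dot4 a10 a11 a12 a13 b00 b10 b20 b30) fun c10 =>
    force (dot4 a10 a11 a12 a13 b01 b11 b21 b31) fun c11 =>
    force (dot4 a10 a11 a12 a13 b02 b12 b22 b32) fun c12 =>
    force (dot4 a10 a11 a12 a13 b03 b13 b23 b33) fun c13 =>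
    force (dot4 a20 a21 a22 a23 b00 b10 b20 b30) fun c20 =>
    force (dot4 a20 a21 a22 a23 b01 b11 b21 b31) fun c21 =>
    force (dot4 a20 a21 a22 a23 b02 b12 b22 b32) fun c22 =>
    force (dot4 a20 a21 a22 a23 b03 b13 b23 b33) fun c23 =>
    force (dot4 a30 a31 a32 a33 b00 b10 b20 b30) fun c30 =>
    force (dot4 a30 a31 a32 a33 b01 b11 b21 b31) fun c31 =>
    force (dot4 a30 a31 a32 a33 b02 b12 b22 b32) fun c32 =>
    force (dot4 a30 a31 a32 a33 b03 b13 b23 b33) fun c33 =>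
    ⟨c00, c01, c02, c03, c10, c11, c12, c13, c20, c21, c22, c23, c30, c31, c32, c33⟩

/-- transpose. -/
def ctr : CM → CM
  | ⟨a00, a01, a02, a03, a10, a11, a12, a13, a20, a21, a22, a23, a30, a31, a32, a33⟩ => ⟨a00, a10, a20, a30, a01, a11, a21, a31, a02, a12, a22, a32, a03, a13, a23, a33⟩

/-- entrywise conjugation. -/
def cconjM : CM → CM
  | ⟨a00, a01, a02, a03, a10, a11, a12, a13, a20, a21, a22, a23, a30, a31, a32, a33⟩ => ⟨cconj a00, cconj a01, cconj a02, cconj a03, cconj a10, cconj a11, cconj a12, cconj a13, cconj a20, cconj a21, cconj a22, cconj a23, cconj a30, cconj a31, cconj a32, cconj a33⟩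

section evM

variable {F : Type*} [Field F]

/-- evaluation of a matrix of codes. -/
def evM (i : F) (A : CM) : Matrix (Fin 4) (Fin 4) F :=
  !![ev i A.a00, ev i A.a01, ev i A.a02, ev i A.a03;
     ev i A.a10, ev i A.a11, ev i A.a12, ev i A.a13;
     ev i A.a20, ev i A.a21, ev i A.a22, ev i A.a23;
     ev i A.a30, ev i A.a31, ev i A.a32, ev i A.a33]

theorem ev_dot4 (h3 : (3 : F) = 0) {i : F} (hi : i ^ 2 = -1) (a b c d e f g h : ℕ) :
    ev i (dot4 a b c d e f g h) = ev i a * ev i e + ev i b * ev i f + ev i c * ev i g + ev i d * ev i h := by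
  unfold dot4
  rw [ev_add h3, ev_add h3, ev_add h3, ev_mul h3 hi, ev_mul h3 hi, ev_mul h3 hi, ev_mul h3 hi]

theorem evM_one (i : F) : evM i cone = 1 := by
  ext r c
  fin_cases r <;> fin_cases c <;> simp [evM, cone, ev_zero, ev_one]

theorem evM_scal (i : F) (c : ℕ) : evM i (cscal c) = Matrix.scalar (Fin 4) (ev i c) := by
  ext r s
  fin_cases r <;> fin_cases s <;> simp [evM, cscal, ev_zero]

theorem evM_mul (h3 : (3 : F) = 0) {i : F} (hi : i ^ 2 = -1) (A B : CM) :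
    evM i (mmul A B) = evM i A * evM i B := by
  obtain ⟨a00, a01, a02, a03, a10, a11, a12, a13, a20, a21, a22, a23, a30, a31, a32, a33⟩ := A
  obtain ⟨b00, b01, b02, b03, b10, b11, b12, b13, b20, b21, b22, b23, b30, b31, b32, b33⟩ := B
  ext r s
  fin_cases r <;> fin_cases s <;>
    simp [evM, mmul, force_eq, ev_dot4 h3 hi, Matrix.mul_apply, Fin.sum_univ_four]

theorem evM_ctr (i : F) (A : CM) : evM i (ctr A) = (evM i A).transpose := by
  obtain ⟨a00, a01, a02, a03, a10, a11, a12, a13, a20, a21, a22, a23, a30, a31, a32, a33⟩ := A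
  ext r s
  fin_cases r <;> fin_cases s <;> simp [evM, ctr]

theorem evM_conj (h3 : (3 : F) = 0) {i : F} (hi : i ^ 2 = -1) (A : CM) :
    evM i (cconjM A) = (evM i A).map (fun x => x ^ 3) := by
  obtain ⟨a00, a01, a02, a03, a10, a11, a12, a13, a20, a21, a22, a23, a30, a31, a32, a33⟩ := A
  ext r s
  fin_cases r <;> fin_cases s <;> simp [evM, cconjM, ev_conj h3 hi]

end evM

/-- code-level word product, in the convention `prodw (l :: w) = prodw w * g l`. -/
noncomputable def cprodw (G : ℕ → CM) : List ℕ → CM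
  | [] => cone
  | l :: w => mmul (cprodw G w) (G l)

/-! ### Vectors, coded by a number below `9 ^ 4` -/

/-- matrix times vector. -/
noncomputable def mvec : CM → ℕ → ℕ
  | ⟨a00, a01, a02, a03, a10, a11, a12, a13, a20, a21, a22, a23, a30, a31, a32, a33⟩, n =>
    force (n % 9) fun v0 => force (n / 9 % 9) fun v1 => force (n / 81 % 9) fun v2 =>
    force (n / 729 % 9) fun v3 =>
    force (dot4 a00 a01 a02 a03 v0 v1 v2 v3) fun c0 =>
    force (dot4 a10 a11 a12 a13 v0 v1 v2 v3) fun c1 =>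
    force (dot4 a20 a21 a22 a23 v0 v1 v2 v3) fun c2 =>
    force (dot4 a30 a31 a32 a33 v0 v1 v2 v3) fun c3 =>
    c0 + 9 * c1 + 81 * c2 + 729 * c3

/-- the code of `h(v, v)`. -/
def cherm (n : ℕ) : ℕ :=
  cadd (cadd (cadd (cmul (n % 9) (cconj (n % 9))) (cmul (n / 9 % 9) (cconj (n / 9 % 9))))
    (cmul (n / 81 % 9) (cconj (n / 81 % 9)))) (cmul (n / 729 % 9) (cconj (n / 729 % 9)))

theorem cherm_lt (n : ℕ) : cherm n < 9 := cadd_lt _ _

section evV

variable {F : Type*} [Field F]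

/-- evaluation of a coded vector. -/
def evV (i : F) (n : ℕ) : Fin 4 → F :=
  ![ev i (n % 9), ev i (n / 9 % 9), ev i (n / 81 % 9), ev i (n / 729 % 9)]

theorem evV_mvec (h3 : (3 : F) = 0) {i : F} (hi : i ^ 2 = -1) (A : CM) (n : ℕ) :
    evV i (mvec A n) = Matrix.mulVec (evM i A) (evV i n) := by
  obtain ⟨a00, a01, a02, a03, a10, a11, a12, a13, a20, a21, a22, a23, a30, a31, a32, a33⟩ := A
  have e0 := dot4_lt a00 a01 a02 a03 (n % 9) (n / 9 % 9) (n / 81 % 9) (n / 729 % 9)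
  have e1 := dot4_lt a10 a11 a12 a13 (n % 9) (n / 9 % 9) (n / 81 % 9) (n / 729 % 9)
  have e2 := dot4_lt a20 a21 a22 a23 (n % 9) (n / 9 % 9) (n / 81 % 9) (n / 729 % 9)
  have e3 := dot4_lt a30 a31 a32 a33 (n % 9) (n / 9 % 9) (n / 81 % 9) (n / 729 % 9)
  have g0 := ev_dot4 h3 hi a00 a01 a02 a03 (n % 9) (n / 9 % 9) (n / 81 % 9) (n / 729 % 9)
  have g1 := ev_dot4 h3 hi a10 a11 a12 a13 (n % 9) (n / 9 % 9) (n / 81 % 9) (n / 729 % 9)
  have g2 := ev_dot4 h3 hi a20 a21 a22 a23 (n % 9) (n / 9 % 9) (n / 81 % 9) (n / 729 % 9)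
  have g3 := ev_dot4 h3 hi a30 a31 a32 a33 (n % 9) (n / 9 % 9) (n / 81 % 9) (n / 729 % 9)
  simp only [mvec, force_eq]
  generalize dot4 a00 a01 a02 a03 (n % 9) (n / 9 % 9) (n / 81 % 9) (n / 729 % 9) = c0 at e0 g0 ⊢
  generalize dot4 a10 a11 a12 a13 (n % 9) (n / 9 % 9) (n / 81 % 9) (n / 729 % 9) = c1 at e1 g1 ⊢
  generalize dot4 a20 a21 a22 a23 (n % 9) (n / 9 % 9) (n / 81 % 9) (n / 729 % 9) = c2 at e2 g2 ⊢
  generalize dot4 a30 a31 a32 a33 (n % 9) (n / 9 % 9) (n / 81 % 9) (n / 729 % 9) = c3 at e3 g3 ⊢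
  have r0 : (c0 + 9 * c1 + 81 * c2 + 729 * c3) % 9 = c0 := by omega
  have r1 : (c0 + 9 * c1 + 81 * c2 + 729 * c3) / 9 % 9 = c1 := by omega
  have r2 : (c0 + 9 * c1 + 81 * c2 + 729 * c3) / 81 % 9 = c2 := by omega
  have r3 : (c0 + 9 * c1 + 81 * c2 + 729 * c3) / 729 % 9 = c3 := by omega
  ext k
  fin_cases k <;>
    simp [evV, evM, r0, r1, r2, r3, g0, g1, g2, g3, Matrix.mulVec, dotProduct, Fin.sum_univ_four]

theorem evV_surj [Fintype F] [CharP F 3] (hF : Fintype.card F = 9) {i : F} (hi : i ^ 2 = -1)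
    (v : Fin 4 → F) : ∃ n, n < 6561 ∧ evV i n = v := by
  obtain ⟨n0, h0, e0⟩ := ev_surj hF hi (v 0)
  obtain ⟨n1, h1, e1⟩ := ev_surj hF hi (v 1)
  obtain ⟨n2, h2, e2⟩ := ev_surj hF hi (v 2)
  obtain ⟨n3, h3', e3⟩ := ev_surj hF hi (v 3)
  refine ⟨n0 + 9 * n1 + 81 * n2 + 729 * n3, by omega, ?_⟩
  have r0 : (n0 + 9 * n1 + 81 * n2 + 729 * n3) % 9 = n0 := by omega
  have r1 : (n0 + 9 * n1 + 81 * n2 + 729 * n3) / 9 % 9 = n1 := by omega
  have r2 : (n0 + 9 * n1 + 81 * n2 + 729 * n3) / 81 % 9 = n2 := by omega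
  have r3 : (n0 + 9 * n1 + 81 * n2 + 729 * n3) / 729 % 9 = n3 := by omega
  ext k
  fin_cases k <;> simp [evV, r0, r1, r2, r3, e0, e1, e2, e3]

theorem ev_cherm (h3 : (3 : F) = 0) {i : F} (hi : i ^ 2 = -1) (n : ℕ) :
    ev i (cherm n) = ∑ k : Fin 4, evV i n k * evV i n k ^ 3 := by
  unfold cherm
  rw [Fin.sum_univ_four, ev_add h3, ev_add h3, ev_add h3, ev_mul h3 hi, ev_mul h3 hi, ev_mul h3 hi,
    ev_mul h3 hi, ev_conj h3 hi, ev_conj h3 hi, ev_conj h3 hi, ev_conj h3 hi]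
  simp [evV]

end evV

end Cfsg.Agent.Helper11.U43
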