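import Mathlib
import Cfsg.Agent.Helper11.U43Data
import Cfsg.Agent.Helper11.L34Gens
import Cfsg.Agent.Helper11.SL2NineA
import Cfsg.Agent.Helper2.UnitarySU
import Cfsg.Agent.S2644

/-! The two generators of `SU₄(3)` (over any field with nine elements) as evaluated code matrices:
determinant, unitarity, words, the relators are scalar, a word is a unitary transvection. -/

set_option autoImplicit false
set_option linter.all false

namespace Cfsg.Agent.Helper11.U43

open Matrix Cfsg.Agent.Helper19.TCS Cfsg.Agent.Helper19.Schur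

/-! ### code-level checks -/

theorem cX_cXi : mmul cX cXi = cone := by decide +kernel
theorem cT_cT : mmul cT cT = cone := by decide +kernel
theorem cX_unitary : mmul (ctr cX) (cconjM cX) = cone := by decide +kernel
theorem cT_unitary : mmul (ctr cT) (cconjM cT) = cone := by decide +kernel
theorem crels : ∀ w ∈ rels, cprodw cG w = cscal 1 ∨ cprodw cG w = cscal 2 ∨ cprodw cG w = cscal 3 ∨
    cprodw cG w = cscal 6 := by
  decide +kernel

/-- determinant of a code matrix (expansion along the first row). -/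
def cdet : CM → ℕ
  | ⟨a00, a01, a02, a03, a10, a11, a12, a13, a20, a21, a22, a23, a30, a31, a32, a33⟩ => (csub (cadd (csub (cmul a00 (cadd (csub (cmul a11 (csub (cmul a22 a33) (cmul a23 a32))) (cmul a12 (csub (cmul a21 a33) (cmul a23 a31)))) (cmul a13 (csub (cmul a21 a32) (cmul a22 a31))))) (cmul a01 (cadd (csub (cmul a10 (csub (cmul a22 a33) (cmul a23 a32))) (cmul a12 (csub (cmul a20 a33) (cmul a23 a30)))) (cmul a13 (csub (cmul a20 a32) (cmul a22 a30)))))) (cmul a02 (cadd (csub (cmul a10 (csub (cmul a21 a33) (cmul a23 a31))) (cmul a11 (csub (cmul a20 a33) (cmul a23 a30)))) (cmul a13 (csub (cmul a20 a31) (cmul a21 a30)))))) (cmul a03 (cadd (csub (cmul a10 (csub (cmul a21 a32) (cmul a22 a31))) (cmul a11 (csub (cmul a20 a32) (cmul a22 a30)))) (cmul a12 (csub (cmul a20 a31) (cmul a21 a30))))))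

theorem cX_det : cdet cX = 1 := by decide +kernel
theorem cT_det : cdet cT = 1 := by decide +kernel

/-- the code matrix of the unitary transvection with centre `n` and scalar `c`. -/
def ctransv (n c : ℕ) : CM :=
  ⟨cadd 1 (cmul c (cmul (n % 9) (cconj (n % 9)))), cadd 0 (cmul c (cmul (n % 9) (cconj (n / 9 % 9)))), cadd 0 (cmul c (cmul (n % 9) (cconj (n / 81 % 9)))), cadd 0 (cmul c (cmul (n % 9) (cconj (n / 729 % 9)))),
   cadd 0 (cmul c (cmul (n / 9 % 9) (cconj (n % 9)))), cadd 1 (cmul c (cmul (n / 9 % 9) (cconj (n / 9 % 9)))), cadd 0 (cmul c (cmul (n / 9 % 9) (cconj (n / 81 % 9)))), cadd 0 (cmul c (cmul (n / 9 % 9) (cconj (n / 729 % 9)))),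
   cadd 0 (cmul c (cmul (n / 81 % 9) (cconj (n % 9)))), cadd 0 (cmul c (cmul (n / 81 % 9) (cconj (n / 9 % 9)))), cadd 1 (cmul c (cmul (n / 81 % 9) (cconj (n / 81 % 9)))), cadd 0 (cmul c (cmul (n / 81 % 9) (cconj (n / 729 % 9)))),
   cadd 0 (cmul c (cmul (n / 729 % 9) (cconj (n % 9)))), cadd 0 (cmul c (cmul (n / 729 % 9) (cconj (n / 9 % 9)))), cadd 0 (cmul c (cmul (n / 729 % 9) (cconj (n / 81 % 9)))), cadd 1 (cmul c (cmul (n / 729 % 9) (cconj (n / 729 % 9))))⟩

theorem cW0 : cprodw cG W0 = ctransv n0 c0 := by decide +kernel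
theorem cherm_n0 : cherm n0 = 0 := by decide +kernel

theorem det_of4 {R : Type*} [CommRing R] (a b c d e f g h i j k l m n o p : R) :
    (!![a,b,c,d; e,f,g,h; i,j,k,l; m,n,o,p] : Matrix (Fin 4) (Fin 4) R).det =
      ((((a * (((f * ((k * p) - (l * o))) - (g * ((j * p) - (l * n)))) + (h * ((j * o) - (k * n))))) - (b * (((e * ((k * p) - (l * o))) - (g * ((i * p) - (l * m)))) + (h * ((i * o) - (k * m)))))) + (c * (((e * ((j * p) - (l * n))) - (f * ((i * p) - (l * m)))) + (h * ((i * n) - (j * m)))))) - (d * (((e * ((j * o) - (k * n))) - (f * ((i * o) - (k * m)))) + (g * ((i * n) - (j * m)))))) := by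
  rw [Matrix.det_succ_row_zero]
  simp [Fin.sum_univ_succ, Matrix.det_fin_three, Fin.succAbove, Matrix.submatrix]
  ring

/-! ### evaluation -/

section field

variable {F : Type*} [Field F]

theorem det_evM (h3 : (3 : F) = 0) {i : F} (hi : i ^ 2 = -1) (A : CM) :
    (evM i A).det = ev i (cdet A) := by
  obtain ⟨a00, a01, a02, a03, a10, a11, a12, a13, a20, a21, a22, a23, a30, a31, a32, a33⟩ := A
  unfold evM
  rw [det_of4]
  simp only [cdet, ev_add h3, ev_sub h3, ev_mul h3 hi]

theorem evM_ctransv (h3 : (3 : F) = 0) {i : F} (hi : i ^ 2 = -1) (n c : ℕ) :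
    evM i (ctransv n c) = Cfsg.unitaryTransvection 4 3 (evV i n) (ev i c) := by
  ext r s
  fin_cases r <;> fin_cases s <;>
    simp [ctransv, evM, evV, Cfsg.unitaryTransvection, Matrix.vecMulVec, ev_add h3, ev_mul h3 hi,
      ev_conj h3 hi, ev_zero, ev_one, Matrix.one_apply]

theorem isON_of (h3 : (3 : F) = 0) {i : F} (hi : i ^ 2 = -1) (A : CM)
    (hA : mmul (ctr A) (cconjM A) = cone) :
    Cfsg.Agent.Helper2.Herm.IsON 3 (Cfsg.Agent.Helper2.Herm.cols (evM i A)) := by
  have key : (evM i A).transpose * (evM i A).map (fun x => x ^ 3) = 1 := by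
    rw [← evM_ctr, ← evM_conj h3 hi, ← evM_mul h3 hi, hA, evM_one]
  intro j k
  have h1 := congrFun (congrFun key j) k
  rw [Matrix.mul_apply, Matrix.one_apply] at h1
  simp only [Matrix.transpose_apply, Matrix.map_apply] at h1
  unfold Cfsg.hermForm Cfsg.Agent.Helper2.Herm.cols
  exact h1

end field

section group

variable {F : Type*} [Field F] [Fintype F] [CharP F 3] (hF : Fintype.card F = 3 ^ 2) {i : F}
  (hi : i ^ 2 = -1)

local notation "tm" => Cfsg.Agent.S2644.toM F 4 3

include hF hi in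
theorem mem_SU_of (A : CM) (hdet : cdet A = 1) (hA : mmul (ctr A) (cconjM A) = cone) :
    ∃ g : Cfsg.SU 4 F 3, tm g = evM i A := by
  have h3 : (3 : F) = 0 := three_eq_zero
  have hd : (evM i A).det = 1 := by rw [det_evM h3 hi, hdet, ev_one]
  let s : Matrix.SpecialLinearGroup (Fin 4) F := ⟨evM i A, hd⟩
  have hs : s ∈ Cfsg.SU 4 F 3 := by
    rw [Cfsg.Agent.Helper2.Herm.mem_SU_iff, Cfsg.Agent.Helper2.Herm.mem_GU_iff hF]
    exact isON_of h3 hi A hA
  exact ⟨⟨s, hs⟩, rfl⟩

/-- the generator of order seven (modulo scalars). -/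
noncomputable def gX : Cfsg.SU 4 F 3 := (mem_SU_of hF hi cX cX_det cX_unitary).choose

/-- the involution. -/
noncomputable def gT : Cfsg.SU 4 F 3 := (mem_SU_of hF hi cT cT_det cT_unitary).choose

theorem mat_gX : tm (gX hF hi) = evM i cX := (mem_SU_of hF hi cX cX_det cX_unitary).choose_spec

theorem mat_gT : tm (gT hF hi) = evM i cT := (mem_SU_of hF hi cT cT_det cT_unitary).choose_spec

include hi in
theorem mat_inv_of {g : Cfsg.SU 4 F 3} {c ci : CM} (hg : tm g = evM i c)
    (hc : mmul c ci = cone) : tm g⁻¹ = evM i ci := by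
  have h3 : (3 : F) = 0 := three_eq_zero
  have h1 : tm g * evM i ci = 1 := by rw [hg, ← evM_mul h3 hi, hc, evM_one]
  have h4 : tm g⁻¹ * tm g = 1 := by rw [← map_mul, inv_mul_cancel, map_one]
  calc tm g⁻¹ = tm g⁻¹ * (tm g * evM i ci) := by rw [h1, mul_one]
    _ = (tm g⁻¹ * tm g) * evM i ci := by rw [Matrix.mul_assoc]
    _ = evM i ci := by rw [h4, one_mul]

theorem mat_gc2 (l : ℕ) : tm (gc2 (gX hF hi) (gT hF hi) l) = evM i (cG l) := by
  match l with
  | 0 => exact mat_gX hF hi
  | 1 => exact mat_inv_of hi (mat_gX hF hi) cX_cXi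
  | 2 => exact mat_gT hF hi
  | 3 => exact mat_inv_of hi (mat_gT hF hi) cT_cT
  | (n + 4) => exact (map_one _).trans (evM_one i).symm

theorem mat_prodw (w : List ℕ) :
    tm (prodw (gc2 (gX hF hi) (gT hF hi)) w) = evM i (cprodw cG w) := by
  have h3 : (3 : F) = 0 := three_eq_zero
  induction w with
  | nil => exact (map_one _).trans (evM_one i).symm
  | cons l w ih =>
    show tm (prodw (gc2 (gX hF hi) (gT hF hi)) w * gc2 (gX hF hi) (gT hF hi) l) =
      evM i (mmul (cprodw cG w) (cG l))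
    rw [map_mul, evM_mul h3 hi, ih, mat_gc2]

/-- the relator words are scalar matrices, hence central. -/
theorem rels_center : ∀ w ∈ rels, prodw (gc2 (gX hF hi) (gT hF hi)) w ∈
    Subgroup.center (Cfsg.SU 4 F 3) := by
  intro w hw
  have key : ∀ c : ℕ, cprodw cG w = cscal c →
      prodw (gc2 (gX hF hi) (gT hF hi)) w ∈ Subgroup.center (Cfsg.SU 4 F 3) := by
    intro c he
    rw [Subgroup.mem_center_iff]
    intro h
    apply Cfsg.Agent.S2644.toM_injective
    have h1 := mat_prodw hF hi w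
    rw [he, evM_scal] at h1
    rw [map_mul, map_mul, h1]
    exact (Matrix.scalar_commute (ev i c) (fun r => Commute.all _ _) (tm h)).symm.eq
  rcases crels w hw with h | h | h | h
  · exact key 1 h
  · exact key 2 h
  · exact key 3 h
  · exact key 6 h

end group

end Cfsg.Agent.Helper11.U43
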