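import Mathlib
import Cfsg.Agent.Helper11.U43Gens
import Cfsg.Agent.Helper2.U43GEN
import Cfsg.Agent.Helper2.U43TRANS
import Cfsg.Agent.Helper2.UnitaryCenter

/-! `PSU₄(3)` is generated by two elements satisfying helper11's seven relators (generation via
helper2's `eq_top_of_transvection` and `trans_of_codes`). -/

set_option autoImplicit false
set_option linter.all false

namespace Cfsg.Agent.Helper11.U43

open Matrix Cfsg.Agent.Helper19.TCS Cfsg.Agent.Helper19.Schur

section gen

variable {F : Type*} [Field F] [Fintype F] [CharP F 3] (hF : Fintype.card F = 3 ^ 2) {i : F}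
  (hi : i ^ 2 = -1)

local notation "tm" => Cfsg.Agent.S2644.toM F 4 3

theorem closure_SU_eq_top :
    Subgroup.closure {gX hF hi, gT hF hi} = (⊤ : Subgroup (Cfsg.SU 4 F 3)) := by
  have h3 : (3 : F) = 0 := three_eq_zero
  have hF9 : Fintype.card F = 9 := by rw [hF]; norm_num
  set H : Subgroup (Cfsg.SU 4 F 3) := Subgroup.closure {gX hF hi, gT hF hi} with hH
  apply Cfsg.Agent.Helper2.U43.eq_top_of_transvection hF H (evV i n0) (ev i c0)
  · -- isotropic
    have := ev_cherm h3 hi n0
    rw [cherm_n0, ev_zero] at this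
    unfold Cfsg.hermForm
    exact this.symm
  · -- c0 ≠ 0
    intro h0
    have := eq_zero_of_ev hi c0 (by decide) h0
    exact absurd this (by decide)
  · -- skew
    have e1 : ev i (cconj c0) = ev i c0 ^ 3 := ev_conj h3 hi c0
    have e2 : ev i (cadd (cconj c0) c0) = ev i (cconj c0) + ev i c0 := ev_add h3 i _ _
    have e3 : cadd (cconj c0) c0 = 0 := by decide
    rw [e3, ev_zero] at e2
    rw [← e1]
    linear_combination -e2
  · -- the transvection
    refine ⟨prodw (gc2 (gX hF hi) (gT hF hi)) W0, Cfsg.Agent.Helper11.L34.prodw_mem _ _ _, ?_⟩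
    rw [mat_prodw, cW0, evM_ctransv h3 hi]
  · -- transitivity
    intro v hv hiso
    have hS : ∀ l, l < 3 → evM i (cG l) ∈ Submonoid.map (tm) H.toSubmonoid := by
      intro l _
      refine ⟨gc2 (gX hF hi) (gT hF hi) l, Cfsg.Agent.Helper11.L34.gc2_mem _ _ l, ?_⟩
      exact mat_gc2 hF hi l
    obtain ⟨A, ⟨g, hg, rfl⟩, hA⟩ :=
      Cfsg.Agent.Helper2.U43.trans_of_codes hF9 hi (Submonoid.map (tm) H.toSubmonoid) hS v hv hiso
    exact ⟨g, hg, 1, one_ne_zero, by rw [one_smul]; exact hA⟩

end gen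

section psu

variable {F : Type*} [Field F] [Fintype F]

/-- the projection onto the projective special unitary group. -/
def pr : Cfsg.SU 4 F 3 →* Cfsg.PSU 4 F 3 :=
  QuotientGroup.mk' (Subgroup.center (Cfsg.SU 4 F 3))

theorem pr_surjective : Function.Surjective (pr : Cfsg.SU 4 F 3 →* Cfsg.PSU 4 F 3) :=
  QuotientGroup.mk'_surjective _

theorem exists_gens (hF : Fintype.card F = 9) :
    ∃ x y : Cfsg.PSU 4 F 3,
      Subgroup.closure {x, y} = (⊤ : Subgroup (Cfsg.PSU 4 F 3)) ∧
      ∀ w ∈ rels, prodw (gc2 x y) w = 1 := by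
  haveI : CharP F 3 := Cfsg.Agent.Helper11.SzMult.charP_three_of_card hF
  have hF' : Fintype.card F = 3 ^ 2 := by rw [hF]; norm_num
  obtain ⟨i, hi⟩ : ∃ i : F, i ^ 2 = -1 := by
    have h1 : IsSquare (-1 : F) := by
      rw [FiniteField.isSquare_neg_one_iff, hF]
      decide
    obtain ⟨r, hr⟩ := h1
    exact ⟨r, by rw [hr]; ring⟩
  refine ⟨pr (gX hF' hi), pr (gT hF' hi), ?_, ?_⟩
  · have h1 := congrArg (Subgroup.map (pr : Cfsg.SU 4 F 3 →* _)) (closure_SU_eq_top hF' hi)
    rw [MonoidHom.map_closure, Set.image_pair, Subgroup.map_top_of_surjective _ pr_surjective] at h1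
    exact h1
  · intro w hw
    rw [Cfsg.Agent.Helper11.L34.prodw_map]
    exact (QuotientGroup.eq_one_iff _).mpr (rels_center hF' hi w hw)

theorem card_PSU43 (hF : Fintype.card F = 9) : Nat.card (Cfsg.PSU 4 F 3) = 3265920 := by
  have hF' : Fintype.card F = 3 ^ 2 := by rw [hF]; norm_num
  have h := Cfsg.Agent.Helper2.Herm.card_PSU_closed (q := 3) hF' 4 (by norm_num)
  have e : ∏ i ∈ Finset.range 4, (if Even i then 3 ^ (i + 1) + 1 else 3 ^ (i + 1) - 1) = 71680 := by
    decide
  rw [e] at h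
  norm_num at h
  omega

end psu

end Cfsg.Agent.Helper11.U43
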