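import Mathlib
import Cfsg.Agent.Helper11.McLStabK
import Cfsg.Agent.Helper11.U43Recog
import Cfsg.Agent.Helper22.McLStab

/-! The stabiliser of a point in helper22's permutation model `K` of the McLaughlin group on 275 points
is isomorphic to `PSU₄(3)`: it has order `3265920` and contains a pair satisfying helper11's
presentation of `PSU₄(3)`. -/

set_option autoImplicit false
set_option linter.all false
set_option maxRecDepth 100000
set_option maxHeartbeats 0

namespace Cfsg.Agent.Helper11.McLStab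

open Cfsg.Agent.Helper22.PermPack Cfsg.Agent.Helper22.McLKData Cfsg.Agent.Helper22.McLK
  Cfsg.Agent.Helper19.TCS Cfsg.Agent.Helper19.Schur

theorem gens3_good : ∀ y ∈ gens3, Good 275 9 y :=
  fun y hy => good_of_goodB (List.all_eq_true.mp gens3_goodK y hy)

theorem slp1_mem : ∀ e ∈ slp1, Good 275 9 e.1 ∧ P 275 9 e.1 ∈ Grp 275 9 zu :=
  slp_sound zu slp1 zu (fun t ht => ⟨zu_good t ht, P_mem_Grp ht⟩) slp1_okK

/-- the element of order 7 -/
noncomputable def aP : Pm 275 := P 275 9 mclA
/-- its inverse -/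
noncomputable def aiP : Pm 275 := P 275 9 mclAi
/-- the involution -/
noncomputable def bP : Pm 275 := P 275 9 mclB

theorem aP_mem : aP ∈ K :=
  (slp1_mem (mclA, [1]) (by simp [slp1])).2

theorem bP_mem : bP ∈ K :=
  (slp1_mem (mclB, [0, 1, 1, 0, 2, 2, 2, 0, 2, 2, 0, 1, 1, 0, 1, 1, 1, 0, 2, 2, 0]) (by simp [slp1])).2

theorem hA : Rep (slot 9 mclA) aP := rep_P (gens3_good mclA (by simp [gens3]))
theorem hAi : Rep (slot 9 mclAi) aiP := rep_P (gens3_good mclAi (by simp [gens3]))
theorem hB : Rep (slot 9 mclB) bP := rep_P (gens3_good mclB (by simp [gens3]))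

theorem aP_mul_aiP : aP * aiP = 1 := by
  apply rep_unique (f := fun i => i) _ rep_one
  apply rep_congr (rep_mul hA hAi)
  intro i hi
  have := allN_spec inv_okK i hi
  rw [Bool.and_eq_true] at this
  exact (beq_iff.mp this.1).symm

theorem bP_mul_bP : bP * bP = 1 := by
  apply rep_unique (f := fun i => i) _ rep_one
  apply rep_congr (rep_mul hB hB)
  intro i hi
  have := allN_spec inv_okK i hi
  rw [Bool.and_eq_true] at this
  exact (beq_iff.mp this.2).symm

theorem aiP_eq : aiP = aP⁻¹ := eq_inv_of_mul_eq_one_right aP_mul_aiP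

theorem bP_inv : bP⁻¹ = bP := inv_eq_of_mul_eq_one_right bP_mul_bP

theorem fix_spec : slot 9 mclA 0 = 0 ∧ slot 9 mclB 0 = 0 ∧ slot 9 mclA 1 ≠ 1 := by
  have h := fix_okK
  simp only [Bool.and_eq_true, Bool.not_eq_true'] at h
  refine ⟨beq_iff.mp h.1.1.1, beq_iff.mp h.1.2, ?_⟩
  intro h0
  have := h.2
  rw [h0] at this
  simp at this

theorem aP_fix : aP (0 : Fin 275) = 0 := by
  apply Fin.ext
  have h := rep_apply hA (show 0 < 275 by norm_num)
  exact h.trans fix_spec.1

theorem bP_fix : bP (0 : Fin 275) = 0 := by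
  apply Fin.ext
  have h := rep_apply hB (show 0 < 275 by norm_num)
  exact h.trans fix_spec.2.1

theorem aP_ne : aP ≠ 1 := by
  intro h
  have h1 := rep_apply hA (show 1 < 275 by norm_num)
  rw [h] at h1
  exact fix_spec.2.2 h1.symm

/-! ### The relators -/

/-- the table of a letter -/
def tabOf (l : ℕ) : ℕ :=
  match l with
  | 0 => mclA
  | 1 => mclAi
  | _ => mclB

/-- the function of a word -/
def wlook : List ℕ → ℕ → ℕ
  | [], i => i
  | a :: w, i => wlook w (slot 9 (tabOf a) i)

theorem rep_gc2 : ∀ l, l < 4 → Rep (slot 9 (tabOf l)) (gc2 aP bP l) := by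
  intro l hl
  interval_cases l
  · exact hA
  · show Rep (slot 9 mclAi) aP⁻¹
    rw [← aiP_eq]
    exact hAi
  · exact hB
  · show Rep (slot 9 mclB) bP⁻¹
    rw [bP_inv]
    exact hB

theorem rep_wlook : ∀ w : List ℕ, (∀ l ∈ w, l < 4) → Rep (wlook w) (prodw (gc2 aP bP) w) := by
  intro w
  induction w with
  | nil => intro _; exact rep_one
  | cons a w ih =>
    intro hw
    have h1 := ih (fun l hl => hw l (List.mem_cons_of_mem _ hl))
    have h2 := rep_gc2 a (hw a (List.mem_cons_self))
    exact rep_congr (rep_mul h1 h2) (fun _ _ => rfl)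

theorem rels_okK : Cfsg.Agent.Helper11.U43.rels.all (fun w => w.all (fun l => Nat.blt l 4) &&
    allN 275 (fun i => Nat.beq (wlook w i) i)) = true := by
  decide +kernel

theorem hrelP : ∀ w ∈ Cfsg.Agent.Helper11.U43.rels, prodw (gc2 aP bP) w = 1 := by
  intro w hw
  have h := List.all_eq_true.mp rels_okK w hw
  rw [Bool.and_eq_true] at h
  have h4 : ∀ l ∈ w, l < 4 := fun l hl => blt_iff.mp (List.all_eq_true.mp h.1 l hl)
  apply rep_unique (f := fun i => i) _ rep_one
  apply rep_congr (rep_wlook w h4)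
  intro i hi
  exact (beq_iff.mp (allN_spec h.2 i hi)).symm

/-! ### The stabiliser -/

/-- the elements in `K` -/
noncomputable def aK : ↥K := ⟨aP, aP_mem⟩
noncomputable def bK : ↥K := ⟨bP, bP_mem⟩

/-- the stabiliser of the point `0` in `K` -/
noncomputable def S : Subgroup ↥K := MulAction.stabilizer ↥K (0 : Fin 275)

theorem aK_mem : aK ∈ S := by
  show aK • (0 : Fin 275) = 0
  exact aP_fix

theorem bK_mem : bK ∈ S := by
  show bK • (0 : Fin 275) = 0
  exact bP_fix

theorem card_S : Nat.card ↥S = 3265920 := Cfsg.Agent.Helper22.McLStab.card_stab0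

/-- the generators in the stabiliser -/
noncomputable def aS : ↥S := ⟨aK, aK_mem⟩
noncomputable def bS : ↥S := ⟨bK, bK_mem⟩

theorem hrelS : ∀ w ∈ Cfsg.Agent.Helper11.U43.rels, prodw (gc2 aS bS) w = 1 := by
  intro w hw
  apply Subtype.ext
  apply Subtype.ext
  have h := map_prodw (K.subtype.comp S.subtype) aS bS w
  have h' : ((prodw (gc2 aS bS) w : ↥S) : ↥K).1 = prodw (gc2 aP bP) w := h
  rw [h']
  exact hrelP w hw

theorem aS_ne : aS ≠ 1 := by
  intro h
  apply aP_ne
  have := congrArg (fun g : ↥S => ((g : ↥K) : Pm 275)) h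
  exact this

/-- the point stabiliser of the McLaughlin group on 275 points is `PSU₄(3)`. -/
theorem nonempty_equiv_S {F : Type*} [Field F] [Fintype F] (hF : Fintype.card F = 9) :
    Nonempty (↥(MulAction.stabilizer ↥K (0 : Fin 275)) ≃* Cfsg.PSU 4 F 3) :=
  Cfsg.Agent.Helper11.U43.nonempty_equiv_PSU43_of_mem card_S aS bS hrelS aS_ne hF

end Cfsg.Agent.Helper11.McLStab
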