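import Mathlib

set_option autoImplicit false

namespace Cfsg.Agent.Helper11.NilSq

open Module

variable {F V : Type*} [Field F] [AddCommGroup V] [Module F V] [FiniteDimensional F V]

/-- A basis adapted to an endomorphism of square zero: `f` maps the first block onto the second
and kills the second and third blocks. -/
theorem exists_adapted_basis (f : V →ₗ[F] V) (hf : f ∘ₗ f = 0) {r d : ℕ}
    (hr : finrank F (LinearMap.range f) = r) (hd : 2 * r + d = finrank F V) :
    ∃ b : Basis (Fin r ⊕ (Fin r ⊕ Fin d)) F V,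
      (∀ i, f (b (Sum.inl i)) = b (Sum.inr (Sum.inl i))) ∧ (∀ k, f (b (Sum.inr k)) = 0) := by
  classical
  have hff : ∀ v, f (f v) = 0 := fun v => LinearMap.congr_fun hf v
  have hIK : LinearMap.range f ≤ LinearMap.ker f := by
    rintro _ ⟨v, rfl⟩
    exact hff v
  set K := LinearMap.ker f with hKdef
  let I' : Submodule F K := (LinearMap.range f).comap K.subtype
  obtain ⟨D', hD'⟩ := Submodule.exists_isCompl I'
  have hI' : finrank F I' = r := by
    rw [← hr]
    exact (Submodule.comapSubtypeEquivOfLe hIK).finrank_eq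
  have hK : finrank F K = r + d := by
    have := LinearMap.finrank_range_add_finrank_ker f
    rw [← hKdef] at this
    omega
  have hD'dim : finrank F D' = d := by
    have := Submodule.finrank_add_eq_of_isCompl hD'
    omega
  let w : Basis (Fin r) F (LinearMap.range f) := Module.finBasisOfFinrankEq F _ hr
  let u : Basis (Fin d) F D' := Module.finBasisOfFinrankEq F _ hD'dim
  have hc : ∀ i, ∃ c, f c = (w i : V) := fun i => (w i).2
  choose c hc using hc
  let wc : Fin r → V := fun i => (w i : V)
  let uc : Fin d → V := fun j => ((u j : K) : V)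
  have hw_li : LinearIndependent F wc :=
    w.linearIndependent.map' (LinearMap.range f).subtype (Submodule.ker_subtype _)
  have hu_li : LinearIndependent F uc :=
    (u.linearIndependent.map' D'.subtype (Submodule.ker_subtype _)).map' K.subtype
      (Submodule.ker_subtype _)
  have hwspan : Submodule.span F (Set.range wc) ≤ LinearMap.range f := by
    rw [Submodule.span_le]
    rintro _ ⟨i, rfl⟩
    exact (w i).2
  have huspan : Submodule.span F (Set.range uc) ≤ D'.map K.subtype := by
    rw [Submodule.span_le]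
    rintro _ ⟨j, rfl⟩
    exact ⟨u j, (u j).2, rfl⟩
  have hdisj1 : Disjoint (LinearMap.range f) (D'.map K.subtype) := by
    rw [Submodule.disjoint_def]
    rintro x hx1 ⟨y, hy, rfl⟩
    have hyI : y ∈ I' := hx1
    have : y ∈ I' ⊓ D' := ⟨hyI, hy⟩
    rw [hD'.inf_eq_bot] at this
    rw [(Submodule.mem_bot F).1 this]
    rfl
  have hwu_li : LinearIndependent F (Sum.elim wc uc) :=
    hw_li.sum_type hu_li (hdisj1.mono hwspan huspan)
  have hfc : f ∘ c = wc := funext hc
  have hc_li : LinearIndependent F c := by
    apply LinearIndependent.of_comp f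
    rw [hfc]
    exact hw_li
  have hwuker : Submodule.span F (Set.range (Sum.elim wc uc)) ≤ K := by
    rw [Submodule.span_le]
    rintro _ ⟨k, rfl⟩
    rcases k with i | j
    · exact hIK (w i).2
    · exact (u j : K).2
  have hdisj2 : Disjoint (Submodule.span F (Set.range c)) K := by
    rw [Submodule.disjoint_def]
    intro x hx1 hx2
    obtain ⟨l, rfl⟩ := (Submodule.mem_span_range_iff_exists_fun F).1 hx1
    have hx3 : f (∑ i, l i • c i) = 0 := hx2
    rw [map_sum] at hx3
    simp only [map_smul, hc] at hx3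
    have hl := (Fintype.linearIndependent_iff.1 hw_li) l hx3
    simp [hl]
  have hli : LinearIndependent F (Sum.elim c (Sum.elim wc uc)) :=
    hc_li.sum_type hwu_li (hdisj2.mono_right hwuker)
  have hcard : Fintype.card (Fin r ⊕ (Fin r ⊕ Fin d)) = finrank F V := by
    simp only [Fintype.card_sum, Fintype.card_fin]
    omega
  let b := basisOfLinearIndependentOfCardEqFinrank' _ hli hcard
  refine ⟨b, ?_, ?_⟩
  · intro i
    simp only [b, coe_basisOfLinearIndependentOfCardEqFinrank', Sum.elim_inl, Sum.elim_inr]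
    exact hc i
  · rintro (i | j)
    · simp only [b, coe_basisOfLinearIndependentOfCardEqFinrank', Sum.elim_inl, Sum.elim_inr]
      exact hIK (w i).2
    · simp only [b, coe_basisOfLinearIndependentOfCardEqFinrank', Sum.elim_inr]
      exact (u j : K).2

end Cfsg.Agent.Helper11.NilSq

namespace Cfsg.Agent.Helper11.NilSq

open Module

variable {F V : Type*} [Field F] [AddCommGroup V] [Module F V] [FiniteDimensional F V]

/-- Two nonzero square-zero endomorphisms of the same rank are conjugate under an automorphism of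
determinant one, provided every element of the field is a square. -/
theorem exists_conj_det_one (f f' : V →ₗ[F] V) (hf : f ∘ₗ f = 0) (hf' : f' ∘ₗ f' = 0)
    (hrank : finrank F (LinearMap.range f) = finrank F (LinearMap.range f')) (hne : f ≠ 0)
    (hsq : ∀ x : F, IsSquare x) :
    ∃ φ : V ≃ₗ[F] V, φ.toLinearMap ∘ₗ f = f' ∘ₗ φ.toLinearMap ∧
      LinearMap.det φ.toLinearMap = 1 := by
  classical
  have hff : ∀ v, f (f v) = 0 := fun v => LinearMap.congr_fun hf v
  have hIK : LinearMap.range f ≤ LinearMap.ker f := by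
    rintro _ ⟨v, rfl⟩
    exact hff v
  obtain ⟨r, hr⟩ : ∃ r, finrank F (LinearMap.range f) = r := ⟨_, rfl⟩
  have h2r : 2 * r ≤ finrank F V := by
    have h1 := LinearMap.finrank_range_add_finrank_ker f
    have h2 := Submodule.finrank_mono hIK
    omega
  obtain ⟨d, hd⟩ : ∃ d, 2 * r + d = finrank F V := ⟨finrank F V - 2 * r, by omega⟩
  have hr1 : 0 < r := by
    rw [← hr, Module.finrank_pos_iff_exists_ne_zero]
    have : ∃ v, f v ≠ 0 := by
      by_contra h
      push Not at h
      exact hne (LinearMap.ext h)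
    obtain ⟨v, hv⟩ := this
    exact ⟨⟨f v, LinearMap.mem_range_self f v⟩, fun h => hv (congrArg Subtype.val h)⟩
  obtain ⟨b, hb1, hb2⟩ := exists_adapted_basis f hf hr hd
  obtain ⟨b', hb1', hb2'⟩ := exists_adapted_basis f' hf' (hrank ▸ hr) hd
  let φ₀ : V ≃ₗ[F] V := b.equiv b' (Equiv.refl _)
  have hδ : LinearMap.det φ₀.toLinearMap ≠ 0 := (LinearEquiv.isUnit_det' φ₀).ne_zero
  obtain ⟨μ, hμ⟩ := hsq (LinearMap.det φ₀.toLinearMap)⁻¹
  have hμ0 : μ ≠ 0 := by
    intro h
    rw [h, mul_zero] at hμ
    exact inv_ne_zero hδ hμ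
  let μu : Fˣ := Units.mk0 μ hμ0
  let i₀ : Fin r := ⟨0, hr1⟩
  let s : Fin r ⊕ (Fin r ⊕ Fin d) → Fˣ :=
    Sum.elim (fun i => if i = i₀ then μu else 1)
      (Sum.elim (fun i => if i = i₀ then μu else 1) (fun _ => 1))
  let σ : V ≃ₗ[F] V := b.equiv (b.unitsSMul s) (Equiv.refl _)
  have hσ : ∀ k, σ (b k) = (s k : F) • b k := by
    intro k
    simp only [σ, Basis.equiv_apply, Equiv.refl_apply, Basis.unitsSMul_apply, Units.smul_def]
  have hφ₀ : ∀ k, φ₀ (b k) = b' k := by
    intro k
    simp only [φ₀, Basis.equiv_apply, Equiv.refl_apply]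
  refine ⟨σ.trans φ₀, ?_, ?_⟩
  · apply b.ext
    intro k
    simp only [LinearMap.comp_apply, LinearEquiv.coe_coe, LinearEquiv.trans_apply]
    rcases k with i | k'
    · rw [hb1, hσ, hσ, map_smul, map_smul, hφ₀, hφ₀, map_smul, hb1']
      rfl
    · rw [hb2, hσ, map_smul, hφ₀, map_smul, hb2', map_zero, map_zero, smul_zero]
  · have hM : LinearMap.toMatrix b b σ.toLinearMap = Matrix.diagonal (fun k => (s k : F)) := by
      ext k l
      rw [LinearMap.toMatrix_apply, LinearEquiv.coe_coe, hσ, map_smul,
        Basis.repr_self, Matrix.diagonal_apply]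
      by_cases hkl : k = l
      · subst hkl; simp
      · have : l ≠ k := fun h => hkl h.symm
        simp [hkl, Finsupp.single_apply, this]
    have hdσ : LinearMap.det σ.toLinearMap = μ * μ := by
      rw [← LinearMap.det_toMatrix b, hM, Matrix.det_diagonal, Fintype.prod_sum_type,
        Fintype.prod_sum_type]
      simp only [s, Sum.elim_inl, Sum.elim_inr]
      have h1 : ∏ i : Fin r, (((if i = i₀ then μu else 1 : Fˣ)) : F) = μ := by
        rw [Finset.prod_eq_single i₀]
        · simp [μu]
        · intro j _ hj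
          simp [hj]
        · intro h
          exact absurd (Finset.mem_univ _) h
      rw [h1]
      simp
    have hcomp : (σ.trans φ₀).toLinearMap = φ₀.toLinearMap ∘ₗ σ.toLinearMap := rfl
    rw [hcomp, LinearMap.det_comp, hdσ, ← hμ, mul_inv_cancel₀ hδ]

end Cfsg.Agent.Helper11.NilSq
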