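import Mathlib
import Cfsg.Agent.Helper11.NoSimple
import Cfsg.Agent.Helper11.SelfCent
import Cfsg.Agent.Helper27.RegZ

/-!
# There is no simple group of order `1080`

A Sylow `5`-subgroup `P` has `|N(P)| = 30`, `|C(P)| = 15`; an element `x` of order `3` of `C(P)`
has `45 ∣ |C(x)|`, and `C(x)` has index at least `9`, so `|C(x)| ∈ {45, 90}`; in both cases a
subgroup of order `45` contains `P`, hence normalises it, against `|N(P)| = 30`.
-/

set_option autoImplicit false

namespace Cfsg.Agent.Helper11.NoSimple1080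

open Cfsg.Agent.Helper11

/-- in a `p`-group of order at least `p²` every element has a centraliser of order at least `p²` -/
theorem sq_dvd_card_inf_centralizer {G : Type*} [Group G] [Finite G] {p : ℕ} [Fact p.Prime]
    (Q : Subgroup G) (hQ : IsPGroup p Q) (hcard : p ^ 2 ∣ Nat.card Q) {x : G} (hx : x ∈ Q) :
    p ^ 2 ∣ Nat.card ↥(Q ⊓ Subgroup.centralizer ({x} : Set G)) := by
  have hp : p.Prime := Fact.out
  set D := Q ⊓ Subgroup.centralizer ({x} : Set G) with hD
  have hDp : IsPGroup p D := hQ.to_le inf_le_left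
  obtain ⟨k, hk⟩ := hDp.exists_card_eq
  rw [hk]
  by_cases h2 : 2 ≤ k
  · exact pow_dvd_pow p h2
  exfalso
  have hQ1 : 1 < Nat.card Q := by
    have := Nat.le_of_dvd Nat.card_pos hcard
    have h4 : 1 < p ^ 2 := Nat.one_lt_pow (by norm_num) hp.one_lt
    omega
  have : Nontrivial Q := Finite.one_lt_card_iff_nontrivial.mp hQ1
  have hcen := hQ.center_nontrivial
  obtain ⟨⟨z, hzc⟩, hz1⟩ := exists_ne (1 : Subgroup.center Q)
  have hz1' : z ≠ 1 := fun h => hz1 (Subtype.ext h)
  have hzD : (z : G) ∈ D := by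
    refine Subgroup.mem_inf.2 ⟨z.2, ?_⟩
    rw [Subgroup.mem_centralizer_iff]
    intro h hh
    rw [Set.mem_singleton_iff] at hh
    subst hh
    have := (Subgroup.mem_center_iff.1 hzc) ⟨h, hx⟩
    exact congrArg Subtype.val this
  have hxD : x ∈ D := by
    refine Subgroup.mem_inf.2 ⟨hx, ?_⟩
    rw [Subgroup.mem_centralizer_iff]
    intro h hh
    rw [Set.mem_singleton_iff] at hh
    rw [hh]
  have hk1 : k = 1 := by
    have hk0 : k ≠ 0 := by
      rintro rfl
      rw [pow_zero] at hk
      have : Subsingleton D := (Nat.card_eq_one_iff_unique.mp hk).1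
      have := Subsingleton.elim (⟨(z : G), hzD⟩ : D) 1
      have h3 : (z : G) = 1 := congrArg Subtype.val this
      exact hz1' (Subtype.ext h3)
    omega
  rw [hk1, pow_one] at hk
  have htop := zpowers_eq_top_of_prime_card hk (g := (⟨(z : G), hzD⟩ : D))
    (fun h => hz1' (Subtype.ext (show (z : G) = 1 from congrArg Subtype.val h)))
  have hxz : (⟨x, hxD⟩ : D) ∈ Subgroup.zpowers (⟨(z : G), hzD⟩ : D) := by
    rw [htop]; exact Subgroup.mem_top _
  obtain ⟨n, hn⟩ := Subgroup.mem_zpowers_iff.1 hxz
  have hxn : (z : G) ^ n = x := by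
    have := congrArg Subtype.val hn
    simpa using this
  have hxc : (⟨x, hx⟩ : Q) ∈ Subgroup.center Q := by
    have : (⟨x, hx⟩ : Q) = z ^ n := by
      apply Subtype.ext
      simp [hxn]
    rw [this]
    exact Subgroup.zpow_mem _ hzc n
  have hQD : Q ≤ D := by
    intro q hq
    refine Subgroup.mem_inf.2 ⟨hq, ?_⟩
    rw [Subgroup.mem_centralizer_iff]
    intro h hh
    rw [Set.mem_singleton_iff] at hh
    subst hh
    have := (Subgroup.mem_center_iff.1 hxc) ⟨q, hq⟩
    exact (congrArg Subtype.val this).symm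
  have hQD' : Q = D := le_antisymm hQD inf_le_left
  rw [← hQD'] at hk
  rw [hk] at hcard
  have : p ^ 2 ≤ p := Nat.le_of_dvd hp.pos hcard
  have h4 : p < p ^ 2 := by
    rw [sq]; exact lt_mul_of_one_lt_left hp.pos hp.one_lt
  omega

/-- a subgroup of order `45` normalises its Sylow `5`-subgroup -/
theorem le_normalizer_of_card_45 {G : Type*} [Group G] [Finite G] [Fact (Nat.Prime 5)]
    (P : Sylow 5 G) (L : Subgroup G) (hL : Nat.card L = 45) (hPL : (P : Subgroup G) ≤ L) :
    L ≤ Subgroup.normalizer ((P : Subgroup G) : Set G) := by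
  have h1 := card_sylow_mem_filter (G := L) (p := 5) 9 1 (by rw [hL]; norm_num) (by norm_num)
  have h2 : (Nat.divisors 9).filter (fun d => d % 5 = 1) = {1} := by decide
  rw [h2, Finset.mem_singleton] at h1
  have : Subsingleton (Sylow 5 L) := (Nat.card_eq_one_iff_unique.mp h1).1
  have hn : ((P.subtype hPL : Sylow 5 L) : Subgroup L).Normal := Sylow.normal_of_subsingleton _
  rw [Sylow.coe_subtype] at hn
  exact (Subgroup.normal_subgroupOf_iff_le_normalizer hPL).1 hn

/-- there is no simple group of order `1080` -/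
theorem no_simple_1080 {G : Type*} [Group G] [Finite G] [IsSimpleGroup G]
    (hcard : Nat.card G = 1080) : False := by
  classical
  have hG : ¬ IsMulCommutative G := simple_noncomm_of_card (by rw [hcard]; norm_num)
  have : Fact (Nat.Prime 5) := ⟨by norm_num⟩
  have : Fact (Nat.Prime 3) := ⟨by norm_num⟩
  have : Fact (Nat.Prime 2) := ⟨by norm_num⟩
  -- no proper subgroup of index at most `8`
  have hidx : ∀ H : Subgroup G, H ≠ ⊤ → 9 ≤ H.index := by
    intro H hH
    by_contra hlt
    have h1 := simple_two_mul_card_dvd_factorial hG H hH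
    rw [hcard] at h1
    have h8 : H.index ≤ 8 := by omega
    have h2 : H.index.factorial ∣ Nat.factorial 8 := Nat.factorial_dvd_factorial h8
    have h3 := h1.trans h2
    norm_num [Nat.factorial] at h3
  -- the Sylow `5`-subgroups
  obtain ⟨P⟩ : Nonempty (Sylow 5 G) := inferInstance
  obtain ⟨hPc, hPi⟩ := sylow_card_of_card_eq_pow (p := 5) 216 1 (by rw [hcard]; norm_num) (by norm_num) P
  rw [pow_one] at hPc
  obtain ⟨hk1, hk4, hkC, h5C⟩ := simple_automizer_data hG 5 P hPc
  set N := Subgroup.normalizer ((P : Subgroup G) : Set G) with hN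
  set C := Subgroup.centralizer ((P : Subgroup G) : Set G) with hC
  have hn5 := card_sylow_mem_filter (G := G) (p := 5) 216 1 (by rw [hcard]; norm_num) (by norm_num)
  rw [P.card_eq_index_normalizer] at hn5
  change N.index ∈ _ at hn5
  have hNtop : N ≠ ⊤ := simple_normalizer_sylow_ne_top hG 5 (by rw [hcard]; norm_num) P
  have hN9 := hidx N hNtop
  have hfil : (Nat.divisors 216).filter (fun d => d % 5 = 1) = {1, 6, 36, 216} := by decide
  rw [hfil] at hn5
  simp only [Finset.mem_insert, Finset.mem_singleton] at hn5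
  have hNc := N.card_mul_index
  rw [hcard] at hNc
  have hk : C.relIndex N ≤ 4 := Nat.le_of_dvd (by norm_num) hk4
  have hC15 : Nat.card C = 15 ∧ Nat.card N = 30 := by
    obtain ⟨c, hc⟩ := h5C
    rcases hn5 with h | h | h | h
    · omega
    · omega
    · rw [h] at hNc
      have hN30 : Nat.card N = 30 := by omega
      rw [hN30, hc] at hkC
      generalize C.relIndex N = k at *
      interval_cases k <;> omega
    · rw [h] at hNc
      have hN5 : Nat.card N = 5 := by omega
      rw [hN5, hc] at hkC
      generalize C.relIndex N = k at *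
      interval_cases k <;> omega
  obtain ⟨hC15, hN30⟩ := hC15
  -- an element of order `3` centralising `P`
  obtain ⟨x, hx⟩ := exists_prime_orderOf_dvd_card' (G := C) 3 (by rw [hC15]; norm_num)
  have hx3 : orderOf (x : G) = 3 := by rw [Subgroup.orderOf_coe]; exact hx
  set M := Subgroup.centralizer ({(x : G)} : Set G) with hM
  have hPM : (P : Subgroup G) ≤ M := by
    intro g hg
    rw [hM, Subgroup.mem_centralizer_iff]
    intro h hh
    rw [Set.mem_singleton_iff] at hh
    subst hh
    exact ((Subgroup.mem_centralizer_iff.1 x.2) g hg).symm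
  have h5M : 5 ∣ Nat.card M := by
    have := Subgroup.card_dvd_of_le hPM
    rwa [hPc] at this
  -- a Sylow `3`-subgroup containing `x`
  have hx3' : orderOf (x : G) ∣ 3 ^ 1 := by rw [hx3, pow_one]
  obtain ⟨Q, hQ⟩ := exists_sylow_mem_of_orderOf_dvd_pow (x : G) 1 hx3'
  obtain ⟨hQc, -⟩ := sylow_card_of_card_eq_pow (p := 3) 40 3 (by rw [hcard]; norm_num) (by norm_num) Q
  have h9D := sq_dvd_card_inf_centralizer (p := 3) (Q : Subgroup G) Q.2
    (by rw [hQc]; norm_num) hQ
  have h9M : 9 ∣ Nat.card M := by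
    have h1 : (3 : ℕ) ^ 2 = 9 := by norm_num
    rw [h1] at h9D
    exact h9D.trans (Subgroup.card_dvd_of_le inf_le_right)
  have h45 : 45 ∣ Nat.card M := by
    have : Nat.Coprime 5 9 := by norm_num
    exact this.mul_dvd_of_dvd_of_dvd h5M h9M
  -- `M` is a proper subgroup
  have hMtop : M ≠ ⊤ := by
    intro h
    have hxc : (x : G) ∈ Subgroup.center G := by
      rw [Subgroup.mem_center_iff]
      intro g
      have hg : g ∈ M := by rw [h]; exact Subgroup.mem_top g
      rw [hM, Subgroup.mem_centralizer_iff] at hg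
      exact (hg _ rfl).symm
    have hcn : (Subgroup.center G).Normal := inferInstance
    rcases hcn.eq_bot_or_eq_top with hb | ht
    · rw [hb, Subgroup.mem_bot] at hxc
      rw [hxc, orderOf_one] at hx3
      omega
    · apply hG
      exact ⟨⟨fun a b => by
        have : a ∈ Subgroup.center G := by rw [ht]; exact Subgroup.mem_top a
        exact ((Subgroup.mem_center_iff.1 this) b).symm⟩⟩
  have hM9 := hidx M hMtop
  have hMc := M.card_mul_index
  rw [hcard] at hMc
  obtain ⟨t, ht⟩ := h45
  have htc : t = 1 ∨ t = 2 := by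
    rw [ht] at hMc
    have h24 : t * M.index = 24 := by nlinarith
    have ht2 : t ≤ 2 := by nlinarith
    interval_cases t <;> omega
  have h30 : ∀ L : Subgroup G, Nat.card L = 45 → (P : Subgroup G) ≤ L → False := by
    intro L hL hPL
    have h1 := Subgroup.card_dvd_of_le (le_normalizer_of_card_45 P L hL hPL)
    rw [hL, ← hN, hN30] at h1
    omega
  rcases htc with rfl | rfl
  · exact h30 M (by rw [ht]) hPM
  · -- `|M| = 90`: a subgroup of index `2`
    have hM90 : Nat.card M = 90 := by rw [ht]
    obtain ⟨S⟩ : Nonempty (Sylow 2 M) := inferInstance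
    obtain ⟨hSc, -⟩ := sylow_card_of_card_eq_pow (p := 2) 45 1 (by rw [hM90]; norm_num) (by norm_num) S
    rw [pow_one] at hSc
    have hScyc : IsCyclic S := isCyclic_of_prime_card hSc
    obtain ⟨M₀, hM₀n, hM₀i⟩ := Cfsg.Agent.Helper27.RegZ.exists_index_two_of_cyclic_sylow S hScyc
      (by rw [hM90]; norm_num)
    have hM₀c : Nat.card M₀ = 45 := by
      have := M₀.card_mul_index
      rw [hM₀i, hM90] at this
      omega
    apply h30 (M₀.map M.subtype)
    · rw [← hM₀c]
      exact (Nat.card_congr (M₀.equivMapOfInjective M.subtype M.subtype_injective).toEquiv).symm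
    · intro g hg
      have hgM : g ∈ M := hPM hg
      have h5 : g ^ 5 = 1 := by
        have := pow_card_eq_one' (G := (P : Subgroup G)) (x := ⟨g, hg⟩)
        rw [hPc] at this
        exact congrArg Subtype.val this
      have hsq : ((⟨g, hgM⟩ : M) ^ 3) ^ 2 ∈ M₀ := Subgroup.sq_mem_of_index_two hM₀i _
      refine ⟨⟨g, hgM⟩, ?_, rfl⟩
      have e : ((⟨g, hgM⟩ : M) ^ 3) ^ 2 = ⟨g, hgM⟩ := by
        apply Subtype.ext
        show (g ^ 3) ^ 2 = g
        rw [← pow_mul, show 3 * 2 = 5 + 1 by norm_num, pow_succ, h5, one_mul]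
      rwa [e] at hsq

end Cfsg.Agent.Helper11.NoSimple1080
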