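import Mathlib
import Cfsg.Agent.Helper11.SelfCent
import Cfsg.Agent.Helper11.NoSimple
import Cfsg.Agent.Helper11.SylowCount
import Cfsg.Agent.Helper11.SimpleTools
import Cfsg.Agent.Helper11.OrderP

set_option autoImplicit false

/-!
# Simple groups of order 504 (part A)

A transfer lemma for abelian Sylow subgroups, and the prime 7.
-/

namespace Cfsg.Agent.Helper11.O504

open Cfsg.Agent.Helper11

/-- In a finite perfect group, an element of an abelian Sylow `p`-subgroup `P` that commutes with
the whole normalizer of `P` is trivial. -/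
theorem eq_one_of_central_normalizer {G : Type*} [Group G] [Finite G] (hperf : commutator G = ⊤)
    {p : ℕ} [Fact p.Prime] (P : Sylow p G) (hPc : ∀ a ∈ (P : Subgroup G), ∀ b ∈ (P : Subgroup G), a * b = b * a)
    (x : G) (hx : x ∈ (P : Subgroup G))
    (hcent : ∀ n ∈ Subgroup.normalizer ((P : Subgroup G) : Set G), n * x = x * n) : x = 1 := by
  have hp : p.Prime := Fact.out
  have : IsMulCommutative ↥(P : Subgroup G) :=
    ⟨⟨fun a b => Subtype.ext (hPc a.1 a.2 b.1 b.2)⟩⟩
  let _ : CommGroup ↥(P : Subgroup G) := { mul_comm := fun a b => Subtype.ext (hPc a.1 a.2 b.1 b.2) }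
  have key : ∀ (k : ℕ) (g₀ : G), g₀⁻¹ * x ^ k * g₀ ∈ (P : Subgroup G) → g₀⁻¹ * x ^ k * g₀ = x ^ k := by
    intro k g₀ h
    have hxk : x ^ k ∈ (P : Subgroup G) := Subgroup.pow_mem _ hx k
    obtain ⟨n, hn, hn'⟩ := P.conj_eq_normalizer_conj_of_mem (x ^ k) g₀ hxk h
    rw [hn']
    have h1 : n * x ^ k = x ^ k * n := by
      have : Commute n x := hcent n hn
      exact (this.pow_right k).eq
    rw [mul_assoc, ← h1, ← mul_assoc, inv_mul_cancel, one_mul]
  have h1 := MonoidHom.transfer_eq_pow (MonoidHom.id ↥(P : Subgroup G)) x key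
  -- the transfer is trivial since `G` is perfect
  have h2 : MonoidHom.transfer (MonoidHom.id ↥(P : Subgroup G)) x = 1 := by
    have hker : commutator G ≤ (MonoidHom.transfer (MonoidHom.id ↥(P : Subgroup G))).ker :=
      Abelianization.commutator_subset_ker _
    have : x ∈ commutator G := by rw [hperf]; trivial
    exact MonoidHom.mem_ker.mp (hker this)
  rw [h2] at h1
  have h3 : x ^ (P : Subgroup G).index = 1 := by
    have := congrArg Subtype.val h1.symm
    simpa using this
  -- `x` is a `p`-element and the index is prime to `p`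
  obtain ⟨k, hk⟩ := (P.2 : IsPGroup p ↥(P : Subgroup G)) ⟨x, hx⟩
  have hk' : x ^ p ^ k = 1 := by
    have := congrArg Subtype.val hk
    simpa using this
  have hcop : Nat.Coprime (p ^ k) (P : Subgroup G).index :=
    Nat.Coprime.pow_left k ((Nat.Prime.coprime_iff_not_dvd hp).mpr P.not_dvd_index)
  have h4 : orderOf x ∣ Nat.gcd (p ^ k) (P : Subgroup G).index :=
    Nat.dvd_gcd (orderOf_dvd_of_pow_eq_one hk') (orderOf_dvd_of_pow_eq_one h3)
  rw [hcop.gcd_eq_one, Nat.dvd_one] at h4
  exact orderOf_eq_one_iff.mp h4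

/-- A nonabelian simple group is perfect. -/
theorem commutator_eq_top {G : Type*} [Group G] [IsSimpleGroup G] (hG : ¬ IsMulCommutative G) :
    commutator G = ⊤ := by
  rcases (inferInstance : (commutator G).Normal).eq_bot_or_eq_top with h | h
  · exfalso
    apply hG
    refine ⟨⟨fun a b => ?_⟩⟩
    have : a * b * a⁻¹ * b⁻¹ ∈ commutator G := by
      have h1 := Subgroup.commutator_mem_commutator (Subgroup.mem_top a) (Subgroup.mem_top b)
      rwa [commutatorElement_def] at h1
    rw [h, Subgroup.mem_bot] at this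
    have h2 : a * b = (a * b * a⁻¹ * b⁻¹) * (b * a) := by group
    rw [h2, this, one_mul]
  · exact h

end Cfsg.Agent.Helper11.O504
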