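import Mathlib
import Cfsg.Agent.Helper11.O504A

set_option autoImplicit false
set_option linter.unusedSectionVars false

/-!
# Simple groups of order 504 (part B): the prime 7
-/

namespace Cfsg.Agent.Helper11.O504

open Cfsg.Agent.Helper11

variable {G : Type*} [Group G] [Finite G] [IsSimpleGroup G]

theorem noncomm (h : Nat.card G = 504) : ¬ IsMulCommutative G :=
  simple_noncomm_of_card (by rw [h]; norm_num)

theorem perfect (h : Nat.card G = 504) : commutator G = ⊤ := commutator_eq_top (noncomm h)

theorem card_sylow7 (h : Nat.card G = 504) (P : Sylow 7 G) : Nat.card ↥(P : Subgroup G) = 7 := by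
  have : Fact (Nat.Prime 7) := ⟨by norm_num⟩
  exact (sylow_card_of_card_eq 72 (by rw [h]) (by norm_num) P).1

theorem n7 (h : Nat.card G = 504) : Nat.card (Sylow 7 G) = 36 := by
  have : Fact (Nat.Prime 7) := ⟨by norm_num⟩
  have hG' : Nat.card G = 72 * 7 ^ 1 := by rw [h]; norm_num
  have hmem := card_sylow_mem_filter 72 1 hG' (by norm_num)
  have hfilt : (Nat.divisors 72).filter (fun d => d % 7 = 1) = {1, 8, 36} := by decide
  rw [hfilt] at hmem
  simp only [Finset.mem_insert, Finset.mem_singleton] at hmem
  rcases hmem with h1 | h1 | h1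
  · exact absurd h1 (simple_card_sylow_ne_one (noncomm h) 7 (by rw [h]; norm_num))
  · exfalso
    obtain ⟨P⟩ : Nonempty (Sylow 7 G) := inferInstance
    have hidx : (Subgroup.normalizer ((P : Subgroup G) : Set G)).index = 7 + 1 := by
      have := P.card_eq_index_normalizer
      rw [h1] at this
      exact this.symm
    have h2 := simple_normalizer_dvd_of_index (noncomm h) 7 (by norm_num) _ (Or.inr hidx) P
      (card_sylow7 h P)
    have h3 := card_sylow_mul_card_normalizer P
    rw [h1, h] at h3
    have h4 : Nat.card ↥(Subgroup.normalizer ((P : Subgroup G) : Set G)) = 63 := by omega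
    rw [h4] at h2
    norm_num at h2
  · exact h1

theorem card_normalizer7 (h : Nat.card G = 504) (P : Sylow 7 G) :
    Nat.card ↥(Subgroup.normalizer ((P : Subgroup G) : Set G)) = 14 := by
  have : Fact (Nat.Prime 7) := ⟨by norm_num⟩
  have h2 := card_sylow_mul_card_normalizer P
  rw [n7 h, h] at h2
  omega

theorem card_centralizer7 (h : Nat.card G = 504) (P : Sylow 7 G) :
    Nat.card ↥(Subgroup.centralizer ((P : Subgroup G) : Set G)) = 7 := by
  have : Fact (Nat.Prime 7) := ⟨by norm_num⟩
  obtain ⟨h1, h2, h3, h4⟩ := simple_automizer_data (noncomm h) 7 P (card_sylow7 h P)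
  rw [card_normalizer7 h P] at h3
  set k := (Subgroup.centralizer ((P : Subgroup G) : Set G)).relIndex
        (Subgroup.normalizer ((P : Subgroup G) : Set G)) with hk
  set c := Nat.card ↥(Subgroup.centralizer ((P : Subgroup G) : Set G)) with hc
  have hk6 : k ∣ 6 := h2
  have hkmem : k ∈ Nat.divisors 6 := Nat.mem_divisors.2 ⟨hk6, by norm_num⟩
  have hcmem : c ∈ Nat.divisors 14 := Nat.mem_divisors.2 ⟨Dvd.intro_left k h3, by norm_num⟩
  have hdec : ∀ k ∈ Nat.divisors 6, ∀ c ∈ Nat.divisors 14, k ≠ 1 → k * c = 14 → 7 ∣ c → c = 7 := by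
    decide
  exact hdec k hkmem c hcmem h1 h3 h4

theorem orderOf_eq_seven (h : Nat.card G = 504) (g : G) (hg : 7 ∣ orderOf g) : orderOf g = 7 := by
  have : Fact (Nat.Prime 7) := ⟨by norm_num⟩
  exact orderOf_eq_prime_of_dvd (card_sylow7 h) (card_centralizer7 h) g hg

/-- no subgroup of index 7 -/
theorem index_ne_seven (h : Nat.card G = 504) (H : Subgroup G) : H.index ≠ 7 := by
  have : Fact (Nat.Prime 7) := ⟨by norm_num⟩
  intro hidx
  obtain ⟨P⟩ : Nonempty (Sylow 7 G) := inferInstance
  have h2 := simple_normalizer_dvd_of_index (noncomm h) 7 (by norm_num) H (Or.inl hidx) P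
    (card_sylow7 h P)
  rw [card_normalizer7 h P] at h2
  norm_num at h2

/-- no subgroup of order 72 -/
theorem card_ne_72 (h : Nat.card G = 504) (H : Subgroup G) : Nat.card ↥H ≠ 72 := by
  intro hH
  apply index_ne_seven h H
  have := H.index_mul_card
  rw [hH, h] at this
  omega

/-- an element commuting with an element of order 7 has order 1 or 7 -/
theorem orderOf_of_commute_seven (h : Nat.card G = 504) {c g : G} (hc : orderOf c = 7)
    (hcg : Commute c g) : orderOf g = 1 ∨ orderOf g = 7 := by
  -- `c * g` has order divisible by 7 unless ...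
  by_cases h7 : 7 ∣ orderOf g
  · exact Or.inr (orderOf_eq_seven h g h7)
  · left
    have hcop : Nat.Coprime (orderOf c) (orderOf g) := by
      rw [hc]; exact (Nat.Prime.coprime_iff_not_dvd (by norm_num)).mpr h7
    have h1 : orderOf (c * g) = orderOf c * orderOf g := hcg.orderOf_mul_eq_mul_orderOf_of_coprime hcop
    have h2 : 7 ∣ orderOf (c * g) := by rw [h1, hc]; exact Dvd.intro _ rfl
    have h3 := orderOf_eq_seven h _ h2
    rw [h1, hc] at h3
    omega

end Cfsg.Agent.Helper11.O504
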