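import Mathlib
import Cfsg.Agent.Helper11.O504B

set_option autoImplicit false
set_option linter.unusedSectionVars false

/-!
# Simple groups of order 504 (part C): the prime 3
-/

namespace Cfsg.Agent.Helper11.O504

open Cfsg.Agent.Helper11

variable {G : Type*} [Group G] [Finite G] [IsSimpleGroup G]

theorem card_sylow3 (h : Nat.card G = 504) (P : Sylow 3 G) : Nat.card ↥(P : Subgroup G) = 9 := by
  have : Fact (Nat.Prime 3) := ⟨by norm_num⟩
  have := (sylow_card_of_card_eq_pow 56 2 (by rw [h]; norm_num) (by norm_num) P).1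
  rw [this]; norm_num

theorem n3 (h : Nat.card G = 504) : Nat.card (Sylow 3 G) = 28 := by
  classical
  have : Fact (Nat.Prime 3) := ⟨by norm_num⟩
  have hG' : Nat.card G = 56 * 3 ^ 2 := by rw [h]; norm_num
  have hmem := card_sylow_mem_filter 56 2 hG' (by norm_num)
  have hfilt : (Nat.divisors 56).filter (fun d => d % 3 = 1) = {1, 4, 7, 28} := by decide
  rw [hfilt] at hmem
  simp only [Finset.mem_insert, Finset.mem_singleton] at hmem
  have h3G : 3 ∣ Nat.card G := by rw [h]; norm_num
  rcases hmem with h1 | h1 | h1 | h1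
  · exact absurd h1 (simple_card_sylow_ne_one (noncomm h) 3 h3G)
  · exfalso
    have h2 := simple_two_mul_card_dvd_factorial_card_sylow (noncomm h) 3 h3G
    rw [h1, h] at h2
    norm_num [Nat.factorial] at h2
  · exfalso
    obtain ⟨P⟩ : Nonempty (Sylow 3 G) := inferInstance
    apply index_ne_seven h (Subgroup.normalizer ((P : Subgroup G) : Set G))
    have := P.card_eq_index_normalizer
    rw [h1] at this
    exact this.symm
  · exact h1

theorem card_normalizer3 (h : Nat.card G = 504) (P : Sylow 3 G) :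
    Nat.card ↥(Subgroup.normalizer ((P : Subgroup G) : Set G)) = 18 := by
  have : Fact (Nat.Prime 3) := ⟨by norm_num⟩
  have h2 := card_sylow_mul_card_normalizer P
  rw [n3 h, h] at h2
  omega

theorem comm3 (h : Nat.card G = 504) (P : Sylow 3 G) :
    ∀ a ∈ (P : Subgroup G), ∀ b ∈ (P : Subgroup G), a * b = b * a := by
  have : Fact (Nat.Prime 3) := ⟨by norm_num⟩
  intro a ha b hb
  have h1 : Nat.card ↥(P : Subgroup G) = 3 ^ 2 := by rw [card_sylow3 h P]; norm_num
  have := (IsPGroup.isMulCommutative_of_card_eq_prime_sq h1).is_comm.comm ⟨a, ha⟩ ⟨b, hb⟩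
  exact congrArg Subtype.val this

theorem relIndex3 (h : Nat.card G = 504) (P : Sylow 3 G) :
    ((P : Subgroup G).subgroupOf (Subgroup.normalizer ((P : Subgroup G) : Set G))).index = 2 := by
  have h1 := Cfsg.Agent.Helper11.relIndex_mul_card (Subgroup.le_normalizer (H := (P : Subgroup G)))
  rw [card_sylow3 h P, card_normalizer3 h P] at h1
  have : (P : Subgroup G).relIndex (Subgroup.normalizer ((P : Subgroup G) : Set G)) = 2 := by omega
  exact this

/-- some element of the normalizer of a Sylow 3-subgroup inverts it -/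
theorem exists_invert3 (h : Nat.card G = 504) (P : Sylow 3 G) :
    ∃ u ∈ Subgroup.normalizer ((P : Subgroup G) : Set G), ∀ x ∈ (P : Subgroup G),
      u * x * u⁻¹ = x⁻¹ := by
  have : Fact (Nat.Prime 3) := ⟨by norm_num⟩
  set N := Subgroup.normalizer ((P : Subgroup G) : Set G) with hN
  have hPN : (P : Subgroup G) ≤ N := Subgroup.le_normalizer
  -- an element of `N` outside `P`
  have hex : ∃ u ∈ N, u ∉ (P : Subgroup G) := by
    by_contra hcon
    push Not at hcon
    have hle : N ≤ (P : Subgroup G) := hcon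
    have := Subgroup.card_le_of_le hle
    rw [card_normalizer3 h P, card_sylow3 h P] at this
    omega
  obtain ⟨u, huN, huP⟩ := hex
  refine ⟨u, huN, ?_⟩
  have hidx := relIndex3 h P
  have huinvN : u⁻¹ ∈ N := N.inv_mem huN
  have huinvP : u⁻¹ ∉ (P : Subgroup G) := fun hh => huP (by simpa using (P : Subgroup G).inv_mem hh)
  have hconj : ∀ x ∈ (P : Subgroup G), u * x * u⁻¹ ∈ (P : Subgroup G) := fun x hx =>
    (Subgroup.mem_normalizer_iff.mp huN x).mp hx
  have huu : u * u ∈ (P : Subgroup G) := by
    have := Subgroup.mul_self_mem_of_index_two hidx (⟨u, huN⟩ : ↥N)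
    simpa [Subgroup.mem_subgroupOf] using this
  intro x hx
  set y := x * (u * x * u⁻¹) with hy
  have hyP : y ∈ (P : Subgroup G) := (P : Subgroup G).mul_mem hx (hconj x hx)
  have hc := comm3 h P
  -- `u` commutes with `y`
  have huy : u * y = y * u := by
    have h1 : u * y * u⁻¹ = (u * x * u⁻¹) * ((u * u) * x * (u * u)⁻¹) := by
      rw [hy]; group
    have h2 : (u * u) * x * (u * u)⁻¹ = x := by
      rw [hc _ huu _ hx, mul_assoc, mul_inv_cancel, mul_one]
    rw [h2, hc _ (hconj x hx) _ hx] at h1
    calc u * y = (u * y * u⁻¹) * u := by group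
      _ = y * u := by rw [h1]
  have hcent : ∀ n ∈ N, n * y = y * n := by
    intro n hn
    by_cases hnP : n ∈ (P : Subgroup G)
    · exact hc _ hnP _ hyP
    · have h1 : u⁻¹ * n ∈ (P : Subgroup G) := by
        have := (Subgroup.mul_mem_iff_of_index_two hidx (a := (⟨u⁻¹, huinvN⟩ : ↥N))
          (b := (⟨n, hn⟩ : ↥N))).mpr (by
            simp only [Subgroup.mem_subgroupOf]
            exact ⟨fun hh => absurd hh huinvP, fun hh => absurd hh hnP⟩)
        simpa [Subgroup.mem_subgroupOf] using this
      have h2 : (u⁻¹ * n) * y = y * (u⁻¹ * n) := hc _ h1 _ hyP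
      calc n * y = u * ((u⁻¹ * n) * y) := by group
        _ = u * (y * (u⁻¹ * n)) := by rw [h2]
        _ = (u * y) * (u⁻¹ * n) := by group
        _ = (y * u) * (u⁻¹ * n) := by rw [huy]
        _ = y * n := by group
  have hy1 : y = 1 := eq_one_of_central_normalizer (perfect h) P hc y hyP hcent
  rw [hy] at hy1
  exact (eq_inv_of_mul_eq_one_right hy1)

end Cfsg.Agent.Helper11.O504
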