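import Mathlib
import Cfsg.Agent.Helper11.O504C

set_option autoImplicit false
set_option linter.unusedSectionVars false

/-!
# Simple groups of order 504 (part D): centralizers of elements of order 3
-/

namespace Cfsg.Agent.Helper11.O504

open Cfsg.Agent.Helper11

variable {G : Type*} [Group G] [Finite G] [IsSimpleGroup G]

/-- generic: the centralizer of `zpowers b` is the centralizer of `b` -/
theorem centralizer_zpowers_eq {H : Type*} [Group H] (b : H) :
    Subgroup.centralizer ((Subgroup.zpowers b : Subgroup H) : Set H) = Subgroup.centralizer ({b} : Set H) := by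
  ext x
  rw [Subgroup.mem_centralizer_iff, Subgroup.mem_centralizer_iff]
  constructor
  · intro hx y hy
    rw [Set.mem_singleton_iff] at hy
    subst hy
    exact hx _ (Subgroup.mem_zpowers y)
  · intro hx y hy
    obtain ⟨k, rfl⟩ := Subgroup.mem_zpowers_iff.mp hy
    have h1 : Commute b x := hx b rfl
    exact (h1.zpow_left k).eq

/-- generic: an element inverting `b` normalizes `zpowers b` -/
theorem mem_normalizer_zpowers_of_invert {H : Type*} [Group H] {b u : H} (hu : u * b * u⁻¹ = b⁻¹) :
    u ∈ Subgroup.normalizer ((Subgroup.zpowers b : Subgroup H) : Set H) := by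
  have hu' : u⁻¹ * b * u = b⁻¹ := by
    have : b = u⁻¹ * b⁻¹ * u := by rw [← hu]; group
    calc u⁻¹ * b * u = (u⁻¹ * b⁻¹ * u)⁻¹ := by group
      _ = b⁻¹ := by rw [← this]
  rw [Subgroup.mem_normalizer_iff]
  intro y
  constructor
  · intro hy
    obtain ⟨k, rfl⟩ := Subgroup.mem_zpowers_iff.mp hy
    have : u * b ^ k * u⁻¹ = (u * b * u⁻¹) ^ k := by
      rw [conj_zpow]
    rw [this, hu]
    exact Subgroup.zpow_mem _ (Subgroup.inv_mem _ (Subgroup.mem_zpowers b)) k
  · intro hy
    obtain ⟨k, hk⟩ := Subgroup.mem_zpowers_iff.mp hy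
    have h1 : y = u⁻¹ * (b ^ k) * u := by rw [hk]; group
    have h2 : u⁻¹ * b ^ k * u = (u⁻¹ * b * u) ^ k := by
      have := conj_zpow (a := u⁻¹) (b := b) (i := k)
      rw [inv_inv] at this
      exact this.symm
    rw [h1, h2, hu']
    exact Subgroup.zpow_mem _ (Subgroup.inv_mem _ (Subgroup.mem_zpowers b)) k

/-- the centralizer of an element of order 3 is the Sylow 3-subgroup containing it -/
theorem centralizer_three (h : Nat.card G = 504) (P : Sylow 3 G) {b : G} (hb : orderOf b = 3)
    (hbP : b ∈ (P : Subgroup G)) : Subgroup.centralizer ({b} : Set G) = (P : Subgroup G) := by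
  classical
  have : Fact (Nat.Prime 3) := ⟨by norm_num⟩
  have : Fact (Nat.Prime 7) := ⟨by norm_num⟩
  have : Fintype G := Fintype.ofFinite G
  set C := Subgroup.centralizer ({b} : Set G) with hC
  have hc := comm3 h P
  have hPC : (P : Subgroup G) ≤ C := by
    intro x hx
    rw [hC, Subgroup.mem_centralizer_iff]
    intro y hy
    rw [Set.mem_singleton_iff] at hy
    subst hy
    exact hc _ hbP _ hx
  obtain ⟨u, huN, hu⟩ := exists_invert3 h P
  have hub : u * b * u⁻¹ = b⁻¹ := hu b hbP
  have hbne : b ≠ b⁻¹ := by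
    intro hh
    have h1 : b ^ 2 = 1 := by
      rw [pow_two]
      nth_rw 2 [hh]
      exact mul_inv_cancel b
    have := orderOf_dvd_of_pow_eq_one h1
    rw [hb] at this
    norm_num at this
  have huC : u ∉ C := by
    intro hh
    rw [hC, Subgroup.mem_centralizer_iff] at hh
    have h1 : b * u = u * b := hh b rfl
    apply hbne
    rw [← hub, ← h1, mul_assoc, mul_inv_cancel, mul_one]
  -- the order of `C`
  have h9 : 9 ∣ Nat.card ↥C := by
    rw [← card_sylow3 h P]; exact Subgroup.card_dvd_of_le hPC
  have h7 : ¬ 7 ∣ Nat.card ↥C := by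
    intro h7
    have : Fintype ↥C := Fintype.ofFinite _
    rw [Nat.card_eq_fintype_card] at h7
    obtain ⟨c, hc7⟩ := exists_prime_orderOf_dvd_card 7 h7
    have hc7' : orderOf (c : G) = 7 := by rw [Subgroup.orderOf_coe]; exact hc7
    have hcb : Commute (c : G) b := by
      have h0 : (c : G) ∈ Subgroup.centralizer ({b} : Set G) := c.2
      rw [Subgroup.mem_centralizer_iff] at h0
      exact (h0 b rfl).symm
    rcases orderOf_of_commute_seven h hc7' hcb with h1 | h1 <;> rw [hb] at h1 <;> norm_num at h1
  have hdvd : Nat.card ↥C ∣ 504 := h ▸ Subgroup.card_subgroup_dvd_card C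
  -- the normalizer of `zpowers b`
  set Z := Subgroup.zpowers b with hZ
  set N := Subgroup.normalizer ((Z : Subgroup G) : Set G) with hN
  have hCZ : Subgroup.centralizer ((Z : Subgroup G) : Set G) = C := centralizer_zpowers_eq b
  have huN' : u ∈ N := mem_normalizer_zpowers_of_invert hub
  have hrel := relIndex_centralizer_normalizer_dvd_card_mulAut Z
  have hcardZ : Nat.card ↥Z = 3 := by rw [hZ, Nat.card_zpowers, hb]
  have : IsCyclic ↥Z := by rw [hZ]; infer_instance
  rw [IsCyclic.card_mulAut, hcardZ, hCZ] at hrel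
  have htot : Nat.totient 3 = 2 := by decide
  rw [htot] at hrel
  have hrel1 : C.relIndex N ≠ 1 := by
    intro h1
    rw [Subgroup.relIndex_eq_one] at h1
    exact huC (h1 huN')
  have hrel2 : C.relIndex N = 2 := by
    rcases (Nat.dvd_prime Nat.prime_two).mp hrel with h1 | h1
    · exact absurd h1 hrel1
    · exact h1
  have hCN : C ≤ N := by
    rw [← hCZ]; exact Subgroup.centralizer_le_normalizer _
  have hNcard : Nat.card ↥N = 2 * Nat.card ↥C := by
    have := Cfsg.Agent.Helper11.relIndex_mul_card hCN
    rw [hrel2] at this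
    exact this.symm
  have hNdvd : 2 * Nat.card ↥C ∣ 504 := by
    rw [← hNcard]; exact h ▸ Subgroup.card_subgroup_dvd_card N
  have hN72 : 2 * Nat.card ↥C ≠ 72 := by
    rw [← hNcard]; exact card_ne_72 h N
  have hcases : Nat.card ↥C = 9 ∨ Nat.card ↥C = 18 := by
    have hmem : Nat.card ↥C ∈ Nat.divisors 504 := Nat.mem_divisors.2 ⟨hdvd, by norm_num⟩
    have hdec : ∀ c ∈ Nat.divisors 504, 9 ∣ c → ¬ 7 ∣ c → 2 * c ∣ 504 → 2 * c ≠ 72 → c = 9 ∨ c = 18 := by
      decide
    exact hdec _ hmem h9 h7 hNdvd hN72
  rcases hcases with h1 | h1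
  · symm
    apply Subgroup.eq_of_le_of_card_ge hPC
    rw [h1, card_sylow3 h P]
  · exfalso
    -- `P` has index 2 in `C`, hence is normal in `C`, so `C = N(P)`
    have hidx : ((P : Subgroup G).subgroupOf C).index = 2 := by
      have := Cfsg.Agent.Helper11.relIndex_mul_card hPC
      rw [card_sylow3 h P, h1] at this
      have h2 : (P : Subgroup G).relIndex C = 2 := by omega
      exact h2
    have hnorm : ((P : Subgroup G).subgroupOf C).Normal := Subgroup.normal_of_index_eq_two hidx
    have hle : C ≤ Subgroup.normalizer ((P : Subgroup G) : Set G) :=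
      (Subgroup.normal_subgroupOf_iff_le_normalizer hPC).mp hnorm
    have heq : C = Subgroup.normalizer ((P : Subgroup G) : Set G) := by
      apply Subgroup.eq_of_le_of_card_ge hle
      rw [h1, card_normalizer3 h P]
    exact huC (heq ▸ huN)

end Cfsg.Agent.Helper11.O504
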