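import Mathlib
import Cfsg.Agent.Helper11.O504D

set_option autoImplicit false

/-!
# Tools for Sylow subgroups of prime order

* `card_centralizer_sylow_eq`: centralizers of conjugate Sylow subgroups have the same order.
* `centralizer_sylow_eq_centralizer_singleton`
* `orderOf_of_commute_of_selfCentralizing`
* `not_dvd_card_normalizer_of_coprime`
* `card_singular_ge`: a lower bound for the number of `p`-singular elements.
-/

namespace Cfsg.Agent.Helper11

open Cfsg.Agent.Helper11.O504

/-- centralizers of Sylow `p`-subgroups all have the same order -/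
theorem card_centralizer_sylow_eq {G : Type*} [Group G] [Finite G] {p : ℕ} [Fact p.Prime]
    (P Q : Sylow p G) :
    Nat.card ↥(Subgroup.centralizer ((P : Subgroup G) : Set G)) =
      Nat.card ↥(Subgroup.centralizer ((Q : Subgroup G) : Set G)) := by
  obtain ⟨g, rfl⟩ := MulAction.exists_smul_eq G P Q
  refine Nat.card_congr (Equiv.subtypeEquiv (MulAut.conj g).toEquiv ?_)
  intro x
  simp only [MulEquiv.toEquiv_eq_coe, EquivLike.coe_coe, MulAut.conj_apply]
  rw [Subgroup.mem_centralizer_iff, Subgroup.mem_centralizer_iff]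
  constructor
  · intro hx y hy
    have hy' : g⁻¹ * y * g ∈ (P : Subgroup G) := (mem_smul_sylow_iff P g y).mp hy
    have h1 := hx _ hy'
    calc y * (g * x * g⁻¹) = g * ((g⁻¹ * y * g) * x) * g⁻¹ := by group
      _ = g * (x * (g⁻¹ * y * g)) * g⁻¹ := by rw [h1]
      _ = g * x * g⁻¹ * y := by group
  · intro hx y hy
    have hy' : g * y * g⁻¹ ∈ ((g • P : Sylow p G) : Subgroup G) := by
      rw [mem_smul_sylow_iff]
      have : g⁻¹ * (g * y * g⁻¹) * g = y := by group
      rw [this]; exact hy
    have h1 := hx _ hy'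
    have h2 : g * (y * x) * g⁻¹ = g * (x * y) * g⁻¹ := by
      calc g * (y * x) * g⁻¹ = (g * y * g⁻¹) * (g * x * g⁻¹) := by group
        _ = (g * x * g⁻¹) * (g * y * g⁻¹) := h1
        _ = g * (x * y) * g⁻¹ := by group
    exact mul_left_cancel (mul_right_cancel h2)

/-- the centralizer of a Sylow subgroup of prime order is the centralizer of any of its
non-identity elements -/
theorem centralizer_sylow_eq_centralizer_singleton {G : Type*} [Group G] {p : ℕ} [Fact p.Prime]
    (P : Sylow p G) (hP : Nat.card ↥(P : Subgroup G) = p) {y : G} (hy : y ∈ (P : Subgroup G))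
    (hy1 : y ≠ 1) :
    Subgroup.centralizer ((P : Subgroup G) : Set G) = Subgroup.centralizer ({y} : Set G) := by
  rw [eq_zpowers_of_card_prime _ hP y hy hy1]
  exact centralizer_zpowers_eq y

/-- an element of prime order `p` lies in a Sylow `p`-subgroup -/
theorem exists_sylow_mem_of_orderOf_eq_prime {G : Type*} [Group G] [Finite G] {p : ℕ}
    [Fact p.Prime] {y : G} (hy : orderOf y = p) : ∃ P : Sylow p G, y ∈ (P : Subgroup G) :=
  exists_sylow_mem_of_orderOf_dvd_pow y 1 (by rw [hy, pow_one])

/-- if the Sylow `p`-subgroups have order `p` and are self-centralizing, an element commuting with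
an element of order `p` has order `1` or `p` -/
theorem orderOf_of_commute_of_selfCentralizing {G : Type*} [Group G] [Finite G] {p : ℕ}
    [Fact p.Prime] (hS : ∀ Q : Sylow p G, Nat.card ↥(Q : Subgroup G) = p)
    (hC : ∀ Q : Sylow p G, Nat.card ↥(Subgroup.centralizer ((Q : Subgroup G) : Set G)) = p)
    {c g : G} (hc : orderOf c = p) (hcg : Commute c g) : orderOf g = 1 ∨ orderOf g = p := by
  have hp : p.Prime := Fact.out
  by_cases h7 : p ∣ orderOf g
  · exact Or.inr (orderOf_eq_prime_of_dvd hS hC g h7)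
  · left
    have hcop : Nat.Coprime (orderOf c) (orderOf g) := by
      rw [hc]; exact (Nat.Prime.coprime_iff_not_dvd hp).mpr h7
    have h1 : orderOf (c * g) = orderOf c * orderOf g :=
      hcg.orderOf_mul_eq_mul_orderOf_of_coprime hcop
    have h2 : p ∣ orderOf (c * g) := by rw [h1, hc]; exact Dvd.intro _ rfl
    have h3 := orderOf_eq_prime_of_dvd hS hC _ h2
    rw [h1, hc] at h3
    have hp0 : 0 < p := hp.pos
    exact Nat.eq_of_mul_eq_mul_left hp0 (by rw [h3, mul_one])

/-- Let the Sylow `r`-subgroups have order `r` and be self-centralizing.  If `q ≠ r` is a prime with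
Sylow `q`-subgroups of order `q` and `r` is prime to `q - 1`, then `r` does not divide the order of
the normalizer of a Sylow `q`-subgroup. -/
theorem not_dvd_card_normalizer_of_coprime {G : Type*} [Group G] [Finite G] {r q : ℕ}
    [Fact r.Prime] [Fact q.Prime]
    (hS : ∀ Q : Sylow r G, Nat.card ↥(Q : Subgroup G) = r)
    (hC : ∀ Q : Sylow r G, Nat.card ↥(Subgroup.centralizer ((Q : Subgroup G) : Set G)) = r)
    (hrq : r ≠ q) (hcop : Nat.Coprime r (q - 1)) (P : Sylow q G)
    (hP : Nat.card ↥(P : Subgroup G) = q) :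
    ¬ r ∣ Nat.card ↥(Subgroup.normalizer ((P : Subgroup G) : Set G)) := by
  classical
  have hr : r.Prime := Fact.out
  have hq : q.Prime := Fact.out
  intro hdvd
  set N := Subgroup.normalizer ((P : Subgroup G) : Set G) with hN
  set C := Subgroup.centralizer ((P : Subgroup G) : Set G) with hCdef
  have : Fintype ↥N := Fintype.ofFinite _
  rw [Nat.card_eq_fintype_card] at hdvd
  obtain ⟨z, hz⟩ := exists_prime_orderOf_dvd_card r hdvd
  have hz' : orderOf (z : G) = r := by rw [Subgroup.orderOf_coe]; exact hz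
  -- `z ^ k ∈ C` where `k = [N : C]`
  have hk := relIndex_centralizer_normalizer_dvd_card_mulAut (P : Subgroup G)
  have hcyc : IsCyclic ↥(P : Subgroup G) := isCyclic_of_prime_card hP
  rw [IsCyclic.card_mulAut, hP, Nat.totient_prime hq] at hk
  set k := C.relIndex N with hkdef
  have hnorm : (C.subgroupOf N).Normal := by
    rw [hCdef, hN]
    infer_instance
  have hzk : (z : G) ^ k ∈ C := by
    have h1 : z ^ (C.subgroupOf N).index ∈ C.subgroupOf N := Subgroup.pow_index_mem _ z
    rw [Subgroup.mem_subgroupOf, Subgroup.coe_pow] at h1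
    exact h1
  -- `z` is a power of `z ^ k`
  have hkr : Nat.Coprime k r := (Nat.Coprime.coprime_dvd_right hk hcop).symm
  have hzC : (z : G) ∈ C := by
    obtain ⟨m, -, hm⟩ := Nat.exists_mul_mod_eq_one_of_coprime hkr hr.one_lt
    have h1 : ((z : G) ^ k) ^ m = (z : G) := by
      rw [← pow_mul, ← pow_mod_orderOf, hz', hm, pow_one]
    rw [← h1]
    exact Subgroup.pow_mem _ hzk m
  -- hence `z` commutes with a generator of `P`
  obtain ⟨y, hy⟩ := hcyc.exists_generator
  have hy1 : (y : G) ≠ 1 := by
    intro h1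
    have h2 : y = 1 := Subtype.ext h1
    have h3 : ∀ x : ↥(P : Subgroup G), x = 1 := by
      intro x
      obtain ⟨n, rfl⟩ := Subgroup.mem_zpowers_iff.mp (hy x)
      rw [h2, one_zpow]
    have : Nat.card ↥(P : Subgroup G) = 1 := by
      rw [Nat.card_eq_one_iff_unique]
      exact ⟨⟨fun a b => (h3 a).trans (h3 b).symm⟩, ⟨1⟩⟩
    rw [hP] at this
    exact hq.one_lt.ne' this
  have hyo : orderOf (y : G) = q := orderOf_eq_prime_of_mem _ hP _ y.2 hy1
  have hcomm : Commute (z : G) (y : G) := by
    rw [hCdef, Subgroup.mem_centralizer_iff] at hzC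
    exact (hzC _ y.2).symm
  rcases orderOf_of_commute_of_selfCentralizing hS hC hz' hcomm with h1 | h1
  · rw [hyo] at h1; exact hq.one_lt.ne' h1
  · rw [hyo] at h1; exact hrq h1.symm

/-- two Sylow subgroups of prime order sharing a non-identity element coincide -/
theorem sylow_eq_of_mem_of_card_prime {G : Type*} [Group G] {p : ℕ} [Fact p.Prime]
    (P Q : Sylow p G) (hP : Nat.card ↥(P : Subgroup G) = p) (hQ : Nat.card ↥(Q : Subgroup G) = p)
    {w : G} (hwP : w ∈ (P : Subgroup G)) (hwQ : w ∈ (Q : Subgroup G)) (hw : w ≠ 1) : P = Q :=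
  Sylow.ext ((eq_zpowers_of_card_prime _ hP w hwP hw).trans
    (eq_zpowers_of_card_prime _ hQ w hwQ hw).symm)

/-- in a group, `x ↦ x ^ m` is injective on elements of prime order `p` prime to `m`... here: on
a fixed pair of elements of order `p` -/
theorem eq_of_pow_eq_of_orderOf_eq_prime {G : Type*} [Group G] {p m : ℕ} [Fact p.Prime]
    (hm : Nat.Coprime m p) {x x' : G} (hx : orderOf x = p) (hx' : orderOf x' = p)
    (h : x ^ m = x' ^ m) : x = x' := by
  have hp : p.Prime := Fact.out
  obtain ⟨s, -, hs⟩ := Nat.exists_mul_mod_eq_one_of_coprime hm hp.one_lt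
  have h1 : (x ^ m) ^ s = x := by
    rw [← pow_mul, ← pow_mod_orderOf, hx, hs, pow_one]
  have h2 : (x' ^ m) ^ s = x' := by
    rw [← pow_mul, ← pow_mod_orderOf, hx', hs, pow_one]
  rw [← h1, ← h2, h]

/-- lower bound for the number of `p`-singular elements: if every Sylow `p`-subgroup `P` has
order `p` and is centralized by a subgroup of order `m` prime to `p`, then there are at least
`n_p (p - 1) m` elements of order divisible by `p`. -/
theorem card_singular_ge {G : Type*} [Group G] [Fintype G] [DecidableEq G] {p : ℕ} [Fact p.Prime]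
    (hS : ∀ Q : Sylow p G, Nat.card ↥(Q : Subgroup G) = p) (m : ℕ) (hm : Nat.Coprime m p)
    (hQ : ∀ P : Sylow p G, ∃ Q : Subgroup G,
      Q ≤ Subgroup.centralizer ((P : Subgroup G) : Set G) ∧ Nat.card ↥Q = m) :
    Nat.card (Sylow p G) * ((p - 1) * m) ≤ (Finset.univ.filter (fun g : G => p ∣ orderOf g)).card := by
  classical
  have hp : p.Prime := Fact.out
  have : Fintype (Sylow p G) := Fintype.ofFinite _
  choose Qf hQle hQcard using hQ
  -- basic facts on products `x * q`
  have hxo : ∀ (P : Sylow p G) (x : G), x ∈ (P : Subgroup G) → x ≠ 1 → orderOf x = p :=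
    fun P x hx hx1 => orderOf_eq_prime_of_mem _ (hS P) x hx hx1
  have hcomm : ∀ (P : Sylow p G) (x q : G), x ∈ (P : Subgroup G) → q ∈ Qf P → Commute x q := by
    intro P x q hx hq
    have := hQle P hq
    rw [Subgroup.mem_centralizer_iff] at this
    exact this x hx
  have hqm : ∀ (P : Sylow p G) (q : G), q ∈ Qf P → q ^ m = 1 := by
    intro P q hq
    have := Subgroup.orderOf_dvd_natCard _ hq
    rw [hQcard P] at this
    exact orderOf_dvd_iff_pow_eq_one.mp this
  have hpow : ∀ (P : Sylow p G) (x q : G), x ∈ (P : Subgroup G) → q ∈ Qf P →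
      (x * q) ^ m = x ^ m := by
    intro P x q hx hq
    rw [(hcomm P x q hx hq).mul_pow, hqm P q hq, mul_one]
  have hxm1 : ∀ (P : Sylow p G) (x : G), x ∈ (P : Subgroup G) → x ≠ 1 → x ^ m ≠ 1 := by
    intro P x hx hx1 h1
    have h2 := orderOf_dvd_of_pow_eq_one h1
    rw [hxo P x hx hx1] at h2
    have h3 : p ∣ Nat.gcd m p := Nat.dvd_gcd h2 dvd_rfl
    rw [hm.gcd_eq_one] at h3
    exact hp.one_lt.ne' (Nat.dvd_one.mp h3)
  -- the pieces
  let A : Sylow p G → Finset G := fun P =>
    ((Finset.univ.filter (fun x : G => x ∈ (P : Subgroup G) ∧ x ≠ 1)) ×ˢ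
      (Finset.univ.filter (fun q : G => q ∈ Qf P))).image (fun ab => ab.1 * ab.2)
  have hAcard : ∀ P : Sylow p G, (A P).card = (p - 1) * m := by
    intro P
    rw [Finset.card_image_of_injOn, Finset.card_product]
    · congr 1
      · have h1 : Finset.univ.filter (fun x : G => x ∈ (P : Subgroup G) ∧ x ≠ 1) =
            (Finset.univ.filter (fun x : G => x ∈ (P : Subgroup G))).erase 1 := by
          ext s
          simp only [Finset.mem_erase, Finset.mem_filter, Finset.mem_univ, true_and]
          tauto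
        rw [h1, Finset.card_erase_of_mem (by simp [one_mem])]
        congr 1
        have h2 := hS P
        rw [Nat.card_eq_fintype_card, Fintype.card_subtype] at h2
        exact h2
      · have h2 := hQcard P
        rw [Nat.card_eq_fintype_card, Fintype.card_subtype] at h2
        exact h2
    · rintro ⟨x, q⟩ hxq ⟨x', q'⟩ hxq' heq
      simp only [Finset.coe_product, Set.mem_prod, Finset.coe_filter, Finset.mem_univ, true_and,
        Set.mem_ofPred_eq] at hxq hxq'
      simp only at heq
      have h1 : x ^ m = x' ^ m := by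
        rw [← hpow P x q hxq.1.1 hxq.2, ← hpow P x' q' hxq'.1.1 hxq'.2, heq]
      have h2 : x = x' := eq_of_pow_eq_of_orderOf_eq_prime hm (hxo P x hxq.1.1 hxq.1.2)
        (hxo P x' hxq'.1.1 hxq'.1.2) h1
      subst h2
      have h3 : q = q' := mul_left_cancel heq
      rw [h3]
  have hdisj : ∀ P ∈ (Finset.univ : Finset (Sylow p G)), ∀ P' ∈ (Finset.univ : Finset (Sylow p G)),
      P ≠ P' → Disjoint (A P) (A P') := by
    intro P _ P' _ hPP'
    rw [Finset.disjoint_left]
    intro g hg hg'
    simp only [A, Finset.mem_image, Finset.mem_product, Finset.mem_filter, Finset.mem_univ,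
      true_and, Prod.exists] at hg hg'
    obtain ⟨x, q, ⟨⟨hxP, hx1⟩, hq⟩, rfl⟩ := hg
    obtain ⟨x', q', ⟨⟨hxP', hx1'⟩, hq'⟩, heq⟩ := hg'
    have h1 : x ^ m = x' ^ m := by
      rw [← hpow P x q hxP hq, ← hpow P' x' q' hxP' hq', heq]
    apply hPP'
    exact sylow_eq_of_mem_of_card_prime P P' (hS P) (hS P') (Subgroup.pow_mem _ hxP m)
      (h1 ▸ Subgroup.pow_mem _ hxP' m) (hxm1 P x hxP hx1)
  have hsub : (Finset.univ : Finset (Sylow p G)).biUnion A ⊆
      Finset.univ.filter (fun g : G => p ∣ orderOf g) := by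
    intro g hg
    simp only [A, Finset.mem_biUnion, Finset.mem_image, Finset.mem_product, Finset.mem_filter,
      Finset.mem_univ, true_and, Prod.exists] at hg
    obtain ⟨P, x, q, ⟨⟨hxP, hx1⟩, hq⟩, rfl⟩ := hg
    rw [Finset.mem_filter]
    refine ⟨Finset.mem_univ _, ?_⟩
    have hqo : orderOf q ∣ m := by
      have := Subgroup.orderOf_dvd_natCard _ hq
      rwa [hQcard P] at this
    have hcop : Nat.Coprime (orderOf x) (orderOf q) := by
      rw [hxo P x hxP hx1]
      exact (Nat.Coprime.coprime_dvd_left hqo hm).symm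
    rw [(hcomm P x q hxP hq).orderOf_mul_eq_mul_orderOf_of_coprime hcop, hxo P x hxP hx1]
    exact Dvd.intro _ rfl
  calc Nat.card (Sylow p G) * ((p - 1) * m)
      = ((Finset.univ : Finset (Sylow p G)).biUnion A).card := by
        rw [Finset.card_biUnion hdisj, Finset.sum_congr rfl (fun P _ => hAcard P),
          Finset.sum_const, Finset.card_univ, smul_eq_mul, Nat.card_eq_fintype_card]
    _ ≤ _ := Finset.card_le_card hsub

end Cfsg.Agent.Helper11
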