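import Mathlib
import Cfsg.Agent.Helper11.SylowPrimeTools

set_option autoImplicit false
set_option linter.unusedSectionVars false

/-!
# Simple groups of order 4080 (part A): Sylow numbers
-/

namespace Cfsg.Agent.Helper11.O4080

open Cfsg.Agent.Helper11

variable {G : Type*} [Group G] [Finite G] [IsSimpleGroup G]

theorem noncomm (h : Nat.card G = 4080) : ¬ IsMulCommutative G :=
  simple_noncomm_of_card (by rw [h]; norm_num)

theorem perfect (h : Nat.card G = 4080) : commutator G = ⊤ := O504.commutator_eq_top (noncomm h)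

instance : Fact (Nat.Prime 17) := ⟨by norm_num⟩
instance : Fact (Nat.Prime 5) := ⟨by norm_num⟩
instance : Fact (Nat.Prime 3) := ⟨by norm_num⟩

/-! ### The prime 17 -/

theorem card_sylow17 (h : Nat.card G = 4080) (P : Sylow 17 G) : Nat.card ↥(P : Subgroup G) = 17 :=
  (sylow_card_of_card_eq 240 (by rw [h]) (by norm_num) P).1

theorem n17 (h : Nat.card G = 4080) : Nat.card (Sylow 17 G) = 120 := by
  have hG' : Nat.card G = 240 * 17 ^ 1 := by rw [h]; norm_num
  have hmem := card_sylow_mem_filter 240 1 hG' (by norm_num)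
  have hfilt : (Nat.divisors 240).filter (fun d => d % 17 = 1) = {1, 120} := by decide
  rw [hfilt] at hmem
  simp only [Finset.mem_insert, Finset.mem_singleton] at hmem
  rcases hmem with h1 | h1
  · exact absurd h1 (simple_card_sylow_ne_one (noncomm h) 17 (by rw [h]; norm_num))
  · exact h1

theorem card_normalizer17 (h : Nat.card G = 4080) (P : Sylow 17 G) :
    Nat.card ↥(Subgroup.normalizer ((P : Subgroup G) : Set G)) = 34 := by
  have h2 := card_sylow_mul_card_normalizer P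
  rw [n17 h, h] at h2
  omega

theorem card_centralizer17 (h : Nat.card G = 4080) (P : Sylow 17 G) :
    Nat.card ↥(Subgroup.centralizer ((P : Subgroup G) : Set G)) = 17 := by
  obtain ⟨h1, h2, h3, h4⟩ := simple_automizer_data (noncomm h) 17 P (card_sylow17 h P)
  rw [card_normalizer17 h P] at h3
  set k := (Subgroup.centralizer ((P : Subgroup G) : Set G)).relIndex
        (Subgroup.normalizer ((P : Subgroup G) : Set G)) with hk
  set c := Nat.card ↥(Subgroup.centralizer ((P : Subgroup G) : Set G)) with hc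
  have hk6 : k ∣ 16 := h2
  have hkmem : k ∈ Nat.divisors 16 := Nat.mem_divisors.2 ⟨hk6, by norm_num⟩
  have hcmem : c ∈ Nat.divisors 34 := Nat.mem_divisors.2 ⟨Dvd.intro_left k h3, by norm_num⟩
  have hdec : ∀ k ∈ Nat.divisors 16, ∀ c ∈ Nat.divisors 34, k ≠ 1 → k * c = 34 → 17 ∣ c → c = 17 := by
    decide
  exact hdec k hkmem c hcmem h1 h3 h4

theorem orderOf_eq_17 (h : Nat.card G = 4080) (g : G) (hg : 17 ∣ orderOf g) : orderOf g = 17 :=
  orderOf_eq_prime_of_dvd (card_sylow17 h) (card_centralizer17 h) g hg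

theorem orderOf_of_commute_17 (h : Nat.card G = 4080) {c g : G} (hc : orderOf c = 17)
    (hcg : Commute c g) : orderOf g = 1 ∨ orderOf g = 17 :=
  orderOf_of_commute_of_selfCentralizing (card_sylow17 h) (card_centralizer17 h) hc hcg

/-! ### The prime 5 -/

theorem card_sylow5 (h : Nat.card G = 4080) (P : Sylow 5 G) : Nat.card ↥(P : Subgroup G) = 5 :=
  (sylow_card_of_card_eq 816 (by rw [h]) (by norm_num) P).1

theorem not_17_dvd_normalizer5 (h : Nat.card G = 4080) (P : Sylow 5 G) :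
    ¬ 17 ∣ Nat.card ↥(Subgroup.normalizer ((P : Subgroup G) : Set G)) :=
  not_dvd_card_normalizer_of_coprime (card_sylow17 h) (card_centralizer17 h) (by norm_num)
    (by norm_num) P (card_sylow5 h P)

/-- the possibilities for the Sylow 5-subgroups -/
theorem cases5 (h : Nat.card G = 4080) :
    (Nat.card (Sylow 5 G) = 51 ∧ ∀ P : Sylow 5 G,
        (Nat.card ↥(Subgroup.centralizer ((P : Subgroup G) : Set G)) = 20 ∨
         Nat.card ↥(Subgroup.centralizer ((P : Subgroup G) : Set G)) = 40)) ∨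
    (Nat.card (Sylow 5 G) = 136 ∧ ∀ P : Sylow 5 G,
        Nat.card ↥(Subgroup.centralizer ((P : Subgroup G) : Set G)) = 15) := by
  have hG' : Nat.card G = 816 * 5 ^ 1 := by rw [h]; norm_num
  have hmem := card_sylow_mem_filter 816 1 hG' (by norm_num)
  have key : ∀ P : Sylow 5 G, ∃ k c : ℕ, k ≠ 1 ∧ k ∣ 4 ∧ 5 ∣ c ∧
      c = Nat.card ↥(Subgroup.centralizer ((P : Subgroup G) : Set G)) ∧
      Nat.card (Sylow 5 G) * (k * c) = 4080 ∧ ¬ 17 ∣ k * c := by
    intro P
    obtain ⟨h1, h2, h3, h4⟩ := simple_automizer_data (noncomm h) 5 P (card_sylow5 h P)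
    refine ⟨_, _, h1, h2, h4, rfl, ?_, ?_⟩
    · rw [h3, ← h]; exact card_sylow_mul_card_normalizer P
    · rw [h3]; exact not_17_dvd_normalizer5 h P
  have hdec : ∀ n ∈ (Nat.divisors 816).filter (fun d => d % 5 = 1), ∀ k ∈ Nat.divisors 4,
      ∀ c ∈ Nat.divisors 4080, k ≠ 1 → 5 ∣ c → n * (k * c) = 4080 → ¬ 17 ∣ k * c →
      (n = 51 ∧ (c = 20 ∨ c = 40)) ∨ (n = 136 ∧ c = 15) := by
    decide +kernel
  obtain ⟨P0⟩ : Nonempty (Sylow 5 G) := inferInstance
  have hcases : ∀ P : Sylow 5 G,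
      (Nat.card (Sylow 5 G) = 51 ∧ (Nat.card ↥(Subgroup.centralizer ((P : Subgroup G) : Set G)) = 20 ∨
        Nat.card ↥(Subgroup.centralizer ((P : Subgroup G) : Set G)) = 40)) ∨
      (Nat.card (Sylow 5 G) = 136 ∧ Nat.card ↥(Subgroup.centralizer ((P : Subgroup G) : Set G)) = 15) := by
    intro P
    obtain ⟨k, c, hk1, hk4, h5c, hc, hprod, h17⟩ := key P
    have hcd : c ∈ Nat.divisors 4080 := by
      rw [Nat.mem_divisors]
      refine ⟨?_, by norm_num⟩
      rw [hc, ← h]; exact Subgroup.card_subgroup_dvd_card _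
    have := hdec _ hmem k (Nat.mem_divisors.2 ⟨hk4, by norm_num⟩) c hcd hk1 h5c hprod h17
    rw [hc] at this
    exact this
  rcases hcases P0 with ⟨hn, -⟩ | ⟨hn, -⟩
  · left
    refine ⟨hn, fun P => ?_⟩
    rcases hcases P with ⟨-, h1⟩ | ⟨hn', -⟩
    · exact h1
    · omega
  · right
    refine ⟨hn, fun P => ?_⟩
    rcases hcases P with ⟨hn', -⟩ | ⟨-, h1⟩
    · omega
    · exact h1

/-! ### The prime 3 -/

theorem card_sylow3 (h : Nat.card G = 4080) (P : Sylow 3 G) : Nat.card ↥(P : Subgroup G) = 3 :=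
  (sylow_card_of_card_eq 1360 (by rw [h]) (by norm_num) P).1

theorem not_17_dvd_normalizer3 (h : Nat.card G = 4080) (P : Sylow 3 G) :
    ¬ 17 ∣ Nat.card ↥(Subgroup.normalizer ((P : Subgroup G) : Set G)) :=
  not_dvd_card_normalizer_of_coprime (card_sylow17 h) (card_centralizer17 h) (by norm_num)
    (by norm_num) P (card_sylow3 h P)

/-- the possibilities for the Sylow 3-subgroups -/
theorem cases3 (h : Nat.card G = 4080) :
    ∃ n c : ℕ, Nat.card (Sylow 3 G) = n ∧
      (∀ P : Sylow 3 G, Nat.card ↥(Subgroup.centralizer ((P : Subgroup G) : Set G)) = c) ∧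
      ((n = 34 ∧ c = 60) ∨ (n = 85 ∧ c = 24) ∨ (n = 136 ∧ c = 15) ∨ (n = 340 ∧ c = 6)) := by
  have hG' : Nat.card G = 1360 * 3 ^ 1 := by rw [h]; norm_num
  have hmem := card_sylow_mem_filter 1360 1 hG' (by norm_num)
  have key : ∀ P : Sylow 3 G, ∃ k c : ℕ, k ≠ 1 ∧ k ∣ 2 ∧ 3 ∣ c ∧
      c = Nat.card ↥(Subgroup.centralizer ((P : Subgroup G) : Set G)) ∧
      Nat.card (Sylow 3 G) * (k * c) = 4080 ∧ ¬ 17 ∣ k * c := by
    intro P
    obtain ⟨h1, h2, h3, h4⟩ := simple_automizer_data (noncomm h) 3 P (card_sylow3 h P)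
    refine ⟨_, _, h1, h2, h4, rfl, ?_, ?_⟩
    · rw [h3, ← h]; exact card_sylow_mul_card_normalizer P
    · rw [h3]; exact not_17_dvd_normalizer3 h P
  have hdec : ∀ n ∈ (Nat.divisors 1360).filter (fun d => d % 3 = 1), ∀ k ∈ Nat.divisors 2,
      ∀ c ∈ Nat.divisors 4080, k ≠ 1 → 3 ∣ c → n * (k * c) = 4080 → ¬ 17 ∣ k * c →
      ((n = 34 ∧ c = 60) ∨ (n = 85 ∧ c = 24) ∨ (n = 136 ∧ c = 15) ∨ (n = 340 ∧ c = 6)) := by
    decide +kernel
  obtain ⟨P0⟩ : Nonempty (Sylow 3 G) := inferInstance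
  refine ⟨Nat.card (Sylow 3 G), Nat.card ↥(Subgroup.centralizer ((P0 : Subgroup G) : Set G)), rfl,
    fun P => card_centralizer_sylow_eq P P0, ?_⟩
  obtain ⟨k, c, hk1, hk4, h5c, hc, hprod, h17⟩ := key P0
  have hcd : c ∈ Nat.divisors 4080 := by
    rw [Nat.mem_divisors]
    refine ⟨?_, by norm_num⟩
    rw [hc, ← h]; exact Subgroup.card_subgroup_dvd_card _
  have := hdec _ hmem k (Nat.mem_divisors.2 ⟨hk4, by norm_num⟩) c hcd hk1 h5c hprod h17
  rw [hc] at this
  exact this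

end Cfsg.Agent.Helper11.O4080
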