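import Mathlib
import Cfsg.Agent.Helper11.O4080A

set_option autoImplicit false
set_option linter.unusedSectionVars false

/-!
# Simple groups of order 4080 (part B): `n_5 = 136`
-/

namespace Cfsg.Agent.Helper11.O4080

open Cfsg.Agent.Helper11

/-- generic: a subgroup of prime power order inside a subgroup -/
theorem exists_subgroup_le_card_pow_prime {H : Type*} [Group H] [Finite H] (K : Subgroup H)
    (q n : ℕ) [Fact q.Prime] (hdvd : q ^ n ∣ Nat.card ↥K) :
    ∃ Q : Subgroup H, Q ≤ K ∧ Nat.card ↥Q = q ^ n := by
  obtain ⟨Q', hQ'⟩ := Sylow.exists_subgroup_card_pow_prime q hdvd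
  refine ⟨Q'.map K.subtype, ?_, ?_⟩
  · rintro _ ⟨x, -, rfl⟩
    exact x.2
  · rw [← hQ']
    exact (Nat.card_congr (Q'.equivMapOfInjective K.subtype K.subtype_injective).toEquiv).symm

/-- generic: Cauchy inside a subgroup -/
theorem exists_mem_orderOf_eq_prime {H : Type*} [Group H] [Finite H] (K : Subgroup H)
    (q : ℕ) [Fact q.Prime] (hdvd : q ∣ Nat.card ↥K) : ∃ x ∈ K, orderOf x = q := by
  classical
  have : Fintype ↥K := Fintype.ofFinite _
  rw [Nat.card_eq_fintype_card] at hdvd
  obtain ⟨x, hx⟩ := exists_prime_orderOf_dvd_card q hdvd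
  exact ⟨x, x.2, by rw [Subgroup.orderOf_coe]; exact hx⟩

/-- generic: a power of prime order -/
theorem exists_pow_orderOf_eq_prime {H : Type*} [Group H] [Finite H] (g : H) (q : ℕ)
    [Fact q.Prime] (hq : q ∣ orderOf g) : orderOf (g ^ (orderOf g / q)) = q :=
  orderOf_pow_orderOf_div (orderOf_pos g).ne' hq

variable {G : Type*} [Group G] [Finite G] [IsSimpleGroup G]

/-- if elements of orders 3 and 5 commute, then 3 divides the order of the centralizer of a Sylow
5-subgroup and 5 that of a Sylow 3-subgroup -/
theorem dvd_of_commute_3_5 (h : Nat.card G = 4080) {b y : G} (hb : orderOf b = 3)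
    (hy : orderOf y = 5) (hby : Commute b y) :
    (∀ P : Sylow 5 G, 3 ∣ Nat.card ↥(Subgroup.centralizer ((P : Subgroup G) : Set G))) ∧
    (∀ P : Sylow 3 G, 5 ∣ Nat.card ↥(Subgroup.centralizer ((P : Subgroup G) : Set G))) := by
  have hb1 : b ≠ 1 := by rintro rfl; rw [orderOf_one] at hb; norm_num at hb
  have hy1 : y ≠ 1 := by rintro rfl; rw [orderOf_one] at hy; norm_num at hy
  constructor
  · intro P
    obtain ⟨P', hP'⟩ := exists_sylow_mem_of_orderOf_eq_prime hy
    rw [card_centralizer_sylow_eq P P',
      centralizer_sylow_eq_centralizer_singleton P' (card_sylow5 h P') hP' hy1, ← hb]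
    apply Subgroup.orderOf_dvd_natCard
    rw [Subgroup.mem_centralizer_iff]
    intro x hx
    rw [Set.mem_singleton_iff] at hx
    subst hx
    exact hby.eq.symm
  · intro P
    obtain ⟨P', hP'⟩ := exists_sylow_mem_of_orderOf_eq_prime hb
    rw [card_centralizer_sylow_eq P P',
      centralizer_sylow_eq_centralizer_singleton P' (card_sylow3 h P') hP' hb1, ← hy]
    apply Subgroup.orderOf_dvd_natCard
    rw [Subgroup.mem_centralizer_iff]
    intro x hx
    rw [Set.mem_singleton_iff] at hx
    subst hx
    exact hby.eq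

/-- the case `n_5 = 51` is impossible -/
theorem n5 (h : Nat.card G = 4080) : Nat.card (Sylow 5 G) = 136 ∧ ∀ P : Sylow 5 G,
    Nat.card ↥(Subgroup.centralizer ((P : Subgroup G) : Set G)) = 15 := by
  classical
  rcases cases5 h with ⟨hn5, hc5⟩ | hA
  swap
  · exact hA
  exfalso
  have : Fintype G := Fintype.ofFinite G
  -- no commuting elements of orders 3 and 5
  have hno : ∀ b y : G, orderOf b = 3 → orderOf y = 5 → ¬ Commute b y := by
    intro b y hb hy hby
    obtain ⟨P⟩ : Nonempty (Sylow 5 G) := inferInstance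
    have h3 := (dvd_of_commute_3_5 h hb hy hby).1 P
    rcases hc5 P with h1 | h1 <;> rw [h1] at h3 <;> norm_num at h3
  obtain ⟨n3, c3, hn3, hc3, hcases⟩ := cases3 h
  -- `5 ∤ c3`
  have h5c3 : ¬ 5 ∣ c3 := by
    intro h5
    obtain ⟨P⟩ : Nonempty (Sylow 3 G) := inferInstance
    obtain ⟨y, hyC, hy⟩ := exists_mem_orderOf_eq_prime
      (Subgroup.centralizer ((P : Subgroup G) : Set G)) 5 (by rw [hc3 P]; exact h5)
    obtain ⟨b, hbP, hb⟩ := exists_mem_orderOf_eq_prime (P : Subgroup G) 3
      (by rw [card_sylow3 h P])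
    rw [Subgroup.mem_centralizer_iff] at hyC
    exact hno b y hb hy (hyC b hbP)
  -- the 3-singular elements
  have hS3 : 1360 ≤ (Finset.univ.filter (fun g : G => 3 ∣ orderOf g)).card := by
    rcases hcases with ⟨-, hc⟩ | ⟨hn, hc⟩ | ⟨-, hc⟩ | ⟨hn, hc⟩
    · rw [hc] at h5c3; norm_num at h5c3
    · have := card_singular_ge (p := 3) (card_sylow3 h) 8 (by norm_num) (fun P => by
        have := exists_subgroup_le_card_pow_prime
          (Subgroup.centralizer ((P : Subgroup G) : Set G)) 2 3 (by rw [hc3 P, hc]; norm_num)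
        simpa using this)
      rw [hn3, hn] at this
      simpa using this
    · rw [hc] at h5c3; norm_num at h5c3
    · have := card_singular_ge (p := 3) (card_sylow3 h) 2 (by norm_num) (fun P => by
        have := exists_subgroup_le_card_pow_prime
          (Subgroup.centralizer ((P : Subgroup G) : Set G)) 2 1 (by rw [hc3 P, hc]; norm_num)
        simpa using this)
      rw [hn3, hn] at this
      simpa using this
  have hS5 : 816 ≤ (Finset.univ.filter (fun g : G => 5 ∣ orderOf g)).card := by
    have := card_singular_ge (p := 5) (card_sylow5 h) 4 (by norm_num) (fun P => by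
      have := exists_subgroup_le_card_pow_prime
        (Subgroup.centralizer ((P : Subgroup G) : Set G)) 2 2 (by
          rcases hc5 P with h1 | h1 <;> rw [h1] <;> norm_num)
      simpa using this)
    rw [hn5] at this
    simpa using this
  have hS17 : (Finset.univ.filter (fun g : G => orderOf g = 17)).card = 1920 := by
    obtain ⟨P⟩ : Nonempty (Sylow 17 G) := inferInstance
    have := card_orderOf_eq_prime P (card_sylow17 h P)
    rw [n17 h, Nat.card_eq_fintype_card, Fintype.card_subtype] at this
    rw [this]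
  -- disjointness
  have hd35 : Disjoint (Finset.univ.filter (fun g : G => 3 ∣ orderOf g))
      (Finset.univ.filter (fun g : G => 5 ∣ orderOf g)) := by
    rw [Finset.disjoint_left]
    intro g hg3 hg5
    rw [Finset.mem_filter] at hg3 hg5
    have hb := exists_pow_orderOf_eq_prime g 3 hg3.2
    have hy := exists_pow_orderOf_eq_prime g 5 hg5.2
    exact hno _ _ hb hy (((Commute.refl g).pow_left _).pow_right _)
  have hd17 : Disjoint (Finset.univ.filter (fun g : G => orderOf g = 17))
      ((Finset.univ.filter (fun g : G => 3 ∣ orderOf g)) ∪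
        (Finset.univ.filter (fun g : G => 5 ∣ orderOf g))) := by
    rw [Finset.disjoint_left]
    intro g hg17 hg
    rw [Finset.mem_filter] at hg17
    rw [Finset.mem_union, Finset.mem_filter, Finset.mem_filter, hg17.2] at hg
    rcases hg with hg | hg <;> exact absurd hg.2 (by norm_num)
  have hle := Finset.card_le_univ ((Finset.univ.filter (fun g : G => orderOf g = 17)) ∪
      ((Finset.univ.filter (fun g : G => 3 ∣ orderOf g)) ∪
        (Finset.univ.filter (fun g : G => 5 ∣ orderOf g))))
  rw [Finset.card_union_of_disjoint hd17, Finset.card_union_of_disjoint hd35, hS17,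
    ← Nat.card_eq_fintype_card, h] at hle
  omega

end Cfsg.Agent.Helper11.O4080
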