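import Mathlib
import Cfsg.Agent.Helper11.O4080B

set_option autoImplicit false
set_option linter.unusedSectionVars false

/-!
# Simple groups of order 4080 (part C): `n_3 = 136`
-/

namespace Cfsg.Agent.Helper11.O4080

open Cfsg.Agent.Helper11

variable {G : Type*} [Group G] [Finite G] [IsSimpleGroup G]

theorem card_normalizer5 (h : Nat.card G = 4080) (P : Sylow 5 G) :
    Nat.card ↥(Subgroup.normalizer ((P : Subgroup G) : Set G)) = 30 := by
  have h2 := card_sylow_mul_card_normalizer P
  rw [(n5 h).1, h] at h2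
  omega

/-- there are commuting elements of orders 3 and 5 -/
theorem exists_commute_3_5 (h : Nat.card G = 4080) :
    ∃ b y : G, orderOf b = 3 ∧ orderOf y = 5 ∧ Commute b y := by
  obtain ⟨P⟩ : Nonempty (Sylow 5 G) := inferInstance
  obtain ⟨b, hbC, hb⟩ := exists_mem_orderOf_eq_prime
    (Subgroup.centralizer ((P : Subgroup G) : Set G)) 3 (by rw [(n5 h).2 P]; norm_num)
  obtain ⟨y, hyP, hy⟩ := exists_mem_orderOf_eq_prime (P : Subgroup G) 5 (by rw [card_sylow5 h P])
  rw [Subgroup.mem_centralizer_iff] at hbC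
  exact ⟨b, y, hb, hy, (hbC y hyP).symm⟩

/-- a group of order 60 with a central element of order 3 has a normal Sylow 5-subgroup -/
theorem sylow5_normal_of_card_60 {C : Type*} [Group C] [Finite C] (hC : Nat.card C = 60)
    (b : C) (hb : orderOf b = 3) (hbc : ∀ c : C, c * b = b * c) (P : Sylow 5 C) :
    (P : Subgroup C).Normal := by
  have hG' : Nat.card C = 12 * 5 ^ 1 := by rw [hC]; norm_num
  have hmem := card_sylow_mem_filter 12 1 hG' (by norm_num)
  have hfilt : (Nat.divisors 12).filter (fun d => d % 5 = 1) = {1, 6} := by decide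
  rw [hfilt] at hmem
  simp only [Finset.mem_insert, Finset.mem_singleton] at hmem
  have hP5 : Nat.card ↥(P : Subgroup C) = 5 :=
    (sylow_card_of_card_eq 12 (by rw [hC]) (by norm_num) P).1
  have hprod := card_sylow_mul_card_normalizer P
  rw [hC] at hprod
  set N := Subgroup.normalizer ((P : Subgroup C) : Set C) with hN
  have h3 : 3 ∣ Nat.card ↥N := by
    rw [← hb]
    apply Subgroup.orderOf_dvd_natCard
    rw [hN, Subgroup.mem_normalizer_iff]
    intro x
    have : b * x * b⁻¹ = x := by
      rw [← hbc x, mul_assoc, mul_inv_cancel, mul_one]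
    rw [this]
  have h5 : 5 ∣ Nat.card ↥N := by
    rw [← hP5]
    exact Subgroup.card_dvd_of_le Subgroup.le_normalizer
  have h15 : 15 ∣ Nat.card ↥N := Nat.Coprime.mul_dvd_of_dvd_of_dvd (by norm_num) h3 h5
  rcases hmem with h1 | h1
  · have : Subsingleton (Sylow 5 C) := (Nat.card_eq_one_iff_unique.mp h1).1
    exact P.normal_of_subsingleton
  · exfalso
    rw [h1] at hprod
    have : Nat.card ↥N = 10 := by omega
    rw [this] at h15
    norm_num at h15

/-- `n_3 = 136` and the centralizer of a Sylow 3-subgroup has order 15 -/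
theorem n3 (h : Nat.card G = 4080) : Nat.card (Sylow 3 G) = 136 ∧ ∀ P : Sylow 3 G,
    Nat.card ↥(Subgroup.centralizer ((P : Subgroup G) : Set G)) = 15 := by
  classical
  obtain ⟨n3, c3, hn3, hc3, hcases⟩ := cases3 h
  obtain ⟨b, y, hb, hy, hby⟩ := exists_commute_3_5 h
  have hb1 : b ≠ 1 := by rintro rfl; rw [orderOf_one] at hb; norm_num at hb
  have h5c3 : 5 ∣ c3 := by
    obtain ⟨P⟩ : Nonempty (Sylow 3 G) := inferInstance
    rw [← hc3 P]
    exact (dvd_of_commute_3_5 h hb hy hby).2 P
  rcases hcases with ⟨hn, hc⟩ | ⟨-, hc⟩ | ⟨hn, hc⟩ | ⟨-, hc⟩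
  · exfalso
    -- `C(b)` has order 60
    obtain ⟨P3, hP3⟩ := exists_sylow_mem_of_orderOf_eq_prime hb
    have hCb : Nat.card ↥(Subgroup.centralizer ({b} : Set G)) = 60 := by
      rw [← centralizer_sylow_eq_centralizer_singleton P3 (card_sylow3 h P3) hP3 hb1, hc3 P3, hc]
    set C := Subgroup.centralizer ({b} : Set G) with hC
    have hbC : b ∈ C := by
      rw [hC, Subgroup.mem_centralizer_iff]
      intro x hx
      rw [Set.mem_singleton_iff] at hx
      subst hx; rfl
    obtain ⟨P'⟩ : Nonempty (Sylow 5 ↥C) := inferInstance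
    have hnorm : (P' : Subgroup ↥C).Normal := by
      refine sylow5_normal_of_card_60 hCb ⟨b, hbC⟩ ?_ ?_ P'
      · rw [Subgroup.orderOf_mk]; exact hb
      · intro c
        apply Subtype.ext
        rw [Subgroup.coe_mul, Subgroup.coe_mul]
        have h0 : (c : G) ∈ Subgroup.centralizer ({b} : Set G) := c.2
        rw [Subgroup.mem_centralizer_iff] at h0
        exact (h0 b rfl).symm
    have hP'5 : Nat.card ↥(P' : Subgroup ↥C) = 5 :=
      (sylow_card_of_card_eq 12 (by rw [hCb]) (by norm_num) P').1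
    -- the image in `G`
    set R := (P' : Subgroup ↥C).map C.subtype with hR
    have hRcard : Nat.card ↥R = 5 := by
      rw [← hP'5]
      exact (Nat.card_congr ((P' : Subgroup ↥C).equivMapOfInjective C.subtype
        C.subtype_injective).toEquiv).symm
    have hRC : R ≤ C := by
      rintro _ ⟨x, -, rfl⟩
      exact x.2
    have hconj : ∀ c ∈ C, ∀ x ∈ R, c * x * c⁻¹ ∈ R := by
      rintro c hc _ ⟨x, hx, rfl⟩
      refine ⟨⟨c, hc⟩ * x * ⟨c, hc⟩⁻¹, hnorm.conj_mem x hx ⟨c, hc⟩, ?_⟩
      simp
    have hCN : C ≤ Subgroup.normalizer (R : Set G) := by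
      intro c hc
      rw [Subgroup.mem_normalizer_iff]
      intro x
      constructor
      · exact hconj c hc x
      · intro hx
        have := hconj c⁻¹ (C.inv_mem hc) _ hx
        rw [inv_inv] at this
        have h2 : c⁻¹ * (c * x * c⁻¹) * c = x := by group
        rwa [h2] at this
    have hG' : Nat.card G = 816 * 5 := by rw [h]
    set R' : Sylow 5 G := sylowOfCardPrime 816 hG' (by norm_num) R hRcard with hR'
    have hRR' : ((R' : Sylow 5 G) : Subgroup G) = R := rfl
    have hN30 := card_normalizer5 h R'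
    rw [hRR'] at hN30
    have := Subgroup.card_le_of_le hCN
    rw [hCb, hN30] at this
    omega
  · rw [hc] at h5c3; norm_num at h5c3
  · exact ⟨hn3.trans hn, fun P => (hc3 P).trans hc⟩
  · rw [hc] at h5c3; norm_num at h5c3

end Cfsg.Agent.Helper11.O4080
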