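import Mathlib
import Cfsg.Agent.Helper11.O4080C
import Cfsg.Agent.Helper2.L27
import Cfsg.Agent.S1230

set_option autoImplicit false
set_option linter.unusedSectionVars false

/-!
# Simple groups of order 4080 (part D): counting; centralizers of involutions; conclusion
-/

namespace Cfsg.Agent.Helper11.O4080

open Cfsg.Agent.Helper11

variable {G : Type*} [Group G] [Finite G] [IsSimpleGroup G]

/-- elements commuting with an involution are 2-elements -/
theorem orderOf_dvd_16_of_commute (h : Nat.card G = 4080) {t c : G} (ht : orderOf t = 2)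
    (hct : Commute c t) : orderOf c ∣ 16 := by
  have ho : orderOf c ∣ 4080 := h ▸ orderOf_dvd_natCard c
  have h17 : ¬ 17 ∣ orderOf c := by
    intro hd
    have hz := exists_pow_orderOf_eq_prime c 17 hd
    rcases orderOf_of_commute_17 h hz (hct.pow_left _) with h1 | h1 <;> rw [ht] at h1 <;>
      norm_num at h1
  have h3 : ¬ 3 ∣ orderOf c := by
    intro hd
    have hb := exists_pow_orderOf_eq_prime c 3 hd
    set b := c ^ (orderOf c / 3) with hbdef
    have hb1 : b ≠ 1 := by
      intro h1; rw [h1, orderOf_one] at hb; norm_num at hb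
    obtain ⟨P, hP⟩ := exists_sylow_mem_of_orderOf_eq_prime hb
    have htC : t ∈ Subgroup.centralizer ((P : Subgroup G) : Set G) := by
      rw [centralizer_sylow_eq_centralizer_singleton P (card_sylow3 h P) hP hb1,
        Subgroup.mem_centralizer_iff]
      intro x hx
      rw [Set.mem_singleton_iff] at hx
      subst hx
      exact (hct.pow_left _).eq
    have := Subgroup.orderOf_dvd_natCard _ htC
    rw [(n3 h).2 P, ht] at this
    norm_num at this
  have h5 : ¬ 5 ∣ orderOf c := by
    intro hd
    have hb := exists_pow_orderOf_eq_prime c 5 hd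
    set b := c ^ (orderOf c / 5) with hbdef
    have hb1 : b ≠ 1 := by
      intro h1; rw [h1, orderOf_one] at hb; norm_num at hb
    obtain ⟨P, hP⟩ := exists_sylow_mem_of_orderOf_eq_prime hb
    have htC : t ∈ Subgroup.centralizer ((P : Subgroup G) : Set G) := by
      rw [centralizer_sylow_eq_centralizer_singleton P (card_sylow5 h P) hP hb1,
        Subgroup.mem_centralizer_iff]
      intro x hx
      rw [Set.mem_singleton_iff] at hx
      subst hx
      exact (hct.pow_left _).eq
    have := Subgroup.orderOf_dvd_natCard _ htC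
    rw [(n5 h).2 P, ht] at this
    norm_num at this
  have hdec : ∀ d ∈ Nat.divisors 4080, ¬ 17 ∣ d → ¬ 3 ∣ d → ¬ 5 ∣ d → d ∣ 16 := by decide +kernel
  exact hdec _ (Nat.mem_divisors.2 ⟨ho, by norm_num⟩) h17 h3 h5

/-- there are at most 255 nonidentity 2-elements -/
theorem card_two_elements_le (h : Nat.card G = 4080) [Fintype G] [DecidableEq G] :
    (Finset.univ.filter (fun g : G => g ≠ 1 ∧ orderOf g ∣ 16)).card ≤ 255 := by
  classical
  set S17 := Finset.univ.filter (fun g : G => orderOf g = 17) with hS17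
  set S3 := Finset.univ.filter (fun g : G => 3 ∣ orderOf g) with hS3
  set S5 := Finset.univ.filter (fun g : G => orderOf g = 5) with hS5
  set S2 := Finset.univ.filter (fun g : G => g ≠ 1 ∧ orderOf g ∣ 16) with hS2
  have hc17 : S17.card = 1920 := by
    obtain ⟨P⟩ : Nonempty (Sylow 17 G) := inferInstance
    have := card_orderOf_eq_prime P (card_sylow17 h P)
    rw [n17 h, Nat.card_eq_fintype_card, Fintype.card_subtype] at this
    rw [hS17, this]
  have hc5 : S5.card = 544 := by
    obtain ⟨P⟩ : Nonempty (Sylow 5 G) := inferInstance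
    have := card_orderOf_eq_prime P (card_sylow5 h P)
    rw [(n5 h).1, Nat.card_eq_fintype_card, Fintype.card_subtype] at this
    rw [hS5, this]
  have hc3 : 1360 ≤ S3.card := by
    have := card_singular_ge (p := 3) (card_sylow3 h) 5 (by norm_num) (fun P => by
      have := exists_subgroup_le_card_pow_prime
        (Subgroup.centralizer ((P : Subgroup G) : Set G)) 5 1 (by rw [(n3 h).2 P]; norm_num)
      simpa using this)
    rw [(n3 h).1] at this
    simpa using this
  have h1not : (1 : G) ∉ S17 ∪ (S3 ∪ (S5 ∪ S2)) := by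
    simp only [Finset.mem_union, hS17, hS3, hS5, hS2, Finset.mem_filter, Finset.mem_univ, true_and,
      orderOf_one, ne_eq, not_true_eq_false, false_and, or_false]
    norm_num
  have hd52 : Disjoint S5 S2 := by
    rw [Finset.disjoint_left]
    intro g hg5 hg2
    simp only [hS5, hS2, Finset.mem_filter, Finset.mem_univ, true_and] at hg5 hg2
    rw [hg5] at hg2
    exact absurd hg2.2 (by norm_num)
  have hd3 : Disjoint S3 (S5 ∪ S2) := by
    rw [Finset.disjoint_left]
    intro g hg3 hg
    simp only [hS3, hS5, hS2, Finset.mem_filter, Finset.mem_univ, true_and, Finset.mem_union] at hg3 hg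
    rcases hg with hg | hg
    · rw [hg] at hg3; norm_num at hg3
    · have := Nat.dvd_gcd hg3 (dvd_refl 3)
      have h2 : 3 ∣ 16 := hg3.trans hg.2
      norm_num at h2
  have hd17 : Disjoint S17 (S3 ∪ (S5 ∪ S2)) := by
    rw [Finset.disjoint_left]
    intro g hg17 hg
    simp only [hS17, hS3, hS5, hS2, Finset.mem_filter, Finset.mem_univ, true_and,
      Finset.mem_union] at hg17 hg
    rw [hg17] at hg
    rcases hg with hg | hg | hg
    · norm_num at hg
    · norm_num at hg
    · exact absurd hg.2 (by norm_num)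
  have hle := Finset.card_le_univ (insert 1 (S17 ∪ (S3 ∪ (S5 ∪ S2))))
  rw [Finset.card_insert_of_notMem h1not, Finset.card_union_of_disjoint hd17,
    Finset.card_union_of_disjoint hd3, Finset.card_union_of_disjoint hd52, hc17, hc5,
    ← Nat.card_eq_fintype_card, h] at hle
  omega

/-- the centralizer of an involution has order dividing 16 -/
theorem card_centralizer_involution_dvd (h : Nat.card G = 4080) {t : G} (ht : orderOf t = 2) :
    Nat.card ↥(Subgroup.centralizer ({t} : Set G)) ∣ 16 := by
  have : Fact (Nat.Prime 2) := ⟨Nat.prime_two⟩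
  set C := Subgroup.centralizer ({t} : Set G) with hC
  have hp : IsPGroup 2 ↥C := by
    intro c
    have hc : (c : G) ∈ Subgroup.centralizer ({t} : Set G) := c.2
    rw [Subgroup.mem_centralizer_iff] at hc
    have hct : Commute (c : G) t := (hc t rfl).symm
    have h8 := orderOf_dvd_16_of_commute h ht hct
    refine ⟨4, ?_⟩
    apply Subtype.ext
    rw [Subgroup.coe_pow, Subgroup.coe_one]
    have h8' : orderOf (c : G) ∣ 2 ^ 4 := by
      rw [show (2 : ℕ) ^ 4 = 16 by norm_num]; exact h8
    exact orderOf_dvd_iff_pow_eq_one.mp h8'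
  obtain ⟨k, hk⟩ := IsPGroup.iff_card.mp hp
  have hdvd : Nat.card ↥C ∣ 4080 := h ▸ Subgroup.card_subgroup_dvd_card C
  rw [hk] at hdvd ⊢
  have hcop : Nat.Coprime (2 ^ k) 255 := Nat.Coprime.pow_left k (by decide)
  have : 2 ^ k ∣ 16 * 255 := by norm_num; exact hdvd
  exact hcop.dvd_of_dvd_mul_right this

/-- every nonidentity 2-element is an involution -/
theorem orderOf_eq_two_of_dvd_16 (h : Nat.card G = 4080) {g : G} (hg1 : g ≠ 1)
    (hg : orderOf g ∣ 16) : orderOf g = 2 := by
  classical
  have : Fintype G := Fintype.ofFinite G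
  have hcard : Fintype.card G = 4080 := by rw [← Nat.card_eq_fintype_card]; exact h
  obtain ⟨t, ht⟩ := exists_prime_orderOf_dvd_card (G := G) 2 (by rw [hcard]; norm_num)
  have h1 := card_isConj_mul_card_centralizer t
  have h2 := card_centralizer_involution_dvd h ht
  rw [h] at h1
  have h3 : 255 ≤ Nat.card {x : G // IsConj t x} := by
    have hle : Nat.card ↥(Subgroup.centralizer ({t} : Set G)) ≤ 16 := Nat.le_of_dvd (by norm_num) h2
    by_contra hcon
    push Not at hcon
    have : Nat.card {x : G // IsConj t x} * Nat.card ↥(Subgroup.centralizer ({t} : Set G)) ≤ 254 * 16 :=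
      Nat.mul_le_mul (by omega) hle
    omega
  by_contra hne
  set S2 := Finset.univ.filter (fun g : G => g ≠ 1 ∧ orderOf g ∣ 16) with hS2
  have hsub : Finset.univ.filter (fun x : G => IsConj t x) ⊆ S2.erase g := by
    intro x hx
    rw [Finset.mem_filter] at hx
    have hox : orderOf x = 2 := by
      obtain ⟨c, hc⟩ := hx.2
      rw [← hc.orderOf_eq]; exact ht
    rw [Finset.mem_erase, hS2, Finset.mem_filter]
    refine ⟨?_, Finset.mem_univ _, ?_, ?_⟩
    · rintro rfl
      exact hne hox
    · rintro rfl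
      rw [orderOf_one] at hox
      norm_num at hox
    · rw [hox]; norm_num
  have hgS : g ∈ S2 := by
    rw [hS2, Finset.mem_filter]
    exact ⟨Finset.mem_univ _, hg1, hg⟩
  have h4 := Finset.card_le_card hsub
  rw [Finset.card_erase_of_mem hgS] at h4
  have h5 : S2.card ≤ 255 := card_two_elements_le h
  rw [Nat.card_eq_fintype_card, Fintype.card_subtype] at h3
  omega

/-- the centralizer of an involution has exponent 2 -/
theorem sq_eq_one_of_mem_centralizer (h : Nat.card G = 4080) {t : G} (ht : orderOf t = 2)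
    {c : G} (hc : c ∈ Subgroup.centralizer ({t} : Set G)) : c ^ 2 = 1 := by
  by_cases hc1 : c = 1
  · rw [hc1, one_pow]
  rw [Subgroup.mem_centralizer_iff] at hc
  have hct : Commute c t := (hc t rfl).symm
  have h8 := orderOf_dvd_16_of_commute h ht hct
  have h2 := orderOf_eq_two_of_dvd_16 h hc1 h8
  rw [← h2]
  exact pow_orderOf_eq_one c

theorem main (h : Nat.card G = 4080) {F : Type*} [Field F] [Fintype F] (hF : Fintype.card F = 16) :
    Nonempty (G ≃* Matrix.ProjectiveSpecialLinearGroup (Fin 2) F) := by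
  classical
  have : Fact (Nat.Prime 2) := ⟨Nat.prime_two⟩
  obtain ⟨T⟩ : Nonempty (Sylow 2 G) := inferInstance
  have hT8 : Nat.card ↥(T : Subgroup G) = 16 := by
    have := (sylow_card_of_card_eq_pow 255 4 (by rw [h]; norm_num) (by norm_num) T).1
    rw [this]; norm_num
  have hTsq : ∀ x ∈ (T : Subgroup G), x ^ 2 = 1 := by
    intro x hx
    by_cases hx1 : x = 1
    · rw [hx1, one_pow]
    have h8 : orderOf x ∣ 16 := by rw [← hT8]; exact Subgroup.orderOf_dvd_natCard _ hx
    have h2 := orderOf_eq_two_of_dvd_16 h hx1 h8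
    rw [← h2]; exact pow_orderOf_eq_one x
  have hnc : ¬ IsCyclic ↥(T : Subgroup G) := by
    intro hcyc
    obtain ⟨g, hg⟩ := hcyc.exists_generator
    have h1 : orderOf g = 16 := by
      rw [orderOf_eq_card_of_forall_mem_zpowers hg, hT8]
    have h2 : g ^ 2 = 1 := by
      apply Subtype.ext
      rw [Subgroup.coe_pow, Subgroup.coe_one]
      exact hTsq _ g.2
    have := orderOf_dvd_of_pow_eq_one h2
    rw [h1] at this
    norm_num at this
  have hnn : ¬ (T : Subgroup G).Normal := by
    intro hn
    rcases hn.eq_bot_or_eq_top with h1 | h1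
    · rw [h1, Subgroup.card_bot] at hT8
      norm_num at hT8
    · rw [h1, Subgroup.card_top, h] at hT8
      norm_num at hT8
  have hC : ∀ t : G, orderOf t = 2 → IsMulCommutative (Subgroup.centralizer ({t} : Set G)) ∧
      ∀ c ∈ Subgroup.centralizer ({t} : Set G), c ^ 2 = 1 := by
    intro t ht
    refine ⟨⟨⟨fun a b => ?_⟩⟩, fun c hc => sq_eq_one_of_mem_centralizer h ht hc⟩
    have ha : (a : G) ^ 2 = 1 := sq_eq_one_of_mem_centralizer h ht a.2
    have hb : (b : G) ^ 2 = 1 := sq_eq_one_of_mem_centralizer h ht b.2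
    have hab : ((a : G) * b) ^ 2 = 1 := sq_eq_one_of_mem_centralizer h ht (a * b).2
    apply Subtype.ext
    rw [Subgroup.coe_mul, Subgroup.coe_mul]
    have h1 : (a : G)⁻¹ = a := by
      rw [inv_eq_iff_mul_eq_one, ← pow_two]; exact ha
    have h2 : (b : G)⁻¹ = b := by
      rw [inv_eq_iff_mul_eq_one, ← pow_two]; exact hb
    have h3 : ((a : G) * b)⁻¹ = a * b := by
      rw [inv_eq_iff_mul_eq_one, ← pow_two]; exact hab
    calc (a : G) * b = ((a : G) * b)⁻¹ := h3.symm
      _ = (b : G)⁻¹ * (a : G)⁻¹ := mul_inv_rev _ _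
      _ = b * a := by rw [h1, h2]
  obtain ⟨K, fK, ftK, hK, ⟨e⟩⟩ := Cfsg.Agent.S1230.result T hnc hnn hC
  have hcardK : Fintype.card K = Fintype.card F := by rw [hK, hT8, hF]
  have eKF : K ≃+* F := (FiniteField.ringEquivOfCardEq hcardK)
  exact ⟨e.trans (Cfsg.Agent.Helper2.L27.pslCongr eKF)⟩

end Cfsg.Agent.Helper11.O4080
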