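import Mathlib
import Cfsg.Agent.Helper11.O504D

set_option autoImplicit false
set_option linter.unusedSectionVars false

/-!
# Simple groups of order 504 (part E): element orders and counting
-/

namespace Cfsg.Agent.Helper11.O504

open Cfsg.Agent.Helper11

variable {G : Type*} [Group G] [Finite G] [IsSimpleGroup G]

/-- a nonidentity 3-element has a power of order 3 -/
theorem exists_pow_orderOf_three {H : Type*} [Group H] {x : H} (hx : orderOf x ∣ 9) (hx1 : x ≠ 1) :
    ∃ k : ℕ, orderOf (x ^ k) = 3 := by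
  have hmem : orderOf x ∈ Nat.divisors 9 := Nat.mem_divisors.2 ⟨hx, by norm_num⟩
  have hdec : ∀ d ∈ Nat.divisors 9, d = 1 ∨ d = 3 ∨ d = 9 := by decide
  rcases hdec _ hmem with h1 | h1 | h1
  · exact absurd (orderOf_eq_one_iff.mp h1) hx1
  · exact ⟨1, by rw [pow_one, h1]⟩
  · refine ⟨3, ?_⟩
    rw [orderOf_pow' x (by norm_num), h1]
    norm_num

/-- Sylow 3-subgroups intersect trivially -/
theorem sylow3_TI (h : Nat.card G = 504) (P Q : Sylow 3 G) {x : G} (hxP : x ∈ (P : Subgroup G))
    (hxQ : x ∈ (Q : Subgroup G)) (hx1 : x ≠ 1) : P = Q := by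
  have hx9 : orderOf x ∣ 9 := by
    rw [← card_sylow3 h P]; exact Subgroup.orderOf_dvd_natCard _ hxP
  obtain ⟨k, hk⟩ := exists_pow_orderOf_three hx9 hx1
  have h1 := centralizer_three h P hk (Subgroup.pow_mem _ hxP k)
  have h2 := centralizer_three h Q hk (Subgroup.pow_mem _ hxQ k)
  exact Sylow.ext (h1.symm.trans h2)

/-- an element of order divisible by 3 is a 3-element -/
theorem orderOf_dvd_nine (h : Nat.card G = 504) (g : G) (hg : 3 ∣ orderOf g) : orderOf g ∣ 9 := by
  have : Fact (Nat.Prime 3) := ⟨by norm_num⟩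
  obtain ⟨m, hm⟩ := hg
  have hm0 : m ≠ 0 := by
    rintro rfl
    rw [mul_zero] at hm
    exact (orderOf_pos g).ne' hm
  have hb : orderOf (g ^ m) = 3 := by
    rw [orderOf_pow' g hm0, hm, Nat.gcd_eq_right (Dvd.intro_left 3 rfl)]
    exact Nat.mul_div_cancel _ (Nat.pos_of_ne_zero hm0)
  obtain ⟨P, hP⟩ := exists_sylow_mem_of_orderOf_dvd_pow (p := 3) (g ^ m) 1 (by rw [hb, pow_one])
  have hC := centralizer_three h P hb hP
  have hgC : g ∈ Subgroup.centralizer ({g ^ m} : Set G) := by
    rw [Subgroup.mem_centralizer_iff]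
    intro y hy
    rw [Set.mem_singleton_iff] at hy
    subst hy
    exact ((Commute.refl g).pow_left m).eq
  rw [hC] at hgC
  rw [← card_sylow3 h P]
  exact Subgroup.orderOf_dvd_natCard _ hgC

theorem orderOf_cases (h : Nat.card G = 504) (g : G) :
    orderOf g = 7 ∨ orderOf g ∣ 9 ∨ orderOf g ∣ 8 := by
  have ho : orderOf g ∣ 504 := h ▸ orderOf_dvd_natCard g
  by_cases h7 : 7 ∣ orderOf g
  · exact Or.inl (orderOf_eq_seven h g h7)
  by_cases h3 : 3 ∣ orderOf g
  · exact Or.inr (Or.inl (orderOf_dvd_nine h g h3))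
  right; right
  have hdec : ∀ d ∈ Nat.divisors 504, ¬ 7 ∣ d → ¬ 3 ∣ d → d ∣ 8 := by decide
  exact hdec _ (Nat.mem_divisors.2 ⟨ho, by norm_num⟩) h7 h3

/-- elements commuting with an involution are 2-elements -/
theorem orderOf_dvd_eight_of_commute (h : Nat.card G = 504) {t c : G} (ht : orderOf t = 2)
    (hct : Commute c t) : orderOf c ∣ 8 := by
  have : Fact (Nat.Prime 3) := ⟨by norm_num⟩
  rcases orderOf_cases h c with h1 | h1 | h1
  · exfalso
    rcases orderOf_of_commute_seven h h1 hct with h2 | h2 <;> rw [ht] at h2 <;> norm_num at h2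
  · by_cases hc1 : c = 1
    · rw [hc1, orderOf_one]; exact one_dvd _
    exfalso
    obtain ⟨k, hk⟩ := exists_pow_orderOf_three h1 hc1
    obtain ⟨P, hP⟩ := exists_sylow_mem_of_orderOf_dvd_pow (p := 3) (c ^ k) 1 (by rw [hk, pow_one])
    have hC := centralizer_three h P hk hP
    have htC : t ∈ Subgroup.centralizer ({c ^ k} : Set G) := by
      rw [Subgroup.mem_centralizer_iff]
      intro y hy
      rw [Set.mem_singleton_iff] at hy
      subst hy
      exact (hct.pow_left k).eq
    rw [hC] at htC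
    have := Subgroup.orderOf_dvd_natCard _ htC
    rw [card_sylow3 h P, ht] at this
    norm_num at this
  · exact h1

end Cfsg.Agent.Helper11.O504
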