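import Mathlib
import Cfsg.Agent.Helper11.O504E

set_option autoImplicit false
set_option linter.unusedSectionVars false

/-!
# Simple groups of order 504 (part F): counting; centralizers of involutions
-/

namespace Cfsg.Agent.Helper11.O504

open Cfsg.Agent.Helper11

variable {G : Type*} [Group G] [Finite G] [IsSimpleGroup G]

/-- the number of nonidentity 3-elements -/
theorem card_three_elements (h : Nat.card G = 504) [Fintype G] [DecidableEq G] :
    (Finset.univ.filter (fun g : G => g ≠ 1 ∧ orderOf g ∣ 9)).card = 224 := by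
  classical
  have : Fact (Nat.Prime 3) := ⟨by norm_num⟩
  have : Fintype (Sylow 3 G) := Fintype.ofFinite _
  have hU : Finset.univ.filter (fun g : G => g ≠ 1 ∧ orderOf g ∣ 9) =
      (Finset.univ : Finset (Sylow 3 G)).biUnion
        (fun P => Finset.univ.filter (fun g : G => g ∈ (P : Subgroup G) ∧ g ≠ 1)) := by
    ext g
    simp only [Finset.mem_filter, Finset.mem_univ, true_and, Finset.mem_biUnion]
    constructor
    · rintro ⟨hg1, hg9⟩
      obtain ⟨P, hP⟩ := exists_sylow_mem_of_orderOf_dvd_pow (p := 3) g 2 (by norm_num; exact hg9)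
      exact ⟨P, hP, hg1⟩
    · rintro ⟨P, hP, hg1⟩
      refine ⟨hg1, ?_⟩
      rw [← card_sylow3 h P]
      exact Subgroup.orderOf_dvd_natCard _ hP
  rw [hU, Finset.card_biUnion]
  · have hpiece : ∀ P : Sylow 3 G,
        (Finset.univ.filter (fun g : G => g ∈ (P : Subgroup G) ∧ g ≠ 1)).card = 8 := by
      intro P
      have h1 : Finset.univ.filter (fun g : G => g ∈ (P : Subgroup G) ∧ g ≠ 1) =
          (Finset.univ.filter (fun g : G => g ∈ (P : Subgroup G))).erase 1 := by
        ext s
        simp only [Finset.mem_erase, Finset.mem_filter, Finset.mem_univ, true_and]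
        tauto
      rw [h1, Finset.card_erase_of_mem (by simp [one_mem])]
      have h2 : (Finset.univ.filter (fun g : G => g ∈ (P : Subgroup G))).card = 9 := by
        rw [← card_sylow3 h P, Nat.card_eq_fintype_card, Fintype.card_subtype]
      rw [h2]
    rw [Finset.sum_congr rfl (fun P _ => hpiece P), Finset.sum_const, Finset.card_univ, smul_eq_mul,
      ← Nat.card_eq_fintype_card, n3 h]
  · intro P _ Q _ hPQ
    rw [Function.onFun, Finset.disjoint_left]
    intro s hsP hsQ
    simp only [Finset.mem_filter, Finset.mem_univ, true_and] at hsP hsQ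
    exact hPQ (sylow3_TI h P Q hsP.1 hsQ.1 hsP.2)

/-- the number of elements of order 7 -/
theorem card_seven_elements (h : Nat.card G = 504) [Fintype G] [DecidableEq G] :
    (Finset.univ.filter (fun g : G => orderOf g = 7)).card = 216 := by
  have : Fact (Nat.Prime 7) := ⟨by norm_num⟩
  obtain ⟨P⟩ : Nonempty (Sylow 7 G) := inferInstance
  have := card_orderOf_eq_prime P (card_sylow7 h P)
  rw [n7 h, Nat.card_eq_fintype_card, Fintype.card_subtype] at this
  rw [this]

/-- the number of nonidentity 2-elements -/
theorem card_two_elements (h : Nat.card G = 504) [Fintype G] [DecidableEq G] :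
    (Finset.univ.filter (fun g : G => g ≠ 1 ∧ orderOf g ∣ 8)).card = 63 := by
  classical
  set S7 := Finset.univ.filter (fun g : G => orderOf g = 7) with hS7
  set S3 := Finset.univ.filter (fun g : G => g ≠ 1 ∧ orderOf g ∣ 9) with hS3
  set S2 := Finset.univ.filter (fun g : G => g ≠ 1 ∧ orderOf g ∣ 8) with hS2
  have hcover : (Finset.univ : Finset G) = insert 1 (S7 ∪ (S3 ∪ S2)) := by
    ext g
    simp only [Finset.mem_univ, Finset.mem_insert, Finset.mem_union, hS7, hS3, hS2,
      Finset.mem_filter, true_and, true_iff]
    by_cases hg1 : g = 1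
    · exact Or.inl hg1
    right
    rcases orderOf_cases h g with h1 | h1 | h1
    · exact Or.inl h1
    · exact Or.inr (Or.inl ⟨hg1, h1⟩)
    · exact Or.inr (Or.inr ⟨hg1, h1⟩)
  have h1not : (1 : G) ∉ S7 ∪ (S3 ∪ S2) := by
    simp only [Finset.mem_union, hS7, hS3, hS2, Finset.mem_filter, Finset.mem_univ, true_and,
      orderOf_one, ne_eq, not_true_eq_false, false_and, or_false]
    norm_num
  have hd32 : Disjoint S3 S2 := by
    rw [Finset.disjoint_left]
    intro g hg3 hg2
    simp only [hS3, hS2, Finset.mem_filter, Finset.mem_univ, true_and] at hg3 hg2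
    have : orderOf g ∣ Nat.gcd 9 8 := Nat.dvd_gcd hg3.2 hg2.2
    have h1 : orderOf g = 1 := by
      have hg : Nat.gcd 9 8 = 1 := by decide
      rw [hg] at this
      exact Nat.dvd_one.mp this
    exact hg3.1 (orderOf_eq_one_iff.mp h1)
  have hd7 : Disjoint S7 (S3 ∪ S2) := by
    rw [Finset.disjoint_left]
    intro g hg7 hg
    simp only [hS7, hS3, hS2, Finset.mem_filter, Finset.mem_univ, true_and, Finset.mem_union] at hg7 hg
    rw [hg7] at hg
    rcases hg with hg | hg <;> exact absurd hg.2 (by norm_num)
  have hcard : Fintype.card G = 504 := by rw [← Nat.card_eq_fintype_card]; exact h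
  have := congrArg Finset.card hcover
  rw [Finset.card_univ, hcard, Finset.card_insert_of_notMem h1not, Finset.card_union_of_disjoint hd7,
    Finset.card_union_of_disjoint hd32, card_seven_elements h, card_three_elements h] at this
  omega

end Cfsg.Agent.Helper11.O504
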