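import Mathlib
import Cfsg.Agent.Helper11.O504F
import Cfsg.Agent.Helper2.L27
import Cfsg.Agent.S1230

set_option autoImplicit false
set_option linter.unusedSectionVars false

/-!
# Simple groups of order 504 (part G): the centralizer of an involution; conclusion
-/

namespace Cfsg.Agent.Helper11.O504

open Cfsg.Agent.Helper11

variable {G : Type*} [Group G] [Finite G] [IsSimpleGroup G]

/-- the centralizer of an involution has order dividing 8 -/
theorem card_centralizer_involution_dvd (h : Nat.card G = 504) {t : G} (ht : orderOf t = 2) :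
    Nat.card ↥(Subgroup.centralizer ({t} : Set G)) ∣ 8 := by
  have : Fact (Nat.Prime 2) := ⟨Nat.prime_two⟩
  set C := Subgroup.centralizer ({t} : Set G) with hC
  have hp : IsPGroup 2 ↥C := by
    intro c
    have hc : (c : G) ∈ Subgroup.centralizer ({t} : Set G) := c.2
    rw [Subgroup.mem_centralizer_iff] at hc
    have hct : Commute (c : G) t := (hc t rfl).symm
    have h8 := orderOf_dvd_eight_of_commute h ht hct
    refine ⟨3, ?_⟩
    apply Subtype.ext
    rw [Subgroup.coe_pow, Subgroup.coe_one]
    have h8' : orderOf (c : G) ∣ 2 ^ 3 := by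
      rw [show (2 : ℕ) ^ 3 = 8 by norm_num]; exact h8
    exact orderOf_dvd_iff_pow_eq_one.mp h8'
  obtain ⟨k, hk⟩ := IsPGroup.iff_card.mp hp
  have hdvd : Nat.card ↥C ∣ 504 := h ▸ Subgroup.card_subgroup_dvd_card C
  rw [hk] at hdvd ⊢
  have hcop : Nat.Coprime (2 ^ k) 63 := Nat.Coprime.pow_left k (by decide)
  have : 2 ^ k ∣ 8 * 63 := by norm_num; exact hdvd
  exact hcop.dvd_of_dvd_mul_right this

/-- every nonidentity 2-element is an involution -/
theorem orderOf_eq_two_of_dvd_eight (h : Nat.card G = 504) {g : G} (hg1 : g ≠ 1)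
    (hg : orderOf g ∣ 8) : orderOf g = 2 := by
  classical
  have : Fintype G := Fintype.ofFinite G
  have hcard : Fintype.card G = 504 := by rw [← Nat.card_eq_fintype_card]; exact h
  -- an involution
  obtain ⟨t, ht⟩ := exists_prime_orderOf_dvd_card (G := G) 2 (by rw [hcard]; norm_num)
  have h1 := card_isConj_mul_card_centralizer t
  have h2 := card_centralizer_involution_dvd h ht
  rw [h] at h1
  have h3 : 63 ≤ Nat.card {x : G // IsConj t x} := by
    have hle : Nat.card ↥(Subgroup.centralizer ({t} : Set G)) ≤ 8 := Nat.le_of_dvd (by norm_num) h2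
    by_contra hcon
    push Not at hcon
    have : Nat.card {x : G // IsConj t x} * Nat.card ↥(Subgroup.centralizer ({t} : Set G)) ≤ 62 * 8 :=
      Nat.mul_le_mul (by omega) hle
    omega
  by_contra hne
  set S2 := Finset.univ.filter (fun g : G => g ≠ 1 ∧ orderOf g ∣ 8) with hS2
  have hsub : Finset.univ.filter (fun x : G => IsConj t x) ⊆ S2.erase g := by
    intro x hx
    rw [Finset.mem_filter] at hx
    have hox : orderOf x = 2 := by
      obtain ⟨c, hc⟩ := hx.2
      rw [← hc.orderOf_eq]; exact ht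
    rw [Finset.mem_erase, hS2, Finset.mem_filter]
    refine ⟨?_, Finset.mem_univ _, ?_, ?_⟩
    · rintro rfl
      exact hne hox
    · rintro rfl
      rw [orderOf_one] at hox
      norm_num at hox
    · rw [hox]; norm_num
  have hgS : g ∈ S2 := by
    rw [hS2, Finset.mem_filter]
    exact ⟨Finset.mem_univ _, hg1, hg⟩
  have h4 := Finset.card_le_card hsub
  rw [Finset.card_erase_of_mem hgS, card_two_elements h] at h4
  rw [Nat.card_eq_fintype_card, Fintype.card_subtype] at h3
  omega

/-- the centralizer of an involution has exponent 2 -/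
theorem sq_eq_one_of_mem_centralizer (h : Nat.card G = 504) {t : G} (ht : orderOf t = 2)
    {c : G} (hc : c ∈ Subgroup.centralizer ({t} : Set G)) : c ^ 2 = 1 := by
  by_cases hc1 : c = 1
  · rw [hc1, one_pow]
  rw [Subgroup.mem_centralizer_iff] at hc
  have hct : Commute c t := (hc t rfl).symm
  have h8 := orderOf_dvd_eight_of_commute h ht hct
  have h2 := orderOf_eq_two_of_dvd_eight h hc1 h8
  rw [← h2]
  exact pow_orderOf_eq_one c

theorem main (h : Nat.card G = 504) {F : Type*} [Field F] [Fintype F] (hF : Fintype.card F = 8) :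
    Nonempty (G ≃* Matrix.ProjectiveSpecialLinearGroup (Fin 2) F) := by
  classical
  have : Fact (Nat.Prime 2) := ⟨Nat.prime_two⟩
  obtain ⟨T⟩ : Nonempty (Sylow 2 G) := inferInstance
  have hT8 : Nat.card ↥(T : Subgroup G) = 8 := by
    have := (sylow_card_of_card_eq_pow 63 3 (by rw [h]; norm_num) (by norm_num) T).1
    rw [this]; norm_num
  -- all elements of `T` have square one
  have hTsq : ∀ x ∈ (T : Subgroup G), x ^ 2 = 1 := by
    intro x hx
    by_cases hx1 : x = 1
    · rw [hx1, one_pow]
    have h8 : orderOf x ∣ 8 := by rw [← hT8]; exact Subgroup.orderOf_dvd_natCard _ hx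
    have h2 := orderOf_eq_two_of_dvd_eight h hx1 h8
    rw [← h2]; exact pow_orderOf_eq_one x
  have hnc : ¬ IsCyclic ↥(T : Subgroup G) := by
    intro hcyc
    obtain ⟨g, hg⟩ := hcyc.exists_generator
    have h1 : orderOf g = 8 := by
      rw [orderOf_eq_card_of_forall_mem_zpowers hg, hT8]
    have h2 : g ^ 2 = 1 := by
      apply Subtype.ext
      rw [Subgroup.coe_pow, Subgroup.coe_one]
      exact hTsq _ g.2
    have := orderOf_dvd_of_pow_eq_one h2
    rw [h1] at this
    norm_num at this
  have hnn : ¬ (T : Subgroup G).Normal := by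
    intro hn
    rcases hn.eq_bot_or_eq_top with h1 | h1
    · rw [h1, Subgroup.card_bot] at hT8
      norm_num at hT8
    · rw [h1, Subgroup.card_top, h] at hT8
      norm_num at hT8
  have hC : ∀ t : G, orderOf t = 2 → IsMulCommutative (Subgroup.centralizer ({t} : Set G)) ∧
      ∀ c ∈ Subgroup.centralizer ({t} : Set G), c ^ 2 = 1 := by
    intro t ht
    refine ⟨⟨⟨fun a b => ?_⟩⟩, fun c hc => sq_eq_one_of_mem_centralizer h ht hc⟩
    have ha : (a : G) ^ 2 = 1 := sq_eq_one_of_mem_centralizer h ht a.2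
    have hb : (b : G) ^ 2 = 1 := sq_eq_one_of_mem_centralizer h ht b.2
    have hab : ((a : G) * b) ^ 2 = 1 := sq_eq_one_of_mem_centralizer h ht (a * b).2
    apply Subtype.ext
    rw [Subgroup.coe_mul, Subgroup.coe_mul]
    have h1 : (a : G)⁻¹ = a := by
      rw [inv_eq_iff_mul_eq_one, ← pow_two]; exact ha
    have h2 : (b : G)⁻¹ = b := by
      rw [inv_eq_iff_mul_eq_one, ← pow_two]; exact hb
    have h3 : ((a : G) * b)⁻¹ = a * b := by
      rw [inv_eq_iff_mul_eq_one, ← pow_two]; exact hab
    calc (a : G) * b = ((a : G) * b)⁻¹ := h3.symm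
      _ = (b : G)⁻¹ * (a : G)⁻¹ := mul_inv_rev _ _
      _ = b * a := by rw [h1, h2]
  obtain ⟨K, fK, ftK, hK, ⟨e⟩⟩ := Cfsg.Agent.S1230.result T hnc hnn hC
  have hcardK : Fintype.card K = Fintype.card F := by rw [hK, hT8, hF]
  have eKF : K ≃+* F := (FiniteField.ringEquivOfCardEq hcardK)
  exact ⟨e.trans (Cfsg.Agent.Helper2.L27.pslCongr eKF)⟩

end Cfsg.Agent.Helper11.O504
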