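import Cfsg.Agent.Helper29.OC2K.Main
import Cfsg.Agent.Helper17.OC2KC2Defs
import Cfsg.Agent.Helper17.OC2KC2PM
import Cfsg.Agent.Helper20.OC2KC2GEOPAIR

set_option autoImplicit false
set_option linter.unusedSectionVars false
set_option linter.unusedVariables false

/-! # OC2K chapter CHAR2, Part B, piece FIN (helper11): the final contradiction in characteristic 2.
If every `y ∈ Rad M v` has all its components proportional to those of `v`, the polar form vanishes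
on `Rad M v = g (Tu u)`, but `Tu u` is not totally isotropic. -/

namespace Cfsg.Agent.OC2K

open Matrix Cfsg.Agent.Helper28.Sg Cfsg.Agent.Helper28.Spin Cfsg.Agent.Helper12.OrthGen
  Cfsg.Agent.S2614 Cfsg.Agent.S5683P Cfsg.Agent.Helper28.NDM

variable {F : Type*} [Field F] [Fintype F] {t k : ℕ} {ι : Type} [Fintype ι] [DecidableEq ι] {Q : QuadraticForm F (ι → F)} [QHyp Q] {D : Fin t → Submodule F (ι → F)}
  {M : Subgroup (OGq Q)}

/-- `B (s • a) (s' • a) = 0` in characteristic 2 -/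
theorem C2.FIN.aux_smul (h2 : (2 : F) = 0) (a : ι → F) (s s' : F) :
    B (Q) (s • a) (s' • a) = 0 := by
  show QuadraticMap.polar (⇑Q) (s • a) (s' • a) = 0
  rw [QuadraticMap.polar_smul_left, QuadraticMap.polar_smul_right]
  have h := B_self (Q) a
  simp only [B] at h
  rw [h, h2, zero_mul, smul_zero, smul_zero]

theorem C2.FIN.false (h2 : (2 : F) = 0) (hD : HD Q k D) (hk : 4 ≤ k) (hHM : HS D ≤ M) (hG1 : ¬ G1 M D)
    {v : ι → F} (hv : NPV M D v)
    (hloc : ∀ y ∈ Rad M v hv.Qv, ∀ c, ∃ s : F, cmp D c y = s • cmp D c v) : False := by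
  obtain ⟨g, hg, c, u, hu, hu0, hQu, hgu⟩ := hv.img
  subst hgu
  obtain ⟨w, hw, w', hw', huw, huw', hww'⟩ := C2.GEOPAIR.main hD hk hu hu0 hQu
  have h1 : mt (Q) g *ᵥ w ∈ Rad M (mt (Q) g *ᵥ u) hv.Qv :=
    (RADV.iff hD hHM hG1 hg hu hu0 hQu hv.Qv).2 ⟨w, ⟨hw, huw⟩, rfl⟩
  have h1' : mt (Q) g *ᵥ w' ∈ Rad M (mt (Q) g *ᵥ u) hv.Qv :=
    (RADV.iff hD hHM hG1 hg hu hu0 hQu hv.Qv).2 ⟨w', ⟨hw', huw'⟩, rfl⟩
  apply hww'
  rw [← B_isom (Q) g w w', CMP2.B_sum hD]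
  apply Finset.sum_eq_zero
  intro b _
  obtain ⟨s, hs⟩ := hloc _ h1 b
  obtain ⟨s', hs'⟩ := hloc _ h1' b
  rw [hs, hs']
  exact C2.FIN.aux_smul h2 _ s s'

end Cfsg.Agent.OC2K
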