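import Cfsg.Agent.Helper29.OC2K.Main
import Cfsg.Agent.Helper17.OC2KC2Defs
import Cfsg.Agent.Helper17.OC2KC2PM

set_option autoImplicit false
set_option linter.unusedSectionVars false
set_option linter.unusedVariables false

/-! # OC2K chapter CHAR2, Part B, piece GEODPERP (helper11, hedge): double perp inside a block for an
arbitrary (possibly nonsingular) `a ≠ 0`: a vector of `D c` perpendicular to `a^⊥ ∩ D c` is a
multiple of `a`.  Same proof as `GEOC.perp_perp`. -/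

namespace Cfsg.Agent.OC2K

open Matrix Cfsg.Agent.Helper28.Sg Cfsg.Agent.Helper28.Spin Cfsg.Agent.Helper12.OrthGen
  Cfsg.Agent.S2614 Cfsg.Agent.S5683P Cfsg.Agent.Helper28.NDM

variable {F : Type*} [Field F] [Fintype F] {t k : ℕ} {ι : Type} [Fintype ι] [DecidableEq ι] {Q : QuadraticForm F (ι → F)} [QHyp Q] {D : Fin t → Submodule F (ι → F)}
  {M : Subgroup (OGq Q)}

theorem C2.GEODPERP.main (hD : HD Q k D) {c : Fin t} {a : ι → F} (ha : a ∈ D c) (ha0 : a ≠ 0) {x : ι → F}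
    (hx : x ∈ D c) (h : ∀ w ∈ D c, B (Q) a w = 0 → B (Q) w x = 0) : ∃ s : F, x = s • a := by
  obtain ⟨y, hyN, huy⟩ := hD.nd c a ha ha0
  -- `f ∈ D c` with `B a f = 1`
  obtain ⟨f, hf⟩ : ∃ f : ι → F, f = (B (Q) a y)⁻¹ • y := ⟨_, rfl⟩
  have hfN : f ∈ D c := by rw [hf]; exact (D c).smul_mem _ hyN
  have huf : B (Q) a f = 1 := by
    rw [hf]
    show QuadraticMap.polar _ a (_ • y) = 1
    rw [QuadraticMap.polar_smul_right, smul_eq_mul]
    exact inv_mul_cancel₀ huy
  have hfu : B (Q) f a = 1 := by rw [B_comm]; exact huf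
  obtain ⟨s, hs⟩ : ∃ s : F, s = B (Q) f x := ⟨_, rfl⟩
  refine ⟨s, ?_⟩
  by_contra hne
  have hx'0 : x - s • a ≠ 0 := fun h0 => hne (sub_eq_zero.mp h0)
  have hx'N : x - s • a ∈ D c := (D c).sub_mem hx ((D c).smul_mem _ ha)
  obtain ⟨w, hwN, hw⟩ := hD.nd c _ hx'N hx'0
  apply hw
  rw [B_comm]
  -- `w = w' + B a w • f`, `w' ⊥ a`
  obtain ⟨w', hw'⟩ : ∃ w' : ι → F, w' = w - B (Q) a w • f := ⟨_, rfl⟩
  have hw'N : w' ∈ D c := by rw [hw']; exact (D c).sub_mem hwN ((D c).smul_mem _ hfN)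
  have huw' : B (Q) a w' = 0 := by
    rw [hw']
    show QuadraticMap.polar _ a (w - _ • f) = 0
    rw [QuadraticMap.polar_sub_right, QuadraticMap.polar_smul_right, smul_eq_mul]
    have : QuadraticMap.polar (⇑(Q)) a f = 1 := huf
    rw [this, mul_one, sub_self]
  have hw'x : B (Q) w' x = 0 := h w' hw'N huw'
  have hw'u : B (Q) w' a = 0 := by rw [B_comm]; exact huw'
  have hweq : w = w' + B (Q) a w • f := by rw [hw']; abel
  have e1 : B (Q) w (x - s • a) =
      B (Q) w x - s * B (Q) w a := by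
    show QuadraticMap.polar _ w (x - s • a) = _
    rw [QuadraticMap.polar_sub_right, QuadraticMap.polar_smul_right, smul_eq_mul]
  have e2 : B (Q) w x = B (Q) w' x + B (Q) a w * B (Q) f x := by
    conv_lhs => rw [hweq]
    show QuadraticMap.polar _ (w' + _ • f) x = _
    rw [QuadraticMap.polar_add_left, QuadraticMap.polar_smul_left, smul_eq_mul]
  rw [e1, e2, hw'x, ← hs, B_comm (Q) w a]
  ring

end Cfsg.Agent.OC2K
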