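import Cfsg.Agent.Helper29.OC2K.Main
import Cfsg.Agent.Helper17.OC2KC2Defs
import Cfsg.Agent.Helper17.OC2KC2PM
import Cfsg.Agent.Helper11.OC2KC2GEODPERP

set_option autoImplicit false
set_option linter.unusedSectionVars false
set_option linter.unusedVariables false

/-! # OC2K chapter CHAR2, Part B, piece LOCB2FIN (helper11): localisation at a block where the
component `a = cmp D c v` is nonsingular (characteristic 2, finite field): if every singular
`x ∈ a^⊥ ∩ D c` is perpendicular to `y`, then `cmp D c y ∈ F a`. -/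

namespace Cfsg.Agent.OC2K

open Matrix Cfsg.Agent.Helper28.Sg Cfsg.Agent.Helper28.Spin Cfsg.Agent.Helper12.OrthGen
  Cfsg.Agent.S2614 Cfsg.Agent.S5683P Cfsg.Agent.Helper28.NDM

variable {F : Type*} [Field F] [Fintype F] {t k : ℕ} {ι : Type} [Fintype ι] [DecidableEq ι] {Q : QuadraticForm F (ι → F)} [QHyp Q] {D : Fin t → Submodule F (ι → F)}
  {M : Subgroup (OGq Q)}

/-- in characteristic 2 over a finite field, a vector `z ⊥ a` (`Q a ≠ 0`) can be made singular
by adding a multiple of `a` -/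
theorem C2.LOCB2FIN.aux_sing (h2 : (2 : F) = 0) {a z : ι → F} (hQa : Q a ≠ 0)
    (haz : B (Q) a z = 0) : ∃ l : F, Q (z + l • a) = 0 ∧ B (Q) a (z + l • a) = 0 := by
  have hch : ringChar F = 2 := CharP.ringChar_of_prime_eq_zero Nat.prime_two (by exact_mod_cast h2)
  obtain ⟨l, hl⟩ := FiniteField.isSquare_of_char_two hch (Q z / Q a)
  refine ⟨l, ?_, ?_⟩
  · rw [Q_add, Q_smul]
    have e1 : B (Q) z (l • a) = l * B (Q) a z := by
      show QuadraticMap.polar (⇑Q) z (l • a) = l * QuadraticMap.polar (⇑Q) a z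
      rw [QuadraticMap.polar_smul_right, smul_eq_mul, QuadraticMap.polar_comm]
    rw [e1, haz, mul_zero, add_zero, ← hl, div_mul_cancel₀ _ hQa]
    linear_combination Q z * h2
  · have e1 : B (Q) a (z + l • a) = B (Q) a z + l * B (Q) a a := by
      show QuadraticMap.polar (⇑Q) a (z + l • a) =
        QuadraticMap.polar (⇑Q) a z + l * QuadraticMap.polar (⇑Q) a a
      rw [QuadraticMap.polar_add_right, QuadraticMap.polar_smul_right, smul_eq_mul]
    rw [e1, haz, B_self, h2, zero_mul, mul_zero, add_zero]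

/-- a vector of the block perpendicular to `a`, not a multiple of `a` -/
theorem C2.LOCB2FIN.aux_exists (hD : HD Q k D) {c : Fin t} {a : ι → F} (ha : a ∈ D c)
    (ha0 : a ≠ 0) : ∃ z ∈ D c, B (Q) a z = 0 ∧ ∀ s : F, z ≠ s • a := by
  classical
  obtain ⟨a', ha', haa'⟩ := hD.nd c a ha ha0
  obtain ⟨w0, hw0N, hw0⟩ : ∃ w0 ∈ D c, w0 ∉ Submodule.span F ({a, a'} : Set (ι → F)) := by
    by_contra hcon
    push Not at hcon
    have hle : D c ≤ Submodule.span F ({a, a'} : Set (ι → F)) := hcon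
    have h1 := Submodule.finrank_mono hle
    have h2 : Module.finrank F (Submodule.span F ({a, a'} : Set (ι → F))) ≤ 2 := by
      have := finrank_span_finset_le_card (R := F) ({a, a'} : Finset (ι → F))
      rw [Finset.coe_insert, Finset.coe_singleton] at this
      exact this.trans Finset.card_le_two
    have h3 := BLK.three hD c
    omega
  refine ⟨w0 - (B (Q) a w0 / B (Q) a a') • a', (D c).sub_mem hw0N ((D c).smul_mem _ ha'), ?_, ?_⟩
  · have e1 : B (Q) a (w0 - (B (Q) a w0 / B (Q) a a') • a') =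
        B (Q) a w0 - (B (Q) a w0 / B (Q) a a') * B (Q) a a' := by
      show QuadraticMap.polar (⇑Q) a (w0 - (B (Q) a w0 / B (Q) a a') • a') =
        QuadraticMap.polar (⇑Q) a w0 - (B (Q) a w0 / B (Q) a a') * QuadraticMap.polar (⇑Q) a a'
      rw [QuadraticMap.polar_sub_right, QuadraticMap.polar_smul_right, smul_eq_mul]
    rw [e1, div_mul_cancel₀ _ haa', sub_self]
  · intro s hs
    apply hw0
    have e : w0 = s • a + (B (Q) a w0 / B (Q) a a') • a' := by
      rw [← hs]
      abel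
    rw [e]
    exact Submodule.add_mem _ (Submodule.smul_mem _ _ (Submodule.subset_span (by simp)))
      (Submodule.smul_mem _ _ (Submodule.subset_span (by simp)))

theorem C2.LOCB2FIN.main (h2 : (2 : F) = 0) (hD : HD Q k D) (hk : 4 ≤ k) (hHM : HS D ≤ M)
    (hG1 : ¬ G1 M D) {v : ι → F} (hv : NPV M D v) {c : Fin t} (hQ : Q (cmp D c v) ≠ 0) {y : ι → F}
    (hy : y ∈ Rad M v hv.Qv)
    (hs : ∀ x ∈ D c, x ≠ 0 → Q x = 0 → B (Q) x (cmp D c v) = 0 → B (Q) x y = 0) :
    ∃ s : F, cmp D c y = s • cmp D c v := by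
  have ha : cmp D c v ∈ D c := CMP1.mem hD c v
  have ha0 : cmp D c v ≠ 0 := by
    intro h0
    apply hQ
    rw [h0]
    exact map_zero _
  have haa : B (Q) (cmp D c v) (cmp D c v) = 0 := by
    rw [B_self, h2, zero_mul]
  have hav : B (Q) (cmp D c v) v = 0 := by
    rw [← CMP2.B_left hD ha v]
    exact haa
  -- (i) a singular vector of `N`
  obtain ⟨z0, hz0, haz0, hz0a⟩ := C2.LOCB2FIN.aux_exists hD ha ha0
  obtain ⟨l0, hQx0, hax0⟩ := C2.LOCB2FIN.aux_sing h2 hQ haz0
  have hx0D : z0 + l0 • cmp D c v ∈ D c := (D c).add_mem hz0 ((D c).smul_mem _ ha)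
  have hx00 : z0 + l0 • cmp D c v ≠ 0 := by
    intro h0
    apply hz0a (-l0)
    rw [neg_smul]
    exact eq_neg_of_add_eq_zero_left h0
  have hx0a : B (Q) (z0 + l0 • cmp D c v) (cmp D c v) = 0 := by
    rw [B_comm]
    exact hax0
  -- (ii) `B a y = 0`
  have hx0y : B (Q) (z0 + l0 • cmp D c v) y = 0 := hs _ hx0D hx00 hQx0 hx0a
  have hx0v : B (Q) (z0 + l0 • cmp D c v) v = 0 := by
    rw [← CMP2.B_left hD hx0D v]
    exact hx0a
  have hay : B (Q) (cmp D c v) y = 0 :=
    C2.PM.step1 hD hHM hG1 hv hx0D ha hx00 hQx0 hx0a hx0v hav hy hx0y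
  -- (iii) `y ⊥ N`
  have hN : ∀ w ∈ D c, B (Q) (cmp D c v) w = 0 → B (Q) w (cmp D c y) = 0 := by
    intro w hw haw
    rw [CMP2.B_left hD hw y]
    obtain ⟨l, hQx, hax⟩ := C2.LOCB2FIN.aux_sing h2 hQ haw
    have hxD : w + l • cmp D c v ∈ D c := (D c).add_mem hw ((D c).smul_mem _ ha)
    have e1 : B (Q) (w + l • cmp D c v) y = B (Q) w y + l * B (Q) (cmp D c v) y := by
      show QuadraticMap.polar (⇑Q) (w + l • cmp D c v) y =
        QuadraticMap.polar (⇑Q) w y + l * QuadraticMap.polar (⇑Q) (cmp D c v) y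
      rw [QuadraticMap.polar_add_left, QuadraticMap.polar_smul_left, smul_eq_mul]
    have h3 : B (Q) (w + l • cmp D c v) y = 0 := by
      by_cases h0 : w + l • cmp D c v = 0
      · rw [h0]
        exact QuadraticMap.polar_zero_left _ _
      · refine hs _ hxD h0 hQx ?_
        rw [B_comm]
        exact hax
    rw [e1, hay, mul_zero, add_zero] at h3
    exact h3
  -- (iv) double perp
  exact C2.GEODPERP.main hD ha ha0 (CMP1.mem hD c y) hN

end Cfsg.Agent.OC2K
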