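import Cfsg.Agent.Helper29.OC2K.Main
import Cfsg.Agent.Helper29.OC2K.REFLMEM
import Cfsg.Agent.Helper17.OC2KC2Defs
import Cfsg.Agent.Helper17.OC2KC2PM
import Cfsg.Agent.Helper11.OC2KC2LOCB2FIN

set_option autoImplicit false
set_option linter.unusedSectionVars false
set_option linter.unusedVariables false

/-! # OC2K chapter CHAR2, case `q = 2` (route 1), piece Q2SECOND (helper11): over `F₂`, a second
block `b'` where `v` has a nonsingular component, and a nonsingular `p' ∈ D b'` perpendicular to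
`v` and to `y`. -/

namespace Cfsg.Agent.OC2K

open Matrix Cfsg.Agent.Helper28.Sg Cfsg.Agent.Helper28.Spin Cfsg.Agent.Helper12.OrthGen
  Cfsg.Agent.S2614 Cfsg.Agent.S5683P Cfsg.Agent.Helper28.NDM

variable {F : Type*} [Field F] [Fintype F] {t k : ℕ} {ι : Type} [Fintype ι] [DecidableEq ι] {Q : QuadraticForm F (ι → F)} [QHyp Q] {D : Fin t → Submodule F (ι → F)}
  {M : Subgroup (OGq Q)}

/-- every scalar of `F₂` is `0` or `1` -/
theorem C2.Q2SECOND.aux_two (hq : Fintype.card F = 2) (s : F) : s = 0 ∨ s = 1 := by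
  classical
  have h : ({0, 1} : Finset F) = Finset.univ := by
    apply Finset.eq_univ_of_card
    rw [hq, Finset.card_pair zero_ne_one]
  have hs : s ∈ ({0, 1} : Finset F) := by rw [h]; exact Finset.mem_univ s
  simpa using hs

theorem C2.Q2SECOND.main (h2 : (2 : F) = 0) (hD : HD Q k D) (hk : 4 ≤ k) (hq : Fintype.card F = 2)
    (hHM : HS D ≤ M) (hG1 : ¬ G1 M D) {v : ι → F} (hv : NPV M D v) {b : Fin t}
    (hQ : Q (cmp D b v) ≠ 0) {y : ι → F} (hy : y ∈ Rad M v hv.Qv) :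
    ∃ b' : Fin t, b' ≠ b ∧ Q (cmp D b' v) ≠ 0 ∧
      ∃ p' ∈ D b', Q p' ≠ 0 ∧ B (Q) p' v = 0 ∧ B (Q) p' y = 0 := by
  classical
  -- a second nonsingular component
  obtain ⟨b', hb'b, hQ'⟩ : ∃ b' : Fin t, b' ≠ b ∧ Q (cmp D b' v) ≠ 0 := by
    by_contra hcon
    push Not at hcon
    apply hQ
    have h1 := CMP2.Q_sum hD v
    rw [hv.Qv, Finset.sum_eq_single b (fun c _ hcb => hcon c hcb)
      (fun hb => absurd (Finset.mem_univ b) hb)] at h1
    exact h1.symm
  refine ⟨b', hb'b, hQ', ?_⟩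
  have ha : cmp D b' v ∈ D b' := CMP1.mem hD b' v
  have ha0 : cmp D b' v ≠ 0 := by
    intro h0
    apply hQ'
    rw [h0]
    exact map_zero _
  have haa : B (Q) (cmp D b' v) (cmp D b' v) = 0 := by
    rw [B_self, h2, zero_mul]
  have hav : B (Q) (cmp D b' v) v = 0 := by
    rw [← CMP2.B_left hD ha v]
    exact haa
  by_cases hay : B (Q) (cmp D b' v) y = 0
  · exact ⟨cmp D b' v, ha, hQ', hav, hay⟩
  -- a singular vector of `a'^⊥ ∩ D b'`
  obtain ⟨z0, hz0, haz0, hz0a⟩ := C2.LOCB2FIN.aux_exists hD ha ha0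
  obtain ⟨l0, hQx0, hax0⟩ := C2.LOCB2FIN.aux_sing h2 hQ' haz0
  obtain ⟨x', hx'⟩ : ∃ x' : ι → F, x' = z0 + l0 • cmp D b' v := ⟨_, rfl⟩
  rw [← hx'] at hQx0 hax0
  have hx0D : x' ∈ D b' := by
    rw [hx']
    exact (D b').add_mem hz0 ((D b').smul_mem _ ha)
  have hx00 : x' ≠ 0 := by
    rw [hx']
    intro h0
    apply hz0a (-l0)
    rw [neg_smul]
    exact eq_neg_of_add_eq_zero_left h0
  have hx0a : B (Q) x' (cmp D b' v) = 0 := by
    rw [B_comm]
    exact hax0
  have hx0v : B (Q) x' v = 0 := by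
    rw [← CMP2.B_left hD hx0D v]
    exact hx0a
  by_cases hxy : B (Q) x' y = 0
  · exact absurd (C2.PM.step1 hD hHM hG1 hv hx0D ha hx00 hQx0 hx0a hx0v hav hy hxy) hay
  -- both `B a' y` and `B x' y` are `1`
  have e1 : B (Q) (cmp D b' v) y = 1 := (C2.Q2SECOND.aux_two hq _).resolve_left hay
  have e2 : B (Q) x' y = 1 := (C2.Q2SECOND.aux_two hq _).resolve_left hxy
  refine ⟨cmp D b' v + x', (D b').add_mem ha hx0D, ?_, ?_, ?_⟩
  · rw [Q_add, hQx0, hax0, add_zero, add_zero]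
    exact hQ'
  · have e : B (Q) (cmp D b' v + x') v = B (Q) (cmp D b' v) v + B (Q) x' v := by
      show QuadraticMap.polar (⇑Q) (cmp D b' v + x') v =
        QuadraticMap.polar (⇑Q) (cmp D b' v) v + QuadraticMap.polar (⇑Q) x' v
      rw [QuadraticMap.polar_add_left]
    rw [e, hav, hx0v, add_zero]
  · have e : B (Q) (cmp D b' v + x') y = B (Q) (cmp D b' v) y + B (Q) x' y := by
      show QuadraticMap.polar (⇑Q) (cmp D b' v + x') y =
        QuadraticMap.polar (⇑Q) (cmp D b' v) y + QuadraticMap.polar (⇑Q) x' y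
      rw [QuadraticMap.polar_add_left]
    rw [e, e1, e2]
    linear_combination h2

end Cfsg.Agent.OC2K
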