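import Mathlib
import Cfsg.Agent.Helper28.OrthSim1
import Cfsg.Agent.Helper6.OS6FirstDefs
import Cfsg.Agent.Helper6.OS6FREFL

/-! # os6 chapter FIRST (S5798; driver helper8, chapter by helper6), piece FCONJ (helper11): the element
`conjm g x₀ y₀ = g r_{x₀} r_{y₀} g⁻¹`: inverse, membership, fixed vectors. -/

set_option autoImplicit false
set_option linter.unusedSectionVars false

namespace Cfsg.Agent.OS6P

open Matrix Module Cfsg.Agent.Helper28.Sg Cfsg.Agent.Helper28.Spin Cfsg.Agent.Helper28.SLMax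
  Cfsg.Agent.Helper28.SimMax Cfsg.Agent.Helper28.OSim

variable {F : Type*} [Field F] {n : ℕ} {Q : QuadraticForm F (Fin n → F)}

/-- FCONJ (S-M): `conjm g x₀ y₀ * conjm g y₀ x₀ = 1` (`FREFL.sq`, `g g⁻¹ = 1`), `conjm ∈ MS M` (`MS_conj g hgM`
applied to `FREFL.mem2`), and `conjm g x₀ y₀ (G z) = G z` for `z ⊥ x₀, y₀` (`FREFL.mulVec`). -/
theorem FCONJ.inv (g : Matrix.GeneralLinearGroup (Fin n) F) {x₀ y₀ : Fin n → F}
    (hx : Q x₀ ≠ 0) (hy : Q y₀ ≠ 0) : FIRST.conjm Q g x₀ y₀ * FIRST.conjm Q g y₀ x₀ = 1 := by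
  have hinv : ((g⁻¹ : Matrix.GeneralLinearGroup (Fin n) F) : Matrix (Fin n) (Fin n) F) *
      (g : Matrix (Fin n) (Fin n) F) = 1 := by
    rw [← Units.val_mul, inv_mul_cancel, Units.val_one]
  have hG : (g : Matrix (Fin n) (Fin n) F) *
      ((g⁻¹ : Matrix.GeneralLinearGroup (Fin n) F) : Matrix (Fin n) (Fin n) F) = 1 := by
    rw [← Units.val_mul, mul_inv_cancel, Units.val_one]
  unfold FIRST.conjm
  have key : (g : Matrix (Fin n) (Fin n) F) * (FIRST.R Q x₀ * FIRST.R Q y₀) *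
      ((g⁻¹ : Matrix.GeneralLinearGroup (Fin n) F) : Matrix (Fin n) (Fin n) F) *
      ((g : Matrix (Fin n) (Fin n) F) * (FIRST.R Q y₀ * FIRST.R Q x₀) *
      ((g⁻¹ : Matrix.GeneralLinearGroup (Fin n) F) : Matrix (Fin n) (Fin n) F)) =
      (g : Matrix (Fin n) (Fin n) F) * (FIRST.R Q x₀ * (FIRST.R Q y₀ *
        ((((g⁻¹ : Matrix.GeneralLinearGroup (Fin n) F) : Matrix (Fin n) (Fin n) F) *
          (g : Matrix (Fin n) (Fin n) F)) * FIRST.R Q y₀)) * FIRST.R Q x₀) *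
      ((g⁻¹ : Matrix.GeneralLinearGroup (Fin n) F) : Matrix (Fin n) (Fin n) F) := by
    simp only [Matrix.mul_assoc]
  rw [key, hinv, Matrix.one_mul, FREFL.sq hy, Matrix.mul_one, FREFL.sq hx, Matrix.mul_one, hG]

theorem FCONJ.mem (M : Subgroup (Matrix.GeneralLinearGroup (Fin n) F))
    (hHM : Cfsg.Geo.quadSimilarityGroup (⇑Q) ⊓ SL n F ≤ M)
    (g : Matrix.GeneralLinearGroup (Fin n) F) (hgM : g ∈ M) {x₀ y₀ : Fin n → F}
    (hx : Q x₀ ≠ 0) (hy : Q y₀ ≠ 0) : FIRST.conjm Q g x₀ y₀ ∈ MS M :=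
  MS_conj g hgM (FREFL.mem2 M hHM hx hy)

theorem FCONJ.fix (g : Matrix.GeneralLinearGroup (Fin n) F) {x₀ y₀ z : Fin n → F}
    (hzx : B Q x₀ z = 0) (hzy : B Q y₀ z = 0) :
    FIRST.conjm Q g x₀ y₀ *ᵥ ((g : Matrix (Fin n) (Fin n) F) *ᵥ z) =
      (g : Matrix (Fin n) (Fin n) F) *ᵥ z := by
  have hinv : ((g⁻¹ : Matrix.GeneralLinearGroup (Fin n) F) : Matrix (Fin n) (Fin n) F) *
      (g : Matrix (Fin n) (Fin n) F) = 1 := by
    rw [← Units.val_mul, inv_mul_cancel, Units.val_one]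
  have e1 : ((g⁻¹ : Matrix.GeneralLinearGroup (Fin n) F) : Matrix (Fin n) (Fin n) F) *ᵥ
      ((g : Matrix (Fin n) (Fin n) F) *ᵥ z) = z := by
    rw [Matrix.mulVec_mulVec, hinv, Matrix.one_mulVec]
  have e2 : FIRST.conjm Q g x₀ y₀ *ᵥ ((g : Matrix (Fin n) (Fin n) F) *ᵥ z) =
      (g : Matrix (Fin n) (Fin n) F) *ᵥ (FIRST.R Q x₀ *ᵥ (FIRST.R Q y₀ *ᵥ
        (((g⁻¹ : Matrix.GeneralLinearGroup (Fin n) F) : Matrix (Fin n) (Fin n) F) *ᵥ
          ((g : Matrix (Fin n) (Fin n) F) *ᵥ z)))) := by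
    unfold FIRST.conjm
    simp only [Matrix.mulVec_mulVec, Matrix.mul_assoc]
  have hRy : FIRST.R Q y₀ *ᵥ z = z := by
    rw [FREFL.mulVec, hzy, mul_zero, zero_smul, sub_zero]
  have hRx : FIRST.R Q x₀ *ᵥ z = z := by
    rw [FREFL.mulVec, hzx, mul_zero, zero_smul, sub_zero]
  rw [e2, e1, hRy, hRx]

end Cfsg.Agent.OS6P
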