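import Mathlib
import Cfsg.Agent.Helper28.OrthSim1
import Cfsg.Agent.Helper6.OS6FirstDefs

/-! # os6 chapter FIRST (S5798; driver helper8, chapter by helper6), piece FNSSUB (helper11): `FNS.sub`. -/

set_option autoImplicit false
set_option linter.unusedSectionVars false

namespace Cfsg.Agent.OS6P

open Matrix Module Cfsg.Agent.Helper28.Sg Cfsg.Agent.Helper28.Spin Cfsg.Agent.Helper28.SLMax
  Cfsg.Agent.Helper28.SimMax Cfsg.Agent.Helper28.OSim

variable {F : Type*} [Field F] {n : ℕ} {Q : QuadraticForm F (Fin n → F)}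

/-- FNS.sub (S-M): if `v ∈ W` is non-singular, `w₀ ∈ W \ N`: if `v ∉ N` take `a = v`; else `a = w₀ + t • v`
for some `t ∈ {0, 1, -1}` with `Q a ≠ 0` (if all three vanish: `Q w₀ = 0`, `B w₀ v + Q v = 0`, `-B w₀ v + Q v = 0`,
so `2 Q v = 0`), and `a ∉ N` since `t • v ∈ N`. -/
theorem FNS.sub (h2 : (2 : F) ≠ 0) (W N : Submodule F (Fin n → F)) {v w₀ : Fin n → F}
    (hv : v ∈ W) (hQv : Q v ≠ 0) (hw : w₀ ∈ W) (hwN : w₀ ∉ N) :
    ∃ a ∈ W, Q a ≠ 0 ∧ a ∉ N := by
  by_cases hvN : v ∈ N
  · by_cases h0 : Q w₀ = 0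
    · by_cases h1 : Q (w₀ + v) = 0
      · refine ⟨w₀ - v, W.sub_mem hw hv, ?_, ?_⟩
        · intro h3
          have e1 : Q (w₀ + v) = Q w₀ + Q v + QuadraticMap.polar (⇑Q) w₀ v :=
            QuadraticMap.map_add Q w₀ v
          have e2 : Q (w₀ - v) = Q w₀ + Q v - QuadraticMap.polar (⇑Q) w₀ v := by
            rw [sub_eq_add_neg, QuadraticMap.map_add Q w₀ (-v), QuadraticMap.map_neg,
              QuadraticMap.polar_neg_right]
            ring
          rw [e1, h0] at h1
          rw [e2, h0] at h3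
          apply hQv
          have : (2 : F) * Q v = 0 := by linear_combination h1 + h3
          exact (mul_eq_zero.1 this).resolve_left h2
        · intro h3
          apply hwN
          have : w₀ = (w₀ - v) + v := by abel
          rw [this]
          exact N.add_mem h3 hvN
      · refine ⟨w₀ + v, W.add_mem hw hv, h1, ?_⟩
        intro h3
        apply hwN
        have : w₀ = (w₀ + v) - v := by abel
        rw [this]
        exact N.sub_mem h3 hvN
    · exact ⟨w₀, hw, h0, hwN⟩
  · exact ⟨v, hv, hQv, hvN⟩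

end Cfsg.Agent.OS6P
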