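import Mathlib
import Cfsg.Agent.Helper11.SylowCount
import Cfsg.Agent.Helper11.Transfer
import Cfsg.Agent.Helper11.SimpleTools
import Cfsg.Agent.Helper11.NoSimple

set_option autoImplicit false

/-!
Tools for simple groups of order `p² q r`.
-/

namespace Cfsg.Agent.Helper11

/-- If `a < b` are primes and `b ∣ a² - 1` then `a = 2` and `b = 3`. -/
theorem prime_dvd_sq_sub_one {a b : ℕ} (ha : a.Prime) (hb : b.Prime) (hab : a < b)
    (h : b ∣ a ^ 2 - 1) : a = 2 ∧ b = 3 := by
  have h2 : a ^ 2 - 1 = (a - 1) * (a + 1) := by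
    have := ha.one_lt
    obtain ⟨k, rfl⟩ : ∃ k, a = k + 1 := ⟨a - 1, by omega⟩
    simp only [Nat.add_sub_cancel]
    have : (k + 1) ^ 2 = k * (k + 1 + 1) + 1 := by ring
    rw [this, Nat.add_sub_cancel]
  rw [h2] at h
  rcases hb.dvd_mul.1 h with h1 | h1
  · exfalso
    have h3 : 0 < a - 1 := by have := ha.one_lt; omega
    have := Nat.le_of_dvd h3 h1
    omega
  · have h3 : b ≤ a + 1 := Nat.le_of_dvd (by omega) h1
    have hb' : b = a + 1 := by omega
    subst hb'
    rcases ha.eq_two_or_odd with h4 | h4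
    · subst h4
      exact ⟨rfl, rfl⟩
    · exfalso
      rcases hb.eq_two_or_odd with h5 | h5
      · have := ha.two_le; omega
      · omega

/-- If `a < b` are primes then `b ∤ a - 1`. -/
theorem prime_not_dvd_pred {a b : ℕ} (ha : a.Prime) (hab : a < b) : ¬ b ∣ a - 1 := by
  intro h
  have h3 : 0 < a - 1 := by have := ha.one_lt; omega
  have := Nat.le_of_dvd h3 h
  omega

/-- A prime `ℓ` dividing the order of the automorphism group of a group of order `p²`
divides `p² - 1` or `p² - p`. -/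
theorem prime_dvd_card_mulAut_sq {T : Type*} [Group T] [Finite T] {p ℓ : ℕ} [Fact p.Prime]
    [Fact ℓ.Prime] (hT : Nat.card T = p ^ 2) (hℓ : ℓ ∣ Nat.card (MulAut T)) :
    ℓ ∣ p ^ 2 - 1 ∨ ℓ ∣ p ^ 2 - p := by
  have hp : p.Prime := Fact.out
  have hl : ℓ.Prime := Fact.out
  have : Finite (MulAut T) := Finite.of_injective (fun φ : MulAut T => (φ : T → T))
    (fun φ ψ h => by ext x; exact congrFun h x)
  obtain ⟨φ, hφ⟩ := exists_prime_orderOf_dvd_card' ℓ hℓ
  have hZ : IsPGroup ℓ ↥(Subgroup.zpowers φ) := by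
    apply IsPGroup.of_card (n := 1)
    rw [Nat.card_zpowers, hφ, pow_one]
  have hmod := hZ.card_modEq_card_fixedPoints T
  let F : Subgroup T :=
    { carrier := {x | φ x = x}
      mul_mem' := fun {a b} ha hb => by
        simp only [Set.mem_ofPred_eq] at ha hb ⊢
        rw [map_mul, ha, hb]
      one_mem' := by simp
      inv_mem' := fun {a} ha => by
        simp only [Set.mem_ofPred_eq] at ha ⊢
        rw [map_inv, ha] }
  have hF : MulAction.fixedPoints ↥(Subgroup.zpowers φ) T = (F : Set T) := by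
    ext x
    simp only [MulAction.mem_fixedPoints, SetLike.mem_coe]
    constructor
    · intro h
      exact h ⟨φ, Subgroup.mem_zpowers φ⟩
    · intro h ψ
      obtain ⟨ψ, hψ⟩ := ψ
      obtain ⟨k, rfl⟩ := Subgroup.mem_zpowers_iff.1 hψ
      have hmem : φ ∈ MulAction.stabilizer (MulAut T) x := h
      exact (MulAction.stabilizer (MulAut T) x).zpow_mem hmem k
  have hcardF : Nat.card ↥(MulAction.fixedPoints ↥(Subgroup.zpowers φ) T) = Nat.card ↥F := by
    rw [hF]; rfl
  rw [hcardF, hT] at hmod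
  have hFdvd : Nat.card ↥F ∣ p ^ 2 := hT ▸ Subgroup.card_subgroup_dvd_card F
  obtain ⟨i, hi, hFi⟩ := (Nat.dvd_prime_pow hp).1 hFdvd
  have hp1 : 1 ≤ p ^ 2 := Nat.one_le_pow _ _ hp.pos
  interval_cases i
  · left
    rw [hFi, pow_zero] at hmod
    exact (Nat.modEq_iff_dvd' hp1).1 hmod.symm
  · right
    rw [hFi, pow_one] at hmod
    have hpp : p ≤ p ^ 2 := by nlinarith [hp.one_lt]
    exact (Nat.modEq_iff_dvd' hpp).1 hmod.symm
  · exfalso
    have hFtop : F = ⊤ := by
      apply Subgroup.eq_top_of_card_eq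
      rw [hFi, hT]
    have hφ1 : φ = 1 := by
      ext x
      have : x ∈ F := by rw [hFtop]; exact Subgroup.mem_top x
      exact this
    rw [hφ1, orderOf_one] at hφ
    exact hl.one_lt.ne hφ

/-- In a non-abelian simple group, a prime `s` whose Sylow subgroups have order `s` is not the
smallest prime divisor of `|G|`. -/
theorem simple_exists_prime_lt {G : Type*} [Group G] [Finite G] [IsSimpleGroup G]
    (hG : ¬ IsMulCommutative G) (s : ℕ) [Fact s.Prime] (S : Sylow s G)
    (hS : Nat.card ↥(S : Subgroup G) = s) : ∃ t : ℕ, t.Prime ∧ t ∣ Nat.card G ∧ t < s := by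
  have hs : s.Prime := Fact.out
  by_contra hcon
  push Not at hcon
  have hsG : s ∣ Nat.card G := hS ▸ Subgroup.card_subgroup_dvd_card _
  have hG1 : Nat.card G ≠ 1 := by
    intro h
    rw [h] at hsG
    exact hs.one_lt.ne' (Nat.dvd_one.1 hsG)
  have hmin : (Nat.card G).minFac = s := by
    apply le_antisymm
    · exact Nat.minFac_le_of_dvd hs.two_le hsG
    · exact hcon _ (Nat.minFac_prime hG1) (Nat.minFac_dvd _)
  have hcyc : IsCyclic ↥(S : Subgroup G) := isCyclic_of_prime_card hS
  exact simple_not_normalizer_le_centralizer hG s S hsG (IsCyclic.normalizer_le_centralizer hmin hcyc)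

/-- In a non-abelian simple group, if the Sylow `s`-subgroups have order `s`, there is `t ≠ 1`
dividing `s - 1` with `n_s * (t * s)` dividing `|G|`. -/
theorem simple_card_sylow_mul_dvd {G : Type*} [Group G] [Finite G] [IsSimpleGroup G]
    (hG : ¬ IsMulCommutative G) (s : ℕ) [Fact s.Prime] (S : Sylow s G)
    (hS : Nat.card ↥(S : Subgroup G) = s) :
    ∃ t, t ≠ 1 ∧ t ∣ s - 1 ∧ Nat.card (Sylow s G) * (t * s) ∣ Nat.card G := by
  obtain ⟨t, ht1, ht2, ht3⟩ := simple_automizer_prime hG s S hS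
  refine ⟨t, ht1, ht2, ?_⟩
  rw [← card_sylow_mul_card_normalizer S]
  exact Nat.mul_dvd_mul_left _ ht3

end Cfsg.Agent.Helper11
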