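import Mathlib

set_option autoImplicit false

namespace Cfsg.Agent.Helper11.PGLOrder

open Polynomial Matrix

variable {F : Type*} [Field F] {d : ℕ}

/-- the space of polynomials of degree `< d` in `M` -/
noncomputable def polySpan (M : Matrix (Fin d) (Fin d) F) : Submodule F (Matrix (Fin d) (Fin d) F) :=
  (Polynomial.degreeLT F d).map (Polynomial.aeval M).toLinearMap

theorem aeval_mem_polySpan (M : Matrix (Fin d) (Fin d) F) (P : F[X]) :
    aeval M P ∈ polySpan M := by
  have hχ := Matrix.charpoly_monic M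
  have h1 : aeval M P = aeval M (P %ₘ M.charpoly) := by
    conv_lhs => rw [← Polynomial.modByMonic_add_div P M.charpoly]
    rw [map_add, map_mul, Matrix.aeval_self_charpoly, zero_mul, add_zero]
  rw [h1]
  refine ⟨P %ₘ M.charpoly, ?_, rfl⟩
  rw [SetLike.mem_coe, Polynomial.mem_degreeLT]
  have := Polynomial.degree_modByMonic_lt P hχ
  rwa [Matrix.charpoly_degree_eq_dim, Fintype.card_fin] at this

theorem card_polySpan_le [Fintype F] (M : Matrix (Fin d) (Fin d) F) :
    Nat.card ↥(polySpan M) ≤ Fintype.card F ^ d := by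
  have hfin : Finite ↥(Polynomial.degreeLT F d) :=
    Finite.of_equiv _ (Polynomial.degreeLTEquiv F d).symm.toEquiv
  have hc : Nat.card ↥(Polynomial.degreeLT F d) = Fintype.card F ^ d := by
    rw [Nat.card_congr (Polynomial.degreeLTEquiv F d).toEquiv, Nat.card_eq_fintype_card,
      Fintype.card_fun, Fintype.card_fin]
  rw [← hc]
  apply Nat.card_le_card_of_surjective
    (fun x : ↥(Polynomial.degreeLT F d) => (⟨aeval M x.1, ⟨x.1, x.2, rfl⟩⟩ : ↥(polySpan M)))
  rintro ⟨_, ⟨P, hP, rfl⟩⟩
  exact ⟨⟨P, hP⟩, rfl⟩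

theorem smul_pow_mem_polySpan (M : Matrix (Fin d) (Fin d) F) (c : F) (i : ℕ) :
    c • M ^ i ∈ polySpan M := by
  have : c • M ^ i = aeval M (C c * X ^ i) := by
    rw [map_mul, map_pow, aeval_X, aeval_C, Algebra.algebraMap_eq_smul_one, smul_mul_assoc,
      one_mul]
  rw [this]
  exact aeval_mem_polySpan M _

end Cfsg.Agent.Helper11.PGLOrder

namespace Cfsg.Agent.Helper11.PGLOrder

open Polynomial Matrix

variable {F : Type*} [Field F] [Fintype F] {d : ℕ}

theorem pgl_order_le (hd : 1 ≤ d) (g : GL (Fin d) F) :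
    (Fintype.card F - 1) *
      orderOf (QuotientGroup.mk g : GL (Fin d) F ⧸ Subgroup.center (GL (Fin d) F)) ≤
      Fintype.card F ^ d - 1 := by
  classical
  have : Nonempty (Fin d) := ⟨⟨0, hd⟩⟩
  set M : Matrix (Fin d) (Fin d) F := g.val with hM
  set m := orderOf (QuotientGroup.mk g : GL (Fin d) F ⧸ Subgroup.center (GL (Fin d) F)) with hm
  have hpowval : ∀ i : ℕ, ((g ^ i : GL (Fin d) F) : Matrix (Fin d) (Fin d) F) = M ^ i := by
    intro i
    rw [Units.val_pow_eq_pow_val]
  have hMne : ∀ i : ℕ, M ^ i ≠ 0 := by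
    intro i h0
    have h1 : ((g ^ i : GL (Fin d) F) : Matrix (Fin d) (Fin d) F) *
        (((g ^ i)⁻¹ : GL (Fin d) F) : Matrix (Fin d) (Fin d) F) = 1 := by
      rw [← Units.val_mul, mul_inv_cancel, Units.val_one]
    rw [hpowval, h0, zero_mul] at h1
    exact zero_ne_one h1
  -- the injection
  let φ : Fˣ × Fin m → {A : ↥(polySpan M) // A ≠ 0} := fun x =>
    ⟨⟨(x.1 : F) • M ^ (x.2 : ℕ), smul_pow_mem_polySpan M _ _⟩, by
      intro h0
      have h1 : (x.1 : F) • M ^ (x.2 : ℕ) = 0 := congrArg Subtype.val h0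
      rcases smul_eq_zero.1 h1 with h2 | h2
      · exact x.1.ne_zero h2
      · exact hMne _ h2⟩
  have hφ : Function.Injective φ := by
    rintro ⟨c, i⟩ ⟨c', j⟩ h
    have h1 : (c : F) • M ^ (i : ℕ) = (c' : F) • M ^ (j : ℕ) := by
      have := congrArg (fun A => (A.1 : Matrix (Fin d) (Fin d) F)) h
      exact this
    -- group elements
    have h2 : Matrix.GeneralLinearGroup.scalar (Fin d) c * g ^ (i : ℕ) =
        Matrix.GeneralLinearGroup.scalar (Fin d) c' * g ^ (j : ℕ) := by
      apply Units.ext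
      rw [Units.val_mul, Units.val_mul, hpowval, hpowval, Matrix.GeneralLinearGroup.coe_scalar,
        Matrix.GeneralLinearGroup.coe_scalar, Matrix.scalar_apply, Matrix.scalar_apply,
        ← Matrix.smul_eq_diagonal_mul, ← Matrix.smul_eq_diagonal_mul]
      exact h1
    have hz : ∀ u : Fˣ, (QuotientGroup.mk (Matrix.GeneralLinearGroup.scalar (Fin d) u) :
        GL (Fin d) F ⧸ Subgroup.center (GL (Fin d) F)) = 1 := by
      intro u
      rw [QuotientGroup.eq_one_iff, Matrix.GeneralLinearGroup.center_eq_range_scalar]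
      exact ⟨u, rfl⟩
    have h3 := congrArg (QuotientGroup.mk : GL (Fin d) F →
      GL (Fin d) F ⧸ Subgroup.center (GL (Fin d) F)) h2
    rw [QuotientGroup.mk_mul, QuotientGroup.mk_mul, hz, hz, one_mul, one_mul,
      QuotientGroup.mk_pow, QuotientGroup.mk_pow] at h3
    have hij : (i : ℕ) = (j : ℕ) :=
      pow_injOn_Iio_orderOf (Set.mem_Iio.2 i.2) (Set.mem_Iio.2 j.2) h3
    have hij' : i = j := Fin.ext hij
    subst hij'
    have h4 : ((c : F) - (c' : F)) • M ^ (i : ℕ) = 0 := by
      rw [sub_smul, h1, sub_self]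
    rcases smul_eq_zero.1 h4 with h5 | h5
    · have : c = c' := Units.ext (sub_eq_zero.1 h5)
      rw [this]
    · exact absurd h5 (hMne _)
  have hcard1 : Nat.card (Fˣ × Fin m) = (Fintype.card F - 1) * m := by
    rw [Nat.card_prod, Nat.card_eq_fintype_card, Nat.card_eq_fintype_card, Fintype.card_units,
      Fintype.card_fin]
  have hfinW : Finite ↥(polySpan M) := inferInstance
  have hcard2 : Nat.card {A : ↥(polySpan M) // A ≠ 0} = Nat.card ↥(polySpan M) - 1 := by
    haveI := Fintype.ofFinite ↥(polySpan M)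
    rw [Nat.card_eq_fintype_card, Nat.card_eq_fintype_card, Fintype.card_subtype_compl,
      Fintype.card_subtype_eq]
  have h5 := Nat.card_le_card_of_injective φ hφ
  rw [hcard1, hcard2] at h5
  have h6 := card_polySpan_le M
  omega

end Cfsg.Agent.Helper11.PGLOrder

namespace Cfsg.Agent.Helper11.PGLOrder

open Polynomial Matrix

variable {F : Type*} [Field F] [Fintype F] {d : ℕ}

theorem exists_singer (hd : 1 ≤ d) :
    ∃ g : GL (Fin d) F, (Fintype.card F - 1) *
      orderOf (QuotientGroup.mk g : GL (Fin d) F ⧸ Subgroup.center (GL (Fin d) F)) =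
      Fintype.card F ^ d - 1 := by
  classical
  obtain ⟨p, hp⟩ := CharP.exists F
  haveI := hp
  haveI hpp : Fact p.Prime := ⟨CharP.char_is_prime F p⟩
  haveI : NeZero d := ⟨by omega⟩
  let K := FiniteField.Extension F p d
  have hfr : Module.finrank F K = d := FiniteField.finrank_extension F p d
  let b : Module.Basis (Fin d) F K := Module.finBasisOfFinrankEq F K hfr
  haveI : Fintype K := Fintype.ofFinite K
  obtain ⟨ω, hω⟩ : ∃ ω : Kˣ, orderOf ω = Nat.card Kˣ := IsCyclic.exists_ofOrder_eq_natCard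
  have hcardK : Nat.card Kˣ = Fintype.card F ^ d - 1 := by
    rw [Nat.card_units, FiniteField.natCard_extension, Nat.card_eq_fintype_card]
  let L : K →ₐ[F] Matrix (Fin d) (Fin d) F := Algebra.leftMulMatrix b
  let g : GL (Fin d) F := Units.map (L : K →* Matrix (Fin d) (Fin d) F) ω
  refine ⟨g, ?_⟩
  set m := orderOf (QuotientGroup.mk g : GL (Fin d) F ⧸ Subgroup.center (GL (Fin d) F)) with hm
  have hle := pgl_order_le hd g
  rw [← hm] at hle
  have hgm : (QuotientGroup.mk g : GL (Fin d) F ⧸ Subgroup.center (GL (Fin d) F)) ^ m = 1 :=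
    pow_orderOf_eq_one _
  rw [← QuotientGroup.mk_pow, QuotientGroup.eq_one_iff,
    Matrix.GeneralLinearGroup.mem_center_iff_val_mem_range_scalar] at hgm
  obtain ⟨c, hc⟩ := hgm
  have hval : ((g ^ m : GL (Fin d) F) : Matrix (Fin d) (Fin d) F) = L ((ω : K) ^ m) := by
    rw [Units.val_pow_eq_pow_val, map_pow]
    rfl
  have hLc : L (algebraMap F K c) = Matrix.scalar (Fin d) c := by
    rw [AlgHom.commutes, Matrix.algebraMap_eq_diagonal]
    rfl
  have hωc : (ω : K) ^ m = algebraMap F K c := by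
    apply Algebra.leftMulMatrix_injective b
    change L _ = L _
    rw [hLc, hc, hval]
  have hc0 : c ≠ 0 := by
    intro h0
    rw [h0, map_zero] at hωc
    exact (pow_ne_zero m ω.ne_zero) hωc
  have hcq : c ^ (Fintype.card F - 1) = 1 := FiniteField.pow_card_sub_one_eq_one c hc0
  have hω1 : ω ^ (m * (Fintype.card F - 1)) = 1 := by
    apply Units.ext
    rw [Units.val_pow_eq_pow_val, pow_mul, hωc, ← map_pow, hcq, map_one, Units.val_one]
  have hdvd : Fintype.card F ^ d - 1 ∣ m * (Fintype.card F - 1) := by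
    rw [← hcardK, ← hω]
    exact orderOf_dvd_of_pow_eq_one hω1
  have hmpos : 0 < m := orderOf_pos _
  have hq : 1 < Fintype.card F := Fintype.one_lt_card
  have hpos : 0 < m * (Fintype.card F - 1) := Nat.mul_pos hmpos (by omega)
  have hge := Nat.le_of_dvd hpos hdvd
  rw [mul_comm] at hge
  omega

end Cfsg.Agent.Helper11.PGLOrder
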