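import Mathlib
import Cfsg.Agent.Helper11.PSL2AutA

/-! Automorphisms of `PSL₂(F)`, part B: root subgroups in `PSL₂`. -/

set_option autoImplicit false
set_option linter.unusedSectionVars false
set_option linter.unusedVariables false

namespace Cfsg.Agent.Helper11.PSL2Aut

open Matrix

variable {F : Type*} [Field F]

def uL (x : F) : Matrix.ProjectiveSpecialLinearGroup (Fin 2) F := pr (uS x)
def vL (y : F) : Matrix.ProjectiveSpecialLinearGroup (Fin 2) F := pr (vS y)
def tL (a : Fˣ) : Matrix.ProjectiveSpecialLinearGroup (Fin 2) F := pr (tS a)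
def wL : Matrix.ProjectiveSpecialLinearGroup (Fin 2) F := pr wS

theorem uL_add (x y : F) : uL (x + y) = uL x * uL y := by
  unfold uL; rw [uS_add, map_mul]

theorem uL_zero : uL (0 : F) = 1 := by
  unfold uL; rw [uS_zero, map_one]

theorem uL_inv (x : F) : (uL x)⁻¹ = uL (-x) := by
  apply inv_eq_of_mul_eq_one_left
  rw [← uL_add, neg_add_cancel, uL_zero]

theorem vL_add (x y : F) : vL (x + y) = vL x * vL y := by
  unfold vL; rw [vS_add, map_mul]

theorem vL_zero : vL (0 : F) = 1 := by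
  unfold vL; rw [vS_zero, map_one]

theorem vL_inv (x : F) : (vL x)⁻¹ = vL (-x) := by
  apply inv_eq_of_mul_eq_one_left
  rw [← vL_add, neg_add_cancel, vL_zero]

theorem tL_mul (a b : Fˣ) : tL (a * b) = tL a * tL b := by
  unfold tL; rw [tS_mul, map_mul]

theorem tL_one : tL (1 : Fˣ) = 1 := by
  unfold tL; rw [tS_one, map_one]

theorem tL_inv (a : Fˣ) : (tL a)⁻¹ = tL a⁻¹ := by
  apply inv_eq_of_mul_eq_one_left
  rw [← tL_mul, inv_mul_cancel, tL_one]

theorem uL_injective {x y : F} (h : uL x = uL y) : x = y := by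
  obtain ⟨r, hr, hs⟩ := (pr_eq_iff _ _).mp h
  have h00 := congrFun (congrFun hs 0) 0
  have h01 := congrFun (congrFun hs 0) 1
  simp [uS_coe] at h00 h01
  rw [← h00, one_mul] at h01
  exact h01.symm

theorem vL_injective {x y : F} (h : vL x = vL y) : x = y := by
  obtain ⟨r, hr, hs⟩ := (pr_eq_iff _ _).mp h
  have h00 := congrFun (congrFun hs 0) 0
  have h10 := congrFun (congrFun hs 1) 0
  simp [vS_coe] at h00 h10
  rw [← h00, one_mul] at h10
  exact h10.symm

theorem vL_ne_uL {x y : F} (hy : y ≠ 0) : vL y ≠ uL x := by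
  intro h
  obtain ⟨r, hr, hs⟩ := (pr_eq_iff _ _).mp h
  have h10 := congrFun (congrFun hs 1) 0
  simp [vS_coe, uS_coe] at h10
  rcases h10 with h10 | h10
  · rw [h10, mul_zero] at hr
    exact zero_ne_one hr
  · exact hy h10

theorem tL_conj_uL (a : Fˣ) (x : F) : tL a * uL x * (tL a)⁻¹ = uL ((a : F) ^ 2 * x) := by
  rw [mul_inv_eq_iff_eq_mul]
  unfold tL uL
  rw [← map_mul, ← map_mul, tS_mul_uS]

theorem tL_conj_vL (a : Fˣ) (y : F) :
    tL a * vL y * (tL a)⁻¹ = vL (((a⁻¹ : Fˣ) : F) ^ 2 * y) := by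
  rw [mul_inv_eq_iff_eq_mul]
  unfold tL vL
  rw [← map_mul, ← map_mul, tS_mul_vS]

theorem wL_conj_uL (x : F) : wL * uL x * wL⁻¹ = vL (-x) := by
  rw [mul_inv_eq_iff_eq_mul]
  unfold wL uL vL
  rw [← map_mul, ← map_mul, wS_mul_uS]

theorem wL_conj_vL (y : F) : wL * vL y * wL⁻¹ = uL (-y) := by
  rw [mul_inv_eq_iff_eq_mul]
  unfold wL uL vL
  rw [← map_mul, ← map_mul, wS_mul_vS]

theorem uvuL (a : Fˣ) : uL (a : F) * vL (-((a⁻¹ : Fˣ) : F)) * uL (a : F) = tL a * wL := by
  unfold wL uL vL tL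
  rw [← map_mul, ← map_mul, ← map_mul, uvu]

theorem wL_eq : (wL : Matrix.ProjectiveSpecialLinearGroup (Fin 2) F) = uL 1 * vL (-1) * uL 1 := by
  have := uvuL (F := F) 1
  simpa [tL_one] using this.symm

theorem tL_eq (a : Fˣ) :
    tL a = uL (a : F) * vL (-((a⁻¹ : Fˣ) : F)) * uL (a : F) * (wL : Matrix.ProjectiveSpecialLinearGroup (Fin 2) F)⁻¹ := by
  rw [uvuL, mul_inv_cancel_right]

/-- Bruhat decomposition in `PSL₂` -/
theorem bruhatL (g : Matrix.ProjectiveSpecialLinearGroup (Fin 2) F) :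
    (∃ (a : Fˣ) (x : F), g = uL x * tL a) ∨
      ∃ (x : F) (a : Fˣ) (y : F), g = uL x * wL * (uL y * tL a) := by
  obtain ⟨g, rfl⟩ := pr_surjective g
  rcases bruhat g with ⟨a, x, h⟩ | ⟨x, a, y, h⟩
  · left
    exact ⟨a, x, by rw [h, map_mul]; rfl⟩
  · right
    refine ⟨x, a, y, ?_⟩
    rw [h, map_mul, map_mul, map_mul]
    rfl

/-- an automorphism fixing the root elements is trivial -/
theorem eq_of_fix (α : MulAut (Matrix.ProjectiveSpecialLinearGroup (Fin 2) F))
    (hu : ∀ x : F, α (uL x) = uL x) (hv : ∀ y : F, α (vL y) = vL y)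
    (g : Matrix.ProjectiveSpecialLinearGroup (Fin 2) F) : α g = g := by
  have hw : α wL = wL := by
    rw [wL_eq, map_mul, map_mul, hu, hv]
  have ht : ∀ a : Fˣ, α (tL a) = tL a := by
    intro a
    rw [tL_eq, map_mul, map_mul, map_mul, map_inv, hu, hv, hw]
  rcases bruhatL g with ⟨a, x, rfl⟩ | ⟨x, a, y, rfl⟩
  · rw [map_mul, hu, ht]
  · rw [map_mul, map_mul, map_mul, hu, hu, hw, ht]

theorem entry10 (M : Matrix.SpecialLinearGroup (Fin 2) F) (x x' : F) (hx : x ≠ 0)
    (h : pr (M * uS x) = pr (uS x' * M)) : (M : Matrix (Fin 2) (Fin 2) F) 1 0 = 0 := by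
  obtain ⟨r, hr, hs⟩ := (pr_eq_iff _ _).mp h
  have h10 := congrFun (congrFun hs 1) 0
  have h11 := congrFun (congrFun hs 1) 1
  simp [uS_coe, Matrix.SpecialLinearGroup.coe_mul, Matrix.mul_apply, Fin.sum_univ_two] at h10 h11
  by_contra hc
  have hr1 : r = 1 := by
    have : (1 - r) * (M : Matrix (Fin 2) (Fin 2) F) 1 0 = 0 := by linear_combination h10
    rcases mul_eq_zero.mp this with h1 | h1
    · linear_combination -h1
    · exact absurd h1 hc
  rw [hr1, one_mul] at h11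
  have : (M : Matrix (Fin 2) (Fin 2) F) 1 0 * x = 0 := by linear_combination -h11
  rcases mul_eq_zero.mp this with h1 | h1
  · exact hc h1
  · exact hx h1

theorem entry01 (M : Matrix.SpecialLinearGroup (Fin 2) F) (y y' : F) (hy : y ≠ 0)
    (h : pr (M * vS y) = pr (vS y' * M)) : (M : Matrix (Fin 2) (Fin 2) F) 0 1 = 0 := by
  obtain ⟨r, hr, hs⟩ := (pr_eq_iff _ _).mp h
  have h01 := congrFun (congrFun hs 0) 1
  have h00 := congrFun (congrFun hs 0) 0
  simp [vS_coe, Matrix.SpecialLinearGroup.coe_mul, Matrix.mul_apply, Fin.sum_univ_two] at h01 h00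
  by_contra hc
  have hr1 : r = 1 := by
    have : (1 - r) * (M : Matrix (Fin 2) (Fin 2) F) 0 1 = 0 := by linear_combination h01
    rcases mul_eq_zero.mp this with h1 | h1
    · linear_combination -h1
    · exact absurd h1 hc
  rw [hr1, one_mul] at h00
  have : (M : Matrix (Fin 2) (Fin 2) F) 0 1 * y = 0 := by linear_combination -h00
  rcases mul_eq_zero.mp this with h1 | h1
  · exact hc h1
  · exact hy h1

/-- elements conjugating a non-trivial element of `U` into `U` are upper triangular -/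
theorem upper_of_conj (g : Matrix.ProjectiveSpecialLinearGroup (Fin 2) F) (x x' : F) (hx : x ≠ 0)
    (h : g * uL x * g⁻¹ = uL x') : ∃ (a : Fˣ) (y : F), g = uL y * tL a := by
  obtain ⟨M, rfl⟩ := pr_surjective g
  rw [mul_inv_eq_iff_eq_mul] at h
  have h' : pr (M * uS x) = pr (uS x' * M) := by
    rw [map_mul, map_mul]; exact h
  obtain ⟨a, y, hM⟩ := upper_eq M (entry10 M x x' hx h')
  exact ⟨a, y, by rw [hM, map_mul]; rfl⟩

/-- elements normalising `U` and `V` are diagonal -/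
theorem diag_of_conj (g : Matrix.ProjectiveSpecialLinearGroup (Fin 2) F) (x x' y y' : F)
    (hx : x ≠ 0) (hy : y ≠ 0) (h : g * uL x * g⁻¹ = uL x') (h' : g * vL y * g⁻¹ = vL y') :
    ∃ a : Fˣ, g = tL a := by
  obtain ⟨M, rfl⟩ := pr_surjective g
  rw [mul_inv_eq_iff_eq_mul] at h h'
  have h1 : pr (M * uS x) = pr (uS x' * M) := by
    rw [map_mul, map_mul]; exact h
  have h2 : pr (M * vS y) = pr (vS y' * M) := by
    rw [map_mul, map_mul]; exact h'
  have e10 := entry10 M x x' hx h1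
  have e01 := entry01 M y y' hy h2
  obtain ⟨a, z, hM⟩ := upper_eq M e10
  refine ⟨a, ?_⟩
  have hz : z = 0 := by
    have := congrFun (congrFun (congrArg Subtype.val hM) 0) 1
    rw [e01] at this
    simp [uS_coe, tS_coe, Matrix.SpecialLinearGroup.coe_mul, Matrix.mul_apply,
      Fin.sum_univ_two] at this
    exact this
  rw [hM, hz, uS_zero, one_mul]
  rfl

end Cfsg.Agent.Helper11.PSL2Aut
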