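import Mathlib
import Cfsg.Agent.Helper11.PSL2AutB
import Cfsg.Agent.Helper2.SLCard

/-! Automorphisms of `PSL₂(F)`, part C: the unipotent Sylow subgroup. -/

set_option autoImplicit false
set_option linter.unusedSectionVars false
set_option linter.unusedVariables false

namespace Cfsg.Agent.Helper11.PSL2Aut

open Matrix

variable {F : Type*} [Field F]

/-- the upper unitriangular subgroup of `PSL₂` -/
def UL (F : Type*) [Field F] : Subgroup (Matrix.ProjectiveSpecialLinearGroup (Fin 2) F) where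
  carrier := {g | ∃ x : F, g = uL x}
  one_mem' := ⟨0, uL_zero.symm⟩
  mul_mem' := by
    rintro _ _ ⟨x, rfl⟩ ⟨y, rfl⟩
    exact ⟨x + y, (uL_add x y).symm⟩
  inv_mem' := by
    rintro _ ⟨x, rfl⟩
    exact ⟨-x, uL_inv x⟩

theorem uL_mem (x : F) : uL x ∈ UL F := ⟨x, rfl⟩

theorem card_UL [Fintype F] : Nat.card (UL F) = Fintype.card F := by
  rw [← Nat.card_eq_fintype_card]
  symm
  apply Nat.card_congr
  refine Equiv.ofBijective (fun x => ⟨uL x, uL_mem x⟩) ⟨?_, ?_⟩
  · intro x y h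
    exact uL_injective (congrArg Subtype.val h)
  · rintro ⟨_, x, rfl⟩
    exact ⟨x, rfl⟩

/-- `|PSL₂(q)| · gcd(2, q-1) = (q² - 1) q` -/
theorem card_L_mul [Fintype F] :
    Nat.card (Matrix.ProjectiveSpecialLinearGroup (Fin 2) F) * Nat.gcd 2 (Fintype.card F - 1) =
      (Fintype.card F ^ 2 - 1) * Fintype.card F := by
  classical
  set q := Fintype.card F with hq
  have hq2 : 2 ≤ q := by
    have := Fintype.one_lt_card (α := F)
    omega
  have h1 := Subgroup.card_eq_card_quotient_mul_card_subgroup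
    (Subgroup.center (Matrix.SpecialLinearGroup (Fin 2) F))
  have h2 := Cfsg.Agent.Helper2.card_center_SL (F := F) 2 (by norm_num)
  have h3 := Cfsg.Agent.Helper2.card_SL_mul_card_units (ι := Fin 2) (F := F)
  have h4 := Matrix.card_GL_field (𝔽 := F) 2
  have h5 := Cfsg.Agent.Helper2.card_units_field (F := F)
  rw [h5] at h2 h3
  rw [h2] at h1
  rw [h4, Fin.prod_univ_two] at h3
  simp only [Fin.val_zero, Fin.val_one, pow_zero, pow_one] at h3
  change Nat.card (Matrix.SpecialLinearGroup (Fin 2) F) =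
    Nat.card (Matrix.ProjectiveSpecialLinearGroup (Fin 2) F) * Nat.gcd 2 (q - 1) at h1
  rw [← h1]
  have h6 : (q ^ 2 - 1) * (q ^ 2 - q) = ((q ^ 2 - 1) * q) * (q - 1) := by
    have : q ^ 2 - q = q * (q - 1) := by
      rw [Nat.mul_sub, mul_one, sq]
    rw [this]; ring
  rw [h6] at h3
  exact Nat.eq_of_mul_eq_mul_right (by omega) h3

section sylow

variable [Fintype F] {p f : ℕ} [Fact p.Prime]

theorem isPGroup_UL (hF : Fintype.card F = p ^ f) : IsPGroup p (UL F) :=
  IsPGroup.of_card (n := f) (by rw [card_UL, hF])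

theorem not_dvd_index_UL (hf : 1 ≤ f) (hF : Fintype.card F = p ^ f) : ¬ p ∣ (UL F).index := by
  have hp : p.Prime := Fact.out
  have h1 := card_L_mul (F := F)
  have h2 := (UL F).card_mul_index
  rw [card_UL] at h2
  set q := Fintype.card F with hq
  have hq2 : 2 ≤ q := by
    have := Fintype.one_lt_card (α := F)
    omega
  rw [← h2] at h1
  have h3 : (UL F).index * Nat.gcd 2 (q - 1) = q ^ 2 - 1 := by
    have : q * ((UL F).index * Nat.gcd 2 (q - 1)) = q * (q ^ 2 - 1) := by
      rw [← mul_assoc, h1, mul_comm]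
    exact Nat.eq_of_mul_eq_mul_left (by omega) this
  intro hdvd
  have h4 : p ∣ q ^ 2 - 1 := by
    rw [← h3]
    exact Dvd.dvd.mul_right hdvd _
  have h5 : p ∣ q ^ 2 := by
    rw [hF, ← pow_mul]
    exact dvd_pow_self p (by omega)
  have h6 : 1 ≤ q ^ 2 := Nat.one_le_pow _ _ (by omega)
  have h7 : p ∣ 1 := by
    have := Nat.dvd_sub h5 h4
    rwa [Nat.sub_sub_self h6] at this
  exact hp.one_lt.ne' (Nat.dvd_one.mp h7)

/-- `U` as a Sylow `p`-subgroup -/
noncomputable def ULSylow (hf : 1 ≤ f) (hF : Fintype.card F = p ^ f) :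
    Sylow p (Matrix.ProjectiveSpecialLinearGroup (Fin 2) F) :=
  (isPGroup_UL hF).toSylow (not_dvd_index_UL hf hF)

theorem ULSylow_coe (hf : 1 ≤ f) (hF : Fintype.card F = p ^ f) :
    ((ULSylow hf hF : Sylow p (Matrix.ProjectiveSpecialLinearGroup (Fin 2) F)) :
      Subgroup (Matrix.ProjectiveSpecialLinearGroup (Fin 2) F)) = UL F := rfl

open scoped Pointwise in
theorem mem_smul_sylow' {G : Type*} [Group G] {p : ℕ} (P0 : Sylow p G) (g h : G) :
    h ∈ g • P0 ↔ g⁻¹ * h * g ∈ P0 := by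
  show h ∈ MulAut.conj g • (P0 : Subgroup G) ↔ g⁻¹ * h * g ∈ (P0 : Subgroup G)
  rw [Subgroup.mem_pointwise_smul_iff_inv_smul_mem]
  simp [MulAut.smul_def]

end sylow

end Cfsg.Agent.Helper11.PSL2Aut
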