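import Mathlib
import Cfsg.Agent.Helper11.PSL2AutC

/-! Automorphisms of `PSL₂(F)`, part D: normalising an automorphism by inner automorphisms. -/

set_option autoImplicit false
set_option linter.unusedSectionVars false
set_option linter.unusedVariables false

namespace Cfsg.Agent.Helper11.PSL2Aut

open Matrix

variable {F : Type*} [Field F]

/-- the lower unitriangular subgroup of `PSL₂` -/
def VL (F : Type*) [Field F] : Subgroup (Matrix.ProjectiveSpecialLinearGroup (Fin 2) F) where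
  carrier := {g | ∃ x : F, g = vL x}
  one_mem' := ⟨0, vL_zero.symm⟩
  mul_mem' := by
    rintro _ _ ⟨x, rfl⟩ ⟨y, rfl⟩
    exact ⟨x + y, (vL_add x y).symm⟩
  inv_mem' := by
    rintro _ ⟨x, rfl⟩
    exact ⟨-x, vL_inv x⟩

theorem vL_mem (x : F) : vL x ∈ VL F := ⟨x, rfl⟩

theorem card_VL [Fintype F] : Nat.card (VL F) = Fintype.card F := by
  rw [← Nat.card_eq_fintype_card]
  symm
  apply Nat.card_congr
  refine Equiv.ofBijective (fun x => ⟨vL x, vL_mem x⟩) ⟨?_, ?_⟩
  · intro x y h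
    exact vL_injective (congrArg Subtype.val h)
  · rintro ⟨_, x, rfl⟩
    exact ⟨x, rfl⟩

theorem conj_upper_uL (a : Fˣ) (y z : F) :
    (uL y * tL a) * uL z * (uL y * tL a)⁻¹ = uL ((a : F) ^ 2 * z) := by
  have e : (uL y * tL a) * uL z * (uL y * tL a)⁻¹ =
      uL y * (tL a * uL z * (tL a)⁻¹) * (uL y)⁻¹ := by group
  rw [e, tL_conj_uL, uL_inv, ← uL_add, ← uL_add]
  congr 1
  ring

/-- an automorphism is normalised if it maps `U` into `U` and `V` into `V` -/
structure Norm (α : MulAut (Matrix.ProjectiveSpecialLinearGroup (Fin 2) F)) : Prop where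
  hU : ∀ x : F, ∃ x' : F, α (uL x) = uL x'
  hV : ∀ y : F, ∃ y' : F, α (vL y) = vL y'

/-- an automorphism mapping `U` into `U` maps `U` onto `U` -/
theorem surj_on_U [Finite F] (α : MulAut (Matrix.ProjectiveSpecialLinearGroup (Fin 2) F))
    (h : ∀ x : F, ∃ x' : F, α (uL x) = uL x') (x' : F) : ∃ x : F, α (uL x) = uL x' := by
  choose θ hθ using h
  have hinj : Function.Injective θ := by
    intro x y hxy
    have : α (uL x) = α (uL y) := by rw [hθ, hθ, hxy]
    exact uL_injective (α.injective this)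
  obtain ⟨x, hx⟩ := Finite.surjective_of_injective hinj x'
  exact ⟨x, by rw [hθ, hx]⟩

theorem surj_on_V [Finite F] (α : MulAut (Matrix.ProjectiveSpecialLinearGroup (Fin 2) F))
    (h : ∀ x : F, ∃ x' : F, α (vL x) = vL x') (x' : F) : ∃ x : F, α (vL x) = vL x' := by
  choose θ hθ using h
  have hinj : Function.Injective θ := by
    intro x y hxy
    have : α (vL x) = α (vL y) := by rw [hθ, hθ, hxy]
    exact vL_injective (α.injective this)
  obtain ⟨x, hx⟩ := Finite.surjective_of_injective hinj x'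
  exact ⟨x, by rw [hθ, hx]⟩

section

variable [Fintype F] {p f : ℕ} [Fact p.Prime]

theorem isPGroup_VL (hF : Fintype.card F = p ^ f) : IsPGroup p (VL F) :=
  IsPGroup.of_card (n := f) (by rw [card_VL, hF])

/-- every automorphism can be normalised by an inner automorphism -/
theorem exists_norm (hf : 1 ≤ f) (hF : Fintype.card F = p ^ f)
    (α : MulAut (Matrix.ProjectiveSpecialLinearGroup (Fin 2) F)) :
    ∃ g : Matrix.ProjectiveSpecialLinearGroup (Fin 2) F, Norm (MulAut.conj g * α) := by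
  -- first step: `U` into `U`
  have hP : IsPGroup p ((UL F).map α.toMonoidHom) := (isPGroup_UL hF).map α.toMonoidHom
  obtain ⟨P', hP'⟩ := hP.exists_le_sylow
  obtain ⟨g₀, hg₀⟩ := MulAction.exists_smul_eq (Matrix.ProjectiveSpecialLinearGroup (Fin 2) F) P'
    (ULSylow hf hF)
  have h1 : ∀ x : F, ∃ x' : F, (MulAut.conj g₀ * α) (uL x) = uL x' := by
    intro x
    have hx : α (uL x) ∈ P' := hP' ⟨uL x, uL_mem x, rfl⟩
    have hx' : α (uL x) ∈ g₀⁻¹ • ULSylow hf hF := by
      rw [← hg₀, inv_smul_smul]; exact hx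
    rw [mem_smul_sylow', inv_inv] at hx'
    obtain ⟨x', hx''⟩ := hx'
    exact ⟨x', hx''⟩
  set α₁ := MulAut.conj g₀ * α with hα₁
  -- second step: `V` into `V`
  have hP2 : IsPGroup p ((VL F).map α₁.toMonoidHom) := (isPGroup_VL hF).map α₁.toMonoidHom
  obtain ⟨P'', hP''⟩ := hP2.exists_le_sylow
  obtain ⟨h, hh⟩ := MulAction.exists_smul_eq (Matrix.ProjectiveSpecialLinearGroup (Fin 2) F)
    (ULSylow hf hF) P''
  have key : ∀ y : F, ∃ z : F, α₁ (vL y) = h * uL z * h⁻¹ := by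
    intro y
    have hy : α₁ (vL y) ∈ P'' := hP'' ⟨vL y, vL_mem y, rfl⟩
    rw [← hh, mem_smul_sylow'] at hy
    obtain ⟨z, hz⟩ := hy
    refine ⟨z, ?_⟩
    rw [← hz]
    group
  rcases bruhatL h with ⟨a, x, rfl⟩ | ⟨x, a, y, rfl⟩
  · exfalso
    obtain ⟨z, hz⟩ := key 1
    rw [conj_upper_uL] at hz
    obtain ⟨x₂, hx₂⟩ := surj_on_U α₁ h1 ((a : F) ^ 2 * z)
    rw [← hx₂] at hz
    exact vL_ne_uL one_ne_zero (α₁.injective hz)
  · refine ⟨(uL x)⁻¹ * g₀, ?_⟩
    have e : MulAut.conj ((uL x)⁻¹ * g₀) * α = MulAut.conj (uL x)⁻¹ * α₁ := by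
      rw [hα₁, map_mul, mul_assoc]
    rw [e]
    constructor
    · intro x₀
      obtain ⟨x', hx'⟩ := h1 x₀
      refine ⟨x', ?_⟩
      rw [MulAut.mul_apply, hx', MulAut.conj_apply, inv_inv, uL_inv, ← uL_add, ← uL_add]
      congr 1
      ring
    · intro y₀
      obtain ⟨z, hz⟩ := key y₀
      refine ⟨-((a : F) ^ 2 * z), ?_⟩
      rw [MulAut.mul_apply, hz, MulAut.conj_apply, inv_inv]
      have e2 : (uL x)⁻¹ * (uL x * wL * (uL y * tL a) * uL z * (uL x * wL * (uL y * tL a))⁻¹) * uL x =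
          wL * ((uL y * tL a) * uL z * (uL y * tL a)⁻¹) * wL⁻¹ := by group
      rw [e2, conj_upper_uL, wL_conj_uL]

end

end Cfsg.Agent.Helper11.PSL2Aut
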