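import Mathlib
import Cfsg.Agent.Helper11.PSL2AutD

/-! Automorphisms of `PSL₂(F)`, part E: diagonal and field automorphisms. -/

set_option autoImplicit false
set_option linter.unusedSectionVars false
set_option linter.unusedVariables false

namespace Cfsg.Agent.Helper11.PSL2Aut

open Matrix

variable {F : Type*} [Field F]

/-- every element of a finite field is a sum of two squares -/
theorem exists_sq_add_sq [Fintype F] (x : F) : ∃ a b : F, a ^ 2 + b ^ 2 = x := by
  by_cases h2 : ringChar F = 2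
  · obtain ⟨a, ha⟩ := FiniteField.isSquare_of_char_two h2 x
    exact ⟨a, 0, by rw [ha]; ring⟩
  · have hodd := FiniteField.odd_card_of_char_ne_two h2
    let f : Polynomial F := Polynomial.X ^ 2
    let g : Polynomial F := Polynomial.X ^ 2 - Polynomial.C x
    obtain ⟨a, b, hab⟩ : ∃ a b, f.eval a + g.eval b = 0 :=
      FiniteField.exists_root_sum_quadratic (Polynomial.degree_X_pow 2)
        (Polynomial.degree_X_pow_sub_C (by decide) _) hodd
    refine ⟨a, b, ?_⟩
    rw [← sub_eq_zero]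
    simpa only [f, g, Polynomial.eval_C, Polynomial.eval_X, Polynomial.eval_pow,
      Polynomial.eval_sub, ← add_sub_assoc] using hab

/-- automorphisms of `SL₂` descend to `PSL₂` -/
noncomputable def liftAut : MulAut (Matrix.SpecialLinearGroup (Fin 2) F) →*
    MulAut (Matrix.ProjectiveSpecialLinearGroup (Fin 2) F) where
  toFun e := QuotientGroup.congr _ _ e
    (Subgroup.characteristic_iff_map_eq.mp Subgroup.centerCharacteristic e)
  map_one' := by
    ext g
    obtain ⟨M, rfl⟩ := pr_surjective g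
    rfl
  map_mul' e₁ e₂ := by
    ext g
    obtain ⟨M, rfl⟩ := pr_surjective g
    rfl

theorem liftAut_pr (e : MulAut (Matrix.SpecialLinearGroup (Fin 2) F))
    (M : Matrix.SpecialLinearGroup (Fin 2) F) : liftAut e (pr M) = pr (e M) := rfl

/-- `diag(c, 1)` -/
def dM (c : F) : Matrix (Fin 2) (Fin 2) F := !![c, 0; 0, 1]

theorem dM_mul (c d : F) : dM c * dM d = dM (c * d) := by
  unfold dM
  ext i j
  fin_cases i <;> fin_cases j <;> simp [Matrix.mul_apply, Fin.sum_univ_two]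

theorem dM_one : dM (1 : F) = 1 := by
  unfold dM
  ext i j
  fin_cases i <;> fin_cases j <;> simp

theorem dM_det (c : F) : (dM c).det = c := by
  unfold dM
  rw [Matrix.det_fin_two_of]
  ring

theorem dM_inv_mul (c : Fˣ) : dM ((c⁻¹ : Fˣ) : F) * dM (c : F) = 1 := by
  rw [dM_mul, ← Units.val_mul, inv_mul_cancel, Units.val_one, dM_one]

theorem dM_mul_inv (c : Fˣ) : dM (c : F) * dM ((c⁻¹ : Fˣ) : F) = 1 := by
  rw [dM_mul, ← Units.val_mul, mul_inv_cancel, Units.val_one, dM_one]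

/-- conjugation by `diag(c, 1)` on `SL₂` -/
def diagEquivS (c : Fˣ) : Matrix.SpecialLinearGroup (Fin 2) F ≃* Matrix.SpecialLinearGroup (Fin 2) F where
  toFun M := ⟨dM (c : F) * (M : Matrix (Fin 2) (Fin 2) F) * dM ((c⁻¹ : Fˣ) : F), by
    rw [Matrix.det_mul, Matrix.det_mul, dM_det, dM_det, M.2, mul_one, ← Units.val_mul,
      mul_inv_cancel, Units.val_one]⟩
  invFun M := ⟨dM ((c⁻¹ : Fˣ) : F) * (M : Matrix (Fin 2) (Fin 2) F) * dM (c : F), by
    rw [Matrix.det_mul, Matrix.det_mul, dM_det, dM_det, M.2, mul_one, ← Units.val_mul,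
      inv_mul_cancel, Units.val_one]⟩
  left_inv M := by
    apply Subtype.ext
    show dM ((c⁻¹ : Fˣ) : F) * (dM (c : F) * (M : Matrix (Fin 2) (Fin 2) F) *
      dM ((c⁻¹ : Fˣ) : F)) * dM (c : F) = M
    calc dM ((c⁻¹ : Fˣ) : F) * (dM (c : F) * (M : Matrix (Fin 2) (Fin 2) F) *
        dM ((c⁻¹ : Fˣ) : F)) * dM (c : F)
        = (dM ((c⁻¹ : Fˣ) : F) * dM (c : F)) * (M : Matrix (Fin 2) (Fin 2) F) *
          (dM ((c⁻¹ : Fˣ) : F) * dM (c : F)) := by simp only [Matrix.mul_assoc]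
      _ = M := by rw [dM_inv_mul, Matrix.one_mul, Matrix.mul_one]
  right_inv M := by
    apply Subtype.ext
    show dM (c : F) * (dM ((c⁻¹ : Fˣ) : F) * (M : Matrix (Fin 2) (Fin 2) F) * dM (c : F)) *
      dM ((c⁻¹ : Fˣ) : F) = M
    calc dM (c : F) * (dM ((c⁻¹ : Fˣ) : F) * (M : Matrix (Fin 2) (Fin 2) F) * dM (c : F)) *
        dM ((c⁻¹ : Fˣ) : F)
        = (dM (c : F) * dM ((c⁻¹ : Fˣ) : F)) * (M : Matrix (Fin 2) (Fin 2) F) *
          (dM (c : F) * dM ((c⁻¹ : Fˣ) : F)) := by simp only [Matrix.mul_assoc]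
      _ = M := by rw [dM_mul_inv, Matrix.one_mul, Matrix.mul_one]
  map_mul' M N := by
    apply Subtype.ext
    show dM (c : F) * ((M * N : Matrix.SpecialLinearGroup (Fin 2) F) : Matrix (Fin 2) (Fin 2) F) *
      dM ((c⁻¹ : Fˣ) : F) = (dM (c : F) * (M : Matrix (Fin 2) (Fin 2) F) * dM ((c⁻¹ : Fˣ) : F)) *
        (dM (c : F) * (N : Matrix (Fin 2) (Fin 2) F) * dM ((c⁻¹ : Fˣ) : F))
    rw [Matrix.SpecialLinearGroup.coe_mul]
    calc dM (c : F) * ((M : Matrix (Fin 2) (Fin 2) F) * (N : Matrix (Fin 2) (Fin 2) F)) *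
        dM ((c⁻¹ : Fˣ) : F)
        = dM (c : F) * (M : Matrix (Fin 2) (Fin 2) F) * 1 * (N : Matrix (Fin 2) (Fin 2) F) *
          dM ((c⁻¹ : Fˣ) : F) := by simp only [Matrix.mul_assoc, Matrix.one_mul]
      _ = (dM (c : F) * (M : Matrix (Fin 2) (Fin 2) F) * dM ((c⁻¹ : Fˣ) : F)) *
          (dM (c : F) * (N : Matrix (Fin 2) (Fin 2) F) * dM ((c⁻¹ : Fˣ) : F)) := by
        rw [← dM_inv_mul c]; simp only [Matrix.mul_assoc]

theorem diagEquivS_coe (c : Fˣ) (M : Matrix.SpecialLinearGroup (Fin 2) F) :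
    ((diagEquivS c M : Matrix.SpecialLinearGroup (Fin 2) F) : Matrix (Fin 2) (Fin 2) F) =
      !![(M : Matrix (Fin 2) (Fin 2) F) 0 0, (c : F) * (M : Matrix (Fin 2) (Fin 2) F) 0 1;
      ((c⁻¹ : Fˣ) : F) * (M : Matrix (Fin 2) (Fin 2) F) 1 0, (M : Matrix (Fin 2) (Fin 2) F) 1 1] := by
  show dM (c : F) * (M : Matrix (Fin 2) (Fin 2) F) * dM ((c⁻¹ : Fˣ) : F) = _
  have hc : (c : F) * ((c⁻¹ : Fˣ) : F) = 1 := by simp
  ext i j
  fin_cases i <;> fin_cases j
  · show (dM (c : F) * (M : Matrix (Fin 2) (Fin 2) F) * dM ((c⁻¹ : Fˣ) : F)) 0 0 = _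
    simp only [Matrix.mul_apply, Fin.sum_univ_two]
    simp [dM]
    field_simp
  · show (dM (c : F) * (M : Matrix (Fin 2) (Fin 2) F) * dM ((c⁻¹ : Fˣ) : F)) 0 1 = _
    simp only [Matrix.mul_apply, Fin.sum_univ_two]
    simp [dM]
  · show (dM (c : F) * (M : Matrix (Fin 2) (Fin 2) F) * dM ((c⁻¹ : Fˣ) : F)) 1 0 = _
    simp only [Matrix.mul_apply, Fin.sum_univ_two]
    simp [dM]
    ring
  · show (dM (c : F) * (M : Matrix (Fin 2) (Fin 2) F) * dM ((c⁻¹ : Fˣ) : F)) 1 1 = _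
    simp only [Matrix.mul_apply, Fin.sum_univ_two]
    simp [dM]

/-- the diagonal automorphisms of `SL₂` -/
def diagAutS : Fˣ →* MulAut (Matrix.SpecialLinearGroup (Fin 2) F) where
  toFun := diagEquivS
  map_one' := by
    apply MulEquiv.ext
    intro M
    apply sl2_ext <;> simp [diagEquivS_coe]
  map_mul' c d := by
    apply MulEquiv.ext
    intro M
    show diagEquivS (c * d) M = diagEquivS c (diagEquivS d M)
    apply sl2_ext <;> simp [diagEquivS_coe, mul_assoc, mul_comm]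

/-- the diagonal automorphisms of `PSL₂` -/
noncomputable def diagAut : Fˣ →* MulAut (Matrix.ProjectiveSpecialLinearGroup (Fin 2) F) :=
  liftAut.comp diagAutS

theorem diagAut_uL (c : Fˣ) (x : F) : diagAut c (uL x) = uL ((c : F) * x) := by
  show pr (diagEquivS c (uS x)) = pr (uS ((c : F) * x))
  congr 1
  apply sl2_ext <;> simp [diagEquivS_coe, uS_coe]

theorem diagAut_vL (c : Fˣ) (y : F) : diagAut c (vL y) = vL (((c⁻¹ : Fˣ) : F) * y) := by
  show pr (diagEquivS c (vS y)) = pr (vS (((c⁻¹ : Fˣ) : F) * y))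
  congr 1
  apply sl2_ext <;> simp [diagEquivS_coe, vS_coe]

section field

variable {K : Type*} [Field K] [Algebra K F]

theorem map_coe_apply (f : F →+* F) (M : Matrix.SpecialLinearGroup (Fin 2) F) (i j : Fin 2) :
    ((Matrix.SpecialLinearGroup.map f M : Matrix.SpecialLinearGroup (Fin 2) F) :
      Matrix (Fin 2) (Fin 2) F) i j = f ((M : Matrix (Fin 2) (Fin 2) F) i j) := rfl

/-- entrywise field automorphism on `SL₂` -/
def fieldEquivS (γ : F ≃ₐ[K] F) :
    Matrix.SpecialLinearGroup (Fin 2) F ≃* Matrix.SpecialLinearGroup (Fin 2) F where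
  toFun := Matrix.SpecialLinearGroup.map (γ.toAlgHom.toRingHom)
  invFun := Matrix.SpecialLinearGroup.map (γ.symm.toAlgHom.toRingHom)
  left_inv M := by
    apply sl2_ext <;> simp [map_coe_apply]
  right_inv M := by
    apply sl2_ext <;> simp [map_coe_apply]
  map_mul' M N := map_mul _ M N

theorem fieldEquivS_coe (γ : F ≃ₐ[K] F) (M : Matrix.SpecialLinearGroup (Fin 2) F) (i j : Fin 2) :
    ((fieldEquivS γ M : Matrix.SpecialLinearGroup (Fin 2) F) : Matrix (Fin 2) (Fin 2) F) i j =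
      γ ((M : Matrix (Fin 2) (Fin 2) F) i j) := rfl

/-- the field automorphisms of `SL₂` -/
def fieldAutS : (F ≃ₐ[K] F) →* MulAut (Matrix.SpecialLinearGroup (Fin 2) F) where
  toFun := fieldEquivS
  map_one' := by
    apply MulEquiv.ext
    intro M
    apply sl2_ext <;> simp [fieldEquivS_coe]
  map_mul' γ₁ γ₂ := by
    apply MulEquiv.ext
    intro M
    show fieldEquivS (γ₁ * γ₂) M = fieldEquivS γ₁ (fieldEquivS γ₂ M)
    apply sl2_ext <;> simp [fieldEquivS_coe, AlgEquiv.mul_apply]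

/-- the field automorphisms of `PSL₂` -/
noncomputable def fieldAut :
    (F ≃ₐ[K] F) →* MulAut (Matrix.ProjectiveSpecialLinearGroup (Fin 2) F) :=
  liftAut.comp fieldAutS

theorem fieldAut_uL (γ : F ≃ₐ[K] F) (x : F) : fieldAut γ (uL x) = uL (γ x) := by
  show pr (fieldEquivS γ (uS x)) = pr (uS (γ x))
  congr 1
  apply sl2_ext <;> simp [fieldEquivS_coe, uS_coe]

theorem fieldAut_vL (γ : F ≃ₐ[K] F) (y : F) : fieldAut γ (vL y) = vL (γ y) := by
  show pr (fieldEquivS γ (vS y)) = pr (vS (γ y))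
  congr 1
  apply sl2_ext <;> simp [fieldEquivS_coe, vS_coe]

end field

end Cfsg.Agent.Helper11.PSL2Aut
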