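import Mathlib
import Cfsg.Agent.Helper11.PSL2AutE

/-! Automorphisms of `PSL₂(F)`, part F: rigidity of normalised automorphisms. -/

set_option autoImplicit false
set_option linter.unusedSectionVars false
set_option linter.unusedVariables false

namespace Cfsg.Agent.Helper11.PSL2Aut

open Matrix

variable {F : Type*} [Field F]

theorem tL_eq_of_sq {a b : Fˣ} (h : (b : F) ^ 2 = (a : F) ^ 2) : tL b = tL a := by
  have h1 : ((b : F) - a) * ((b : F) + a) = 0 := by linear_combination h
  rcases mul_eq_zero.mp h1 with h2 | h2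
  · have : b = a := Units.ext (by linear_combination h2)
    rw [this]
  · have hba : (b : F) = -(a : F) := by linear_combination h2
    unfold tL
    rw [pr_eq_iff]
    refine ⟨-1, by ring, ?_⟩
    have hinv : ((a⁻¹ : Fˣ) : F) = -((b⁻¹ : Fˣ) : F) := by
      rw [Units.val_inv_eq_inv_val, Units.val_inv_eq_inv_val, hba, inv_neg, neg_neg]
    ext i j
    fin_cases i <;> fin_cases j <;> simp [tS_coe, hba, hinv]

/-- the product `u(a) v(-c a⁻¹) u(a)` -/
theorem uvu_gen (a : Fˣ) (c : F) :
    ((uS (a : F) * vS (-(c * ((a⁻¹ : Fˣ) : F))) * uS (a : F) : Matrix.SpecialLinearGroup (Fin 2) F) :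
      Matrix (Fin 2) (Fin 2) F) =
      !![1 - c, (2 - c) * (a : F); -(c * ((a⁻¹ : Fˣ) : F)), 1 - c] := by
  have ha : (a : F) * ((a⁻¹ : Fˣ) : F) = 1 := by simp
  ext i j
  fin_cases i <;> fin_cases j
  · show ((uS (a : F) * vS (-(c * ((a⁻¹ : Fˣ) : F))) * uS (a : F) :
      Matrix.SpecialLinearGroup (Fin 2) F) : Matrix (Fin 2) (Fin 2) F) 0 0 = _
    simp only [Matrix.SpecialLinearGroup.coe_mul, Matrix.mul_apply, Fin.sum_univ_two, uS_coe,
      vS_coe]
    simp
    field_simp
    ring
  · show ((uS (a : F) * vS (-(c * ((a⁻¹ : Fˣ) : F))) * uS (a : F) :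
      Matrix.SpecialLinearGroup (Fin 2) F) : Matrix (Fin 2) (Fin 2) F) 0 1 = _
    simp only [Matrix.SpecialLinearGroup.coe_mul, Matrix.mul_apply, Fin.sum_univ_two, uS_coe,
      vS_coe]
    simp
    field_simp
    ring
  · show ((uS (a : F) * vS (-(c * ((a⁻¹ : Fˣ) : F))) * uS (a : F) :
      Matrix.SpecialLinearGroup (Fin 2) F) : Matrix (Fin 2) (Fin 2) F) 1 0 = _
    simp only [Matrix.SpecialLinearGroup.coe_mul, Matrix.mul_apply, Fin.sum_univ_two, uS_coe,
      vS_coe]
    simp
  · show ((uS (a : F) * vS (-(c * ((a⁻¹ : Fˣ) : F))) * uS (a : F) :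
      Matrix.SpecialLinearGroup (Fin 2) F) : Matrix (Fin 2) (Fin 2) F) 1 1 = _
    simp only [Matrix.SpecialLinearGroup.coe_mul, Matrix.mul_apply, Fin.sum_univ_two, uS_coe,
      vS_coe]
    simp
    field_simp
    ring


/-- two automorphisms agreeing on the root elements are equal -/
theorem aut_ext {α β : MulAut (Matrix.ProjectiveSpecialLinearGroup (Fin 2) F)}
    (hu : ∀ x : F, α (uL x) = β (uL x)) (hv : ∀ y : F, α (vL y) = β (vL y)) : α = β := by
  have h : ∀ g, (β⁻¹ * α) g = g := by
    apply eq_of_fix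
    · intro x
      rw [MulAut.mul_apply, hu, MulAut.inv_apply_self]
    · intro y
      rw [MulAut.mul_apply, hv, MulAut.inv_apply_self]
  ext g
  have := h g
  rw [MulAut.mul_apply] at this
  have h2 := congrArg β this
  rwa [MulAut.apply_inv_self] at h2

/-- Rigidity: a normalised automorphism which is trivial on `U` is trivial. -/
theorem rigid [Fintype F] (β : MulAut (Matrix.ProjectiveSpecialLinearGroup (Fin 2) F))
    (hN : Norm β) (hu : ∀ x : F, β (uL x) = uL x) (a : Fˣ) (ha : a ≠ 1) : β = 1 := by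
  obtain ⟨-, hV⟩ := hN
  choose η hη using hV
  have hadd : ∀ x y, η (x + y) = η x + η y := by
    intro x y
    apply vL_injective
    rw [← hη, vL_add, map_mul, hη, hη, vL_add]
  have hinj : Function.Injective η := by
    intro x y hxy
    have : β (vL x) = β (vL y) := by rw [hη, hη, hxy]
    exact vL_injective (β.injective this)
  have h0 : η 0 = 0 := by
    have := hadd 0 0
    rw [add_zero] at this
    linear_combination -this
  have hc1 : η 1 ≠ 0 := by
    intro h
    rw [← h0] at h
    exact one_ne_zero (hinj h)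
  -- torus elements are fixed
  have ht : ∀ b : Fˣ, β (tL b) = tL b := by
    intro b
    have e1 : β (tL b) * uL 1 * (β (tL b))⁻¹ = uL ((b : F) ^ 2 * 1) := by
      rw [← hu 1, ← map_inv, ← map_mul, ← map_mul, tL_conj_uL, hu]
    have e2 : β (tL b) * vL (η 1) * (β (tL b))⁻¹ = vL (η (((b⁻¹ : Fˣ) : F) ^ 2 * 1)) := by
      rw [← hη 1, ← map_inv, ← map_mul, ← map_mul, tL_conj_vL, hη]
    obtain ⟨b', hb'⟩ := diag_of_conj _ _ _ _ _ one_ne_zero hc1 e1 e2
    rw [hb', tL_conj_uL] at e1
    have := uL_injective e1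
    rw [hb']
    exact tL_eq_of_sq (by linear_combination this)
  -- semilinearity for squares
  have hsq : ∀ (s y : F), η (s ^ 2 * y) = s ^ 2 * η y := by
    intro s y
    by_cases hs : s = 0
    · subst hs
      simp [h0]
    · let b : Fˣ := (Units.mk0 s hs)⁻¹
      have hb : ((b⁻¹ : Fˣ) : F) = s := by simp [b]
      have e2 : β (tL b * vL y * (tL b)⁻¹) = tL b * vL (η y) * (tL b)⁻¹ := by
        rw [map_mul, map_mul, map_inv, ht, hη]
      rw [tL_conj_vL, tL_conj_vL, hη, hb] at e2
      exact vL_injective e2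
  have hlin : ∀ z y : F, η (z * y) = z * η y := by
    intro z y
    obtain ⟨s, t, rfl⟩ := exists_sq_add_sq z
    rw [add_mul, hadd, hsq, hsq, add_mul]
  have hηc : ∀ y : F, η y = η 1 * y := by
    intro y
    have := hlin y 1
    rw [mul_one] at this
    rw [this, mul_comm]
  set c := η 1 with hc
  -- image of the Weyl element
  have hw : β wL = uL 1 * vL (-c) * uL 1 := by
    rw [wL_eq, map_mul, map_mul, hu, hη, hηc (-1)]
    congr 3
    ring
  have key : uL (a : F) * vL (-(c * ((a⁻¹ : Fˣ) : F))) * uL (a : F) =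
      tL a * (uL 1 * vL (-c) * uL 1) := by
    have := congrArg β (uvuL a)
    rw [map_mul, map_mul, map_mul, hu, hη, ht, hw, hηc] at this
    rw [← this]
    congr 3
    ring
  have key' : pr (uS (a : F) * vS (-(c * ((a⁻¹ : Fˣ) : F))) * uS (a : F)) =
      pr (tS a * (uS (((1 : Fˣ) : Fˣ) : F) * vS (-(c * (((1 : Fˣ)⁻¹ : Fˣ) : F))) *
        uS (((1 : Fˣ) : Fˣ) : F))) := by
    rw [map_mul, map_mul, map_mul, map_mul, map_mul]
    simp only [Units.val_one, inv_one, mul_one]
    exact key
  obtain ⟨r, hr, hs⟩ := (pr_eq_iff _ _).mp key'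
  rw [Matrix.SpecialLinearGroup.coe_mul, uvu_gen, uvu_gen, tS_coe] at hs
  have h10 := congrFun (congrFun hs 1) 0
  have h00 := congrFun (congrFun hs 0) 0
  simp at h10 h00
  have hainv : ((a : F))⁻¹ ≠ 0 := inv_ne_zero a.ne_zero
  have hr1 : r = 1 := by
    have : (1 - r) * (c * (a : F)⁻¹) = 0 := by linear_combination h10
    rcases mul_eq_zero.mp this with h1 | h1
    · linear_combination -h1
    · rcases mul_eq_zero.mp h1 with h2 | h2
      · exact absurd h2 hc1
      · exact absurd h2 hainv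
  have hc1' : c = 1 := by
    rcases h00 with h1 | h1
    · exfalso
      apply ha
      exact Units.ext (by rw [h1, hr1]; rfl)
    · linear_combination -h1
  apply aut_ext
  · intro x
    rw [hu]; rfl
  · intro y
    rw [hη, hηc, hc1', one_mul]; rfl

end Cfsg.Agent.Helper11.PSL2Aut
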