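import Mathlib
import Cfsg.Agent.Helper11.PSL2AutF

/-! Automorphisms of `PSL₂(F)`, part G: normalised automorphisms are diagonal times field. -/

set_option autoImplicit false
set_option linter.unusedSectionVars false
set_option linter.unusedVariables false

namespace Cfsg.Agent.Helper11.PSL2Aut

open Matrix

variable {F : Type*} [Field F]

section

variable {K : Type*} [Field K] [Algebra K F]

theorem diagField_uL (c : Fˣ) (γ : F ≃ₐ[K] F) (x : F) :
    (diagAut c * fieldAut γ) (uL x) = uL ((c : F) * γ x) := by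
  rw [MulAut.mul_apply, fieldAut_uL, diagAut_uL]

theorem diagField_vL (c : Fˣ) (γ : F ≃ₐ[K] F) (y : F) :
    (diagAut c * fieldAut γ) (vL y) = vL (((c⁻¹ : Fˣ) : F) * γ y) := by
  rw [MulAut.mul_apply, fieldAut_vL, diagAut_vL]

/-- a normalised automorphism is the product of a diagonal and a field automorphism -/
theorem decomp [Fintype F]
    (hK : ∀ (σ : F ≃+* F) (k : K), σ (algebraMap K F k) = algebraMap K F k)
    (a₀ : Fˣ) (ha₀ : a₀ ≠ 1)
    (α : MulAut (Matrix.ProjectiveSpecialLinearGroup (Fin 2) F)) (hN : Norm α) :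
    ∃ (c : Fˣ) (γ : F ≃ₐ[K] F), α = diagAut c * fieldAut γ := by
  obtain ⟨hU, hV⟩ := hN
  choose θ hθ using hU
  choose η hη using hV
  have hadd : ∀ x y, θ (x + y) = θ x + θ y := by
    intro x y
    apply uL_injective
    rw [← hθ, uL_add, map_mul, hθ, hθ, uL_add]
  have hinj : Function.Injective θ := by
    intro x y hxy
    have : α (uL x) = α (uL y) := by rw [hθ, hθ, hxy]
    exact uL_injective (α.injective this)
  have h0 : θ 0 = 0 := by
    have := hadd 0 0
    rw [add_zero] at this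
    linear_combination -this
  have hc1 : θ 1 ≠ 0 := by
    intro h
    rw [← h0] at h
    exact one_ne_zero (hinj h)
  have hadd' : ∀ x y, η (x + y) = η x + η y := by
    intro x y
    apply vL_injective
    rw [← hη, vL_add, map_mul, hη, hη, vL_add]
  have hinj' : Function.Injective η := by
    intro x y hxy
    have : α (vL x) = α (vL y) := by rw [hη, hη, hxy]
    exact vL_injective (α.injective this)
  have h0' : η 0 = 0 := by
    have := hadd' 0 0
    rw [add_zero] at this
    linear_combination -this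
  have hc1' : η 1 ≠ 0 := by
    intro h
    rw [← h0'] at h
    exact one_ne_zero (hinj' h)
  -- torus elements go to torus elements
  have ht : ∀ b : Fˣ, ∃ b' : Fˣ, α (tL b) = tL b' := by
    intro b
    have e1 : α (tL b) * uL (θ 1) * (α (tL b))⁻¹ = uL (θ ((b : F) ^ 2 * 1)) := by
      rw [← hθ 1, ← map_inv, ← map_mul, ← map_mul, tL_conj_uL, hθ]
    have e2 : α (tL b) * vL (η 1) * (α (tL b))⁻¹ = vL (η (((b⁻¹ : Fˣ) : F) ^ 2 * 1)) := by
      rw [← hη 1, ← map_inv, ← map_mul, ← map_mul, tL_conj_vL, hη]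
    exact diag_of_conj _ _ _ _ _ hc1 hc1' e1 e2
  have hsq0 : ∀ (b : Fˣ) (x : F), θ ((b : F) ^ 2 * x) * θ 1 = θ ((b : F) ^ 2) * θ x := by
    intro b x
    obtain ⟨b', hb'⟩ := ht b
    have e : ∀ y : F, θ ((b : F) ^ 2 * y) = (b' : F) ^ 2 * θ y := by
      intro y
      have e2 : α (tL b * uL y * (tL b)⁻¹) = tL b' * uL (θ y) * (tL b')⁻¹ := by
        rw [map_mul, map_mul, map_inv, hb', hθ]
      rw [tL_conj_uL, tL_conj_uL, hθ] at e2
      exact uL_injective e2
    have e1 := e 1
    rw [mul_one] at e1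
    rw [e x, e1]
    ring
  set c₀ := θ 1 with hc₀
  let θ' : F → F := fun x => c₀⁻¹ * θ x
  have hθ'1 : θ' 1 = 1 := by
    show c₀⁻¹ * θ 1 = 1
    rw [← hc₀]
    exact inv_mul_cancel₀ hc1
  have hθ'add : ∀ x y, θ' (x + y) = θ' x + θ' y := by
    intro x y
    show c₀⁻¹ * θ (x + y) = c₀⁻¹ * θ x + c₀⁻¹ * θ y
    rw [hadd]; ring
  have hθ'0 : θ' 0 = 0 := by
    show c₀⁻¹ * θ 0 = 0
    rw [h0, mul_zero]
  have hθ'sq : ∀ (s x : F), θ' (s ^ 2 * x) = θ' (s ^ 2) * θ' x := by
    intro s x
    by_cases hs : s = 0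
    · subst hs
      simp [hθ'0]
    · have := hsq0 (Units.mk0 s hs) x
      rw [Units.val_mk0] at this
      show c₀⁻¹ * θ (s ^ 2 * x) = c₀⁻¹ * θ (s ^ 2) * (c₀⁻¹ * θ x)
      field_simp
      linear_combination this
  have hθ'mul : ∀ (z x : F), θ' (z * x) = θ' z * θ' x := by
    intro z x
    obtain ⟨s, t, rfl⟩ := exists_sq_add_sq z
    rw [add_mul, hθ'add, hθ'sq, hθ'sq, hθ'add, add_mul]
  let σ₀ : F →+* F :=
    { toFun := θ'
      map_one' := hθ'1
      map_mul' := hθ'mul
      map_zero' := hθ'0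
      map_add' := hθ'add }
  have hbij : Function.Bijective σ₀ :=
    Finite.injective_iff_bijective.mp σ₀.injective
  let σ : F ≃+* F := RingEquiv.ofBijective σ₀ hbij
  have hσ : ∀ x, σ x = c₀⁻¹ * θ x := fun x => rfl
  let γ : F ≃ₐ[K] F := AlgEquiv.ofRingEquiv (f := σ) (hK σ)
  have hγ : ∀ x, γ x = c₀⁻¹ * θ x := fun x => rfl
  let c : Fˣ := Units.mk0 c₀ hc1
  refine ⟨c, γ, ?_⟩
  set δ := diagAut c * fieldAut γ with hδ
  have hδu : ∀ x, α (uL x) = δ (uL x) := by
    intro x
    rw [hδ, diagField_uL, hθ, hγ]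
    congr 1
    show θ x = c₀ * (c₀⁻¹ * θ x)
    field_simp
  have hrig : δ⁻¹ * α = 1 := by
    apply rigid _ _ _ a₀ ha₀
    · constructor
      · intro x
        exact ⟨x, by rw [MulAut.mul_apply, hδu, MulAut.inv_apply_self]⟩
      · intro y
        refine ⟨γ.symm ((c : F) * η y), ?_⟩
        rw [MulAut.mul_apply, hη]
        have : δ (vL (γ.symm ((c : F) * η y))) = vL (η y) := by
          rw [hδ, diagField_vL, AlgEquiv.apply_symm_apply]
          congr 1
          simp
        rw [← this, MulAut.inv_apply_self]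
    · intro x
      rw [MulAut.mul_apply, hδu, MulAut.inv_apply_self]
  calc α = δ * (δ⁻¹ * α) := by group
    _ = δ := by rw [hrig, mul_one]

end

end Cfsg.Agent.Helper11.PSL2Aut
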