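import Mathlib
import Cfsg.Agent.Helper11.PSL2AutG

/-! Automorphisms of `PSL₂(F)`, part H: the homomorphism `Aut → Gal`. -/

set_option autoImplicit false
set_option linter.unusedSectionVars false
set_option linter.unusedVariables false

namespace Cfsg.Agent.Helper11.PSL2Aut

open Matrix

variable {F : Type*} [Field F]

theorem aut_mul_conj {G : Type*} [Group G] (α : MulAut G) (g : G) :
    α * MulAut.conj g = MulAut.conj (α g) * α := by
  ext x
  simp [MulAut.conj_apply, map_mul, map_inv]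

/-- `δ_{e²}` is the inner automorphism by `t(e)` -/
theorem diagAut_sq (e : Fˣ) : diagAut (e ^ 2) = MulAut.conj (tL e) := by
  apply aut_ext
  · intro x
    rw [diagAut_uL, MulAut.conj_apply, tL_conj_uL]
    simp
  · intro y
    rw [diagAut_vL, MulAut.conj_apply, tL_conj_vL]
    simp

/-- a diagonal automorphism is inner only for squares -/
theorem sq_of_diagAut_inner (c : Fˣ) (g : Matrix.ProjectiveSpecialLinearGroup (Fin 2) F)
    (h : diagAut c = MulAut.conj g) : ∃ e : Fˣ, c = e ^ 2 := by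
  have e1 : g * uL 1 * g⁻¹ = uL ((c : F) * 1) := by
    rw [← diagAut_uL, h, MulAut.conj_apply]
  have e2 : g * vL 1 * g⁻¹ = vL (((c⁻¹ : Fˣ) : F) * 1) := by
    rw [← diagAut_vL, h, MulAut.conj_apply]
  obtain ⟨e, rfl⟩ := diag_of_conj g _ _ _ _ one_ne_zero one_ne_zero e1 e2
  rw [tL_conj_uL] at e1
  have := uL_injective e1
  exact ⟨e, Units.ext (by simpa using this.symm)⟩

section

variable {K : Type*} [Field K] [Algebra K F]

theorem fieldAut_mul_diagAut (γ : F ≃ₐ[K] F) (c : Fˣ) :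
    ∃ c' : Fˣ, fieldAut γ * diagAut c = diagAut c' * fieldAut γ := by
  refine ⟨Units.map (γ : F →* F) c, ?_⟩
  apply aut_ext
  · intro x
    rw [diagField_uL, MulAut.mul_apply, diagAut_uL, fieldAut_uL, map_mul]
    rfl
  · intro y
    rw [diagField_vL, MulAut.mul_apply, diagAut_vL, fieldAut_vL, map_mul, ← map_inv]
    rfl

/-- uniqueness of the field part -/
theorem gamma_unique (g g' : Matrix.ProjectiveSpecialLinearGroup (Fin 2) F) (c c' : Fˣ)
    (γ γ' : F ≃ₐ[K] F)
    (h : MulAut.conj g * (diagAut c * fieldAut γ) = MulAut.conj g' * (diagAut c' * fieldAut γ')) :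
    γ = γ' := by
  set k := g'⁻¹ * g with hk
  have h' : MulAut.conj k * (diagAut c * fieldAut γ) = diagAut c' * fieldAut γ' := by
    rw [hk, map_mul, mul_assoc, h, ← mul_assoc, ← map_mul, inv_mul_cancel, map_one, one_mul]
  have eu : ∀ x : F, k * uL ((c : F) * γ x) * k⁻¹ = uL ((c' : F) * γ' x) := by
    intro x
    have := congrArg (fun φ => φ (uL x)) h'
    beta_reduce at this
    rw [MulAut.mul_apply, MulAut.conj_apply, diagField_uL, diagField_uL] at this
    exact this
  have ev : ∀ y : F, k * vL (((c⁻¹ : Fˣ) : F) * γ y) * k⁻¹ = vL (((c'⁻¹ : Fˣ) : F) * γ' y) := by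
    intro y
    have := congrArg (fun φ => φ (vL y)) h'
    beta_reduce at this
    rw [MulAut.mul_apply, MulAut.conj_apply, diagField_vL, diagField_vL] at this
    exact this
  have hne1 : (c : F) * γ 1 ≠ 0 := by simp
  have hne2 : ((c⁻¹ : Fˣ) : F) * γ 1 ≠ 0 := by simp
  obtain ⟨a, ha⟩ := diag_of_conj k _ _ _ _ hne1 hne2 (eu 1) (ev 1)
  have e : ∀ x : F, (a : F) ^ 2 * ((c : F) * γ x) = (c' : F) * γ' x := by
    intro x
    have := eu x
    rw [ha, tL_conj_uL] at this
    exact uL_injective this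
  have e1 := e 1
  simp only [map_one, mul_one] at e1
  ext x
  have e2 := e x
  rw [← mul_assoc, e1] at e2
  exact mul_left_cancel₀ c'.ne_zero e2

/-- the homomorphism from `Aut(PSL₂(F))` onto the Galois group -/
theorem exists_psi [Fintype F] {p f : ℕ} [Fact p.Prime] (hf : 1 ≤ f) (hF : Fintype.card F = p ^ f)
    (hK : ∀ (σ : F ≃+* F) (k : K), σ (algebraMap K F k) = algebraMap K F k)
    (a₀ : Fˣ) (ha₀ : a₀ ≠ 1) :
    ∃ ψ : MulAut (Matrix.ProjectiveSpecialLinearGroup (Fin 2) F) →* (F ≃ₐ[K] F),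
      (∀ γ, ψ (fieldAut γ) = γ) ∧
      (∀ α, ψ α = 1 ↔ ∃ g c, α = MulAut.conj g * diagAut c) := by
  have hex : ∀ α : MulAut (Matrix.ProjectiveSpecialLinearGroup (Fin 2) F),
      ∃ (γ : F ≃ₐ[K] F) (g : Matrix.ProjectiveSpecialLinearGroup (Fin 2) F) (c : Fˣ),
        α = MulAut.conj g * (diagAut c * fieldAut γ) := by
    intro α
    obtain ⟨g, hg⟩ := exists_norm hf hF α
    obtain ⟨c, γ, hcγ⟩ := decomp hK a₀ ha₀ _ hg
    refine ⟨γ, g⁻¹, c, ?_⟩
    rw [← hcγ, ← mul_assoc, ← map_mul, inv_mul_cancel, map_one, one_mul]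
  choose ψ gg cc hψ using hex
  have huniq : ∀ α (γ : F ≃ₐ[K] F) g c, α = MulAut.conj g * (diagAut c * fieldAut γ) → ψ α = γ := by
    intro α γ g c h
    exact gamma_unique _ _ _ _ _ _ ((hψ α).symm.trans h)
  have hmul : ∀ α β, ψ (α * β) = ψ α * ψ β := by
    intro α β
    obtain ⟨c', hc'⟩ := fieldAut_mul_diagAut (ψ α) (cc β)
    apply huniq (α * β) _ (gg α * (diagAut (cc α) * fieldAut (ψ α)) (gg β)) (cc α * c')
    conv_lhs => rw [hψ α, hψ β]
    rw [map_mul, map_mul, map_mul]
    calc MulAut.conj (gg α) * (diagAut (cc α) * fieldAut (ψ α)) *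
          (MulAut.conj (gg β) * (diagAut (cc β) * fieldAut (ψ β)))
        = MulAut.conj (gg α) * ((diagAut (cc α) * fieldAut (ψ α)) * MulAut.conj (gg β)) *
            (diagAut (cc β) * fieldAut (ψ β)) := by group
      _ = MulAut.conj (gg α) * (MulAut.conj ((diagAut (cc α) * fieldAut (ψ α)) (gg β)) *
            (diagAut (cc α) * fieldAut (ψ α))) * (diagAut (cc β) * fieldAut (ψ β)) := by
          rw [aut_mul_conj]
      _ = MulAut.conj (gg α) * MulAut.conj ((diagAut (cc α) * fieldAut (ψ α)) (gg β)) *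
            (diagAut (cc α) * (fieldAut (ψ α) * diagAut (cc β)) * fieldAut (ψ β)) := by group
      _ = MulAut.conj (gg α) * MulAut.conj ((diagAut (cc α) * fieldAut (ψ α)) (gg β)) *
            (diagAut (cc α) * (diagAut c' * fieldAut (ψ α)) * fieldAut (ψ β)) := by rw [hc']
      _ = _ := by group
  refine ⟨MonoidHom.mk' ψ hmul, ?_, ?_⟩
  · intro γ
    show ψ (fieldAut γ) = γ
    apply huniq _ γ 1 1
    rw [map_one, map_one, one_mul, one_mul]
  · intro α
    show ψ α = 1 ↔ _
    constructor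
    · intro h
      refine ⟨gg α, cc α, ?_⟩
      conv_lhs => rw [hψ α, h, map_one, mul_one]
    · rintro ⟨g, c, h⟩
      apply huniq _ 1 g c
      rw [h, map_one, mul_one]

end

end Cfsg.Agent.Helper11.PSL2Aut
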