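import Mathlib
import Cfsg.Prelude.Def_KGroupFacts
import Cfsg.Agent.Helper11.PSL2AutH

/-! Automorphisms of `PSL₂(F)`, part I: the structure of `Out(PSL₂(q))`. -/

set_option autoImplicit false
set_option linter.unusedSectionVars false
set_option linter.unusedVariables false

namespace Cfsg.Agent.Helper11.PSL2Aut

open Matrix

theorem out_structure_aux {O Γ D : Type*} [Group O] [Group Γ] [Group D] [IsCyclic Γ] [IsCyclic D]
    (f n : ℕ) (hΓ : Nat.card Γ = f)
    (φ₀ : O →* Γ) (hsurj : Function.Surjective φ₀) (d : D →* O) (hker : φ₀.ker = d.range)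
    (hcard : Nat.card d.range = n) :
    ∃ φ : O →* Multiplicative (ZMod f), Function.Surjective φ ∧ IsCyclic φ.ker ∧
      Nat.card φ.ker = n := by
  subst hΓ
  let e : Γ ≃* Multiplicative (ZMod (Nat.card Γ)) := (zmodCyclicMulEquiv inferInstance).symm
  have hk : ((e : Γ →* Multiplicative (ZMod (Nat.card Γ))).comp φ₀).ker = d.range := by
    rw [MonoidHom.ker_mulEquiv_comp, hker]
  refine ⟨(e : Γ →* Multiplicative (ZMod (Nat.card Γ))).comp φ₀, ?_, ?_, ?_⟩
  · exact e.surjective.comp hsurj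
  · rw [hk]
    exact isCyclic_of_surjective d.rangeRestrict d.rangeRestrict_surjective
  · rw [hk, hcard]

variable {F : Type*} [Field F]

theorem out_psl2 [Fintype F] {p f : ℕ} [Fact p.Prime] (hf : 1 ≤ f)
    (hF : Fintype.card F = p ^ f) (h4 : 4 ≤ p ^ f) :
    ∃ φ : Cfsg.Out (Matrix.ProjectiveSpecialLinearGroup (Fin 2) F) →* Multiplicative (ZMod f),
      Function.Surjective φ ∧ IsCyclic φ.ker ∧ Nat.card φ.ker = Nat.gcd 2 (p ^ f - 1) := by
  have hchar : CharP F p := charP_of_card_eq_prime_pow hF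
  let _ : Algebra (ZMod p) F := ZMod.algebra F p
  have hK : ∀ (σ : F ≃+* F) (k : ZMod p), σ (algebraMap (ZMod p) F k) = algebraMap (ZMod p) F k := by
    intro σ k
    exact RingHom.congr_fun
      (Subsingleton.elim ((σ : F →+* F).comp (algebraMap (ZMod p) F)) (algebraMap (ZMod p) F)) k
  have hcardU : Nat.card Fˣ = p ^ f - 1 := by
    rw [Nat.card_units, Nat.card_eq_fintype_card, hF]
  obtain ⟨a₀, ha₀⟩ : ∃ a₀ : Fˣ, a₀ ≠ 1 := by
    have : Nontrivial Fˣ := by
      rw [← Finite.one_lt_card_iff_nontrivial, hcardU]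
      omega
    exact exists_ne 1
  obtain ⟨ψ, hψ1, hψ2⟩ := exists_psi (K := ZMod p) hf hF hK a₀ ha₀
  have hle : Cfsg.Inn (Matrix.ProjectiveSpecialLinearGroup (Fin 2) F) ≤ ψ.ker := by
    rintro _ ⟨g, rfl⟩
    rw [MonoidHom.mem_ker, hψ2]
    exact ⟨g, 1, by rw [map_one, mul_one]⟩
  let φ₀ : Cfsg.Out (Matrix.ProjectiveSpecialLinearGroup (Fin 2) F) →* (F ≃ₐ[ZMod p] F) :=
    QuotientGroup.lift _ ψ hle
  have hφ₀ : ∀ α, φ₀ (QuotientGroup.mk α) = ψ α := fun α => rfl
  let dOut : Fˣ →* Cfsg.Out (Matrix.ProjectiveSpecialLinearGroup (Fin 2) F) :=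
    (QuotientGroup.mk' _).comp diagAut
  have hdOut : ∀ c, dOut c = QuotientGroup.mk (diagAut c) := fun c => rfl
  have hΓ : Nat.card (F ≃ₐ[ZMod p] F) = f := by
    rw [IsGalois.card_aut_eq_finrank]
    have h1 := Module.card_eq_pow_finrank (K := ZMod p) (V := F)
    rw [hF, ZMod.card] at h1
    exact (Nat.pow_right_injective (Fact.out : p.Prime).two_le h1).symm
  apply out_structure_aux f _ hΓ φ₀ _ dOut
  · -- kernel
    ext x
    obtain ⟨α, rfl⟩ := QuotientGroup.mk_surjective x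
    rw [MonoidHom.mem_ker, hφ₀, hψ2, MonoidHom.mem_range]
    constructor
    · rintro ⟨g, c, h⟩
      refine ⟨c, ?_⟩
      rw [hdOut, h, eq_comm, QuotientGroup.eq_iff_div_mem]
      refine ⟨g, ?_⟩
      rw [mul_div_cancel_right]
    · rintro ⟨c, hc⟩
      rw [hdOut, eq_comm, QuotientGroup.eq_iff_div_mem] at hc
      obtain ⟨g, hg⟩ := hc
      refine ⟨g, c, ?_⟩
      rw [hg, div_mul_cancel]
  · -- order of the kernel
    rw [← Subgroup.index_ker]
    have hkd : dOut.ker = (powMonoidHom 2 : Fˣ →* Fˣ).range := by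
      ext c
      rw [MonoidHom.mem_ker, hdOut, QuotientGroup.eq_one_iff, MonoidHom.mem_range]
      constructor
      · rintro ⟨g, hg⟩
        obtain ⟨e, he⟩ := sq_of_diagAut_inner c g hg.symm
        exact ⟨e, by rw [powMonoidHom_apply, he]⟩
      · rintro ⟨e, he⟩
        rw [powMonoidHom_apply] at he
        exact ⟨tL e, by rw [← he, diagAut_sq]⟩
    rw [hkd, IsCyclic.index_powMonoidHom_range, hcardU, Nat.gcd_comm]
  · -- surjectivity
    intro γ
    exact ⟨QuotientGroup.mk (fieldAut γ), by rw [hφ₀, hψ1]⟩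

end Cfsg.Agent.Helper11.PSL2Aut
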