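import Mathlib
import Cfsg.Agent.Helper1.PGroup
import Cfsg.Agent.Helper9.Burnside
import Cfsg.Agent.Helper21.FrattiniAut
import Cfsg.Agent.Helper11.PermSylow

set_option autoImplicit false

/-!
Rank bound for the Frattini quotient of a finite `p`-group and a normal `p`-complement criterion.
-/

namespace Cfsg.Agent.Helper11

open scoped commutatorElement

/-- In a group where all elements have order dividing `p`, and one of two subgroups is normal,
a subgroup generated by a finite set `S` has order at most `p ^ |S|` (commutative case). -/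
theorem card_closure_le_pow {T : Type*} [CommGroup T] [Finite T] (p : ℕ) (hp : 0 < p)
    (hexp : ∀ t : T, t ^ p = 1) (S : Finset T) :
    Nat.card ↥(Subgroup.closure (S : Set T)) ≤ p ^ S.card := by
  classical
  induction S using Finset.induction_on with
  | empty =>
    simp
  | insert a S ha ih =>
    rw [Finset.card_insert_of_notMem ha, Finset.coe_insert, Set.insert_eq, Subgroup.closure_union]
    have h1 : Nat.card ↥(Subgroup.closure ({a} : Set T)) ≤ p := by
      rw [← Subgroup.zpowers_eq_closure, Nat.card_zpowers]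
      exact Nat.le_of_dvd hp (orderOf_dvd_of_pow_eq_one (hexp a))
    have h2 : Nat.card ↥(Subgroup.closure ({a} : Set T) ⊔ Subgroup.closure (S : Set T)) ≤
        Nat.card ↥(Subgroup.closure ({a} : Set T)) * Nat.card ↥(Subgroup.closure (S : Set T)) := by
      have h3 := Subgroup.relIndex_sup_right (Subgroup.closure ({a} : Set T))
        (Subgroup.closure (S : Set T))
      have h4 := relIndex_mul_card (le_sup_right :
        Subgroup.closure (S : Set T) ≤ Subgroup.closure ({a} : Set T) ⊔ Subgroup.closure (S : Set T))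
      rw [h3] at h4
      rw [← h4]
      apply Nat.mul_le_mul_right
      unfold Subgroup.relIndex
      exact Nat.le_of_dvd Nat.card_pos (Subgroup.index_dvd_card _)
    calc Nat.card ↥(Subgroup.closure ({a} : Set T) ⊔ Subgroup.closure (S : Set T))
        ≤ Nat.card ↥(Subgroup.closure ({a} : Set T)) * Nat.card ↥(Subgroup.closure (S : Set T)) := h2
      _ ≤ p * p ^ S.card := Nat.mul_le_mul h1 ih
      _ = p ^ (S.card + 1) := by ring

/-- Version of `card_closure_le_pow` for a group with a commutativity hypothesis. -/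
theorem card_closure_le_pow' {T : Type*} [Group T] [Finite T] (p : ℕ) (hp : 0 < p)
    (hcomm : ∀ a b : T, a * b = b * a) (hexp : ∀ t : T, t ^ p = 1) (S : Finset T) :
    Nat.card ↥(Subgroup.closure (S : Set T)) ≤ p ^ S.card := by
  let inst : CommGroup T := { ‹Group T› with mul_comm := hcomm }
  exact @card_closure_le_pow T inst _ p hp hexp S

/-- The Frattini quotient of a finite `p`-group has order at most `p ^ rank`. -/
theorem card_frattini_quotient_le (P : Type*) [Group P] [Finite P] (p : ℕ) [Fact p.Prime]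
    (hP : IsPGroup p P) : Nat.card (P ⧸ frattini P) ≤ p ^ Group.rank P := by
  classical
  have hp : p.Prime := Fact.out
  obtain ⟨S, hS, hcl⟩ := Group.rank_spec P
  have hcomm : ∀ a b : P ⧸ frattini P, a * b = b * a := by
    intro a b
    induction a using QuotientGroup.induction_on with
    | H x =>
      induction b using QuotientGroup.induction_on with
      | H y =>
        rw [← QuotientGroup.mk_mul, ← QuotientGroup.mk_mul, QuotientGroup.eq]
        apply Cfsg.Agent.Helper1.IsPGroup.commutator_le_frattini hP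
        have h1 : (x * y)⁻¹ * (y * x) = ⁅y⁻¹, x⁻¹⁆ := by
          rw [commutatorElement_def]
          group
        rw [h1, commutator_def]
        exact Subgroup.commutator_mem_commutator (Subgroup.mem_top _) (Subgroup.mem_top _)
  have hexp : ∀ t : P ⧸ frattini P, t ^ p = 1 := by
    intro t
    induction t using QuotientGroup.induction_on with
    | H x =>
      rw [← QuotientGroup.mk_pow, QuotientGroup.eq_one_iff]
      exact Cfsg.Agent.Helper1.IsPGroup.pow_mem_frattini hP x
  have hgen : Subgroup.closure ((S.image (QuotientGroup.mk' (frattini P)) : Finset (P ⧸ frattini P)) :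
      Set (P ⧸ frattini P)) = ⊤ := by
    rw [Finset.coe_image, ← MonoidHom.map_closure, hcl,
      Subgroup.map_top_of_surjective _ (QuotientGroup.mk'_surjective _)]
  have h1 := card_closure_le_pow' p hp.pos hcomm hexp (S.image (QuotientGroup.mk' (frattini P)))
  rw [hgen, Subgroup.card_top] at h1
  calc Nat.card (P ⧸ frattini P) ≤ p ^ (S.image (QuotientGroup.mk' (frattini P))).card := h1
    _ ≤ p ^ S.card := Nat.pow_le_pow_right hp.pos Finset.card_image_le
    _ = p ^ Group.rank P := by rw [hS]

/-- A `p'`-automorphism of prime order `q` of a finite `p`-group `P` forces `q ∣ p ^ i - 1` for some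
`1 ≤ i ≤ rank P`. -/
theorem exists_dvd_pow_sub_one_of_aut (P : Type*) [Group P] [Finite P] (p : ℕ) [Fact p.Prime]
    (hP : IsPGroup p P) (q : ℕ) (hq : q.Prime) (hqp : q ≠ p) (α : MulAut P) (hα : orderOf α = q) :
    ∃ i : ℕ, 1 ≤ i ∧ i ≤ Group.rank P ∧ q ∣ p ^ i - 1 := by
  have hp : p.Prime := Fact.out
  have hord : orderOf (Cfsg.Agent.Helper21.FrattiniAut.frattiniQuotHom P α) = q := by
    have h1 : (Cfsg.Agent.Helper21.FrattiniAut.frattiniQuotHom P α) ^ q = 1 := by
      rw [← map_pow, ← hα, pow_orderOf_eq_one, map_one]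
    have h2 := orderOf_dvd_of_pow_eq_one h1
    rcases (Nat.dvd_prime hq).1 h2 with h3 | h3
    · exfalso
      rw [orderOf_eq_one_iff] at h3
      have hker : ∀ x : P, α x * x⁻¹ ∈ frattini P :=
        (Cfsg.Agent.Helper21.FrattiniAut.mem_ker_frattiniQuotHom_iff P α).1 h3
      obtain ⟨k, hk⟩ := Cfsg.Agent.Helper21.FrattiniAut.exists_pow_eq_one_of_mem_ker P hP α hker
      have h4 : q ∣ p ^ k := hα ▸ orderOf_dvd_of_pow_eq_one hk
      have h5 : q ∣ p := hq.dvd_of_dvd_pow h4
      exact hqp ((Nat.prime_dvd_prime_iff_eq hq hp).1 h5)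
    · exact h3
  obtain ⟨d, hd1, hd2, hd3⟩ := Cfsg.Agent.Helper9.prime_order_aut_card
    (Cfsg.Agent.Helper21.FrattiniAut.frattiniQuotHom P α) q hq hord
  have hT : IsPGroup p (P ⧸ frattini P) := hP.to_quotient _
  obtain ⟨n, hn⟩ := IsPGroup.iff_card.1 hT
  have hle := card_frattini_quotient_le P p hP
  rw [hn] at hd1 hd2 hd3 hle
  have hnr : n ≤ Group.rank P := (Nat.pow_le_pow_iff_right hp.one_lt).1 hle
  obtain ⟨c, hc, rfl⟩ := (Nat.dvd_prime_pow hp).1 hd1
  have hcn : c < n := (Nat.pow_lt_pow_iff_right hp.one_lt).1 hd2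
  refine ⟨n - c, by omega, by omega, ?_⟩
  have h6 : p ^ n - p ^ c = p ^ c * (p ^ (n - c) - 1) := by
    rw [Nat.mul_sub, mul_one, ← pow_add]
    congr 2
    omega
  rw [h6] at hd3
  have hcop : Nat.Coprime q (p ^ c) :=
    Nat.Coprime.pow_right c ((Nat.coprime_primes hq hp).2 hqp)
  exact hcop.dvd_of_dvd_mul_left hd3

/-- Normal `p`-complement criterion: an abelian Sylow `p`-subgroup `P` such that no prime divisor of
`|G|` divides `p ^ i - 1` for `1 ≤ i ≤ rank P`. -/
theorem hasNormalPComplement_of_rank {G : Type*} [Group G] [Finite G] (p : ℕ) [Fact p.Prime]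
    (P : Sylow p G) (hab : IsMulCommutative ↥(P : Subgroup G))
    (h : ∀ q : ℕ, q.Prime → q ∣ Nat.card G → ∀ i : ℕ, 1 ≤ i → i ≤ Group.rank ↥(P : Subgroup G) →
      ¬ q ∣ p ^ i - 1) : Cfsg.HasNormalPComplement p G := by
  by_contra hcon
  have hN : ¬ Subgroup.normalizer ((P : Subgroup G) : Set G) ≤
      Subgroup.centralizer ((P : Subgroup G) : Set G) := fun hN =>
    hcon (Cfsg.Agent.Helper9.hasNormalPComplement_of_normalizer_le_centralizer P hN)
  have hcomm : ∀ a ∈ (P : Subgroup G), ∀ b ∈ (P : Subgroup G), a * b = b * a := by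
    intro a ha b hb
    have := hab.is_comm.comm (⟨a, ha⟩ : ↥(P : Subgroup G)) ⟨b, hb⟩
    exact congrArg Subtype.val this
  obtain ⟨q, hq, hqp, hqG, α, hα⟩ :=
    Cfsg.Agent.Helper9.exists_prime_aut_of_not_le_centralizer P hcomm hN
  obtain ⟨i, hi1, hi2, hi3⟩ :=
    exists_dvd_pow_sub_one_of_aut ↥(P : Subgroup G) p P.isPGroup' q hq hqp α hα
  exact h q hq hqG i hi1 hi2 hi3

end Cfsg.Agent.Helper11
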