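import Mathlib
import Cfsg.Agent.Helper11.RankBound

set_option autoImplicit false

/-!
Groups with a cyclic subgroup of index at most two have rank at most two; automorphisms of such
2-groups have order a {2,3}-number.
-/

namespace Cfsg.Agent.Helper11

/-- A finite group with a cyclic subgroup of index at most two is generated by two elements. -/
theorem rank_le_two_of_cyclic_index_le_two {Q : Type*} [Group Q] [Finite Q] (D : Subgroup Q)
    (hcyc : IsCyclic ↥D) (hD : D.index ≤ 2) : Group.rank Q ≤ 2 := by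
  classical
  obtain ⟨⟨d, hdD⟩, hd⟩ := hcyc.exists_generator
  have hDz : D = Subgroup.zpowers d := by
    apply le_antisymm
    · intro y hy
      obtain ⟨k, hk⟩ := Subgroup.mem_zpowers_iff.1 (hd ⟨y, hy⟩)
      rw [Subgroup.mem_zpowers_iff]
      exact ⟨k, congrArg Subtype.val hk⟩
    · rw [Subgroup.zpowers_le]
      exact hdD
  by_cases htop : D = ⊤
  · have hcl : Subgroup.closure ((({d} : Finset Q) : Set Q)) = ⊤ := by
      rw [Finset.coe_singleton, ← Subgroup.zpowers_eq_closure, ← hDz, htop]
    have := Group.rank_le hcl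
    rw [Finset.card_singleton] at this
    omega
  · obtain ⟨y, hy⟩ : ∃ y : Q, y ∉ D := by
      by_contra hcon
      push Not at hcon
      exact htop ((Subgroup.eq_top_iff' D).2 hcon)
    have hcl : Subgroup.closure ((({d, y} : Finset Q) : Set Q)) = ⊤ := by
      set K := Subgroup.closure ((({d, y} : Finset Q) : Set Q)) with hK
      have hdK : d ∈ K := Subgroup.subset_closure (by simp)
      have hyK : y ∈ K := Subgroup.subset_closure (by simp)
      have hDK : D ≤ K := by
        rw [hDz, Subgroup.zpowers_le]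
        exact hdK
      have h1 : K.index ∣ D.index := Subgroup.index_dvd_of_le hDK
      have hD0 : D.index ≠ 0 := Subgroup.index_ne_zero_of_finite
      have hD1 : D.index ≠ 1 := fun h => htop (Subgroup.index_eq_one.1 h)
      have hD2 : D.index = 2 := by omega
      rw [hD2] at h1
      rcases (Nat.dvd_prime Nat.prime_two).1 h1 with h2 | h2
      · exact Subgroup.index_eq_one.1 h2
      · exfalso
        have h3 : Nat.card ↥D = Nat.card ↥K := by
          have e1 := D.card_mul_index
          have e2 := K.card_mul_index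
          rw [hD2] at e1
          rw [h2] at e2
          omega
        have h4 : D = K := Subgroup.eq_of_le_of_card_ge hDK (by rw [h3])
        exact hy (h4 ▸ hyK)
    have := Group.rank_le hcl
    have h2 : ({d, y} : Finset Q).card ≤ 2 := Finset.card_le_two
    omega

/-- If `C ≤ P` is cyclic of relative index at most two, every subgroup of `P` has rank at most 2. -/
theorem rank_le_two_of_le {G : Type*} [Group G] [Finite G] (P C Q : Subgroup G) (hC : IsCyclic ↥C)
    (hCP : C.relIndex P ≤ 2) (hQP : Q ≤ P) : Group.rank ↥Q ≤ 2 := by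
  apply rank_le_two_of_cyclic_index_le_two (C.subgroupOf Q)
  · let f : ↥(C.subgroupOf Q) →* ↥C :=
      (Q.subtype.comp (C.subgroupOf Q).subtype).codRestrict C (fun d => d.2)
    apply isCyclic_of_injective f
    intro d₁ d₂ h
    have : ((d₁ : ↥Q) : G) = ((d₂ : ↥Q) : G) := congrArg (fun c : ↥C => (c : G)) h
    exact Subtype.ext (Subtype.ext this)
  · have h0 : C.relIndex P ≠ 0 := by
      unfold Subgroup.relIndex
      exact Subgroup.index_ne_zero_of_finite
    exact (Subgroup.relIndex_le_of_le_right hQP h0).trans hCP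

/-- A `2`-group of rank at most 2 has no automorphism of prime order `r ∉ {2, 3}`. -/
theorem no_aut_of_rank_le_two (Q : Type*) [Group Q] [Finite Q] (hQ : IsPGroup 2 Q)
    (hrank : Group.rank Q ≤ 2) (α : MulAut Q) (m : ℕ) (hm : α ^ m = 1)
    (hm2 : Nat.Coprime m 2) (hm3 : Nat.Coprime m 3) : α = 1 := by
  have : Fact (Nat.Prime 2) := ⟨Nat.prime_two⟩
  by_contra hne
  have hord1 : orderOf α ≠ 1 := fun h => hne (orderOf_eq_one_iff.1 h)
  have hordm : orderOf α ∣ m := orderOf_dvd_of_pow_eq_one hm
  have hm0 : m ≠ 0 := by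
    rintro rfl
    simp at hm2
  have hord0 : orderOf α ≠ 0 := fun h => hm0 (Nat.eq_zero_of_zero_dvd (h ▸ hordm))
  set r := (orderOf α).minFac with hr
  have hrp : r.Prime := Nat.minFac_prime hord1
  have hrd : r ∣ orderOf α := Nat.minFac_dvd _
  have hrm : r ∣ m := hrd.trans hordm
  have hr2 : r ≠ 2 := by
    intro h2
    have : 2 ∣ Nat.gcd m 2 := Nat.dvd_gcd (h2 ▸ hrm) (dvd_refl 2)
    rw [hm2] at this
    omega
  have hr3 : r ≠ 3 := by
    intro h3
    have : 3 ∣ Nat.gcd m 3 := Nat.dvd_gcd (h3 ▸ hrm) (dvd_refl 3)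
    rw [hm3] at this
    omega
  have hβ : orderOf (α ^ (orderOf α / r)) = r := orderOf_pow_orderOf_div hord0 hrd
  obtain ⟨i, hi1, hi2, hi3⟩ := exists_dvd_pow_sub_one_of_aut Q 2 hQ r hrp hr2 _ hβ
  have hi : i = 1 ∨ i = 2 := by omega
  rcases hi with rfl | rfl
  · have : r ∣ 1 := hi3
    exact hrp.one_lt.ne' (Nat.dvd_one.1 this)
  · have h3 : r ∣ 3 := hi3
    exact hr3 ((Nat.prime_dvd_prime_iff_eq hrp Nat.prime_three).1 h3)

end Cfsg.Agent.Helper11
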