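import Mathlib
import Cfsg.Agent.Helper11.GLNrB

/-!
# The monomial embedding of `Fˣ ≀ Perm ι` in `GL ι F`, and the cyclic group of rotations of `Fin p`
-/

set_option autoImplicit false
set_option linter.unusedSectionVars false
set_option linter.style.haveILetI false

namespace Cfsg.Agent.Helper11.RedSyl

open Matrix Cfsg.Agent.Helper11.SpNorm Cfsg.Agent.Helper11.SpDer Cfsg.Agent.Helper11.GLNr

section Mono

variable {F : Type*} [Field F] {ι : Type*} [Fintype ι] [DecidableEq ι]

/-- the monomial matrix of an element of the wreath product -/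
def mono (w : Wr Fˣ ι) : Matrix ι ι F :=
  fun a b => if a = w.right b then ((w.left a : Fˣ) : F) else 0

theorem mono_apply (w : Wr Fˣ ι) (a b : ι) :
    mono w a b = if a = w.right b then ((w.left a : Fˣ) : F) else 0 := rfl

theorem mono_one : mono (1 : Wr Fˣ ι) = (1 : Matrix ι ι F) := by
  ext a b
  rw [mono_apply, Matrix.one_apply]
  show (if a = b then (((1 : ι → Fˣ) a : Fˣ) : F) else 0) = _
  simp

theorem mono_mul (w w' : Wr Fˣ ι) : mono (w * w') = mono w * mono w' := by
  ext a b
  rw [Matrix.mul_apply, mono_apply]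
  rw [Finset.sum_eq_single (w'.right b)]
  · rw [mono_apply, mono_apply, if_pos rfl]
    rw [SemidirectProduct.mul_right, SemidirectProduct.mul_left, Equiv.Perm.mul_apply]
    by_cases h : a = w.right (w'.right b)
    · rw [if_pos h, if_pos h, Pi.mul_apply, phi_apply', Units.val_mul]
      congr 3
      rw [h, Equiv.symm_apply_apply]
    · rw [if_neg h, if_neg h, zero_mul]
  · intro j _ hj
    rw [mono_apply w' j b, if_neg hj, mul_zero]
  · intro h; exact absurd (Finset.mem_univ _) h

/-- `mono` as a monoid homomorphism to matrices -/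
def monoM : Wr Fˣ ι →* Matrix ι ι F where
  toFun := mono
  map_one' := mono_one
  map_mul' := mono_mul

/-- the monomial embedding -/
def Phi : Wr Fˣ ι →* GL ι F := (monoM (F := F) (ι := ι)).toHomUnits

theorem Phi_apply (w : Wr Fˣ ι) (a b : ι) :
    ((Phi w : GL ι F) : Matrix ι ι F) a b = if a = w.right b then ((w.left a : Fˣ) : F) else 0 :=
  rfl

theorem Phi_injective : Function.Injective (Phi (F := F) (ι := ι)) := by
  intro w w' h
  have hent : ∀ a b, ((Phi w : GL ι F) : Matrix ι ι F) a b =
      ((Phi w' : GL ι F) : Matrix ι ι F) a b := by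
    intro a b; rw [h]
  have hr : w.right = w'.right := by
    apply Equiv.ext
    intro b
    have := hent (w.right b) b
    rw [Phi_apply, Phi_apply, if_pos rfl] at this
    by_contra hne
    rw [if_neg hne] at this
    exact Units.ne_zero _ this
  ext1
  · funext a
    have := hent a (w.right.symm a)
    rw [Phi_apply, Phi_apply, ← hr, Equiv.apply_symm_apply, if_pos rfl, if_pos rfl] at this
    exact Units.ext this
  · exact hr

end Mono

section Cyc

variable (p : ℕ) [NeZero p]

/-- the rotations of `Fin p` -/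
def Cyc : Subgroup (Equiv.Perm (Fin p)) where
  carrier := {π | ∃ κ : Fin p, π = Equiv.addRight κ}
  one_mem' := ⟨0, by apply Equiv.ext; intro a; simp⟩
  mul_mem' := by
    rintro _ _ ⟨κ, rfl⟩ ⟨κ', rfl⟩
    refine ⟨κ' + κ, ?_⟩
    apply Equiv.ext
    intro a
    simp [add_assoc]
  inv_mem' := by
    rintro _ ⟨κ, rfl⟩
    refine ⟨-κ, ?_⟩
    apply Equiv.ext
    intro a
    simp

variable {p}

theorem mem_Cyc {π : Equiv.Perm (Fin p)} : π ∈ Cyc p ↔ ∃ κ : Fin p, π = Equiv.addRight κ := Iff.rfl

theorem card_Cyc : Nat.card (Cyc p) = p := by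
  let e : Fin p ≃ Cyc p :=
    Equiv.ofBijective (fun κ => ⟨Equiv.addRight κ, κ, rfl⟩) ⟨by
      intro κ κ' h
      have h0 : (Equiv.addRight κ : Equiv.Perm (Fin p)) = Equiv.addRight κ' :=
        congrArg Subtype.val h
      have h1 : (Equiv.addRight κ : Equiv.Perm (Fin p)) 0 =
          (Equiv.addRight κ' : Equiv.Perm (Fin p)) 0 := by
        rw [h0]
      simpa using h1, by
      rintro ⟨_, κ, rfl⟩
      exact ⟨κ, rfl⟩⟩
  rw [← Nat.card_congr e, Nat.card_eq_fintype_card, Fintype.card_fin]

theorem Cyc_fixed_point_free {π : Equiv.Perm (Fin p)} (hπ : π ∈ Cyc p) (h1 : π ≠ 1) (b : Fin p) :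
    π b ≠ b := by
  obtain ⟨κ, rfl⟩ := hπ
  intro h
  apply h1
  have hκ : κ = 0 := by
    have : b + κ = b := h
    exact add_left_cancel (a := b) (by rw [this, add_zero])
  subst hκ
  apply Equiv.ext; intro a; simp

theorem Cyc_invariant_const [Fact p.Prime] {X : Type*} {π : Equiv.Perm (Fin p)} (hπ : π ∈ Cyc p)
    (h1 : π ≠ 1) (h : Fin p → X) (hinv : ∀ a, h (π a) = h a) (a a' : Fin p) : h a = h a' := by
  obtain ⟨κ, rfl⟩ := hπ
  have hκ : κ ≠ 0 := by
    rintro rfl
    apply h1
    apply Equiv.ext; intro a; simp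
  have hcard : Nat.card (Fin p) = p := by rw [Nat.card_eq_fintype_card, Fintype.card_fin]
  have hstep : ∀ n : ℕ, ∀ a, h (a + n • κ) = h a := by
    intro n
    induction n with
    | zero => intro a; simp
    | succ n ih =>
      intro a
      rw [succ_nsmul, ← add_assoc]
      have := hinv (a + n • κ)
      rw [Equiv.coe_addRight] at this
      rw [this, ih]
  obtain ⟨n, hn⟩ := mem_multiples_of_prime_card hcard hκ (g' := a' - a)
  have hn' : n • κ = a' - a := hn
  have := hstep n a
  rw [hn', add_sub_cancel] at this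
  exact this.symm

theorem Cyc_pow_ne_one [Fact p.Prime] {π : Equiv.Perm (Fin p)} (hπ : π ∈ Cyc p) (h1 : π ≠ 1)
    {i : ℕ} (hi0 : 0 < i) (hip : i < p) : π ^ i ≠ 1 := by
  have hp : π ^ p = 1 := by
    have := pow_card_eq_one' (G := Cyc p) (x := ⟨π, hπ⟩)
    rw [card_Cyc] at this
    exact congrArg Subtype.val this
  have hord : orderOf π = p := orderOf_eq_prime hp h1
  intro h
  have := orderOf_dvd_of_pow_eq_one h
  rw [hord] at this
  exact absurd (Nat.le_of_dvd hi0 this) (by omega)

end Cyc

end Cfsg.Agent.Helper11.RedSyl
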