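import Mathlib
import Cfsg.Agent.Helper11.RedSylA

/-!
# Redundant Sylow subgroups: reduction, and the normaliser of the monomial `p`-group `C_p ≀ C_p`
-/

set_option autoImplicit false
set_option linter.unusedSectionVars false
set_option linter.style.haveILetI false

namespace Cfsg.Agent.Helper11.RedSyl

open Matrix Cfsg.Agent.Helper11.SpNorm Cfsg.Agent.Helper11.SpDer Cfsg.Agent.Helper11.GLNr

/-- Sylow covering reduction -/
theorem redundant_of_forall {G : Type*} [Group G] [Finite G] {p : ℕ} [Fact p.Prime] (Q : Sylow p G)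
    (h : ∀ x ∈ (Q : Subgroup G), ∃ g : G, g * x * g⁻¹ ∈ (Q : Subgroup G) ∧
      g ∉ Subgroup.normalizer ((Q : Subgroup G) : Set G)) :
    ∀ x : G, (∃ k : ℕ, orderOf x = p ^ k) → ∃ P : Sylow p G, P ≠ Q ∧ x ∈ P := by
  rintro x ⟨k, hk⟩
  have hpg : IsPGroup p (Subgroup.zpowers x) :=
    IsPGroup.of_card (n := k) (by rw [Nat.card_zpowers, hk])
  obtain ⟨P, hP⟩ := hpg.exists_le_sylow
  have hxP : x ∈ P := hP (Subgroup.mem_zpowers x)
  by_cases hPQ : P = Q
  · subst hPQ
    obtain ⟨g, hg1, hg2⟩ := h x hxP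
    refine ⟨g⁻¹ • P, ?_, ?_⟩
    · intro heq
      rw [Sylow.smul_eq_iff_mem_normalizer] at heq
      exact hg2 ((Subgroup.inv_mem_iff _).mp heq)
    · show x ∈ ((g⁻¹ • P : Sylow p G) : Subgroup G)
      rw [Sylow.smul_def, Sylow.pointwise_smul_def, Subgroup.mem_pointwise_smul_iff_inv_smul_mem]
      have : (MulAut.conj g⁻¹)⁻¹ • x = g * x * g⁻¹ := by
        rw [← map_inv, inv_inv, MulAut.smul_def, MulAut.conj_apply]
      rw [this]
      exact hg1
  · exact ⟨P, hPQ, hxP⟩

variable {F : Type*} [Field F] {p : ℕ} [Fact p.Prime]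

/-- the monomial `p`-group -/
def QW (ζ : Fˣ) : Subgroup (Wr Fˣ (Fin p)) := wrS (Subgroup.zpowers ζ) (Cyc p)

/-- its base group -/
def DW (ζ : Fˣ) : Subgroup (Wr Fˣ (Fin p)) := wrS (Subgroup.zpowers ζ) ⊥

theorem mem_QW {ζ : Fˣ} {w : Wr Fˣ (Fin p)} :
    w ∈ QW ζ ↔ (∀ i, w.left i ∈ Subgroup.zpowers ζ) ∧ w.right ∈ Cyc p := Iff.rfl

theorem mem_DW {ζ : Fˣ} {w : Wr Fˣ (Fin p)} :
    w ∈ DW ζ ↔ (∀ i, w.left i ∈ Subgroup.zpowers ζ) ∧ w.right = 1 := by
  unfold DW
  rw [mem_wrS, Subgroup.mem_bot]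

theorem DW_le_QW (ζ : Fˣ) : DW (p := p) ζ ≤ QW ζ := by
  intro x hx
  rw [mem_DW] at hx
  exact ⟨hx.1, by rw [hx.2]; exact (Cyc p).one_mem⟩

theorem DW_comm {ζ : Fˣ} {u u' : Wr Fˣ (Fin p)} (hu : u ∈ DW ζ) (hu' : u' ∈ DW ζ) :
    u * u' = u' * u := by
  rw [mem_DW] at hu hu'
  ext1
  · funext a
    rw [SemidirectProduct.mul_left, SemidirectProduct.mul_left, Pi.mul_apply, Pi.mul_apply,
      phi_apply', phi_apply', hu.2, hu'.2]
    exact mul_comm _ _
  · rw [SemidirectProduct.mul_right, SemidirectProduct.mul_right, hu.2, hu'.2]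

theorem left_const_of_commute {w v : Wr Fˣ (Fin p)} (hw : w.right ∈ Cyc p) (hw1 : w.right ≠ 1)
    (hv : v.right = 1) (hc : v * w = w * v) (a a' : Fin p) : v.left a = v.left a' := by
  have key : ∀ a, v.left a = v.left (w.right.symm a) := by
    intro a
    have := congrFun (congrArg SemidirectProduct.left hc) a
    rw [SemidirectProduct.mul_left, SemidirectProduct.mul_left, Pi.mul_apply, Pi.mul_apply,
      phi_apply', phi_apply', hv] at this
    have h1 : (1 : Equiv.Perm (Fin p)).symm a = a := rfl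
    rw [h1, mul_comm] at this
    exact mul_left_cancel this
  apply Cyc_invariant_const hw hw1 v.left
  intro a
  rw [key (w.right a), Equiv.symm_apply_apply]

theorem card_zpowers_zeta {ζ : Fˣ} (hζ : orderOf ζ = p) : Nat.card (Subgroup.zpowers ζ) = p := by
  rw [Nat.card_zpowers, hζ]

theorem card_QW {ζ : Fˣ} (hζ : orderOf ζ = p) : Nat.card (QW (p := p) ζ) = p ^ (p + 1) := by
  unfold QW
  rw [card_wrS, card_zpowers_zeta hζ, card_Cyc, Fintype.card_fin, pow_succ]

theorem card_DW {ζ : Fˣ} (hζ : orderOf ζ = p) : Nat.card (DW (p := p) ζ) = p ^ p := by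
  unfold DW
  rw [card_wrS, card_zpowers_zeta hζ, Subgroup.card_bot, Fintype.card_fin, mul_one]

theorem Cyc_pow_p {π : Equiv.Perm (Fin p)} (hπ : π ∈ Cyc p) : π ^ p = 1 := by
  have := pow_card_eq_one' (G := Cyc p) (x := ⟨π, hπ⟩)
  rw [card_Cyc] at this
  exact congrArg Subtype.val this

theorem pow_p_eq {ζ : Fˣ} {w : Wr Fˣ (Fin p)} (hw : w ∈ QW ζ) (hw1 : w.right ≠ 1) :
    ∃ c ∈ Subgroup.zpowers ζ, w ^ p = SemidirectProduct.inl (fun _ => c) := by
  have hr : (w ^ p).right = 1 := by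
    have : (w ^ p).right = w.right ^ p := map_pow SemidirectProduct.rightHom w p
    rw [this, Cyc_pow_p hw.2]
  have hmem : w ^ p ∈ QW ζ := (QW ζ).pow_mem hw p
  have hc : w ^ p * w = w * w ^ p := ((Commute.refl w).pow_left p).eq
  refine ⟨(w ^ p).left 0, hmem.1 0, ?_⟩
  ext1
  · funext a
    exact left_const_of_commute hw.2 hw1 hr hc a 0
  · exact hr

variable [Fintype F]

theorem mem_normalizer_D {ζ : Fˣ} (hζ : orderOf ζ = p) (hp : p ≠ 2) {g : GL (Fin p) F}
    (hg : g ∈ Subgroup.normalizer (((QW ζ).map (Phi (F := F) (ι := Fin p)) : Subgroup _) : Set _)) :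
    g ∈ Subgroup.normalizer (((DW ζ).map (Phi (F := F) (ι := Fin p)) : Subgroup _) : Set _) := by
  classical
  have hp3 : 3 ≤ p := by
    have := (Fact.out : p.Prime).two_le
    omega
  set Q : Subgroup (GL (Fin p) F) := (QW ζ).map Phi with hQ
  set D : Subgroup (GL (Fin p) F) := (DW ζ).map Phi with hD
  have hDQ : D ≤ Q := Subgroup.map_mono (DW_le_QW ζ)
  have hinj : Function.Injective (Phi (F := F) (ι := Fin p)) := Phi_injective
  rw [Subgroup.mem_normalizer_iff] at hg
  have hcardD : Nat.card D = p ^ p := by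
    rw [hD, Subgroup.card_map_of_injective hinj, card_DW hζ]
  -- key claim
  have claim : ∀ d ∈ D, g * d * g⁻¹ ∈ D := by
    by_contra hcon
    push Not at hcon
    obtain ⟨d0, hd0, hy'⟩ := hcon
    have hy'Q : g * d0 * g⁻¹ ∈ Q := (hg d0).mp (hDQ hd0)
    obtain ⟨w, hw, hwy⟩ := hy'Q
    have hw1 : w.right ≠ 1 := by
      intro h1
      apply hy'
      rw [← hwy]
      exact ⟨w, mem_DW.mpr ⟨hw.1, h1⟩, rfl⟩
    set D' : Subgroup (GL (Fin p) F) := D.map (MulAut.conj g).toMonoidHom with hD'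
    set H : Subgroup (Wr Fˣ (Fin p)) := D'.comap Phi with hH
    have hD'Q : D' ≤ Q := by
      rintro _ ⟨d, hd, rfl⟩
      exact (hg d).mp (hDQ hd)
    have h1 : ∀ v ∈ H, v ∈ QW ζ := by
      intro v hv
      obtain ⟨v', hv', hvv⟩ := hD'Q hv
      rw [← hinj hvv]
      exact hv'
    have h2 : ∀ v ∈ H, ∀ v' ∈ H, v * v' = v' * v := by
      intro v hv v' hv'
      obtain ⟨d, ⟨u, hu, rfl⟩, hdv⟩ := hv
      obtain ⟨d', ⟨u', hu', rfl⟩, hdv'⟩ := hv'
      apply hinj
      rw [map_mul, map_mul, ← hdv, ← hdv']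
      show g * Phi u * g⁻¹ * (g * Phi u' * g⁻¹) = g * Phi u' * g⁻¹ * (g * Phi u * g⁻¹)
      have : Phi (F := F) u * Phi u' = Phi u' * Phi u := by
        rw [← map_mul, ← map_mul, DW_comm hu hu']
      calc g * Phi u * g⁻¹ * (g * Phi u' * g⁻¹) = g * (Phi u * Phi u') * g⁻¹ := by group
        _ = g * (Phi u' * Phi u) * g⁻¹ := by rw [this]
        _ = g * Phi u' * g⁻¹ * (g * Phi u * g⁻¹) := by group
    have h3 : w ∈ H := by
      show Phi w ∈ D'
      rw [hwy]
      exact ⟨d0, hd0, rfl⟩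
    have h4 : Nat.card H = p ^ p := by
      have e1 : H.map Phi = D' := by
        rw [hH, Subgroup.map_comap_eq, inf_eq_right]
        intro y hy
        obtain ⟨v, _, rfl⟩ := hD'Q hy
        exact ⟨v, rfl⟩
      rw [← Subgroup.card_map_of_injective hinj, e1, hD',
        Subgroup.card_map_of_injective (MulAut.conj g).injective, hcardD]
    -- the upper bound
    let φ : H →* Equiv.Perm (Fin p) := SemidirectProduct.rightHom.comp H.subtype
    have h5 : Nat.card H = Nat.card φ.ker * Nat.card φ.range := by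
      rw [← Subgroup.index_ker, Subgroup.card_mul_index]
    have h6 : Nat.card φ.range ≤ p := by
      have hle : φ.range ≤ Cyc p := by
        rintro _ ⟨v, rfl⟩
        exact (h1 v.1 v.2).2
      calc Nat.card φ.range ≤ Nat.card (Cyc p) := Subgroup.card_le_of_le hle
        _ = p := card_Cyc
    have h7 : Nat.card φ.ker ≤ p := by
      have hker : ∀ v : φ.ker, (v.1.1).right = 1 := fun v => v.2
      let f : φ.ker → Subgroup.zpowers ζ := fun v => ⟨(v.1.1).left 0, (h1 v.1.1 v.1.2).1 0⟩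
      have hf : Function.Injective f := by
        intro v v' hvv
        have h0 : (v.1.1).left 0 = (v'.1.1).left 0 := congrArg Subtype.val hvv
        apply Subtype.ext
        apply Subtype.ext
        ext1
        · funext a
          rw [left_const_of_commute hw.2 hw1 (hker v) (h2 _ v.1.2 _ h3) a 0,
            left_const_of_commute hw.2 hw1 (hker v') (h2 _ v'.1.2 _ h3) a 0, h0]
        · rw [hker v, hker v']
      calc Nat.card φ.ker ≤ Nat.card (Subgroup.zpowers ζ) := Nat.card_le_card_of_injective f hf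
        _ = p := card_zpowers_zeta hζ
    have h8 : p ^ p ≤ p * p := by
      rw [← h4, h5]
      exact Nat.mul_le_mul h7 h6
    have h9 : p * p < p ^ p := by
      calc p * p = p ^ 2 := (pow_two p).symm
        _ < p ^ p := Nat.pow_lt_pow_right (by omega) (by omega)
    omega
  have hD'eq : D.map (MulAut.conj g).toMonoidHom = D := by
    apply Subgroup.eq_of_le_of_card_ge
    · rintro _ ⟨d, hd, rfl⟩
      exact claim d hd
    · exact (Subgroup.card_map_of_injective (MulAut.conj g).injective).ge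
  rw [Subgroup.mem_normalizer_iff]
  intro h
  constructor
  · exact claim h
  · intro hh
    rw [← hD'eq] at hh
    obtain ⟨d, hd, hdh⟩ := hh
    have : d = h := by
      have h' : g * d * g⁻¹ = g * h * g⁻¹ := hdh
      have := mul_right_cancel h'
      exact mul_left_cancel this
    rw [← this]
    exact hd

end Cfsg.Agent.Helper11.RedSyl
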