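import Mathlib
import Cfsg.Agent.Helper11.RedSylB

/-!
# Redundant Sylow subgroups of `GL_p(q)`: the matrix arguments
-/

set_option autoImplicit false
set_option linter.unusedSectionVars false
set_option linter.style.haveILetI false

namespace Cfsg.Agent.Helper11.RedSyl

open Matrix Cfsg.Agent.Helper11.SpNorm Cfsg.Agent.Helper11.SpDer Cfsg.Agent.Helper11.GLNr

variable {F : Type*} [Field F] {p : ℕ} [Fact p.Prime]

/-- every column has at most one non-zero entry -/
def ColMono {ι : Type*} (A : Matrix ι ι F) : Prop := ∀ b a a', A a b ≠ 0 → A a' b ≠ 0 → a = a'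

theorem Phi_of_right_one {u : Wr Fˣ (Fin p)} (h : u.right = 1) :
    ((Phi u : GL (Fin p) F) : Matrix (Fin p) (Fin p) F) =
      Matrix.diagonal (fun a => ((u.left a : Fˣ) : F)) := by
  ext a b
  rw [Phi_apply, h, Matrix.diagonal_apply]
  rfl

theorem pow_p_of_mem_zpowers {ζ : Fˣ} (hζ : orderOf ζ = p) {z : Fˣ} (hz : z ∈ Subgroup.zpowers ζ) :
    z ^ p = 1 := by
  obtain ⟨k, rfl⟩ := Subgroup.mem_zpowers_iff.mp hz
  rw [← zpow_natCast, ← _root_.zpow_mul, mul_comm, _root_.zpow_mul, zpow_natCast, ← hζ,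
    pow_orderOf_eq_one, _root_.one_zpow]

variable [Fintype F]

theorem colMono_of_mem_normalizer_D {ζ : Fˣ} (hζ : orderOf ζ = p) {g : GL (Fin p) F}
    (hg : g ∈ Subgroup.normalizer (((DW ζ).map (Phi (F := F) (ι := Fin p)) : Subgroup _) : Set _)) :
    ColMono (g : Matrix (Fin p) (Fin p) F) := by
  classical
  let u0 : Wr Fˣ (Fin p) := SemidirectProduct.inl (fun j : Fin p => ζ ^ (j : ℕ))
  have hu0 : u0 ∈ DW (p := p) ζ := by
    rw [mem_DW]
    exact ⟨fun i => Subgroup.pow_mem _ (Subgroup.mem_zpowers ζ) _, rfl⟩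
  have hginv : g⁻¹ ∈ Subgroup.normalizer (((DW ζ).map (Phi (F := F) (ι := Fin p)) :
      Subgroup _) : Set _) := Subgroup.inv_mem _ hg
  rw [Subgroup.mem_normalizer_iff] at hginv
  obtain ⟨u, hu', huy⟩ := (hginv (Phi u0)).mp ⟨u0, hu0, rfl⟩
  have hu : (∀ i, u.left i ∈ Subgroup.zpowers ζ) ∧ u.right = 1 := mem_DW.mp hu'
  have heq : Phi u0 * g = g * Phi u := by
    rw [huy]; group
  have hmat : ((Phi u0 : GL (Fin p) F) : Matrix (Fin p) (Fin p) F) * (g : Matrix (Fin p) (Fin p) F) =
      (g : Matrix (Fin p) (Fin p) F) * ((Phi u : GL (Fin p) F) : Matrix (Fin p) (Fin p) F) := by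
    rw [← Units.val_mul, ← Units.val_mul, heq]
  rw [Phi_of_right_one (show u0.right = 1 from rfl), Phi_of_right_one hu.2] at hmat
  have hent : ∀ a b : Fin p, ((ζ ^ (a : ℕ) : Fˣ) : F) * (g : Matrix (Fin p) (Fin p) F) a b =
      (g : Matrix (Fin p) (Fin p) F) a b * ((u.left b : Fˣ) : F) := by
    intro a b
    have := congrFun (congrFun hmat a) b
    rw [Matrix.diagonal_mul, Matrix.mul_diagonal] at this
    exact this
  intro b a a' ha ha'
  have h1 : ((ζ ^ (a : ℕ) : Fˣ) : F) = ((u.left b : Fˣ) : F) := by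
    have := hent a b
    rw [mul_comm] at this
    exact mul_left_cancel₀ ha this
  have h2 : ((ζ ^ (a' : ℕ) : Fˣ) : F) = ((u.left b : Fˣ) : F) := by
    have := hent a' b
    rw [mul_comm] at this
    exact mul_left_cancel₀ ha' this
  have h3 : ζ ^ (a : ℕ) = ζ ^ (a' : ℕ) := Units.ext (h1.trans h2.symm)
  have h4 : (a : ℕ) = (a' : ℕ) := by
    apply pow_injOn_Iio_orderOf (x := ζ)
    · rw [hζ]; exact a.2
    · rw [hζ]; exact a'.2
    · exact h3
  exact Fin.ext h4

/-- what we want for each element of the Sylow subgroup -/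
def Good (ζ : Fˣ) (x : GL (Fin p) F) : Prop :=
  ∃ g : GL (Fin p) F, g * x * g⁻¹ ∈ (QW ζ).map (Phi (F := F) (ι := Fin p)) ∧
    g ∉ Subgroup.normalizer (((QW ζ).map (Phi (F := F) (ι := Fin p)) : Subgroup _) : Set _)

theorem good_of_commute {ζ : Fˣ} (hζ : orderOf ζ = p) (hp : p ≠ 2) {x : GL (Fin p) F}
    (hx : x ∈ (QW ζ).map (Phi (F := F) (ι := Fin p))) (g : GL (Fin p) F) (hc : g * x = x * g)
    (hg : ¬ ColMono (g : Matrix (Fin p) (Fin p) F)) : Good ζ x := by
  refine ⟨g, ?_, fun h => hg (colMono_of_mem_normalizer_D hζ (mem_normalizer_D hζ hp h))⟩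
  rw [hc, mul_inv_cancel_right]
  exact hx

/-- case (a): a diagonal element with a repeated entry -/
theorem good_a {ζ : Fˣ} (hζ : orderOf ζ = p) (hp : p ≠ 2) {u : Wr Fˣ (Fin p)} (hu : u ∈ DW ζ)
    {i j : Fin p} (hij : i ≠ j) (h : u.left i = u.left j) : Good ζ (Phi (F := F) u) := by
  classical
  let g : GL (Fin p) F := ⟨Matrix.transvection i j 1, Matrix.transvection i j (-1),
    by rw [Matrix.transvection_mul_transvection_same i j hij, add_neg_cancel,
      Matrix.transvection_zero],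
    by rw [Matrix.transvection_mul_transvection_same i j hij, neg_add_cancel,
      Matrix.transvection_zero]⟩
  have hgval : (g : Matrix (Fin p) (Fin p) F) = Matrix.transvection i j 1 := rfl
  have hent : ∀ a b, (Matrix.transvection i j (1 : F)) a b =
      (if a = b then 1 else 0) + (if i = a ∧ j = b then 1 else 0) := by
    intro a b
    rw [Matrix.transvection, Matrix.add_apply, Matrix.one_apply, Matrix.single_apply]
  apply good_of_commute hζ hp ⟨u, DW_le_QW ζ hu, rfl⟩ g
  · apply Units.ext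
    rw [Units.val_mul, Units.val_mul, hgval, Phi_of_right_one (mem_DW.mp hu).2]
    ext a b
    rw [Matrix.mul_diagonal, Matrix.diagonal_mul, hent]
    by_cases hab : a = b
    · subst hab
      ring
    · rw [if_neg hab, zero_add]
      by_cases h2 : i = a ∧ j = b
      · rw [if_pos h2, one_mul, mul_one, ← h2.1, ← h2.2, h]
      · rw [if_neg h2, zero_mul, mul_zero]
  · intro hcm
    have h1 : (g : Matrix (Fin p) (Fin p) F) j j ≠ 0 := by
      rw [hgval, hent, if_pos rfl, if_neg (fun h => hij h.1), add_zero]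
      exact one_ne_zero
    have h2 : (g : Matrix (Fin p) (Fin p) F) i j ≠ 0 := by
      rw [hgval, hent, if_neg hij, if_pos ⟨rfl, rfl⟩, zero_add]
      exact one_ne_zero
    exact hij (hcm j i j h2 h1)

end Cfsg.Agent.Helper11.RedSyl
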