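import Mathlib
import Cfsg.Agent.Helper11.RedSylC

/-!
# Redundant Sylow subgroups of `GL_p(q)`: the remaining cases
-/

set_option autoImplicit false
set_option linter.unusedSectionVars false
set_option linter.style.haveILetI false

namespace Cfsg.Agent.Helper11.RedSyl

open Matrix Cfsg.Agent.Helper11.SpNorm Cfsg.Agent.Helper11.SpDer Cfsg.Agent.Helper11.GLNr

variable {F : Type*} [Field F] [Fintype F] {p : ℕ} [Fact p.Prime]

theorem one_ne_zero_fin (hp : p ≠ 2) : (1 : Fin p) ≠ 0 := by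
  have hp2 := (Fact.out : p.Prime).two_le
  intro h
  have := congrArg Fin.val h
  rw [Fin.val_one', Fin.val_zero, Nat.mod_eq_of_lt (by omega)] at this
  exact one_ne_zero this

/-- case (b): a regular diagonal element -/
theorem good_b {ζ : Fˣ} (hζ : orderOf ζ = p) (hp : p ≠ 2) {u : Wr Fˣ (Fin p)} (hu : u ∈ DW ζ)
    (hinj : Function.Injective u.left) : Good ζ (Phi (F := F) u) := by
  classical
  have hp2 := (Fact.out : p.Prime).two_le
  have hu' := mem_DW.mp hu
  set v : Fin p → F := fun b => ((u.left b : Fˣ) : F) with hv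
  have hvinj : Function.Injective v := fun a b h => hinj (Units.ext h)
  have hvp : ∀ b, v b ^ p = 1 := by
    intro b
    rw [hv]
    show ((u.left b : Fˣ) : F) ^ p = 1
    rw [← Units.val_pow_eq_pow_val, pow_p_of_mem_zpowers hζ (hu'.1 b), Units.val_one]
  let V : Matrix (Fin p) (Fin p) F := (Matrix.vandermonde v)ᵀ
  have hVent : ∀ a b, V a b = v b ^ (a : ℕ) := fun a b => rfl
  have hdet : V.det ≠ 0 := by
    rw [Matrix.det_transpose]
    exact Matrix.det_vandermonde_ne_zero_iff.mpr hvinj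
  let g : GL (Fin p) F := Matrix.GeneralLinearGroup.mkOfDetNeZero V hdet
  have hgval : (g : Matrix (Fin p) (Fin p) F) = V := rfl
  let π : Equiv.Perm (Fin p) := (Equiv.addRight (1 : Fin p))⁻¹
  have hπ : π ∈ Cyc p := (Cyc p).inv_mem ⟨1, rfl⟩
  have hπapp : ∀ a j : Fin p, a = π j ↔ j = a + 1 := by
    intro a j
    show a = (Equiv.addRight (1 : Fin p)).symm j ↔ j = a + 1
    rw [eq_comm, Equiv.symm_apply_eq]
    rfl
  have hπ1 : π ≠ 1 := by
    intro h
    have h1 := (hπapp 0 0).mp (by rw [h]; rfl)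
    rw [zero_add] at h1
    exact one_ne_zero_fin hp h1.symm
  let s : Wr Fˣ (Fin p) := SemidirectProduct.inr π
  have hs : s ∈ QW (p := p) ζ := ⟨fun i => Subgroup.one_mem _, hπ⟩
  have hsapp : ∀ a j : Fin p, a = s.right j ↔ j = a + 1 := hπapp
  have hkey : Phi s * g = g * Phi u := by
    apply Units.ext
    rw [Units.val_mul, Units.val_mul, Phi_of_right_one hu'.2, hgval]
    ext a b
    rw [Matrix.mul_diagonal, Matrix.mul_apply, Finset.sum_eq_single (a + 1)]
    · rw [Phi_apply, if_pos ((hsapp a (a + 1)).mpr rfl)]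
      have h1 : ((s.left a : Fˣ) : F) = 1 := rfl
      rw [h1, one_mul, hVent, hVent, Fin.val_add, Fin.val_one', Nat.add_mod_mod,
        ← pow_eq_pow_mod _ (hvp b), pow_succ]
    · intro j _ hj
      rw [Phi_apply, if_neg (fun h => hj ((hsapp a j).mp h)), zero_mul]
    · intro h; exact absurd (Finset.mem_univ _) h
  have hconj : g * Phi u * g⁻¹ = Phi s := by
    rw [← hkey, mul_inv_cancel_right]
  refine ⟨g, ?_, ?_⟩
  · rw [hconj]
    exact ⟨s, hs, rfl⟩
  · intro hN
    have hND := mem_normalizer_D hζ hp hN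
    rw [Subgroup.mem_normalizer_iff] at hND
    have := (hND (Phi u)).mp ⟨u, hu, rfl⟩
    rw [hconj] at this
    obtain ⟨u', hu'', hus⟩ := this
    have : u' = s := Phi_injective hus
    rw [this] at hu''
    exact hπ1 (mem_DW.mp hu'').2

/-- the matrix of a non-diagonal element -/
theorem entries_of_right_ne_one {w : Wr Fˣ (Fin p)} (hw : w.right ∈ Cyc p) (hw1 : w.right ≠ 1)
    (b : Fin p) : ((Phi w : GL (Fin p) F) : Matrix (Fin p) (Fin p) F) b b = 0 ∧
      ((Phi w : GL (Fin p) F) : Matrix (Fin p) (Fin p) F) (w.right b) b ≠ 0 := by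
  refine ⟨?_, ?_⟩
  · rw [Phi_apply, if_neg (fun h => Cyc_fixed_point_free hw hw1 b h.symm)]
  · rw [Phi_apply, if_pos rfl]
    exact Units.ne_zero _

theorem pow_p_matrix {ζ : Fˣ} {w : Wr Fˣ (Fin p)} (hw : w ∈ QW ζ) (hw1 : w.right ≠ 1) :
    ∃ c ∈ Subgroup.zpowers ζ, ((Phi w : GL (Fin p) F) : Matrix (Fin p) (Fin p) F) ^ p =
      ((c : Fˣ) : F) • (1 : Matrix (Fin p) (Fin p) F) := by
  obtain ⟨c, hc, hwc⟩ := pow_p_eq hw hw1
  refine ⟨c, hc, ?_⟩
  rw [← Units.val_pow_eq_pow_val, ← map_pow, hwc, Phi_of_right_one (show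
    (SemidirectProduct.inl (fun _ => c) : Wr Fˣ (Fin p)).right = 1 from rfl),
    Matrix.smul_one_eq_diagonal]
  rfl

/-- case (d): a non-diagonal element whose `p`-th power is a non-trivial scalar -/
theorem good_d {ζ : Fˣ} (hζ : orderOf ζ = p) (hp : p ≠ 2) {w : Wr Fˣ (Fin p)} (hw : w ∈ QW ζ)
    (hw1 : w.right ≠ 1) {c : F} (hc1 : c ≠ 1) (hcp : c ^ p = 1)
    (hX : ((Phi w : GL (Fin p) F) : Matrix (Fin p) (Fin p) F) ^ p =
      c • (1 : Matrix (Fin p) (Fin p) F)) : Good ζ (Phi (F := F) w) := by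
  classical
  have hodd : Odd p := (Fact.out : p.Prime).odd_of_ne_two hp
  set X : Matrix (Fin p) (Fin p) F := ((Phi w : GL (Fin p) F) : Matrix (Fin p) (Fin p) F) with hXdef
  have hc : 1 + c ≠ 0 := by
    intro h
    have h1 : c = -1 := by linear_combination h
    rw [h1, hodd.neg_one_pow] at hcp
    apply hc1
    rw [h1, hcp]
  set S : Matrix (Fin p) (Fin p) F := ∑ i ∈ Finset.range p, (-X) ^ i with hS
  have hAS : (1 + X) * S = (1 + c) • (1 : Matrix (Fin p) (Fin p) F) := by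
    have := mul_neg_geom_sum (-X) p
    rw [sub_neg_eq_add, hodd.neg_pow, sub_neg_eq_add, hX] at this
    rw [hS, this, add_smul, one_smul]
  have hAB : (1 + X) * ((1 + c)⁻¹ • S) = 1 := by
    rw [Matrix.mul_smul, hAS, smul_smul, inv_mul_cancel₀ hc, one_smul]
  let g : GL (Fin p) F := ⟨1 + X, (1 + c)⁻¹ • S, hAB, _root_.mul_eq_one_comm.mp hAB⟩
  have hgval : (g : Matrix (Fin p) (Fin p) F) = 1 + X := rfl
  apply good_of_commute hζ hp ⟨w, hw, rfl⟩ g
  · apply Units.ext
    rw [Units.val_mul, Units.val_mul, hgval, ← hXdef, add_mul, mul_add, one_mul, mul_one]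
  · intro hcm
    obtain ⟨e1, e2⟩ := entries_of_right_ne_one (F := F) hw.2 hw1 0
    have hne : w.right 0 ≠ 0 := Cyc_fixed_point_free hw.2 hw1 0
    have h1 : (g : Matrix (Fin p) (Fin p) F) 0 0 ≠ 0 := by
      rw [hgval, Matrix.add_apply, Matrix.one_apply_eq, hXdef, e1, add_zero]
      exact one_ne_zero
    have h2 : (g : Matrix (Fin p) (Fin p) F) (w.right 0) 0 ≠ 0 := by
      rw [hgval, Matrix.add_apply, Matrix.one_apply_ne hne, zero_add]
      exact e2
    exact hne (hcm 0 _ _ h2 h1)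

end Cfsg.Agent.Helper11.RedSyl
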