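import Mathlib
import Cfsg.Agent.Helper11.RedSylD
import Cfsg.Agent.Helper11.GLDerC

/-!
# Redundant Sylow subgroups of `GL_p(q)`: the last case and the theorem
-/

set_option autoImplicit false
set_option linter.unusedSectionVars false
set_option linter.style.haveILetI false

namespace Cfsg.Agent.Helper11.RedSyl

open Matrix Cfsg.Agent.Helper11.SpNorm Cfsg.Agent.Helper11.SpDer Cfsg.Agent.Helper11.GLNr

variable {F : Type*} [Field F] [Fintype F] {p : ℕ} [Fact p.Prime]

/-- case (c): a non-diagonal element of order `p` -/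
theorem good_c {ζ : Fˣ} (hζ : orderOf ζ = p) (hp : p ≠ 2) (hpF : (p : F) ≠ 0)
    {w : Wr Fˣ (Fin p)} (hw : w ∈ QW ζ) (hw1 : w.right ≠ 1)
    (hX : ((Phi w : GL (Fin p) F) : Matrix (Fin p) (Fin p) F) ^ p = 1) :
    Good ζ (Phi (F := F) w) := by
  classical
  have hp2 := (Fact.out : p.Prime).two_le
  have hp3 : 3 ≤ p := by omega
  set X : Matrix (Fin p) (Fin p) F := ((Phi w : GL (Fin p) F) : Matrix (Fin p) (Fin p) F) with hXdef
  set N : Matrix (Fin p) (Fin p) F := ∑ i ∈ Finset.range p, X ^ i with hN
  have hXN : X * N = N := by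
    have := mul_geom_sum X p
    rw [hX, sub_self, sub_mul, one_mul, sub_eq_zero] at this
    exact this
  have hNX : N * X = N := by
    have := geom_sum_mul X p
    rw [hX, sub_self, mul_sub, mul_one, sub_eq_zero] at this
    exact this
  have hpowN : ∀ i : ℕ, X ^ i * N = N := by
    intro i
    induction i with
    | zero => rw [pow_zero, one_mul]
    | succ i ih => rw [pow_succ, mul_assoc, hXN, ih]
  have hNN : N * N = (p : F) • N := by
    conv_lhs => rw [hN, Finset.sum_mul]
    rw [Finset.sum_congr rfl (fun i _ => hpowN i), Finset.sum_const, Finset.card_range,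
      Nat.cast_smul_eq_nsmul]
  -- entries of N
  have hpow_entry : ∀ i : ℕ, X ^ i = ((Phi (w ^ i) : GL (Fin p) F) : Matrix (Fin p) (Fin p) F) := by
    intro i
    rw [hXdef, ← Units.val_pow_eq_pow_val, ← map_pow]
  have hNdiag : ∀ b, N b b = 1 := by
    intro b
    rw [hN, Matrix.sum_apply, Finset.sum_eq_single 0]
    · rw [pow_zero, Matrix.one_apply_eq]
    · intro i hi hi0
      have hip : i < p := Finset.mem_range.mp hi
      have hr : (w ^ i).right = w.right ^ i := map_pow SemidirectProduct.rightHom w i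
      have hr1 : (w ^ i).right ≠ 1 := by
        rw [hr]; exact Cyc_pow_ne_one hw.2 hw1 (Nat.pos_of_ne_zero hi0) hip
      have hrC : (w ^ i).right ∈ Cyc p := by
        rw [hr]; exact (Cyc p).pow_mem hw.2 i
      rw [hpow_entry i]
      exact (entries_of_right_ne_one (F := F) hrC hr1 b).1
    · intro h
      exact absurd (Finset.mem_range.mpr (by omega)) h
  have hNrec : ∀ a b, N a b = ((w.left a : Fˣ) : F) * N (w.right.symm a) b := by
    intro a b
    conv_lhs => rw [← hXN]
    rw [Matrix.mul_apply, Finset.sum_eq_single (w.right.symm a)]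
    · rw [hXdef, Phi_apply, if_pos (Equiv.apply_symm_apply _ _).symm]
    · intro j _ hj
      rw [hXdef, Phi_apply, if_neg, zero_mul]
      intro h
      apply hj
      rw [h, Equiv.symm_apply_apply]
    · intro h; exact absurd (Finset.mem_univ _) h
  have hNne : ∀ a b, N a b ≠ 0 := by
    intro a b
    have hinv : ∀ a', (N (w.right a') b = 0) = (N a' b = 0) := by
      intro a'
      apply propext
      rw [hNrec (w.right a') b, Equiv.symm_apply_apply, mul_eq_zero]
      constructor
      · rintro (h | h)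
        · exact absurd h (Units.ne_zero _)
        · exact h
      · intro h; exact Or.inr h
    have := Cyc_invariant_const hw.2 hw1 (fun a' => N a' b = 0) hinv a b
    intro h0
    have hb : N b b = 0 := by
      have h1 : (N a b = 0) = (N b b = 0) := this
      rw [← h1]; exact h0
    rw [hNdiag b] at hb
    exact one_ne_zero hb
  -- the element
  set t : F := ((ζ : Fˣ) : F) with ht
  have ht0 : t ≠ 0 := Units.ne_zero ζ
  have ht1 : t ≠ 1 := by
    intro h
    have : ζ = 1 := Units.ext h
    rw [this, orderOf_one] at hζ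
    omega
  obtain ⟨E, hE⟩ : ∃ E : Matrix (Fin p) (Fin p) F, E = (p : F)⁻¹ • N := ⟨_, rfl⟩
  have hEE : E * E = E := by
    rw [hE, Matrix.smul_mul, Matrix.mul_smul, hNN, smul_smul, smul_smul]
    congr 1
    field_simp
  have hXE : X * E = E := by rw [hE, Matrix.mul_smul, hXN]
  have hEX : E * X = E := by rw [hE, Matrix.smul_mul, hNX]
  have hAB : ∀ α β : F, (1 + α • E) * (1 + β • E) = 1 + (α + β + α * β) • E := by
    intro α β
    rw [add_mul, mul_add, mul_add, one_mul, mul_one, one_mul, Matrix.smul_mul, Matrix.mul_smul, hEE,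
      smul_smul, add_smul, add_smul]
    abel
  have hzero : (t - 1) + (t⁻¹ - 1) + (t - 1) * (t⁻¹ - 1) = 0 := by
    field_simp
    ring
  have hzero' : (t⁻¹ - 1) + (t - 1) + (t⁻¹ - 1) * (t - 1) = 0 := by
    field_simp
    ring
  let g : GL (Fin p) F := ⟨1 + (t - 1) • E, 1 + (t⁻¹ - 1) • E,
    by rw [hAB, hzero, zero_smul, add_zero], by rw [hAB, hzero', zero_smul, add_zero]⟩
  have hgval : (g : Matrix (Fin p) (Fin p) F) = 1 + (t - 1) • E := rfl
  apply good_of_commute hζ hp ⟨w, hw, rfl⟩ g
  · apply Units.ext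
    rw [Units.val_mul, Units.val_mul, hgval, ← hXdef, add_mul, mul_add, one_mul, mul_one,
      Matrix.smul_mul, Matrix.mul_smul, hXE, hEX]
  · intro hcm
    have hoff : ∀ a b : Fin p, a ≠ b → (g : Matrix (Fin p) (Fin p) F) a b ≠ 0 := by
      intro a b hab
      rw [hgval, Matrix.add_apply, Matrix.one_apply_ne hab, zero_add, Matrix.smul_apply, hE,
        Matrix.smul_apply, smul_eq_mul, smul_eq_mul]
      exact mul_ne_zero (sub_ne_zero.mpr ht1) (mul_ne_zero (inv_ne_zero hpF) (hNne a b))
    have h1 : w.right 0 ≠ 0 := Cyc_fixed_point_free hw.2 hw1 0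
    have h2 : w.right (w.right 0) ≠ w.right 0 := Cyc_fixed_point_free hw.2 hw1 _
    have h3 : w.right (w.right 0) ≠ 0 := by
      have hsq : w.right ^ 2 ≠ 1 := Cyc_pow_ne_one hw.2 hw1 (by norm_num) (by omega)
      have := Cyc_fixed_point_free ((Cyc p).pow_mem hw.2 2) hsq 0
      rwa [pow_two, Equiv.Perm.mul_apply] at this
    exact h2 (hcm 0 _ _ (hoff _ _ h3) (hoff _ _ h1))

end Cfsg.Agent.Helper11.RedSyl
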