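import Mathlib
import Cfsg.Agent.Helper11.RedSylE

/-!
# Redundant Sylow subgroups of `GL_p(q)`, `p` odd, `p ∥ q - 1`
-/

set_option autoImplicit false
set_option linter.unusedSectionVars false
set_option linter.style.haveILetI false

namespace Cfsg.Agent.Helper11.RedSyl

open Matrix Cfsg.Agent.Helper11.SpNorm Cfsg.Agent.Helper11.SpDer Cfsg.Agent.Helper11.GLNr

variable {F : Type*} [Field F] [Fintype F]

theorem main (p : ℕ) [Fact p.Prime] (hp : p ≠ 2) (h1 : p ∣ Fintype.card F - 1)
    (h2 : ¬ p ^ 2 ∣ Fintype.card F - 1) :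
    ∃ Q : Sylow p (GL (Fin p) F), ∀ x : GL (Fin p) F,
      (∃ k : ℕ, orderOf x = p ^ k) → ∃ P : Sylow p (GL (Fin p) F), P ≠ Q ∧ x ∈ P := by
  classical
  have hpr : p.Prime := Fact.out
  have hp2 := hpr.two_le
  set q := Fintype.card F with hq
  have hq2 : 2 ≤ q := Fintype.one_lt_card
  -- a primitive p-th root of unity
  have hcardU : Nat.card Fˣ = q - 1 := by
    rw [Nat.card_eq_fintype_card, Fintype.card_units]
  obtain ⟨ζ, hζ⟩ := exists_prime_orderOf_dvd_card' p (by rw [hcardU]; exact h1)
  -- p is invertible in F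
  have hpF : (p : F) ≠ 0 := by
    intro h0
    obtain ⟨m, hm⟩ := h1
    have hqF : ((q : ℕ) : F) = 0 := Nat.cast_card_eq_zero F
    have : q = p * m + 1 := by omega
    rw [this, Nat.cast_add, Nat.cast_mul, h0, zero_mul, zero_add, Nat.cast_one] at hqF
    exact one_ne_zero hqF
  have hpq : ¬ p ∣ q := by
    intro h
    have : p ∣ q - (q - 1) := Nat.dvd_sub h h1
    rw [Nat.sub_sub_self (by omega)] at this
    exact hpr.one_lt.ne' (Nat.dvd_one.mp this)
  -- the order of GL
  have hord : orderOf ((q : ℕ) : ZMod p) = 1 := by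
    rw [orderOf_eq_one_iff]
    have h3 : ((q - 1 : ℕ) : ZMod p) = 0 := (ZMod.natCast_eq_zero_iff _ _).mpr h1
    rw [Nat.cast_sub (by omega), Nat.cast_one, sub_eq_zero] at h3
    exact h3
  have hv1 : padicValNat p (q - 1) = 1 := by
    have hne : q - 1 ≠ 0 := by omega
    have ha : 1 ≤ padicValNat p (q - 1) :=
      (padicValNat_dvd_iff_le hne).mp (by rw [pow_one]; exact h1)
    have hb : ¬ 2 ≤ padicValNat p (q - 1) := fun h => h2 ((padicValNat_dvd_iff_le hne).mpr h)
    omega
  have hvfac : padicValNat p p.factorial = 1 := by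
    have := padicValNat_factorial_mul (p := p) 1
    rw [mul_one, Nat.factorial_one, padicValNat_one_right] at this
    exact this
  have hGL : padicValNat p (Nat.card (GL (Fin p) F)) = p + 1 := by
    rw [Cfsg.Agent.Helper11.GLDer.padic_card_GL hp hpq p, ← hq, hord, Nat.div_one, pow_one, hv1,
      hvfac, mul_one]
  -- the Sylow subgroup
  have hinj : Function.Injective (Phi (F := F) (ι := Fin p)) := Phi_injective
  let Q : Sylow p (GL (Fin p) F) := Sylow.ofCard ((QW ζ).map (Phi (F := F) (ι := Fin p))) (by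
    rw [Subgroup.card_map_of_injective hinj, card_QW hζ, Nat.factorization_def _ hpr, hGL])
  refine ⟨Q, redundant_of_forall Q ?_⟩
  rintro x ⟨w, hw, rfl⟩
  show Good ζ (Phi w)
  by_cases hr : w.right = 1
  · have hwD : w ∈ DW ζ := mem_DW.mpr ⟨hw.1, hr⟩
    by_cases hinjw : Function.Injective w.left
    · exact good_b hζ hp hwD hinjw
    · unfold Function.Injective at hinjw
      push Not at hinjw
      obtain ⟨i, j, hij, hne⟩ := hinjw
      exact good_a hζ hp hwD hne hij
  · obtain ⟨c, hc, hXc⟩ := pow_p_matrix (F := F) hw hr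
    by_cases hc1 : c = 1
    · apply good_c hζ hp hpF hw hr
      rw [hXc, hc1, Units.val_one, one_smul]
    · apply good_d hζ hp hw hr (c := ((c : Fˣ) : F)) _ _ hXc
      · intro h
        exact hc1 (Units.ext h)
      · rw [← Units.val_pow_eq_pow_val, pow_p_of_mem_zpowers hζ hc, Units.val_one]

end Cfsg.Agent.Helper11.RedSyl
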