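import Mathlib

/-!
# Ree cluster pieces P4 and P5 (helper6's plan)

`M` a nontrivial `7 × 7` matrix over a finite field `K` with `M ^ p = 1`, where the prime `p`
has `ord_p |K| = 6`.  Then the eigenvalues of `M` over an algebraic closure are `1` and the six
Frobenius conjugates of a primitive `p`-th root of unity, all simple.  Hence the commutant of `M`
is commutative (P4) and any `k` with `M ^ k` conjugate to `M` is a power of `|K|` mod `p` (P5).
Mathlib only.
-/

namespace Cfsg.Agent.Helper11.ReeP45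


open Polynomial Matrix

/-- A matrix commuting with a diagonal matrix with distinct entries is diagonal. -/
theorem eq_diagonal_of_commute_diagonal {L : Type*} [Field L] {n : Type*} [Fintype n]
    [DecidableEq n] (ξ : n → L) (hξ : Function.Injective ξ) (c : Matrix n n L)
    (h : Commute (Matrix.diagonal ξ) c) : c = Matrix.diagonal (fun i => c i i) := by
  ext i j
  by_cases hij : i = j
  · subst hij; simp
  · rw [Matrix.diagonal_apply_ne _ hij]
    have h1 : (Matrix.diagonal ξ * c) i j = (c * Matrix.diagonal ξ) i j := by rw [h.eq]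
    rw [Matrix.diagonal_mul, Matrix.mul_diagonal] at h1
    have h2 : (ξ i - ξ j) * c i j = 0 := by rw [sub_mul, h1]; ring
    rcases mul_eq_zero.1 h2 with h3 | h3
    · exact absurd (hξ (sub_eq_zero.1 h3)) hij
    · exact h3

/-- Conjugation bookkeeping in a monoid. -/
theorem conj_aux {R : Type*} [Monoid R] (P Q : R) (hPQ : P * Q = 1) (a b : R) :
    (Q * a * P) * (Q * b * P) = Q * (a * b) * P := by
  calc (Q * a * P) * (Q * b * P) = Q * a * (P * Q) * b * P := by simp only [mul_assoc]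
    _ = Q * (a * b) * P := by rw [hPQ, mul_one]; simp only [mul_assoc]

/-- If `A * P = P * D` with `P` invertible and `D` diagonal with distinct entries, then the
commutant of `A` is commutative. -/
theorem commute_of_diagonalized {L : Type*} [Field L] {n : Type*} [Fintype n]
    [DecidableEq n] (A P : Matrix n n L) (ξ : n → L) (hξ : Function.Injective ξ)
    (hP : IsUnit P) (hAP : A * P = P * Matrix.diagonal ξ)
    (c₁ c₂ : Matrix n n L) (h₁ : Commute A c₁) (h₂ : Commute A c₂) : Commute c₁ c₂ := by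
  obtain ⟨u, rfl⟩ := hP
  obtain ⟨Q, hQ⟩ : ∃ Q : Matrix n n L, Q = ↑u⁻¹ := ⟨_, rfl⟩
  obtain ⟨P, hP⟩ : ∃ P : Matrix n n L, P = ↑u := ⟨_, rfl⟩
  have hPQ : P * Q = 1 := by rw [hP, hQ, Units.mul_inv]
  have hQP : Q * P = 1 := by rw [hP, hQ, Units.inv_mul]
  rw [← hP] at hAP
  have hD : Matrix.diagonal ξ = Q * A * P := by
    rw [mul_assoc, hAP, ← mul_assoc, hQP, one_mul]
  have key : ∀ c : Matrix n n L, Commute A c → Commute (Matrix.diagonal ξ) (Q * c * P) := by
    intro c hc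
    show Matrix.diagonal ξ * _ = _ * Matrix.diagonal ξ
    rw [hD, conj_aux P Q hPQ, conj_aux P Q hPQ, hc.eq]
  have d₁ := eq_diagonal_of_commute_diagonal ξ hξ _ (key c₁ h₁)
  have d₂ := eq_diagonal_of_commute_diagonal ξ hξ _ (key c₂ h₂)
  have hc : ∀ c : Matrix n n L, c = P * (Q * c * P) * Q := by
    intro c
    rw [← mul_assoc, ← mul_assoc, hPQ, one_mul, mul_assoc, hPQ, mul_one]
  have hcomm : (Q * c₁ * P) * (Q * c₂ * P) = (Q * c₂ * P) * (Q * c₁ * P) := by
    rw [d₁, d₂, Matrix.diagonal_mul_diagonal, Matrix.diagonal_mul_diagonal]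
    congr 1
    funext i
    exact mul_comm _ _
  show c₁ * c₂ = c₂ * c₁
  rw [conj_aux P Q hPQ, conj_aux P Q hPQ] at hcomm
  have h3 : P * (Q * (c₁ * c₂) * P) * Q = P * (Q * (c₂ * c₁) * P) * Q := by rw [hcomm]
  rwa [← hc, ← hc] at h3

/-- If the charpoly of `A` has `card n` distinct roots, the commutant of `A` is commutative. -/
theorem commute_of_roots_nodup {L : Type*} [Field L] {n : Type*} [Fintype n] [DecidableEq n]
    (A : Matrix n n L) (hcard : Multiset.card A.charpoly.roots = Fintype.card n)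
    (hnd : A.charpoly.roots.Nodup) (c₁ c₂ : Matrix n n L)
    (h₁ : Commute A c₁) (h₂ : Commute A c₂) : Commute c₁ c₂ := by
  classical
  obtain ⟨s, hs⟩ : ∃ s : Finset L, s = A.charpoly.roots.toFinset := ⟨_, rfl⟩
  have hscard : s.card = Fintype.card n := by
    rw [hs, Multiset.toFinset_card_of_nodup hnd, hcard]
  have e : n ≃ s := Fintype.equivOfCardEq (by rw [Fintype.card_coe, hscard])
  obtain ⟨ξ, hξdef⟩ : ∃ ξ : n → L, ξ = fun i => (e i : L) := ⟨_, rfl⟩
  have hξ : Function.Injective ξ := by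
    intro i j h
    rw [hξdef] at h
    exact e.injective (Subtype.ext h)
  have hroot : ∀ i, A.charpoly.IsRoot (ξ i) := by
    intro i
    have h1 : ξ i ∈ s := by rw [hξdef]; exact (e i).2
    rw [hs, Multiset.mem_toFinset, mem_roots (Matrix.charpoly_monic A).ne_zero] at h1
    exact h1
  have hev : ∀ i, ∃ v : n → L, v ≠ 0 ∧ A *ᵥ v = ξ i • v := by
    intro i
    have h1 := hroot i
    rw [IsRoot.def, Matrix.eval_charpoly] at h1
    obtain ⟨v, hv0, hv⟩ := Matrix.exists_mulVec_eq_zero_iff.2 h1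
    refine ⟨v, hv0, ?_⟩
    rw [Matrix.sub_mulVec, sub_eq_zero] at hv
    rw [← hv]
    ext k
    simp [Matrix.mulVec, dotProduct, Matrix.scalar_apply, Matrix.diagonal_apply]
  choose v hv0 hv using hev
  have hli : LinearIndependent L v := by
    apply Module.End.eigenvectors_linearIndependent' (Matrix.toLin' A) ξ hξ v
    intro i
    refine ⟨?_, hv0 i⟩
    rw [Module.End.mem_eigenspace_iff, Matrix.toLin'_apply]; exact hv i
  obtain ⟨P, hPdef⟩ : ∃ P : Matrix n n L, P = Matrix.of (fun i j => v j i) := ⟨_, rfl⟩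
  have hPunit : IsUnit P := by
    rw [← Matrix.linearIndependent_cols_iff_isUnit]
    have : P.col = v := by
      rw [hPdef]; rfl
    rw [this]; exact hli
  have hAP : A * P = P * Matrix.diagonal ξ := by
    ext i j
    rw [Matrix.mul_diagonal]
    have h2 := congrFun (hv j) i
    rw [hPdef]
    simpa [Matrix.mulVec, dotProduct, Matrix.mul_apply, mul_comm] using h2
  exact commute_of_diagonalized A P ξ hξ hPunit hAP c₁ c₂ h₁ h₂

theorem card_roots_charpoly {L : Type*} [Field L] [IsAlgClosed L] {n : Type*} [Fintype n]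
    [DecidableEq n] (A : Matrix n n L) : Multiset.card A.charpoly.roots = Fintype.card n := by
  rw [splits_iff_card_roots.1 (IsAlgClosed.splits _), Matrix.charpoly_natDegree_eq_dim]

section Frob

variable {K : Type*} [Field K] [Fintype K] {L : Type*} [Field L] [Algebra K L] [IsAlgClosed L]
  {n : Type*} [Fintype n] [DecidableEq n]

theorem count_frob [DecidableEq L] (M : Matrix n n K) (x : L) :
    (M.map (algebraMap K L)).charpoly.roots.count (x ^ Fintype.card K) =
      (M.map (algebraMap K L)).charpoly.roots.count x := by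
  obtain ⟨φ, hφ⟩ : ∃ φ : L →+* L, φ = ((FiniteField.frobeniusAlgHom K L : L →ₐ[K] L) : L →+* L) :=
    ⟨_, rfl⟩
  have hφx : ∀ y : L, φ y = y ^ Fintype.card K := by
    intro y; rw [hφ]; rfl
  have hcomp : φ.comp (algebraMap K L) = algebraMap K L := by
    rw [hφ]; exact AlgHom.comp_algebraMap _
  have hAmap : (M.map (algebraMap K L)).map φ = M.map (algebraMap K L) := by
    rw [Matrix.map_map]
    ext i j
    simp only [Matrix.map_apply, Function.comp_apply]
    exact RingHom.congr_fun hcomp (M i j)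
  have hmap : (M.map (algebraMap K L)).charpoly.roots.map φ =
      (M.map (algebraMap K L)).charpoly.roots := by
    rw [roots_map_of_injective_of_card_eq_natDegree φ.injective
      (splits_iff_card_roots.1 (IsAlgClosed.splits _)), ← Matrix.charpoly_map, hAmap]
  rw [← hφx]
  conv_lhs => rw [← hmap]
  exact Multiset.count_map_eq_count' φ _ φ.injective x

end Frob

section Spec

variable {L : Type*} [Field L] {n : Type*} [Fintype n] [DecidableEq n]

theorem pow_eq_one_of_mem_roots [Nonempty n] (A : Matrix n n L) {p : ℕ} (hA : A ^ p = 1) {x : L}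
    (hx : x ∈ A.charpoly.roots) : x ^ p = 1 := by
  rw [mem_roots (Matrix.charpoly_monic A).ne_zero, ← Matrix.mem_spectrum_iff_isRoot_charpoly] at hx
  have h1 := spectrum.pow_mem_pow A p hx
  rw [hA, spectrum.one_eq] at h1
  exact h1

theorem exists_root_ne_one [IsAlgClosed L] [Nonempty n] (A : Matrix n n L) {p : ℕ} (hA : A ^ p = 1)
    (hA1 : A ≠ 1) (hpL : (p : L) ≠ 0) : ∃ ζ ∈ A.charpoly.roots, ζ ≠ 1 := by
  by_contra hcon
  push Not at hcon
  have hsp : spectrum L A ⊆ {1} := by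
    intro x hx
    rw [Matrix.mem_spectrum_iff_isRoot_charpoly, ← mem_roots (Matrix.charpoly_monic A).ne_zero] at hx
    exact hcon x hx
  have hne : (spectrum L A).Nonempty := spectrum.nonempty_of_isAlgClosed_of_finiteDimensional L A
  obtain ⟨g, hg⟩ : ∃ g : L[X], g = ∑ i ∈ Finset.range p, X ^ i := ⟨_, rfl⟩
  have hgA : aeval A g = ∑ i ∈ Finset.range p, A ^ i := by
    rw [hg, map_sum]; simp
  have hsg : spectrum L (aeval A g) ⊆ {(p : L)} := by
    rw [spectrum.map_polynomial_aeval_of_nonempty A g hne]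
    rintro y ⟨x, hx, rfl⟩
    have hx1 : x = 1 := hsp hx
    subst hx1
    simp [hg, eval_finsetSum]
  have hunit : IsUnit (aeval A g) := by
    rw [← spectrum.zero_notMem_iff L]
    intro h0
    exact hpL (hsg h0).symm
  have hmul : (A - 1) * aeval A g = 0 := by
    rw [hgA, mul_geom_sum, hA, sub_self]
  have : A - 1 = 0 := by
    obtain ⟨u, hu⟩ := hunit
    rw [← hu] at hmul
    exact (Units.mul_left_eq_zero u).1 hmul
  exact hA1 (sub_eq_zero.1 this)

end Spec



section Arith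

variable {p q : ℕ}

theorem ar1 (hq : 0 < q) (h6 : p ∣ q ^ 6 - 1) : q ^ 6 ≡ 1 [MOD p] :=
  ((Nat.modEq_iff_dvd' (Nat.one_le_pow _ _ hq)).2 h6).symm

theorem ar2 (hq : 0 < q) (hlt : ∀ e : ℕ, 0 < e → e < 6 → ¬ p ∣ q ^ e - 1) (e : ℕ) (he : 0 < e)
    (he6 : e < 6) : ¬ q ^ e ≡ 1 [MOD p] :=
  fun h => hlt e he he6 ((Nat.modEq_iff_dvd' (Nat.one_le_pow _ _ hq)).1 h.symm)

theorem ar3 (hp : p.Prime) (h : q ^ 6 ≡ 1 [MOD p]) : Nat.Coprime p q := by
  rw [hp.coprime_iff_not_dvd]
  intro hd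
  have h0 : q ^ 6 ≡ 0 [MOD p] := (Nat.modEq_zero_iff_dvd).2 (dvd_pow hd (by norm_num))
  have h10 : 1 ≡ 0 [MOD p] := h.symm.trans h0
  have h1 := (Nat.modEq_zero_iff_dvd).1 h10
  exact hp.one_lt.ne' (Nat.dvd_one.1 h1)

theorem ar4 (hp : p.Prime) (h6 : q ^ 6 ≡ 1 [MOD p])
    (hlt : ∀ e : ℕ, 0 < e → e < 6 → ¬ q ^ e ≡ 1 [MOD p]) {i j : ℕ} (hi : i < 6) (hj : j < 6)
    (h : q ^ i ≡ q ^ j [MOD p]) : i = j := by
  wlog hij : i ≤ j generalizing i j
  · exact (this hj hi h.symm (le_of_not_ge hij)).symm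
  obtain ⟨d, rfl⟩ := Nat.exists_eq_add_of_le hij
  by_contra hne
  have hd : 0 < d := by omega
  have hcop : Nat.gcd p (q ^ i) = 1 := Nat.Coprime.pow_right i (ar3 hp h6)
  have h1 : q ^ i * 1 ≡ q ^ i * q ^ d [MOD p] := by rw [mul_one, ← pow_add]; exact h
  have h2 := Nat.ModEq.cancel_left_of_coprime hcop h1
  exact hlt d hd (by omega) h2.symm

theorem ar5 (h6 : q ^ 6 ≡ 1 [MOD p]) (m : ℕ) : q ^ m ≡ q ^ (m % 6) [MOD p] := by
  conv_lhs => rw [← Nat.div_add_mod m 6, pow_add, pow_mul]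
  have h1 := (h6.pow (m / 6)).mul_right (q ^ (m % 6))
  rwa [one_pow, one_mul] at h1

end Arith

section Orbit

variable {L : Type*} [Field L] [DecidableEq L] {p q : ℕ}

theorem orderOf_eq_of_pow (hp : p.Prime) {x : L} (hx : x ^ p = 1) (hx1 : x ≠ 1) :
    orderOf x = p := by
  have : Fact p.Prime := ⟨hp⟩
  exact orderOf_eq_prime hx hx1

theorem pow_eq_pow_iff (hp : p.Prime) {x : L} (hx : x ^ p = 1) (hx1 : x ≠ 1) (a b : ℕ) :
    x ^ a = x ^ b ↔ a ≡ b [MOD p] := by
  have hfin : IsOfFinOrder x := isOfFinOrder_iff_pow_eq_one.2 ⟨p, hp.pos, hx⟩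
  rw [hfin.pow_eq_pow_iff_modEq, orderOf_eq_of_pow hp hx hx1]

/-- The Frobenius orbit of `x`. -/
def orb (q : ℕ) (x : L) : Finset L := (Finset.range 6).image (fun i => x ^ (q ^ i))

theorem card_orb (hp : p.Prime) (h6 : q ^ 6 ≡ 1 [MOD p])
    (hlt : ∀ e : ℕ, 0 < e → e < 6 → ¬ q ^ e ≡ 1 [MOD p]) {x : L} (hx : x ^ p = 1) (hx1 : x ≠ 1) :
    (orb q x).card = 6 := by
  rw [orb, Finset.card_image_of_injOn, Finset.card_range]
  intro i hi j hj h
  simp only [Finset.coe_range, Set.mem_Iio] at hi hj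
  exact ar4 hp h6 hlt hi hj ((pow_eq_pow_iff hp hx hx1 _ _).1 h)

theorem count_orb (R : Multiset L) (hcount : ∀ x : L, R.count (x ^ q) = R.count x) (x : L) (i : ℕ) :
    R.count (x ^ (q ^ i)) = R.count x := by
  induction i with
  | zero => simp
  | succ i ih => rw [pow_succ, pow_mul, hcount, ih]

theorem sum_count_le (R : Multiset L) (s : Finset L) (hs : s ⊆ R.toFinset) :
    ∑ y ∈ s, R.count y ≤ Multiset.card R := by
  rw [← Multiset.toFinset_sum_count_eq]
  exact Finset.sum_le_sum_of_subset hs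

theorem orb_subset (R : Multiset L) (hcount : ∀ x : L, R.count (x ^ q) = R.count x) {x : L}
    (hx : x ∈ R) : orb q x ⊆ R.toFinset := by
  intro y hy
  rw [orb, Finset.mem_image] at hy
  obtain ⟨i, -, rfl⟩ := hy
  rw [Multiset.mem_toFinset, ← Multiset.count_pos, count_orb R hcount]
  exact Multiset.count_pos.2 hx

theorem sum_orb (R : Multiset L) (hcount : ∀ x : L, R.count (x ^ q) = R.count x) (x : L) :
    ∑ y ∈ orb q x, R.count y = (orb q x).card * R.count x := by
  rw [Finset.sum_const_nat]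
  intro y hy
  rw [orb, Finset.mem_image] at hy
  obtain ⟨i, -, rfl⟩ := hy
  exact count_orb R hcount x i

theorem one_notMem_orb (hp : p.Prime) (h6 : q ^ 6 ≡ 1 [MOD p]) {x : L} (hx : x ^ p = 1)
    (hx1 : x ≠ 1) : (1 : L) ∉ orb q x := by
  intro h
  rw [orb, Finset.mem_image] at h
  obtain ⟨i, -, hi⟩ := h
  have h1 : x ^ (q ^ i) = x ^ 0 := by rw [hi, pow_zero]
  have h2 := (pow_eq_pow_iff hp hx hx1 _ _).1 h1
  have h3 : p ∣ q ^ i := (Nat.modEq_zero_iff_dvd).1 h2
  have h4 : p ∣ q := hp.dvd_of_dvd_pow h3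
  exact (hp.coprime_iff_not_dvd.1 (ar3 hp h6)) h4

theorem roots_nodup (hp : p.Prime) (h6 : q ^ 6 ≡ 1 [MOD p])
    (hlt : ∀ e : ℕ, 0 < e → e < 6 → ¬ q ^ e ≡ 1 [MOD p]) (R : Multiset L)
    (hcount : ∀ x : L, R.count (x ^ q) = R.count x) (hpow : ∀ x ∈ R, x ^ p = 1)
    (hcard : Multiset.card R = 7) {ζ : L} (hζ : ζ ∈ R) (hζ1 : ζ ≠ 1) : R.Nodup := by
  rw [Multiset.nodup_iff_count_le_one]
  intro a
  by_cases ha : a ∈ R
  · by_cases ha1 : a = 1
    · subst ha1
      have hsub : insert (1 : L) (orb q ζ) ⊆ R.toFinset := by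
        intro y hy
        rw [Finset.mem_insert] at hy
        rcases hy with rfl | hy
        · exact Multiset.mem_toFinset.2 ha
        · exact orb_subset R hcount hζ hy
      have h1 := sum_count_le R _ hsub
      rw [Finset.sum_insert (one_notMem_orb hp h6 (hpow ζ hζ) hζ1), sum_orb R hcount,
        card_orb hp h6 hlt (hpow ζ hζ) hζ1, hcard] at h1
      have h2 : 0 < R.count ζ := Multiset.count_pos.2 hζ
      omega
    · have h1 := sum_count_le R _ (orb_subset R hcount ha)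
      rw [sum_orb R hcount, card_orb hp h6 hlt (hpow a ha) ha1, hcard] at h1
      omega
  · rw [Multiset.count_eq_zero_of_notMem ha]; exact Nat.zero_le _

theorem mem_orb_of_mem (hp : p.Prime) (h6 : q ^ 6 ≡ 1 [MOD p])
    (hlt : ∀ e : ℕ, 0 < e → e < 6 → ¬ q ^ e ≡ 1 [MOD p]) (R : Multiset L)
    (hcount : ∀ x : L, R.count (x ^ q) = R.count x) (hpow : ∀ x ∈ R, x ^ p = 1)
    (hcard : Multiset.card R = 7) {ζ : L} (hζ : ζ ∈ R) (hζ1 : ζ ≠ 1) {x : L} (hx : x ∈ R)
    (hx1 : x ≠ 1) : ∃ m : ℕ, x = ζ ^ (q ^ m) := by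
  have hnd : ¬ Disjoint (orb q ζ) (orb q x) := by
    intro hd
    have h1 : (orb q ζ ∪ orb q x).card = 12 := by
      rw [Finset.card_union_of_disjoint hd, card_orb hp h6 hlt (hpow ζ hζ) hζ1,
        card_orb hp h6 hlt (hpow x hx) hx1]
    have h2 : (orb q ζ ∪ orb q x).card ≤ R.toFinset.card :=
      Finset.card_le_card (Finset.union_subset (orb_subset R hcount hζ) (orb_subset R hcount hx))
    have h3 := Multiset.toFinset_card_le R
    omega
  rw [Finset.not_disjoint_iff] at hnd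
  obtain ⟨y, hy1, hy2⟩ := hnd
  rw [orb, Finset.mem_image] at hy1 hy2
  obtain ⟨j, hj, rfl⟩ := hy1
  obtain ⟨i, hi, hij⟩ := hy2
  rw [Finset.mem_range] at hi hj
  refine ⟨j + (6 - i), ?_⟩
  have h1 : x ^ (q ^ 6) = x ^ 1 := (pow_eq_pow_iff hp (hpow x hx) hx1 _ _).2 h6
  rw [pow_one] at h1
  rw [← h1, show 6 = i + (6 - i) by omega, pow_add q, pow_mul, hij, ← pow_mul, ← pow_add]
  congr 2
  omega

end Orbit

section Main

variable {K : Type*} [Field K] [Fintype K]

theorem natCast_ne_zero_of_dvd {L : Type*} [Field L] [Algebra K L] {p : ℕ}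
    (h6 : p ∣ Fintype.card K ^ 6 - 1) : (p : L) ≠ 0 := by
  intro h0
  obtain ⟨m, hm⟩ := h6
  have h1 : 1 ≤ Fintype.card K ^ 6 := Nat.one_le_pow _ _ Fintype.card_pos
  have h2 : Fintype.card K ^ 6 = p * m + 1 := by omega
  have h3 : ((Fintype.card K : ℕ) : L) = 0 := by
    have : ((Fintype.card K : ℕ) : K) = 0 := FiniteField.cast_card_eq_zero K
    rw [← map_natCast (algebraMap K L), this, map_zero]
  have h4 := congrArg (fun t : ℕ => (t : L)) h2
  simp only [Nat.cast_pow, Nat.cast_add, Nat.cast_mul, Nat.cast_one, h3, h0] at h4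
  norm_num at h4

/-- Common setup. -/
theorem setup {L : Type*} [Field L] [Algebra K L] [IsAlgClosed L] [DecidableEq L] {p : ℕ}
    (hp : p.Prime) (h6 : p ∣ Fintype.card K ^ 6 - 1)
    (hlt : ∀ e : ℕ, 0 < e → e < 6 → ¬ p ∣ Fintype.card K ^ e - 1)
    (M : Matrix (Fin 7) (Fin 7) K) (hM : M ^ p = 1) (hM1 : M ≠ 1) :
    ∃ ζ ∈ (M.map (algebraMap K L)).charpoly.roots, ζ ≠ 1 ∧ ζ ^ p = 1 ∧
      (M.map (algebraMap K L)).charpoly.roots.Nodup ∧
      ∀ x ∈ (M.map (algebraMap K L)).charpoly.roots, x ≠ 1 →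
        ∃ m : ℕ, x = ζ ^ (Fintype.card K ^ m) := by
  have hq : 0 < Fintype.card K := Fintype.card_pos
  have h6' := ar1 hq h6
  have hlt' := ar2 hq hlt
  have hAeq : M.map (algebraMap K L) = (algebraMap K L).mapMatrix M := rfl
  have hA : (M.map (algebraMap K L)) ^ p = 1 := by
    rw [hAeq, ← map_pow, hM, map_one]
  have hA1 : M.map (algebraMap K L) ≠ 1 := by
    intro h
    apply hM1
    apply Matrix.map_injective (algebraMap K L).injective
    show M.map (algebraMap K L) = (1 : Matrix (Fin 7) (Fin 7) K).map (algebraMap K L)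
    rw [h]
    exact (map_one (algebraMap K L).mapMatrix).symm
  obtain ⟨ζ, hζ, hζ1⟩ := exists_root_ne_one _ hA hA1 (natCast_ne_zero_of_dvd (K := K) h6)
  have hpow : ∀ x ∈ (M.map (algebraMap K L)).charpoly.roots, x ^ p = 1 :=
    fun x hx => pow_eq_one_of_mem_roots _ hA hx
  have hcard : Multiset.card (M.map (algebraMap K L)).charpoly.roots = 7 := by
    rw [card_roots_charpoly]; simp
  exact ⟨ζ, hζ, hζ1, hpow ζ hζ,
    roots_nodup hp h6' hlt' _ (count_frob M) hpow hcard hζ hζ1,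
    fun x hx hx1 => mem_orb_of_mem hp h6' hlt' _ (count_frob M) hpow hcard hζ hζ1 hx hx1⟩

theorem P4_commute_of_commute {p : ℕ} (hp : p.Prime)
    (h6 : p ∣ Fintype.card K ^ 6 - 1)
    (hlt : ∀ e : ℕ, 0 < e → e < 6 → ¬ p ∣ Fintype.card K ^ e - 1)
    (M c₁ c₂ : Matrix (Fin 7) (Fin 7) K) (hM : M ^ p = 1) (hM1 : M ≠ 1)
    (h₁ : Commute M c₁) (h₂ : Commute M c₂) : Commute c₁ c₂ := by
  classical
  obtain ⟨ζ, -, -, -, hnd, -⟩ := setup (L := AlgebraicClosure K) hp h6 hlt M hM hM1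
  have hc : ∀ c : Matrix (Fin 7) (Fin 7) K, Commute M c →
      Commute (M.map (algebraMap K (AlgebraicClosure K)))
        (c.map (algebraMap K (AlgebraicClosure K))) := by
    intro c hc
    exact hc.map (algebraMap K (AlgebraicClosure K)).mapMatrix
  have h := commute_of_roots_nodup _ (card_roots_charpoly _) hnd _ _ (hc c₁ h₁) (hc c₂ h₂)
  apply Matrix.map_injective (algebraMap K (AlgebraicClosure K)).injective
  show (c₁ * c₂).map (algebraMap K (AlgebraicClosure K)) =
    (c₂ * c₁).map (algebraMap K (AlgebraicClosure K))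
  have e1 : ∀ a b : Matrix (Fin 7) (Fin 7) K, (a * b).map (algebraMap K (AlgebraicClosure K)) =
      a.map (algebraMap K (AlgebraicClosure K)) * b.map (algebraMap K (AlgebraicClosure K)) :=
    fun a b => map_mul (algebraMap K (AlgebraicClosure K)).mapMatrix a b
  rw [e1, e1]
  exact h.eq

theorem P5_pow_of_conj {p : ℕ} (hp : p.Prime)
    (h6 : p ∣ Fintype.card K ^ 6 - 1)
    (hlt : ∀ e : ℕ, 0 < e → e < 6 → ¬ p ∣ Fintype.card K ^ e - 1)
    (M T : Matrix (Fin 7) (Fin 7) K) (hM : M ^ p = 1) (hM1 : M ≠ 1) (hT : IsUnit T) (k : ℕ)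
    (h : T * M = M ^ k * T) : ∃ i : ℕ, i < 6 ∧ k ≡ Fintype.card K ^ i [MOD p] := by
  classical
  obtain ⟨ζ, hζ, hζ1, hζp, -, horb⟩ := setup (L := AlgebraicClosure K) hp h6 hlt M hM hM1
  have hq : 0 < Fintype.card K := Fintype.card_pos
  have h6' := ar1 hq h6
  -- `M ^ k` is conjugate to `M`
  obtain ⟨u, rfl⟩ := hT
  have hconj : M ^ k = (u : Matrix (Fin 7) (Fin 7) K) * M * (↑u⁻¹ : Matrix (Fin 7) (Fin 7) K) := by
    rw [h, mul_assoc, Units.mul_inv, mul_one]
  have hchar : (M ^ k).charpoly = M.charpoly := by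
    rw [hconj, Matrix.charpoly_mul_comm, ← mul_assoc, Units.inv_mul, one_mul]
  -- `ζ ^ k` is a root
  have hAeq : ∀ N : Matrix (Fin 7) (Fin 7) K, N.map (algebraMap K (AlgebraicClosure K)) =
      (algebraMap K (AlgebraicClosure K)).mapMatrix N := fun _ => rfl
  have hζk : ζ ^ k ∈ (M.map (algebraMap K (AlgebraicClosure K))).charpoly.roots := by
    rw [mem_roots (Matrix.charpoly_monic _).ne_zero,
      ← Matrix.mem_spectrum_iff_isRoot_charpoly] at hζ
    have h1 := spectrum.pow_mem_pow _ k hζ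
    rw [Matrix.mem_spectrum_iff_isRoot_charpoly, hAeq, ← map_pow, ← hAeq, Matrix.charpoly_map,
      hchar, ← Matrix.charpoly_map] at h1
    rw [mem_roots (Matrix.charpoly_monic _).ne_zero]
    exact h1
  have hζk1 : ζ ^ k ≠ 1 := by
    intro h1
    have h2 : ζ ^ k = ζ ^ 0 := by rw [h1, pow_zero]
    have h3 : p ∣ k := (Nat.modEq_zero_iff_dvd).1 ((pow_eq_pow_iff hp hζp hζ1 _ _).1 h2)
    obtain ⟨m, rfl⟩ := h3
    rw [pow_mul, hM, one_pow, one_mul] at h
    apply hM1
    have := congrArg (fun X => (↑u⁻¹ : Matrix (Fin 7) (Fin 7) K) * X) h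
    simpa using this
  obtain ⟨m, hm⟩ := horb _ hζk hζk1
  refine ⟨m % 6, Nat.mod_lt _ (by norm_num), ?_⟩
  exact ((pow_eq_pow_iff hp hζp hζ1 _ _).1 hm).trans (ar5 h6' m)

end Main

end Cfsg.Agent.Helper11.ReeP45
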