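import Mathlib
import Cfsg.Agent.Helper6.ReeLoc.Hyp

set_option linter.unusedSectionVars false
set_option linter.unusedVariables false
set_option linter.style.haveILetI false

/-!
# Ree cluster, round 2, piece R1 (helper6's plan)

The centraliser `A = C(x)` of an element `x` of prime order `p ∣ q² - q + 1` in a group with the
local data `ReeHyp` of `²G₂(q)`: `A` is a cyclic Hall subgroup containing the centraliser of each of
its non-trivial elements, `|A|` divides `q² - q + 1`, and `|N(A) : A|` divides `6`.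
-/

namespace Cfsg.Agent.Helper11.ReeR1

open Cfsg.Agent.Helper6.ReeLoc Subgroup

section Arith

/-- arithmetic of `q = 3^(2m+1)` and `M = q² - q + 1` -/
structure QData (q : ℕ) : Prop where
  three : 3 ∣ q
  mod8 : q % 8 = 3

theorem qdata (m : ℕ) : QData (3 ^ (2 * m + 1)) := by
  constructor
  · exact dvd_pow_self 3 (by omega)
  · rw [pow_succ, pow_mul]
    have : (3 ^ 2) ^ m % 8 = 1 := by
      induction m with
      | zero => norm_num
      | succ k ih => rw [pow_succ, Nat.mul_mod, ih]; norm_num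
    rw [Nat.mul_mod, this]

variable {q : ℕ} (hq : QData q)
include hq

theorem QData.three_le : 3 ≤ q := by
  have := hq.mod8
  omega

theorem QData.M_add : q ^ 2 - q + 1 + q = q ^ 2 + 1 := by
  have h1 : q ≤ q ^ 2 := by nlinarith [hq.three_le]
  omega

theorem QData.M_eq1 : q ^ 2 - q + 1 = q * (q - 1) + 1 := by
  have h3 := hq.three_le
  obtain ⟨k, rfl⟩ : ∃ k, q = k + 1 := ⟨q - 1, by omega⟩
  have : (k + 1) ^ 2 - (k + 1) = (k + 1) * k := by
    rw [Nat.sub_eq_iff_eq_add (by nlinarith)]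
    ring
  rw [this]
  simp

theorem QData.M_eq2 : q ^ 2 - q + 1 = (q + 1) * (q - 2) + 3 := by
  have h3 := hq.three_le
  obtain ⟨k, rfl⟩ : ∃ k, q = k + 2 := ⟨q - 2, by omega⟩
  have : (k + 2) ^ 2 - (k + 2) = (k + 2 + 1) * k + 2 := by
    rw [Nat.sub_eq_iff_eq_add (by nlinarith)]
    ring
  rw [this]
  simp

theorem QData.cube : q ^ 3 + 1 = (q + 1) * (q ^ 2 - q + 1) := by
  have h := hq.M_add
  have h1 : q ≤ q ^ 2 := by nlinarith [hq.three_le]
  zify [h1] 
  ring

variable {p : ℕ} (hp : p.Prime) (hpd : p ∣ q ^ 2 - q + 1)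
include hp hpd

theorem QData.not_dvd_q : ¬ p ∣ q := by
  intro h
  rw [hq.M_eq1] at hpd
  have h1 : p ∣ q * (q - 1) := Dvd.dvd.mul_right h _
  have h2 : p ∣ 1 := (Nat.dvd_add_right h1).1 hpd
  exact hp.one_lt.ne' (Nat.dvd_one.1 h2)

theorem QData.not_dvd_pred : ¬ p ∣ q - 1 := by
  intro h
  rw [hq.M_eq1] at hpd
  have h1 : p ∣ q * (q - 1) := Dvd.dvd.mul_left h _
  have h2 : p ∣ 1 := (Nat.dvd_add_right h1).1 hpd
  exact hp.one_lt.ne' (Nat.dvd_one.1 h2)

theorem QData.ne_three : p ≠ 3 := by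
  intro h
  subst h
  exact hq.not_dvd_q hp hpd hq.three

theorem QData.not_dvd_succ : ¬ p ∣ q + 1 := by
  intro h
  have hpd' := hpd
  rw [hq.M_eq2] at hpd'
  have h1 : p ∣ (q + 1) * (q - 2) := Dvd.dvd.mul_right h _
  have h2 : p ∣ 3 := (Nat.dvd_add_right h1).1 hpd'
  exact hq.ne_three hp hpd ((Nat.prime_dvd_prime_iff_eq hp Nat.prime_three).1 h2)

theorem QData.ne_two : p ≠ 2 := by
  intro h
  subst h
  apply hq.not_dvd_pred hp hpd
  have := hq.mod8
  omega

theorem QData.three_lt : 3 < p := by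
  have h2 := hq.ne_two hp hpd
  have h3 := hq.ne_three hp hpd
  have := hp.two_le
  omega

theorem QData.pow_six : q ^ 6 ≡ 1 [MOD p] := by
  have h1 : p ∣ q ^ 3 + 1 := by rw [hq.cube]; exact Dvd.dvd.mul_left hpd _
  have h2 : q ^ 6 - 1 = (q ^ 3 - 1) * (q ^ 3 + 1) := by
    have : 1 ≤ q ^ 3 := Nat.one_le_pow _ _ (by have := hq.three_le; omega)
    zify [this, Nat.one_le_pow 6 q (by have := hq.three_le; omega)]
    ring
  have h3 : p ∣ q ^ 6 - 1 := by rw [h2]; exact Dvd.dvd.mul_left h1 _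
  exact ((Nat.modEq_iff_dvd' (Nat.one_le_pow _ _ (by have := hq.three_le; omega))).2 h3).symm

end Arith

variable {G : Type*} [Group G] [Finite G] {m : ℕ}

theorem orderOf_conj' (g x : G) : orderOf (g * x * g⁻¹) = orderOf x := by
  have := MulEquiv.orderOf_eq (MulAut.conj g) x
  rwa [MulAut.conj_apply] at this

theorem commute_conj {x y : G} (h : Commute x y) (g : G) :
    Commute (g * x * g⁻¹) (g * y * g⁻¹) := by
  have e1 : g * x * g⁻¹ * (g * y * g⁻¹) = g * (x * y) * g⁻¹ := by group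
  have e2 : g * y * g⁻¹ * (g * x * g⁻¹) = g * (y * x) * g⁻¹ := by group
  rw [Commute, SemiconjBy, e1, e2, h.eq]

/-- an element of prime order `p'` commuting with a non-trivial element of a family `SC A Z`, with
`p' ∣ |A|`: then `x` has order dividing `|Z|` -/
theorem orderOf_dvd_of_commute_sc {A Z : Subgroup G} (hsc : SC A Z) {x y : G} {p' : ℕ}
    (hp' : p'.Prime) (hy : orderOf y = p') (hdvd : p' ∣ Nat.card A) (hxy : Commute x y) :
    orderOf x ∣ Nat.card Z := by
  have hcomm : ∀ a ∈ zpowers y, ∀ b ∈ zpowers y, Commute a b := by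
    intro a ha b hb
    obtain ⟨i, rfl⟩ := mem_zpowers_iff.1 ha
    obtain ⟨j, rfl⟩ := mem_zpowers_iff.1 hb
    exact (Commute.refl y).zpow_zpow i j
  have hcard : Nat.card (zpowers y) ∣ Nat.card A := by
    rw [Nat.card_zpowers, hy]; exact hdvd
  obtain ⟨g, hg⟩ := hsc.exists_conj_le (zpowers y) hcomm hcard
  have hy1 : g * y * g⁻¹ ∈ A := hg (conj_mem_cj (mem_zpowers y))
  have hne : g * y * g⁻¹ ≠ 1 := by
    intro e
    have : orderOf (g * y * g⁻¹) = 1 := by rw [e, orderOf_one]
    rw [orderOf_conj', hy] at this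
    exact hp'.one_lt.ne' this
  have hmem : g * x * g⁻¹ ∈ Z := hsc.cent _ hy1 hne _ (commute_conj hxy g)
  have := Subgroup.orderOf_dvd_natCard Z hmem
  rwa [orderOf_conj'] at this

/-- primes dividing the order of the centraliser divide `M` -/
theorem prime_dvd_M (h : ReeHyp G m) {p : ℕ} (hp : p.Prime)
    (hpd : p ∣ (3 ^ (2 * m + 1)) ^ 2 - 3 ^ (2 * m + 1) + 1) {x : G} (hx : orderOf x = p)
    {p' : ℕ} (hp' : p'.Prime) {y : G} (hy : orderOf y = p') (hxy : Commute x y) :
    p' ∣ (3 ^ (2 * m + 1)) ^ 2 - 3 ^ (2 * m + 1) + 1 := by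
  have hQ := qdata m
  have hcard := h.card
  have c2 := h.cent2
  have c3 := h.cent3
  have cAH := h.cardAH
  have cZH := h.cardZH
  have cA1 := h.cardA1
  have cT := h.cardT
  obtain ⟨q, hqdef⟩ : ∃ q : ℕ, q = 3 ^ (2 * m + 1) := ⟨_, rfl⟩
  rw [← hqdef] at hQ hcard c2 c3 cAH cZH cA1 cT hpd ⊢
  have h3le := hQ.three_le
  have n1 := hQ.not_dvd_q hp hpd
  have n2 := hQ.not_dvd_pred hp hpd
  have n3 := hQ.not_dvd_succ hp hpd
  -- `p' ≠ 2`
  have hp2 : p' ≠ 2 := by
    intro e
    have h1 := c2 y x (hy.trans e) hxy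
    have h2 := orderOf_dvd_of_pow_eq_one h1
    rw [hx] at h2
    rcases (Nat.Prime.dvd_mul hp).1 h2 with h3 | h3
    · exact n1 h3
    · have e2 : q ^ 2 - 1 = (q - 1) * (q + 1) := by
        have : 1 ≤ q ^ 2 := Nat.one_le_pow _ _ (by omega)
        zify [this, show 1 ≤ q by omega]
        ring
      rw [e2] at h3
      rcases (Nat.Prime.dvd_mul hp).1 h3 with h4 | h4
      · exact n2 h4
      · exact n3 h4
  -- `p' ≠ 3`
  have hp3 : p' ≠ 3 := by
    intro e
    have h1 := c3 y x (hy.trans e) hxy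
    have h2 := orderOf_dvd_of_pow_eq_one h1
    rw [hx] at h2
    rcases (Nat.Prime.dvd_mul hp).1 h2 with h3 | h3
    · exact n1 (hp.dvd_of_dvd_pow h3)
    · exact n2 h3
  have hodd : Nat.Coprime p' 2 := by
    rw [Nat.coprime_comm, Nat.Prime.coprime_iff_not_dvd Nat.prime_two]
    intro h2
    exact hp2 ((Nat.prime_dvd_prime_iff_eq Nat.prime_two hp').1 h2).symm
  -- `p' ∤ q - 1`
  have hpm : ¬ p' ∣ q - 1 := by
    intro hd
    have e1 : q - 1 = (q - 1) / 2 * 2 := by
      have := hQ.mod8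
      omega
    rw [e1] at hd
    have hd2 : p' ∣ (q - 1) / 2 := hodd.dvd_of_dvd_mul_right hd
    rw [← cAH] at hd2
    have h4 := orderOf_dvd_of_commute_sc h.scH hp' hy hd2 hxy
    rw [hx, cZH] at h4
    exact n2 h4
  -- `p' ∤ q + 1`
  have hpp : ¬ p' ∣ q + 1 := by
    intro hd
    have e1 : q + 1 = (q + 1) / 4 * 4 := by
      have := hQ.mod8
      omega
    rw [e1] at hd
    have hodd4 : Nat.Coprime p' 4 := by
      have : (4 : ℕ) = 2 ^ 2 := by norm_num
      rw [this]
      exact Nat.Coprime.pow_right 2 hodd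
    have hd2 : p' ∣ (q + 1) / 4 := hodd4.dvd_of_dvd_mul_right hd
    rw [← cA1] at hd2
    have h4 := orderOf_dvd_of_commute_sc h.scT hp' hy hd2 hxy
    rw [hx, cT] at h4
    exact n3 h4
  -- `p'` divides `|G|`
  have hG : p' ∣ Nat.card G := by rw [← hy]; exact orderOf_dvd_natCard y
  rw [hcard, hQ.cube] at hG
  rcases (Nat.Prime.dvd_mul hp').1 hG with h1 | h1
  · rcases (Nat.Prime.dvd_mul hp').1 h1 with h2 | h2
    · exfalso
      have h3 := hp'.dvd_of_dvd_pow h2
      rw [hqdef] at h3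
      have h4 := hp'.dvd_of_dvd_pow h3
      exact hp3 ((Nat.prime_dvd_prime_iff_eq hp' Nat.prime_three).1 h4)
    · exact absurd h2 hpm
  · rcases (Nat.Prime.dvd_mul hp').1 h1 with h2 | h2
    · exact absurd h2 hpp
    · exact h2

section main

variable (h : ReeHyp G m) {p : ℕ} (hp : p.Prime)
  (hpd : p ∣ (3 ^ (2 * m + 1)) ^ 2 - 3 ^ (2 * m + 1) + 1) {x : G} (hx : orderOf x = p)

theorem mem_cent {x g : G} : g ∈ centralizer ({x} : Set G) ↔ Commute g x := by
  rw [mem_centralizer_iff]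
  constructor
  · intro hg
    exact (hg x (Set.mem_singleton x)).symm
  · intro hg y hy
    rw [Set.mem_singleton_iff] at hy
    rw [hy]
    exact hg.eq.symm

include h hp hpd hx in
theorem cent_comm : ∀ a ∈ centralizer ({x} : Set G), ∀ b ∈ centralizer ({x} : Set G),
    Commute a b := by
  intro a ha b hb
  exact h.pi_comm p hp hpd x hx a b (mem_cent.1 ha) (mem_cent.1 hb)

include h hp hpd hx in
/-- primes dividing `|C(x)|` divide `M` -/
theorem prime_dvd_card_cent {p' : ℕ} (hp' : p'.Prime)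
    (hd : p' ∣ Nat.card (centralizer ({x} : Set G))) :
    p' ∣ (3 ^ (2 * m + 1)) ^ 2 - 3 ^ (2 * m + 1) + 1 := by
  have : Fact p'.Prime := ⟨hp'⟩
  obtain ⟨y, hy⟩ := exists_prime_orderOf_dvd_card' (G := centralizer ({x} : Set G)) p' hd
  have hy' : orderOf (y : G) = p' := by rw [Subgroup.orderOf_coe, hy]
  exact prime_dvd_M h hp hpd hx hp' hy' (mem_cent.1 y.2).symm

include h hp hpd hx in
/-- an element commuting with a non-trivial element of `C(x)` lies in `C(x)` -/
theorem cent_cent {y : G} (hy : y ∈ centralizer ({x} : Set G)) (hy1 : y ≠ 1) {g : G}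
    (hg : Commute g y) : g ∈ centralizer ({x} : Set G) := by
  have ho1 : orderOf y ≠ 1 := fun e => hy1 (orderOf_eq_one_iff.1 e)
  have ho0 : orderOf y ≠ 0 := (orderOf_pos y).ne'
  obtain ⟨p', hp', hp'd⟩ := Nat.exists_prime_and_dvd ho1
  obtain ⟨y', hy'def⟩ : ∃ y' : G, y' = y ^ (orderOf y / p') := ⟨_, rfl⟩
  have hy' : orderOf y' = p' := by rw [hy'def]; exact orderOf_pow_orderOf_div ho0 hp'd
  have hxy' : Commute x y' := by
    rw [hy'def]
    exact ((mem_cent.1 hy).symm).pow_right _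
  have hgy' : Commute g y' := by
    rw [hy'def]
    exact hg.pow_right _
  have hp'M := prime_dvd_M h hp hpd hx hp' hy' hxy'
  exact mem_cent.2 (h.pi_comm p' hp' hp'M y' hy' g x hgy' hxy')

include h hp hpd hx in
theorem cent_hall : ∀ p' : ℕ, p'.Prime → p' ∣ Nat.card (centralizer ({x} : Set G)) →
    ∃ P : Sylow p' G, (P : Subgroup G) ≤ centralizer ({x} : Set G) := by
  intro p' hp' hd
  have : Fact p'.Prime := ⟨hp'⟩
  have hQ := qdata m
  have hp'M := prime_dvd_card_cent h hp hpd hx hp' hd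
  have h3 := hQ.three_lt hp' hp'M
  obtain ⟨y, hy⟩ := exists_prime_orderOf_dvd_card' (G := centralizer ({x} : Set G)) p' hd
  have hy' : orderOf (y : G) = p' := by rw [Subgroup.orderOf_coe, hy]
  have hpg : IsPGroup p' ↥(zpowers (y : G)) := by
    apply IsPGroup.of_card (n := 1)
    rw [Nat.card_zpowers, pow_one, hy']
  obtain ⟨P, hP⟩ := hpg.exists_le_sylow
  refine ⟨P, ?_⟩
  intro g hg
  have hcyc := h.sylow_cyc p' hp' h3 P
  have hgy : Commute g (y : G) := by
    have hyP : (y : G) ∈ (P : Subgroup G) := hP (mem_zpowers _)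
    have := (IsCyclic.commGroup (α := (P : Subgroup G))).mul_comm ⟨g, hg⟩ ⟨y, hyP⟩
    exact congrArg Subtype.val this
  have hxy : Commute x (y : G) := (mem_cent.1 y.2).symm
  exact mem_cent.2 (h.pi_comm p' hp' hp'M y hy' g x hgy hxy)

include h hp hpd hx in
theorem cent_cyclic : IsCyclic (centralizer ({x} : Set G)) := by
  have hQ := qdata m
  letI : CommGroup (centralizer ({x} : Set G)) :=
    { (inferInstance : Group (centralizer ({x} : Set G))) with
      mul_comm := fun a b => Subtype.ext (cent_comm h hp hpd hx a a.2 b b.2).eq }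
  haveI : IsZGroup (centralizer ({x} : Set G)) := by
    refine ⟨fun p' hp' P => ?_⟩
    have : Fact p'.Prime := ⟨hp'⟩
    by_cases hd : p' ∣ Nat.card (centralizer ({x} : Set G))
    · have hp'M := prime_dvd_card_cent h hp hpd hx hp' hd
      have h3 := hQ.three_lt hp' hp'M
      -- the image of `P` in `G` lies in a cyclic Sylow subgroup
      obtain ⟨P', hP'def⟩ : ∃ P' : Subgroup G,
          P' = (P : Subgroup (centralizer ({x} : Set G))).map (centralizer ({x} : Set G)).subtype :=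
        ⟨_, rfl⟩
      have e : (P : Subgroup (centralizer ({x} : Set G))) ≃* P' := by
        rw [hP'def]
        exact (P : Subgroup (centralizer ({x} : Set G))).equivMapOfInjective _
          (Subgroup.subtype_injective _)
      have hpg : IsPGroup p' P' := by
        rw [hP'def]
        exact P.2.map _
      obtain ⟨Q, hQ'⟩ := hpg.exists_le_sylow
      have hcyc := h.sylow_cyc p' hp' h3 Q
      have e2 : P'.subgroupOf (Q : Subgroup G) ≃* P' := Subgroup.subgroupOfEquivOfLe hQ'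
      have c1 : IsCyclic (P'.subgroupOf (Q : Subgroup G)) := inferInstance
      have c2 : IsCyclic P' := isCyclic_of_surjective e2 e2.surjective
      exact isCyclic_of_surjective e.symm e.symm.surjective
    · have hcard := P.card_eq_multiplicity
      rw [Nat.factorization_eq_zero_of_not_dvd hd, pow_zero] at hcard
      have : Subsingleton (P : Subgroup (centralizer ({x} : Set G))) :=
        (Nat.card_eq_one_iff_unique.1 hcard).1
      infer_instance
  infer_instance

include h hp hpd hx in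
theorem cent_sc : SC (centralizer ({x} : Set G)) (centralizer ({x} : Set G)) where
  le := le_rfl
  cyc := cent_cyclic h hp hpd hx
  cent := fun y hy hy1 g hg => cent_cent h hp hpd hx hy hy1 hg
  comm := cent_comm h hp hpd hx
  uniq := fun X hX _ => hX
  hall := cent_hall h hp hpd hx

include h hp hpd hx in
theorem card_cent_dvd : Nat.card (centralizer ({x} : Set G)) ∣
    (3 ^ (2 * m + 1)) ^ 2 - 3 ^ (2 * m + 1) + 1 := by
  have hQ := qdata m
  have hcard := h.card
  have key : ∀ p' : ℕ, p'.Prime → p' ∣ Nat.card (centralizer ({x} : Set G)) →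
      p' ∣ (3 ^ (2 * m + 1)) ^ 2 - 3 ^ (2 * m + 1) + 1 :=
    fun p' hp' hd => prime_dvd_card_cent h hp hpd hx hp' hd
  obtain ⟨q, hqdef⟩ : ∃ q : ℕ, q = 3 ^ (2 * m + 1) := ⟨_, rfl⟩
  rw [← hqdef] at hQ hcard key ⊢
  have hdvd : Nat.card (centralizer ({x} : Set G)) ∣ Nat.card G := Subgroup.card_subgroup_dvd_card _
  rw [hcard, hQ.cube, ← mul_assoc] at hdvd
  apply Nat.Coprime.dvd_of_dvd_mul_left _ hdvd
  apply Nat.coprime_of_dvd
  intro k hk hkA hkd
  have hkM := key k hk hkA
  rcases (Nat.Prime.dvd_mul hk).1 hkd with h1 | h1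
  · rcases (Nat.Prime.dvd_mul hk).1 h1 with h2 | h2
    · exact hQ.not_dvd_q hk hkM (hk.dvd_of_dvd_pow h2)
    · exact hQ.not_dvd_pred hk hkM h2
  · exact hQ.not_dvd_succ hk hkM h1

/-- iterated conjugation -/
theorem conj_pow_eq {g x : G} {k : ℕ} (hg : g * x * g⁻¹ = x ^ k) (n : ℕ) :
    g ^ n * x * (g ^ n)⁻¹ = x ^ (k ^ n) := by
  induction n with
  | zero => simp
  | succ n ih =>
    have e : g ^ (n + 1) * x * (g ^ (n + 1))⁻¹ = g * (g ^ n * x * (g ^ n)⁻¹) * g⁻¹ := by
      rw [pow_succ']; group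
    rw [e, ih]
    have e2 : g * x ^ k ^ n * g⁻¹ = (g * x * g⁻¹) ^ (k ^ n) := by
      rw [conj_pow]
    rw [e2, hg, ← pow_mul, ← pow_succ']

include h hp hpd hx in
/-- the sixth power of an element of `N(<x>)` centralises `x` -/
theorem pow_six_commute {g : G} (hg : g ∈ normalizer ((zpowers x : Subgroup G) : Set G)) :
    g ^ 6 * x * (g ^ 6)⁻¹ = x := by
  have hQ := qdata m
  have h6 := hQ.pow_six hp hpd
  have hmem : g * x * g⁻¹ ∈ zpowers x := (mem_normalizer_iff.1 hg x).1 (mem_zpowers x)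
  rw [← mem_powers_iff_mem_zpowers] at hmem
  obtain ⟨k, hk⟩ := hmem
  have hk' : g * x * g⁻¹ = x ^ k := hk.symm
  obtain ⟨i, -, hi⟩ := h.pi_norm p hp hpd x hx g k hk'
  rw [conj_pow_eq hk' 6]
  have e : k ^ 6 ≡ 1 [MOD p] := by
    have h1 := hi.pow 6
    have h2 : ((3 ^ (2 * m + 1)) ^ i) ^ 6 = ((3 ^ (2 * m + 1)) ^ 6) ^ i := pow_right_comm _ _ _
    rw [h2] at h1
    have h3 := h6.pow i
    rw [one_pow] at h3
    exact h1.trans h3
  have e2 : x ^ k ^ 6 = x ^ 1 := by
    rw [pow_eq_pow_iff_modEq, hx]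
    exact e
  rw [e2, pow_one]

include h hp hpd hx in
theorem card_normalizer : ∃ e : ℕ, e ∣ 6 ∧
    Nat.card (normalizer ((centralizer ({x} : Set G) : Subgroup G) : Set G)) =
      e * Nat.card (centralizer ({x} : Set G)) := by
  have hsc := cent_sc h hp hpd hx
  have hx1 : x ≠ 1 := by
    intro e
    rw [e, orderOf_one] at hx
    exact hp.one_lt.ne hx
  have hXle : zpowers x ≤ centralizer ({x} : Set G) := by
    rw [zpowers_le]
    exact mem_cent.2 (Commute.refl x)
  have hXne : zpowers x ≠ ⊥ := by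
    intro e
    rw [zpowers_eq_bot] at e
    exact hx1 e
  have hN : normalizer ((zpowers x : Subgroup G) : Set G) =
      normalizer ((centralizer ({x} : Set G) : Subgroup G) : Set G) :=
    hsc.normalizer_eq (zpowers x) hXle hXne
  have hC : centralizer ((zpowers x : Subgroup G) : Set G) = centralizer ({x} : Set G) :=
    hsc.centralizer_eq (zpowers x) hXle hXne
  rw [← hN]
  -- the homomorphism `N(<x>) → Aut(<x>)`
  obtain ⟨φ, hφ⟩ : ∃ φ : normalizer ((zpowers x : Subgroup G) : Set G) →* MulAut (zpowers x),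
      φ = (zpowers x).normalizerMonoidHom := ⟨_, rfl⟩
  have hker : φ.ker = (centralizer ((zpowers x : Subgroup G) : Set G)).subgroupOf
      (normalizer ((zpowers x : Subgroup G) : Set G)) := by
    rw [hφ]; exact normalizerMonoidHom_ker _
  have hCle : centralizer ((zpowers x : Subgroup G) : Set G) ≤
      normalizer ((zpowers x : Subgroup G) : Set G) := by
    rw [hC, hN]
    exact le_normalizer
  have hcardker : Nat.card φ.ker = Nat.card (centralizer ({x} : Set G)) := by
    rw [hker, ← hC]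
    exact Nat.card_congr (Subgroup.subgroupOfEquivOfLe hCle).toEquiv
  refine ⟨Nat.card φ.range, ?_, ?_⟩
  · -- `Aut(<x>)` is cyclic, and sixth powers are trivial on the range
    have : Fact (Nat.card (zpowers x)).Prime := ⟨by rw [Nat.card_zpowers, hx]; exact hp⟩
    have e0 := IsCyclic.mulAutMulEquiv (zpowers x)
    have c0 : IsCyclic (MulAut (zpowers x)) := isCyclic_of_surjective e0.symm e0.symm.surjective
    have c1 : IsCyclic φ.range := inferInstance
    obtain ⟨c, hc⟩ := c1.exists_generator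
    have hord : orderOf c = Nat.card φ.range := orderOf_eq_card_of_forall_mem_zpowers hc
    rw [← hord]
    apply orderOf_dvd_of_pow_eq_one
    obtain ⟨g, hg⟩ := c.2
    apply Subtype.ext
    rw [SubgroupClass.coe_pow, ← hg, ← map_pow, Subgroup.coe_one]
    -- `φ (g ^ 6) = 1`
    have h6 := pow_six_commute h hp hpd hx g.2
    ext z
    obtain ⟨j, hj⟩ := mem_zpowers_iff.1 z.2
    rw [hφ, MulAut.one_apply, normalizerMonoidHom_apply_apply_coe]
    show ((g ^ 6 : normalizer ((zpowers x : Subgroup G) : Set G)) : G) * (z : G) *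
      ((g ^ 6 : normalizer ((zpowers x : Subgroup G) : Set G)) : G)⁻¹ = z
    rw [SubgroupClass.coe_pow, ← hj]
    have e3 : (g : G) ^ 6 * x ^ j * ((g : G) ^ 6)⁻¹ = ((g : G) ^ 6 * x * ((g : G) ^ 6)⁻¹) ^ j := by
      rw [conj_zpow]
    rw [e3, h6]
  · have h1 := Subgroup.card_mul_index φ.ker
    rw [Subgroup.index_ker, hcardker] at h1
    rw [← h1, mul_comm]

end main

theorem R1_pi_structure {G : Type*} [Group G] [Finite G] {m : ℕ} (h : ReeHyp G m) (p : ℕ)
    (hp : p.Prime) (hpd : p ∣ (3 ^ (2 * m + 1)) ^ 2 - 3 ^ (2 * m + 1) + 1) (x : G)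
    (hx : orderOf x = p) :
    SC (Subgroup.centralizer ({x} : Set G)) (Subgroup.centralizer ({x} : Set G)) ∧
      Nat.card (Subgroup.centralizer ({x} : Set G)) ∣
        (3 ^ (2 * m + 1)) ^ 2 - 3 ^ (2 * m + 1) + 1 ∧
      ∃ e : ℕ, e ∣ 6 ∧
        Nat.card (Subgroup.normalizer ((Subgroup.centralizer ({x} : Set G) : Subgroup G) : Set G)) =
          e * Nat.card (Subgroup.centralizer ({x} : Set G)) :=
  ⟨cent_sc h hp hpd hx, card_cent_dvd h hp hpd hx, card_normalizer h hp hpd hx⟩

end Cfsg.Agent.Helper11.ReeR1
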