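import Mathlib
import Cfsg.Agent.Helper27.S0429Defs

/-! # s0429pieces COUNT6 / COUNT2: the trace bijection, with TRACE, RECON, BUILD as hypotheses (helper11) -/

set_option autoImplicit false

namespace Cfsg.Agent.S0429P

open Finset

variable {V : Type*} [Fintype V] [DecidableEq V] {G : SimpleGraph V} [DecidableRel G.Adj]

/-- the trace map `C ↦ C ∩ Pt a x` is a bijection from the 21-cocliques through `a` onto the ovoids. -/
theorem COUNT_aux_core6 {a x : V}
    (hT : ∀ {C : Finset V}, C ∈ Coc21 G → a ∈ C → C ∩ Pt G a x ∈ ovs G a x)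
    (hR : ∀ {C : Finset V}, C ∈ Coc21 G → a ∈ C →
      C = insert a ((C ∩ Pt G a x).biUnion (cls G a)))
    (hBd : ∀ {O : Finset V}, O ∈ ovs G a x → insert a (O.biUnion (cls G a)) ∈ Coc21 G ∧
      insert a (O.biUnion (cls G a)) ∩ Pt G a x = O) :
    ((Coc21 G).filter (fun C => a ∈ C)).card = (ovs G a x).card := by
  apply Finset.card_bij (fun C _ => C ∩ Pt G a x)
  · intro C hC
    rw [Finset.mem_filter] at hC
    exact hT hC.1 hC.2
  · intro C hC D hD hCD
    rw [Finset.mem_filter] at hC hD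
    rw [hR hC.1 hC.2, hR hD.1 hD.2]
    rw [hCD]
  · intro O hO
    obtain ⟨h1, h2⟩ := hBd hO
    exact ⟨insert a (O.biUnion (cls G a)),
      Finset.mem_filter.mpr ⟨h1, Finset.mem_insert_self _ _⟩, h2⟩

/-- the same bijection, restricted to the cocliques through a point `p` of `Pt a x`. -/
theorem COUNT_aux_core2 {a x p : V} (hp : p ∈ Pt G a x)
    (hT : ∀ {C : Finset V}, C ∈ Coc21 G → a ∈ C → C ∩ Pt G a x ∈ ovs G a x)
    (hR : ∀ {C : Finset V}, C ∈ Coc21 G → a ∈ C →
      C = insert a ((C ∩ Pt G a x).biUnion (cls G a)))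
    (hBd : ∀ {O : Finset V}, O ∈ ovs G a x → insert a (O.biUnion (cls G a)) ∈ Coc21 G ∧
      insert a (O.biUnion (cls G a)) ∩ Pt G a x = O) :
    ((Coc21 G).filter (fun C => a ∈ C ∧ p ∈ C)).card
      = ((ovs G a x).filter (fun O => p ∈ O)).card := by
  apply Finset.card_bij (fun C _ => C ∩ Pt G a x)
  · intro C hC
    rw [Finset.mem_filter] at hC
    rw [Finset.mem_filter]
    exact ⟨hT hC.1 hC.2.1, Finset.mem_inter.mpr ⟨hC.2.2, hp⟩⟩
  · intro C hC D hD hCD
    rw [Finset.mem_filter] at hC hD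
    rw [hR hC.1 hC.2.1, hR hD.1 hD.2.1]
    rw [hCD]
  · intro O hO
    rw [Finset.mem_filter] at hO
    obtain ⟨h1, h2⟩ := hBd hO.1
    refine ⟨insert a (O.biUnion (cls G a)), Finset.mem_filter.mpr ⟨h1, Finset.mem_insert_self _ _, ?_⟩, h2⟩
    have : p ∈ insert a (O.biUnion (cls G a)) ∩ Pt G a x := by rw [h2]; exact hO.2
    exact (Finset.mem_inter.mp this).1

end Cfsg.Agent.S0429P
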