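import Mathlib
import Cfsg.Agent.Helper27.S0996Defs
import Cfsg.Agent.Helper11.OrderP
import Cfsg.Agent.Helper11.SylowCount
import Cfsg.Agent.Helper11.Transfer

set_option autoImplicit false

/-! # S0996 pieces GS1 (`exists_hyp`), GS2 (`card_facts`), GS2' (`exists_sylow_eq`) -/

namespace Cfsg.Agent.Helper11.S0996GS

open Cfsg Cfsg.Agent.Helper24 Cfsg.Agent.Helper1.W2p Cfsg.Agent.S0996P

universe u

variable {G : Type u} [Group G]

theorem centralizer_zpowers_eq (z : G) :
    Subgroup.centralizer ((Subgroup.zpowers z : Subgroup G) : Set G) =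
      Subgroup.centralizer ({z} : Set G) := by
  apply le_antisymm
  · apply Subgroup.centralizer_le
    intro x hx
    rw [Set.mem_singleton_iff] at hx
    subst hx
    exact Subgroup.mem_zpowers x
  · intro h hh
    rw [Subgroup.mem_centralizer_iff] at hh ⊢
    intro g hg
    obtain ⟨k, rfl⟩ := Subgroup.mem_zpowers_iff.1 hg
    have hc : Commute z h := hh z rfl
    exact (hc.zpow_left k).eq

/-- A generator of `P` with the hypotheses of `exists_sylow_eq_zpowers_of_centralizer`. -/
theorem exists_gen [Finite G] {p : ℕ} [Fact p.Prime] {P : Subgroup G} {n : ℕ} (H : Hyp p P n) :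
    ∃ z : G, orderOf z = p ∧ P = Subgroup.zpowers z ∧
      Subgroup.centralizer ({z} : Set G) = Subgroup.zpowers z := by
  have hp : p.Prime := Fact.out
  have hnt : Nontrivial ↥P := by
    rw [← Finite.one_lt_card_iff_nontrivial, H.card_P]
    exact hp.one_lt
  obtain ⟨w, hw⟩ := exists_ne (1 : ↥P)
  have hw1 : (w : G) ≠ 1 := fun h => hw (Subtype.ext h)
  have hPz : P = Subgroup.zpowers (w : G) :=
    Cfsg.Agent.Helper11.eq_zpowers_of_card_prime P H.card_P _ w.2 hw1
  refine ⟨w, ?_, hPz, ?_⟩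
  · rw [← Nat.card_zpowers, ← hPz, H.card_P]
  · rw [← centralizer_zpowers_eq, ← hPz, H.cent]

end Cfsg.Agent.Helper11.S0996GS

namespace Cfsg.Agent.S0996P

open Cfsg Cfsg.Agent.Helper24 Cfsg.Agent.Helper1.W2p

universe u

variable {G : Type u} [Group G]

section L1
variable [Finite G] {p : ℕ} [Fact p.Prime] {P : Subgroup G} {n : ℕ}

/-- GS1 -/
theorem exists_hyp (hperf : commutator G = ⊤) (p : ℕ) [Fact p.Prime] (z : G)
    (hz : orderOf z = p) (hC : Subgroup.centralizer ({z} : Set G) = Subgroup.zpowers z)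
    (hn : 2 * Nat.card (Sylow p G) < (p + 1) * (p + 2)) :
    ∃ (P : Subgroup G) (n : ℕ), Hyp p P n := by
  have hp : p.Prime := Fact.out
  have hmod : Nat.card (Sylow p G) ≡ 1 [MOD p] := card_sylow_modEq_one p G
  have hpos : 0 < Nat.card (Sylow p G) := Nat.card_pos
  obtain ⟨n, hn'⟩ : ∃ n, Nat.card (Sylow p G) = 1 + n * p := by
    refine ⟨(Nat.card (Sylow p G) - 1) / p, ?_⟩
    have h1 : p ∣ Nat.card (Sylow p G) - 1 := (Nat.modEq_iff_dvd' hpos).1 hmod.symm
    rw [Nat.div_mul_cancel h1]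
    omega
  refine ⟨Subgroup.zpowers z, n, ?_, ?_, hperf, hn', ?_⟩
  · rw [Nat.card_zpowers, hz]
  · rw [Cfsg.Agent.Helper11.S0996GS.centralizer_zpowers_eq, hC]
  · rw [hn'] at hn
    by_contra hcon
    rw [not_lt] at hcon
    have h2 : (p + 3) * p ≤ 2 * n * p := Nat.mul_le_mul_right p hcon
    nlinarith

/-- GS2' -/
theorem exists_sylow_eq (H : Hyp p P n) : ∃ S : Sylow p G, (S : Subgroup G) = P := by
  obtain ⟨z, hz, hPz, hC⟩ := Cfsg.Agent.Helper11.S0996GS.exists_gen H
  obtain ⟨S, hS⟩ := Cfsg.Agent.Helper11.exists_sylow_eq_zpowers_of_centralizer z hz hC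
  exact ⟨S, by rw [hS, hPz]⟩

/-- GS2 -/
theorem card_facts (H : Hyp p P n) :
    Nat.card (NP P) = p * eN P ∧ (NP P).index = 1 + n * p ∧
      Nat.card G = p * eN P * (1 + n * p) ∧ eN P ∣ p - 1 := by
  have hp : p.Prime := Fact.out
  obtain ⟨S, hS⟩ := exists_sylow_eq H
  have hcardN : Nat.card (NP P) = p * eN P := by
    have h := Subgroup.relIndex_mul_relIndex (⊥ : Subgroup G) P (NP P) bot_le
      (Subgroup.le_normalizer)
    rw [Subgroup.relIndex_bot_left, Subgroup.relIndex_bot_left, H.card_P] at h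
    exact h.symm
  have hidx : (NP P).index = 1 + n * p := by
    have h := S.card_eq_index_normalizer
    rw [H.sylow] at h
    rw [h, ← hS]
    rfl
  refine ⟨hcardN, hidx, ?_, ?_⟩
  · rw [← hcardN, ← hidx]
    exact ((NP P).card_mul_index).symm
  · have h1 := Cfsg.Agent.Helper11.relIndex_centralizer_normalizer_dvd_card_mulAut P
    have : IsCyclic ↥P := isCyclic_of_prime_card H.card_P
    rw [IsCyclic.card_mulAut, H.card_P, Nat.totient_prime hp, H.cent] at h1
    exact h1

end L1

end Cfsg.Agent.S0996P
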