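import Mathlib
import Cfsg.Agent.Helper27.S0996Defs
import Cfsg.Prelude.Def_LieExceptional
import Cfsg.Agent.S0731
import Cfsg.Agent.Helper18.PSL27b

set_option autoImplicit false

/-! # S0996 piece ZB (`psl_of_n_one`) -/

namespace Cfsg.Agent.Helper11.S0996ZB

open Cfsg

/-- A sharply 3-transitive group on `Ω` has order `|Ω| (|Ω|-1) (|Ω|-2)`. -/
theorem card_of_sharp3 {G Ω : Type*} [Group G] [MulAction G Ω] [Finite Ω]
    (h3 : MulAction.IsMultiplyPretransitive G Ω 3)
    (hs : ∀ t : Fin 3 ↪ Ω, MulAction.stabilizer G t = ⊥) (hc : 3 ≤ Nat.card Ω) :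
    Nat.card G = (Nat.card Ω).descFactorial 3 := by
  classical
  have : Fintype Ω := Fintype.ofFinite Ω
  rw [Nat.card_eq_fintype_card (α := Ω)] at hc ⊢
  obtain ⟨t0⟩ : Nonempty (Fin 3 ↪ Ω) :=
    Function.Embedding.nonempty_of_card_le (by rw [Fintype.card_fin]; exact hc)
  have hpre : MulAction.IsPretransitive G (Fin 3 ↪ Ω) := h3
  have hbij : Function.Bijective (fun g : G => g • t0) := by
    constructor
    · intro g h hgh
      have hmem : h⁻¹ * g ∈ MulAction.stabilizer G t0 := by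
        rw [MulAction.mem_stabilizer_iff, mul_smul]
        show h⁻¹ • (g • t0) = t0
        have h1 : g • t0 = h • t0 := hgh
        rw [h1, inv_smul_smul]
      rw [hs t0, Subgroup.mem_bot] at hmem
      have : g = h * (h⁻¹ * g) := by group
      rw [this, hmem, mul_one]
    · intro t
      obtain ⟨g, hg⟩ := MulAction.exists_smul_eq G t0 t
      exact ⟨g, hg⟩
  rw [Nat.card_eq_of_bijective _ hbij, Nat.card_eq_fintype_card, Fintype.card_embedding_eq,
    Fintype.card_fin]

theorem strictMono_aux {a b : ℕ} (ha : 1 ≤ a) (hb : 1 ≤ b)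
    (h : (a - 1) * a * (a + 1) = (b - 1) * b * (b + 1)) : a = b := by
  obtain ⟨a, rfl⟩ : ∃ a', a = a' + 1 := ⟨a - 1, by omega⟩
  obtain ⟨b, rfl⟩ : ∃ b', b = b' + 1 := ⟨b - 1, by omega⟩
  simp only [Nat.add_sub_cancel] at h
  rcases lt_trichotomy a b with hlt | heq | hgt
  · exfalso
    have h1 : a * (a + 1) ≤ b * (b + 1) := Nat.mul_le_mul hlt.le (by omega)
    have h2 : a * (a + 1) * (a + 1 + 1) < b * (b + 1) * (b + 1 + 1) := by
      have hbpos : 0 < b * (b + 1) := Nat.mul_pos (by omega) (by omega)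
      calc a * (a + 1) * (a + 1 + 1) ≤ b * (b + 1) * (a + 1 + 1) := Nat.mul_le_mul_right _ h1
        _ < b * (b + 1) * (b + 1 + 1) := Nat.mul_lt_mul_of_pos_left (by omega) hbpos
    omega
  · rw [heq]
  · exfalso
    have h1 : b * (b + 1) ≤ a * (a + 1) := Nat.mul_le_mul hgt.le (by omega)
    have h2 : b * (b + 1) * (b + 1 + 1) < a * (a + 1) * (a + 1 + 1) := by
      have hapos : 0 < a * (a + 1) := Nat.mul_pos (by omega) (by omega)
      calc b * (b + 1) * (b + 1 + 1) ≤ a * (a + 1) * (b + 1 + 1) := Nat.mul_le_mul_right _ h1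
        _ < a * (a + 1) * (a + 1 + 1) := Nat.mul_lt_mul_of_pos_left (by omega) hapos
    omega

theorem arith_aux {N q : ℕ} (hq2 : 2 ≤ q)
    (h : N * 2 * (q - 1) = (q ^ 2 - 1) * (q ^ 2 - q)) : 2 * N = (q - 1) * q * (q + 1) := by
  obtain ⟨m, rfl⟩ : ∃ m, q = m + 1 := ⟨q - 1, by omega⟩
  have hm : 0 < m := by omega
  simp only [Nat.add_sub_cancel] at h ⊢
  have e1 : (m + 1) ^ 2 - 1 = m * (m + 2) := by
    have : (m + 1) ^ 2 = m * (m + 2) + 1 := by ring
    omega
  have e2 : (m + 1) ^ 2 - (m + 1) = m * (m + 1) := by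
    have : (m + 1) ^ 2 = m * (m + 1) + (m + 1) := by ring
    omega
  rw [e1, e2] at h
  apply Nat.eq_of_mul_eq_mul_right hm
  calc 2 * N * m = N * 2 * m := by ring
    _ = m * (m + 2) * (m * (m + 1)) := h
    _ = m * (m + 1) * (m + 1 + 1) * m := by ring

/-- `2 |PSL(2,K)| = (q-1) q (q+1)` for `q = |K|` odd. -/
theorem two_mul_card_psl2 {K : Type*} [Field K] [Fintype K] (hK : ringChar K ≠ 2) :
    2 * Nat.card (Matrix.ProjectiveSpecialLinearGroup (Fin 2) K) =
      (Fintype.card K - 1) * Fintype.card K * (Fintype.card K + 1) := by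
  have hq2 : 2 ≤ Fintype.card K := Fintype.one_lt_card
  have hodd : Fintype.card K % 2 = 1 := by
    have hr : (ringChar K).Prime := CharP.char_is_prime K (ringChar K)
    obtain ⟨n, hpn, hcard⟩ := FiniteField.card K (ringChar K)
    rw [hcard]
    have h2 : ringChar K % 2 = 1 := by
      rcases hr.eq_two_or_odd with h | h
      · exact absurd h hK
      · exact h
    rw [Nat.pow_mod, h2, one_pow]
    norm_num
  have h := Cfsg.Agent.Helper18.PSL27.card_psl2 (F := K) (Fintype.card K) rfl hq2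
  have hg : Nat.gcd 2 (Fintype.card K - 1) = 2 := by
    apply Nat.gcd_eq_left
    omega
  rw [hg] at h
  exact arith_aux hq2 h

end Cfsg.Agent.Helper11.S0996ZB

namespace Cfsg.Agent.S0996P

open Cfsg Cfsg.Agent.Helper24 Cfsg.Agent.Helper1.W2p

universe u

variable {G : Type u} [Group G]

section L7
variable [Finite G] {p : ℕ} [Fact p.Prime] {P : Subgroup G} {n : ℕ}

/-- ZB -/
theorem psl_of_n_one (B : Basic p P 1) (ht : 2 * eN P = p - 1)
    (hZ : Cfsg.IsZassenhausGroup G (G ⧸ NP P))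
    (hreg : ∀ y z : G ⧸ NP P, y ≠ ((1 : G) : G ⧸ NP P) → z ≠ ((1 : G) : G ⧸ NP P) →
        ∃! u : ↥P, (u : G) • y = z) :
    ∃ (F : Type) (_ : Field F) (_ : Fintype F), Fintype.card F = p ∧ 3 < p ∧
      Nonempty (G ≃* Matrix.ProjectiveSpecialLinearGroup (Fin 2) F) := by
  have hp : p.Prime := Fact.out
  have h5 : 5 ≤ p := B.five_le
  have hstab : MulAction.stabilizer G (((1 : G) : G ⧸ NP P)) = NP P :=
    MulAction.stabilizer_quotient (NP P)
  have hFle : P ≤ MulAction.stabilizer G (((1 : G) : G ⧸ NP P)) := by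
    rw [hstab]; exact Subgroup.le_normalizer
  have hFn : (P.subgroupOf (MulAction.stabilizer G (((1 : G) : G ⧸ NP P)))).Normal := by
    rw [hstab]; exact Subgroup.normal_in_normalizer
  have hcyc : IsCyclic ↥P := isCyclic_of_prime_card B.card_P
  have hFab : IsMulCommutative ↥P := ⟨⟨fun a b => by
    let _ := IsCyclic.commGroup (α := ↥P)
    exact mul_comm a b⟩⟩
  have hcardΩ : Nat.card (G ⧸ NP P) = p + 1 := by
    have := B.index_NP
    rw [Subgroup.index] at this
    rw [this]; ring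
  have hG2 : 2 * Nat.card G = (p - 1) * p * (p + 1) := by
    rw [B.card_G]
    calc 2 * (p * eN P * (1 + 1 * p)) = (2 * eN P) * p * (p + 1) := by ring
      _ = (p - 1) * p * (p + 1) := by rw [ht]
  rcases Cfsg.Agent.S0731.result hZ (((1 : G) : G ⧸ NP P)) P hFle hFn hFab hreg with
    ⟨h3, hs⟩ | ⟨K, iF, iT, hchar, ⟨e⟩⟩
  · exfalso
    have hc := Cfsg.Agent.Helper11.S0996ZB.card_of_sharp3 h3 hs (by rw [hcardΩ]; omega)
    rw [hcardΩ] at hc
    have hd : (p + 1).descFactorial 3 = (p - 1) * p * (p + 1) := by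
      have h0 : (p + 1).descFactorial 3 = (p + 1 - 2) * ((p + 1 - 1) * ((p + 1 - 0) * 1)) := rfl
      have h1 : p + 1 - 2 = p - 1 := by omega
      rw [h0, h1, Nat.add_sub_cancel, Nat.sub_zero]; ring
    rw [hd] at hc
    rw [hc] at hG2
    have hpos : 0 < (p - 1) * p * (p + 1) :=
      Nat.mul_pos (Nat.mul_pos (by omega) (by omega)) (by omega)
    omega
  · refine ⟨K, iF, iT, ?_, by omega, ⟨e⟩⟩
    have hK := Cfsg.Agent.Helper11.S0996ZB.two_mul_card_psl2 (K := K) hchar
    rw [← Nat.card_congr e.toEquiv, hG2] at hK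
    have hq1 : 1 ≤ Fintype.card K := Fintype.card_pos
    exact (Cfsg.Agent.Helper11.S0996ZB.strictMono_aux (by omega) hq1 hK).symm

end L7

end Cfsg.Agent.S0996P
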