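import Cfsg.Agent.Helper22.S1589Basic
import Cfsg.Agent.Helper14.S1589FOURTRANS
import Cfsg.Agent.Helper14.S1589PERM253
import Cfsg.Agent.Helper27.S1589LB
import Cfsg.Agent.Helper27.S1589LA

/-! S1589 piece PART4 (helper11): `M24` has no subgroup of index 253 (order 967680). -/

set_option autoImplicit false
set_option linter.all false

namespace Cfsg.Agent.S1589P

open Cfsg Cfsg.Agent.Helper27 Cfsg.Agent.Helper17.M23Idx
open scoped Pointwise

variable {K : Subgroup (Equiv.Perm GolayPt)}

namespace PART4

/-- arithmetic: `967680 = n * m`, `m ∣ 10200960`, `n ≤ 24` force `n = 24` -/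
theorem orbit_eq {n m : ℕ} (h : 967680 = n * m) (hm : m ∣ 10200960) (hn : n ≤ 24) : n = 24 := by
  have hn0 : n ≠ 0 := by
    rintro rfl
    simp at h
  have h8 : 8 ∣ n := by
    -- `2 ^ 10 ∣ n * m` and `2 ^ 8 ∤ m`
    have h1 : 2 ^ 10 ∣ n * m := by rw [← h]; norm_num
    have h2 : ¬ 2 ^ 8 ∣ m := fun hh => by
      have := hh.trans hm
      norm_num at this
    by_contra hcon
    -- the 2-adic valuations
    have hm0 : m ≠ 0 := by
      rintro rfl
      simp at h
    have hv : 10 ≤ (n * m).factorization 2 :=
      (Nat.Prime.pow_dvd_iff_le_factorization Nat.prime_two (Nat.mul_ne_zero hn0 hm0)).mp h1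
    rw [Nat.factorization_mul hn0 hm0, Finsupp.add_apply] at hv
    have hvm : m.factorization 2 < 8 := by
      by_contra hge
      rw [not_lt] at hge
      exact h2 ((Nat.Prime.pow_dvd_iff_le_factorization Nat.prime_two hm0).mpr hge)
    have hvn : 3 ≤ n.factorization 2 := by omega
    exact hcon ((Nat.Prime.pow_dvd_iff_le_factorization Nat.prime_two hn0).mpr hvn)
  have h3 : 3 ∣ n := by
    have h1 : 3 ^ 3 ∣ n * m := by rw [← h]; norm_num
    have h2 : ¬ 3 ^ 3 ∣ m := fun hh => by
      have := hh.trans hm
      norm_num at this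
    by_contra hcon
    have hm0 : m ≠ 0 := by
      rintro rfl
      simp at h
    have hv : 3 ≤ (n * m).factorization 3 :=
      (Nat.Prime.pow_dvd_iff_le_factorization Nat.prime_three (Nat.mul_ne_zero hn0 hm0)).mp h1
    rw [Nat.factorization_mul hn0 hm0, Finsupp.add_apply] at hv
    have hvm : m.factorization 3 < 3 := by
      by_contra hge
      rw [not_lt] at hge
      exact h2 ((Nat.Prime.pow_dvd_iff_le_factorization Nat.prime_three hm0).mpr hge)
    have hvn : 1 ≤ n.factorization 3 := by omega
    have := (Nat.Prime.pow_dvd_iff_le_factorization Nat.prime_three hn0).mpr hvn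
    rw [pow_one] at this
    exact hcon this
  have h24 : 24 ∣ n := by
    have : Nat.Coprime 8 3 := by norm_num
    exact this.mul_dvd_of_dvd_of_dvd h8 h3
  obtain ⟨c, rfl⟩ := h24
  have : c = 1 := by
    rcases c with _ | _ | c
    · omega
    · rfl
    · omega
  rw [this]

end PART4

/-- PART4 -/
theorem part4 (hM : K ≤ M24) (hcard : Nat.card K = 967680) : False := by
  classical
  let x : GolayPt := Classical.arbitrary GolayPt
  set Kx := fixH K {x} with hKx
  have hcx := card_eq_orbF_mul K x
  rw [hcard] at hcx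
  have horb : (orbF K x).card = 24 := by
    apply PART4.orbit_eq hcx (card_fixH_dvd hM x)
    have := Finset.card_le_univ (orbF K x)
    rwa [← Finset.card_univ, card_univ_golay] at this
  have hT : Trans K := trans_of_card_orbF horb
  rw [horb] at hcx
  have hKxc : Nat.card Kx = 40320 := by rw [hKx]; omega
  have hKxle : Kx ≤ K := fixH_le K {x}
  have hxfix : ∀ k ∈ Kx, k x = x := fun k hk => ((mem_fixH_singleton K x k).mp hk).2
  rcases perm253 (hKxle.trans hM) hxfix hKxc with ⟨s, hs, hxs, hstab, hfix⟩ | ⟨o, ho, hxo, hst, hfix⟩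
  · refine no_triple hM hT hs hxs hstab ?_ ?_
    · intro a b ha hb
      have hc : (insert x s).card = 3 := by rw [Finset.card_insert_of_notMem hxs, hs]
      obtain ⟨h, hh, hab⟩ := fixG_three_trans hc ha hb
      exact ⟨h, hfix hh, hab⟩
    · rw [← hKx, hKxc]
      norm_num
  · exact no_octad_block hM hT ho (hfix.trans hKxle) hxo hst (by rw [hcard]; norm_num)

end Cfsg.Agent.S1589P
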