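import Cfsg.Agent.Helper22.S1589Basic

/-! S1589 piece RSET (helper11): orbit structure of the point stabiliser `K_x` when `fixG o ≤ K`, `x ∈ o`. -/

set_option autoImplicit false
set_option linter.all false

namespace Cfsg.Agent.S1589P

open Cfsg Cfsg.Agent.Helper27 Cfsg.Agent.Helper17.M23Idx
open scoped Pointwise

variable {K : Subgroup (Equiv.Perm GolayPt)}

/-- RSET -/
theorem exists_rset (hM : K ≤ M24) {o : Finset GolayPt} (ho : o ∈ octads) (hQ : fixG o ≤ K) {x : GolayPt}
    (hxo : x ∈ o) :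
    ∃ R : Finset GolayPt, R ⊆ o.erase x ∧ (∀ k ∈ fixH K {x}, k • R = R) ∧
      (∀ a b : GolayPt, a ∉ insert x R → b ∉ insert x R → ∃ k ∈ fixH K {x}, k a = b) ∧
      (23 - R.card) ∣ Nat.card (fixH K {x}) := by
  classical
  -- a point outside the octad
  have hoc : o.card = 8 := octad_card ho
  obtain ⟨y₀, hy₀⟩ : ∃ y₀ : GolayPt, y₀ ∉ o := by
    by_contra hcon
    push Not at hcon
    have : o = Finset.univ := Finset.eq_univ_of_forall hcon
    rw [this, card_univ_golay] at hoc
    omega
  set Kx := fixH K {x} with hKx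
  -- `fixG o ≤ K_x`
  have hQx : fixG o ≤ Kx := by
    intro g hg
    rw [hKx, mem_fixH_singleton]
    exact ⟨hQ hg, ((mem_fixG _ _).mp hg).2 x hxo⟩
  set B := orbF Kx y₀ with hB
  have hxfix : ∀ k ∈ Kx, k x = x := fun k hk => ((mem_fixH_singleton K x k).mp hk).2
  -- the points outside `o` lie in `B`
  have hBo : ∀ q, q ∉ o → q ∈ B := by
    intro q hq
    obtain ⟨h, hh, hhq⟩ := fixG_octad_trans ho hy₀ hq
    exact (mem_orbF Kx y₀ q).mpr ⟨h, hQx hh, hhq⟩
  have hxB : x ∉ B := by
    intro hx
    obtain ⟨k, hk, hkx⟩ := (mem_orbF Kx y₀ x).mp hx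
    have h1 : k x = x := hxfix k hk
    have : y₀ = x := k.injective (hkx.trans h1.symm)
    exact hy₀ (this ▸ hxo)
  refine ⟨Finset.univ \ insert x B, ?_, ?_, ?_, ?_⟩
  · intro q hq
    rw [Finset.mem_sdiff, Finset.mem_insert, not_or] at hq
    rw [Finset.mem_erase]
    refine ⟨hq.2.1, ?_⟩
    by_contra hqo
    exact hq.2.2 (hBo q hqo)
  · intro k hk
    ext q
    rw [mem_smul_perm_iff, Finset.mem_sdiff, Finset.mem_sdiff, Finset.mem_insert, Finset.mem_insert]
    have hkinv : k⁻¹ ∈ Kx := Kx.inv_mem hk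
    have h1 : k⁻¹ q = x ↔ q = x := by
      constructor
      · intro h
        have : q = k x := by rw [← h]; simp
        rw [this, hxfix k hk]
      · intro h
        rw [h, hxfix k⁻¹ hkinv]
    have h2 : k⁻¹ q ∈ B ↔ q ∈ B := orbF_inv Kx y₀ hkinv q
    rw [h1, h2]
    simp
  · intro a b ha hb
    have haB : a ∈ B := by
      by_contra h
      apply ha
      rw [Finset.mem_insert]
      by_cases hax : a = x
      · exact Or.inl hax
      · right
        rw [Finset.mem_sdiff, Finset.mem_insert, not_or]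
        exact ⟨Finset.mem_univ a, hax, h⟩
    have hbB : b ∈ B := by
      by_contra h
      apply hb
      rw [Finset.mem_insert]
      by_cases hbx : b = x
      · exact Or.inl hbx
      · right
        rw [Finset.mem_sdiff, Finset.mem_insert, not_or]
        exact ⟨Finset.mem_univ b, hbx, h⟩
    obtain ⟨k1, hk1, rfl⟩ := (mem_orbF Kx y₀ a).mp haB
    obtain ⟨k2, hk2, rfl⟩ := (mem_orbF Kx y₀ b).mp hbB
    refine ⟨k2 * k1⁻¹, Kx.mul_mem hk2 (Kx.inv_mem hk1), ?_⟩
    simp
  · have hcardR : (Finset.univ \ insert x B).card = 24 - (B.card + 1) := by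
      rw [Finset.card_sdiff_of_subset (Finset.subset_univ _), card_univ_golay, Finset.card_insert_of_notMem hxB]
    have hBle : B.card + 1 ≤ 24 := by
      have := Finset.card_le_univ (insert x B)
      rw [Finset.card_insert_of_notMem hxB, ← Finset.card_univ, card_univ_golay] at this
      exact this
    have hBcard : 23 - (Finset.univ \ insert x B).card = B.card := by
      rw [hcardR]; omega
    rw [hBcard]
    exact Dvd.intro _ (card_eq_orbF_mul Kx y₀).symm

end Cfsg.Agent.S1589P
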