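import Mathlib
import Cfsg.Agent.Helper12.S1786LAM1
import Cfsg.Agent.Helper12.S1786TIC
import Cfsg.Agent.Helper21.S2789AMBCore
import Cfsg.Agent.Helper28.S2789REC

/-! Board `s1786pieces`, row SL2, core: `H / C_H(W) ≅ SL₂(F)` for `H = ⟨P, P_B⟩`, `W = V B`, via the abstract recognition
`Cfsg.Agent.S2789P.AMB_core` with `Cfsg.Agent.S2789P.REC`; the rows MIRROR, HNORM, LAM2, CARDPD are hypotheses of `SL2_core`.
The wrapper `SL2` is in `Cfsg.Agent.Helper11.S1786SL2`. -/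

set_option autoImplicit false

namespace Cfsg.Agent.S1786P

universe u

section core
variable {G : Type u} [Group G] [Finite G]

/-- the order of the image of `P` in `H / C_H(W)` -/
theorem SL2_aux_card (H P C : Subgroup G) (hPH : P ≤ H) [hC : (C.subgroupOf H).Normal] (n : ℕ)
    (hc : Nat.card ↥P = n * Nat.card ↥(P ⊓ C)) :
    Nat.card ↥((P.subgroupOf H).map (QuotientGroup.mk' (C.subgroupOf H))) = n := by
  set f : ↥P →* ↥H ⧸ C.subgroupOf H := (QuotientGroup.mk' (C.subgroupOf H)).comp (Subgroup.inclusion hPH) with hf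
  have hrange : (P.subgroupOf H).map (QuotientGroup.mk' (C.subgroupOf H)) = f.range := by
    rw [hf, ← MonoidHom.map_range, Subgroup.inclusion_range]
  rw [hrange]
  have h1 : Nat.card f.ker * f.ker.index = Nat.card ↥P := Subgroup.card_mul_index f.ker
  rw [Subgroup.index_ker] at h1
  have hker : f.ker = (P ⊓ C).subgroupOf P := by
    ext x
    rw [MonoidHom.mem_ker, Subgroup.mem_subgroupOf, Subgroup.mem_inf]
    have h2 : f x = 1 ↔ (Subgroup.inclusion hPH x) ∈ C.subgroupOf H := QuotientGroup.eq_one_iff _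
    rw [h2, Subgroup.mem_subgroupOf]
    constructor
    · intro h
      exact ⟨x.2, h⟩
    · intro h
      exact h.2
  have hkc : Nat.card f.ker = Nat.card ↥(P ⊓ C) := by
    rw [hker]
    exact Nat.card_congr (Subgroup.subgroupOfEquivOfLe inf_le_left).toEquiv
  rw [hkc, hc, mul_comm] at h1
  have hpos : 0 < Nat.card ↥(P ⊓ C) := Nat.card_pos
  exact Nat.eq_of_mul_eq_mul_right hpos h1

/-- the recognition theorem in an ambient group, for a group `H = ⟨P₁, P₂⟩` acting on the abelian group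
`W = V₁ × V₂`, possibly with a kernel -/
theorem SL2_aux_core (W H P₁ P₂ V₁ V₂ : Subgroup G)
    (hW : ∀ a ∈ W, ∀ b ∈ W, a * b = b * a)
    (hHW : H ≤ Subgroup.normalizer (W : Set G))
    (hgen : P₁ ⊔ P₂ = H)
    (hfix1 : ∀ x ∈ P₁, ∀ v ∈ V₁, x * v = v * x) (hquad1 : ∀ x ∈ P₁, ∀ w ∈ W, x * w * x⁻¹ * w⁻¹ ∈ V₁)
    (hfix2 : ∀ x ∈ P₂, ∀ v ∈ V₂, x * v = v * x) (hquad2 : ∀ x ∈ P₂, ∀ w ∈ W, x * w * x⁻¹ * w⁻¹ ∈ V₂)
    (hdisj : V₁ ⊓ V₂ = ⊥) (hspan : V₁ ⊔ V₂ = W) (hV1ne : V₁ ≠ ⊥)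
    (hc1 : Nat.card ↥P₁ = Nat.card ↥V₁ * Nat.card ↥(P₁ ⊓ Subgroup.centralizer (W : Set G)))
    (hc2 : Nat.card ↥P₂ = Nat.card ↥V₂ * Nat.card ↥(P₂ ⊓ Subgroup.centralizer (W : Set G)))
    (𝒰 : Set (Subgroup G)) (hU1 : V₁ ∈ 𝒰) (hU2 : V₂ ∈ 𝒰) (hUW : ∀ U ∈ 𝒰, U ≤ W)
    (hUinv : ∀ U ∈ 𝒰, ∀ h ∈ H, cj h U ∈ 𝒰)
    (hUsp : ∀ U ∈ 𝒰, ∀ U' ∈ 𝒰, U = U' ∨ U ⊓ U' = ⊥)
    (hUc : ∀ U ∈ 𝒰, Nat.card ↥U = Nat.card ↥V₁)
    (hN : ((Subgroup.centralizer (W : Set G)).subgroupOf H).Normal) :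
    ∃ (F : Type) (_ : Field F) (_ : Fintype F), Fintype.card F = Nat.card ↥V₁ ∧
      Nonempty (↥H ⧸ (Subgroup.centralizer (W : Set G)).subgroupOf H ≃*
        Matrix.SpecialLinearGroup (Fin 2) F) := by
  classical
  let _ : CommGroup ↥W :=
    { (inferInstance : Group ↥W) with mul_comm := fun a b => Subtype.ext (hW a a.2 b b.2) }
  let actH : MulDistribMulAction ↥H ↥W := Cfsg.Agent.S2789P.AMB_act W H hHW
  have hV1 : V₁ ≤ W := hspan ▸ le_sup_left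
  have hV2 : V₂ ≤ W := hspan ▸ le_sup_right
  have hP1H : P₁ ≤ H := hgen ▸ le_sup_left
  have hP2H : P₂ ≤ H := hgen ▸ le_sup_right
  have hle : (Subgroup.centralizer (W : Set G)).subgroupOf H ≤ (MulDistribMulAction.toMulAut ↥H ↥W).ker := by
    intro h hh
    rw [Subgroup.mem_subgroupOf, Subgroup.mem_centralizer_iff] at hh
    rw [MonoidHom.mem_ker]
    apply MulEquiv.ext
    intro w
    apply Subtype.ext
    show (h : G) * w * (h : G)⁻¹ = w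
    rw [← hh w w.2, mul_inv_cancel_right]
  let actL : MulDistribMulAction (↥H ⧸ (Subgroup.centralizer (W : Set G)).subgroupOf H) ↥W :=
    MulDistribMulAction.compHom ↥W
      (QuotientGroup.lift ((Subgroup.centralizer (W : Set G)).subgroupOf H)
        (MulDistribMulAction.toMulAut ↥H ↥W) hle)
  have hsm : ∀ (h : ↥H) (w : ↥W),
      ((((QuotientGroup.mk' ((Subgroup.centralizer (W : Set G)).subgroupOf H)) h) • w : ↥W) : G) =
        (h : G) * w * (h : G)⁻¹ := fun h w => rfl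
  have hcardsub : ∀ K : Subgroup G, K ≤ W → Nat.card (K.subgroupOf W) = Nat.card K :=
    fun K hK => Nat.card_congr (Subgroup.subgroupOfEquivOfLe hK).toEquiv
  have hcardA := SL2_aux_card H P₁ (Subgroup.centralizer (W : Set G)) hP1H _ hc1
  have hcardB := SL2_aux_card H P₂ (Subgroup.centralizer (W : Set G)) hP2H _ hc2
  have hbot : ∀ l : ↥H ⧸ (Subgroup.centralizer (W : Set G)).subgroupOf H, ∀ n ∈ (⊥ : Subgroup ↥W),
      l • n ∈ (⊥ : Subgroup ↥W) := by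
    intro l n hn
    rw [Subgroup.mem_bot] at hn ⊢
    rw [hn, smul_one]
  have hgen' : (P₁.subgroupOf H).map (QuotientGroup.mk' ((Subgroup.centralizer (W : Set G)).subgroupOf H)) ⊔
      (P₂.subgroupOf H).map (QuotientGroup.mk' ((Subgroup.centralizer (W : Set G)).subgroupOf H)) = ⊤ := by
    rw [← Subgroup.map_sup, ← Subgroup.subgroupOf_sup hP1H hP2H, hgen, Subgroup.subgroupOf_self,
      ← MonoidHom.range_eq_map, MonoidHom.range_eq_top]
    exact QuotientGroup.mk'_surjective _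
  have hA1 : (P₁.subgroupOf H).map (QuotientGroup.mk' ((Subgroup.centralizer (W : Set G)).subgroupOf H)) ≠ ⊥ := by
    intro h
    rw [h, Subgroup.card_bot] at hcardA
    apply hV1ne
    exact (Subgroup.card_eq_one).1 hcardA.symm
  have hfix : ∀ (P' V' : Subgroup G), (∀ x ∈ P', ∀ v ∈ V', x * v = v * x) →
      ∀ a ∈ (P'.subgroupOf H).map (QuotientGroup.mk' ((Subgroup.centralizer (W : Set G)).subgroupOf H)),
        ∀ u ∈ V'.subgroupOf W, a • u = u := by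
    rintro P' V' hf _ ⟨x, hx, rfl⟩ u hu
    apply Subtype.ext
    rw [hsm]
    rw [hf x (Subgroup.mem_subgroupOf.1 hx) u (Subgroup.mem_subgroupOf.1 hu), mul_inv_cancel_right]
  have hquad : ∀ (P' V' : Subgroup G), (∀ x ∈ P', ∀ w ∈ W, x * w * x⁻¹ * w⁻¹ ∈ V') →
      ∀ a ∈ (P'.subgroupOf H).map (QuotientGroup.mk' ((Subgroup.centralizer (W : Set G)).subgroupOf H)),
        ∀ v : ↥W, a • v * v⁻¹ ∈ V'.subgroupOf W := by
    rintro P' V' hq _ ⟨x, hx, rfl⟩ v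
    rw [Subgroup.mem_subgroupOf]
    exact hq x (Subgroup.mem_subgroupOf.1 hx) v v.2
  have hdisj' : V₁.subgroupOf W ⊓ V₂.subgroupOf W = ⊥ := by
    rw [eq_bot_iff]
    intro x hx
    rw [Subgroup.mem_inf, Subgroup.mem_subgroupOf, Subgroup.mem_subgroupOf] at hx
    have h1 : (x : G) ∈ V₁ ⊓ V₂ := Subgroup.mem_inf.2 hx
    rw [hdisj, Subgroup.mem_bot] at h1
    rw [Subgroup.mem_bot]
    exact Subtype.ext h1
  have hspan' : V₁.subgroupOf W ⊔ V₂.subgroupOf W = ⊤ := by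
    rw [← Subgroup.subgroupOf_sup hV1 hV2, hspan, Subgroup.subgroupOf_self]
  have hcA' : Nat.card (V₁.subgroupOf W) =
      Nat.card ((P₁.subgroupOf H).map (QuotientGroup.mk' ((Subgroup.centralizer (W : Set G)).subgroupOf H))) *
        Nat.card (⊥ : Subgroup ↥W) := by
    rw [hcardsub _ hV1, hcardA, Subgroup.card_bot, mul_one]
  have hcB' : Nat.card (V₂.subgroupOf W) =
      Nat.card ((P₂.subgroupOf H).map (QuotientGroup.mk' ((Subgroup.centralizer (W : Set G)).subgroupOf H))) *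
        Nat.card (⊥ : Subgroup ↥W) := by
    rw [hcardsub _ hV2, hcardB, Subgroup.card_bot, mul_one]
  have hker' : ∀ l : ↥H ⧸ (Subgroup.centralizer (W : Set G)).subgroupOf H,
      (∀ v : ↥W, l • v * v⁻¹ ∈ (⊥ : Subgroup ↥W)) → l = 1 := by
    intro l hl
    obtain ⟨h, rfl⟩ := QuotientGroup.mk'_surjective _ l
    apply (QuotientGroup.eq_one_iff h).2
    rw [Subgroup.mem_subgroupOf, Subgroup.mem_centralizer_iff]
    intro w hw
    have h1 := hl ⟨w, hw⟩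
    rw [Subgroup.mem_bot] at h1
    have h2 : (h : G) * w * (h : G)⁻¹ * w⁻¹ = 1 := congrArg Subtype.val h1
    have h3 : (h : G) * w = w * (h : G) := by
      calc (h : G) * w = ((h : G) * w * (h : G)⁻¹ * w⁻¹) * (w * (h : G)) := by group
        _ = w * (h : G) := by rw [h2, one_mul]
    exact h3.symm
  have hUinv' : ∀ U ∈ {U' : Subgroup ↥W | ∃ U ∈ 𝒰, U' = U.subgroupOf W},
      ∀ l : ↥H ⧸ (Subgroup.centralizer (W : Set G)).subgroupOf H,
        U.map (MulDistribMulAction.toMonoidHom ↥W l) ∈ {U' : Subgroup ↥W | ∃ U ∈ 𝒰, U' = U.subgroupOf W} := by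
    rintro _ ⟨U, hU, rfl⟩ l
    obtain ⟨h, rfl⟩ := QuotientGroup.mk'_surjective _ l
    refine ⟨cj (h : G) U, hUinv U hU h h.2, ?_⟩
    ext x
    rw [Subgroup.mem_map, Subgroup.mem_subgroupOf, mem_cj]
    constructor
    · rintro ⟨u, hu, rfl⟩
      rw [Subgroup.mem_subgroupOf] at hu
      have h1 : (h : G)⁻¹ * ((MulDistribMulAction.toMonoidHom ↥W
          ((QuotientGroup.mk' ((Subgroup.centralizer (W : Set G)).subgroupOf H)) h) u : ↥W) : G) * (h : G) = u := by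
        show (h : G)⁻¹ * ((h : G) * u * (h : G)⁻¹) * (h : G) = u
        group
      rw [h1]
      exact hu
    · intro hx
      have hxW : (h : G)⁻¹ * x * (h : G) ∈ W := hUW U hU hx
      refine ⟨⟨(h : G)⁻¹ * x * (h : G), hxW⟩, ?_, ?_⟩
      · rw [Subgroup.mem_subgroupOf]
        exact hx
      · apply Subtype.ext
        show (h : G) * ((h : G)⁻¹ * x * (h : G)) * (h : G)⁻¹ = x
        group
  have hUsp' : ∀ U ∈ {U' : Subgroup ↥W | ∃ U ∈ 𝒰, U' = U.subgroupOf W},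
      ∀ U' ∈ {U' : Subgroup ↥W | ∃ U ∈ 𝒰, U' = U.subgroupOf W}, U = U' ∨ U ⊓ U' = (⊥ : Subgroup ↥W) := by
    rintro _ ⟨U, hU, rfl⟩ _ ⟨U', hU', rfl⟩
    rcases hUsp U hU U' hU' with h | h
    · left
      rw [h]
    · right
      rw [eq_bot_iff]
      intro x hx
      rw [Subgroup.mem_inf, Subgroup.mem_subgroupOf, Subgroup.mem_subgroupOf] at hx
      have h1 : (x : G) ∈ U ⊓ U' := Subgroup.mem_inf.2 hx
      rw [h, Subgroup.mem_bot] at h1
      rw [Subgroup.mem_bot]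
      exact Subtype.ext h1
  obtain ⟨F, i1, i2, hc, ρ, ψ, -, -, -⟩ := Cfsg.Agent.S2789P.AMB_core.{u, u}
    (fun _ _ _ _ _ _ _ _ _ _ _ _ h => Cfsg.Agent.S2789P.REC h)
    (L := ↥H ⧸ (Subgroup.centralizer (W : Set G)).subgroupOf H) (Vt := ↥W) (⊥ : Subgroup ↥W) hbot
    ((P₁.subgroupOf H).map (QuotientGroup.mk' ((Subgroup.centralizer (W : Set G)).subgroupOf H)))
    ((P₂.subgroupOf H).map (QuotientGroup.mk' ((Subgroup.centralizer (W : Set G)).subgroupOf H)))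
    (V₁.subgroupOf W) (V₂.subgroupOf W) hgen' hA1
    (hfix P₁ V₁ hfix1) (hquad P₁ V₁ hquad1) (hfix P₂ V₂ hfix2) (hquad P₂ V₂ hquad2) hdisj' hspan' hcA' hcB' hker'
    {U' : Subgroup ↥W | ∃ U ∈ 𝒰, U' = U.subgroupOf W} ⟨V₁, hU1, rfl⟩ ⟨V₂, hU2, rfl⟩
    (fun _ _ => bot_le) hUinv' hUsp'
    (by
      rintro _ ⟨U, hU, rfl⟩
      rw [hcardsub _ (hUW U hU), hcardsub _ hV1]
      exact hUc U hU)
  refine ⟨F, i1, i2, ?_, ⟨ρ⟩⟩
  rw [hc, hcardA]

end core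

section main
variable {G : Type*} [Group G] [Finite G] {V Q B : Subgroup G}

/-- `W = V B` is abelian -/
theorem SL2_aux_comm (S : Setup V Q) (hB : Lam V Q B) : ∀ w ∈ V ⊔ B, ∀ w' ∈ V ⊔ B, w * w' = w' * w := by
  obtain ⟨hBP, -, -, hBcomm, -, -⟩ := LAM1 S hB
  intro w hw w' hw'
  obtain ⟨a, ha, b, hb, rfl⟩ := (WMEM S hB w).1 hw
  obtain ⟨a', ha', b', hb', rfl⟩ := (WMEM S hB w').1 hw'
  have h1 : b * a' = a' * b := (mem_PP.1 (hBP hb)).2 a' ha'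
  have h2 : b' * a = a * b' := (mem_PP.1 (hBP hb')).2 a ha
  have h3 : a * a' = a' * a := S.comm a ha a' ha'
  have h4 : b * b' = b' * b := hBcomm b hb b' hb'
  calc a * b * (a' * b') = a * (b * a') * b' := by group
    _ = a * (a' * b) * b' := by rw [h1]
    _ = (a * a') * (b * b') := by group
    _ = (a' * a) * (b' * b) := by rw [h3, h4]
    _ = a' * (a * b') * b := by group
    _ = a' * (b' * a) * b := by rw [h2]
    _ = a' * b' * (a * b) := by group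

/-- `[W, P] ≤ V` -/
theorem SL2_aux_quad (S : Setup V Q) (hB : Lam V Q B)
    (hLAM2 : ∀ x ∈ PP V Q, ∀ b ∈ B, x * b * x⁻¹ * b⁻¹ ∈ V) :
    ∀ x ∈ PP V Q, ∀ w ∈ V ⊔ B, x * w * x⁻¹ * w⁻¹ ∈ V := by
  intro x hx w hw
  obtain ⟨a, ha, b, hb, rfl⟩ := (WMEM S hB w).1 hw
  have h1 : x * b * x⁻¹ * b⁻¹ ∈ V := hLAM2 x hx b hb
  have h2 : x * a = a * x := (mem_PP.1 hx).2 a ha
  have h3 : x * (a * b) * x⁻¹ * (a * b)⁻¹ = a * (x * b * x⁻¹ * b⁻¹) * a⁻¹ := by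
    calc x * (a * b) * x⁻¹ * (a * b)⁻¹ = (x * a) * b * x⁻¹ * b⁻¹ * a⁻¹ := by group
      _ = (a * x) * b * x⁻¹ * b⁻¹ * a⁻¹ := by rw [h2]
      _ = a * (x * b * x⁻¹ * b⁻¹) * a⁻¹ := by group
  rw [h3]
  exact V.mul_mem (V.mul_mem ha h1) (V.inv_mem ha)

/-- `C_P(W) = C_P(B) = D` -/
theorem SL2_aux_cent (S : Setup V Q) (hB : Lam V Q B) :
    PP V Q ⊓ Subgroup.centralizer ((V ⊔ B : Subgroup G) : Set G) = DD V Q B := by
  ext x
  rw [Subgroup.mem_inf, mem_DD, Subgroup.mem_centralizer_iff]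
  constructor
  · rintro ⟨hx, h⟩
    exact ⟨hx, fun b hb => (h b ((le_sup_right : B ≤ V ⊔ B) hb)).symm⟩
  · rintro ⟨hx, h⟩
    refine ⟨hx, fun w hw => ?_⟩
    obtain ⟨a, ha, b, hb, rfl⟩ := (WMEM S hB w).1 hw
    have h1 : x * a = a * x := (mem_PP.1 hx).2 a ha
    have h2 : x * b = b * x := h b hb
    calc a * b * x = a * (b * x) := by group
      _ = a * (x * b) := by rw [h2]
      _ = (a * x) * b := by group
      _ = (x * a) * b := by rw [h1]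
      _ = x * (a * b) := by group

/-- SL2 with the rows MIRROR, HNORM, LAM2, CARDPD as hypotheses -/
theorem SL2_core (S : Setup V Q) (g : G) (hB : Lam V Q (cj g V))
    (hMIRROR : Lam V Q (cj g⁻¹ V))
    (hHNORM : PP V Q ⊔ cj g (PP V Q) ≤ Subgroup.normalizer ((V ⊔ cj g V : Subgroup G) : Set G))
    (hLAM2 : ∀ x ∈ PP V Q, ∀ b ∈ cj g V, x * b * x⁻¹ * b⁻¹ ∈ V)
    (hLAM2' : ∀ x ∈ PP V Q, ∀ b ∈ cj g⁻¹ V, x * b * x⁻¹ * b⁻¹ ∈ V)
    (hCARDPD : Nat.card ↥(PP V Q) = Nat.card ↥V * Nat.card ↥(DD V Q (cj g V)))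
    (hCARDPD' : Nat.card ↥(PP V Q) = Nat.card ↥V * Nat.card ↥(DD V Q (cj g⁻¹ V))) :
    ∀ hN : ((Subgroup.centralizer ((V ⊔ cj g V : Subgroup G) : Set G)).subgroupOf (PP V Q ⊔ cj g (PP V Q))).Normal,
      ∃ (F : Type) (_ : Field F) (_ : Fintype F), Fintype.card F = Nat.card ↥V ∧
        Nonempty (↥(PP V Q ⊔ cj g (PP V Q)) ⧸
          (Subgroup.centralizer ((V ⊔ cj g V : Subgroup G) : Set G)).subgroupOf (PP V Q ⊔ cj g (PP V Q)) ≃*
            Matrix.SpecialLinearGroup (Fin 2) F) := by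
  intro hN
  obtain ⟨hBP, hVB, hcard, hBcomm, hBsq, hBne⟩ := LAM1 S hB
  have hB' : Lam V Q (cj g⁻¹ V) := hMIRROR
  have hHW := hHNORM
  have hVne : V ≠ ⊥ := by
    intro h
    apply hBne
    rw [h]
    exact cj_bot g
  -- the conjugate of `W` by `g⁻¹`
  have hWm : cj g⁻¹ (V ⊔ cj g V) = V ⊔ cj g⁻¹ V := by
    rw [cj_sup, cj_inv_cj, sup_comm]
  have hfix2 : ∀ x ∈ cj g (PP V Q), ∀ v ∈ cj g V, x * v = v * x := by
    intro x hx v hv
    have h1 : cj g (PP V Q) ≤ Subgroup.centralizer ((cj g V : Subgroup G) : Set G) := by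
      rw [cj_centralizer]
      exact cj_mono inf_le_right
    exact ((Subgroup.mem_centralizer_iff.1 (h1 hx)) v hv).symm
  have hquad2 : ∀ x ∈ cj g (PP V Q), ∀ w ∈ V ⊔ cj g V, x * w * x⁻¹ * w⁻¹ ∈ cj g V := by
    intro x hx w hw
    rw [mem_cj]
    have h1 : g⁻¹ * x * g ∈ PP V Q := mem_cj.1 hx
    have h2 : g⁻¹ * w * g ∈ V ⊔ cj g⁻¹ V := by
      rw [← hWm, mem_cj, inv_inv]
      have : g * (g⁻¹ * w * g) * g⁻¹ = w := by group
      rw [this]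
      exact hw
    have h3 := SL2_aux_quad S hB' hLAM2' _ h1 _ h2
    have h4 : g⁻¹ * (x * w * x⁻¹ * w⁻¹) * g = g⁻¹ * x * g * (g⁻¹ * w * g) * (g⁻¹ * x * g)⁻¹ * (g⁻¹ * w * g)⁻¹ := by
      group
    rw [h4]
    exact h3
  have hc1 : Nat.card ↥(PP V Q) = Nat.card ↥V *
      Nat.card ↥(PP V Q ⊓ Subgroup.centralizer ((V ⊔ cj g V : Subgroup G) : Set G)) := by
    rw [SL2_aux_cent S hB]
    exact hCARDPD
  have hc2 : Nat.card ↥(cj g (PP V Q)) = Nat.card ↥(cj g V) *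
      Nat.card ↥(cj g (PP V Q) ⊓ Subgroup.centralizer ((V ⊔ cj g V : Subgroup G) : Set G)) := by
    have h1 : cj g (PP V Q ⊓ Subgroup.centralizer ((cj g⁻¹ (V ⊔ cj g V) : Subgroup G) : Set G)) =
        cj g (PP V Q) ⊓ Subgroup.centralizer ((V ⊔ cj g V : Subgroup G) : Set G) := by
      rw [cj_inf, ← cj_centralizer, cj_cj_inv]
    rw [← h1, cj_card, cj_card, cj_card, hWm, SL2_aux_cent S hB']
    exact hCARDPD'
  obtain ⟨F, i1, i2, hc, hiso⟩ := SL2_aux_core (V ⊔ cj g V) (PP V Q ⊔ cj g (PP V Q)) (PP V Q) (cj g (PP V Q)) V (cj g V)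
    (SL2_aux_comm S hB) hHW rfl
    (fun x hx v hv => (mem_PP.1 hx).2 v hv) (SL2_aux_quad S hB hLAM2) hfix2 hquad2 hVB rfl hVne hc1 hc2
    {U : Subgroup G | (∃ y : G, U = cj y V) ∧ U ≤ V ⊔ cj g V}
    ⟨⟨1, (cj_one V).symm⟩, le_sup_left⟩ ⟨⟨g, rfl⟩, le_sup_right⟩ (fun U hU => hU.2)
    (by
      rintro U ⟨⟨y, rfl⟩, hUW⟩ h hh
      refine ⟨⟨h * y, (cj_mul h y V).symm⟩, ?_⟩
      have h1 := cj_mono (x := h) hUW
      rwa [cj_of_mem_normalizer (hHW hh)] at h1)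
    (by
      rintro U ⟨⟨y, rfl⟩, -⟩ U' ⟨⟨y', rfl⟩, -⟩
      exact TIC S y y')
    (by
      rintro U ⟨⟨y, rfl⟩, -⟩
      exact cj_card y V)
    hN
  exact ⟨F, i1, i2, hc, hiso⟩

end main

end Cfsg.Agent.S1786P
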