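import Mathlib
import Cfsg.Agent.Helper12.S1786LAM1
import Cfsg.Agent.Helper12.S1786TIC
import Cfsg.Agent.Helper11.SylowInter
import Cfsg.Agent.Helper10.PGroupBasic

/-! Board `s1786pieces`, row SYL, core: some element of `N_G(W)` moves `V` (the Sylow argument), with the rows
CGD, CONJP, PARTuniq as hypotheses.  The wrapper `SYL` is in `Cfsg.Agent.Helper11.S1786SYL`. -/

set_option autoImplicit false

namespace Cfsg.Agent.S1786P

variable {G : Type*} [Group G] [Finite G] {V Q : Subgroup G}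

/-- a maximal 2-subgroup of `K` above a given one -/
theorem SYL_aux_max (K R : Subgroup G) (hRK : R ≤ K) (hR : IsPGroup 2 ↥R) :
    ∃ T : Subgroup G, R ≤ T ∧ T ≤ K ∧ IsPGroup 2 ↥T ∧
      ∀ T' : Subgroup G, T' ≤ K → IsPGroup 2 ↥T' → T ≤ T' → T' ≤ T := by
  obtain ⟨T, hRT, hT⟩ := Set.Finite.exists_le_maximal (s := {T : Subgroup G | T ≤ K ∧ IsPGroup 2 ↥T})
    (Set.toFinite _) (a := R) ⟨hRK, hR⟩
  exact ⟨T, hRT, hT.prop.1, hT.prop.2, fun T' h1 h2 h3 => hT.le_of_ge ⟨h1, h2⟩ h3⟩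

/-- a nontrivial subgroup `V ≤ T` normalized by the 2-group `T` contains a nontrivial central element of `T` -/
theorem SYL_aux_center (T V : Subgroup G) (hT : IsPGroup 2 ↥T) (hVT : V ≤ T)
    (hTV : T ≤ Subgroup.normalizer (V : Set G)) (hV : V ≠ ⊥) :
    ∃ a ∈ V, a ≠ 1 ∧ ∀ t ∈ T, a * t = t * a := by
  have : Fact (Nat.Prime 2) := ⟨Nat.prime_two⟩
  have hn : (V.subgroupOf T).Normal := (Subgroup.normal_subgroupOf_iff_le_normalizer hVT).2 hTV
  have hne : V.subgroupOf T ≠ ⊥ := by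
    intro h
    apply hV
    rw [Subgroup.subgroupOf_eq_bot, disjoint_iff, inf_eq_left.2 hVT] at h
    exact h
  obtain ⟨z, hzN, hz1, hzc⟩ := Cfsg.Agent.Helper10.exists_ne_one_mem_inf_center hT (V.subgroupOf T) hne
  refine ⟨z.1, hzN, ?_, ?_⟩
  · intro h
    apply hz1
    exact Subtype.ext h
  · intro t ht
    have h1 := Subgroup.mem_center_iff.1 hzc ⟨t, ht⟩
    exact (congrArg Subtype.val h1).symm

/-- SYL with the rows CGD, CONJP, PARTuniq as hypotheses -/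
theorem SYL_core (S : Setup V Q) (g : G) (hB : Lam V Q (cj g V))
    (hCGD : ∀ t : G, (∀ d ∈ DD V Q (cj g V), t * d = d * t) → t ∈ V ⊔ cj g V)
    (hCONJP : (∀ c ∈ Subgroup.normalizer ((cj g V : Subgroup G) : Set G),
        (∀ x ∈ cj g (PP V Q), c * x = x * c) → c ∈ cj g V) ∧
      Subgroup.normalizer ((cj g V : Subgroup G) : Set G) ≤
        Subgroup.normalizer ((cj g (PP V Q) : Subgroup G) : Set G) ∧
      IsPGroup 2 ↥(cj g (PP V Q)) ∧ cj g (PP V Q) ≤ Subgroup.centralizer ((cj g V : Subgroup G) : Set G))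
    (hPARTuniq : ∀ w ∈ V ⊔ cj g V, w ≠ 1 →
      ∃! U : Subgroup G, (∃ x : G, U = cj x V) ∧ U ≤ V ⊔ cj g V ∧ w ∈ U) :
    ∃ s : G, s ∈ Subgroup.normalizer ((V ⊔ cj g V : Subgroup G) : Set G) ∧ cj s V ≠ V := by
  have : Fact (Nat.Prime 2) := ⟨Nat.prime_two⟩
  obtain ⟨hBP, hVB, hcard, hBcomm, hBsq, hBne⟩ := LAM1 S hB
  obtain ⟨hCP1, hCP2, hCP3, hCP4⟩ := hCONJP
  have hVne : V ≠ ⊥ := by
    intro h
    apply hBne
    rw [h]
    exact cj_bot g
  have hKN : Subgroup.centralizer ((cj g V : Subgroup G) : Set G) ≤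
      Subgroup.normalizer ((cj g V : Subgroup G) : Set G) := Subgroup.centralizer_le_normalizer _
  -- `D ≤ K₀`
  have hDK : DD V Q (cj g V) ≤ Subgroup.normalizer (V : Set G) ⊓
      Subgroup.centralizer ((cj g V : Subgroup G) : Set G) :=
    le_inf (inf_le_left.trans S.PP_le_M) inf_le_right
  have hDp : IsPGroup 2 ↥(DD V Q (cj g V)) := S.PP_isPGroup.to_le inf_le_left
  obtain ⟨T, hDT, hTK, hTp, hTmax⟩ := SYL_aux_max _ _ hDK hDp
  have hVD : V ≤ DD V Q (cj g V) := by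
    intro v hv
    rw [mem_DD]
    refine ⟨S.V_le_PP hv, fun b hb => ?_⟩
    exact ((mem_PP.1 (hBP hb)).2 v hv).symm
  have hVT : V ≤ T := hVD.trans hDT
  have hTM : T ≤ Subgroup.normalizer (V : Set G) := hTK.trans inf_le_left
  have hTC : T ≤ Subgroup.centralizer ((cj g V : Subgroup G) : Set G) := hTK.trans inf_le_right
  obtain ⟨a, haV, ha1, haZ⟩ := SYL_aux_center T V hTp hVT hTM hVne
  have hZW : ∀ t ∈ T, (∀ t' ∈ T, t * t' = t' * t) → t ∈ V ⊔ cj g V :=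
    fun t _ h => hCGD t (fun d hd => h d (hDT hd))
  -- the second maximal 2-subgroup
  obtain ⟨S', hTS, hSK, hSp, hSmax⟩ := SYL_aux_max _ _ hTC hTp
  have hPBS : cj g (PP V Q) ≤ S' := by
    have h1 : IsPGroup 2 ↥(cj g (PP V Q) ⊔ S') :=
      IsPGroup.to_sup_of_normal_left' hCP3 hSp (hSK.trans (hKN.trans hCP2))
    exact le_sup_left.trans (hSmax _ (sup_le hCP4 hSK) h1 le_sup_right)
  have hne : T ≠ S' := by
    intro h
    apply ha1
    have h1 : a ∈ cj g V := by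
      refine hCP1 a (hKN (hTC (hVT haV))) (fun x hx => ?_)
      have hxT : x ∈ T := by
        rw [h]
        exact hPBS hx
      exact haZ x hxT
    have h2 : a ∈ V ⊓ cj g V := Subgroup.mem_inf.2 ⟨haV, h1⟩
    rw [hVB] at h2
    exact Subgroup.mem_bot.1 h2
  have hlt : T < S' := lt_of_le_of_ne hTS hne
  obtain ⟨s, hs1, hs2⟩ := SetLike.exists_of_lt (Cfsg.Agent.Helper11.lt_inf_normalizer S' T hSp hlt)
  have hsS : s ∈ S' := (Subgroup.mem_inf.1 hs1).1
  have hsN : s ∈ Subgroup.normalizer (T : Set G) := (Subgroup.mem_inf.1 hs1).2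
  have hsK : s ∈ Subgroup.centralizer ((cj g V : Subgroup G) : Set G) := hSK hsS
  have hsV : cj s V ≠ V := by
    intro h
    apply hs2
    have hsM : s ∈ Subgroup.normalizer (V : Set G) := mem_normalizer_iff_cj.2 h
    have hz : Subgroup.zpowers s ≤ S' := (Subgroup.zpowers_le).2 hsS
    have hR : IsPGroup 2 ↥(T ⊔ Subgroup.zpowers s) := hSp.to_le (sup_le hTS hz)
    have hRK : T ⊔ Subgroup.zpowers s ≤ Subgroup.normalizer (V : Set G) ⊓
        Subgroup.centralizer ((cj g V : Subgroup G) : Set G) :=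
      sup_le hTK ((Subgroup.zpowers_le).2 (Subgroup.mem_inf.2 ⟨hsM, hsK⟩))
    exact hTmax _ hRK hR le_sup_left (le_sup_right (a := T) (Subgroup.mem_zpowers s))
  refine ⟨s, ?_, hsV⟩
  -- `c = s a s⁻¹` is central in `T`
  have hcT : s * a * s⁻¹ ∈ T := (Subgroup.mem_normalizer_iff.1 hsN a).1 (hVT haV)
  have hcZ : ∀ t ∈ T, s * a * s⁻¹ * t = t * (s * a * s⁻¹) := by
    intro t ht
    have h1 : s⁻¹ * t * s ∈ T := by
      have := (Subgroup.mem_normalizer_iff.1 (inv_mem hsN) t).1 ht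
      rwa [inv_inv] at this
    have h2 := haZ _ h1
    calc s * a * s⁻¹ * t = s * (a * (s⁻¹ * t * s)) * s⁻¹ := by group
      _ = s * ((s⁻¹ * t * s) * a) * s⁻¹ := by rw [h2]
      _ = t * (s * a * s⁻¹) := by group
  have hcW : s * a * s⁻¹ ∈ V ⊔ cj g V := hZW _ hcT hcZ
  have hc1 : s * a * s⁻¹ ≠ 1 := by
    intro h
    apply ha1
    have : a = s⁻¹ * (s * a * s⁻¹) * s := by group
    rw [this, h]
    group
  have hcsV : s * a * s⁻¹ ∈ cj s V := conj_mem_cj haV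
  obtain ⟨U, ⟨⟨x, hUx⟩, hUW, hcU⟩, _⟩ := hPARTuniq _ hcW hc1
  have hsVW : cj s V ≤ V ⊔ cj g V := by
    rcases TIC S s x with h | h
    · rw [h, ← hUx]
      exact hUW
    · exfalso
      apply hc1
      have h2 : s * a * s⁻¹ ∈ cj s V ⊓ cj x V := Subgroup.mem_inf.2 ⟨hcsV, hUx ▸ hcU⟩
      rw [h] at h2
      exact Subgroup.mem_bot.1 h2
  apply mem_normalizer_of_cj_le
  rw [cj_sup, cj_of_mem_normalizer (hKN hsK)]
  exact sup_le hsVW le_sup_right

end Cfsg.Agent.S1786P
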