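import Mathlib
import Cfsg.Agent.Helper2.S2094.DefsR
import Cfsg.Agent.Helper16.S2094TCONJB
import Cfsg.Agent.Helper4.S2094MONOB

set_option autoImplicit false
set_option linter.unusedSectionVars false
set_option linter.unusedVariables false

/-! S2094 chapter N, piece CHARB (driver helper2; hedge by helper11): the torus `HhB` acts on the
root elements through the diagonal entries of its matrices. -/

namespace Cfsg.Agent.S2094P

open Matrix Cfsg.Agent.S3352P Cfsg.Agent.S3351P Cfsg.Agent.S2096P Cfsg.Agent.S2086P Cfsg.Agent.RGD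

variable {n : ℕ} {F : Type*} [Field F] {M : Type*} [Group M] {X : J n → J n → F → M}
  {Ys : J n → F → M}

namespace CHARB

theorem diag_mul_apply {ι : Type*} [Fintype ι] [DecidableEq ι] (A B : Matrix ι ι F)
    (hA : ∀ i a, i ≠ a → A i a = 0) (i j : ι) : (A * B) i j = A i i * B i j := by
  rw [Matrix.mul_apply]
  apply Finset.sum_eq_single i
  · intro k _ hk
    rw [hA i k (Ne.symm hk), zero_mul]
  · intro h
    exact absurd (Finset.mem_univ i) h

theorem mul_diag_apply {ι : Type*} [Fintype ι] [DecidableEq ι] (A B : Matrix ι ι F)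
    (hA : ∀ i a, i ≠ a → A i a = 0) (i j : ι) : (B * A) i j = B i j * A j j := by
  rw [Matrix.mul_apply]
  apply Finset.sum_eq_single j
  · intro k _ hk
    rw [hA k j hk, mul_zero]
  · intro h
    exact absurd (Finset.mem_univ j) h

/-- the diagonal entries of an invertible diagonal matrix are nonzero -/
theorem diag_ne_zero (π : M →* Matrix (I n) (I n) F) {h : M}
    (hd : ∀ i a, i ≠ a → π h i a = 0) (i : I n) : π h i i ≠ 0 := by
  intro h0
  have h1 : π h * π h⁻¹ = 1 := by rw [← map_mul, mul_inv_cancel, map_one]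
  have h2 := congrFun (congrFun h1 i) i
  rw [diag_mul_apply _ _ hd, h0, zero_mul, Matrix.one_apply_eq] at h2
  exact zero_ne_one h2

theorem xmB_apply_ab {a b : J n} (hab : IsRoot a b) (u : F) :
    xmB a b u (Sum.inr a) (Sum.inr b) = u := by
  have h1 : a ≠ b := hab.1
  have h2 : ¬ (ng b = a) := fun h => hab.2 h.symm
  simp [xmB, Matrix.one_apply, Matrix.single_apply, h1, h2]

theorem ymB_apply_a0 (a : J n) (u : F) : ymB a u (Sum.inr a) o0 = 2 * u := by
  simp [ymB, Matrix.one_apply, Matrix.single_apply]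

end CHARB

open CHARB

theorem diag_of_mem_HhB [Finite F] (π : M →* Matrix (I n) (I n) F)
    (hπX : ∀ a b, IsRoot a b → ∀ t : F, π (X a b t) = xmB a b t)
    (hπY : ∀ a, ∀ t : F, π (Ys a t) = ymB a t) (hn : 3 ≤ n) (h2 : (2 : F) ≠ 0) (hB : BRel X Ys)
    {h : M} (hh : h ∈ HhB X Ys) : ∀ i a, i ≠ a → π h i a = 0 := by
  have key := mono_of_rootPB π hπX hπY hn h2 (g := h) (σ := (1 : Equiv.Perm (J n)))
    (fun a => rfl) (fun a b hab t => HhB_conj_X hn hB hh hab t)
    (fun a t => HhB_conj_Ys hn hB hh a t)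
  intro i a hia
  apply key i a
  have e : extI (⇑(1 : Equiv.Perm (J n))) a = a := by
    unfold extI
    cases a <;> rfl
  rw [e]
  exact hia

theorem HhB_conj_X_eq [Finite F] (π : M →* Matrix (I n) (I n) F)
    (hπX : ∀ a b, IsRoot a b → ∀ t : F, π (X a b t) = xmB a b t)
    (hπY : ∀ a, ∀ t : F, π (Ys a t) = ymB a t) (hn : 3 ≤ n) (h2 : (2 : F) ≠ 0) (hB : BRel X Ys)
    {h : M} (hh : h ∈ HhB X Ys) {a b : J n} (hab : IsRoot a b) (u : F) :
    h * X a b u * h⁻¹ =
      X a b (π h (Sum.inr a) (Sum.inr a) * (π h (Sum.inr b) (Sum.inr b))⁻¹ * u) := by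
  have hd := diag_of_mem_HhB π hπX hπY hn h2 hB hh
  obtain ⟨u', hu'⟩ := HhB_conj_X hn hB hh hab u
  have e1 : h * X a b u = X a b u' * h := by rw [← hu']; group
  have e2 := congrArg π e1
  rw [map_mul, map_mul, hπX a b hab, hπX a b hab] at e2
  have e3 := congrFun (congrFun e2 (Sum.inr a)) (Sum.inr b)
  rw [diag_mul_apply _ _ hd, mul_diag_apply _ _ hd, xmB_apply_ab hab, xmB_apply_ab hab] at e3
  have hb0 := diag_ne_zero π hd (Sum.inr b)
  rw [hu']
  congr 1
  rw [mul_assoc, mul_comm _ u, ← mul_assoc, e3, mul_assoc, mul_inv_cancel₀ hb0, mul_one]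

theorem HhB_conj_Ys_eq [Finite F] (π : M →* Matrix (I n) (I n) F)
    (hπX : ∀ a b, IsRoot a b → ∀ t : F, π (X a b t) = xmB a b t)
    (hπY : ∀ a, ∀ t : F, π (Ys a t) = ymB a t) (hn : 3 ≤ n) (h2 : (2 : F) ≠ 0) (hB : BRel X Ys)
    {h : M} (hh : h ∈ HhB X Ys) (a : J n) (u : F) :
    h * Ys a u * h⁻¹ = Ys a (π h (Sum.inr a) (Sum.inr a) * (π h o0 o0)⁻¹ * u) := by
  have hd := diag_of_mem_HhB π hπX hπY hn h2 hB hh
  obtain ⟨u', hu'⟩ := HhB_conj_Ys hn hB hh a u
  have e1 : h * Ys a u = Ys a u' * h := by rw [← hu']; group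
  have e2 := congrArg π e1
  rw [map_mul, map_mul, hπY, hπY] at e2
  have e3 := congrFun (congrFun e2 (Sum.inr a)) o0
  rw [diag_mul_apply _ _ hd, mul_diag_apply _ _ hd, ymB_apply_a0, ymB_apply_a0] at e3
  have h00 := diag_ne_zero π hd o0
  rw [hu']
  congr 1
  have e4 : π h (Sum.inr a) (Sum.inr a) * u = u' * π h o0 o0 := by
    have : (2 : F) * (π h (Sum.inr a) (Sum.inr a) * u) = 2 * (u' * π h o0 o0) := by
      linear_combination e3
    exact mul_left_cancel₀ h2 this
  rw [mul_assoc, mul_comm _ u, ← mul_assoc, e4, mul_assoc, mul_inv_cancel₀ h00, mul_one]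

end Cfsg.Agent.S2094P
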