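import Mathlib
import Cfsg.Agent.Helper2.S2094.DefsA
import Cfsg.Agent.Helper23.S2094PITB
import Cfsg.Agent.Helper11.S2094CHARB

set_option autoImplicit false
set_option linter.unusedSectionVars false
set_option linter.unusedVariables false

/-! S2094 chapter A, piece CLYD (driver helper2): the lifts of a short root element `Ys a s` and of
a long root element `X c d t` with disjoint support commute. -/

namespace Cfsg.Agent.S2094P

open Matrix Cfsg.Agent.S3352P Cfsg.Agent.S3351P Cfsg.Agent.S2096P Cfsg.Agent.S2086P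
open scoped commutatorElement

variable {n : ℕ} {F : Type*} [Field F] [Fintype F] {G : Type*} [Group G] {E : Type*} [Group E]
  {X : J n → J n → F → G} {Ys : J n → F → G}

namespace CLYD

/-- a fourth index -/
theorem exists_fourth_ab (hn : 4 ≤ n) (i j k : Fin n) : ∃ l : Fin n, l ≠ i ∧ l ≠ j ∧ l ≠ k := by
  by_contra hcon
  push Not at hcon
  have key : ∀ l : Fin n, l.val = i.val ∨ l.val = j.val ∨ l.val = k.val := by
    intro l
    by_cases h : l = i
    · left; rw [h]
    · by_cases h' : l = j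
      · right; left; rw [h']
      · right; right; rw [hcon l h h']
  have h0 := key ⟨0, by omega⟩
  have h1 := key ⟨1, by omega⟩
  have h2 := key ⟨2, by omega⟩
  have h3 := key ⟨3, by omega⟩
  simp only at h0 h1 h2 h3
  omega

/-- a scalar `lam ≠ 0` with `lam² ≠ 1` -/
theorem exists_lam (hF : 5 ≤ Fintype.card F) : ∃ lam : F, lam ≠ 0 ∧ lam * lam ≠ 1 := by
  classical
  have h : ∃ lam : F, lam ∉ ({0, 1, -1} : Finset F) := by
    by_contra hcon
    push Not at hcon
    have h1 : (Finset.univ : Finset F) ⊆ {0, 1, -1} := fun x _ => hcon x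
    have h2 := Finset.card_le_card h1
    have h3 : ({0, 1, -1} : Finset F).card ≤ 3 := Finset.card_le_three
    rw [Finset.card_univ] at h2
    omega
  obtain ⟨lam, hl⟩ := h
  simp only [Finset.mem_insert, Finset.mem_singleton, not_or] at hl
  refine ⟨lam, hl.1, fun h => ?_⟩
  have h1 : (lam - 1) * (lam + 1) = 0 := by linear_combination h
  rcases mul_eq_zero.1 h1 with h2 | h2
  · exact hl.2.1 (sub_eq_zero.1 h2)
  · exact hl.2.2 (eq_neg_of_add_eq_zero_left h2)

/-- the case of rank at least four -/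
theorem of_four (hn : 4 ≤ n) (hB : BRel X Ys) (ψ : E →* G)
    (hψ : Function.Surjective ψ) (hc : ψ.ker ≤ Subgroup.center E) {a c d : J n}
    (hcd : IsRoot c d) (h1 : c ≠ a) (h2' : c ≠ ng a) (h3 : d ≠ a) (h4 : d ≠ ng a) (s t : F) :
    CL ψ (Ys a s) (X c d t) := by
  obtain ⟨l, hla, hlc, hld⟩ := exists_fourth_ab hn (ab a) (ab c) (ab d)
  have hce : IsRoot c (Sum.inl l : J n) := isRoot_iff_ab.2 (by rw [ab_inl]; exact hlc.symm)
  have hed : IsRoot (Sum.inl l : J n) d := isRoot_iff_ab.2 (by rw [ab_inl]; exact hld)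
  have hea : (Sum.inl l : J n) ≠ a := fun h => hla (by rw [← h, ab_inl])
  have hena : (Sum.inl l : J n) ≠ ng a := fun h => hla (by rw [← ab_ng a, ← h, ab_inl])
  have e : X c d t = ⁅X c (Sum.inl l) t, X (Sum.inl l) d 1⁆ := by
    have := hB.dX.mul c (Sum.inl l) d hce hed hcd t 1
    rw [mul_one] at this
    rw [← this, cm_def, commutatorElement_def]
  rw [e]
  exact CL_of_comm ψ hψ hc (hB.ycomm a c (Sum.inl l) hce hea h2' s t)
    (hB.ycomm a (Sum.inl l) d hed h3 hena s 1)

end CLYD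

open CLYD

/-- CLYD: the lifts of `Ys a s` and of a long root element with disjoint support commute -/
theorem cl_Ys_X_disj (π : G →* Matrix (I n) (I n) F)
    (hπX : ∀ a b, IsRoot a b → ∀ t : F, π (X a b t) = xmB a b t)
    (hπY : ∀ a, ∀ t : F, π (Ys a t) = ymB a t) (hn : 3 ≤ n) (h2 : (2 : F) ≠ 0)
    (hreg : 4 ≤ n ∨ 5 ≤ Fintype.card F) (hB : BRel X Ys) (ψ : E →* G)
    (hψ : Function.Surjective ψ) (hc : ψ.ker ≤ Subgroup.center E) {a c d : J n}
    (hcd : IsRoot c d) (h1 : c ≠ a) (h2' : c ≠ ng a) (h3 : d ≠ a) (h4 : d ≠ ng a) (s t : F) :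
    CL ψ (Ys a s) (X c d t) := by
  rcases hreg with hn4 | hF
  · exact of_four hn4 hB ψ hψ hc hcd h1 h2' h3 h4 s t
  obtain ⟨lam, hl0, hl2⟩ := exists_lam hF
  have hh : tX X c d lam ∈ HhB X Ys :=
    Subgroup.subset_closure (Or.inl ⟨c, d, lam, hcd, hl0, rfl⟩)
  have hπ := pi_tX_B π hπX hcd hl0
  have hne1 : a ≠ ng d := fun h => h4 (by rw [h, ng_ng])
  have hne2 : a ≠ ng c := fun h => h2' (by rw [h, ng_ng])
  -- the diagonal entries of `π h`
  have dc : π (tX X c d lam) (Sum.inr c) (Sum.inr c) = lam := by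
    rw [hπ]
    simp [blkB, ev]
  have dd : π (tX X c d lam) (Sum.inr d) (Sum.inr d) = lam⁻¹ := by
    rw [hπ]
    have hd1 : ¬ (d = c ∨ d = ng d) := by
      rintro (h | h)
      · exact hcd.1 h.symm
      · exact ng_ne d h.symm
    simp [blkB, ev, hd1]
  have da : π (tX X c d lam) (Sum.inr a) (Sum.inr a) = 1 := by
    rw [hπ]
    have ha1 : ¬ (a = c ∨ a = ng d) := by
      rintro (h | h)
      · exact h1 h.symm
      · exact hne1 h
    have ha2 : ¬ (a = d ∨ a = ng c) := by
      rintro (h | h)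
      · exact h3 h.symm
      · exact hne2 h
    simp [blkB, ev, ha1, ha2]
  have d0 : π (tX X c d lam) o0 o0 = 1 := by
    rw [hπ]
    simp [blkB]
  -- `h` commutes with `Ys a s`
  have hY := HhB_conj_Ys_eq π hπX hπY hn h2 hB hh a s
  rw [da, d0, inv_one, mul_one, one_mul] at hY
  have cY : Commute (Ys a s) (tX X c d lam) := by
    have : tX X c d lam * Ys a s = Ys a s * tX X c d lam := mul_inv_eq_iff_eq_mul.1 hY
    exact this.symm
  -- `X c d t` is a commutator
  set v : F := (lam * lam - 1)⁻¹ * t with hv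
  have hX := HhB_conj_X_eq π hπX hπY hn h2 hB hh hcd v
  rw [dc, dd, inv_inv] at hX
  have e : X c d t = ⁅tX X c d lam, X c d v⁆ := by
    rw [commutatorElement_def, hX, WCONJ.X_inv hB.dX hcd, ← hB.dX.add c d hcd]
    congr 1
    rw [hv]
    have hne : lam * lam - 1 ≠ 0 := sub_ne_zero.2 hl2
    have e1 : lam * lam * ((lam * lam - 1)⁻¹ * t) + -((lam * lam - 1)⁻¹ * t) =
        (lam * lam - 1) * (lam * lam - 1)⁻¹ * t := by ring
    rw [e1, mul_inv_cancel₀ hne, one_mul]
  rw [e]
  exact CL_of_comm ψ hψ hc cY (hB.ycomm a c d hcd h3 h2' s v)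

end Cfsg.Agent.S2094P
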