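import Cfsg.Agent.Helper27.S2094CONJSS2

/-! S2094 piece CONJSS2: helper11's hedge crossed with helper27's own landing; to avoid duplicate
declarations this module is only a re-export shim of `Cfsg.Agent.Helper27.S2094CONJSS2`
(`wY_conj_Ys_self`, `wY_conj_Ys_ng`). -/
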