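import Mathlib
import Cfsg.Agent.Helper2.S2094.DefsR
import Cfsg.Agent.Helper26.S2094WCONJWB

set_option autoImplicit false
set_option linter.unusedSectionVars false
set_option linter.unusedVariables false

/-! S2094 chapter N, piece CRELB (driver helper2): the relations between the sign changes `cB j`
modulo the torus `HhB`. -/

namespace Cfsg.Agent.S2094P

open Matrix Cfsg.Agent.S3352P Cfsg.Agent.S3351P Cfsg.Agent.S2096P Cfsg.Agent.S2086P Cfsg.Agent.RGD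

variable {n : ℕ} {F : Type*} [Field F] {M : Type*} [Group M] {X : J n → J n → F → M}
  {Ys : J n → F → M}

namespace CRELB

/-- `wY a (-1) = (wY a 1)⁻¹` -/
theorem wY_neg_one (hB : BRel X Ys) (a : J n) : wY Ys a (-1 : F) = (wY Ys a 1)⁻¹ := by
  unfold wY
  have e : ((-1 : F))⁻¹ = -1 := by rw [inv_neg, inv_one]
  rw [e, inv_one, Ys_neg hB, Ys_neg hB]
  group

/-- `tY a (-1) = (wY a 1 * wY a 1)⁻¹` -/
theorem tY_neg_one (hB : BRel X Ys) (a : J n) :
    tY Ys a (-1 : F) = (wY Ys a 1 * wY Ys a 1)⁻¹ := by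
  unfold tY
  rw [wY_neg_one hB, _root_.mul_inv_rev]

theorem tY_neg_one_mem (a : J n) : tY Ys a (-1 : F) ∈ HhB X Ys :=
  Subgroup.subset_closure (Or.inr ⟨a, -1, neg_ne_zero.2 one_ne_zero, rfl⟩)

theorem isRoot_inl {j k : Fin n} (hjk : j ≠ k) : IsRoot (Sum.inl j : J n) (Sum.inl k) := by
  refine ⟨fun h => hjk (Sum.inl_injective h), fun h => ?_⟩
  rw [ng_inl] at h
  exact Sum.inl_ne_inr h

end CRELB

open CRELB

theorem cB_sq_mem (hB : BRel X Ys) (j : Fin n) : cB Ys j * cB Ys j ∈ HhB X Ys := by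
  unfold cB
  have h := tY_neg_one hB (X := X) (Ys := Ys) (Sum.inl j)
  have h' : wY Ys (Sum.inl j) (1 : F) * wY Ys (Sum.inl j) 1 = (tY Ys (Sum.inl j) (-1 : F))⁻¹ := by
    rw [h, inv_inv]
  rw [h']
  exact Subgroup.inv_mem _ (tY_neg_one_mem _)

theorem cB_conj_cB_mem (hn : 3 ≤ n) (hB : BRel X Ys) {j k : Fin n} (hjk : j ≠ k) :
    cB Ys j * cB Ys k * (cB Ys j)⁻¹ * (cB Ys k)⁻¹ ∈ HhB X Ys := by
  unfold cB
  have h := wY_conj_wY_of_ne hn hB (isRoot_inl hjk) (t := (1 : F)) one_ne_zero (u := (1 : F))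
    one_ne_zero
  rw [h, wY_neg_one hB, ← _root_.mul_inv_rev, ← tY_neg_one hB]
  exact tY_neg_one_mem _

end Cfsg.Agent.S2094P
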