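import Mathlib
import Cfsg.Agent.Helper2.S2094.DefsR
import Cfsg.Agent.Helper22.S2094DTRANS
import Cfsg.Agent.Helper25.S2096WXID
import Cfsg.Agent.Helper27.S2094WYID
import Cfsg.Agent.Helper26.S2094WCONJWB

set_option autoImplicit false
set_option linter.unusedSectionVars false
set_option linter.unusedVariables false

/-! S2094 chapter N, piece HNORMB (driver helper2): the Weyl elements `wX`, `wY` normalize the
torus `HhB`. -/

namespace Cfsg.Agent.S2094P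

open Matrix Cfsg.Agent.S3352P Cfsg.Agent.S3351P Cfsg.Agent.S2096P Cfsg.Agent.S2086P Cfsg.Agent.RGD

variable {n : ℕ} {F : Type*} [Field F] {M : Type*} [Group M] {X : J n → J n → F → M}
  {Ys : J n → F → M}

namespace HNORMB

theorem cj_mul (g x y : M) : g * (x * y) * g⁻¹ = (g * x * g⁻¹) * (g * y * g⁻¹) := by group

theorem cj_inv (g x : M) : g * x⁻¹ * g⁻¹ = (g * x * g⁻¹)⁻¹ := by group

theorem Hh_le_HhB : Hh X ≤ HhB X Ys :=
  Subgroup.closure_mono Set.subset_union_left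

theorem tY_mem {c : J n} {v : F} (hv : v ≠ 0) : tY Ys c v ∈ HhB X Ys :=
  Subgroup.subset_closure (Or.inr ⟨c, v, hv, rfl⟩)

theorem tX_mem {c d : J n} (hcd : IsRoot c d) {v : F} (hv : v ≠ 0) : tX X c d v ∈ HhB X Ys :=
  Subgroup.subset_closure (Or.inl ⟨c, d, v, hcd, hv, rfl⟩)

/-- `wY c v * wY c w` lies in the torus -/
theorem wY_mul_wY_mem (hB : BRel X Ys) (c : J n) {v w : F} (hv : v ≠ 0) (hw : w ≠ 0) :
    wY Ys c v * wY Ys c w ∈ HhB X Ys := by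
  have e0 : wY Ys c w = (wY Ys c (-w))⁻¹ := by rw [wY_inv' hB, neg_neg]
  rw [e0, wY_eq_tY_mul hB c v, wY_eq_tY_mul hB c (-w), _root_.mul_inv_rev]
  have e : tY Ys c v * wY Ys c 1 * ((wY Ys c 1)⁻¹ * (tY Ys c (-w))⁻¹) =
      tY Ys c v * (tY Ys c (-w))⁻¹ := by group
  rw [e]
  exact Subgroup.mul_mem _ (tY_mem hv) (Subgroup.inv_mem _ (tY_mem (neg_ne_zero.2 hw)))

/-- `wX c d v * wX c d w` lies in the torus -/
theorem wX_mul_wX_mem [Fintype F] (hX : DRel X) {c d : J n} (hcd : IsRoot c d) {v w : F} (hv : v ≠ 0)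
    (hw : w ≠ 0) : wX X c d v * wX X c d w ∈ HhB X Ys := by
  have e0 : wX X c d w = (wX X c d (-w))⁻¹ := by rw [wX_inv' hX hcd, neg_neg]
  rw [e0, wX_eq_tX_mul hX hcd v, wX_eq_tX_mul hX hcd (-w), _root_.mul_inv_rev]
  have e : tX X c d v * wX X c d 1 * ((wX X c d 1)⁻¹ * (tX X c d (-w))⁻¹) =
      tX X c d v * (tX X c d (-w))⁻¹ := by group
  rw [e]
  exact Subgroup.mul_mem _ (tX_mem hcd hv) (Subgroup.inv_mem _ (tX_mem hcd (neg_ne_zero.2 hw)))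

/-- `wX a b t` maps `wY c u` to `wY c' (η u)` -/
theorem wX_conj_wY_exists [Fintype F] (hn : 3 ≤ n) (hB : BRel X Ys) {a b : J n} (hab : IsRoot a b) {t : F}
    (ht : t ≠ 0) (c : J n) :
    ∃ c' : J n, ∃ η : F, η ≠ 0 ∧ ∀ u : F, u ≠ 0 →
      wX X a b t * wY Ys c u * (wX X a b t)⁻¹ = wY Ys c' (η * u) := by
  by_cases h1 : c = a
  · subst h1
    refine ⟨b, -t⁻¹, neg_ne_zero.2 (inv_ne_zero ht), fun u hu => ?_⟩
    rw [wX_conj_wY_fst hn hB hab ht hu, neg_mul]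
  by_cases h2 : c = b
  · subst h2
    exact ⟨a, t, ht, fun u hu => wX_conj_wY_snd hn hB hab ht hu⟩
  have hflip : wX X a b t = wX X (ng b) (ng a) (-t) := by
    rw [wX_flip hB.dX hab, neg_neg]
  by_cases h3 : c = ng a
  · subst h3
    refine ⟨ng b, -t, neg_ne_zero.2 ht, fun u hu => ?_⟩
    rw [hflip]
    exact wX_conj_wY_snd hn hB hab.flip (neg_ne_zero.2 ht) hu
  by_cases h4 : c = ng b
  · subst h4
    refine ⟨ng a, -(-t)⁻¹, neg_ne_zero.2 (inv_ne_zero (neg_ne_zero.2 ht)), fun u hu => ?_⟩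
    rw [hflip, wX_conj_wY_fst hn hB hab.flip (neg_ne_zero.2 ht) hu, neg_mul]
  · exact ⟨c, 1, one_ne_zero, fun u hu => by
      rw [wX_conj_wY_of_ne hn hB hab t h1 h2 h3 h4 u, one_mul]⟩

/-- `wY a t` maps `wX c d u` to `wX c' d' (η u)` -/
theorem wY_conj_wX_exists (hn : 3 ≤ n) (hB : BRel X Ys) (a : J n) {t : F} (ht : t ≠ 0)
    {c d : J n} (hcd : IsRoot c d) :
    ∃ c' d' : J n, IsRoot c' d' ∧ ∃ η : F, η ≠ 0 ∧ ∀ u : F, u ≠ 0 →
      wY Ys a t * wX X c d u * (wY Ys a t)⁻¹ = wX X c' d' (η * u) := by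
  have ht' : t⁻¹ ≠ 0 := inv_ne_zero ht
  by_cases h1 : c = a
  · subst h1
    refine ⟨ng c, d, isRoot_ng_left' hcd, -(t⁻¹ * t⁻¹), neg_ne_zero.2 (mul_ne_zero ht' ht'),
      fun u hu => ?_⟩
    rw [wY_conj_wX_fst hn hB hcd ht hu, neg_mul]
  by_cases h2 : d = a
  · subst h2
    refine ⟨c, ng d, isRoot_ng_right' hcd, -(t * t), neg_ne_zero.2 (mul_ne_zero ht ht),
      fun u hu => ?_⟩
    rw [wY_conj_wX_snd hn hB hcd ht hu, neg_mul]
  by_cases h3 : c = ng a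
  · subst h3
    have had : IsRoot a d := by
      have := isRoot_ng_left' hcd
      rwa [ng_ng] at this
    refine ⟨a, d, had, -(t * t), neg_ne_zero.2 (mul_ne_zero ht ht), fun u hu => ?_⟩
    rw [wY_conj_wX_ng_fst hn hB had ht hu, neg_mul]
  by_cases h4 : d = ng a
  · subst h4
    have hca : IsRoot c a := by
      have := isRoot_ng_right' hcd
      rwa [ng_ng] at this
    refine ⟨c, a, hca, -(t⁻¹ * t⁻¹), neg_ne_zero.2 (mul_ne_zero ht' ht'), fun u hu => ?_⟩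
    rw [wY_conj_wX_ng_snd hn hB hca ht hu, neg_mul]
  · exact ⟨c, d, hcd, 1, one_ne_zero, fun u hu => by
      rw [wY_conj_wX_of_ne hn hB a t hcd h1 h3 h2 h4 u, one_mul]⟩

theorem wX_conj_tY_mem [Fintype F] (hn : 3 ≤ n) (hB : BRel X Ys) {a b : J n} (hab : IsRoot a b) {t : F}
    (ht : t ≠ 0) (c : J n) {u : F} (hu : u ≠ 0) :
    wX X a b t * tY Ys c u * (wX X a b t)⁻¹ ∈ HhB X Ys := by
  obtain ⟨c', η, hη, h⟩ := wX_conj_wY_exists hn hB hab ht c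
  unfold tY
  rw [cj_mul, h u hu, h (-1) (neg_ne_zero.2 one_ne_zero)]
  exact wY_mul_wY_mem hB c' (mul_ne_zero hη hu) (mul_ne_zero hη (neg_ne_zero.2 one_ne_zero))

theorem wY_conj_tX_mem [Fintype F] (hn : 3 ≤ n) (hB : BRel X Ys) (a : J n) {t : F} (ht : t ≠ 0)
    {c d : J n} (hcd : IsRoot c d) {u : F} (hu : u ≠ 0) :
    wY Ys a t * tX X c d u * (wY Ys a t)⁻¹ ∈ HhB X Ys := by
  obtain ⟨c', d', hcd', η, hη, h⟩ := wY_conj_wX_exists hn hB a ht hcd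
  unfold tX
  rw [cj_mul, h u hu, h (-1) (neg_ne_zero.2 one_ne_zero)]
  exact wX_mul_wX_mem hB.dX hcd' (mul_ne_zero hη hu)
    (mul_ne_zero hη (neg_ne_zero.2 one_ne_zero))

theorem wY_conj_tY_self_mem (hn : 3 ≤ n) (hB : BRel X Ys) (a : J n) {t : F} (ht : t ≠ 0)
    {u : F} (hu : u ≠ 0) :
    wY Ys a t * tY Ys a u * (wY Ys a t)⁻¹ ∈ HhB X Ys := by
  unfold tY
  rw [cj_mul, wY_conj_wY_self hn hB a ht hu,
    wY_conj_wY_self hn hB a ht (neg_ne_zero.2 one_ne_zero)]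
  exact wY_mul_wY_mem hB a (mul_ne_zero (mul_ne_zero ht ht) (inv_ne_zero hu))
    (mul_ne_zero (mul_ne_zero ht ht) (inv_ne_zero (neg_ne_zero.2 one_ne_zero)))

theorem wY_conj_tY_mem (hn : 3 ≤ n) (hB : BRel X Ys) (a : J n) {t : F} (ht : t ≠ 0)
    (c : J n) {u : F} (hu : u ≠ 0) :
    wY Ys a t * tY Ys c u * (wY Ys a t)⁻¹ ∈ HhB X Ys := by
  by_cases h1 : c = a
  · subst h1
    exact wY_conj_tY_self_mem hn hB c ht hu
  by_cases h2 : c = ng a
  · subst h2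
    have hsw : wY Ys a t = wY Ys (ng a) t⁻¹ := by
      have := wY_swap hn hB (ng a) ht
      rwa [ng_ng] at this
    rw [hsw]
    exact wY_conj_tY_self_mem hn hB (ng a) (inv_ne_zero ht) hu
  · have hac : IsRoot a c := by
      refine ⟨fun h => h1 h.symm, fun h => h2 ?_⟩
      rw [h, ng_ng]
    unfold tY
    rw [cj_mul, wY_conj_wY_of_ne hn hB hac ht hu,
      wY_conj_wY_of_ne hn hB hac ht (neg_ne_zero.2 one_ne_zero)]
    exact wY_mul_wY_mem hB c (neg_ne_zero.2 hu) (neg_ne_zero.2 (neg_ne_zero.2 one_ne_zero))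

end HNORMB

open HNORMB

theorem wX_conj_HhB_mem [Fintype F] (π : M →* Matrix (I n) (I n) F)
    (hπX : ∀ a b, IsRoot a b → ∀ t : F, π (X a b t) = xmB a b t) (hn : 3 ≤ n) (hB : BRel X Ys)
    {a b : J n} (hab : IsRoot a b) {t : F} (ht : t ≠ 0) {h : M} (hh : h ∈ HhB X Ys) :
    wX X a b t * h * (wX X a b t)⁻¹ ∈ HhB X Ys := by
  induction hh using Subgroup.closure_induction with
  | mem x hx =>
    rcases hx with ⟨c, d, u, hcd, hu, rfl⟩ | ⟨c, u, hu, rfl⟩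
    · apply Hh_le_HhB
      exact Hh_conj_mem_B π hπX hn hB.dX
        (Subgroup.subset_closure ⟨a, b, t, hab, ht, rfl⟩)
        (Subgroup.subset_closure ⟨c, d, u, hcd, hu, rfl⟩)
    · exact wX_conj_tY_mem hn hB hab ht c hu
  | one => simp
  | mul x y _ _ hx hy =>
    rw [cj_mul]
    exact Subgroup.mul_mem _ hx hy
  | inv x _ hx =>
    rw [cj_inv]
    exact Subgroup.inv_mem _ hx

theorem wY_conj_HhB_mem [Fintype F] (hn : 3 ≤ n) (hB : BRel X Ys) (a : J n) {t : F} (ht : t ≠ 0)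
    {h : M} (hh : h ∈ HhB X Ys) : wY Ys a t * h * (wY Ys a t)⁻¹ ∈ HhB X Ys := by
  induction hh using Subgroup.closure_induction with
  | mem x hx =>
    rcases hx with ⟨c, d, u, hcd, hu, rfl⟩ | ⟨c, u, hu, rfl⟩
    · exact wY_conj_tX_mem hn hB a ht hcd hu
    · exact wY_conj_tY_mem hn hB a ht c hu
  | one => simp
  | mul x y _ _ hx hy =>
    rw [cj_mul]
    exact Subgroup.mul_mem _ hx hy
  | inv x _ hx =>
    rw [cj_inv]
    exact Subgroup.inv_mem _ hx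

end Cfsg.Agent.S2094P
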