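import Mathlib
import Cfsg.Agent.Helper2.S2094.DefsR
import Cfsg.Agent.Helper11.S2094CRELB
import Cfsg.Agent.Helper11.S2094HNORMB

set_option autoImplicit false
set_option linter.unusedSectionVars false
set_option linter.unusedVariables false

/-! S2094 chapter N, piece CSFORMB (driver helper2): normal form of the elements of `CSB ⊔ HhB`
(twin of `Helper8.S2096CSFORM`). -/

namespace Cfsg.Agent.S2094P

open Matrix Cfsg.Agent.S3352P Cfsg.Agent.S3351P Cfsg.Agent.S2096P Cfsg.Agent.S2086P Cfsg.Agent.RGD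

variable {n : ℕ} {F : Type*} [Field F] {M : Type*} [Group M] {X : J n → J n → F → M}
  {Ys : J n → F → M}

namespace CSFORMB

variable [Fintype F]

/-- `g` normalizes the torus (from the right) -/
def NormH (X : J n → J n → F → M) (Ys : J n → F → M) (g : M) : Prop :=
  ∀ h ∈ HhB X Ys, g⁻¹ * h * g ∈ HhB X Ys

theorem normH_one : NormH X Ys (1 : M) := fun h hh => by simpa using hh

theorem normH_mul {g g' : M} (hg : NormH X Ys g) (hg' : NormH X Ys g') : NormH X Ys (g * g') := by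
  intro h hh
  have := hg' _ (hg h hh)
  have e : (g * g')⁻¹ * h * (g * g') = g'⁻¹ * (g⁻¹ * h * g) * g' := by group
  rw [e]
  exact this

theorem normH_cB (hn : 3 ≤ n) (hB : BRel X Ys) (j : Fin n) : NormH X Ys (cB Ys j) := by
  intro h hh
  -- `(cB j)⁻¹ = s⁻¹ * cB j`, `s = cB j * cB j ∈ HhB`
  have hs := cB_sq_mem (X := X) hB j
  have h1 : cB Ys j * h * (cB Ys j)⁻¹ ∈ HhB X Ys := by
    unfold cB
    exact wY_conj_HhB_mem hn hB _ one_ne_zero hh
  have e : (cB Ys j)⁻¹ * h * cB Ys j =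
      (cB Ys j * cB Ys j)⁻¹ * (cB Ys j * h * (cB Ys j)⁻¹) * (cB Ys j * cB Ys j) := by group
  rw [e]
  exact Subgroup.mul_mem _ (Subgroup.mul_mem _ (Subgroup.inv_mem _ hs) h1) hs

theorem normH_prod (hn : 3 ≤ n) (hB : BRel X Ys) (l : List (Fin n)) :
    NormH X Ys (l.map (cB Ys)).prod := by
  induction l with
  | nil => simpa using normH_one
  | cons a l ih =>
    rw [List.map_cons, List.prod_cons]
    exact normH_mul (normH_cB hn hB a) ih

/-- move an element of the torus to the right -/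
theorem swap_H {g h : M} (hg : NormH X Ys g) (hh : h ∈ HhB X Ys) :
    ∃ h' ∈ HhB X Ys, h * g = g * h' :=
  ⟨g⁻¹ * h * g, hg h hh, by group⟩

/-- the main step: multiply a normal form by `cB Ys j` on the left -/
theorem step (hn : 3 ≤ n) (hB : BRel X Ys) (l : List (Fin n)) (hnd : l.Nodup) (j : Fin n) :
    ∃ l' : List (Fin n), l'.Nodup ∧ (∀ x ∈ l', x = j ∨ x ∈ l) ∧ ∃ h ∈ HhB X Ys,
      cB Ys j * (l.map (cB Ys)).prod = (l'.map (cB Ys)).prod * h := by
  induction l with
  | nil =>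
    refine ⟨[j], List.nodup_singleton j, ?_, 1, Subgroup.one_mem _, ?_⟩
    · intro x hx; left; exact List.mem_singleton.mp hx
    · simp
  | cons a l ih =>
    rw [List.nodup_cons] at hnd
    rw [List.map_cons, List.prod_cons]
    by_cases hja : j = a
    · subst hja
      obtain ⟨h', hh', e⟩ := swap_H (normH_prod hn hB l) (cB_sq_mem (X := X) hB j)
      refine ⟨l, hnd.2, fun x hx => Or.inr (List.mem_cons_of_mem _ hx), h', hh', ?_⟩
      rw [← mul_assoc, e]
    · obtain ⟨l₁, hnd₁, hsub₁, h₂, hh₂, e₂⟩ := ih hnd.2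
      -- `c_j c_a = h₀ c_a c_j`
      have h0 : cB Ys j * cB Ys a * (cB Ys j)⁻¹ * (cB Ys a)⁻¹ ∈ HhB X Ys :=
        cB_conj_cB_mem hn hB hja
      have hNa : NormH X Ys (cB Ys a * (cB Ys j * (l.map (cB Ys)).prod)) :=
        normH_mul (normH_cB hn hB a) (normH_mul (normH_cB hn hB j) (normH_prod hn hB l))
      obtain ⟨h', hh', e⟩ := swap_H hNa h0
      have hal₁ : a ∉ l₁ := by
        intro ha
        rcases hsub₁ a ha with h | h
        · exact hja h.symm
        · exact hnd.1 h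
      refine ⟨a :: l₁, List.nodup_cons.mpr ⟨hal₁, hnd₁⟩, ?_, h₂ * h', Subgroup.mul_mem _ hh₂ hh', ?_⟩
      · intro x hx
        rcases List.mem_cons.mp hx with rfl | hx
        · right; exact List.mem_cons_self
        · rcases hsub₁ x hx with h | h
          · left; exact h
          · right; exact List.mem_cons_of_mem _ h
      · have e1 : cB Ys j * (cB Ys a * (l.map (cB Ys)).prod) =
            (cB Ys j * cB Ys a * (cB Ys j)⁻¹ * (cB Ys a)⁻¹) *
              (cB Ys a * (cB Ys j * (l.map (cB Ys)).prod)) := by group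
        rw [e1, e, e₂, List.map_cons, List.prod_cons]
        group

end CSFORMB

open CSFORMB

/-- CSFORMB -/
theorem exists_list_of_mem_CSB [Fintype F] (hn : 3 ≤ n) (hB : BRel X Ys) {y : M}
    (hy : y ∈ CSB Ys ⊔ HhB X Ys) :
    ∃ l : List (Fin n), l.Nodup ∧ ∃ h ∈ HhB X Ys, y = (l.map (cB Ys)).prod * h := by
  -- left multiplication by an element of the torus
  have hleftH : ∀ {y : M}, (∃ l : List (Fin n), l.Nodup ∧ ∃ h ∈ HhB X Ys,
      y = (l.map (cB Ys)).prod * h) → ∀ h₀ ∈ HhB X Ys, ∃ l : List (Fin n), l.Nodup ∧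
      ∃ h ∈ HhB X Ys, h₀ * y = (l.map (cB Ys)).prod * h := by
    rintro y ⟨l, hnd, h, hh, rfl⟩ h₀ hh₀
    obtain ⟨h', hh', e⟩ := swap_H (normH_prod hn hB l) hh₀
    exact ⟨l, hnd, h' * h, Subgroup.mul_mem _ hh' hh, by rw [← mul_assoc, e, mul_assoc]⟩
  have hleftC : ∀ {y : M}, (∃ l : List (Fin n), l.Nodup ∧ ∃ h ∈ HhB X Ys,
      y = (l.map (cB Ys)).prod * h) → ∀ j : Fin n, ∃ l : List (Fin n), l.Nodup ∧
      ∃ h ∈ HhB X Ys, cB Ys j * y = (l.map (cB Ys)).prod * h := by
    rintro y ⟨l, hnd, h, hh, rfl⟩ j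
    obtain ⟨l', hnd', -, h', hh', e⟩ := step hn hB l hnd j
    exact ⟨l', hnd', h' * h, Subgroup.mul_mem _ hh' hh, by rw [← mul_assoc, e, mul_assoc]⟩
  have hy' : y ∈ Subgroup.closure ({g | ∃ j : Fin n, g = cB Ys j} ∪
      ({g | ∃ a b, ∃ t : F, IsRoot a b ∧ t ≠ 0 ∧ g = tX X a b t} ∪
        {g | ∃ a, ∃ t : F, t ≠ 0 ∧ g = tY Ys a t})) := by
    rw [Subgroup.closure_union]
    exact hy
  clear hy
  induction hy' using Subgroup.closure_induction_left with
  | one => exact ⟨[], List.nodup_nil, 1, Subgroup.one_mem _, by simp⟩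
  | mul_left x hx y _ ih =>
    rcases hx with ⟨j, rfl⟩ | hx
    · exact hleftC ih j
    · exact hleftH ih x (Subgroup.subset_closure hx)
  | inv_mul_cancel x hx y _ ih =>
    rcases hx with ⟨j, rfl⟩ | hx
    · have e : (cB Ys j)⁻¹ * y = cB Ys j * ((cB Ys j * cB Ys j)⁻¹ * y) := by group
      rw [e]
      exact hleftC (hleftH ih _ (Subgroup.inv_mem _ (cB_sq_mem hB j))) j
    · exact hleftH ih x⁻¹ (Subgroup.inv_mem _ (Subgroup.subset_closure hx))

end Cfsg.Agent.S2094P
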