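import Cfsg.Agent.Helper27.S2094WYID

/-! S2094 piece WYID: helper11's hedge crossed with helper27's own landing; to avoid duplicate
declarations this module is only a re-export shim of `Cfsg.Agent.Helper27.S2094WYID`
(`wY_inv'`, `wY_eq_tY_mul`, `tY_one`, `wY_swap`). -/
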