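import Mathlib
import Cfsg.Agent.Helper2.S2096.Defs
import Cfsg.Agent.Helper25.S2096WXCONJW
import Cfsg.Agent.Helper25.S2096WXID
import Cfsg.Agent.Helper5.S2096TXID

/-! S2096 piece CREL1 (driver helper2; helper11): the sign changes `cS o j` are commuting involutions
modulo the torus `Ĥ`. -/

set_option autoImplicit false
set_option linter.unusedSectionVars false
set_option linter.unusedVariables false
set_option linter.unusedSimpArgs false

namespace Cfsg.Agent.S2096P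

open Matrix Cfsg.Agent.S3352P Cfsg.Agent.S3351P Cfsg.Agent.S2086P

variable {n : ℕ} {F : Type*} [Field F] [Fintype F] {M : Type*} [Group M] {X : J n → J n → F → M}

namespace CREL1

theorem sw_eval (a b c : J n) (hab : IsRoot a b) :
    sw a b c = if c = a then b else if c = b then a else if c = ng a then ng b
      else if c = ng b then ng a else c := by
  have h1 : a ≠ b := hab.1
  have h2 : a ≠ ng b := hab.2
  have h3 : ng a ≠ b := fun h => h2 (by rw [← h, ng_ng])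
  have h4 : ng a ≠ ng b := fun h => h1 (ng_injective h)
  have h5 : ng a ≠ a := ng_ne a
  have h6 : ng b ≠ b := ng_ne b
  unfold sw
  rw [Equiv.Perm.mul_apply]
  by_cases c1 : c = a
  · subst c1
    rw [if_pos rfl, Equiv.swap_apply_of_ne_of_ne (Ne.symm h5) h2, Equiv.swap_apply_left]
  · rw [if_neg c1]
    by_cases c2 : c = b
    · subst c2
      rw [if_pos rfl, Equiv.swap_apply_of_ne_of_ne (Ne.symm h3) (Ne.symm h6),
        Equiv.swap_apply_right]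
    · rw [if_neg c2]
      by_cases c3 : c = ng a
      · subst c3
        rw [if_pos rfl, Equiv.swap_apply_left, Equiv.swap_apply_of_ne_of_ne (Ne.symm h2) h6]
      · rw [if_neg c3]
        by_cases c4 : c = ng b
        · subst c4
          rw [if_pos rfl, Equiv.swap_apply_right, Equiv.swap_apply_of_ne_of_ne h5 h3]
        · rw [if_neg c4, Equiv.swap_apply_of_ne_of_ne c3 c4, Equiv.swap_apply_of_ne_of_ne c1 c2]

theorem root_ll {i j : Fin n} (h : i ≠ j) : IsRoot (Sum.inl i : J n) (Sum.inl j) :=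
  isRoot_iff_ab.2 (by simpa using h)

theorem root_lr {i j : Fin n} (h : i ≠ j) : IsRoot (Sum.inl i : J n) (Sum.inr j) :=
  isRoot_iff_ab.2 (by simpa using h)

theorem root_rl {i j : Fin n} (h : i ≠ j) : IsRoot (Sum.inr i : J n) (Sum.inl j) :=
  isRoot_iff_ab.2 (by simpa using h)

theorem root_rr {i j : Fin n} (h : i ≠ j) : IsRoot (Sum.inr i : J n) (Sum.inr j) :=
  isRoot_iff_ab.2 (by simpa using h)

theorem wX_mem_Nh {a b : J n} (hab : IsRoot a b) {t : F} (ht : t ≠ 0) : wX X a b t ∈ Nh X :=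
  Subgroup.subset_closure ⟨a, b, t, hab, ht, rfl⟩

theorem tX_mem_Hh {a b : J n} (hab : IsRoot a b) {t : F} (ht : t ≠ 0) : tX X a b t ∈ Hh X :=
  Subgroup.subset_closure ⟨a, b, t, hab, ht, rfl⟩

/-- the square of `wX a b 1` lies in the torus -/
theorem wX_sq_mem (hX : DRel X) {a b : J n} (hab : IsRoot a b) :
    wX X a b 1 * wX X a b 1 ∈ Hh X := by
  have h1 : tX X a b (-1) ∈ Hh X := tX_mem_Hh hab (neg_ne_zero.2 one_ne_zero)
  have h2 : tX X a b (-1) = (wX X a b 1 * wX X a b 1)⁻¹ := by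
    unfold tX
    rw [_root_.mul_inv_rev, wX_inv' hX hab 1]
  rw [h2] at h1
  exact (Subgroup.inv_mem_iff _).1 h1

/-- `wX a b t ∈ Ĥ * wX a b 1` -/
theorem wX_eq_mul (hX : DRel X) {a b : J n} (hab : IsRoot a b) {t : F} (ht : t ≠ 0) :
    ∃ h ∈ Hh X, wX X a b t = h * wX X a b 1 :=
  ⟨tX X a b t, tX_mem_Hh hab ht, wX_eq_tX_mul hX hab t⟩

/-- conjugating a torus generator by a Weyl generator -/
theorem conj_tX_mem (π : M →* Matrix (J n) (J n) F)
    (hπ : ∀ a b, IsRoot a b → ∀ t : F, π (X a b t) = xm a b t) (hn : 3 ≤ n) (hX : DRel X)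
    {a b : J n} (hab : IsRoot a b) {t : F} (ht : t ≠ 0) {c d : J n} (hcd : IsRoot c d) {u : F}
    (hu : u ≠ 0) : wX X a b t * tX X c d u * (wX X a b t)⁻¹ ∈ Hh X := by
  obtain ⟨η, hη, hconj⟩ := wX_conj_wX π hπ hn hX hab ht hcd
  have hr : IsRoot (sw a b c) (sw a b d) := isRoot_sw hcd
  have h1 := hconj u hu
  have h2 := hconj (-1) (neg_ne_zero.2 one_ne_zero)
  have e : wX X a b t * tX X c d u * (wX X a b t)⁻¹ =
      (wX X a b t * wX X c d u * (wX X a b t)⁻¹) * (wX X a b t * wX X c d (-1) * (wX X a b t)⁻¹) := by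
    unfold tX
    group
  rw [e, h1, h2, mul_neg, mul_one, ← wX_inv' hX hr η, wX_eq_tX_mul hX hr (η * u),
    wX_eq_tX_mul hX hr η]
  have e2 : tX X (sw a b c) (sw a b d) (η * u) * wX X (sw a b c) (sw a b d) 1 *
      (tX X (sw a b c) (sw a b d) η * wX X (sw a b c) (sw a b d) 1)⁻¹ =
      tX X (sw a b c) (sw a b d) (η * u) * (tX X (sw a b c) (sw a b d) η)⁻¹ := by group
  rw [e2]
  exact Subgroup.mul_mem _ (tX_mem_Hh hr (mul_ne_zero hη hu))
    (Subgroup.inv_mem _ (tX_mem_Hh hr hη))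

/-- own copy of HNORM: `N̂` normalizes `Ĥ` -/
theorem Hh_conj_mem' (π : M →* Matrix (J n) (J n) F)
    (hπ : ∀ a b, IsRoot a b → ∀ t : F, π (X a b t) = xm a b t) (hn : 3 ≤ n) (hX : DRel X)
    {g h : M} (hg : g ∈ Nh X) (hh : h ∈ Hh X) : g * h * g⁻¹ ∈ Hh X := by
  -- generators of `N̂` normalize `Ĥ`
  have key : ∀ (a b : J n) (t : F), IsRoot a b → t ≠ 0 → ∀ h ∈ Hh X,
      wX X a b t * h * (wX X a b t)⁻¹ ∈ Hh X := by
    intro a b t hab ht h hh
    induction hh using Subgroup.closure_induction with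
    | mem x hx =>
      obtain ⟨c, d, u, hcd, hu, rfl⟩ := hx
      exact conj_tX_mem π hπ hn hX hab ht hcd hu
    | one => simp
    | mul x y _ _ hx hy =>
      have e : wX X a b t * (x * y) * (wX X a b t)⁻¹ =
          (wX X a b t * x * (wX X a b t)⁻¹) * (wX X a b t * y * (wX X a b t)⁻¹) := by group
      rw [e]
      exact Subgroup.mul_mem _ hx hy
    | inv x _ hx =>
      have e : wX X a b t * x⁻¹ * (wX X a b t)⁻¹ = (wX X a b t * x * (wX X a b t)⁻¹)⁻¹ := by group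
      rw [e]
      exact Subgroup.inv_mem _ hx
  have main : (∀ h ∈ Hh X, g * h * g⁻¹ ∈ Hh X) ∧ (∀ h ∈ Hh X, g⁻¹ * h * g⁻¹⁻¹ ∈ Hh X) := by
    induction hg using Subgroup.closure_induction with
    | mem x hx =>
      obtain ⟨a, b, t, hab, ht, rfl⟩ := hx
      refine ⟨fun h hh => key a b t hab ht h hh, fun h hh => ?_⟩
      rw [wX_inv' hX hab t]
      exact key a b (-t) hab (neg_ne_zero.2 ht) h hh
    | one => exact ⟨fun h hh => by simpa using hh, fun h hh => by simpa using hh⟩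
    | mul x y _ _ hx hy =>
      refine ⟨fun h hh => ?_, fun h hh => ?_⟩
      · have e : x * y * h * (x * y)⁻¹ = x * (y * h * y⁻¹) * x⁻¹ := by group
        rw [e]
        exact hx.1 _ (hy.1 _ hh)
      · have e : (x * y)⁻¹ * h * (x * y)⁻¹⁻¹ = y⁻¹ * (x⁻¹ * h * x⁻¹⁻¹) * y⁻¹⁻¹ := by group
        rw [e]
        exact hy.2 _ (hx.2 _ hh)
    | inv x _ hx =>
      refine ⟨fun h hh => hx.2 h hh, fun h hh => ?_⟩
      rw [inv_inv]
      exact hx.1 h hh
  exact main.1 h hh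

/-- `B A B⁻¹ ∈ Ĥ A` for `A = wX(e_o, e_j)(1)`, `B = wX(e_o, f_j)(1)` -/
theorem conj_BA (π : M →* Matrix (J n) (J n) F)
    (hπ : ∀ a b, IsRoot a b → ∀ t : F, π (X a b t) = xm a b t) (hn : 3 ≤ n) (hX : DRel X)
    {o j : Fin n} (hjo : j ≠ o) :
    ∃ h ∈ Hh X, wX X (Sum.inl o) (Sum.inr j) 1 * wX X (Sum.inl o) (Sum.inl j) 1 *
      (wX X (Sum.inl o) (Sum.inr j) 1)⁻¹ = h * wX X (Sum.inl o) (Sum.inl j) 1 := by
  have hoj : o ≠ j := Ne.symm hjo
  obtain ⟨η, hη, hconj⟩ := wX_conj_wX π hπ hn hX (root_lr hoj) (t := 1) one_ne_zero (root_ll hoj)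
  have h1 := hconj 1 one_ne_zero
  rw [mul_one, sw_eval _ _ _ (root_lr hoj), sw_eval _ _ _ (root_lr hoj)] at h1
  simp only [if_true, ng_inl, ng_inr, reduceCtorEq, if_false, Sum.inl.injEq, hjo, hoj] at h1
  -- `h1 : B A B⁻¹ = wX (inr j) (inr o) η`
  have h2 := wX_flip hX (root_ll hoj) η
  simp only [ng_inl] at h2
  rw [h2] at h1
  obtain ⟨h, hh, h3⟩ := wX_eq_mul hX (root_ll hoj) (neg_ne_zero.2 hη)
  exact ⟨h, hh, by rw [h1, h3]⟩

/-- conjugating `A_k = wX(e_o, e_k)(1)` by `cS o j` -/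
theorem conj_cS_A (π : M →* Matrix (J n) (J n) F)
    (hπ : ∀ a b, IsRoot a b → ∀ t : F, π (X a b t) = xm a b t) (hn : 3 ≤ n) (hX : DRel X)
    {o j k : Fin n} (hjo : j ≠ o) (hko : k ≠ o) (hjk : j ≠ k) :
    ∃ h ∈ Hh X, cS X o j * wX X (Sum.inl o) (Sum.inl k) 1 * (cS X o j)⁻¹ =
      h * wX X (Sum.inl o) (Sum.inr k) 1 := by
  have hoj : o ≠ j := Ne.symm hjo
  have hok : o ≠ k := Ne.symm hko
  have hkj : k ≠ j := Ne.symm hjk
  obtain ⟨η1, hη1, hc1⟩ := wX_conj_wX π hπ hn hX (root_lr hoj) (t := 1) one_ne_zero (root_ll hok)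
  have h1 := hc1 1 one_ne_zero
  rw [mul_one, sw_eval _ _ _ (root_lr hoj), sw_eval _ _ _ (root_lr hoj)] at h1
  simp only [if_true, ng_inl, ng_inr, reduceCtorEq, if_false, Sum.inl.injEq, hjo, hoj, hko, hok,
    hjk, hkj] at h1
  -- `h1 : B_j A_k B_j⁻¹ = wX (inr j) (inl k) η1`
  obtain ⟨η2, hη2, hc2⟩ := wX_conj_wX π hπ hn hX (root_ll hoj) (t := 1) one_ne_zero (root_rl hjk)
  have h2 := hc2 η1 hη1
  rw [sw_eval _ _ _ (root_ll hoj), sw_eval _ _ _ (root_ll hoj)] at h2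
  simp only [if_true, ng_inl, ng_inr, reduceCtorEq, if_false, Sum.inl.injEq, Sum.inr.injEq, hjo,
    hoj, hko, hok, hjk, hkj] at h2
  -- `h2 : A_j wX (inr j) (inl k) η1 A_j⁻¹ = wX (inr o) (inl k) (η2 η1)`
  have h3 := wX_flip hX (root_rl hko) (η2 * η1)
  simp only [ng_inl, ng_inr] at h3
  -- `h3 : wX (inr o) (inl k) t = wX (inr k) (inl o) (-t)`
  have h4 := wX_swap hn hX (root_lr hok) (t := -(η2 * η1)) (neg_ne_zero.2 (mul_ne_zero hη2 hη1))
  obtain ⟨h, hh, h5⟩ := wX_eq_mul hX (root_lr hok) (t := -(-(η2 * η1))⁻¹)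
    (neg_ne_zero.2 (inv_ne_zero (neg_ne_zero.2 (mul_ne_zero hη2 hη1))))
  refine ⟨h, hh, ?_⟩
  rw [← h5, ← h4, ← h3, ← h2, ← h1]
  unfold cS
  group

/-- conjugating `B_k = wX(e_o, f_k)(1)` by `cS o j` -/
theorem conj_cS_B (π : M →* Matrix (J n) (J n) F)
    (hπ : ∀ a b, IsRoot a b → ∀ t : F, π (X a b t) = xm a b t) (hn : 3 ≤ n) (hX : DRel X)
    {o j k : Fin n} (hjo : j ≠ o) (hko : k ≠ o) (hjk : j ≠ k) :
    ∃ h ∈ Hh X, cS X o j * wX X (Sum.inl o) (Sum.inr k) 1 * (cS X o j)⁻¹ =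
      h * wX X (Sum.inl o) (Sum.inl k) 1 := by
  have hoj : o ≠ j := Ne.symm hjo
  have hok : o ≠ k := Ne.symm hko
  have hkj : k ≠ j := Ne.symm hjk
  obtain ⟨η1, hη1, hc1⟩ := wX_conj_wX π hπ hn hX (root_lr hoj) (t := 1) one_ne_zero (root_lr hok)
  have h1 := hc1 1 one_ne_zero
  rw [mul_one, sw_eval _ _ _ (root_lr hoj), sw_eval _ _ _ (root_lr hoj)] at h1
  simp only [if_true, ng_inl, ng_inr, reduceCtorEq, if_false, Sum.inl.injEq, Sum.inr.injEq, hjo,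
    hoj, hko, hok, hjk, hkj] at h1
  -- `h1 : B_j B_k B_j⁻¹ = wX (inr j) (inr k) η1`
  obtain ⟨η2, hη2, hc2⟩ := wX_conj_wX π hπ hn hX (root_ll hoj) (t := 1) one_ne_zero (root_rr hjk)
  have h2 := hc2 η1 hη1
  rw [sw_eval _ _ _ (root_ll hoj), sw_eval _ _ _ (root_ll hoj)] at h2
  simp only [if_true, ng_inl, ng_inr, reduceCtorEq, if_false, Sum.inl.injEq, Sum.inr.injEq, hjo,
    hoj, hko, hok, hjk, hkj] at h2
  -- `h2 : A_j wX (inr j) (inr k) η1 A_j⁻¹ = wX (inr o) (inr k) (η2 η1)`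
  have h3 := wX_flip hX (root_ll hko) (η2 * η1)
  simp only [ng_inl, ng_inr] at h3
  -- `h3 : wX (inr o) (inr k) t = wX (inl k) (inl o) (-t)`
  have h4 := wX_swap hn hX (root_ll hok) (t := -(η2 * η1)) (neg_ne_zero.2 (mul_ne_zero hη2 hη1))
  obtain ⟨h, hh, h5⟩ := wX_eq_mul hX (root_ll hok) (t := -(-(η2 * η1))⁻¹)
    (neg_ne_zero.2 (inv_ne_zero (neg_ne_zero.2 (mul_ne_zero hη2 hη1))))
  refine ⟨h, hh, ?_⟩
  rw [← h5, ← h4, ← h3, ← h2, ← h1]
  unfold cS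
  group

end CREL1

open CREL1

/-- CREL1 -/
theorem cS_sq_mem (π : M →* Matrix (J n) (J n) F)
    (hπ : ∀ a b, IsRoot a b → ∀ t : F, π (X a b t) = xm a b t) (hn : 3 ≤ n) (hX : DRel X) {o j : Fin n} (hjo : j ≠ o) :
    cS X o j * cS X o j ∈ Hh X := by
  have hoj : o ≠ j := Ne.symm hjo
  obtain ⟨h, hh, hBA⟩ := conj_BA π hπ hn hX hjo
  set A := wX X (Sum.inl o) (Sum.inl j) 1 with hA
  set B := wX X (Sum.inl o) (Sum.inr j) 1 with hB
  have hAN : A ∈ Nh X := wX_mem_Nh (root_ll hoj) one_ne_zero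
  have hAA : A * A ∈ Hh X := wX_sq_mem hX (root_ll hoj)
  have hBB : B * B ∈ Hh X := wX_sq_mem hX (root_lr hoj)
  have e1 : B * A = h * A * B := by
    rw [← hBA, inv_mul_cancel_right]
  have e2 : cS X o j * cS X o j = (A * h * A⁻¹) * (A * A) * (B * B) := by
    unfold cS
    rw [← hA, ← hB]
    calc A * B * (A * B) = A * (B * A) * B := by group
      _ = A * (h * A * B) * B := by rw [e1]
      _ = (A * h * A⁻¹) * (A * A) * (B * B) := by group
  rw [e2]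
  exact Subgroup.mul_mem _ (Subgroup.mul_mem _ (Hh_conj_mem' π hπ hn hX hAN hh) hAA) hBB

theorem cS_comm_mem (π : M →* Matrix (J n) (J n) F)
    (hπ : ∀ a b, IsRoot a b → ∀ t : F, π (X a b t) = xm a b t) (hn : 3 ≤ n) (hX : DRel X) {o j k : Fin n} (hjo : j ≠ o) (hko : k ≠ o)
    (hjk : j ≠ k) : cS X o j * cS X o k * (cS X o j)⁻¹ * (cS X o k)⁻¹ ∈ Hh X := by
  have hok : o ≠ k := Ne.symm hko
  obtain ⟨h3, hh3, hcA⟩ := conj_cS_A π hπ hn hX hjo hko hjk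
  obtain ⟨h2, hh2, hcB⟩ := conj_cS_B π hπ hn hX hjo hko hjk
  obtain ⟨h1, hh1, hBA⟩ := conj_BA π hπ hn hX hko
  set A := wX X (Sum.inl o) (Sum.inl k) 1 with hA
  set B := wX X (Sum.inl o) (Sum.inr k) 1 with hB
  set c := cS X o j with hc
  have hBN : B ∈ Nh X := wX_mem_Nh (root_lr hok) one_ne_zero
  have e0 : cS X o k = A * B := rfl
  have e1 : c * (A * B) * c⁻¹ = (c * A * c⁻¹) * (c * B * c⁻¹) := by group
  have e2 : c * cS X o k * c⁻¹ * (cS X o k)⁻¹ = h3 * (B * h2 * B⁻¹) * h1 := by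
    rw [e0, e1, hcA, hcB]
    calc h3 * B * (h2 * A) * (A * B)⁻¹ = h3 * (B * h2 * B⁻¹) * (B * A * B⁻¹) * A⁻¹ := by group
      _ = h3 * (B * h2 * B⁻¹) * (h1 * A) * A⁻¹ := by rw [hBA]
      _ = h3 * (B * h2 * B⁻¹) * h1 := by group
  rw [e2]
  exact Subgroup.mul_mem _ (Subgroup.mul_mem _ hh3 (Hh_conj_mem' π hπ hn hX hBN hh2)) hh1

end Cfsg.Agent.S2096P
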