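import Mathlib

/-! S2258 pieces FIBER and BORELCNT (helper11): counting matrices of `SL₂(F)` with prescribed lower-left
entry and trace, and upper triangular ones. -/

set_option autoImplicit false

namespace Cfsg.Agent.S2258P

variable {F : Type*} [Field F] [Fintype F] {p : ℕ}

local notation "SF" => Matrix.SpecialLinearGroup (Fin 2) F
local notation "MF" => Matrix (Fin 2) (Fin 2) F
local notation "q" => Fintype.card F

namespace FIBER

/-- the matrix `[[a, (a (t0 - a) - 1) / c0], [c0, t0 - a]]` -/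
def mk (c0 t0 : F) (hc : c0 ≠ 0) (a : F) : SF :=
  ⟨!![a, (a * (t0 - a) - 1) / c0; c0, t0 - a], by
    rw [Matrix.det_fin_two_of]
    field_simp
    ring⟩

theorem det_two (Y : SF) : (Y : MF) 0 0 * (Y : MF) 1 1 - (Y : MF) 0 1 * (Y : MF) 1 0 = 1 := by
  have := Y.2
  rwa [Matrix.det_fin_two] at this

/-- upper triangular matrix `[[t, b], [0, t⁻¹]]` -/
def mkB (tb : Fˣ × F) : SF :=
  ⟨!![(tb.1 : F), tb.2; 0, ((tb.1⁻¹ : Fˣ) : F)], by
    rw [Matrix.det_fin_two_of]
    simp⟩

end FIBER

open FIBER in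
/-- FIBER (M): prescribed lower-left entry `c0 ≠ 0` and trace. -/
theorem fiber_count (c0 t0 : F) (hc : c0 ≠ 0) :
    Nat.card {Y : SF // (Y : MF) 1 0 = c0 ∧ (Y : MF) 0 0 + (Y : MF) 1 1 = t0} = q := by
  classical
  rw [← Nat.card_eq_fintype_card]
  symm
  apply Nat.card_congr
  refine
    { toFun := fun a => ⟨mk c0 t0 hc a, by simp [mk], by simp [mk]⟩
      invFun := fun Y => (Y.1 : MF) 0 0
      left_inv := fun a => by simp [mk]
      right_inv := ?_ }
  rintro ⟨Y, h1, h2⟩
  apply Subtype.ext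
  apply Matrix.SpecialLinearGroup.ext
  have hd := det_two Y
  have h11 : (Y : MF) 1 1 = t0 - (Y : MF) 0 0 := by rw [← h2]; ring
  have h01 : (Y : MF) 0 1 = ((Y : MF) 0 0 * (t0 - (Y : MF) 0 0) - 1) / c0 := by
    rw [eq_div_iff hc, ← h11, ← h1]
    linear_combination (-1 : F) * hd
  intro i j
  fin_cases i <;> fin_cases j
  · simp [mk]
  · simp [mk, h01]
  · simp [mk, h1]
  · simp [mk, h11]

open FIBER in
/-- BORELCNT (M). -/
theorem borel_count : Nat.card {Y : SF // (Y : MF) 1 0 = 0} = q * (q - 1) := by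
  classical
  have hc : Nat.card (Fˣ × F) = q * (q - 1) := by
    rw [Nat.card_prod, Nat.card_eq_fintype_card, Nat.card_eq_fintype_card, Fintype.card_units,
      mul_comm]
  rw [← hc]
  symm
  apply Nat.card_congr
  refine
    { toFun := fun tb => ⟨mkB tb, by simp [mkB]⟩
      invFun := fun Y => (Units.mk0 ((Y.1 : MF) 0 0) ?_, (Y.1 : MF) 0 1)
      left_inv := ?_
      right_inv := ?_ }
  · intro h0
    have hd := det_two Y.1
    rw [h0, Y.2] at hd
    simp at hd
  · rintro ⟨t, b⟩
    apply Prod.ext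
    · apply Units.ext
      simp [mkB]
    · simp [mkB]
  · rintro ⟨Y, h1⟩
    apply Subtype.ext
    apply Matrix.SpecialLinearGroup.ext
    have hd := det_two Y
    rw [h1, mul_zero, sub_zero] at hd
    have h00 : (Y : MF) 0 0 ≠ 0 := by
      intro h0
      rw [h0, zero_mul] at hd
      exact zero_ne_one hd
    have h11 : (Y : MF) 1 1 = ((Y : MF) 0 0)⁻¹ := eq_inv_of_mul_eq_one_right hd
    intro i j
    fin_cases i <;> fin_cases j
    · simp [mkB]
    · simp [mkB]
    · simp [mkB, h1]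
    · simp [mkB, h11]

end Cfsg.Agent.S2258P
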