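import Cfsg.Agent.Helper28.S2258Defs
import Cfsg.Agent.Helper11.S2258FIBER

/-! S2258 pieces COUNT3 and COUNT2 (helper11): the numbers of `Y ∈ SL₂(F)` with `P3 Y`, resp. `P2 s Y`. -/

set_option autoImplicit false

namespace Cfsg.Agent.S2258P

open Cfsg.Agent.Helper18.Dickson

variable {F : Type*} [Field F] [Fintype F] {p : ℕ}

local notation "SF" => Matrix.SpecialLinearGroup (Fin 2) F
local notation "MF" => Matrix (Fin 2) (Fin 2) F
local notation "q" => Fintype.card F

namespace COUNT23

open FIBER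

/-- lower triangular, not diagonal: `[[t, 0], [c, t⁻¹]]`, `c ≠ 0` -/
def mkL (tc : Fˣ × Fˣ) : SF :=
  ⟨!![(tc.1 : F), 0; (tc.2 : F), ((tc.1⁻¹ : Fˣ) : F)], by
    rw [Matrix.det_fin_two_of]
    simp⟩

/-- antidiagonal: `[[0, b], [-b⁻¹, 0]]` -/
def mkA (b : Fˣ) : SF :=
  ⟨!![0, (b : F); -((b⁻¹ : Fˣ) : F), 0], by
    rw [Matrix.det_fin_two_of]
    simp⟩

theorem card_lower : Nat.card {Y : SF // (Y : MF) 1 0 ≠ 0 ∧ (Y : MF) 0 1 = 0} = (q - 1) * (q - 1) := by
  classical
  have hc : Nat.card (Fˣ × Fˣ) = (q - 1) * (q - 1) := by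
    rw [Nat.card_prod, Nat.card_eq_fintype_card, Fintype.card_units]
  rw [← hc]
  symm
  apply Nat.card_congr
  refine
    { toFun := fun tc => ⟨mkL tc, by simp [mkL], by simp [mkL]⟩
      invFun := fun Y => (Units.mk0 ((Y.1 : MF) 0 0) ?_, Units.mk0 ((Y.1 : MF) 1 0) Y.2.1)
      left_inv := ?_
      right_inv := ?_ }
  · intro h0
    have hd := det_two Y.1
    rw [h0, Y.2.2] at hd
    simp at hd
  · rintro ⟨t, c⟩
    apply Prod.ext
    · apply Units.ext
      simp [mkL]
    · apply Units.ext
      simp [mkL]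
  · rintro ⟨Y, h1, h2⟩
    apply Subtype.ext
    apply Matrix.SpecialLinearGroup.ext
    have hd := det_two Y
    rw [h2, zero_mul, sub_zero] at hd
    have h11 : (Y : MF) 1 1 = ((Y : MF) 0 0)⁻¹ := eq_inv_of_mul_eq_one_right hd
    intro i j
    fin_cases i <;> fin_cases j
    · simp [mkL]
    · simp [mkL, h2]
    · simp [mkL]
    · simp [mkL, h11]

theorem card_anti : Nat.card {Y : SF // (Y : MF) 0 0 = 0 ∧ (Y : MF) 1 1 = 0} = q - 1 := by
  classical
  have hc : Nat.card Fˣ = q - 1 := by
    rw [Nat.card_eq_fintype_card, Fintype.card_units]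
  rw [← hc]
  symm
  apply Nat.card_congr
  refine
    { toFun := fun b => ⟨mkA b, by simp [mkA], by simp [mkA]⟩
      invFun := fun Y => Units.mk0 ((Y.1 : MF) 0 1) ?_
      left_inv := ?_
      right_inv := ?_ }
  · intro h0
    have hd := det_two Y.1
    rw [h0, Y.2.1] at hd
    simp at hd
  · intro b
    apply Units.ext
    simp [mkA]
  · rintro ⟨Y, h1, h2⟩
    apply Subtype.ext
    apply Matrix.SpecialLinearGroup.ext
    have hd := det_two Y
    rw [h1, zero_mul, zero_sub] at hd
    have h01 : (Y : MF) 0 1 ≠ 0 := by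
      intro h0
      rw [h0, zero_mul, neg_zero] at hd
      exact zero_ne_one hd
    have h10 : (Y : MF) 1 0 = -((Y : MF) 0 1)⁻¹ := by
      rw [eq_neg_iff_add_eq_zero, ← mul_right_inj' h01, mul_add, mul_inv_cancel₀ h01, mul_zero]
      linear_combination (-1 : F) * hd
    intro i j
    fin_cases i <;> fin_cases j
    · simp [mkA, h1]
    · simp [mkA]
    · simp [mkA, h10]
    · simp [mkA, h2]

end COUNT23

open COUNT23 FIBER in
/-- COUNT3 (M; BORELCNT). -/
theorem count3 (h : Hyp F p) : Nat.card {Y : SF // P3 Y} = 2 * q * (q - 1) := by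
  classical
  have hA := borel_count (F := F)
  have hB := card_lower (F := F)
  have hC := card_anti (F := F)
  rw [Nat.card_eq_fintype_card] at hA hB hC ⊢
  have e : ∀ Y : SF, P3 Y ↔ ((Y : MF) 1 0 = 0 ∨
      (((Y : MF) 1 0 ≠ 0 ∧ (Y : MF) 0 1 = 0) ∨ ((Y : MF) 0 0 = 0 ∧ (Y : MF) 1 1 = 0))) := by
    intro Y
    unfold P3
    by_cases hc : (Y : MF) 1 0 = 0
    · simp [hc]
    · simp [hc]
  rw [Fintype.card_congr (Equiv.subtypeEquivRight e)]
  have hd1 : Disjoint (fun Y : SF => (Y : MF) 1 0 = 0)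
      (fun Y : SF => ((Y : MF) 1 0 ≠ 0 ∧ (Y : MF) 0 1 = 0) ∨ ((Y : MF) 0 0 = 0 ∧ (Y : MF) 1 1 = 0)) := by
    rw [Pi.disjoint_iff]
    intro Y
    rw [Prop.disjoint_iff]
    rintro ⟨h1, h2⟩
    rcases h2 with h2 | h2
    · exact h2.1 h1
    · have hd := det_two Y
      rw [h1, h2.1, h2.2] at hd
      simp at hd
  have hd2 : Disjoint (fun Y : SF => (Y : MF) 1 0 ≠ 0 ∧ (Y : MF) 0 1 = 0)
      (fun Y : SF => (Y : MF) 0 0 = 0 ∧ (Y : MF) 1 1 = 0) := by
    rw [Pi.disjoint_iff]
    intro Y
    rw [Prop.disjoint_iff]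
    rintro ⟨h1, h2⟩
    have hd := det_two Y
    rw [h1.2, h2.1, h2.2] at hd
    simp at hd
  rw [Fintype.card_subtype_or_disjoint _ _ hd1, Fintype.card_subtype_or_disjoint _ _ hd2, hA, hB, hC]
  have hq : 1 ≤ q := Fintype.card_pos
  obtain ⟨m, hm⟩ : ∃ m, q = m + 1 := ⟨q - 1, by omega⟩
  rw [hm]
  simp only [Nat.add_sub_cancel]
  ring

open COUNT23 FIBER in
/-- COUNT2 (M–L; BORELCNT, FIBER). -/
theorem count2 (h : Hyp F p) (s : F) (hs : s ≠ 0) :
    Nat.card {Y : SF // P2 s Y} = q * (q + 5) := by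
  classical
  have h2 : (2 : F) ≠ 0 := h.two_ne_zero
  have h11 : (1 : F) ≠ -1 := by
    intro h1
    apply h2
    linear_combination h1
  have hA := borel_count (F := F)
  rw [Nat.card_eq_fintype_card] at hA ⊢
  -- the admissible pairs `(c, trace)`
  let S : Finset (F × F) := ({s⁻¹, -s⁻¹} : Finset F) ×ˢ ({0, 1, -1} : Finset F)
  have hScard : S.card = 6 := by
    have hs1 : s⁻¹ ≠ -s⁻¹ := by
      intro h1
      have : (2 : F) * s⁻¹ = 0 := by linear_combination h1
      rcases mul_eq_zero.mp this with h3 | h3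
      · exact h2 h3
      · exact inv_ne_zero hs h3
    have c1 : ({s⁻¹, -s⁻¹} : Finset F).card = 2 := Finset.card_pair hs1
    have c2 : ({0, 1, -1} : Finset F).card = 3 := by
      rw [Finset.card_insert_of_notMem, Finset.card_pair h11]
      rw [Finset.mem_insert, Finset.mem_singleton]
      rintro (h3 | h3)
      · exact zero_ne_one h3
      · have : (1 : F) = 0 := by linear_combination h3
        exact one_ne_zero this
    rw [Finset.card_product, c1, c2]
  let f : SF → F × F := fun Y => ((Y : MF) 1 0, (Y : MF) 0 0 + (Y : MF) 1 1)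
  have e : ∀ Y : SF, P2 s Y ↔ ((Y : MF) 1 0 = 0 ∨ f Y ∈ S) := by
    intro Y
    unfold P2
    simp only [S, f, Finset.mem_product, Finset.mem_insert, Finset.mem_singleton]
    set c := (Y : MF) 1 0
    set t := (Y : MF) 0 0 + (Y : MF) 1 1
    have hc1 : (s * c) ^ 2 = 1 ↔ (c = s⁻¹ ∨ c = -s⁻¹) := by
      constructor
      · intro h1
        have : (s * c - 1) * (s * c + 1) = 0 := by linear_combination h1
        rcases mul_eq_zero.mp this with h3 | h3
        · left
          exact eq_inv_of_mul_eq_one_right (by linear_combination h3)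
        · right
          rw [eq_neg_iff_add_eq_zero, ← mul_right_inj' hs, mul_add, mul_inv_cancel₀ hs, mul_zero]
          exact h3
      · rintro (h1 | h1)
        · rw [h1, mul_inv_cancel₀ hs, one_pow]
        · rw [h1, mul_neg, mul_inv_cancel₀ hs]
          ring
    have ht1 : t ^ 2 = 1 ↔ (t = 1 ∨ t = -1) := by
      constructor
      · intro h1
        have : (t - 1) * (t + 1) = 0 := by linear_combination h1
        rcases mul_eq_zero.mp this with h3 | h3
        · left; linear_combination h3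
        · right; linear_combination h3
      · rintro (h1 | h1) <;> rw [h1] <;> ring
    constructor
    · rintro (h1 | ⟨h1, h3⟩ | ⟨h1, h3⟩)
      · exact Or.inl h1
      · exact Or.inr ⟨hc1.mp h3, Or.inl h1⟩
      · right
        refine ⟨hc1.mp ?_, Or.inr (ht1.mp h1)⟩
        rcases h3 with h3 | h3
        · rw [h3, h1]
        · rw [h3, neg_sq, h1]
    · rintro (h1 | ⟨h1, h3⟩)
      · exact Or.inl h1
      · right
        rcases h3 with h3 | h3
        · exact Or.inl ⟨h3, hc1.mpr h1⟩
        · right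
          have ht2 : t ^ 2 = 1 := ht1.mpr h3
          refine ⟨ht2, ?_⟩
          have hc2 : (s * c) ^ 2 = 1 := hc1.mpr h1
          have : (s * c - t) * (s * c + t) = 0 := by linear_combination hc2 - ht2
          rcases mul_eq_zero.mp this with h4 | h4
          · left; linear_combination h4
          · right; linear_combination h4
  rw [Fintype.card_congr (Equiv.subtypeEquivRight e)]
  have hd1 : Disjoint (fun Y : SF => (Y : MF) 1 0 = 0) (fun Y : SF => f Y ∈ S) := by
    rw [Pi.disjoint_iff]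
    intro Y
    rw [Prop.disjoint_iff]
    rintro ⟨h1, h3⟩
    simp only [S, f, Finset.mem_product, Finset.mem_insert, Finset.mem_singleton] at h3
    rw [h1] at h3
    rcases h3.1 with h4 | h4
    · exact inv_ne_zero hs h4.symm
    · exact inv_ne_zero hs (neg_eq_zero.mp h4.symm)
  rw [Fintype.card_subtype_or_disjoint _ _ hd1, hA]
  -- the second part: six fibres of size `q`
  have hfib : Fintype.card {Y : SF // f Y ∈ S} = 6 * q := by
    rw [Fintype.card_subtype]
    rw [Finset.card_eq_sum_card_fiberwise (f := f) (t := S)]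
    · have : ∀ x ∈ S, ((Finset.univ.filter (fun Y : SF => f Y ∈ S)).filter (fun Y => f Y = x)).card = q := by
        intro x hx
        have hx1 : x.1 ≠ 0 := by
          simp only [S, Finset.mem_product, Finset.mem_insert, Finset.mem_singleton] at hx
          rcases hx.1 with h4 | h4
          · rw [h4]; exact inv_ne_zero hs
          · rw [h4]; exact neg_ne_zero.mpr (inv_ne_zero hs)
        have hfc := fiber_count (F := F) x.1 x.2 hx1
        rw [Nat.card_eq_fintype_card, Fintype.card_subtype] at hfc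
        rw [← hfc]
        congr 1
        ext Y
        simp only [Finset.mem_filter, Finset.mem_univ, true_and]
        constructor
        · rintro ⟨-, h5⟩
          rw [← h5]
          exact ⟨rfl, rfl⟩
        · rintro ⟨h5, h6⟩
          have : f Y = x := Prod.ext h5 h6
          exact ⟨this ▸ hx, this⟩
      rw [Finset.sum_congr rfl this, Finset.sum_const, hScard, smul_eq_mul]
    · intro Y hY
      simpa using hY
  rw [hfib]
  have hq : 1 ≤ q := Fintype.card_pos
  obtain ⟨m, hm⟩ : ∃ m, q = m + 1 := ⟨q - 1, by omega⟩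
  rw [hm]
  simp only [Nat.add_sub_cancel]
  ring

end Cfsg.Agent.S2258P
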