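import Mathlib
import Cfsg.Agent.Helper7.GraphPSL3
import Cfsg.Agent.Helper11.PGLOrder

/-! S2262 piece EXIST (helper11): a Singer cycle gives an automorphism of `PSL_n(F)` of order
`(q^n - 1)/(q - 1)`. -/

set_option autoImplicit false

namespace Cfsg.Agent.S2262P

open Polynomial Matrix
open Cfsg.Agent.Helper7.GraphPSL

noncomputable section

variable {F : Type*} [Field F]

variable {n : ℕ}

namespace EXIST

/-- the kernel of `cGL` is the centre of `GL_n(F)` -/
theorem ker_cGL_eq_center :
    (cGL : GL (Fin n) F →* MulAut (Matrix.ProjectiveSpecialLinearGroup (Fin n) F)).ker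
      = Subgroup.center (GL (Fin n) F) := by
  rw [ker_cGL, Matrix.GeneralLinearGroup.center_eq_range_scalar]
  ext g
  rw [Cfsg.Geo.mem_scalars_iff, MonoidHom.mem_range]
  constructor
  · rintro ⟨c, hc⟩
    refine ⟨c, Units.ext ?_⟩
    rw [hc]
    simp [Matrix.smul_one_eq_diagonal]
  · rintro ⟨c, rfl⟩
    refine ⟨c, ?_⟩
    simp [Matrix.smul_one_eq_diagonal]

/-- the order of `cGL g` is the order of `g` modulo the centre -/
theorem orderOf_cGL (g : GL (Fin n) F) :
    orderOf (cGL g : MulAut (Matrix.ProjectiveSpecialLinearGroup (Fin n) F))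
      = orderOf (QuotientGroup.mk g : GL (Fin n) F ⧸ Subgroup.center (GL (Fin n) F)) := by
  rw [orderOf_eq_orderOf_iff]
  intro k
  rw [← map_pow, ← MonoidHom.mem_ker, ker_cGL_eq_center, ← QuotientGroup.mk_pow,
    QuotientGroup.eq_one_iff]

end EXIST

/-- EXIST (no deps; `Helper11.PGLOrder.exists_singer`, `Helper7.GraphPSL.ker_cGL`,
`Matrix.GeneralLinearGroup.center_eq_range_scalar`). -/
theorem exists_aut_order [Fintype F] (hn : 1 ≤ n) :
    ∃ φ : MulAut (Matrix.ProjectiveSpecialLinearGroup (Fin n) F),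
      (Fintype.card F - 1) * orderOf φ = Fintype.card F ^ n - 1 := by
  obtain ⟨g, hg⟩ := Cfsg.Agent.Helper11.PGLOrder.exists_singer (F := F) hn
  exact ⟨cGL g, by rw [EXIST.orderOf_cGL]; exact hg⟩

end

end Cfsg.Agent.S2262P
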