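import Mathlib
import Cfsg.Agent.Helper13.S2276Defs

set_option autoImplicit false
set_option linter.unusedSectionVars false
set_option linter.unusedVariables false

/-! # S2276 piece TRANSPORT: `Good` is invariant under a bijection of the underlying sets -/

namespace Cfsg.Agent.S2276P

open Equiv Equiv.Perm

namespace TRANSPORT

/-- non-solvability of `⟨x, y⟩` is preserved by an injective homomorphism -/
theorem not_solvable_map {G H : Type*} [Group G] [Group H] (φ : G →* H)
    (hφ : Function.Injective φ) (x y : G)
    (h : ¬ Group.IsSolvable (Subgroup.closure ({x, y} : Set G))) :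
    ¬ Group.IsSolvable (Subgroup.closure ({φ x, φ y} : Set H)) := by
  intro hs
  apply h
  have e : (Subgroup.closure ({x, y} : Set G)).map φ = Subgroup.closure ({φ x, φ y} : Set H) := by
    rw [MonoidHom.map_closure, Set.image_pair]
  let ψ : Subgroup.closure ({x, y} : Set G) →* Subgroup.closure ({φ x, φ y} : Set H) :=
    { toFun := fun g => ⟨φ g, by rw [← e]; exact Subgroup.mem_map_of_mem φ g.2⟩
      map_one' := by ext; simp
      map_mul' := by intro a b; ext; simp }
  have hψ : Function.Injective ψ := by
    intro a b hab
    have := congrArg Subtype.val hab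
    exact Subtype.ext (hφ this)
  exact Group.isSolvable_of_isSolvable_injective hψ

/-- the general form: `Good` transported along an injective homomorphism of permutation groups -/
theorem good_map {α β : Type*} {p : ℕ} (φ : Perm α →* Perm β) (hφ : Function.Injective φ)
    {x y : Perm α} (h : Good p x y) : Good p (φ x) (φ y) := by
  refine ⟨?_, not_solvable_map φ hφ x y h.2⟩
  rw [← map_mul, orderOf_injective φ hφ]
  exact h.1

end TRANSPORT

/-- TRANSPORT [S-M]: `Good` is invariant under a bijection of the underlying sets
(`e.permCongr` is a group isomorphism `Perm α ≃* Perm β`: `Equiv.permCongrHom`). -/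
theorem TRANSPORT.main {α β : Type*} {p : ℕ} (e : α ≃ β) {x y : Perm α} (h : Good p x y) :
    Good p (e.permCongr x) (e.permCongr y) :=
  TRANSPORT.good_map (e.permCongrHom : Perm α ≃* Perm β).toMonoidHom
    (e.permCongrHom : Perm α ≃* Perm β).injective h

end Cfsg.Agent.S2276P
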