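import Mathlib
import Cfsg.Agent.Helper13.S2276Defs
import Cfsg.Agent.Helper11.S2276TRANSPORT

set_option autoImplicit false
set_option linter.unusedSectionVars false
set_option linter.unusedVariables false

/-! # S2276 piece CONJ: `Good` is invariant under simultaneous conjugation -/

namespace Cfsg.Agent.S2276P

open Equiv Equiv.Perm

/-- CONJ [S]: simultaneous conjugation (TRANSPORT with `e = g`, or `MulAut.conj g`). -/
theorem CONJ.main {α : Type*} {p : ℕ} {x y : Perm α} (g : Perm α) (h : Good p x y) :
    Good p (g * x * g⁻¹) (g * y * g⁻¹) := by
  have := TRANSPORT.good_map (MulAut.conj g).toMonoidHom (MulAut.conj g).injective h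
  simpa using this

end Cfsg.Agent.S2276P
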