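import Mathlib
import Cfsg.Agent.Helper13.S2276Defs
import Cfsg.Agent.Helper4.S2276UC
import Cfsg.Agent.Helper3.S2276P3

set_option autoImplicit false
set_option linter.unusedSectionVars false
set_option linter.unusedVariables false

/-! # S2276 piece MODELR: the model on `Fin r` (UC or P3) -/

namespace Cfsg.Agent.S2276P

open Equiv Equiv.Perm

/-- MODELR [S-M]: UC or P3 (`Multiset.eq_replicate`). -/
theorem MODELR.main {r : ℕ} (hr : Odd r) (h5 : 5 ≤ r) {p : ℕ} (hp : p.Prime) (hp2 : p ≠ 2)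
    (m : Multiset ℕ) (hm : ∀ y ∈ m, Odd y ∧ 3 ≤ y) (hm0 : m ≠ 0) (hsum : m.sum ≤ r)
    (h9 : (∀ y ∈ m, y = 3) → 9 ≤ r) :
    ∃ v : Perm (Fin r), v.cycleType = m ∧ Good p (finRotate r) v := by
  by_cases h5' : ∃ y ∈ m, 5 ≤ y
  · exact UC.main hr hp hp2 m hm hsum h5'
  · push Not at h5'
    have h3 : ∀ y ∈ m, y = 3 := by
      intro y hy
      obtain ⟨ho, h3⟩ := hm y hy
      have h4 := h5' y hy
      obtain ⟨k, hk⟩ := ho
      omega
    have hrep : m = Multiset.replicate (Multiset.card m) 3 :=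
      Multiset.eq_replicate.mpr ⟨rfl, h3⟩
    have hj : 1 ≤ Multiset.card m := by
      rcases Nat.eq_zero_or_pos (Multiset.card m) with h0 | h0
      · exact absurd (Multiset.card_eq_zero.mp h0) hm0
      · exact h0
    have hs : 3 * Multiset.card m ≤ r := by
      have : m.sum = Multiset.card m * 3 := by
        conv_lhs => rw [hrep]
        rw [Multiset.sum_replicate, smul_eq_mul]
      omega
    obtain ⟨v, hv, hgood⟩ := P3.main hr (h9 h3) hp hp2 (Multiset.card m) hj hs
    exact ⟨v, by rw [hv, ← hrep], hgood⟩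

end Cfsg.Agent.S2276P
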