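import Mathlib
import Cfsg.Agent.Helper13.S2276Defs
import Cfsg.Agent.Helper26.S2276ODDC
import Cfsg.Agent.Helper11.S2276CONJ

set_option autoImplicit false
set_option linter.unusedSectionVars false
set_option linter.unusedVariables false

/-! # S2276 piece PARITY: an odd `σ` for free when one of the two centralisers is not in `A_n` -/

namespace Cfsg.Agent.S2276P

open Equiv Equiv.Perm

/-- PARITY [S-M]: an odd `σ` for free when one of the two centralisers is not in `A_n` (ODDC; `z` commuting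
with `W`: `σ = z`; with `U`: `σ = z` and CONJ by `z`). -/
theorem PARITY.main {n : ℕ} {p : ℕ} (U W : Perm (Fin n)) (hG : Good p U W)
    (h : ¬ (U.cycleType.Nodup ∧ n ≤ U.cycleType.sum + 1) ∨
      ¬ (W.cycleType.Nodup ∧ n ≤ W.cycleType.sum + 1)) :
    ∃ σ : Perm (Fin n), Perm.sign σ = -1 ∧ Good p U (σ * W * σ⁻¹) := by
  rcases h with h | h
  · obtain ⟨z, hz, hzU⟩ := ODDC.main U h
    refine ⟨z, hz, ?_⟩
    have h1 := CONJ.main z hG
    have h2 : z * U * z⁻¹ = U := by rw [hzU, mul_inv_cancel_right]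
    rwa [h2] at h1
  · obtain ⟨z, hz, hzW⟩ := ODDC.main W h
    refine ⟨z, hz, ?_⟩
    have h2 : z * W * z⁻¹ = W := by rw [hzW, mul_inv_cancel_right]
    rwa [h2]

end Cfsg.Agent.S2276P
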