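import Mathlib

/-! S2287 piece BNABS (board s2287pieces, driver helper21): the abstract BN-pair step
`B n B' n_i ⊆ B N B`, no field involved. -/

namespace Cfsg.Agent.Helper21.S2287

theorem bn_step {P : Type*} [Group P] (B N Xp Xm : Subgroup P) (ni : P) (hni : ni ∈ N)
    (h1 : ∀ b ∈ B, ∃ x ∈ Xp, ∃ b' ∈ B, b = x * b' ∧ ni⁻¹ * b' * ni ∈ B)
    (h2 : ∀ x ∈ Xp, x ≠ 1 → ∃ x' ∈ Xp, ∃ d ∈ B ⊓ N, ∃ x'' ∈ Xp, ni * x * ni⁻¹ = x' * d * ni * x'')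
    (h3 : ni * ni ∈ B ⊓ N)
    (h4 : ∀ x ∈ Xp, ni⁻¹ * x * ni ∈ Xm)
    (h5 : ∀ n ∈ N, (∀ x ∈ Xp, n * x * n⁻¹ ∈ B) ∨ (∀ y ∈ Xm, n * y * n⁻¹ ∈ B))
    (h6 : Xp ≤ B) (b : P) (hb : b ∈ B) (n : P) (hn : n ∈ N) (b' : P) (hb' : b' ∈ B) :
    ∃ b1 ∈ B, ∃ n1 ∈ N, ∃ b2 ∈ B, b * n * b' * ni = b1 * n1 * b2 := by
  obtain ⟨x, hx, b'', hb'', rfl, hc⟩ := h1 b' hb'
  rcases h5 n hn with hP | hM
  · refine ⟨b * (n * x * n⁻¹), B.mul_mem hb (hP x hx), n * ni, N.mul_mem hn hni,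
      ni⁻¹ * b'' * ni, hc, ?_⟩
    group
  · by_cases hx1 : x = 1
    · subst hx1
      refine ⟨b, hb, n * ni, N.mul_mem hn hni, ni⁻¹ * b'' * ni, hc, ?_⟩
      group
    · obtain ⟨x', hx', d, hd, x'', hx'', hrel⟩ := h2 x hx hx1
      have hB : n * (ni⁻¹ * x' * ni) * n⁻¹ ∈ B := hM _ (h4 x' hx')
      refine ⟨b * (n * (ni⁻¹ * x' * ni) * n⁻¹), B.mul_mem hb hB, n * ni⁻¹ * d * ni, ?_,
        x'' * (ni * ni) * (ni⁻¹ * b'' * ni), ?_, ?_⟩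
      · exact N.mul_mem (N.mul_mem (N.mul_mem hn (N.inv_mem hni)) hd.2) hni
      · exact B.mul_mem (B.mul_mem (h6 hx'') h3.1) hc
      · have hxe : x = ni⁻¹ * (x' * d * ni * x'') * ni := by rw [← hrel]; group
        rw [hxe]; group

end Cfsg.Agent.Helper21.S2287
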