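import Mathlib

/-! S2287 piece CUBES (board s2287pieces, driver helper21): in a finite field with `card ≠ 4`
every element is a sum of nonzero cubes.  Elementary proof (no counting): the additive closure
`R` of the nonzero cubes is a subring closed under inverses; if `x ∉ R` then
`3 (a² - a) x = (x+a)³ - x³ - a³ - a ((x+1)³ - x³ - 1) ∈ R` forces `3 (a² - a) = 0` on `R`,
so either `3 = 0` (cubing is bijective) or `R = {0,1}` and `F = {0,1,x,x+1}` has 4 elements. -/

namespace Cfsg.Agent.Helper21.S2287

namespace CUBES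

/-- the nonzero cubes as a submonoid -/
def cubesMonoid (F : Type*) [Field F] : Submonoid F where
  carrier := {z : F | ∃ y : F, y ≠ 0 ∧ z = y ^ 3}
  mul_mem' := by
    rintro _ _ ⟨y, hy, rfl⟩ ⟨y', hy', rfl⟩
    exact ⟨y * y', mul_ne_zero hy hy', by ring⟩
  one_mem' := ⟨1, one_ne_zero, by ring⟩

theorem mem_addClosure_of_mem_subring {F : Type*} [Field F] (a : F)
    (h : a ∈ Subring.closure {z : F | ∃ y : F, y ≠ 0 ∧ z = y ^ 3}) :
    a ∈ AddSubgroup.closure {z : F | ∃ y : F, y ≠ 0 ∧ z = y ^ 3} := by
  rw [Subring.mem_closure_iff] at h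
  have : Submonoid.closure {z : F | ∃ y : F, y ≠ 0 ∧ z = y ^ 3} = cubesMonoid F :=
    Submonoid.closure_eq (cubesMonoid F)
  rw [this] at h
  exact h

theorem cube_mem {F : Type*} [Field F] (y : F) :
    y ^ 3 ∈ Subring.closure {z : F | ∃ y : F, y ≠ 0 ∧ z = y ^ 3} := by
  by_cases hy : y = 0
  · subst hy; simp
  · exact Subring.subset_closure ⟨y, hy, rfl⟩

theorem inv_mem {F : Type*} [Field F] [Fintype F] (R : Subring F) {c : F} (hc : c ∈ R) :
    c⁻¹ ∈ R := by
  by_cases h0 : c = 0
  · subst h0; simp
  · have h1 : c ^ (Fintype.card F - 1) = 1 := FiniteField.pow_card_sub_one_eq_one c h0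
    have h2 : 2 ≤ Fintype.card F := Fintype.one_lt_card
    have h3 : c * c ^ (Fintype.card F - 2) = 1 := by
      rw [← pow_succ', show Fintype.card F - 2 + 1 = Fintype.card F - 1 by omega, h1]
    have h4 : c⁻¹ = c ^ (Fintype.card F - 2) := inv_eq_of_mul_eq_one_right h3
    rw [h4]
    exact R.pow_mem hc _

end CUBES

open CUBES in
theorem cubes_span {F : Type*} [Field F] [Fintype F] (h4 : Fintype.card F ≠ 4) (a : F) :
    a ∈ AddSubgroup.closure {z : F | ∃ y : F, y ≠ 0 ∧ z = y ^ 3} := by
  classical
  apply mem_addClosure_of_mem_subring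
  set R := Subring.closure {z : F | ∃ y : F, y ≠ 0 ∧ z = y ^ 3} with hR
  by_contra hx
  -- key: 3 (b² - b) = 0 on R
  have key : ∀ b ∈ R, (3 : F) * (b ^ 2 - b) = 0 := by
    intro b hb
    by_contra hne
    have hmem : (3 : F) * (b ^ 2 - b) * a ∈ R := by
      have e : (3 : F) * (b ^ 2 - b) * a
          = (a + b) ^ 3 - a ^ 3 - b ^ 3 - b * ((a + 1) ^ 3 - a ^ 3 - 1) := by ring
      rw [e]
      exact R.sub_mem (R.sub_mem (R.sub_mem (cube_mem _) (cube_mem _)) (cube_mem _))
        (R.mul_mem hb (R.sub_mem (R.sub_mem (cube_mem _) (cube_mem _)) R.one_mem))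
    have hcR : (3 : F) * (b ^ 2 - b) ∈ R :=
      R.mul_mem (ofNat_mem R 3) (R.sub_mem (R.pow_mem hb 2) hb)
    apply hx
    have : a = ((3 : F) * (b ^ 2 - b))⁻¹ * ((3 : F) * (b ^ 2 - b) * a) := by
      rw [← mul_assoc, inv_mul_cancel₀ hne, one_mul]
    rw [this]
    exact R.mul_mem (inv_mem R hcR) hmem
  by_cases h3 : (3 : F) = 0
  · -- cubing is injective hence surjective
    have hinj : Function.Injective (fun y : F => y ^ 3) := by
      intro y z hyz
      have hyz' : y ^ 3 = z ^ 3 := hyz
      have e : (y - z) ^ 3 = y ^ 3 - z ^ 3 - 3 * (y * z * (y - z)) := by ring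
      rw [hyz', h3] at e
      have : (y - z) ^ 3 = 0 := by rw [e]; ring
      exact sub_eq_zero.mp (pow_eq_zero_iff (by norm_num) |>.mp this)
    obtain ⟨y, hy⟩ := (Finite.injective_iff_surjective.mp hinj) a
    apply hx
    have : a = y ^ 3 := hy.symm
    rw [this]
    exact cube_mem y
  · -- R ⊆ {0,1}
    have h01 : ∀ b ∈ R, b = 0 ∨ b = 1 := by
      intro b hb
      have := key b hb
      rcases mul_eq_zero.mp this with h | h
      · exact absurd h h3
      · have : b * (b - 1) = 0 := by rw [← h]; ring
        rcases mul_eq_zero.mp this with h | h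
        · exact Or.inl h
        · exact Or.inr (sub_eq_zero.mp h)
    have h2 : (2 : F) = 0 := by
      have : (2 : F) ∈ R := ofNat_mem R 2
      rcases h01 2 this with h | h
      · exact h
      · exfalso
        have : (1 : F) = 0 := by linear_combination h
        exact one_ne_zero this
    have hcube : ∀ y : F, y ≠ 0 → y ^ 3 = 1 := by
      intro y hy
      rcases h01 _ (cube_mem y) with h | h
      · exact absurd (pow_eq_zero_iff (by norm_num) |>.mp h) hy
      · exact h
    have ha0 : a ≠ 0 := fun h => hx (h ▸ R.zero_mem)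
    have ha1 : a ≠ 1 := fun h => hx (h ▸ R.one_mem)
    have hquad : ∀ y : F, y ≠ 0 → y ≠ 1 → y ^ 2 + y + 1 = 0 := by
      intro y hy0 hy1
      have : (y - 1) * (y ^ 2 + y + 1) = 0 := by
        have := hcube y hy0
        linear_combination this
      rcases mul_eq_zero.mp this with h | h
      · exact absurd (sub_eq_zero.mp h) hy1
      · exact h
    have hall : ∀ y : F, y = 0 ∨ y = 1 ∨ y = a ∨ y = a + 1 := by
      intro y
      by_cases hy0 : y = 0
      · exact Or.inl hy0
      by_cases hy1 : y = 1
      · exact Or.inr (Or.inl hy1)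
      have hy := hquad y hy0 hy1
      have ha := hquad a ha0 ha1
      have : (y - a) * (y + a + 1) = 0 := by linear_combination hy - ha
      rcases mul_eq_zero.mp this with h | h
      · exact Or.inr (Or.inr (Or.inl (sub_eq_zero.mp h)))
      · refine Or.inr (Or.inr (Or.inr ?_))
        linear_combination h - a * h2 - h2
    apply h4
    have huniv : (Finset.univ : Finset F) = {0, 1, a, a + 1} := by
      ext y
      simp only [Finset.mem_univ, Finset.mem_insert, Finset.mem_singleton, true_iff]
      exact hall y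
    have ha11 : a + 1 ≠ 0 := by
      intro h
      apply ha1
      linear_combination h - h2
    have ha12 : a + 1 ≠ 1 := by
      intro h
      apply ha0
      linear_combination h
    have ha13 : a + 1 ≠ a := by
      intro h
      have : (1 : F) = 0 := by linear_combination h
      exact one_ne_zero this
    rw [← Finset.card_univ, huniv, Finset.card_insert_of_notMem, Finset.card_insert_of_notMem,
      Finset.card_pair ha13.symm]
    · simp only [Finset.mem_insert, Finset.mem_singleton, not_or]
      exact ⟨ha1.symm, ha12.symm⟩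
    · simp only [Finset.mem_insert, Finset.mem_singleton, not_or]
      exact ⟨zero_ne_one, ha0.symm, ha11.symm⟩

end Cfsg.Agent.Helper21.S2287
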