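import Cfsg.Agent.Helper19.S2293ROOTS4
import Cfsg.Agent.Helper19.S2293NACT4

/-! S2293 piece NSTR4 (driver helper21): the monomial set `T c^m na^e` of the `C₂` data is a
subgroup containing `T, na, nb, c`, and every element of it permutes the short and the long root
groups compatibly with `k ↦ k + 2`. Twin of `Helper8.S2287NSTR`. -/

set_option linter.unusedVariables false

namespace Cfsg.Agent.Helper21.S2293

open Multiplicative

variable {F : Type*} [Field F] {P : Type*} [Group P] (D : C2Data F P)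

namespace C2Data

namespace NSTR4

variable {F : Type*} [Field F] {P : Type*} [Group P] (D : C2Data F P)

/-- the torus as a set -/
def IsT (g : P) : Prop := ∃ i j : ℤ, g = D.tor i j

theorem isT_mul {g g' : P} (hg : IsT D g) (hg' : IsT D g') : IsT D (g * g') := by
  obtain ⟨i, j, rfl⟩ := hg
  obtain ⟨i', j', rfl⟩ := hg'
  exact ⟨_, _, D.tor_mul i j i' j'⟩

theorem isT_inv {g : P} (hg : IsT D g) : IsT D g⁻¹ := by
  obtain ⟨i, j, rfl⟩ := hg
  exact ⟨_, _, D.tor_inv i j⟩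

theorem isT_one : IsT D (1 : P) := ⟨0, 0, D.tor_zero.symm⟩

theorem isT_tor (i j : ℤ) : IsT D (D.tor i j) := ⟨i, j, rfl⟩

theorem isT_conj_c {g : P} (hg : IsT D g) : IsT D (D.c * g * D.c⁻¹) := by
  obtain ⟨i, j, rfl⟩ := hg
  exact ⟨_, _, D.c_tor i j⟩

theorem isT_conj_na {g : P} (hg : IsT D g) : IsT D (D.na * g * D.na⁻¹) := by
  obtain ⟨i, j, rfl⟩ := hg
  exact ⟨_, _, D.na_tor i j⟩

theorem isT_conj_c_pow {g : P} (hg : IsT D g) (m : ℕ) : IsT D (D.c ^ m * g * (D.c ^ m)⁻¹) := by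
  induction m with
  | zero => simpa using hg
  | succ m ih =>
    have : D.c ^ (m + 1) * g * (D.c ^ (m + 1))⁻¹ = D.c * (D.c ^ m * g * (D.c ^ m)⁻¹) * D.c⁻¹ := by
      rw [pow_succ']; group
    rw [this]
    exact isT_conj_c D ih

/-- the rotation part `T c^m` -/
def IsR (g : P) : Prop := ∃ τ : P, IsT D τ ∧ ∃ m : ℕ, g = τ * D.c ^ m

theorem isR_one : IsR D (1 : P) := ⟨1, isT_one D, 0, by simp⟩

theorem isR_mul_tor {g : P} (hg : IsR D g) {τ' : P} (hτ' : IsT D τ') : IsR D (g * τ') := by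
  obtain ⟨τ, hτ, m, rfl⟩ := hg
  refine ⟨τ * (D.c ^ m * τ' * (D.c ^ m)⁻¹), isT_mul D hτ (isT_conj_c_pow D hτ' m), m, ?_⟩
  group

theorem isR_mul_c {g : P} (hg : IsR D g) : IsR D (g * D.c) := by
  obtain ⟨τ, hτ, m, rfl⟩ := hg
  exact ⟨τ, hτ, m + 1, by rw [pow_succ]; group⟩

theorem isR_mul_c_pow {g : P} (hg : IsR D g) (m : ℕ) : IsR D (g * D.c ^ m) := by
  induction m with
  | zero => simpa using hg
  | succ m ih =>
    rw [pow_succ, ← mul_assoc]
    exact isR_mul_c D ih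

/-- `c⁻¹ = c³ * tor (-M) (-M)` -/
theorem c_inv_eq : D.c⁻¹ = D.c ^ 3 * D.tor (-D.M) (-D.M) := by
  have h4 := D.c4_tor
  rw [← D.tor_inv, ← h4, inv_eq_iff_mul_eq_one]
  group

theorem isR_mul_c_inv {g : P} (hg : IsR D g) : IsR D (g * D.c⁻¹) := by
  rw [c_inv_eq D, ← mul_assoc]
  exact isR_mul_tor D (isR_mul_c_pow D hg 3) (isT_tor D _ _)

/-- the reduced monomial set: `T c^m na^e` with `e ≤ 1` -/
def IsN (g : P) : Prop := IsR D g ∨ ∃ g₀ : P, IsR D g₀ ∧ g = g₀ * D.na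

theorem isN_one : IsN D (1 : P) := Or.inl (isR_one D)

theorem isN_mul_tor {g : P} (hg : IsN D g) {τ' : P} (hτ' : IsT D τ') : IsN D (g * τ') := by
  rcases hg with hg | ⟨g₀, hg₀, rfl⟩
  · exact Or.inl (isR_mul_tor D hg hτ')
  · refine Or.inr ⟨g₀ * (D.na * τ' * D.na⁻¹), isR_mul_tor D hg₀ (isT_conj_na D hτ'), ?_⟩
    group

theorem isN_mul_na {g : P} (hg : IsN D g) : IsN D (g * D.na) := by
  rcases hg with hg | ⟨g₀, hg₀, rfl⟩
  · exact Or.inr ⟨g, hg, rfl⟩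
  · have h := D.weyl_a.2
    rw [mul_assoc, h]
    exact Or.inl (isR_mul_tor D hg₀ (isT_tor D _ _))

/-- `na * c = tor (-M) 0 * c⁻¹ * na` -/
theorem na_mul_c : D.na * D.c = D.tor (-D.M) 0 * D.c⁻¹ * D.na := by
  rw [← D.na_c]; group

theorem isN_mul_c {g : P} (hg : IsN D g) : IsN D (g * D.c) := by
  rcases hg with hg | ⟨g₀, hg₀, rfl⟩
  · exact Or.inl (isR_mul_c D hg)
  · refine Or.inr ⟨g₀ * D.tor (-D.M) 0 * D.c⁻¹,
      isR_mul_c_inv D (isR_mul_tor D hg₀ (isT_tor D _ _)), ?_⟩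
    rw [mul_assoc, na_mul_c D]
    group

theorem isN_mul_c_pow {g : P} (hg : IsN D g) (m : ℕ) : IsN D (g * D.c ^ m) := by
  induction m with
  | zero => simpa using hg
  | succ m ih =>
    rw [pow_succ, ← mul_assoc]
    exact isN_mul_c D ih

theorem isN_mul_na_pow {g : P} (hg : IsN D g) (e : ℕ) : IsN D (g * D.na ^ e) := by
  induction e with
  | zero => simpa using hg
  | succ e ih =>
    rw [pow_succ, ← mul_assoc]
    exact isN_mul_na D ih

theorem isN_mul {g g' : P} (hg : IsN D g) (hg' : g' ∈ D.normSet) : IsN D (g * g') := by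
  obtain ⟨i, j, m, e, rfl⟩ := hg'
  have := isN_mul_na_pow D (isN_mul_c_pow D (isN_mul_tor D hg (isT_tor D i j)) m) e
  have e1 : g * (D.tor i j * D.c ^ m * D.na ^ e) = g * D.tor i j * D.c ^ m * D.na ^ e := by group
  rw [e1]
  exact this

theorem isN_of_normSet {g : P} (hg : g ∈ D.normSet) : IsN D g := by
  simpa using isN_mul D (isN_one D) hg

theorem normSet_of_isN {g : P} (hg : IsN D g) : g ∈ D.normSet := by
  rcases hg with ⟨τ, ⟨i, j, rfl⟩, m, rfl⟩ | ⟨g₀, ⟨τ, ⟨i, j, rfl⟩, m, rfl⟩, rfl⟩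
  · exact ⟨i, j, m, 0, by simp⟩
  · exact ⟨i, j, m, 1, by simp⟩

/-- `n` permutes the short and the long root groups, compatibly with `k ↦ k + 2` -/
def PermP (n : P) : Prop :=
  ∃ σs σl : Equiv.Perm (Fin 4), (∀ k, σs (k + 2) = σs k + 2) ∧ (∀ k, σl (k + 2) = σl k + 2) ∧
    (∀ (k : Fin 4) (a : F), ∃ a' : F, n * D.xs k a * n⁻¹ = D.xs (σs k) a') ∧
    (∀ (k : Fin 4) (b : F), ∃ b' : F, n * D.xl k b * n⁻¹ = D.xl (σl k) b')

theorem permP_one : PermP D (1 : P) :=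
  ⟨1, 1, fun k => rfl, fun k => rfl, fun k a => ⟨a, by simp⟩, fun k b => ⟨b, by simp⟩⟩

theorem permP_mul {n n' : P} (h : PermP D n) (h' : PermP D n') : PermP D (n * n') := by
  obtain ⟨σs, σl, hs2, hl2, hs, hl⟩ := h
  obtain ⟨σs', σl', hs2', hl2', hs', hl'⟩ := h'
  refine ⟨σs * σs', σl * σl', fun k => ?_, fun k => ?_, fun k a => ?_, fun k b => ?_⟩
  · rw [Equiv.Perm.mul_apply, Equiv.Perm.mul_apply, hs2', hs2]
  · rw [Equiv.Perm.mul_apply, Equiv.Perm.mul_apply, hl2', hl2]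
  · obtain ⟨a', ha'⟩ := hs' k a
    obtain ⟨a'', ha''⟩ := hs (σs' k) a'
    refine ⟨a'', ?_⟩
    rw [Equiv.Perm.mul_apply, ← ha'', ← ha']
    group
  · obtain ⟨b', hb'⟩ := hl' k b
    obtain ⟨b'', hb''⟩ := hl (σl' k) b'
    refine ⟨b'', ?_⟩
    rw [Equiv.Perm.mul_apply, ← hb'', ← hb']
    group

theorem permP_pow {n : P} (h : PermP D n) (m : ℕ) : PermP D (n ^ m) := by
  induction m with
  | zero => simpa using permP_one D
  | succ m ih =>
    rw [pow_succ]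
    exact permP_mul D ih h

theorem permP_tor (i j : ℤ) : PermP D (D.tor i j) :=
  ⟨1, 1, fun k => rfl, fun k => rfl, fun k a => ⟨_, D.tor_xs i j k a⟩,
    fun k b => ⟨_, D.tor_xl i j k b⟩⟩

/-- the rotation `k ↦ k + 1` of `Fin 4` -/
def rot : Equiv.Perm (Fin 4) :=
  ⟨fun k => k + 1, fun k => k - 1, fun k => by simp, fun k => by simp⟩

/-- the reflection `k ↦ r - k` of `Fin 4` -/
def refl (r : Fin 4) : Equiv.Perm (Fin 4) :=
  ⟨fun k => r - k, fun k => r - k, fun k => by simp, fun k => by simp⟩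

theorem permP_c : PermP D D.c :=
  ⟨rot, rot, by decide, by decide, fun k a => ⟨a, D.c_xs k a⟩, fun k b => ⟨b, D.c_xl k b⟩⟩

theorem permP_na : PermP D D.na :=
  ⟨refl 2, refl 3, by decide, by decide, fun k a => D.na_xs k a, fun k b => D.na_xl k b⟩

end NSTR4

open NSTR4

/-! ## piece NSTR4 -/
theorem norm_one : (1 : P) ∈ D.normSet := ⟨0, 0, 0, 0, by simp [D.tor_zero]⟩

theorem norm_mul {g g' : P} (hg : g ∈ D.normSet) (hg' : g' ∈ D.normSet) :
    g * g' ∈ D.normSet :=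
  normSet_of_isN D (isN_mul D (isN_of_normSet D hg) hg')

theorem tor_mem_norm (i j : ℤ) : D.tor i j ∈ D.normSet := ⟨i, j, 0, 0, by simp⟩

theorem na_mem_norm : D.na ∈ D.normSet := ⟨0, 0, 0, 1, by simp [D.tor_zero]⟩

theorem c_mem_norm : D.c ∈ D.normSet := ⟨0, 0, 1, 0, by simp [D.tor_zero]⟩

namespace NSTR4

variable {F : Type*} [Field F] {P : Type*} [Group P] (D : C2Data F P)

theorem norm_pow {x : P} (hx : x ∈ D.normSet) (k : ℕ) : x ^ k ∈ D.normSet := by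
  induction k with
  | zero => rw [pow_zero]; exact D.norm_one
  | succ k ih => rw [pow_succ]; exact D.norm_mul ih hx

/-- `na⁻¹ = na * tor M (-M)` -/
theorem na_inv_eq : D.na⁻¹ = D.na * D.tor D.M (-D.M) := by
  have h := D.weyl_a.2
  have h2 : D.tor (-D.M) D.M * D.tor D.M (-D.M) = 1 := by
    rw [D.tor_mul, neg_add_cancel, add_neg_cancel, D.tor_zero]
  rw [inv_eq_iff_mul_eq_one, ← mul_assoc, h, h2]

theorem na_inv_mem_norm : D.na⁻¹ ∈ D.normSet := by
  rw [na_inv_eq D]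
  exact D.norm_mul D.na_mem_norm (D.tor_mem_norm _ _)

theorem c_inv_mem_norm : D.c⁻¹ ∈ D.normSet := by
  rw [c_inv_eq D]
  exact D.norm_mul (norm_pow D D.c_mem_norm 3) (D.tor_mem_norm _ _)

end NSTR4

theorem nb_mem_norm : D.nb ∈ D.normSet := by
  have h : D.nb = D.na⁻¹ * D.c := by
    unfold C2Data.c; group
  rw [h]
  exact D.norm_mul (na_inv_mem_norm D) D.c_mem_norm

theorem norm_inv {g : P} (hg : g ∈ D.normSet) : g⁻¹ ∈ D.normSet := by
  obtain ⟨i, j, m, e, rfl⟩ := hg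
  rw [mul_inv_rev, mul_inv_rev, ← inv_pow, ← inv_pow, D.tor_inv]
  exact D.norm_mul (norm_pow D (na_inv_mem_norm D) e)
    (D.norm_mul (norm_pow D (c_inv_mem_norm D) m) (D.tor_mem_norm _ _))

/-- every monomial element permutes the short and the long root groups, compatibly with `k ↦ k+2`
(`= ` passing to the opposite root). -/
theorem norm_perm {n : P} (hn : n ∈ D.normSet) :
    ∃ σs σl : Equiv.Perm (Fin 4), (∀ k, σs (k + 2) = σs k + 2) ∧ (∀ k, σl (k + 2) = σl k + 2) ∧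
      (∀ (k : Fin 4) (a : F), ∃ a' : F, n * D.xs k a * n⁻¹ = D.xs (σs k) a') ∧
      (∀ (k : Fin 4) (b : F), ∃ b' : F, n * D.xl k b * n⁻¹ = D.xl (σl k) b') := by
  obtain ⟨i, j, m, e, rfl⟩ := hn
  exact permP_mul D (permP_mul D (permP_tor D i j) (permP_pow D (permP_c D) m))
    (permP_pow D (permP_na D) e)

end C2Data

end Cfsg.Agent.Helper21.S2293
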