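import Mathlib
import Cfsg.Agent.Helper14.S2481.Defs

set_option autoImplicit false
set_option linter.unusedVariables false

/-! S2481 piece CARDU1 (driver helper14; helper11): the norm one group `U1 σ` has order `q + 1` and is cyclic. -/

namespace Cfsg.Agent.S2481P

universe u

section bridge

variable {F : Type u} [Field F]

theorem card_U1 [Fintype F] {σ : F →+* F} (q : ℕ) (hF : Fintype.card F = q ^ 2)
    (hσq : ∀ x, σ x = x ^ q) : Nat.card (U1 σ) = q + 1 := by
  classical
  have hU : U1 σ = (powMonoidHom (q + 1) : Fˣ →* Fˣ).ker := by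
    ext z
    rw [MonoidHom.mem_ker, powMonoidHom_apply]
    change (z : F) * σ z = 1 ↔ z ^ (q + 1) = 1
    rw [hσq, ← pow_succ', ← Units.val_pow_eq_pow_val, Units.val_eq_one]
  rw [hU, IsCyclic.card_powMonoidHom_ker, Nat.card_units, Nat.card_eq_fintype_card, hF]
  have hq1 : 1 ≤ q := by
    rcases Nat.eq_zero_or_pos q with h | h
    · exfalso
      have := Fintype.one_lt_card (α := F)
      rw [hF, h] at this
      norm_num at this
    · exact h
  have h1 : q ^ 2 - 1 = (q + 1) * (q - 1) := by
    obtain ⟨d, rfl⟩ := Nat.exists_eq_add_of_le hq1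
    rw [Nat.add_sub_cancel_left]
    have : (1 + d) ^ 2 = (1 + d + 1) * d + 1 := by ring
    rw [this, Nat.add_sub_cancel]
  rw [h1]
  exact Nat.gcd_mul_right_left _ _

instance isCyclic_U1 [Finite F] (σ : F →+* F) : IsCyclic (U1 σ) := by
  have : Fintype F := Fintype.ofFinite F
  infer_instance

end bridge

end Cfsg.Agent.S2481P
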