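import Mathlib
import Cfsg.Prelude.Def_Classical
import Cfsg.Agent.Helper13.S2496Defs
import Cfsg.Agent.S0755
import Cfsg.Agent.Helper16.S2496FROB
import Cfsg.Agent.Helper4.S2496MFORM

/-! S2496 piece ONB (helper11): the model Hermitian space `K × K` has an orthonormal basis. -/

set_option autoImplicit false

namespace Cfsg.Agent.S2496P

section frob

variable {F K : Type*} [Field F] [Fintype F] [Field K] [Algebra F K] [Finite K] {p : ℕ}
  [Fact p.Prime] [CharP F p] [CharP K p] {f q : ℕ}

namespace ONB

/-- the model form as a sesquilinear map (semilinear in the first argument) -/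
noncomputable def Bform (hq : q = p ^ f) (hF : Fintype.card F = q ^ 2) :
    (K × K) →ₛₗ[frob F p f] (K × K) →ₗ[F] F :=
  LinearMap.mk₂'ₛₗ (frob F p f) (RingHom.id F) (fun v u => mform F K p f u v)
    (fun v v' u => mform_add_right u v v')
    (fun c v u => by rw [smul_eq_mul]; exact mform_smul_right c u v)
    (fun v u u' => mform_add_left u u' v)
    (fun c v u => by rw [RingHom.id_apply, smul_eq_mul]; exact mform_smul_left hq hF c u v)

theorem Bform_apply (hq : q = p ^ f) (hF : Fintype.card F = q ^ 2) (v u : K × K) :
    Bform (K := K) hq hF v u = mform F K p f u v := rfl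

end ONB

open ONB in
/-- ONB: an orthonormal basis of the model (S0755) -/
theorem exists_onb (hq : q = p ^ f) (hF : Fintype.card F = q ^ 2) {n h : ℕ}
    (hK : Module.finrank F K = h) (hn : n = 2 * h) :
    ∃ b : Module.Basis (Fin n) F (K × K), ∀ u v : K × K,
      mform F K p f u v = Cfsg.hermForm n F q ⇑(b.repr u) ⇑(b.repr v) := by
  classical
  have : Module.Finite F K := Module.Finite.of_finite
  have hS : (Bform (K := K) hq hF).IsSymm := by
    refine ⟨fun x y => ?_⟩
    rw [Bform_apply, Bform_apply]
    exact (mform_symm hq hF y x).symm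
  have hB : (Bform (K := K) hq hF).Nondegenerate := by
    constructor
    · intro x hx
      apply mform_nondeg (F := F) (p := p) (f := f) x
      intro y
      have h1 := hx y
      rw [Bform_apply] at h1
      rw [mform_symm hq hF y x, h1, map_zero]
    · intro y hy
      apply mform_nondeg (F := F) (p := p) (f := f) y
      intro x
      have h1 := hy x
      rwa [Bform_apply] at h1
  obtain ⟨b0, hb0⟩ := Cfsg.Agent.S0755.result (frob F p f) (frob_F_ne_id hq hF) (frob_frob_F hq hF)
    (Bform (K := K) hq hF) hS hB
  have hdim : Module.finrank F (K × K) = n := by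
    rw [Module.finrank_prod, hK, hn]; ring
  let b : Module.Basis (Fin n) F (K × K) := b0.reindex (finCongr hdim)
  have hb : ∀ i j, Bform (K := K) hq hF (b i) (b j) = if i = j then 1 else 0 := by
    intro i j
    simp only [b, Module.Basis.reindex_apply]
    rw [hb0]
    simp
  refine ⟨b, fun u v => ?_⟩
  have key : Bform (K := K) hq hF v u = ∑ i, b.repr u i * frob F p f (b.repr v i) := by
    conv_lhs => rw [← b.sum_repr v, ← b.sum_repr u]
    simp only [map_sum, LinearMap.sum_apply, map_smulₛₗ, LinearMap.smul_apply, hb, smul_eq_mul,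
      RingHom.id_apply, mul_ite, mul_one, mul_zero, Finset.sum_ite_eq',
      Finset.mem_univ, if_true]
  rw [← Bform_apply hq hF, key]
  unfold Cfsg.hermForm
  apply Finset.sum_congr rfl
  intro i _
  rw [frob_apply, hq]

end frob

end Cfsg.Agent.S2496P
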