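import Mathlib
import Cfsg.Prelude.Def_Classical
import Cfsg.Agent.Helper2.UnitarySU

/-! S2496 piece SYLCARD (helper11): the `r`-part of `|SU_n(q)|` is the `r`-part of `q^n - 1` (`n` even) for a
prime `r` dividing none of the other factors. -/

set_option autoImplicit false

namespace Cfsg.Agent.S2496P

section unitary

variable {F : Type*} [Field F] [Fintype F] {q : ℕ}

/-- SYLCARD: the `r`-part of `|SU_n(q)|` is the `r`-part of `q^n - 1` (`n` even) -/
theorem not_dvd_card_SU (hF : Fintype.card F = q ^ 2) {n : ℕ} (hn : 2 ≤ n) (hne : Even n)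
    {r a : ℕ} (hr : r.Prime) (hrq : ¬ r ∣ q)
    (hri : ∀ i, 1 ≤ i → i < n → ¬ r ∣ (if Even i then q ^ i - 1 else q ^ i + 1))
    (hra : ¬ r ^ (a + 1) ∣ q ^ n - 1) : ¬ r ^ (a + 1) ∣ Nat.card (Cfsg.SU n F q) := by
  intro hdvd
  have hcard := Cfsg.Agent.Helper2.Herm.card_SU_closed hF n (by omega)
  obtain ⟨m, rfl⟩ : ∃ m, n = m + 1 := ⟨n - 1, by omega⟩
  have h1 : r ^ (a + 1) ∣ q ^ ((m + 1) * (m + 1 - 1) / 2) *
      ∏ i ∈ Finset.range (m + 1), (if Even i then q ^ (i + 1) + 1 else q ^ (i + 1) - 1) := by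
    rw [← hcard]
    exact Dvd.dvd.mul_left hdvd _
  have hcop : Nat.Coprime (r ^ (a + 1)) (q ^ ((m + 1) * (m + 1 - 1) / 2)) := by
    apply Nat.Coprime.pow
    exact (Nat.Prime.coprime_iff_not_dvd hr).mpr hrq
  have h2 := hcop.dvd_of_dvd_mul_left h1
  rw [Finset.prod_range_succ] at h2
  have hmodd : ¬ Even m := by
    intro hm
    rcases hne with ⟨k, hk⟩
    rcases hm with ⟨l, hl⟩
    omega
  rw [if_neg hmodd] at h2
  have hcop2 : Nat.Coprime (r ^ (a + 1))
      (∏ i ∈ Finset.range m, (if Even i then q ^ (i + 1) + 1 else q ^ (i + 1) - 1)) := by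
    apply Nat.Coprime.pow_left
    rw [Nat.Prime.coprime_iff_not_dvd hr, Prime.dvd_finsetProd_iff hr.prime]
    rintro ⟨i, hi, hdi⟩
    rw [Finset.mem_range] at hi
    have := hri (i + 1) (by omega) (by omega)
    apply this
    by_cases hie : Even i
    · rw [if_pos hie] at hdi
      have : ¬ Even (i + 1) := by
        rw [Nat.even_add_one]
        exact not_not.mpr hie
      rw [if_neg this]
      exact hdi
    · rw [if_neg hie] at hdi
      have : Even (i + 1) := by
        rw [Nat.even_add_one]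
        exact hie
      rw [if_pos this]
      exact hdi
  exact hra (hcop2.dvd_of_dvd_mul_left h2)

end unitary

end Cfsg.Agent.S2496P
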