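import Mathlib
import Cfsg.Agent.Helper13.S2263Defs

/-! S2511 piece CAYLEY (driver helper13; helper11): the generalized Cayley transform of a skew-adjoint
nilpotent map is an isometry. -/

set_option autoImplicit false

namespace Cfsg.Agent.S2511P

open Cfsg.Agent.S2263P

section layerU

variable {F : Type*} [Field F]

namespace CAYLEY

variable {V : Type*} [AddCommGroup V] [Module F V] {σ : F →+* F} {H : V → V → F}

theorem smul_right (hH : IsHerm σ H) (c : F) (x y : V) : H x (c • y) = σ c * H x y := by
  rw [hH.symm (c • y) x, hH.smul_left, map_mul, ← hH.symm y x]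

theorem add_right (hH : IsHerm σ H) (x y y' : V) : H x (y + y') = H x y + H x y' := by
  rw [hH.symm (y + y') x, hH.add_left, map_add, ← hH.symm y x, ← hH.symm y' x]

theorem neg_right (hH : IsHerm σ H) (x y : V) : H x (-y) = - H x y := by
  have h := smul_right hH (-1) x y
  rw [neg_one_smul, map_neg, map_one, neg_one_mul] at h
  exact h

theorem neg_left (hH : IsHerm σ H) (x y : V) : H (-x) y = - H x y := by
  have h := hH.smul_left (-1) x y
  rw [neg_one_smul, neg_one_mul] at h
  exact h

end CAYLEY

open CAYLEY in
/-- CAYLEY (M-L) -/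
theorem exists_cayley {V : Type*} [AddCommGroup V] [Module F V] {σ : F →+* F}
    (hσ2 : ∀ x, σ (σ x) = x) {H : V → V → F} (hH : IsHerm σ H) (N : V →ₗ[F] V)
    (hN : ∀ x y, H (N x) y = - H x (N y)) (hnil : IsNilpotent N) (θ : F) :
    ∃ u w : V →ₗ[F] V, (∀ x y, H (u x) (u y) = H x y) ∧ Commute w N ∧ IsUnit w ∧
      u = 1 + (θ + σ θ) • (N * w) := by
  set a : Module.End F V := 1 + θ • N with ha
  set b : Module.End F V := 1 - σ θ • N with hb
  have hbU : IsUnit b := (hnil.smul (σ θ)).isUnit_one_sub
  set w : Module.End F V := ((hbU.unit⁻¹ : (Module.End F V)ˣ) : Module.End F V) with hw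
  have hbw : b * w = 1 := by
    have h0 : ((hbU.unit : (Module.End F V)ˣ) : Module.End F V) *
        ((hbU.unit⁻¹ : (Module.End F V)ˣ) : Module.End F V) = 1 := hbU.unit.mul_inv
    rw [IsUnit.unit_spec] at h0
    exact h0
  have hwb : w * b = 1 := by
    have h0 : ((hbU.unit⁻¹ : (Module.End F V)ˣ) : Module.End F V) *
        ((hbU.unit : (Module.End F V)ˣ) : Module.End F V) = 1 := hbU.unit.inv_mul
    rw [IsUnit.unit_spec] at h0
    exact h0
  -- adjointness
  have h1 : ∀ x y, H (a x) y = H x (b y) := by
    intro x y
    rw [ha, hb, LinearMap.add_apply, LinearMap.sub_apply, Module.End.one_apply, Module.End.one_apply,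
      LinearMap.smul_apply, LinearMap.smul_apply, hH.add_left, hH.smul_left, hN, sub_eq_add_neg,
      add_right hH, neg_right hH, smul_right hH, hσ2]
    ring
  have h2 : ∀ x y, H (b x) y = H x (a y) := by
    intro x y
    rw [ha, hb, LinearMap.add_apply, LinearMap.sub_apply, Module.End.one_apply, Module.End.one_apply,
      LinearMap.smul_apply, LinearMap.smul_apply, sub_eq_add_neg, hH.add_left, neg_left hH,
      hH.smul_left, hN, add_right hH, smul_right hH]
    ring
  -- commutation
  have hNb : Commute N b := by
    rw [hb]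
    exact (Commute.one_right N).sub_right ((Commute.refl N).smul_right (σ θ))
  have hNa : Commute N a := by
    rw [ha]
    exact (Commute.one_right N).add_right ((Commute.refl N).smul_right θ)
  have hab : Commute a b := by
    rw [ha]
    exact (Commute.one_left b).add_left (hNb.smul_left θ)
  have hwN : Commute w N := by
    -- w N = w N b w = w b N w = N w
    have e1 : w * N = w * N * (b * w) := by rw [hbw, mul_one]
    have e2 : w * N * (b * w) = w * (N * b) * w := by noncomm_ring
    have e3 : w * (b * N) * w = (w * b) * N * w := by noncomm_ring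
    show w * N = N * w
    rw [e1, e2, hNb.eq, e3, hwb, one_mul]
  have hwa : Commute w a := by
    rw [ha]
    exact (Commute.one_right w).add_right (hwN.smul_right θ)
  refine ⟨a * w, w, ?_, hwN, ⟨hbU.unit⁻¹, rfl⟩, ?_⟩
  · intro x y
    rw [Module.End.mul_apply, Module.End.mul_apply, h1]
    have e1 : b (a (w y)) = a y := by
      have : (b * (a * w)) y = a y := by
        have e : b * (a * w) = a * (b * w) := by
          rw [← mul_assoc, ← hab.eq, mul_assoc]
        rw [e, hbw, mul_one]
      exact this
    rw [e1, ← h2]
    have e2 : b (w x) = x := by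
      have : (b * w) x = x := by rw [hbw, Module.End.one_apply]
      exact this
    rw [e2]
  · have e : a = b + (θ + σ θ) • N := by
      rw [ha, hb, add_smul]
      abel
    rw [e, add_mul, hbw, smul_mul_assoc]

end layerU

end Cfsg.Agent.S2511P
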