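import Mathlib

/-! S2511 piece URGEN (driver helper13; helper11): scalar powers of a block sum `(lam • u) ⊕ (mu • 1)`. -/

set_option autoImplicit false

namespace Cfsg.Agent.S2511P

section layerU

variable {F : Type*} [Field F]

namespace URGEN

theorem prodMap_pow {V W : Type*} [AddCommGroup V] [Module F V] [AddCommGroup W] [Module F W]
    (A : V →ₗ[F] V) (B : W →ₗ[F] W) (j : ℕ) : (A.prodMap B) ^ j = (A ^ j).prodMap (B ^ j) := by
  induction j with
  | zero => rw [pow_zero, pow_zero, pow_zero, LinearMap.prodMap_one]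
  | succ j ih => rw [pow_succ, pow_succ, pow_succ, ih, LinearMap.prodMap_mul]

theorem pow_apply_fix {V : Type*} [AddCommGroup V] [Module F V] (u : V →ₗ[F] V) (v₀ : V)
    (hfix : u v₀ = v₀) (j : ℕ) : (u ^ j) v₀ = v₀ := by
  induction j with
  | zero => rw [pow_zero, Module.End.one_apply]
  | succ j ih => rw [pow_succ, Module.End.mul_apply, hfix, ih]

end URGEN

/-- URGEN (M): `((lam • u).prodMap (mu • 1))^j = (lam^j • u^j).prodMap (mu^j • 1)`; apply to `(v₀, 0)`, `(0, w₀)`. -/
theorem prodMap_pow_scalar_iff {V W : Type*} [AddCommGroup V] [Module F V] [AddCommGroup W]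
    [Module F W] (u : V →ₗ[F] V) (v₀ : V) (hv₀ : v₀ ≠ 0) (hfix : u v₀ = v₀) (w₀ : W) (hw₀ : w₀ ≠ 0)
    (lam mu : F) (hlam : lam ≠ 0) (j : ℕ) :
    (∃ c : F, ((lam • u).prodMap (mu • (1 : W →ₗ[F] W))) ^ j = c • (1 : V × W →ₗ[F] V × W)) ↔
      (u ^ j = 1 ∧ lam ^ j = mu ^ j) := by
  have hpow : ((lam • u).prodMap (mu • (1 : W →ₗ[F] W))) ^ j =
      (lam ^ j • u ^ j).prodMap (mu ^ j • (1 : W →ₗ[F] W)) := by
    rw [URGEN.prodMap_pow, smul_pow, smul_pow, one_pow]
  rw [hpow]
  constructor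
  · rintro ⟨c, hc⟩
    have h1 := congrArg (fun f : V × W →ₗ[F] V × W => f (v₀, 0)) hc
    have h2 := congrArg (fun f : V × W →ₗ[F] V × W => f (0, w₀)) hc
    simp only [LinearMap.prodMap_apply, LinearMap.smul_apply, Module.End.one_apply, map_zero,
      smul_zero, Prod.smul_mk, Prod.mk.injEq, and_true, true_and] at h1 h2
    rw [URGEN.pow_apply_fix u v₀ hfix j] at h1
    have hc1 : lam ^ j = c := by
      have h3 : (lam ^ j - c) • v₀ = 0 := by rw [sub_smul, h1, sub_self]
      rcases smul_eq_zero.1 h3 with h | h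
      · exact sub_eq_zero.1 h
      · exact absurd h hv₀
    have hc2 : mu ^ j = c := by
      have h3 : (mu ^ j - c) • w₀ = 0 := by rw [sub_smul, h2, sub_self]
      rcases smul_eq_zero.1 h3 with h | h
      · exact sub_eq_zero.1 h
      · exact absurd h hw₀
    refine ⟨?_, hc1.trans hc2.symm⟩
    apply LinearMap.ext
    intro v
    have h4 := congrArg (fun f : V × W →ₗ[F] V × W => f (v, 0)) hc
    simp only [LinearMap.prodMap_apply, LinearMap.smul_apply, Module.End.one_apply, map_zero,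
      smul_zero, Prod.smul_mk, Prod.mk.injEq, and_true] at h4
    rw [← hc1] at h4
    have hne : lam ^ j ≠ 0 := pow_ne_zero _ hlam
    rw [Module.End.one_apply]
    exact smul_right_injective V hne h4
  · rintro ⟨hu, hl⟩
    refine ⟨lam ^ j, ?_⟩
    rw [hu, ← hl, LinearMap.prodMap_smul, LinearMap.prodMap_one]

end layerU

end Cfsg.Agent.S2511P
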