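import Mathlib
import Cfsg.Agent.Helper5.S2536DefsA
import Cfsg.Agent.Helper19.S2536ATMOSTONE
import Cfsg.Agent.Helper23.S2536CONJ
import Cfsg.Agent.Helper24.S2536MAXHALL
import Cfsg.Agent.Helper5.S2536HALLSTRUCT

/-! S2535 piece SNCONJ (helper11): `E_π(S_n) ⇒ C_π(S_n)`. -/

set_option autoImplicit false

namespace Cfsg.Agent.S2536P

open Equiv Nat

universe u v

section Sym

variable {α : Type u} [Finite α]

namespace SNCONJ

/-- a prime dividing `|Perm α|` is at most `|α|` -/
theorem prime_le_of_dvd_card_perm {r : ℕ} (hr : r.Prime) (h : r ∣ Nat.card (Perm α)) :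
    r ≤ Nat.card α := by
  rw [Nat.card_perm] at h
  exact (Nat.Prime.dvd_factorial hr).mp h

end SNCONJ

/-- SNCONJ (dep HALLSTRUCT, CONJ1-3, ATMOSTONE, MAXHALL2) -/
theorem perm_isCPiGroup_of_isEPiGroup {π : Set ℕ} (h : Cfsg.IsEPiGroup π (Perm α)) :
    Cfsg.IsCPiGroup π (Perm α) := by
  classical
  by_cases h2 : Two π (Nat.card α)
  · by_cases hn : NotAll π (Nat.card α)
    · refine ⟨h, ?_⟩
      intro H K hH hK
      rcases hall_struct hH h2 hn with ⟨hp, hπ, x, rfl⟩ | ⟨h7, h23, p, hp4, rfl⟩ |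
          ⟨h8, h23, p, hp4, rfl⟩
      · rcases hall_struct hK h2 hn with ⟨-, -, y, rfl⟩ | ⟨h7, h23, -⟩ | ⟨h8, -, -⟩
        · exact stabilizer_conj x y
        · exfalso
          have h5 : (5 : ℕ) ∈ π := (hπ 5 (by norm_num) (by omega)).mpr (by omega)
          have := (h23 5 (by norm_num) (by norm_num)).mp h5
          omega
        · exfalso
          rw [h8] at hp
          exact absurd hp (by norm_num)
      · rcases hall_struct hK h2 hn with ⟨hp, hπ, -⟩ | ⟨-, -, p', hp4', rfl⟩ | ⟨h8, -, -⟩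
        · exfalso
          have h5 : (5 : ℕ) ∈ π := (hπ 5 (by norm_num) (by omega)).mpr (by omega)
          have := (h23 5 (by norm_num) (by norm_num)).mp h5
          omega
        · exact setStab_conj p p' (by rw [hp4, hp4'])
        · omega
      · rcases hall_struct hK h2 hn with ⟨hp, -, -⟩ | ⟨h7, -, -⟩ | ⟨-, -, p', hp4', rfl⟩
        · exfalso
          rw [h8] at hp
          exact absurd hp (by norm_num)
        · omega
        · exact biStab_conj p p' (by rw [hp4, hp4'])
    · apply isCPiGroup_of_isDPiGroup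
      apply isDPiGroup_of_all'
      intro r hr hdvd
      by_contra hrπ
      exact hn ⟨r, hr, SNCONJ.prime_le_of_dvd_card_perm hr hdvd, hrπ⟩
  · apply isCPiGroup_of_isDPiGroup
    apply isDPiGroup_of_atMostOne'
    intro r s hr hs hrπ hsπ hrd hsd
    by_contra hne
    exact h2 ⟨r, s, hr, hs, hne, hrπ, hsπ, SNCONJ.prime_le_of_dvd_card_perm hr hrd,
      SNCONJ.prime_le_of_dvd_card_perm hs hsd⟩

end Sym

end Cfsg.Agent.S2536P
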