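import Mathlib
import Cfsg.Agent.Helper8.MatBNDefs
import Cfsg.Agent.Helper8.S2546Defs
import Cfsg.Agent.Helper8.S2546EMB
import Cfsg.Agent.Helper17.S2546JCalc
import Cfsg.Agent.Helper23.S2546HDL
import Cfsg.Agent.Helper21.S2549Defs

set_option autoImplicit false
open scoped Matrix

/-! S2549 pieces HDL / HDLAST (driver helper21; helper11): the rank one Bruhat identities as pure
matrix statements, via helper8's block embeddings (`emb`). -/

namespace Cfsg.Agent.S2549P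

open Cfsg.Agent.MatBN Cfsg.Agent.MatBN.EMB

variable {K : Type*} [Field K]

namespace HD

/-- the generic wrapper: an identity of small blocks gives the rank one identity of matrices -/
theorem exists_of_emb {k n : ℕ} (f : Fin k → Fin n) (hf : StrictMono f)
    (S₀ X₀ X₀' B₀ : Matrix (Fin k) (Fin k) K) (s x x' N : Matrix (Fin n) (Fin n) K)
    (hs : s = emb f S₀) (hx : x = emb f X₀) (hx' : x' = emb f X₀')
    (hSS : S₀ * S₀ = 1) (hN : s * N = 1)
    (hB : ∀ p q : Fin k, q < p → B₀ p q = 0)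
    (hid : S₀ * X₀ = B₀ * (S₀ * X₀' * S₀)) :
    ∃ B₁ : Matrix (Fin n) (Fin n) K, IsTri B₁ ∧ s * x = B₁ * (s * x' * N) := by
  have hinj := hf.injective
  have hss : s * s = 1 := by rw [hs, emb_mul hinj, hSS, emb_one]
  have hNs : N = s := by
    calc N = (s * s) * N := by rw [hss, one_mul]
      _ = s * (s * N) := by rw [mul_assoc]
      _ = s := by rw [hN, mul_one]
  refine ⟨emb f B₀, isTri_emb hf B₀ hB, ?_⟩
  rw [hNs, hs, hx, hx', emb_mul hinj, emb_mul hinj, emb_mul hinj, emb_mul hinj, hid]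

/-! ### the last node: positions `m-1, m, m+1, m+2` -/

/-- the positions of the `4 × 4` block of the last node -/
def g4 (m : ℕ) (hm : 1 ≤ m) : Fin 4 → Fin (2 * m + 2) :=
  ![⟨m - 1, by omega⟩, ⟨m, by omega⟩, ⟨m + 1, by omega⟩, ⟨m + 2, by omega⟩]

theorem g4_val (m : ℕ) (hm : 1 ≤ m) (p : Fin 4) :
    ((g4 m hm p : Fin (2 * m + 2)) : ℕ) = ![m - 1, m, m + 1, m + 2] p := by
  fin_cases p <;> rfl

theorem g4_strictMono (m : ℕ) (hm : 1 ≤ m) : StrictMono (g4 m hm) := by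
  intro p q hpq
  rw [Fin.lt_def, g4_val, g4_val]
  fin_cases p <;> fin_cases q <;> simp at hpq ⊢ <;> omega

/-- the value of `tauLast` on natural numbers -/
def tauLastNat (m c : ℕ) : ℕ :=
  if c = m - 1 then m + 2 else if c = m + 2 then m - 1 else if c = m then m + 1
  else if c = m + 1 then m else c

theorem tauLast_val (m : ℕ) (hm : 1 ≤ m) (c : Fin (2 * m + 2)) :
    ((tauLast m c : Fin (2 * m + 2)) : ℕ) = tauLastNat m c := by
  unfold tauLast tauLastNat
  rw [dif_pos hm, Equiv.Perm.mul_apply, Equiv.swap_apply_def, Equiv.swap_apply_def]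
  simp only [Fin.ext_iff]
  split_ifs <;> simp only at * <;> omega

/-- the reversal of the block indices -/
def rv : Fin 4 → Fin 4 := ![3, 2, 1, 0]

theorem tauLast_g4 (m : ℕ) (hm : 1 ≤ m) (q : Fin 4) :
    tauLast m (g4 m hm q) = g4 m hm (rv q) := by
  apply Fin.ext
  rw [tauLast_val m hm, g4_val, g4_val]
  unfold tauLastNat
  fin_cases q <;> simp [rv] <;> omega

theorem tauLast_of_not_mem (m : ℕ) (hm : 1 ≤ m) (c : Fin (2 * m + 2)) (hc : ∀ q, c ≠ g4 m hm q) :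
    tauLast m c = c := by
  apply Fin.ext
  rw [tauLast_val m hm]
  unfold tauLastNat
  have h0 : (c : ℕ) ≠ m - 1 := fun e => hc 0 (Fin.ext (by rw [g4_val]; exact e))
  have h1 : (c : ℕ) ≠ m := fun e => hc 1 (Fin.ext (by rw [g4_val]; exact e))
  have h2 : (c : ℕ) ≠ m + 1 := fun e => hc 2 (Fin.ext (by rw [g4_val]; exact e))
  have h3 : (c : ℕ) ≠ m + 2 := fun e => hc 3 (Fin.ext (by rw [g4_val]; exact e))
  rw [if_neg h0, if_neg h3, if_neg h1, if_neg h2]

/-- the block of the last reflection: the antidiagonal matrix -/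
def R0 (K : Type*) [Field K] : Matrix (Fin 4) (Fin 4) K :=
  !![0, 0, 0, 1; 0, 0, 1, 0; 0, 1, 0, 0; 1, 0, 0, 0]

/-- the block of the last root element -/
def XL0 (σ : K →+* K) (t : K) : Matrix (Fin 4) (Fin 4) K :=
  !![1, -σ t, -t, -(t * σ t); 0, 1, 0, t; 0, 0, 1, σ t; 0, 0, 0, 1]

theorem R0_apply (p q : Fin 4) : R0 K p q = if p = rv q then 1 else 0 := by
  fin_cases p <;> fin_cases q <;> simp [R0, rv]

theorem pMat_tauLast_eq_emb (m : ℕ) (hm : 1 ≤ m) :
    (Cfsg.Agent.S2546P.pMat (2 * m + 2) (tauLast m) : Matrix (Fin (2 * m + 2)) (Fin (2 * m + 2)) K) =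
      emb (g4 m hm) (R0 K) := by
  have hinj := (g4_strictMono m hm).injective
  ext a c
  unfold Cfsg.Agent.S2546P.pMat
  rw [Matrix.of_apply]
  by_cases hc : ∃ q, c = g4 m hm q
  · obtain ⟨q, rfl⟩ := hc
    rw [tauLast_g4]
    by_cases ha : ∃ p, a = g4 m hm p
    · obtain ⟨p, rfl⟩ := ha
      rw [emb_apply_mem hinj, R0_apply]
      simp only [hinj.eq_iff]
    · push Not at ha
      rw [emb_apply_left _ _ _ _ ha, if_neg (ha _), Matrix.one_apply_ne (ha _)]
  · push Not at hc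
    rw [emb_apply_right _ _ _ _ hc, tauLast_of_not_mem m hm c hc, Matrix.one_apply]

theorem xLast_eq_emb (σ : K →+* K) (m : ℕ) (hm : 1 ≤ m) (t : K) :
    xLast σ m t = emb (g4 m hm) (XL0 σ t) := by
  have e : XL0 σ t = 1 + (-(σ t • Matrix.single 0 1 1) - t • Matrix.single 0 2 1
      + t • Matrix.single 1 3 1 + σ t • Matrix.single 2 3 1 - (t * σ t) • Matrix.single 0 3 1) := by
    ext i k
    fin_cases i <;> fin_cases k <;> simp [XL0]
  rw [e, emb_one_add]
  simp only [Matrix.mul_sub, Matrix.sub_mul, Matrix.mul_add, Matrix.add_mul, Matrix.mul_neg,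
    Matrix.neg_mul, Matrix.mul_smul, Matrix.smul_mul, inc_single_incT]
  unfold xLast EM
  rw [Cfsg.Agent.S2546P.JC.E_eq_single (m - 1) m (by omega) (by omega),
    Cfsg.Agent.S2546P.JC.E_eq_single (m - 1) (m + 1) (by omega) (by omega),
    Cfsg.Agent.S2546P.JC.E_eq_single m (m + 2) (by omega) (by omega),
    Cfsg.Agent.S2546P.JC.E_eq_single (m + 1) (m + 2) (by omega) (by omega),
    Cfsg.Agent.S2546P.JC.E_eq_single (m - 1) (m + 2) (by omega) (by omega)]
  have h0 : g4 m hm 0 = ⟨m - 1, by omega⟩ := rfl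
  have h1 : g4 m hm 1 = ⟨m, by omega⟩ := rfl
  have h2 : g4 m hm 2 = ⟨m + 1, by omega⟩ := rfl
  have h3 : g4 m hm 3 = ⟨m + 2, by omega⟩ := rfl
  rw [h0, h1, h2, h3]
  abel

end HD

open HD Cfsg.Agent.S2546P.HDL in
/-- HDL -/
theorem hd_lin (m j : ℕ) (hj : j + 1 < m) (t : K) (ht : t ≠ 0)
    (N : Matrix (Fin (2 * m + 2)) (Fin (2 * m + 2)) K) (hN : sM m j * N = 1) :
    ∃ B₁ : Matrix (Fin (2 * m + 2)) (Fin (2 * m + 2)) K, IsTri B₁ ∧
      sM m j * xLin m j t = B₁ * (sM m j * xLin m j t⁻¹ * N) := by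
  have hj' : j + 1 < (2 * m + 2) / 2 := by omega
  apply exists_of_emb (f4 (2 * m + 2) j hj') (f4_strictMono (2 * m + 2) j hj') (P0 K)
    (X0 (RingHom.id K) t) (X0 (RingHom.id K) t⁻¹)
    (!![-1 / t, 1, 0, 0; 0, t, 0, 0; 0, 0, 1 / t, 1; 0, 0, 0, -t]) (sM m j) (xLin m j t)
    (xLin m j t⁻¹) N
  · unfold sM tauM
    rw [if_pos hj, pMat_eq_emb (2 * m + 2) j hj']
  · unfold xLin
    rw [xL_eq_emb (RingHom.id K) (2 * m + 2) j hj']
  · unfold xLin
    rw [xL_eq_emb (RingHom.id K) (2 * m + 2) j hj']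
  · ext i k
    fin_cases i <;> fin_cases k <;> simp [P0, Matrix.mul_apply, Fin.sum_univ_four]
  · exact hN
  · intro p q hqp
    fin_cases p <;> fin_cases q <;> simp at hqp ⊢
  · ext i k
    fin_cases i <;> fin_cases k <;>
      simp [P0, X0, Matrix.mul_apply, Fin.sum_univ_four] <;> (try field_simp) <;> (try ring)

open HD in
/-- HDLAST -/
theorem hd_last (σ : K →+* K) (hσ : ∀ x, σ (σ x) = x) (m : ℕ) (hm : 1 ≤ m) (t : K) (ht : t ≠ 0)
    (N : Matrix (Fin (2 * m + 2)) (Fin (2 * m + 2)) K) (hN : sM m (m - 1) * N = 1) :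
    ∃ B₁ : Matrix (Fin (2 * m + 2)) (Fin (2 * m + 2)) K, IsTri B₁ ∧
      sM m (m - 1) * xLast σ m t = B₁ * (sM m (m - 1) * xLast σ m (-t⁻¹) * N) := by
  have hσt0 : σ t ≠ 0 := by
    intro h
    apply ht
    rw [← hσ t, h, map_zero]
  have hnl : ¬ (m - 1 + 1 < m) := by omega
  apply exists_of_emb (g4 m hm) (g4_strictMono m hm) (R0 K) (XL0 σ t) (XL0 σ (-t⁻¹))
    (!![-1 / (t * σ t), -1 / t, -1 / σ t, 1; 0, -σ t / t, 0, σ t; 0, 0, -t / σ t, t;
      0, 0, 0, -(t * σ t)]) (sM m (m - 1)) (xLast σ m t) (xLast σ m (-t⁻¹)) N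
  · unfold sM tauM
    rw [if_neg hnl, pMat_tauLast_eq_emb m hm]
  · rw [xLast_eq_emb σ m hm]
  · rw [xLast_eq_emb σ m hm]
  · ext i k
    fin_cases i <;> fin_cases k <;> simp [R0, Matrix.mul_apply, Fin.sum_univ_four]
  · exact hN
  · intro p q hqp
    fin_cases p <;> fin_cases q <;> simp at hqp ⊢
  · have hσi : σ (-t⁻¹) = -(σ t)⁻¹ := by rw [map_neg, map_inv₀]
    ext i k
    fin_cases i <;> fin_cases k <;>
      simp [R0, XL0, hσi, Matrix.mul_apply, Fin.sum_univ_four] <;> (try field_simp) <;> (try ring)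

end Cfsg.Agent.S2549P
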