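import Mathlib

/-! S2558 chapter (L), piece FACTOR (board s2558l, sub-driver helper13):
`h = (X-2)^a (X+2)^b h₀` with `h₀(±2) ≠ 0`. -/

set_option autoImplicit false

universe u

namespace Cfsg.Agent.S2558P.LOW

open Polynomial

namespace FACTOR

variable {F : Type u} [Field F]

/-- split off the full power of `X - C c` from a monic polynomial. -/
theorem exists_split (h : F[X]) (hh : h.Monic) (c : F) :
    ∃ (a : ℕ) (h₁ : F[X]), h₁.Monic ∧ h₁.eval c ≠ 0 ∧ h = (X - C c) ^ a * h₁ ∧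
      a + h₁.natDegree = h.natDegree := by
  have hne : h ≠ 0 := hh.ne_zero
  obtain ⟨h₁, e1⟩ : (X - C c) ^ (h.rootMultiplicity c) ∣ h := pow_rootMultiplicity_dvd h c
  have hA : ((X - C c) ^ (h.rootMultiplicity c)).Monic := (monic_X_sub_C c).pow _
  have h1m : h₁.Monic := hA.of_mul_monic_left (e1 ▸ hh)
  refine ⟨h.rootMultiplicity c, h₁, h1m, ?_, e1, ?_⟩
  · intro h0
    have hd : (X - C c) ∣ h₁ := dvd_iff_isRoot.mpr h0
    obtain ⟨d, hd⟩ := hd
    have hd2 : (X - C c) ^ (h.rootMultiplicity c + 1) ∣ h :=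
      ⟨d, by rw [pow_succ, mul_assoc, ← hd]; exact e1⟩
    have := (le_rootMultiplicity_iff hne).mpr hd2
    omega
  · conv_rhs => rw [e1]
    rw [hA.natDegree_mul h1m, (monic_X_sub_C c).natDegree_pow, natDegree_X_sub_C, mul_one]

end FACTOR

variable {F : Type u} [Field F]

theorem exists_factor (h2 : (2 : F) ≠ 0) (h : F[X]) (hh : h.Monic) :
    ∃ (a b : ℕ) (h₀ : F[X]), h₀.Monic ∧ h₀.eval 2 ≠ 0 ∧ h₀.eval (-2) ≠ 0 ∧
      h = (X - C 2) ^ a * (X - C (-2)) ^ b * h₀ ∧ a + b + h₀.natDegree = h.natDegree := by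
  have _ := h2
  obtain ⟨a, h₁, h1m, h1e, e1, d1⟩ := FACTOR.exists_split h hh 2
  obtain ⟨b, h₀, h0m, h0e, e0, d0⟩ := FACTOR.exists_split h₁ h1m (-2)
  refine ⟨a, b, h₀, h0m, ?_, h0e, ?_, ?_⟩
  · intro h0
    apply h1e
    rw [e0, eval_mul, h0, mul_zero]
  · rw [e1, e0, mul_assoc]
  · omega

end Cfsg.Agent.S2558P.LOW
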