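import Mathlib
import Cfsg.Agent.Helper17.S2482Low

/-! S2558 chapter (L), piece GRAMT (board s2558l, sub-driver helper13):
the Gram determinant of `(u, v) ↦ topCoeff (u * v)` on `AdjoinRoot h` is nonzero. -/

set_option autoImplicit false

universe u

namespace Cfsg.Agent.S2558P.LOW

open Polynomial

variable {F : Type u} [Field F]

theorem det_gram_top_ne_zero (h : F[X]) (hh : h.Monic) {I : Type} [Fintype I] [DecidableEq I]
    (b : Module.Basis I F (AdjoinRoot h)) :
    (Matrix.of fun i j : I => Cfsg.Agent.S2482P.LOW.topCoeff h hh (b i * b j)).det ≠ 0 := by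
  intro hdet
  obtain ⟨c, hc0, hc⟩ := Matrix.exists_mulVec_eq_zero_iff.mpr hdet
  have h1 : ∀ i, Cfsg.Agent.S2482P.LOW.topCoeff h hh (b i * ∑ j, c j • b j) = 0 := by
    intro i
    have := congrFun hc i
    simp only [Matrix.mulVec, dotProduct, Matrix.of_apply, Pi.zero_apply] at this
    rw [Finset.mul_sum, map_sum, ← this]
    refine Finset.sum_congr rfl (fun j _ => ?_)
    rw [mul_smul_comm, map_smul, smul_eq_mul, mul_comm]
  have h2 : ∀ y, Cfsg.Agent.S2482P.LOW.topCoeff h hh ((∑ j, c j • b j) * y) = 0 := by
    intro y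
    conv_lhs => rw [← b.sum_repr y]
    rw [Finset.mul_sum, map_sum]
    refine Finset.sum_eq_zero (fun i _ => ?_)
    rw [mul_smul_comm, map_smul, mul_comm, h1, smul_zero]
  have hx0 : (∑ j, c j • b j) = 0 := by
    by_cases hn : 1 ≤ h.natDegree
    · exact Cfsg.Agent.S2482P.LOW.topCoeff_nondeg h hh hn _ h2
    · have h1' : h = 1 := by
        have : h.natDegree = 0 := by omega
        exact Polynomial.eq_one_of_monic_natDegree_zero hh this
      have hss : Subsingleton (AdjoinRoot h) := by
        apply subsingleton_of_zero_eq_one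
        have h0 : AdjoinRoot.mk h h = 0 := AdjoinRoot.mk_self
        have h1'' : AdjoinRoot.mk h h = 1 := by
          have e : AdjoinRoot.mk h h = AdjoinRoot.mk h 1 := congrArg (AdjoinRoot.mk h) h1'
          rw [e, map_one]
        rw [← h0, h1'']
      exact Subsingleton.elim _ _
  have := Fintype.linearIndependent_iff.mp b.linearIndependent c hx0
  exact hc0 (funext this)

end Cfsg.Agent.S2558P.LOW
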