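import Mathlib
import Cfsg.Agent.Helper13.S2558LDefs

/-! S2558 chapter (L), piece REALD (board s2558l, sub-driver helper13):
the diagonal space `diag d` with the isometry `diag(±1)`. -/

set_option autoImplicit false

universe u

namespace Cfsg.Agent.S2558P.LOW

open Polynomial

variable {F : Type u} [Field F]

theorem realizes_diag (k : ℕ) (d s : Fin k → F) (hd : ∀ i, d i ≠ 0) (hs : ∀ i, s i = 1 ∨ s i = -1) :
    Realizes F k (∏ i, (X - C (2 * s i))) (∏ i, d i) := by
  have hss : ∀ i, s i * s i = 1 := by
    intro i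
    rcases hs i with h | h <;> rw [h] <;> ring
  have hB : ∀ u v : Fin k → F,
      Matrix.toBilin' (Matrix.diagonal d) u v = ∑ i, u i * (d i * v i) := by
    intro u v
    rw [Matrix.toBilin'_apply']
    simp only [dotProduct, Matrix.mulVec_diagonal]
  have hg : ∀ (u : Fin k → F) (i : Fin k),
      Matrix.toLin' (Matrix.diagonal s) u i = s i * u i := by
    intro u i
    rw [Matrix.toLin'_apply, Matrix.mulVec_diagonal]
  refine ⟨Fin k → F, inferInstance, inferInstance, Fin k, inferInstance, inferInstance,
    Matrix.toBilin' (Matrix.diagonal d), Matrix.toLin' (Matrix.diagonal s),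
    Matrix.toLin' (Matrix.diagonal s), Pi.basisFun F (Fin k), 1, Fintype.card_fin k, ?_, ?_, ?_,
    one_ne_zero, Finset.prod_ne_zero_iff.mpr (fun i _ => hd i), ?_, ?_⟩
  · intro u v
    rw [hB, hB]
    refine Finset.sum_congr rfl (fun i _ => ?_)
    ring
  · intro u v
    rw [hB, hB]
    refine Finset.sum_congr rfl (fun i _ => ?_)
    rw [hg, hg]
    linear_combination (u i * d i * v i) * hss i
  · apply LinearMap.ext
    intro u
    funext i
    rw [LinearMap.comp_apply, hg, hg, LinearMap.id_apply, ← mul_assoc, hss, one_mul]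
  · rw [LinearMap.BilinForm.toMatrix_basisFun, LinearMap.BilinForm.toMatrix'_toBilin',
      Matrix.det_diagonal, one_pow, one_mul]
  · rw [LinearMap.toMatrix_eq_toMatrix', map_add, LinearMap.toMatrix'_toLin',
      Matrix.diagonal_add, Matrix.charpoly_diagonal]
    refine Finset.prod_congr rfl (fun i _ => ?_)
    rw [two_mul]

end Cfsg.Agent.S2558P.LOW
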