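import Mathlib

/-! S2558 chapter (L), piece SQHALF (board s2558l, sub-driver helper13):
`{xy square}` and `{xy = 0 or nonsquare}` each contain at least half of `F × F` (q odd). -/

set_option autoImplicit false

universe u

namespace Cfsg.Agent.S2558P.LOW

namespace SQHALF

theorem half_le {α : Type*} [Fintype α] (P : α → Prop) [DecidablePred P] (T : α → α)
    (hT : Function.Injective T) (hmap : ∀ x, ¬ P x → P (T x)) :
    Fintype.card α ≤ 2 * (Finset.univ.filter P).card := by
  have h1 := Finset.card_filter_add_card_filter_not (s := (Finset.univ : Finset α)) P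
  have h2 : (Finset.univ.filter (fun x => ¬ P x)).card ≤ (Finset.univ.filter P).card := by
    refine Finset.card_le_card_of_injOn T (fun x hx => ?_) hT.injOn
    simp only [Finset.coe_filter, Finset.mem_univ, true_and, Set.mem_ofPred_eq] at hx ⊢
    exact hmap x hx
  rw [← Finset.card_univ]
  omega

variable {F : Type u} [Field F] [Fintype F]

theorem char_ne_two (hodd : Odd (Fintype.card F)) : ringChar F ≠ 2 := by
  intro h
  have := FiniteField.even_card_iff_char_two.mp h
  rcases hodd with ⟨k, hk⟩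
  omega

omit [Fintype F] in
theorem ne_zero_of_not_isSquare {a : F} (ha : ¬ IsSquare a) : a ≠ 0 := by
  rintro rfl
  exact ha ⟨0, by simp⟩

theorem isSquare_mul_of_not (hF : ringChar F ≠ 2) {a b : F} (ha : ¬ IsSquare a)
    (hb : ¬ IsSquare b) : IsSquare (a * b) := by
  have ha0 : a ≠ 0 := ne_zero_of_not_isSquare ha
  have hb0 : b ≠ 0 := ne_zero_of_not_isSquare hb
  have ha1 := (FiniteField.pow_dichotomy hF ha0).resolve_left
    (fun h => ha ((FiniteField.isSquare_iff hF ha0).mpr h))
  have hb1 := (FiniteField.pow_dichotomy hF hb0).resolve_left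
    (fun h => hb ((FiniteField.isSquare_iff hF hb0).mpr h))
  rw [FiniteField.isSquare_iff hF (mul_ne_zero ha0 hb0), mul_pow, ha1, hb1]
  ring

omit [Fintype F] in
theorem not_isSquare_mul {ν s : F} (hν : ¬ IsSquare ν) (hs0 : s ≠ 0) (hs : IsSquare s) :
    ¬ IsSquare (ν * s) := by
  intro h
  obtain ⟨r, hr⟩ := hs
  obtain ⟨t, ht⟩ := h
  apply hν
  have hr0 : r ≠ 0 := by
    rintro rfl
    apply hs0
    rw [hr, mul_zero]
  refine ⟨t / r, ?_⟩
  field_simp
  rw [hr] at ht
  linear_combination ht

end SQHALF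

variable {F : Type u} [Field F] [Fintype F]

open SQHALF in
theorem card_sq_half (hodd : Odd (Fintype.card F)) [DecidablePred fun p : F × F => IsSquare (p.1 * p.2)]
    [DecidablePred fun p : F × F => p.1 * p.2 = 0 ∨ ¬ IsSquare (p.1 * p.2)] :
    Fintype.card F ^ 2 ≤ 2 * (Finset.univ.filter fun p : F × F => IsSquare (p.1 * p.2)).card ∧
    Fintype.card F ^ 2 ≤
      2 * (Finset.univ.filter fun p : F × F => p.1 * p.2 = 0 ∨ ¬ IsSquare (p.1 * p.2)).card := by
  have hF : ringChar F ≠ 2 := char_ne_two hodd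
  obtain ⟨ν, hν⟩ := FiniteField.exists_nonsquare hF
  have hν0 : ν ≠ 0 := ne_zero_of_not_isSquare hν
  have hT : Function.Injective (fun p : F × F => (ν * p.1, p.2)) := by
    rintro ⟨x, y⟩ ⟨x', y'⟩ h
    simp only [Prod.mk.injEq] at h
    rw [Prod.mk.injEq]
    exact ⟨mul_left_cancel₀ hν0 h.1, h.2⟩
  have hcard : Fintype.card F ^ 2 = Fintype.card (F × F) := by
    rw [Fintype.card_prod, sq]
  rw [hcard]
  constructor
  · refine half_le _ _ hT ?_
    rintro ⟨x, y⟩ hxy
    have : ν * x * y = ν * (x * y) := by ring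
    show IsSquare (ν * x * y)
    rw [this]
    exact isSquare_mul_of_not hF hν hxy
  · refine half_le _ _ hT ?_
    rintro ⟨x, y⟩ hxy
    simp only [not_or, not_not] at hxy
    right
    have : ν * x * y = ν * (x * y) := by ring
    show ¬ IsSquare (ν * x * y)
    rw [this]
    exact not_isSquare_mul hν hxy.1 hxy.2

end Cfsg.Agent.S2558P.LOW
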