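import Mathlib
import Cfsg.Prelude.Def_FusionSystem
import Cfsg.Prelude.Def_KGroupFacts
import Cfsg.Agent.Helper7.S2647.Defs

set_option autoImplicit false
set_option linter.unusedSectionVars false
set_option linter.unusedVariables false

/-! # S2647, piece ARITH: for `q ≡ ±3 (mod 8)` the element `2` is a non-zero non-square. -/

namespace Cfsg.Agent.S2647P

variable {F : Type*} [Field F]

theorem two_ne_zero_and_not_isSquare [Fintype F] (q : ℕ) (hF : Fintype.card F = q)
    (hq : q % 8 = 3 ∨ q % 8 = 5) : (2 : F) ≠ 0 ∧ ¬ IsSquare (2 : F) := by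
  subst hF
  have hodd : Fintype.card F % 2 = 1 := by omega
  have h2 : (2 : F) ≠ 0 := by
    have hchar : ringChar F ≠ 2 := by
      intro h
      have := FiniteField.even_card_of_char_two h
      omega
    exact Ring.two_ne_zero hchar
  refine ⟨h2, ?_⟩
  intro hsq
  have := (FiniteField.isSquare_two_iff (F := F)).mp hsq
  omega

end Cfsg.Agent.S2647P
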