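import Mathlib
import Cfsg.Prelude.Def_FusionSystem
import Cfsg.Prelude.Def_KGroupFacts
import Cfsg.Agent.Helper7.S2647.Defs

set_option autoImplicit false
set_option linter.unusedSectionVars false
set_option linter.unusedVariables false

/-! # S2647, piece EGEN: the `A7`-conjugates of a non-trivial even sign vector generate `Ev`. -/

namespace Cfsg.Agent.S2647P

namespace EGEN

/-- the sign vector with `-1` exactly at `x` and `y` (trivial if `x = y`) -/
def dd (x y : J) : J → ℤˣ := Pi.mulSingle x (-1) * Pi.mulSingle y (-1)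

theorem dd_comm (x y : J) : dd x y = dd y x := by
  unfold dd
  rw [mul_comm]

theorem dd_perm (π : Equiv.Perm J) (x y : J) :
    (fun j => dd x y (π⁻¹ j)) = dd (π x) (π y) := by
  funext j
  simp only [dd, Pi.mul_apply, Pi.mulSingle_apply, Equiv.Perm.inv_eq_iff_eq]

theorem exists_other (x y j : J) : ∃ m : J, m ≠ x ∧ m ≠ y ∧ m ≠ j := by
  revert x y j
  decide

theorem swap_mul_swap_mem (a b c : J) (hab : a ≠ b) (hbc : b ≠ c) :
    Equiv.swap a b * Equiv.swap b c ∈ alternatingGroup J := by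
  rw [Equiv.Perm.mem_alternatingGroup, map_mul, Equiv.Perm.sign_swap hab, Equiv.Perm.sign_swap hbc]
  rfl

theorem units_cases (u : ℤˣ) : u = 1 ∨ u = -1 := Int.units_eq_one_or u

/-- step B: from one `dd x y` to all `dd j x` -/
theorem dd_mem_of_dd_mem (T : Subgroup (J → ℤˣ))
    (hT : ∀ ε ∈ T, ∀ π ∈ alternatingGroup J, (fun j => ε (π⁻¹ j)) ∈ T)
    (x y : J) (hxy : x ≠ y) (h : dd x y ∈ T) (j : J) (hj : j ≠ x) : dd j x ∈ T := by
  by_cases hjy : j = y
  · subst hjy
    rw [dd_comm]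
    exact h
  · obtain ⟨m, hmx, hmy, hmj⟩ := exists_other x y j
    have hπ : Equiv.swap y j * Equiv.swap j m ∈ alternatingGroup J :=
      swap_mul_swap_mem y j m (Ne.symm hjy) (Ne.symm hmj)
    have := hT _ h _ hπ
    rw [dd_perm] at this
    have e1 : (Equiv.swap y j * Equiv.swap j m) x = x := by
      rw [Equiv.Perm.mul_apply, Equiv.swap_apply_of_ne_of_ne (Ne.symm hj) (Ne.symm hmx),
        Equiv.swap_apply_of_ne_of_ne hxy (Ne.symm hj)]
    have e2 : (Equiv.swap y j * Equiv.swap j m) y = j := by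
      rw [Equiv.Perm.mul_apply, Equiv.swap_apply_of_ne_of_ne (Ne.symm hjy) (Ne.symm hmy),
        Equiv.swap_apply_left]
    rw [e1, e2, dd_comm] at this
    exact this

/-- step C: all `dd j x` generate `Ev` -/
theorem mem_of_dd_mem (T : Subgroup (J → ℤˣ)) (x : J) (h : ∀ j, j ≠ x → dd j x ∈ T)
    (ε : J → ℤˣ) (hε : ε ∈ Ev) : ε ∈ T := by
  have h1 : ∏ j, Pi.mulSingle (M := fun _ : J => ℤˣ) x (ε j) = 1 := by
    have := map_prod (MonoidHom.mulSingle (fun _ : J => ℤˣ) x) ε Finset.univ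
    simp only [MonoidHom.mulSingle_apply] at this
    rw [← this, (mem_Ev ε).mp hε, Pi.mulSingle_one]
  have h2 : ε = ∏ j, (Pi.mulSingle (M := fun _ : J => ℤˣ) j (ε j) *
      Pi.mulSingle (M := fun _ : J => ℤˣ) x (ε j)) := by
    rw [Finset.prod_mul_distrib, h1, mul_one, Finset.univ_prod_mulSingle]
  rw [h2]
  apply Subgroup.prod_mem
  intro j _
  rcases units_cases (ε j) with hu | hu
  · rw [hu, Pi.mulSingle_one, Pi.mulSingle_one, one_mul]
    exact T.one_mem
  · rw [hu]
    by_cases hj : j = x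
    · subst hj
      rw [← Pi.mulSingle_mul]
      have : (-1 : ℤˣ) * -1 = 1 := by decide
      rw [this, Pi.mulSingle_one]
      exact T.one_mem
    · exact h j hj

/-- step A: a weight-two vector in `T` -/
theorem exists_dd_mem (T : Subgroup (J → ℤˣ)) (ε₀ : J → ℤˣ) (h0 : ε₀ ∈ Ev) (h1 : ε₀ ≠ 1)
    (hT0 : ε₀ ∈ T)
    (hT : ∀ ε ∈ T, ∀ π ∈ alternatingGroup J, (fun j => ε (π⁻¹ j)) ∈ T) :
    ∃ x y : J, x ≠ y ∧ dd x y ∈ T := by
  -- a point with value `-1`
  obtain ⟨i, hi⟩ : ∃ i, ε₀ i = -1 := by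
    obtain ⟨i, hi⟩ := Function.ne_iff.mp h1
    refine ⟨i, ?_⟩
    rcases units_cases (ε₀ i) with h | h
    · exact absurd h hi
    · exact h
  -- a point with value `1`
  obtain ⟨k, hk⟩ : ∃ k, ε₀ k = 1 := by
    by_contra hno
    push Not at hno
    have hall : ∀ j, ε₀ j = -1 := by
      intro j
      rcases units_cases (ε₀ j) with h | h
      · exact absurd h (hno j)
      · exact h
    have hprod : ∏ j, ε₀ j = 1 := (mem_Ev ε₀).mp h0
    rw [Finset.prod_congr rfl (fun j _ => hall j), Finset.prod_const, Finset.card_univ] at hprod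
    revert hprod
    decide
  have hik : i ≠ k := by
    intro h
    rw [h, hk] at hi
    revert hi
    decide
  obtain ⟨m, hmi, hmk, -⟩ := exists_other i k i
  -- the 3-cycle `i ↦ k ↦ m ↦ i`
  have hπ : Equiv.swap i k * Equiv.swap k m ∈ alternatingGroup J :=
    swap_mul_swap_mem i k m hik (Ne.symm hmk)
  have hmem : ε₀ * (fun j => ε₀ ((Equiv.swap i k * Equiv.swap k m)⁻¹ j)) ∈ T :=
    T.mul_mem hT0 (hT _ hT0 _ hπ)
  have hinv : (Equiv.swap i k * Equiv.swap k m)⁻¹ = Equiv.swap k m * Equiv.swap i k := by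
    rw [mul_inv_rev, Equiv.swap_inv, Equiv.swap_inv]
  rw [hinv] at hmem
  have hval : ∀ j, (ε₀ * (fun j => ε₀ ((Equiv.swap k m * Equiv.swap i k) j))) j =
      if j = k then -1 else if j = m then ε₀ m else if j = i then -ε₀ m else 1 := by
    intro j
    rw [Pi.mul_apply, Equiv.Perm.mul_apply]
    by_cases hjk : j = k
    · subst hjk
      rw [if_pos rfl, Equiv.swap_apply_right, Equiv.swap_apply_of_ne_of_ne hik (Ne.symm hmi), hk, hi,
        one_mul]
    · rw [if_neg hjk]
      by_cases hjm : j = m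
      · subst hjm
        rw [if_pos rfl, Equiv.swap_apply_of_ne_of_ne hmi hmk, Equiv.swap_apply_right, hk, mul_one]
      · rw [if_neg hjm]
        by_cases hji : j = i
        · subst hji
          rw [if_pos rfl, Equiv.swap_apply_left, Equiv.swap_apply_left, hi, neg_one_mul]
        · rw [if_neg hji, Equiv.swap_apply_of_ne_of_ne hji hjk, Equiv.swap_apply_of_ne_of_ne hjk hjm]
          exact Int.units_mul_self (ε₀ j)
  rcases units_cases (ε₀ m) with hm | hm
  · refine ⟨k, i, Ne.symm hik, ?_⟩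
    convert hmem using 1
    funext j
    rw [hval j, hm]
    simp only [dd, Pi.mul_apply, Pi.mulSingle_apply]
    by_cases hjk : j = k
    · subst hjk
      simp [Ne.symm hik]
    · by_cases hjm : j = m
      · subst hjm
        simp [hjk, hmi]
      · by_cases hji : j = i
        · subst hji
          simp [hjk, hjm]
        · simp [hjk, hjm, hji]
  · refine ⟨k, m, Ne.symm hmk, ?_⟩
    convert hmem using 1
    funext j
    rw [hval j, hm]
    simp only [dd, Pi.mul_apply, Pi.mulSingle_apply]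
    by_cases hjk : j = k
    · subst hjk
      simp [Ne.symm hmk]
    · by_cases hjm : j = m
      · subst hjm
        simp [hjk]
      · by_cases hji : j = i
        · subst hji
          simp [hjk, hjm]
        · simp [hjk, hjm, hji]

end EGEN

theorem Ev_le_of_perm_closed (T : Subgroup (J → ℤˣ)) (ε₀ : J → ℤˣ) (h0 : ε₀ ∈ Ev) (h1 : ε₀ ≠ 1)
    (hT0 : ε₀ ∈ T)
    (hT : ∀ ε ∈ T, ∀ π ∈ alternatingGroup J, (fun j => ε (π⁻¹ j)) ∈ T) : Ev ≤ T := by
  obtain ⟨x, y, hxy, hdd⟩ := EGEN.exists_dd_mem T ε₀ h0 h1 hT0 hT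
  intro ε hε
  exact EGEN.mem_of_dd_mem T x (fun j hj => EGEN.dd_mem_of_dd_mem T hT x y hxy hdd j hj) ε hε

end Cfsg.Agent.S2647P
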