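import Mathlib
import Cfsg.Prelude.Def_Sz
import Cfsg.Prelude.Def_LieExceptional
import Cfsg.Agent.Helper2.SzSymp

/-! Bridge between the two realisations of the Suzuki group, part A: absolute points of the
polarity are exactly the points of the Suzuki–Tits ovoid. -/

set_option autoImplicit false
set_option linter.unusedSectionVars false
set_option linter.unusedVariables false

namespace Cfsg.Agent.Helper11.SzBridge

open Matrix Cfsg.Agent.Helper2.SzO

variable {F : Type*} [Field F] [Fintype F] {m : ℕ}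

/-- the four Plücker coordinates (on the isotropic index pairs) of the pair `(v, w)` -/
def P4 (v w : Fin 4 → F) : Fin 4 → F := fun p =>
  v (Cfsg.Lie.pairOf p).1 * w (Cfsg.Lie.pairOf p).2 - v (Cfsg.Lie.pairOf p).2 * w (Cfsg.Lie.pairOf p).1

theorem P4_zero (v w : Fin 4 → F) : P4 v w 0 = v 0 * w 1 - v 1 * w 0 := rfl
theorem P4_one (v w : Fin 4 → F) : P4 v w 1 = v 0 * w 2 - v 2 * w 0 := rfl
theorem P4_two (v w : Fin 4 → F) : P4 v w 2 = v 1 * w 3 - v 3 * w 1 := rfl
theorem P4_three (v w : Fin 4 → F) : P4 v w 3 = v 2 * w 3 - v 3 * w 2 := rfl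

/-- absolute vectors of the polarity -/
def Absol (m : ℕ) (v : Fin 4 → F) : Prop :=
  ∃ w : Fin 4 → F, Cfsg.Lie.altForm4 v w = 0 ∧ P4 v w = fun i => v i ^ sg m

theorem absol_e0 : Absol m (e0 : Fin 4 → F) := by
  refine ⟨![0, 1, 0, 0], ?_, ?_⟩
  · simp [Cfsg.Lie.altForm4, e0]
  · funext i
    fin_cases i <;> simp [P4, Cfsg.Lie.pairOf, e0, sg_ne_zero]

theorem absol_pt (hF : Fintype.card F = 2 ^ (2 * m + 1)) (x y : F) : Absol m (pt m x y) := by
  have h2 := two_eq_zero hF
  refine ⟨![y + x ^ sg m * x, x ^ sg m, 1, 0], ?_, ?_⟩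
  · simp [Cfsg.Lie.altForm4, pt]
    linear_combination (y + x * x ^ sg m) * h2
  · funext i
    fin_cases i
    · simp only [P4, Cfsg.Lie.pairOf, pt]
      simp
      rw [f_def', add_pow_sg hF, add_pow_sg hF, mul_pow, mul_pow, pow_sg_pow_sg hF]
      have e1 : (x ^ 2) ^ sg m = (x ^ sg m) ^ 2 := by rw [← pow_mul, ← pow_mul, mul_comm]
      rw [e1, pow_sg_pow_sg hF]
      linear_combination (- y ^ 2) * h2
    · simp only [P4, Cfsg.Lie.pairOf, pt]
      simp
      rw [f_def']
      ring
    · simp only [P4, Cfsg.Lie.pairOf, pt]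
      simp
      linear_combination (- x ^ sg m) * h2
    · simp only [P4, Cfsg.Lie.pairOf, pt]
      simp
      linear_combination (-1 : F) * h2

/-- an absolute nonzero vector spans a point of the ovoid -/
theorem ovoid_of_absol (hF : Fintype.card F = 2 ^ (2 * m + 1)) {v : Fin 4 → F} (hv : v ≠ 0)
    (h : Absol m v) : Projectivization.mk F v hv ∈ Cfsg.suzukiOvoid F m := by
  have h2 := two_eq_zero hF
  obtain ⟨w, hA, hP⟩ := h
  have E1 := congrFun hP 0
  have E2 := congrFun hP 1
  have E3 := congrFun hP 2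
  have E4 := congrFun hP 3
  rw [P4_zero] at E1
  rw [P4_one] at E2
  rw [P4_two] at E3
  rw [P4_three] at E4
  simp only [Cfsg.Lie.altForm4] at hA
  by_cases h3 : v 3 = 0
  · -- point at infinity
    rw [h3] at E3 E4 hA
    rw [zero_pow sg_ne_zero] at E4
    have hv2 : v 2 = 0 := by
      by_contra hne
      have hw3 : w 3 = 0 := by
        have : v 2 * w 3 = 0 := by linear_combination E4
        rcases mul_eq_zero.mp this with h | h
        · exact absurd h hne
        · exact h
      rw [hw3] at E3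
      have : v 2 ^ sg m = 0 := by linear_combination -E3
      exact hne (pow_eq_zero_iff sg_ne_zero |>.mp this)
    rw [hv2] at E2 E3 hA
    rw [zero_pow sg_ne_zero] at E3
    have hv1 : v 1 = 0 := by
      by_contra hne
      have hw3 : w 3 = 0 := by
        have : v 1 * w 3 = 0 := by linear_combination E3
        rcases mul_eq_zero.mp this with h | h
        · exact absurd h hne
        · exact h
      rw [hw3] at hA
      have hw2 : w 2 = 0 := by
        have : v 1 * w 2 = 0 := by linear_combination hA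
        rcases mul_eq_zero.mp this with h | h
        · exact absurd h hne
        · exact h
      rw [hw2] at E2
      have : v 1 ^ sg m = 0 := by linear_combination -E2
      exact hne (pow_eq_zero_iff sg_ne_zero |>.mp this)
    rw [mem_ovoid_iff]
    left
    apply mk_eq_infP_of_smul hv (c := v 0)
    funext i
    fin_cases i <;> simp [e0, h3, hv2, hv1]
  · -- affine point
    have key : v 0 * v 3 ^ sg m * v 3 = v 1 * v 2 * v 3 ^ sg m + v 2 ^ sg m * v 2 ^ 2
        + v 1 ^ sg m * v 3 ^ 2 := by
      linear_combination (-(v 3 ^ 2)) * E2 - (v 0 * v 3 + v 1 * v 2) * E4 - v 2 * v 3 * hA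
        - v 2 ^ 2 * E3 + (v 0 * v 2 * v 3 * w 3 + v 1 * v 2 ^ 2 * w 3 - v 1 * v 2 * v 3 ^ sg m
          - v 2 ^ sg m * v 2 ^ 2 - v 1 ^ sg m * v 3 ^ 2) * h2
    rw [mem_ovoid_iff]
    right
    refine ⟨v 2 / v 3, v 1 / v 3, ?_⟩
    apply mk_eq_ptP_of_smul hv (c := v 3)
    have h3s : v 3 ^ sg m ≠ 0 := pow_ne_zero _ h3
    funext i
    fin_cases i
    · simp only [pt, Pi.smul_apply, smul_eq_mul]
      simp
      rw [f_def', div_pow, div_pow, div_pow]
      field_simp
      linear_combination key
    · simp [pt]; field_simp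
    · simp [pt]; field_simp
    · simp [pt]

end Cfsg.Agent.Helper11.SzBridge
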