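import Mathlib
import Cfsg.Agent.Helper11.SzBridgeA

/-! Bridge between the two realisations of the Suzuki group, part B: elements of `Sp₄` with
`g* = g^θ` preserve absolute points. -/

set_option autoImplicit false
set_option linter.unusedSectionVars false
set_option linter.unusedVariables false

namespace Cfsg.Agent.Helper11.SzBridge

open Matrix Cfsg.Agent.Helper2.SzO

variable {F : Type*} [Field F] [Fintype F] {m : ℕ}

/-- preservation of the alternating form, as a property of a matrix -/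
def PresForm (M : Matrix (Fin 4) (Fin 4) F) : Prop :=
  ∀ u v : Fin 4 → F, Cfsg.Lie.altForm4 (M *ᵥ u) (M *ᵥ v) = Cfsg.Lie.altForm4 u v

theorem altForm4_eq (u v : Fin 4 → F) : Cfsg.Lie.altForm4 u v = u ⬝ᵥ (Wm *ᵥ v) := by
  rw [Wm_mulVec]
  simp [Cfsg.Lie.altForm4, dotProduct, Fin.sum_univ_four]

theorem presForm_of_isSp {M : Matrix (Fin 4) (Fin 4) F} (h : IsSp M) : PresForm M := by
  intro u v
  rw [altForm4_eq, altForm4_eq, Matrix.mulVec_mulVec, ← Matrix.vecMul_transpose,
    ← Matrix.dotProduct_mulVec, Matrix.mulVec_mulVec, ← Matrix.mul_assoc]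
  unfold IsSp at h
  rw [h]

theorem isSp_of_presForm {M : Matrix (Fin 4) (Fin 4) F} (h : PresForm M) : IsSp M := by
  unfold IsSp
  ext i j
  have := h (Pi.single i 1) (Pi.single j 1)
  rw [altForm4_eq, altForm4_eq, Matrix.mulVec_mulVec, ← Matrix.vecMul_transpose,
    ← Matrix.dotProduct_mulVec, Matrix.mulVec_mulVec, ← Matrix.mul_assoc] at this
  simpa using this

theorem Wm_mul_Wm : (Wm : Matrix (Fin 4) (Fin 4) F) * Wm = 1 := by
  ext i j
  fin_cases i <;> fin_cases j <;> simp [Wm, Matrix.mul_apply, Fin.sum_univ_four]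

/-- the transposed symplectic condition -/
theorem isSp_row {M : Matrix (Fin 4) (Fin 4) F} (h : IsSp M) : M * Wm * M.transpose = Wm := by
  unfold IsSp at h
  have h1 : (Wm * M.transpose * Wm) * M = 1 := by
    rw [Matrix.mul_assoc, Matrix.mul_assoc, ← Matrix.mul_assoc M.transpose, h, Wm_mul_Wm]
  have h2 : M * (Wm * M.transpose * Wm) = 1 := mul_eq_one_comm.mp h1
  calc M * Wm * M.transpose = M * (Wm * M.transpose * Wm) * Wm := by
        simp only [Matrix.mul_assoc]; rw [Wm_mul_Wm, Matrix.mul_one]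
    _ = Wm := by rw [h2, Matrix.one_mul]

theorem row_iso {M : Matrix (Fin 4) (Fin 4) F} (h : IsSp M) (k l : Fin 4) :
    M k 0 * M l 3 + M k 1 * M l 2 + M k 2 * M l 1 + M k 3 * M l 0 = Wm k l := by
  have := congrFun (congrFun (isSp_row h) k) l
  rw [← this]
  simp [Matrix.mul_apply, Fin.sum_univ_four, Wm, Matrix.transpose_apply]
  ring

theorem Wm_pairOf (p : Fin 4) :
    (Wm : Matrix (Fin 4) (Fin 4) F) (Cfsg.Lie.pairOf p).1 (Cfsg.Lie.pairOf p).2 = 0 := by
  fin_cases p <;> simp [Wm, Cfsg.Lie.pairOf]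

theorem pow_sg_sum (hF : Fintype.card F = 2 ^ (2 * m + 1)) (a b c d : F) :
    (a + b + c + d) ^ sg m = a ^ sg m + b ^ sg m + c ^ sg m + d ^ sg m := by
  rw [add_pow_sg hF, add_pow_sg hF, add_pow_sg hF]

/-- elements of `Sp₄` with `g* = g^θ` map absolute vectors to absolute vectors -/
theorem absol_mulVec (hF : Fintype.card F = 2 ^ (2 * m + 1)) {M : Matrix (Fin 4) (Fin 4) F}
    (hsp : PresForm M) (hstar : Cfsg.Lie.star4 M = M.map (fun x => x ^ sg m))
    {v : Fin 4 → F} (hv : Absol m v) : Absol m (M *ᵥ v) := by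
  have h2 := two_eq_zero hF
  obtain ⟨w, hA, hP⟩ := hv
  refine ⟨M *ᵥ w, ?_, ?_⟩
  · rw [hsp, hA]
  · have hSp := isSp_of_presForm hsp
    funext p
    have hR := row_iso hSp (Cfsg.Lie.pairOf p).1 (Cfsg.Lie.pairOf p).2
    rw [Wm_pairOf] at hR
    -- the key identity
    have key : P4 (M *ᵥ v) (M *ᵥ w) p = (Cfsg.Lie.star4 M *ᵥ P4 v w) p := by
      simp only [Cfsg.Lie.altForm4] at hA
      simp only [P4, Matrix.mulVec, dotProduct, Fin.sum_univ_four, Cfsg.Lie.star4, Matrix.of_apply]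
      generalize (Cfsg.Lie.pairOf p).1 = k at *
      generalize (Cfsg.Lie.pairOf p).2 = l at *
      simp only [Cfsg.Lie.pairOf]
      simp
      linear_combination (M k 0 * M l 3 - M l 0 * M k 3) * hA + (v 1 * w 2 - v 2 * w 1) * hR
        + (-(M k 0 * v 1 * w 2 * M l 3) - M k 0 * v 3 * w 0 * M l 3 - v 1 * M k 2 * M l 1 * w 2 +
          M k 2 * v 2 * M l 1 * w 1 + v 2 * M k 3 * M l 0 * w 1 + M k 3 * v 3 * M l 0 * w 0) * h2
    rw [key, hstar, hP]
    simp only [Matrix.mulVec, dotProduct, Fin.sum_univ_four, Matrix.map_apply]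
    rw [pow_sg_sum hF]
    simp only [mul_pow]
end Cfsg.Agent.Helper11.SzBridge
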