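import Mathlib
import Cfsg.Agent.Helper11.SzBridgeB

/-! Bridge between the two realisations of the Suzuki group: the ovoid stabiliser `Cfsg.Sz F m`
(in `SL₄`) and `Cfsg.Lie.Sz F (2^(m+1))` (elements of `Sp₄` with `g* = g^θ`, in `GL₄`) coincide. -/

set_option autoImplicit false
set_option linter.unusedSectionVars false
set_option linter.unusedVariables false

namespace Cfsg.Agent.Helper11.SzBridge

open Matrix Cfsg.Agent.Helper2.SzO

variable {F : Type*} [Field F] [Fintype F] {m : ℕ}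

/-- the generating set of `Cfsg.Lie.Sz` -/
def genSet (F : Type*) [Field F] (e : ℕ) : Set (GL (Fin 4) F) :=
  {g | g ∈ Cfsg.Lie.Sp4 F ∧ Cfsg.Lie.star4 (g : Matrix (Fin 4) (Fin 4) F) =
    (g : Matrix (Fin 4) (Fin 4) F).map (fun x => x ^ e)}

theorem lieSz_eq (e : ℕ) : Cfsg.Lie.Sz F e = Subgroup.closure (genSet F e) := rfl

theorem mem_Sp4_iff (g : GL (Fin 4) F) :
    g ∈ Cfsg.Lie.Sp4 F ↔ PresForm (g : Matrix (Fin 4) (Fin 4) F) := Iff.rfl

theorem star_T (hF : Fintype.card F = 2 ^ (2 * m + 1)) (a b : F) :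
    Cfsg.Lie.star4 (Tm m a b) = (Tm m a b).map (fun x => x ^ sg m) := by
  have h2 := two_eq_zero hF
  have e1 : (a ^ 2) ^ sg m = (a ^ sg m) ^ 2 := by rw [← pow_mul, ← pow_mul, mul_comm]
  ext i j
  fin_cases i <;> fin_cases j <;>
    simp [Cfsg.Lie.star4, Cfsg.Lie.pairOf, Tm, sg_ne_zero]
  · rw [add_pow_sg hF, mul_pow, pow_sg_pow_sg hF, f_def']
    linear_combination (-(a ^ 2 * a ^ sg m) - b ^ sg m) * h2
  · rw [f_def', add_pow_sg hF, add_pow_sg hF, mul_pow, mul_pow, pow_sg_pow_sg hF, e1, pow_sg_pow_sg hF]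
    linear_combination (-(b ^ sg m * a ^ sg m) - a ^ 2 * a ^ (sg m * 2)) * h2
  · rw [pow_sg_pow_sg hF]
    ring
  · rw [f_def']
    linear_combination (-(b ^ sg m)) * h2

theorem star_D (hF : Fintype.card F = 2 ^ (2 * m + 1)) (k : Fˣ) :
    Cfsg.Lie.star4 (Matrix.diagonal (dvec m k)) =
      (Matrix.diagonal (dvec m k)).map (fun x => x ^ sg m) := by
  have hx : (k : F) ≠ 0 := k.ne_zero
  have hA : ((k : F) ^ 2 ^ m) ≠ 0 := pow_ne_zero _ hx
  have e1 : 2 ^ m * sg m = 2 ^ (2 * m + 1) := by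
    unfold sg; rw [← pow_add]; congr 1; omega
  have hAs : ((k : F) ^ 2 ^ m) ^ sg m = (k : F) := by
    rw [← pow_mul, e1, ← hF, FiniteField.pow_card]
  have hxs : (k : F) ^ sg m = ((k : F) ^ 2 ^ m) ^ 2 := by
    rw [← pow_mul]; congr 1
  have hAx : (k : F) ^ (2 ^ m + 1) = (k : F) ^ 2 ^ m * k := pow_succ _ _
  ext i j
  fin_cases i <;> fin_cases j <;>
    simp [Cfsg.Lie.star4, Cfsg.Lie.pairOf, Matrix.diagonal, dvec, sg_ne_zero]
  · rw [hAx, mul_pow, hAs, hxs]; ring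
  · rw [hAx, hAs]; field_simp
  · rw [hAx, hAs]; field_simp
  · rw [hAx, mul_pow, hAs, hxs]; field_simp

theorem star_W (hF : Fintype.card F = 2 ^ (2 * m + 1)) :
    Cfsg.Lie.star4 (Wm : Matrix (Fin 4) (Fin 4) F) =
      (Wm : Matrix (Fin 4) (Fin 4) F).map (fun x => x ^ sg m) := by
  have h2 := two_eq_zero hF
  ext i j
  fin_cases i <;> fin_cases j <;>
    simp [Cfsg.Lie.star4, Cfsg.Lie.pairOf, Wm, sg_ne_zero]
  all_goals linear_combination (-1 : F) * h2

/-- the inclusion `SL₄ → GL₄` -/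
abbrev ι : SpecialLinearGroup (Fin 4) F →* GL (Fin 4) F := SpecialLinearGroup.toGL

theorem ι_coe (s : SpecialLinearGroup (Fin 4) F) : ((ι s : GL (Fin 4) F) : Matrix (Fin 4) (Fin 4) F) = s.1 :=
  rfl

theorem ι_T_mem (hF : Fintype.card F = 2 ^ (2 * m + 1)) (a b : F) :
    ι (T m a b) ∈ genSet F (2 ^ (m + 1)) :=
  ⟨presForm_of_isSp (isSp_T hF a b), star_T hF a b⟩

theorem ι_D_mem (hF : Fintype.card F = 2 ^ (2 * m + 1)) (k : Fˣ) :
    ι (D m k) ∈ genSet F (2 ^ (m + 1)) :=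
  ⟨presForm_of_isSp (isSp_D k), star_D hF k⟩

theorem ι_W_mem (hF : Fintype.card F = 2 ^ (2 * m + 1)) :
    ι (W : SpecialLinearGroup (Fin 4) F) ∈ genSet F (2 ^ (m + 1)) :=
  ⟨presForm_of_isSp isSp_W, star_W hF⟩

theorem map_le (hF : Fintype.card F = 2 ^ (2 * m + 1)) (hm : 1 ≤ m) :
    (Cfsg.Sz F m).map ι ≤ Cfsg.Lie.Sz F (2 ^ (m + 1)) := by
  rintro _ ⟨s, hs, rfl⟩
  rw [lieSz_eq]
  have hT : ∀ a b, ι (T m a b) ∈ Subgroup.closure (genSet F (2 ^ (m + 1))) :=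
    fun a b => Subgroup.subset_closure (ι_T_mem hF a b)
  have hD : ∀ k, ι (D m k) ∈ Subgroup.closure (genSet F (2 ^ (m + 1))) :=
    fun k => Subgroup.subset_closure (ι_D_mem hF k)
  have hW : ι (W : SpecialLinearGroup (Fin 4) F) ∈ Subgroup.closure (genSet F (2 ^ (m + 1))) :=
    Subgroup.subset_closure (ι_W_mem hF)
  rcases decomp hF hm hs with ⟨a, b, k, rfl⟩ | ⟨a, b, a', b', k, rfl⟩
  · rw [map_mul]
    exact Subgroup.mul_mem _ (hT a b) (hD k)
  · rw [map_mul, map_mul, map_mul]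
    exact Subgroup.mul_mem _ (Subgroup.mul_mem _ (hT a b) hW) (Subgroup.mul_mem _ (hT a' b') (hD k))

theorem det_eq_one_of_isSp (hF : Fintype.card F = 2 ^ (2 * m + 1)) {M : Matrix (Fin 4) (Fin 4) F}
    (h : IsSp M) : M.det = 1 := by
  have h2 := two_eq_zero hF
  unfold IsSp at h
  have hd := congrArg Matrix.det h
  rw [Matrix.det_mul, Matrix.det_mul, Matrix.det_transpose, det_Wm, mul_one] at hd
  have : (M.det - 1) ^ 2 = 0 := by linear_combination hd + (1 - M.det) * h2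
  have := pow_eq_zero_iff (two_ne_zero) |>.mp this
  linear_combination this

theorem genSet_subset (hF : Fintype.card F = 2 ^ (2 * m + 1)) :
    genSet F (2 ^ (m + 1)) ⊆ ((Cfsg.Sz F m).map ι : Subgroup (GL (Fin 4) F)) := by
  rintro g ⟨hsp, hstar⟩
  have hsp' : PresForm (g : Matrix (Fin 4) (Fin 4) F) := hsp
  have hSp := isSp_of_presForm hsp'
  have hstar' : Cfsg.Lie.star4 (g : Matrix (Fin 4) (Fin 4) F) =
      (g : Matrix (Fin 4) (Fin 4) F).map (fun x => x ^ sg m) := hstar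
  let s : SpecialLinearGroup (Fin 4) F := ⟨g, det_eq_one_of_isSp hF hSp⟩
  have hs : s ∈ Cfsg.Sz F m := by
    apply mem_Sz_of
    · unfold infP
      rw [Projectivization.smul_mk]
      exact ovoid_of_absol hF _ (absol_mulVec hF hsp' hstar' absol_e0)
    · intro x y
      unfold ptP
      rw [Projectivization.smul_mk]
      exact ovoid_of_absol hF _ (absol_mulVec hF hsp' hstar' (absol_pt hF x y))
  refine ⟨s, hs, ?_⟩
  apply Units.ext
  rfl

/-- the two realisations of the Suzuki group coincide inside `GL₄` -/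
theorem map_eq (hF : Fintype.card F = 2 ^ (2 * m + 1)) (hm : 1 ≤ m) :
    (Cfsg.Sz F m).map ι = Cfsg.Lie.Sz F (2 ^ (m + 1)) := by
  apply le_antisymm (map_le hF hm)
  rw [lieSz_eq, Subgroup.closure_le]
  exact genSet_subset hF

/-- the isomorphism between the two realisations of the Suzuki group -/
noncomputable def szEquiv (hF : Fintype.card F = 2 ^ (2 * m + 1)) (hm : 1 ≤ m) :
    ↥(Cfsg.Sz F m) ≃* ↥(Cfsg.Lie.Sz F (2 ^ (m + 1))) :=
  ((Cfsg.Sz F m).equivMapOfInjective ι SpecialLinearGroup.toGL_injective).trans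
    (MulEquiv.subgroupCongr (map_eq hF hm))

theorem szEquiv_coe (hF : Fintype.card F = 2 ^ (2 * m + 1)) (hm : 1 ≤ m) (s : ↥(Cfsg.Sz F m)) :
    ((szEquiv hF hm s : GL (Fin 4) F) : Matrix (Fin 4) (Fin 4) F) = (s : SpecialLinearGroup (Fin 4) F).1 :=
  rfl

end Cfsg.Agent.Helper11.SzBridge
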