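import Mathlib
import Cfsg.Agent.Helper2.SzSimple

set_option autoImplicit false

namespace Cfsg.Agent.Helper11.SzMax

open Cfsg.Agent.Helper2.SzO
open scoped Pointwise

variable {F : Type*} [Field F] [Fintype F] {m : ℕ}

/-- `Q` is transitive on the affine points. -/
theorem exists_Tz_smul (hF : Fintype.card F = 2 ^ (2 * m + 1)) (x y x' y' : F) :
    ∃ a b : F, Tz hF a b • (ptO x y : Cfsg.suzukiOvoid F m) = ptO x' y' := by
  refine ⟨x' - x, y' - y - (x' - x) ^ sg m * x, ?_⟩
  rw [Tz_smul_ptO]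
  congr 1 <;> ring

/-- A non-identity element of `Q` fixes no affine point. -/
theorem Tz_fix_affine (hF : Fintype.card F = 2 ^ (2 * m + 1)) {a b x y : F}
    (h : Tz hF a b • (ptO x y : Cfsg.suzukiOvoid F m) = ptO x y) : a = 0 ∧ b = 0 := by
  rw [Tz_smul_ptO] at h
  obtain ⟨h1, h2⟩ := ptO_injective h
  have ha : a = 0 := by linear_combination h1
  subst ha
  have hs : sg m ≠ 0 := sg_ne_zero
  refine ⟨rfl, ?_⟩
  simp [hs] at h2
  exact h2

/-- The normalizer of `Q` is the stabilizer of `∞`. -/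
theorem normalizer_Qz (hF : Fintype.card F = 2 ^ (2 * m + 1)) (hm : 1 ≤ m) :
    Subgroup.normalizer ((Qz hF : Subgroup (Cfsg.Sz F m)) : Set (Cfsg.Sz F m)) =
      MulAction.stabilizer (Cfsg.Sz F m) (infO : Cfsg.suzukiOvoid F m) := by
  ext x
  rw [MulAction.mem_stabilizer_iff]
  constructor
  · intro hx
    rcases ovoid_cases (x • (infO : Cfsg.suzukiOvoid F m)) with h | ⟨u, v, h⟩
    · exact h
    · exfalso
      have h1 : x * Tz hF 1 0 * x⁻¹ ∈ Qz hF :=
        (Subgroup.mem_normalizer_iff.mp hx _).mp (Tz_mem_Qz hF 1 0)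
      obtain ⟨a, b, hab⟩ := h1
      have hfix : Tz hF a b • (ptO u v : Cfsg.suzukiOvoid F m) = ptO u v := by
        rw [← hab, ← h, mul_smul, mul_smul, inv_smul_smul, Tz_smul_infO]
      obtain ⟨rfl, rfl⟩ := Tz_fix_affine hF hfix
      rw [Tz_one] at hab
      have h2 : Tz hF (1 : F) 0 = 1 := by
        have := congrArg (fun z => x⁻¹ * z * x) hab
        simpa [mul_assoc] using this
      rw [← Tz_one hF] at h2
      exact one_ne_zero (Tz_injective hF h2).1
  · intro hx
    rw [Subgroup.mem_normalizer_iff]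
    intro n
    constructor
    · intro hn
      exact conj_mem_Qz_of_fix hF hm x hx hn
    · intro hn
      have hx' : x⁻¹ • (infO : Cfsg.suzukiOvoid F m) = infO := by
        rw [inv_smul_eq_iff, hx]
      have := conj_mem_Qz_of_fix hF hm x⁻¹ hx' hn
      simpa [mul_assoc] using this

/-- `Q` together with any conjugate by an element moving `∞` generates the Suzuki group. -/
theorem Qz_sup_conj (hF : Fintype.card F = 2 ^ (2 * m + 1)) (hm : 1 ≤ m) (x : Cfsg.Sz F m)
    (hx : x • (infO : Cfsg.suzukiOvoid F m) ≠ infO) :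
    Qz hF ⊔ (Qz hF).map (MulAut.conj x).toMonoidHom = ⊤ := by
  rw [eq_top_iff, ← G0_eq_top hF hm]
  unfold G0 Subgroup.normalClosure
  rw [Subgroup.closure_le]
  intro y hy
  rw [Group.mem_conjugatesOfSet_iff] at hy
  obtain ⟨t, ht, hconj⟩ := hy
  rw [isConj_iff] at hconj
  obtain ⟨g, rfl⟩ := hconj
  rw [SetLike.mem_coe]
  rcases ovoid_cases (g • (infO : Cfsg.suzukiOvoid F m)) with hg | ⟨u, v, hg⟩
  · exact Subgroup.mem_sup_left (conj_mem_Qz_of_fix hF hm g hg ht)
  · rcases ovoid_cases (x • (infO : Cfsg.suzukiOvoid F m)) with hx' | ⟨u', v', hx'⟩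
    · exact absurd hx' hx
    · obtain ⟨a, b, hab⟩ := exists_Tz_smul (m := m) hF u' v' u v
      -- `h = (q x)⁻¹ g` fixes `∞`
      set q := Tz hF a b with hq
      have hfix : ((q * x)⁻¹ * g) • (infO : Cfsg.suzukiOvoid F m) = infO := by
        rw [mul_smul, hg, inv_smul_eq_iff, mul_smul, hx', hab]
      have ht' := conj_mem_Qz_of_fix hF hm _ hfix ht
      have e : g * t * g⁻¹ =
          q * (x * (((q * x)⁻¹ * g) * t * ((q * x)⁻¹ * g)⁻¹) * x⁻¹) * q⁻¹ := by group
      rw [e]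
      have hqmem : q ∈ Qz hF ⊔ (Qz hF).map (MulAut.conj x).toMonoidHom :=
        Subgroup.mem_sup_left (Tz_mem_Qz hF a b)
      refine Subgroup.mul_mem _ (Subgroup.mul_mem _ hqmem ?_) (Subgroup.inv_mem _ hqmem)
      apply Subgroup.mem_sup_right
      exact ⟨_, ht', rfl⟩


/-- For every Sylow 2-subgroup `P` there is a point `ω` of the ovoid with `N(P) = G_ω`, and `P`
together with any conjugate by an element moving `ω` generates the group. -/
theorem sylow_point (hF : Fintype.card F = 2 ^ (2 * m + 1)) (hm : 1 ≤ m)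
    (P : Sylow 2 (Cfsg.Sz F m)) :
    ∃ ω : Cfsg.suzukiOvoid F m,
      Subgroup.normalizer ((P : Subgroup (Cfsg.Sz F m)) : Set (Cfsg.Sz F m)) =
        MulAction.stabilizer (Cfsg.Sz F m) ω ∧
      ∀ x : Cfsg.Sz F m, x • ω ≠ ω →
        (P : Subgroup (Cfsg.Sz F m)) ⊔
          (P : Subgroup (Cfsg.Sz F m)).map (MulAut.conj x).toMonoidHom = ⊤ := by
  have : Fact (Nat.Prime 2) := ⟨Nat.prime_two⟩
  obtain ⟨g, hg⟩ := MulAction.exists_smul_eq (Cfsg.Sz F m) (QSylow hF hm) P
  have hP : (P : Subgroup (Cfsg.Sz F m)) = (Qz hF).map (MulAut.conj g).toMonoidHom := by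
    rw [← hg, Sylow.coe_subgroup_smul, QSylow_coe, Subgroup.pointwise_smul_def]
    rfl
  refine ⟨g • infO, ?_, ?_⟩
  · rw [MulAction.stabilizer_smul_eq_stabilizer_map_conj, ← normalizer_Qz hF hm, hP]
    ext x
    rw [Subgroup.mem_normalizer_iff]
    constructor
    · intro hx
      refine ⟨g⁻¹ * x * g, ?_, ?_⟩
      · rw [SetLike.mem_coe, Subgroup.mem_normalizer_iff]
        intro n
        have h1 := hx (g * n * g⁻¹)
        constructor
        · intro hn
          have h2 := h1.mp ⟨n, hn, rfl⟩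
          obtain ⟨n', hn', e⟩ := h2
          have : g⁻¹ * x * g * n * (g⁻¹ * x * g)⁻¹ = n' := by
            have e' : g * n' * g⁻¹ = x * (g * n * g⁻¹) * x⁻¹ := e
            calc g⁻¹ * x * g * n * (g⁻¹ * x * g)⁻¹ = g⁻¹ * (x * (g * n * g⁻¹) * x⁻¹) * g := by
                  group
              _ = g⁻¹ * (g * n' * g⁻¹) * g := by rw [e']
              _ = n' := by group
          rw [this]; exact hn'
        · intro hn
          have h2 := h1.mpr ⟨g⁻¹ * x * g * n * (g⁻¹ * x * g)⁻¹, hn, by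
            show g * (g⁻¹ * x * g * n * (g⁻¹ * x * g)⁻¹) * g⁻¹ = x * (g * n * g⁻¹) * x⁻¹
            group⟩
          obtain ⟨n', hn', e⟩ := h2
          have e' : g * n' * g⁻¹ = g * n * g⁻¹ := e
          have : n' = n := by
            have := congrArg (fun z => g⁻¹ * z * g) e'
            simpa [mul_assoc] using this
          rw [← this]; exact hn'
      · show g * (g⁻¹ * x * g) * g⁻¹ = x
        group
    · rintro ⟨y, hy, rfl⟩
      rw [SetLike.mem_coe, Subgroup.mem_normalizer_iff] at hy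
      intro n
      show n ∈ (Qz hF).map (MulAut.conj g).toMonoidHom ↔
        (g * y * g⁻¹) * n * (g * y * g⁻¹)⁻¹ ∈ (Qz hF).map (MulAut.conj g).toMonoidHom
      constructor
      · rintro ⟨n0, hn0, rfl⟩
        refine ⟨y * n0 * y⁻¹, (hy n0).mp hn0, ?_⟩
        show g * (y * n0 * y⁻¹) * g⁻¹ = (g * y * g⁻¹) * (g * n0 * g⁻¹) * (g * y * g⁻¹)⁻¹
        group
      · rintro ⟨n0, hn0, e⟩
        have e' : g * n0 * g⁻¹ = (g * y * g⁻¹) * n * (g * y * g⁻¹)⁻¹ := e
        refine ⟨y⁻¹ * n0 * y, ?_, ?_⟩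
        · have := (hy (y⁻¹ * n0 * y)).mpr (by
            have : y * (y⁻¹ * n0 * y) * y⁻¹ = n0 := by group
            rw [this]; exact hn0)
          exact this
        · show g * (y⁻¹ * n0 * y) * g⁻¹ = n
          calc g * (y⁻¹ * n0 * y) * g⁻¹ = (g * y * g⁻¹)⁻¹ * (g * n0 * g⁻¹) * (g * y * g⁻¹) := by
                group
            _ = (g * y * g⁻¹)⁻¹ * ((g * y * g⁻¹) * n * (g * y * g⁻¹)⁻¹) * (g * y * g⁻¹) := by
                rw [e']
            _ = n := by group
  · intro x hx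
    have hx' : (g⁻¹ * x * g) • (infO : Cfsg.suzukiOvoid F m) ≠ infO := by
      intro h
      apply hx
      rw [mul_smul, mul_smul, inv_smul_eq_iff] at h
      exact h
    have h1 := Qz_sup_conj hF hm _ hx'
    have h2 := congrArg (Subgroup.map (MulAut.conj g).toMonoidHom) h1
    rw [Subgroup.map_sup, Subgroup.map_map] at h2
    have h3 : (⊤ : Subgroup (Cfsg.Sz F m)).map (MulAut.conj g).toMonoidHom = ⊤ := by
      rw [← MonoidHom.range_eq_map]
      exact MonoidHom.range_eq_top.mpr (MulAut.conj g).surjective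
    rw [h3] at h2
    rw [hP, Subgroup.map_map, ← h2]
    congr 2
    refine MonoidHom.ext (fun z => ?_)
    show x * (g * z * g⁻¹) * x⁻¹ = g * ((g⁻¹ * x * g) * z * (g⁻¹ * x * g)⁻¹) * g⁻¹
    group

/-- The normalizer of a Sylow 2-subgroup of the Suzuki group is the unique maximal subgroup
containing it. -/
theorem normalizer_sylow_maximal (hF : Fintype.card F = 2 ^ (2 * m + 1)) (hm : 1 ≤ m)
    (P : Sylow 2 (Cfsg.Sz F m)) :
    IsCoatom (Subgroup.normalizer ((P : Subgroup (Cfsg.Sz F m)) : Set (Cfsg.Sz F m))) ∧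
    ∀ M : Subgroup (Cfsg.Sz F m), IsCoatom M → (P : Subgroup (Cfsg.Sz F m)) ≤ M →
      M = Subgroup.normalizer ((P : Subgroup (Cfsg.Sz F m)) : Set (Cfsg.Sz F m)) := by
  obtain ⟨ω, hN, hgen⟩ := sylow_point hF hm P
  have h2t := two_pretransitive (m := m) hF
  have hprim : MulAction.IsPreprimitive (Cfsg.Sz F m) (Cfsg.suzukiOvoid F m) :=
    MulAction.isPreprimitive_of_is_two_pretransitive h2t
  have hnt : Nontrivial (Cfsg.suzukiOvoid F m) := ⟨infO, ptO 0 0, infO_ne_ptO 0 0⟩
  have hpt : MulAction.IsPretransitive (Cfsg.Sz F m) (Cfsg.suzukiOvoid F m) :=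
    hprim.toIsPretransitive
  have hco : IsCoatom (MulAction.stabilizer (Cfsg.Sz F m) ω) :=
    (MulAction.isCoatom_stabilizer_iff_preprimitive (Cfsg.Sz F m) ω).mpr hprim
  rw [hN]
  refine ⟨hco, ?_⟩
  intro M hM hPM
  by_cases hle : M ≤ MulAction.stabilizer (Cfsg.Sz F m) ω
  · rcases eq_or_lt_of_le hle with h | h
    · exact h
    · exact absurd (hM.2 _ h) hco.1
  · exfalso
    rw [SetLike.not_le_iff_exists] at hle
    obtain ⟨x, hxM, hx⟩ := hle
    rw [MulAction.mem_stabilizer_iff] at hx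
    have h1 := hgen x hx
    apply hM.1
    rw [eq_top_iff, ← h1]
    apply sup_le hPM
    rintro _ ⟨z, hz, rfl⟩
    exact M.mul_mem (M.mul_mem hxM (hPM hz)) (M.inv_mem hxM)

end Cfsg.Agent.Helper11.SzMax
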