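import Mathlib

/-! Arithmetic for the tori of the Suzuki groups. `q = k + 1`. -/

set_option autoImplicit false

namespace Cfsg.Agent.Helper11.SzTorArith

/-- one class of tori is impossible -/
theorem arith_one (k u c a : ℕ) (hk : 7 ≤ k) (hu : 5 ≤ u) (ha : a = 1 ∨ a = 2 ∨ a = 4)
    (h1 : 2 * c = (k + 1) ^ 3 * k ^ 2)
    (h2 : 4 * u * c = a * ((k + 1) ^ 2 * ((k + 1) ^ 2 + 1) * k) * (u - 1)) : False := by
  obtain ⟨t, rfl⟩ : ∃ t, u = t + 1 := ⟨u - 1, by omega⟩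
  rw [Nat.add_sub_cancel] at h2
  have h3 : (2 * ((k + 1) ^ 2 * k)) * (2 * (t + 1) * ((k + 1) * k)) =
      (2 * ((k + 1) ^ 2 * k)) * (a * ((k + 1) ^ 2 + 1) * t) := by
    calc (2 * ((k + 1) ^ 2 * k)) * (2 * (t + 1) * ((k + 1) * k))
        = 4 * (t + 1) * ((k + 1) ^ 3 * k ^ 2) := by ring
      _ = 4 * (t + 1) * (2 * c) := by rw [h1]
      _ = 2 * (4 * (t + 1) * c) := by ring
      _ = 2 * (a * ((k + 1) ^ 2 * ((k + 1) ^ 2 + 1) * k) * t) := by rw [h2]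
      _ = (2 * ((k + 1) ^ 2 * k)) * (a * ((k + 1) ^ 2 + 1) * t) := by ring
  have hpos : 0 < 2 * ((k + 1) ^ 2 * k) := by positivity
  have h4 := Nat.eq_of_mul_eq_mul_left hpos h3
  have ht : 4 ≤ t := by omega
  have hkk : 49 ≤ k * k := by nlinarith
  have htkk : t * 49 ≤ t * (k * k) := Nat.mul_le_mul_left t hkk
  clear h1 h2 h3 hpos
  rcases ha with rfl | rfl | rfl
  · nlinarith [htkk]
  · have h5 : t * (k + 2) = (k + 2) * (k - 1) + 2 := by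
      obtain ⟨j, rfl⟩ : ∃ j, k = j + 1 := ⟨k - 1, by omega⟩
      rw [Nat.add_sub_cancel]
      nlinarith [h4]
    have h6 : (k + 2) ∣ 2 := by
      have : (k + 2) ∣ (k + 2) * (k - 1) + 2 := ⟨t, by rw [← h5]; ring⟩
      exact (Nat.dvd_add_right (dvd_mul_right _ _)).mp this
    have := Nat.le_of_dvd (by norm_num) h6
    omega
  · nlinarith [htkk, Nat.zero_le (t * k)]

/-- three classes of tori are impossible -/
theorem arith_three (k G R c₁ c₂ c₃ : ℕ) (hk : 7 ≤ k)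
    (hG : G = (k + 1) ^ 2 * ((k + 1) ^ 2 + 1) * k) (hR : 2 * R = (k + 1) ^ 3 * k ^ 2)
    (h1 : G ≤ 5 * c₁) (h2 : G ≤ 5 * c₂) (h3 : G ≤ 5 * c₃) (hc : c₁ + c₂ + c₃ ≤ R) : False := by
  have h4 : 6 * G ≤ 10 * R := by omega
  have h5 : 10 * R = ((k + 1) ^ 2 * k) * (5 * ((k + 1) * k)) := by
    calc 10 * R = 5 * (2 * R) := by ring
      _ = 5 * ((k + 1) ^ 3 * k ^ 2) := by rw [hR]
      _ = ((k + 1) ^ 2 * k) * (5 * ((k + 1) * k)) := by ring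
  have h6 : 6 * G = ((k + 1) ^ 2 * k) * (6 * ((k + 1) ^ 2 + 1)) := by rw [hG]; ring
  rw [h5, h6] at h4
  have hpos : 0 < (k + 1) ^ 2 * k := by positivity
  have h7 := Nat.le_of_mul_le_mul_left h4 hpos
  nlinarith

theorem coprime_aux (k : ℕ) (hodd : Odd k) :
    Nat.Coprime ((k + 1) ^ 2 + 1) (2 * ((k + 1) * k)) := by
  have h2 : Nat.Coprime ((k + 1) ^ 2 + 1) 2 := by
    rw [Nat.coprime_two_right]
    obtain ⟨j, rfl⟩ := hodd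
    exact ⟨2 * (j + 1) ^ 2, by ring⟩
  have h3 : Nat.Coprime ((k + 1) ^ 2 + 1) (k + 1) := by
    have : (k + 1) ^ 2 + 1 = 1 + (k + 1) * (k + 1) := by ring
    rw [this, Nat.coprime_add_mul_left_left]
    exact Nat.coprime_one_left _
  have h4 : Nat.Coprime ((k + 1) ^ 2 + 1) k := by
    have : (k + 1) ^ 2 + 1 = 2 + k * (k + 2) := by ring
    rw [this, Nat.coprime_add_mul_left_left, Nat.coprime_two_left]
    exact hodd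
  exact Nat.Coprime.mul_right h2 (Nat.Coprime.mul_right h3 h4)

/-- two classes of tori -/
theorem arith_two (k u₁ u₂ v c₁ c₂ a₁ a₂ : ℕ) (hk : 7 ≤ k) (hodd : Odd k) (hu₁ : 5 ≤ u₁)
    (hu₂ : 5 ≤ u₂) (ha₁ : a₁ = 1 ∨ a₁ = 2 ∨ a₁ = 4) (ha₂ : a₂ = 1 ∨ a₂ = 2 ∨ a₂ = 4)
    (huv : (k + 1) ^ 2 + 1 = u₁ * u₂ * v)
    (h1 : 4 * u₁ * c₁ = a₁ * ((k + 1) ^ 2 * ((k + 1) ^ 2 + 1) * k) * (u₁ - 1))
    (h2 : 4 * u₂ * c₂ = a₂ * ((k + 1) ^ 2 * ((k + 1) ^ 2 + 1) * k) * (u₂ - 1))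
    (hc : 2 * (c₁ + c₂) = (k + 1) ^ 3 * k ^ 2) :
    v = 1 ∧ a₁ = 1 ∧ a₂ = 1 ∧ u₁ + u₂ = 2 * (k + 1) + 2 := by
  obtain ⟨t₁, rfl⟩ : ∃ t, u₁ = t + 1 := ⟨u₁ - 1, by omega⟩
  obtain ⟨t₂, rfl⟩ : ∃ t, u₂ = t + 1 := ⟨u₂ - 1, by omega⟩
  rw [Nat.add_sub_cancel] at h1 h2
  rw [huv] at h1 h2
  have e1 : 4 * c₁ = a₁ * (k + 1) ^ 2 * (t₂ + 1) * v * k * t₁ := by
    have : (t₁ + 1) * (4 * c₁) = (t₁ + 1) * (a₁ * (k + 1) ^ 2 * (t₂ + 1) * v * k * t₁) := by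
      calc (t₁ + 1) * (4 * c₁) = 4 * (t₁ + 1) * c₁ := by ring
        _ = a₁ * ((k + 1) ^ 2 * ((t₁ + 1) * (t₂ + 1) * v) * k) * t₁ := h1
        _ = (t₁ + 1) * (a₁ * (k + 1) ^ 2 * (t₂ + 1) * v * k * t₁) := by ring
    exact Nat.eq_of_mul_eq_mul_left (by omega) this
  have e2 : 4 * c₂ = a₂ * (k + 1) ^ 2 * (t₁ + 1) * v * k * t₂ := by
    have : (t₂ + 1) * (4 * c₂) = (t₂ + 1) * (a₂ * (k + 1) ^ 2 * (t₁ + 1) * v * k * t₂) := by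
      calc (t₂ + 1) * (4 * c₂) = 4 * (t₂ + 1) * c₂ := by ring
        _ = a₂ * ((k + 1) ^ 2 * ((t₁ + 1) * (t₂ + 1) * v) * k) * t₂ := h2
        _ = (t₂ + 1) * (a₂ * (k + 1) ^ 2 * (t₁ + 1) * v * k * t₂) := by ring
    exact Nat.eq_of_mul_eq_mul_left (by omega) this
  have e3 : ((k + 1) ^ 2 * k) * (v * (a₁ * (t₂ + 1) * t₁ + a₂ * (t₁ + 1) * t₂)) =
      ((k + 1) ^ 2 * k) * (2 * ((k + 1) * k)) := by
    calc ((k + 1) ^ 2 * k) * (v * (a₁ * (t₂ + 1) * t₁ + a₂ * (t₁ + 1) * t₂))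
        = a₁ * (k + 1) ^ 2 * (t₂ + 1) * v * k * t₁ + a₂ * (k + 1) ^ 2 * (t₁ + 1) * v * k * t₂ := by
          ring
      _ = 4 * c₁ + 4 * c₂ := by rw [e1, e2]
      _ = 2 * (2 * (c₁ + c₂)) := by ring
      _ = 2 * ((k + 1) ^ 3 * k ^ 2) := by rw [hc]
      _ = ((k + 1) ^ 2 * k) * (2 * ((k + 1) * k)) := by ring
  have hpos : 0 < (k + 1) ^ 2 * k := by positivity
  have e4 := Nat.eq_of_mul_eq_mul_left hpos e3
  have hv1 : v = 1 := by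
    have hd1 : v ∣ 2 * ((k + 1) * k) := ⟨_, e4.symm⟩
    have hd2 : v ∣ (k + 1) ^ 2 + 1 := ⟨(t₁ + 1) * (t₂ + 1), by rw [huv]; ring⟩
    have hcop := coprime_aux k hodd
    exact Nat.eq_one_of_dvd_coprimes hcop hd2 hd1
  subst hv1
  rw [one_mul] at e4
  rw [mul_one] at huv
  have ht₁ : 4 ≤ t₁ := by omega
  have ht₂ : 4 ≤ t₂ := by omega
  clear h1 h2 e1 e2 e3 hc hpos
  have hprod : 16 + 4 * t₁ + 4 * t₂ ≤ t₁ * t₂ + 4 * t₁ + 4 * t₂ + 0 + 0 + 0 ∧ 4 * t₁ + 4 * t₂ ≤ t₁ * t₂ + 16 := by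
    obtain ⟨s₁, rfl⟩ : ∃ s, t₁ = s + 4 := ⟨t₁ - 4, by omega⟩
    obtain ⟨s₂, rfl⟩ : ∃ s, t₂ = s + 4 := ⟨t₂ - 4, by omega⟩
    constructor <;> nlinarith [Nat.zero_le (s₁ * s₂)]
  have huv' : k * k + 2 * k + 2 = t₁ * t₂ + t₁ + t₂ + 1 := by nlinarith [huv]
  have hkk : 49 ≤ k * k := by nlinarith
  have key : a₁ = 1 ∧ a₂ = 1 := by
    rcases ha₁ with rfl | rfl | rfl <;> rcases ha₂ with rfl | rfl | rfl
    · exact ⟨rfl, rfl⟩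
    all_goals exfalso; nlinarith [e4, huv', hprod.2, hkk]
  obtain ⟨rfl, rfl⟩ := key
  refine ⟨rfl, rfl, rfl, ?_⟩
  nlinarith [e4, huv']

theorem arith_solve (Q s u₁ u₂ : ℕ) (hs : s ^ 2 = 2 * Q) (hsum : u₁ + u₂ = 2 * Q + 2)
    (hprod : u₁ * u₂ = Q ^ 2 + 1) :
    (u₁ = Q + s + 1 ∧ u₂ = Q - s + 1) ∨ (u₁ = Q - s + 1 ∧ u₂ = Q + s + 1) := by
  have hsQ : s ≤ Q := by
    by_contra h
    push Not at h
    have : Q * Q < s * s := Nat.mul_self_lt_mul_self h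
    have h2 : s ^ 2 = s * s := sq s
    have hQ2 : Q ≤ 2 := by
      by_contra h3
      push Not at h3
      nlinarith
    interval_cases Q
    · have : s = 0 := by nlinarith
      omega
    · have : s < 2 := by nlinarith
      interval_cases s
    · have : s = 2 := by nlinarith
      omega
  have hz : ((u₁ : ℤ) - u₂ - 2 * s) * ((u₁ : ℤ) - u₂ + 2 * s) = 0 := by
    have h1 : (u₁ : ℤ) + u₂ = 2 * Q + 2 := by exact_mod_cast hsum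
    have h2 : (u₁ : ℤ) * u₂ = Q ^ 2 + 1 := by exact_mod_cast hprod
    have h3 : (s : ℤ) ^ 2 = 2 * Q := by exact_mod_cast hs
    have : ((u₁ : ℤ) - u₂) ^ 2 = 4 * (s : ℤ) ^ 2 := by
      have : ((u₁ : ℤ) - u₂) ^ 2 = ((u₁ : ℤ) + u₂) ^ 2 - 4 * ((u₁ : ℤ) * u₂) := by ring
      rw [this, h1, h2, h3]
      ring
    linear_combination this
  rcases mul_eq_zero.mp hz with h | h
  · left
    omega
  · right
    omega

end Cfsg.Agent.Helper11.SzTorArith
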