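import Mathlib
import Cfsg.Agent.Helper2.SzSimple
import Cfsg.Agent.Helper11.SzMax

/-! Automorphisms of the Suzuki group, part A: automorphisms induced by ring endomorphisms of the field. -/

set_option autoImplicit false
set_option linter.unusedSectionVars false
set_option linter.unusedVariables false

namespace Cfsg.Agent.Helper11.SzAut

open Matrix Cfsg.Agent.Helper2.SzO

variable {F : Type*} [Field F] [Fintype F] {m : ℕ}

/-- the map induced on `SL₄` by a ring endomorphism -/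
noncomputable def mapSL (φ : F →+* F) : SpecialLinearGroup (Fin 4) F →* SpecialLinearGroup (Fin 4) F :=
  SpecialLinearGroup.map φ

theorem mapSL_coe (φ : F →+* F) (g : SpecialLinearGroup (Fin 4) F) (i j : Fin 4) :
    (mapSL φ g).1 i j = φ (g.1 i j) := rfl

theorem mapSL_injective (φ : F →+* F) : Function.Injective (mapSL φ) := by
  intro g h e
  apply Subtype.ext
  ext i j
  have := congrFun (congrFun (congrArg Subtype.val e) i) j
  rw [mapSL_coe, mapSL_coe] at this
  exact φ.injective this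

theorem mapSL_T (φ : F →+* F) (a b : F) : mapSL φ (T m a b) = T m (φ a) (φ b) := by
  apply Subtype.ext
  ext i j
  rw [mapSL_coe]
  fin_cases i <;> fin_cases j <;> simp [T, Tm, f]

theorem mapSL_W (φ : F →+* F) : mapSL φ (W : SpecialLinearGroup (Fin 4) F) = W := by
  apply Subtype.ext
  ext i j
  rw [mapSL_coe]
  fin_cases i <;> fin_cases j <;> simp [W, Wm]

theorem mapSL_D (φ : F →+* F) (k : Fˣ) : mapSL φ (D m k) = D m (Units.map φ.toMonoidHom k) := by
  apply Subtype.ext
  ext i j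
  rw [mapSL_coe]
  fin_cases i <;> fin_cases j <;> simp [D, dvec, Matrix.diagonal]

theorem mapSL_mem (hF : Fintype.card F = 2 ^ (2 * m + 1)) (hm : 1 ≤ m) (φ : F →+* F)
    {g : SpecialLinearGroup (Fin 4) F} (hg : g ∈ Cfsg.Sz F m) : mapSL φ g ∈ Cfsg.Sz F m := by
  rcases decomp hF hm hg with ⟨a, b, k, rfl⟩ | ⟨a, b, a', b', k, rfl⟩
  · rw [map_mul, mapSL_T, mapSL_D]
    exact Subgroup.mul_mem _ (T_mem hF _ _) (D_mem hF _)
  · rw [map_mul, map_mul, map_mul, mapSL_T, mapSL_T, mapSL_D, mapSL_W]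
    exact Subgroup.mul_mem _ (Subgroup.mul_mem _ (T_mem hF _ _) (W_mem hF))
      (Subgroup.mul_mem _ (T_mem hF _ _) (D_mem hF _))

/-- the endomorphism of the Suzuki group induced by a ring endomorphism of the field -/
noncomputable def PhiHom (hF : Fintype.card F = 2 ^ (2 * m + 1)) (hm : 1 ≤ m) (φ : F →+* F) :
    ↥(Cfsg.Sz F m) →* ↥(Cfsg.Sz F m) where
  toFun g := ⟨mapSL φ g.1, mapSL_mem hF hm φ g.2⟩
  map_one' := Subtype.ext (map_one _)
  map_mul' x y := Subtype.ext (map_mul _ _ _)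

theorem PhiHom_injective (hF : Fintype.card F = 2 ^ (2 * m + 1)) (hm : 1 ≤ m) (φ : F →+* F) :
    Function.Injective (PhiHom hF hm φ) := by
  intro x y h
  apply Subtype.ext
  exact mapSL_injective φ (congrArg Subtype.val h)

/-- the automorphism of the Suzuki group induced by a ring endomorphism of the field -/
noncomputable def PhiAut (hF : Fintype.card F = 2 ^ (2 * m + 1)) (hm : 1 ≤ m) (φ : F →+* F) :
    MulAut ↥(Cfsg.Sz F m) :=
  MulEquiv.ofBijective (PhiHom hF hm φ)
    ⟨PhiHom_injective hF hm φ, Finite.injective_iff_surjective.mp (PhiHom_injective hF hm φ)⟩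

theorem PhiAut_Tz (hF : Fintype.card F = 2 ^ (2 * m + 1)) (hm : 1 ≤ m) (φ : F →+* F) (a b : F) :
    PhiAut hF hm φ (Tz hF a b) = Tz hF (φ a) (φ b) :=
  Subtype.ext (mapSL_T φ a b)

theorem PhiAut_Wz (hF : Fintype.card F = 2 ^ (2 * m + 1)) (hm : 1 ≤ m) (φ : F →+* F) :
    PhiAut hF hm φ (Wz hF) = Wz hF :=
  Subtype.ext (mapSL_W φ)

theorem PhiAut_Dz (hF : Fintype.card F = 2 ^ (2 * m + 1)) (hm : 1 ≤ m) (φ : F →+* F) (k : Fˣ) :
    PhiAut hF hm φ (Dz hF k) = Dz hF (Units.map φ.toMonoidHom k) :=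
  Subtype.ext (mapSL_D φ k)

end Cfsg.Agent.Helper11.SzAut
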