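import Mathlib

set_option autoImplicit false

namespace Cfsg.Agent.Helper11.SubfieldTwo

variable {F : Type*} [Field F] [Fintype F]

/-- (F3) A finite field of order `2 ^ N` has a subfield of order `2 ^ n` for every `n ∣ N`,
`n ≠ 0`. -/
theorem exists_subfield (N n : ℕ) (hF : Fintype.card F = 2 ^ N) (hn : n ≠ 0) (hdvd : n ∣ N) :
    ∃ K : Subfield F, Nat.card K = 2 ^ n := by
  have : Fact (Nat.Prime 2) := ⟨Nat.prime_two⟩
  have hchar : CharP F 2 := by
    obtain ⟨p, hp⟩ := CharP.exists F
    have hpp : p.Prime := (CharP.char_is_prime_or_zero F p).resolve_right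
      (fun h0 => by
        subst h0
        have := CharP.charP_to_charZero F
        exact absurd (inferInstance : Finite F) (not_finite_iff_infinite.mpr inferInstance))
    have : Fact p.Prime := ⟨hpp⟩
    have h1 : p ∣ Fintype.card F := by
      obtain ⟨k, hk⟩ := FiniteField.card F p
      rw [hk.2]; exact dvd_pow_self p k.ne_zero
    rw [hF] at h1
    have := (Nat.prime_dvd_prime_iff_eq hpp Nat.prime_two).mp (hpp.dvd_of_dvd_pow h1)
    subst this; exact hp
  letI : Algebra (ZMod 2) F := ZMod.algebra F 2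
  have hfinF : Module.finrank (ZMod 2) F = N := by
    have h1 := FiniteField.pow_finrank_eq_card 2 F
    rw [hF] at h1
    exact Nat.pow_right_injective (le_refl 2) h1
  have hfinK : Module.finrank (ZMod 2) (GaloisField 2 n) = n := GaloisField.finrank 2 hn
  obtain ⟨f⟩ := FiniteField.nonempty_algHom_of_finrank_dvd (F := ZMod 2) (K := GaloisField 2 n)
    (L := F) (by rw [hfinF, hfinK]; exact hdvd)
  refine ⟨f.toRingHom.fieldRange, ?_⟩
  rw [← GaloisField.card 2 n hn]
  exact (Nat.card_congr (RingHom.rangeRestrictFieldEquiv f.toRingHom).toEquiv).symm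


/-- (F2) The order of a subfield: if `|K| = 2 ^ n` and `|F| = 2 ^ N` then `n ∣ N`. -/
theorem dvd_of_subfield (N n : ℕ) (hF : Fintype.card F = 2 ^ N) (K : Subfield F)
    (hK : Nat.card K = 2 ^ n) : n ∣ N := by
  classical
  letI : Fintype K := Fintype.ofFinite K
  have h1 := Module.card_eq_pow_finrank (K := K) (V := F)
  rw [hF, ← Nat.card_eq_fintype_card, hK, ← pow_mul] at h1
  have := Nat.pow_right_injective (le_refl 2) h1
  exact ⟨_, this⟩

/-- (F1) An additive subgroup `A` with a nonzero element such that `λ A ∩ A ≠ 0 → λ A ⊆ A` for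
all units `λ` is a scalar multiple of a subfield. -/
theorem exists_subfield_of_ti (A : AddSubgroup F) (a0 : F) (ha0 : a0 ∈ A)
    (hne : a0 ≠ 0)
    (hti : ∀ l : F, l ≠ 0 → (∃ c ∈ A, c ≠ 0 ∧ l * c ∈ A) → ∀ c ∈ A, l * c ∈ A) :
    ∃ K : Subfield F, Nat.card K = Nat.card A := by
  -- `K = {l | l * a0 ∈ A}`
  have hmulA : ∀ l : F, l * a0 ∈ A → ∀ c ∈ A, l * c ∈ A := by
    intro l hl c hc
    by_cases h0 : l = 0
    · subst h0; simp [A.zero_mem]
    · exact hti l h0 ⟨a0, ha0, hne, hl⟩ c hc
  have hinvA : ∀ l : F, l ≠ 0 → l * a0 ∈ A → l⁻¹ * a0 ∈ A := by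
    intro l h0 hl
    -- multiplication by `l` is an injective self-map of the finite set `A`, hence surjective
    let φ : A → A := fun c => ⟨l * c, hmulA l hl c c.2⟩
    have hinj : Function.Injective φ := by
      intro c d hcd
      have := congrArg Subtype.val hcd
      exact Subtype.ext (mul_left_cancel₀ h0 this)
    have hsurj := Finite.surjective_of_injective hinj
    obtain ⟨c, hc⟩ := hsurj ⟨a0, ha0⟩
    have hc' : l * (c : F) = a0 := congrArg Subtype.val hc
    have : l⁻¹ * a0 = c := by rw [← hc', inv_mul_cancel_left₀ h0]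
    rw [this]; exact c.2
  let K : Subfield F :=
    { carrier := {l | l * a0 ∈ A}
      mul_mem' := by
        intro x y hx hy
        show x * y * a0 ∈ A
        rw [mul_assoc]
        exact hmulA x hx _ hy
      one_mem' := by show (1 : F) * a0 ∈ A; rw [one_mul]; exact ha0
      add_mem' := by
        intro x y hx hy
        show (x + y) * a0 ∈ A
        rw [add_mul]; exact A.add_mem hx hy
      zero_mem' := by show (0 : F) * a0 ∈ A; rw [zero_mul]; exact A.zero_mem
      neg_mem' := by
        intro x hx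
        show -x * a0 ∈ A
        rw [neg_mul]; exact A.neg_mem hx
      inv_mem' := by
        intro x hx
        show x⁻¹ * a0 ∈ A
        by_cases h0 : x = 0
        · subst h0; rw [inv_zero, zero_mul]; exact A.zero_mem
        · exact hinvA x h0 hx }
  refine ⟨K, ?_⟩
  apply Nat.card_congr
  refine
    { toFun := fun l => ⟨l.1 * a0, l.2⟩
      invFun := fun c => ⟨c.1 * a0⁻¹, by
        show c.1 * a0⁻¹ * a0 ∈ A
        rw [inv_mul_cancel_right₀ hne]; exact c.2⟩
      left_inv := fun l => by apply Subtype.ext; simp [hne]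
      right_inv := fun c => by apply Subtype.ext; simp [hne] }

end Cfsg.Agent.Helper11.SubfieldTwo
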