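import Mathlib
import Cfsg.Agent.Helper2.SzSylow2
import Cfsg.Agent.Helper11.SzMax
import Cfsg.Agent.Helper11.SubfieldTwo
import Cfsg.Prelude.Def_Transfer

set_option autoImplicit false

namespace Cfsg.Agent.Helper11.SzTI

open Cfsg.Agent.Helper2.SzO Cfsg.Agent.Helper11.SzMax
open scoped Pointwise

variable {F : Type*} [Field F] [Fintype F] {m : ℕ}

/-- The subgroup `{T(0,c) | c ∈ A}` for an additive subgroup `A`. -/
def EA (hF : Fintype.card F = 2 ^ (2 * m + 1)) (A : AddSubgroup F) : Subgroup (Cfsg.Sz F m) where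
  carrier := {g | ∃ c ∈ A, g = Tz hF 0 c}
  one_mem' := ⟨0, A.zero_mem, (Tz_one hF).symm⟩
  mul_mem' := by
    rintro _ _ ⟨c, hc, rfl⟩ ⟨d, hd, rfl⟩
    exact ⟨c + d, A.add_mem hc hd, Tz_zero_mul hF c d⟩
  inv_mem' := by
    rintro _ ⟨c, hc, rfl⟩
    refine ⟨c, hc, ?_⟩
    rw [Tz_inv]
    congr 1
    simp [sg_ne_zero]

theorem mem_EA (hF : Fintype.card F = 2 ^ (2 * m + 1)) (A : AddSubgroup F) (g : Cfsg.Sz F m) :
    g ∈ EA hF A ↔ ∃ c ∈ A, g = Tz hF 0 c := Iff.rfl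

theorem Tz_mem_EA (hF : Fintype.card F = 2 ^ (2 * m + 1)) (A : AddSubgroup F) (c : F) :
    Tz hF 0 c ∈ EA hF A ↔ c ∈ A := by
  constructor
  · rintro ⟨d, hd, h⟩
    rw [(Tz_injective hF h).2]; exact hd
  · intro h; exact ⟨c, h, rfl⟩

theorem card_EA (hF : Fintype.card F = 2 ^ (2 * m + 1)) (A : AddSubgroup F) :
    Nat.card (EA hF A) = Nat.card A := by
  apply Nat.card_congr
  symm
  refine Equiv.ofBijective (fun c => ⟨Tz hF 0 c.1, c.1, c.2, rfl⟩) ⟨?_, ?_⟩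
  · intro c d h
    have := congrArg Subtype.val h
    exact Subtype.ext (Tz_injective hF this).2
  · rintro ⟨_, c, hc, rfl⟩
    exact ⟨⟨c, hc⟩, rfl⟩

theorem isElementaryAbelian_EA (hF : Fintype.card F = 2 ^ (2 * m + 1)) (A : AddSubgroup F) :
    Cfsg.IsElementaryAbelian 2 (EA hF A) := by
  constructor
  · refine ⟨⟨?_⟩⟩
    rintro ⟨_, c, hc, rfl⟩ ⟨_, d, hd, rfl⟩
    apply Subtype.ext
    show Tz hF 0 c * Tz hF 0 d = Tz hF 0 d * Tz hF 0 c
    rw [Tz_zero_mul, Tz_zero_mul, add_comm]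
  · rintro _ ⟨c, hc, rfl⟩
    rw [pow_two]; exact Tz_zero_mul_self hF c

/-- Conjugating a central translation by an element fixing `∞`. -/
theorem conj_central (hF : Fintype.card F = 2 ^ (2 * m + 1)) (a b : F) (k : Fˣ) (c : F) :
    (Tz hF a b * Dz hF k) * Tz hF 0 c * (Tz hF a b * Dz hF k)⁻¹ =
      Tz hF 0 ((k : F) ^ (sg m + 1) * c) := by
  have h2 := two_eq_zero hF
  have e : (Tz hF a b * Dz hF k) * Tz hF 0 c * (Tz hF a b * Dz hF k)⁻¹ =
      Tz hF a b * (Dz hF k * Tz hF 0 c * (Dz hF k)⁻¹) * (Tz hF a b)⁻¹ := by group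
  rw [e, Dz_mul_Tz, Tz_inv, Tz_mul, Tz_mul]
  have hs : sg m ≠ 0 := sg_ne_zero
  congr 1
  · linear_combination a * h2
  · simp only [mul_zero, add_zero, zero_pow hs]
    linear_combination (b + a ^ sg m * a) * h2

/-- If `x` conjugates a non-identity translation to a translation, then `x` fixes `∞`. -/
theorem fix_inf_of_conj (hF : Fintype.card F = 2 ^ (2 * m + 1)) (x : Cfsg.Sz F m) (a b a' b' : F)
    (hne : ¬ (a = 0 ∧ b = 0)) (h : x * Tz hF a b * x⁻¹ = Tz hF a' b') :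
    x • (infO : Cfsg.suzukiOvoid F m) = infO := by
  have hfix : Tz hF a' b' • (x • (infO : Cfsg.suzukiOvoid F m)) = x • infO := by
    rw [← h, mul_smul, mul_smul, inv_smul_smul, Tz_smul_infO]
  rcases ovoid_cases (x • (infO : Cfsg.suzukiOvoid F m)) with h1 | ⟨u, v, h1⟩
  · exact h1
  · exfalso
    rw [h1] at hfix
    obtain ⟨rfl, rfl⟩ := Tz_fix_affine hF hfix
    rw [Tz_one] at h
    have : Tz hF a b = 1 := by
      have := congrArg (fun z => x⁻¹ * z * x) h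
      simpa [mul_assoc] using this
    rw [← Tz_one hF] at this
    exact hne (Tz_injective hF this)

/-- A finite-subgroup criterion for membership in the normalizer. -/
theorem mem_normalizer_of_conj_mem {G : Type*} [Group G] (E : Subgroup G) [Finite E] (x : G)
    (h : ∀ g ∈ E, x * g * x⁻¹ ∈ E) : x ∈ Subgroup.normalizer (E : Set G) := by
  rw [Subgroup.mem_normalizer_iff]
  intro g
  refine ⟨h g, fun hg => ?_⟩
  let φ : E → E := fun e => ⟨x * e * x⁻¹, h e e.2⟩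
  have hinj : Function.Injective φ := by
    intro e e' hee
    have := congrArg Subtype.val hee
    apply Subtype.ext
    have h1 : x * (e : G) * x⁻¹ = x * (e' : G) * x⁻¹ := this
    exact mul_left_cancel (mul_right_cancel h1)
  obtain ⟨e, he⟩ := Finite.surjective_of_injective hinj ⟨x * g * x⁻¹, hg⟩
  have h1 : x * (e : G) * x⁻¹ = x * g * x⁻¹ := congrArg Subtype.val he
  have : (e : G) = g := mul_left_cancel (mul_right_cancel h1)
  rw [← this]; exact e.2


/-- (⇐) The subgroup attached to a subfield is a TI-subgroup. -/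
theorem ti_of_subfield (hF : Fintype.card F = 2 ^ (2 * m + 1)) (hm : 1 ≤ m) (K : Subfield F)
    (x : Cfsg.Sz F m)
    (hx : EA hF K.toAddSubgroup ⊓ (EA hF K.toAddSubgroup).map (MulAut.conj x).toMonoidHom ≠ ⊥) :
    x ∈ Subgroup.normalizer ((EA hF K.toAddSubgroup : Subgroup (Cfsg.Sz F m)) : Set (Cfsg.Sz F m)) := by
  rw [Subgroup.ne_bot_iff_exists_ne_one] at hx
  obtain ⟨⟨e, he1, he2⟩, hne⟩ := hx
  have hne' : e ≠ 1 := fun h => hne (Subtype.ext h)
  obtain ⟨c, hc, rfl⟩ := he1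
  obtain ⟨e', ⟨c', hc', rfl⟩, hconj⟩ := he2
  have hconj' : x * Tz hF 0 c' * x⁻¹ = Tz hF 0 c := hconj
  have hc0 : c ≠ 0 := by
    rintro rfl
    exact hne' (Tz_one hF)
  have hc'0 : c' ≠ 0 := by
    rintro rfl
    rw [Tz_one, mul_one, mul_inv_cancel] at hconj'
    exact hne' hconj'.symm
  have hfix := fix_inf_of_conj hF x 0 c' 0 c (fun h => hc'0 h.2) hconj'
  obtain ⟨xv, hxm⟩ := x
  have hfix' : xv • (infP : Projectivization F (Fin 4 → F)) = infP := congrArg Subtype.val hfix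
  obtain ⟨a, b, k, hk⟩ := decomp_fix_inf hF hm hxm hfix'
  have e : (⟨xv, hxm⟩ : Cfsg.Sz F m) = Tz hF a b * Dz hF k := Subtype.ext hk
  rw [e] at hconj' ⊢
  rw [conj_central] at hconj'
  have hl : (k : F) ^ (sg m + 1) * c' = c := (Tz_injective hF hconj').2
  have hlK : (k : F) ^ (sg m + 1) ∈ K := by
    have : (k : F) ^ (sg m + 1) = c * c'⁻¹ := by
      rw [← hl, mul_inv_cancel_right₀ hc'0]
    rw [this]
    exact K.mul_mem hc (K.inv_mem hc')
  haveI : Finite (EA hF K.toAddSubgroup) := Finite.of_injective _ Subtype.val_injective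
  apply mem_normalizer_of_conj_mem
  rintro _ ⟨d, hd, rfl⟩
  rw [conj_central]
  exact ⟨_, K.mul_mem hlK hd, rfl⟩

/-- (⇒) An elementary abelian TI-subgroup of order `2 ^ n` (`n ≥ 1`) forces `n ∣ 2m+1`. -/
theorem dvd_of_ti (hF : Fintype.card F = 2 ^ (2 * m + 1)) (hm : 1 ≤ m) (n : ℕ) (hn : 1 ≤ n)
    (E : Subgroup (Cfsg.Sz F m)) (hE : Cfsg.IsElementaryAbelian 2 E) (hcard : Nat.card E = 2 ^ n)
    (hTI : ∀ x : Cfsg.Sz F m, E ⊓ E.map (MulAut.conj x).toMonoidHom ≠ ⊥ →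
      x ∈ Subgroup.normalizer (E : Set (Cfsg.Sz F m))) : n ∣ 2 * m + 1 := by
  have : Fact (Nat.Prime 2) := ⟨Nat.prime_two⟩
  have h2 := two_eq_zero hF
  have hs : sg m ≠ 0 := sg_ne_zero
  have hpE : IsPGroup 2 E := IsPGroup.of_card hcard
  obtain ⟨P, hEP⟩ := hpE.exists_le_sylow
  obtain ⟨h, hh⟩ := MulAction.exists_smul_eq (Cfsg.Sz F m) (QSylow hF hm) P
  have hP : (P : Subgroup (Cfsg.Sz F m)) = MulAut.conj h • Qz hF := by
    rw [← hh, Sylow.coe_subgroup_smul, QSylow_coe]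
  -- every element of `E` is `h T(0,c) h⁻¹`
  have hform : ∀ e ∈ E, ∃ c : F, e = h * Tz hF 0 c * h⁻¹ := by
    intro e he
    have he' := hEP he
    rw [hP] at he'
    obtain ⟨t, ⟨a, b, rfl⟩, rfl⟩ := he'
    have hsq := hE.2 _ he
    have hsq' : (h * Tz hF a b * h⁻¹) ^ 2 = 1 := hsq
    have : (Tz hF a b) ^ 2 = 1 := by
      have e1 : (h * Tz hF a b * h⁻¹) ^ 2 = h * (Tz hF a b) ^ 2 * h⁻¹ := by
        rw [pow_two, pow_two]; group
      rw [e1] at hsq'
      have := congrArg (fun z => h⁻¹ * z * h) hsq'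
      simpa [mul_assoc] using this
    rw [pow_two, Tz_mul, ← Tz_one hF] at this
    have ha : a + a = 0 ∧ b + b + a ^ sg m * a = 0 := Tz_injective hF this
    have ha0 : a = 0 := by
      have h3 : a ^ sg m * a = 0 := by linear_combination ha.2 - b * h2
      rcases mul_eq_zero.mp h3 with h4 | h4
      · exact pow_eq_zero_iff hs |>.mp h4
      · exact h4
    subst ha0
    exact ⟨b, rfl⟩
  let A : AddSubgroup F :=
    { carrier := {c | h * Tz hF 0 c * h⁻¹ ∈ E}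
      zero_mem' := by
        show h * Tz hF 0 0 * h⁻¹ ∈ E
        rw [Tz_one, mul_one, mul_inv_cancel]; exact E.one_mem
      add_mem' := by
        intro c d hc hd
        show h * Tz hF 0 (c + d) * h⁻¹ ∈ E
        have : h * Tz hF 0 (c + d) * h⁻¹ = (h * Tz hF 0 c * h⁻¹) * (h * Tz hF 0 d * h⁻¹) := by
          rw [← Tz_zero_mul]; group
        rw [this]; exact E.mul_mem hc hd
      neg_mem' := by
        intro c hc
        show h * Tz hF 0 (-c) * h⁻¹ ∈ E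
        have : -c = c := by linear_combination (-c) * h2
        rw [this]; exact hc }
  have hA : ∀ c : F, c ∈ A ↔ h * Tz hF 0 c * h⁻¹ ∈ E := fun c => Iff.rfl
  have hcardA : Nat.card A = 2 ^ n := by
    rw [← hcard]
    apply Nat.card_congr
    refine Equiv.ofBijective (fun c => ⟨h * Tz hF 0 c.1 * h⁻¹, c.2⟩) ⟨?_, ?_⟩
    · intro c d hcd
      have h1 : h * Tz hF 0 c.1 * h⁻¹ = h * Tz hF 0 d.1 * h⁻¹ := congrArg Subtype.val hcd
      have h3 := mul_left_cancel (mul_right_cancel h1)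
      exact Subtype.ext (Tz_injective hF h3).2
    · rintro ⟨e, he⟩
      obtain ⟨c, rfl⟩ := hform e he
      exact ⟨⟨c, he⟩, rfl⟩
  -- the TI property for `A`
  have hti : ∀ l : F, l ≠ 0 → (∃ c ∈ A, c ≠ 0 ∧ l * c ∈ A) → ∀ c ∈ A, l * c ∈ A := by
    intro l hl ⟨c, hc, hc0, hlc⟩ d hd
    obtain ⟨k, hk⟩ := exists_pow_sg_succ hF (Units.mk0 l hl)
    have hk' : (k : F) ^ (sg m + 1) = l := by
      have := congrArg Units.val hk
      simpa using this
    set x := h * Dz hF k * h⁻¹ with hx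
    have hconj : ∀ c : F, x * (h * Tz hF 0 c * h⁻¹) * x⁻¹ = h * Tz hF 0 (l * c) * h⁻¹ := by
      intro c
      have e1 : x * (h * Tz hF 0 c * h⁻¹) * x⁻¹ =
          h * (Dz hF k * Tz hF 0 c * (Dz hF k)⁻¹) * h⁻¹ := by rw [hx]; group
      rw [e1, Dz_mul_Tz, hk', mul_zero]
    have hxN : x ∈ Subgroup.normalizer (E : Set (Cfsg.Sz F m)) := by
      apply hTI
      rw [Subgroup.ne_bot_iff_exists_ne_one]
      refine ⟨⟨h * Tz hF 0 (l * c) * h⁻¹, (hA _).mp hlc, ⟨h * Tz hF 0 c * h⁻¹, (hA _).mp hc, ?_⟩⟩, ?_⟩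
      · exact hconj c
      · intro h1
        have h3 : h * Tz hF 0 (l * c) * h⁻¹ = 1 := congrArg Subtype.val h1
        have h4 : Tz hF 0 (l * c) = 1 := by
          have := congrArg (fun z => h⁻¹ * z * h) h3
          simpa [mul_assoc] using this
        rw [← Tz_one hF] at h4
        exact mul_ne_zero hl hc0 (Tz_injective hF h4).2
    rw [hA, ← hconj d]
    exact (Subgroup.mem_normalizer_iff.mp hxN _).mp ((hA d).mp hd)
  -- a nonzero element of `A`
  have hAne : A ≠ ⊥ := by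
    intro h0
    rw [h0, AddSubgroup.card_bot] at hcardA
    have : 2 ≤ 2 ^ n := by
      calc 2 = 2 ^ 1 := by norm_num
        _ ≤ 2 ^ n := Nat.pow_le_pow_right (by norm_num) hn
    omega
  obtain ⟨a0, ha0, hne0⟩ := (AddSubgroup.ne_bot_iff_exists_ne_zero).mp hAne |>.imp
    (fun a ha => ha) |> fun ⟨a, ha⟩ => (⟨a.1, a.2, fun h0 => ha (Subtype.ext h0)⟩ :
      ∃ a0 : F, a0 ∈ A ∧ a0 ≠ 0)
  obtain ⟨K, hK⟩ := SubfieldTwo.exists_subfield_of_ti A a0 ha0 hne0 hti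
  rw [hcardA] at hK
  exact SubfieldTwo.dvd_of_subfield (2 * m + 1) n hF K hK

/-- Elementary abelian TI-subgroups of order `2 ^ n` exist iff `n ∣ 2m+1`. -/
theorem exists_ti_iff (hF : Fintype.card F = 2 ^ (2 * m + 1)) (hm : 1 ≤ m) (n : ℕ) (hn : 2 ≤ n) :
    (∃ E : Subgroup (Cfsg.Sz F m), Cfsg.IsElementaryAbelian 2 E ∧ Nat.card E = 2 ^ n ∧
      ∀ x : Cfsg.Sz F m, E ⊓ E.map (MulAut.conj x).toMonoidHom ≠ ⊥ →
        x ∈ Subgroup.normalizer (E : Set (Cfsg.Sz F m))) ↔ n ∣ 2 * m + 1 := by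
  constructor
  · rintro ⟨E, hE, hcard, hTI⟩
    exact dvd_of_ti hF hm n (by omega) E hE hcard hTI
  · intro hdvd
    obtain ⟨K, hK⟩ := SubfieldTwo.exists_subfield (F := F) (2 * m + 1) n hF (by omega) hdvd
    refine ⟨EA hF K.toAddSubgroup, isElementaryAbelian_EA hF _, ?_, ti_of_subfield hF hm K⟩
    rw [card_EA]
    exact hK

end Cfsg.Agent.Helper11.SzTI
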