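import Mathlib
import Cfsg.Agent.Helper11.SzAutA
import Cfsg.Agent.Helper11.SzTI

/-! Automorphisms of the Suzuki group, part B: normalising an automorphism by inner automorphisms. -/

set_option autoImplicit false
set_option linter.unusedSectionVars false
set_option linter.unusedVariables false

namespace Cfsg.Agent.Helper11.SzAut

open Matrix Cfsg.Agent.Helper2.SzO

variable {F : Type*} [Field F] [Fintype F] {m : ℕ}

theorem Tz_split (hF : Fintype.card F = 2 ^ (2 * m + 1)) (a b : F) :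
    Tz hF a b = Tz hF a 0 * Tz hF 0 b := by
  rw [Tz_mul]
  congr 1 <;> ring

theorem Tz_sq (hF : Fintype.card F = 2 ^ (2 * m + 1)) (a b : F) :
    Tz hF a b * Tz hF a b = Tz hF 0 (a ^ sg m * a) := by
  have h2 := two_eq_zero hF
  rw [Tz_mul]
  congr 1
  · linear_combination a * h2
  · linear_combination b * h2

theorem exists_pow (hF : Fintype.card F = 2 ^ (2 * m + 1)) (c : F) : ∃ e : F, e ^ sg m * e = c := by
  by_cases hc : c = 0
  · exact ⟨0, by rw [hc, mul_zero]⟩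
  · obtain ⟨k, hk⟩ := exists_pow_sg_succ hF (Units.mk0 c hc)
    refine ⟨(k : F), ?_⟩
    have := congrArg Units.val hk
    rw [Units.val_pow_eq_pow_val, Units.val_mk0, pow_succ] at this
    exact this

theorem Wz_smul_zero (hF : Fintype.card F = 2 ^ (2 * m + 1)) :
    Wz hF • (ptO 0 0 : Cfsg.suzukiOvoid F m) = infO := by
  rw [← Wz_smul_infO hF, ← mul_smul, Wz_mul_Wz, one_smul]

theorem Tz_smul_zero (hF : Fintype.card F = 2 ^ (2 * m + 1)) (x y : F) :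
    Tz hF x y • (ptO 0 0 : Cfsg.suzukiOvoid F m) = ptO x y := by
  rw [Tz_smul_ptO]
  congr 1 <;> ring

/-- the two-point stabiliser is the torus -/
theorem eq_Dz_of_fix (hF : Fintype.card F = 2 ^ (2 * m + 1)) (hm : 1 ≤ m) (g : Cfsg.Sz F m)
    (h1 : g • (infO : Cfsg.suzukiOvoid F m) = infO)
    (h2 : g • (ptO 0 0 : Cfsg.suzukiOvoid F m) = ptO 0 0) : ∃ k : Fˣ, g = Dz hF k := by
  have h1' := congrArg Subtype.val h1
  have h2' := congrArg Subtype.val h2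
  rw [smul_val] at h1' h2'
  obtain ⟨k, hk⟩ := eq_D_of_fix hF hm g.2 h1' h2'
  exact ⟨k, Subtype.ext hk⟩

/-- elements fixing `∞` normalise `Q` -/
theorem conj_mem_Qz (hF : Fintype.card F = 2 ^ (2 * m + 1)) (hm : 1 ≤ m) (n : Cfsg.Sz F m)
    (hn : n • (infO : Cfsg.suzukiOvoid F m) = infO) (a b : F) :
    ∃ a' b', n * Tz hF a b * n⁻¹ = Tz hF a' b' := by
  have hmem : n ∈ Subgroup.normalizer ((Qz hF : Subgroup (Cfsg.Sz F m)) : Set (Cfsg.Sz F m)) := by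
    rw [Cfsg.Agent.Helper11.SzMax.normalizer_Qz hF hm, MulAction.mem_stabilizer_iff]
    exact hn
  rw [Subgroup.mem_normalizer_iff] at hmem
  obtain ⟨a', b', h⟩ := (hmem (Tz hF a b)).mp (Tz_mem_Qz hF a b)
  exact ⟨a', b', h⟩

theorem Dz_mul_Wz (hF : Fintype.card F = 2 ^ (2 * m + 1)) (k : Fˣ) :
    Dz hF k * Wz hF = Wz hF * Dz hF k⁻¹ := by
  have hWD : Wz hF * Dz hF k * Wz hF = Dz hF k⁻¹ := Subtype.ext (W_mul_D_mul_W k)
  rw [← hWD, ← mul_assoc, ← mul_assoc, Wz_mul_Wz, one_mul]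

theorem Dz_inv (hF : Fintype.card F = 2 ^ (2 * m + 1)) (k : Fˣ) :
    (Dz hF k)⁻¹ = Dz hF k⁻¹ := by
  apply inv_eq_of_mul_eq_one_left
  apply Subtype.ext
  show D m k⁻¹ * D m k = 1
  rw [← D_mul, inv_mul_cancel, D_one]

/-- an automorphism is normalised if it maps `Q` into `Q` and `Q^W` into `Q^W` -/
structure Norm (hF : Fintype.card F = 2 ^ (2 * m + 1)) (α : MulAut ↥(Cfsg.Sz F m)) : Prop where
  hQ : ∀ a b : F, ∃ a' b' : F, α (Tz hF a b) = Tz hF a' b'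
  hQ0 : ∀ a b : F, ∃ a' b' : F, α (Wz hF * Tz hF a b * Wz hF) = Wz hF * Tz hF a' b' * Wz hF

/-- an automorphism mapping `Q` into `Q` maps `Q` onto `Q` -/
theorem surj_on_Q (hF : Fintype.card F = 2 ^ (2 * m + 1)) (α : MulAut ↥(Cfsg.Sz F m))
    (h : ∀ a b : F, ∃ a' b' : F, α (Tz hF a b) = Tz hF a' b') (a' b' : F) :
    ∃ a b : F, α (Tz hF a b) = Tz hF a' b' := by
  let φ : Qz (m := m) hF → Qz (m := m) hF := fun x => ⟨α x.1, by
    obtain ⟨a, b, hx⟩ := x.2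
    obtain ⟨a', b', h'⟩ := h a b
    rw [hx, h']
    exact Tz_mem_Qz hF a' b'⟩
  have hinj : Function.Injective φ := by
    intro x y hxy
    have := congrArg Subtype.val hxy
    exact Subtype.ext (α.injective this)
  obtain ⟨⟨x, a, b, rfl⟩, hx⟩ := Finite.surjective_of_injective hinj ⟨Tz hF a' b', Tz_mem_Qz hF a' b'⟩
  exact ⟨a, b, congrArg Subtype.val hx⟩

theorem one_ne_zero_pair : ¬ ((1 : F) = 0 ∧ (0 : F) = 0) := fun h => one_ne_zero h.1

/-- every automorphism can be normalised by an inner automorphism -/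
theorem exists_norm (hF : Fintype.card F = 2 ^ (2 * m + 1)) (hm : 1 ≤ m)
    (α : MulAut ↥(Cfsg.Sz F m)) : ∃ g : ↥(Cfsg.Sz F m), Norm hF (MulAut.conj g * α) := by
  have : Fact (Nat.Prime 2) := ⟨Nat.prime_two⟩
  -- first step: `Q` into `Q`
  have hP : IsPGroup 2 ((Qz (m := m) hF).map α.toMonoidHom) := by
    have h0 : IsPGroup 2 (Qz (m := m) hF) := by
      rw [← QSylow_coe hF hm]; exact (QSylow hF hm).isPGroup'
    exact h0.map α.toMonoidHom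
  obtain ⟨P', hP'⟩ := hP.exists_le_sylow
  obtain ⟨g₀, hg₀⟩ := MulAction.exists_smul_eq (Cfsg.Sz F m) P' (QSylow hF hm)
  have h1 : ∀ a b : F, ∃ a' b' : F, (MulAut.conj g₀ * α) (Tz hF a b) = Tz hF a' b' := by
    intro a b
    have hx : α (Tz hF a b) ∈ P' := hP' ⟨Tz hF a b, Tz_mem_Qz hF a b, rfl⟩
    have hx' : α (Tz hF a b) ∈ g₀⁻¹ • QSylow hF hm := by
      rw [← hg₀, inv_smul_smul]; exact hx
    rw [mem_smul_sylow, inv_inv] at hx'
    obtain ⟨a', b', h'⟩ := hx'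
    exact ⟨a', b', h'⟩
  set α₁ := MulAut.conj g₀ * α with hα₁
  set w₁ := α₁ (Wz hF) with hw₁
  have hw₁inv : w₁⁻¹ = w₁ := by
    rw [hw₁, ← map_inv, Wz_inv]
  -- `w₁` moves `∞`
  have hmove : w₁ • (infO : Cfsg.suzukiOvoid F m) ≠ infO := by
    intro hfix
    obtain ⟨a₁, b₁, e₁⟩ := h1 1 0
    obtain ⟨a₂, b₂, e₂⟩ := conj_mem_Qz hF hm w₁ hfix a₁ b₁
    have e₃ : α₁ (Wz hF * Tz hF 1 0 * Wz hF) = Tz hF a₂ b₂ := by
      rw [map_mul, map_mul, e₁, ← hw₁, ← e₂, hw₁inv]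
    obtain ⟨a₃, b₃, e₄⟩ := surj_on_Q hF α₁ h1 a₂ b₂
    have e₅ : Wz hF * Tz hF 1 0 * Wz hF = Tz hF a₃ b₃ := α₁.injective (e₃.trans e₄.symm)
    have e₆ : Tz hF (1 : F) 0 • (ptO 0 0 : Cfsg.suzukiOvoid F m) = ptO 0 0 := by
      have : (Wz hF * Tz hF 1 0 * Wz hF) • (infO : Cfsg.suzukiOvoid F m) = infO := by
        rw [e₅, Tz_smul_infO]
      rw [mul_smul, mul_smul, Wz_smul_infO] at this
      have := congrArg (fun z => Wz hF • z) this
      beta_reduce at this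
      rwa [← mul_smul, Wz_mul_Wz, one_smul, Wz_smul_infO] at this
    exact one_ne_zero (Cfsg.Agent.Helper11.SzMax.Tz_fix_affine hF e₆).1
  rcases ovoid_cases (w₁ • (infO : Cfsg.suzukiOvoid F m)) with h | ⟨x, y, hxy⟩
  · exact absurd h hmove
  set u := Tz hF x y with hu
  refine ⟨u⁻¹ * g₀, ?_⟩
  have hα₂ : MulAut.conj (u⁻¹ * g₀) * α = MulAut.conj u⁻¹ * α₁ := by
    rw [hα₁, map_mul, mul_assoc]
  rw [hα₂]
  have hQ2 : ∀ a b : F, ∃ a' b' : F, (MulAut.conj u⁻¹ * α₁) (Tz hF a b) = Tz hF a' b' := by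
    intro a b
    obtain ⟨a', b', h'⟩ := h1 a b
    have : (MulAut.conj u⁻¹ * α₁) (Tz hF a b) = u⁻¹ * Tz hF a' b' * u := by
      rw [MulAut.mul_apply, h', MulAut.conj_apply, inv_inv]
    rw [this, hu, Tz_inv, Tz_mul, Tz_mul]
    exact ⟨_, _, rfl⟩
  refine ⟨hQ2, ?_⟩
  intro a b
  set w₂ := (MulAut.conj u⁻¹ * α₁) (Wz hF) with hw₂
  have hw₂' : w₂ = u⁻¹ * w₁ * u := by
    rw [hw₂, MulAut.mul_apply, MulAut.conj_apply, inv_inv]
  have hw₂inv : w₂⁻¹ = w₂ := by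
    rw [hw₂, ← map_inv, Wz_inv]
  have hw₂inf : w₂ • (infO : Cfsg.suzukiOvoid F m) = ptO 0 0 := by
    rw [hw₂', mul_smul, mul_smul, hu, Tz_smul_infO, hxy, inv_smul_eq_iff, Tz_smul_zero]
  set n := Wz hF * w₂ with hn
  have hnfix : n • (infO : Cfsg.suzukiOvoid F m) = infO := by
    rw [hn, mul_smul, hw₂inf, Wz_smul_zero]
  have hw₂n : w₂ = Wz hF * n := by
    rw [hn, ← mul_assoc, Wz_mul_Wz, one_mul]
  obtain ⟨a', b', h'⟩ := hQ2 a b
  obtain ⟨a'', b'', h''⟩ := conj_mem_Qz hF hm n hnfix a' b'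
  refine ⟨a'', b'', ?_⟩
  rw [map_mul, map_mul, h', ← hw₂]
  calc w₂ * Tz hF a' b' * w₂ = w₂ * Tz hF a' b' * w₂⁻¹ := by rw [hw₂inv]
    _ = Wz hF * (n * Tz hF a' b' * n⁻¹) * (Wz hF)⁻¹ := by rw [hw₂n]; group
    _ = Wz hF * Tz hF a'' b'' * Wz hF := by rw [h'', Wz_inv]

end Cfsg.Agent.Helper11.SzAut
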