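import Mathlib
import Cfsg.Agent.Helper11.SzAutB

/-! Automorphisms of the Suzuki group, part C: a normalised automorphism is induced by a field
automorphism. -/

set_option autoImplicit false
set_option linter.unusedSectionVars false
set_option linter.unusedVariables false

namespace Cfsg.Agent.Helper11.SzAut

open Matrix Cfsg.Agent.Helper2.SzO

variable {F : Type*} [Field F] [Fintype F] {m : ℕ}

theorem Tz_ne_one (hF : Fintype.card F = 2 ^ (2 * m + 1)) {a b : F} (h : ¬ (a = 0 ∧ b = 0)) :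
    Tz hF a b ≠ 1 := by
  intro h1
  rw [← Tz_one hF] at h1
  exact h (Tz_injective hF h1)

/-- a normalised automorphism maps the torus to the torus -/
theorem Norm.torus (hF : Fintype.card F = 2 ^ (2 * m + 1)) (hm : 1 ≤ m)
    {α : MulAut ↥(Cfsg.Sz F m)} (hα : Norm hF α) (k : Fˣ) : ∃ k' : Fˣ, α (Dz hF k) = Dz hF k' := by
  set d := α (Dz hF k) with hd
  obtain ⟨a₁, b₁, e₁⟩ := hα.hQ 1 0
  have hne : ¬ (a₁ = 0 ∧ b₁ = 0) := by
    rintro ⟨rfl, rfl⟩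
    rw [Tz_one, ← map_one α] at e₁
    exact Tz_ne_one hF one_ne_zero_pair (α.injective e₁)
  -- `d` fixes `∞`
  have hfix1 : d • (infO : Cfsg.suzukiOvoid F m) = infO := by
    obtain ⟨a₂, b₂, e₂⟩ := hα.hQ ((k : F) * 1) ((k : F) ^ (sg m + 1) * 0)
    apply Cfsg.Agent.Helper11.SzTI.fix_inf_of_conj hF d a₁ b₁ a₂ b₂ hne
    rw [← e₁, ← e₂, hd, ← map_inv, ← map_mul, ← map_mul, Dz_mul_Tz]
  -- `d` fixes `0`
  have hfix2 : d • (ptO 0 0 : Cfsg.suzukiOvoid F m) = ptO 0 0 := by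
    obtain ⟨a₃, b₃, e₃⟩ := hα.hQ0 1 0
    have hne3 : ¬ (a₃ = 0 ∧ b₃ = 0) := by
      rintro ⟨rfl, rfl⟩
      rw [Tz_one, mul_one, Wz_mul_Wz, ← map_one α] at e₃
      have := α.injective e₃
      have h1 : Tz hF (1 : F) 0 = 1 := by
        have := congrArg (fun z => Wz hF * z * Wz hF) this
        simp only [mul_one] at this
        rw [Wz_mul_Wz] at this
        rw [← this]
        simp only [mul_assoc]
        rw [Wz_mul_Wz, mul_one, ← mul_assoc, Wz_mul_Wz, one_mul]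
      exact Tz_ne_one hF one_ne_zero_pair h1
    have hconj : Dz hF k * (Wz hF * Tz hF 1 0 * Wz hF) * (Dz hF k)⁻¹ =
        Wz hF * Tz hF (((k⁻¹ : Fˣ) : F) * 1) (((k⁻¹ : Fˣ) : F) ^ (sg m + 1) * 0) * Wz hF := by
      rw [← Dz_mul_Tz hF k⁻¹ 1 0, Dz_inv, Dz_inv, inv_inv]
      have h1 := Dz_mul_Wz hF k
      have h2 := Dz_mul_Wz hF k⁻¹
      rw [inv_inv] at h2
      calc Dz hF k * (Wz hF * Tz hF 1 0 * Wz hF) * Dz hF k⁻¹
          = (Dz hF k * Wz hF) * Tz hF 1 0 * (Wz hF * Dz hF k⁻¹) := by simp only [mul_assoc]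
        _ = (Wz hF * Dz hF k⁻¹) * Tz hF 1 0 * (Dz hF k * Wz hF) := by rw [h1, ← h1]
        _ = Wz hF * (Dz hF k⁻¹ * Tz hF 1 0 * Dz hF k) * Wz hF := by simp only [mul_assoc]
    obtain ⟨a₄, b₄, e₄⟩ := hα.hQ0 (((k⁻¹ : Fˣ) : F) * 1) (((k⁻¹ : Fˣ) : F) ^ (sg m + 1) * 0)
    have e₅ : d * (Wz hF * Tz hF a₃ b₃ * Wz hF) * d⁻¹ = Wz hF * Tz hF a₄ b₄ * Wz hF := by
      rw [← e₃, ← e₄, hd, ← map_inv, ← map_mul, ← map_mul, hconj]
    have e₆ : (Wz hF * d * Wz hF) * Tz hF a₃ b₃ * (Wz hF * d * Wz hF)⁻¹ = Tz hF a₄ b₄ := by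
      have : Tz hF a₄ b₄ = Wz hF * (Wz hF * Tz hF a₄ b₄ * Wz hF) * Wz hF := by
        simp only [mul_assoc]
        rw [Wz_mul_Wz, mul_one, ← mul_assoc, Wz_mul_Wz, one_mul]
      rw [this, ← e₅, _root_.mul_inv_rev, _root_.mul_inv_rev, Wz_inv]
      simp only [mul_assoc]
    have := Cfsg.Agent.Helper11.SzTI.fix_inf_of_conj hF _ a₃ b₃ a₄ b₄ hne3 e₆
    rw [mul_smul, mul_smul, Wz_smul_infO] at this
    have := congrArg (fun z => Wz hF • z) this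
    beta_reduce at this
    rwa [← mul_smul, Wz_mul_Wz, one_smul, Wz_smul_infO] at this
  exact eq_Dz_of_fix hF hm d hfix1 hfix2

end Cfsg.Agent.Helper11.SzAut
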