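import Mathlib
import Cfsg.Agent.Helper11.SzAutC

/-! Automorphisms of the Suzuki group, part D: extracting the field automorphism. -/

set_option autoImplicit false
set_option linter.unusedSectionVars false
set_option linter.unusedVariables false

namespace Cfsg.Agent.Helper11.SzAut

open Matrix Cfsg.Agent.Helper2.SzO

variable {F : Type*} [Field F] [Fintype F] {m : ℕ}

/-- a normalised automorphism maps central translations to central translations -/
theorem Norm.central (hF : Fintype.card F = 2 ^ (2 * m + 1))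
    {α : MulAut ↥(Cfsg.Sz F m)} (hα : Norm hF α) (c : F) : ∃ c' : F, α (Tz hF 0 c) = Tz hF 0 c' := by
  obtain ⟨e, he⟩ := exists_pow hF c
  obtain ⟨e', b', h'⟩ := hα.hQ e 0
  refine ⟨e' ^ sg m * e', ?_⟩
  rw [← he, ← Tz_sq hF e 0, map_mul, h', Tz_sq]

theorem Dz_mul_Tz' (hF : Fintype.card F = 2 ^ (2 * m + 1)) (k : Fˣ) (a : F) :
    Dz hF k * Tz hF a 0 * (Dz hF k)⁻¹ = Tz hF ((k : F) * a) 0 := by
  rw [Dz_mul_Tz, mul_zero]

/-- extracting a ring endomorphism from a normalised automorphism with `φ(1) = 1` -/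
theorem Norm.exists_phi (hF : Fintype.card F = 2 ^ (2 * m + 1)) (hm : 1 ≤ m)
    {α : MulAut ↥(Cfsg.Sz F m)} (hα : Norm hF α) (hone : ∃ b : F, α (Tz hF 1 0) = Tz hF 1 b) :
    ∃ φ : F →+* F, ∀ a : F, ∃ b : F, α (Tz hF a 0) = Tz hF (φ a) b := by
  choose φ₀ ψ hφ using fun a => hα.hQ a 0
  choose χ hχ using fun k => hα.torus hF hm k
  have hadd : ∀ a a' : F, φ₀ (a + a') = φ₀ a + φ₀ a' := by
    intro a a'
    have e1 : Tz hF a 0 * Tz hF a' 0 = Tz hF (a + a') 0 * Tz hF 0 (a ^ sg m * a') := by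
      rw [Tz_mul, Tz_mul]
      congr 1 <;> ring
    obtain ⟨c', hc'⟩ := hα.central hF (a ^ sg m * a')
    have e2 := congrArg α e1
    rw [map_mul, map_mul, hφ, hφ, hφ, hc', Tz_mul, Tz_mul] at e2
    have := (Tz_injective hF e2).1
    rw [add_zero] at this
    exact this.symm
  have hmul : ∀ (k : Fˣ) (a : F), φ₀ ((k : F) * a) = (χ k : F) * φ₀ a := by
    intro k a
    have e1 := congrArg α (Dz_mul_Tz' hF k a)
    rw [map_mul, map_mul, map_inv, hχ, hφ, hφ, Dz_mul_Tz] at e1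
    exact ((Tz_injective hF e1).1).symm
  have hone' : φ₀ 1 = 1 := by
    obtain ⟨b, hb⟩ := hone
    rw [hφ] at hb
    exact (Tz_injective hF hb).1
  have hzero : φ₀ 0 = 0 := by
    have := hadd 0 0
    rw [add_zero] at this
    linear_combination -this
  have hχφ : ∀ k : Fˣ, (χ k : F) = φ₀ (k : F) := by
    intro k
    have := hmul k 1
    rw [mul_one, hone', mul_one] at this
    exact this.symm
  have hmul' : ∀ a b : F, φ₀ (a * b) = φ₀ a * φ₀ b := by
    intro a b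
    by_cases ha : a = 0
    · rw [ha, zero_mul, hzero, zero_mul]
    · have := hmul (Units.mk0 a ha) b
      rw [hχφ, Units.val_mk0] at this
      exact this
  exact ⟨{ toFun := φ₀, map_one' := hone', map_mul' := hmul', map_zero' := hzero, map_add' := hadd },
    fun a => ⟨ψ a, hφ a⟩⟩

/-- a normalised automorphism can be further normalised so that `φ(1) = 1` -/
theorem Norm.exists_torus (hF : Fintype.card F = 2 ^ (2 * m + 1)) (hm : 1 ≤ m)
    {α : MulAut ↥(Cfsg.Sz F m)} (hα : Norm hF α) :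
    ∃ k : Fˣ, Norm hF (MulAut.conj (Dz hF k) * α) ∧
      ∃ b : F, (MulAut.conj (Dz hF k) * α) (Tz hF 1 0) = Tz hF 1 b := by
  obtain ⟨c, b, hcb⟩ := hα.hQ 1 0
  have hc : c ≠ 0 := by
    intro hc0
    subst hc0
    -- then `α (Tz 1 0)` is central of order ≤ 2, but `Tz 1 0` has order 4
    have e1 : α (Tz hF 1 0 * Tz hF 1 0) = 1 := by
      rw [map_mul, hcb, Tz_zero_mul_self]
    rw [← map_one α] at e1
    have e2 := α.injective e1
    rw [Tz_sq] at e2
    have : ¬ ((0 : F) = 0 ∧ (1 : F) ^ sg m * 1 = 0) := by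
      rintro ⟨-, h⟩
      rw [one_pow, one_mul] at h
      exact one_ne_zero h
    exact Tz_ne_one hF this e2
  refine ⟨(Units.mk0 c hc)⁻¹, ⟨?_, ?_⟩, ?_⟩
  · intro a b
    obtain ⟨a', b', h'⟩ := hα.hQ a b
    exact ⟨_, _, by rw [MulAut.mul_apply, h', MulAut.conj_apply, Dz_mul_Tz]⟩
  · intro a b
    obtain ⟨a', b', h'⟩ := hα.hQ0 a b
    set k := (Units.mk0 c hc)⁻¹ with hk
    refine ⟨((k⁻¹ : Fˣ) : F) * a', ((k⁻¹ : Fˣ) : F) ^ (sg m + 1) * b', ?_⟩
    rw [MulAut.mul_apply, h', MulAut.conj_apply, ← Dz_mul_Tz hF k⁻¹ a' b', Dz_inv, Dz_inv, inv_inv]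
    have h1 := Dz_mul_Wz hF k
    calc Dz hF k * (Wz hF * Tz hF a' b' * Wz hF) * Dz hF k⁻¹
        = (Dz hF k * Wz hF) * Tz hF a' b' * (Wz hF * Dz hF k⁻¹) := by simp only [mul_assoc]
      _ = (Wz hF * Dz hF k⁻¹) * Tz hF a' b' * (Dz hF k * Wz hF) := by rw [h1, ← h1]
      _ = Wz hF * (Dz hF k⁻¹ * Tz hF a' b' * Dz hF k) * Wz hF := by simp only [mul_assoc]
  · refine ⟨(((Units.mk0 c hc)⁻¹ : Fˣ) : F) ^ (sg m + 1) * b, ?_⟩
    rw [MulAut.mul_apply, hcb, MulAut.conj_apply, Dz_mul_Tz]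
    congr 1
    rw [Units.val_inv_eq_inv_val, Units.val_mk0, inv_mul_cancel₀ hc]

end Cfsg.Agent.Helper11.SzAut
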