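import Mathlib
import Cfsg.Agent.Helper11.SzAutD

/-! Automorphisms of the Suzuki group, part E: a normalised automorphism with field endomorphism `φ`
is the automorphism induced by `φ`. -/

set_option autoImplicit false
set_option linter.unusedSectionVars false
set_option linter.unusedVariables false

namespace Cfsg.Agent.Helper11.SzAut

open Matrix Cfsg.Agent.Helper2.SzO

variable {F : Type*} [Field F] [Fintype F] {m : ℕ}

theorem exists_pow_sg_ne (hF : Fintype.card F = 2 ^ (2 * m + 1)) (hm : 1 ≤ m) :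
    ∃ k : F, k ^ sg m ≠ k := by
  by_contra hcon
  push Not at hcon
  have hcard : 2 < Fintype.card F := by
    rw [hF]
    calc 2 < 2 ^ 2 := by norm_num
      _ ≤ 2 ^ (2 * m + 1) := Nat.pow_le_pow_right (by norm_num) (by omega)
  obtain ⟨a, b, c, hab, hac, hbc⟩ := Fintype.two_lt_card_iff.mp hcard
  have hsq : ∀ k : F, k = 0 ∨ k = 1 := by
    intro k
    have h1 : k ^ 2 = k := by
      have := pow_sg_pow_sg hF k
      rw [hcon, hcon] at this
      exact this.symm
    have h2 : k * (k - 1) = 0 := by linear_combination h1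
    rcases mul_eq_zero.mp h2 with h | h
    · exact Or.inl h
    · exact Or.inr (by linear_combination h)
  rcases hsq a with ha | ha <;> rcases hsq b with hb | hb <;> rcases hsq c with hc | hc <;>
    simp_all

theorem Dz_smul_ptO (hF : Fintype.card F = 2 ^ (2 * m + 1)) (k : Fˣ) (x y : F) :
    Dz hF k • (ptO x y : Cfsg.suzukiOvoid F m) = ptO ((k : F) * x) ((k : F) ^ (sg m + 1) * y) := by
  apply Subtype.ext
  rw [smul_val]
  exact D_smul_ptP hF k x y

theorem Dz_smul_infO (hF : Fintype.card F = 2 ^ (2 * m + 1)) (k : Fˣ) :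
    Dz hF k • (infO : Cfsg.suzukiOvoid F m) = infO := by
  apply Subtype.ext
  rw [smul_val]
  exact D_smul_infP k

theorem Wz_smul_ptO_zero (hF : Fintype.card F = 2 ^ (2 * m + 1)) {x : F} (hx : x ≠ 0) :
    Wz hF • (ptO x 0 : Cfsg.suzukiOvoid F m) = ptO 0 (x / x ^ (sg m + 2)) := by
  have hf : f m x 0 = x ^ (sg m + 2) := by
    unfold f
    rw [mul_zero, zero_pow sg_ne_zero, zero_add, add_zero]
  have hne : f m x 0 ≠ 0 := by rw [hf]; exact pow_ne_zero _ hx
  apply Subtype.ext
  rw [smul_val]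
  show W • ptP m x 0 = ptP m 0 (x / x ^ (sg m + 2))
  rw [W_smul_ptP hF hne, hf, zero_div]

/-- decomposition of elements of the Suzuki group, inside the group -/
theorem decompz (hF : Fintype.card F = 2 ^ (2 * m + 1)) (hm : 1 ≤ m) (g : Cfsg.Sz F m) :
    (∃ (a b : F) (k : Fˣ), g = Tz hF a b * Dz hF k) ∨
    (∃ (a b a' b' : F) (k : Fˣ), g = Tz hF a b * Wz hF * (Tz hF a' b' * Dz hF k)) := by
  rcases decomp hF hm g.2 with ⟨a, b, k, h⟩ | ⟨a, b, a', b', k, h⟩
  · exact Or.inl ⟨a, b, k, Subtype.ext h⟩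
  · exact Or.inr ⟨a, b, a', b', k, Subtype.ext h⟩

end Cfsg.Agent.Helper11.SzAut
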