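import Mathlib
import Cfsg.Agent.Helper11.SzAutE

/-! Automorphisms of the Suzuki group, part F: the main rigidity lemma. -/

set_option autoImplicit false
set_option linter.unusedSectionVars false
set_option linter.unusedVariables false

namespace Cfsg.Agent.Helper11.SzAut

open Matrix Cfsg.Agent.Helper2.SzO

variable {F : Type*} [Field F] [Fintype F] {m : ℕ}

/-- values on `Q` of a normalised automorphism with field endomorphism `φ` -/
theorem Norm.onQ (hF : Fintype.card F = 2 ^ (2 * m + 1)) (hm : 1 ≤ m)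
    {α : MulAut ↥(Cfsg.Sz F m)} (hα : Norm hF α) (φ : F →+* F)
    (h : ∀ a : F, ∃ b : F, α (Tz hF a 0) = Tz hF (φ a) b) :
    (∀ a b : F, α (Tz hF a b) = Tz hF (φ a) (φ b)) ∧
      ∀ k : Fˣ, α (Dz hF k) = Dz hF (Units.map φ.toMonoidHom k) := by
  have h2 := two_eq_zero hF
  -- central elements
  have hc : ∀ c : F, α (Tz hF 0 c) = Tz hF 0 (φ c) := by
    intro c
    obtain ⟨e, he⟩ := exists_pow hF c
    obtain ⟨b', h'⟩ := h e
    rw [← he, ← Tz_sq hF e 0, map_mul, h', Tz_sq, map_mul, map_pow]
  choose ζ hζ using h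
  have hT : ∀ a b : F, α (Tz hF a b) = Tz hF (φ a) (ζ a + φ b) := by
    intro a b
    rw [Tz_split hF a b, map_mul, hζ, hc, Tz_mul]
    congr 1 <;> ring
  have hζadd : ∀ a a' : F, ζ (a + a') = ζ a + ζ a' := by
    intro a a'
    have e1 := congrArg α (Tz_mul hF a 0 a' 0)
    rw [map_mul, hT, hT, hT, Tz_mul] at e1
    have e2 := (Tz_injective hF e1).2
    simp only [map_zero, add_zero, zero_add, map_mul, map_pow] at e2
    linear_combination -e2
  have hζ0 : ζ 0 = 0 := by
    have := hζadd 0 0
    rw [add_zero] at this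
    linear_combination -this
  have hφinj : Function.Injective φ := φ.injective
  -- the torus
  have hD : ∀ k : Fˣ, α (Dz hF k) = Dz hF (Units.map φ.toMonoidHom k) ∧
      ∀ a : F, ζ ((k : F) * a) = (φ (k : F)) ^ (sg m + 1) * ζ a := by
    intro k
    obtain ⟨k', hk'⟩ := hα.torus hF hm k
    have key : ∀ a : F, (k' : F) * φ a = φ ((k : F) * a) ∧
        (k' : F) ^ (sg m + 1) * ζ a = ζ ((k : F) * a) := by
      intro a
      have e1 := congrArg α (Dz_mul_Tz' hF k a)
      rw [map_mul, map_mul, map_inv, hk', hT, hT, Dz_mul_Tz] at e1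
      have e2 := Tz_injective hF e1
      simp only [map_zero, add_zero] at e2
      exact e2
    have hk'eq : (k' : F) = φ (k : F) := by
      have := (key 1).1
      rw [map_one, mul_one, mul_one] at this
      exact this
    have hk'u : k' = Units.map φ.toMonoidHom k := Units.ext hk'eq
    refine ⟨by rw [hk', hk'u], fun a => ?_⟩
    rw [← (key a).2, hk'eq]
  -- `ζ = 0`
  obtain ⟨k₁, hk₁⟩ := exists_pow_sg_ne hF hm
  have hk₁0 : k₁ ≠ 0 := by
    intro h0
    rw [h0, zero_pow sg_ne_zero] at hk₁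
    exact hk₁ rfl
  have hk₁1 : k₁ + 1 ≠ 0 := by
    intro h0
    have : k₁ = 1 := by linear_combination h0 - h2
    rw [this, one_pow] at hk₁
    exact hk₁ rfl
  have hz : ζ 1 = 0 := by
    have e1 := (hD (Units.mk0 k₁ hk₁0)).2 1
    have e2 := (hD (Units.mk0 (k₁ + 1) hk₁1)).2 1
    rw [Units.val_mk0, mul_one] at e1 e2
    have e3 := hζadd k₁ 1
    rw [e1, e2, map_add, map_one, pow_succ, add_pow_sg hF, one_pow, pow_succ] at e3
    have e4 : (φ k₁ ^ sg m + φ k₁) * ζ 1 = 0 := by
      linear_combination e3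
    rcases mul_eq_zero.mp e4 with h | h
    · exfalso
      apply hk₁
      apply hφinj
      rw [map_pow]
      linear_combination h - (φ k₁) * h2
    · exact h
  have hζz : ∀ a : F, ζ a = 0 := by
    intro a
    by_cases ha : a = 0
    · rw [ha, hζ0]
    · have := (hD (Units.mk0 a ha)).2 1
      rw [Units.val_mk0, mul_one, hz, mul_zero] at this
      exact this
  refine ⟨fun a b => ?_, fun k => (hD k).1⟩
  rw [hT, hζz, zero_add]

end Cfsg.Agent.Helper11.SzAut
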