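import Mathlib
import Cfsg.Agent.Helper11.SzAutF

/-! Automorphisms of the Suzuki group, part G: a normalised automorphism is `PhiAut φ`. -/

set_option autoImplicit false
set_option linter.unusedSectionVars false
set_option linter.unusedVariables false

namespace Cfsg.Agent.Helper11.SzAut

open Matrix Cfsg.Agent.Helper2.SzO

variable {F : Type*} [Field F] [Fintype F] {m : ℕ}

theorem Dz_one (hF : Fintype.card F = 2 ^ (2 * m + 1)) : Dz (m := m) hF 1 = 1 :=
  Subtype.ext D_one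

theorem Norm.eq_PhiAut (hF : Fintype.card F = 2 ^ (2 * m + 1)) (hm : 1 ≤ m)
    {α : MulAut ↥(Cfsg.Sz F m)} (hα : Norm hF α) (φ : F →+* F)
    (h : ∀ a : F, ∃ b : F, α (Tz hF a 0) = Tz hF (φ a) b) : α = PhiAut hF hm φ := by
  obtain ⟨hT, hD⟩ := hα.onQ hF hm φ h
  set w := α (Wz hF) with hw
  have hww : w * w = 1 := by rw [hw, ← map_mul, Wz_mul_Wz, map_one]
  have hwinv : w⁻¹ = w := inv_eq_of_mul_eq_one_left hww
  have hT1 : α (Tz hF 1 0) = Tz hF 1 0 := by rw [hT, map_one, map_zero]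
  obtain ⟨a₃, b₃, e₃⟩ := hα.hQ0 1 0
  rw [map_mul, map_mul, hT1, ← hw] at e₃
  have hne3 : ¬ (a₃ = 0 ∧ b₃ = 0) := by
    rintro ⟨rfl, rfl⟩
    rw [Tz_one, mul_one, Wz_mul_Wz] at e₃
    have : Tz hF (1 : F) 0 = 1 := by
      calc Tz hF (1 : F) 0 = w * (w * Tz hF 1 0 * w) * w := by
            simp only [mul_assoc]; rw [hww, mul_one, ← mul_assoc, hww, one_mul]
        _ = 1 := by rw [e₃, mul_one, hww]
    exact Tz_ne_one hF one_ne_zero_pair this
  -- `Wz * w` fixes `∞`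
  have hfix1 : (Wz hF * w) • (infO : Cfsg.suzukiOvoid F m) = infO := by
    apply Cfsg.Agent.Helper11.SzTI.fix_inf_of_conj hF _ 1 0 a₃ b₃ one_ne_zero_pair
    rw [_root_.mul_inv_rev, hwinv, Wz_inv]
    calc Wz hF * w * Tz hF 1 0 * (w * Wz hF) = Wz hF * (w * Tz hF 1 0 * w) * Wz hF := by
          simp only [mul_assoc]
      _ = Tz hF a₃ b₃ := by
          rw [e₃]; simp only [mul_assoc]
          rw [Wz_mul_Wz, mul_one, ← mul_assoc, Wz_mul_Wz, one_mul]
  have hfix2' : (w * Wz hF) • (infO : Cfsg.suzukiOvoid F m) = infO := by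
    apply Cfsg.Agent.Helper11.SzTI.fix_inf_of_conj hF _ a₃ b₃ 1 0 hne3
    rw [_root_.mul_inv_rev, hwinv, Wz_inv]
    calc w * Wz hF * Tz hF a₃ b₃ * (Wz hF * w) = w * (Wz hF * Tz hF a₃ b₃ * Wz hF) * w := by
          simp only [mul_assoc]
      _ = Tz hF 1 0 := by
          rw [← e₃]; simp only [mul_assoc]
          rw [hww, mul_one, ← mul_assoc, hww, one_mul]
  have hfix2 : (Wz hF * w) • (ptO 0 0 : Cfsg.suzukiOvoid F m) = ptO 0 0 := by
    rw [← Wz_smul_infO hF, ← mul_smul, mul_assoc, mul_smul, hfix2']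
  obtain ⟨k₀, hk₀⟩ := eq_Dz_of_fix hF hm _ hfix1 hfix2
  have hwk : w = Wz hF * Dz hF k₀ := by
    rw [← hk₀, ← mul_assoc, Wz_mul_Wz, one_mul]
  have hwinf : w • (infO : Cfsg.suzukiOvoid F m) = ptO 0 0 := by
    rw [hwk, mul_smul, Dz_smul_infO, Wz_smul_infO]
  -- `k₀ = 1`
  have hk₀1 : k₀ = 1 := by
    set g := Wz hF * Tz hF 1 0 * Wz hF with hg
    have hginf : g • (infO : Cfsg.suzukiOvoid F m) = ptO 0 1 := by
      rw [hg, mul_smul, mul_smul, Wz_smul_infO, Tz_smul_zero, Wz_smul_ptO_zero hF one_ne_zero,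
        one_pow, div_one]
    have hαg : α g = w * Tz hF 1 0 * w := by rw [hg, map_mul, map_mul, hT1]
    have hαginf : (α g) • (infO : Cfsg.suzukiOvoid F m) = ptO 0 ((k₀ : F) / (k₀ : F) ^ (sg m + 2)) := by
      rw [hαg, mul_smul, mul_smul, hwinf, Tz_smul_zero, hwk, mul_smul, Dz_smul_ptO, mul_one, mul_zero,
        Wz_smul_ptO_zero hF k₀.ne_zero]
    rcases decompz hF hm g with ⟨a, b, k, hgd⟩ | ⟨a, b, a', b', k, hgd⟩
    · exfalso
      rw [hgd, mul_smul, Dz_smul_infO, Tz_smul_infO] at hginf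
      exact infO_ne_ptO _ _ hginf
    · have h1 : (ptO a b : Cfsg.suzukiOvoid F m) = ptO 0 1 := by
        rw [← hginf, hgd, mul_smul, mul_smul, mul_smul, Dz_smul_infO, Tz_smul_infO, Wz_smul_infO,
          Tz_smul_zero]
      obtain ⟨rfl, rfl⟩ := ptO_injective h1
      have h2 : (α g) • (infO : Cfsg.suzukiOvoid F m) = ptO 0 1 := by
        rw [hgd, map_mul, map_mul, map_mul, hT, hT, hD, ← hw, mul_smul, mul_smul, mul_smul,
          Dz_smul_infO, Tz_smul_infO, hwinf, Tz_smul_zero, map_zero, map_one]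
      rw [hαginf] at h2
      have h3 := (ptO_injective h2).2
      have hk0 : (k₀ : F) ≠ 0 := k₀.ne_zero
      have h4 : (k₀ : F) ^ (sg m + 1) = 1 := by
        have h5 : (k₀ : F) = (k₀ : F) ^ (sg m + 2) := by
          field_simp at h3
          exact h3
        have h6 : (k₀ : F) * 1 = (k₀ : F) * (k₀ : F) ^ (sg m + 1) := by
          rw [mul_one, ← pow_succ']
          exact h5
        exact (mul_left_cancel₀ hk0 h6).symm
      apply eq_one_of_pow_sg_succ hF
      apply Units.ext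
      rw [Units.val_pow_eq_pow_val, Units.val_one]
      exact h4
  have hW : w = Wz hF := by rw [hwk, hk₀1, Dz_one, mul_one]
  -- conclusion
  apply MulEquiv.ext
  intro g
  rcases decompz hF hm g with ⟨a, b, k, rfl⟩ | ⟨a, b, a', b', k, rfl⟩
  · rw [map_mul, map_mul, hT, hD, PhiAut_Tz, PhiAut_Dz]
  · rw [map_mul, map_mul, map_mul, map_mul, map_mul, map_mul, hT, hT, hD, ← hw, hW, PhiAut_Tz,
      PhiAut_Tz, PhiAut_Dz, PhiAut_Wz]

end Cfsg.Agent.Helper11.SzAut
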