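import Mathlib
import Cfsg.Agent.Helper11.SzAutG

/-! The Suzuki group is a CN-group, part A: elements with fixed points. -/

set_option autoImplicit false
set_option linter.unusedSectionVars false
set_option linter.unusedVariables false

namespace Cfsg.Agent.Helper11.SzCN

open Matrix Cfsg.Agent.Helper2.SzO Cfsg.Agent.Helper11.SzAut

theorem isNilpotent_of_comm {G : Type*} [Group G] (H : Subgroup G)
    (h : ∀ a ∈ H, ∀ b ∈ H, a * b = b * a) : Group.IsNilpotent H := by
  let _ : CommGroup H := { (inferInstance : Group H) with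
    mul_comm := fun a b => Subtype.ext (h a.1 a.2 b.1 b.2) }
  exact CommGroup.isNilpotent

theorem nilpotent_centralizer_conj {G : Type*} [Group G] (g h : G)
    (hn : Group.IsNilpotent (Subgroup.centralizer ({h * g * h⁻¹} : Set G))) :
    Group.IsNilpotent (Subgroup.centralizer ({g} : Set G)) := by
  have e : Subgroup.centralizer ({h * g * h⁻¹} : Set G) ≃* Subgroup.centralizer ({g} : Set G) :=
    { toFun := fun x => ⟨h⁻¹ * x.1 * h, by
        have hx := Subgroup.mem_centralizer_iff.mp x.2 (h * g * h⁻¹) rfl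
        rw [Subgroup.mem_centralizer_iff]
        intro y hy
        rw [Set.mem_singleton_iff] at hy
        subst hy
        calc y * (h⁻¹ * x.1 * h) = h⁻¹ * ((h * y * h⁻¹) * x.1) * h := by group
          _ = h⁻¹ * (x.1 * (h * y * h⁻¹)) * h := by rw [hx]
          _ = h⁻¹ * x.1 * h * y := by group⟩
      invFun := fun x => ⟨h * x.1 * h⁻¹, by
        have hx := Subgroup.mem_centralizer_iff.mp x.2 g rfl
        rw [Subgroup.mem_centralizer_iff]
        intro y hy
        rw [Set.mem_singleton_iff] at hy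
        subst hy
        calc h * g * h⁻¹ * (h * x.1 * h⁻¹) = h * (g * x.1) * h⁻¹ := by group
          _ = h * (x.1 * g) * h⁻¹ := by rw [hx]
          _ = h * x.1 * h⁻¹ * (h * g * h⁻¹) := by group⟩
      left_inv := fun x => Subtype.ext (by simp [mul_assoc])
      right_inv := fun x => Subtype.ext (by simp [mul_assoc])
      map_mul' := fun x y => Subtype.ext (by simp [mul_assoc]) }
  exact Group.nilpotent_of_mulEquiv e

variable {F : Type*} [Field F] [Fintype F] {m : ℕ}

theorem fix_inf_decomp (hF : Fintype.card F = 2 ^ (2 * m + 1)) (hm : 1 ≤ m) (g : Cfsg.Sz F m)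
    (hg : g • (infO : Cfsg.suzukiOvoid F m) = infO) :
    ∃ (a b : F) (k : Fˣ), g = Tz hF a b * Dz hF k := by
  rcases decompz hF hm g with h | ⟨a, b, a', b', k, h⟩
  · exact h
  · exfalso
    rw [h, mul_smul, mul_smul, mul_smul, Dz_smul_infO, Tz_smul_infO, Wz_smul_infO, Tz_smul_zero] at hg
    exact infO_ne_ptO _ _ hg.symm

theorem units_eq_one_of_mul {k : Fˣ} {a : F} (ha : a ≠ 0) (h : (k : F) * a = a) : k = 1 := by
  apply Units.ext
  have : ((k : F) - 1) * a = 0 := by linear_combination h
  rcases mul_eq_zero.mp this with h1 | h1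
  · rw [Units.val_one]; linear_combination h1
  · exact absurd h1 ha

/-- centralisers of non-identity elements of `Q` lie in `Q` -/
theorem centralizer_Tz_le (hF : Fintype.card F = 2 ^ (2 * m + 1)) (hm : 1 ≤ m) {a b : F}
    (hab : ¬ (a = 0 ∧ b = 0)) :
    Subgroup.centralizer ({Tz hF a b} : Set (Cfsg.Sz F m)) ≤ Qz hF := by
  have h2 := two_eq_zero hF
  intro c hc
  have hc' : Tz hF a b * c = c * Tz hF a b := Subgroup.mem_centralizer_iff.mp hc _ rfl
  have hconj : c * Tz hF a b * c⁻¹ = Tz hF a b := by rw [← hc']; group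
  have hfix := Cfsg.Agent.Helper11.SzTI.fix_inf_of_conj hF c a b a b hab hconj
  obtain ⟨a', b', k', rfl⟩ := fix_inf_decomp hF hm c hfix
  have hk : k' = 1 := by
    by_cases ha : a = 0
    · subst ha
      have hb : b ≠ 0 := fun hb => hab ⟨rfl, hb⟩
      rw [Cfsg.Agent.Helper11.SzTI.conj_central] at hconj
      have h1 := (Tz_injective hF hconj).2
      have h3 : k' ^ (sg m + 1) = 1 := by
        apply units_eq_one_of_mul hb
        rw [Units.val_pow_eq_pow_val]
        exact h1
      exact eq_one_of_pow_sg_succ hF h3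
    · have e : (Tz hF a' b' * Dz hF k') * Tz hF a b * (Tz hF a' b' * Dz hF k')⁻¹ =
          Tz hF a' b' * (Dz hF k' * Tz hF a b * (Dz hF k')⁻¹) * (Tz hF a' b')⁻¹ := by group
      rw [e, Dz_mul_Tz, Tz_inv, Tz_mul, Tz_mul] at hconj
      have h1 := (Tz_injective hF hconj).1
      apply units_eq_one_of_mul ha
      linear_combination h1 - a' * h2
  rw [hk, Dz_one, mul_one]
  exact Tz_mem_Qz hF a' b'

theorem nilpotent_Tz (hF : Fintype.card F = 2 ^ (2 * m + 1)) (hm : 1 ≤ m) {a b : F}
    (hab : ¬ (a = 0 ∧ b = 0)) :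
    Group.IsNilpotent (Subgroup.centralizer ({Tz hF a b} : Set (Cfsg.Sz F m))) := by
  have : Fact (Nat.Prime 2) := ⟨Nat.prime_two⟩
  have h0 : IsPGroup 2 (Qz (m := m) hF) := by
    rw [← QSylow_coe hF hm]; exact (QSylow hF hm).isPGroup'
  exact (h0.to_le (centralizer_Tz_le hF hm hab)).isNilpotent

theorem Dz_fix_iff (hF : Fintype.card F = 2 ^ (2 * m + 1)) {k : Fˣ} (hk : k ≠ 1)
    (ω : Cfsg.suzukiOvoid F m) (h : Dz hF k • ω = ω) : ω = infO ∨ ω = ptO 0 0 := by
  rcases ovoid_cases ω with rfl | ⟨x, y, rfl⟩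
  · exact Or.inl rfl
  · right
    rw [Dz_smul_ptO] at h
    obtain ⟨h1, h2⟩ := ptO_injective h
    have hx : x = 0 := by
      by_contra hx
      exact hk (units_eq_one_of_mul hx h1)
    have hy : y = 0 := by
      by_contra hy
      have h3 : k ^ (sg m + 1) = 1 := by
        apply units_eq_one_of_mul hy
        rw [Units.val_pow_eq_pow_val]
        exact h2
      exact hk (eq_one_of_pow_sg_succ hF h3)
    rw [hx, hy]

theorem Dz_injective (hF : Fintype.card F = 2 ^ (2 * m + 1)) {k l : Fˣ}
    (h : Dz (m := m) hF k = Dz hF l) : k = l :=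
  D_injective (congrArg Subtype.val h)

theorem Dz_mul' (hF : Fintype.card F = 2 ^ (2 * m + 1)) (k l : Fˣ) :
    Dz (m := m) hF k * Dz hF l = Dz hF (k * l) :=
  Subtype.ext (D_mul k l).symm

theorem nilpotent_Dz (hF : Fintype.card F = 2 ^ (2 * m + 1)) (hm : 1 ≤ m) {k : Fˣ} (hk : k ≠ 1) :
    Group.IsNilpotent (Subgroup.centralizer ({Dz hF k} : Set (Cfsg.Sz F m))) := by
  have h2 := two_eq_zero hF
  have key : ∀ c ∈ Subgroup.centralizer ({Dz hF k} : Set (Cfsg.Sz F m)), ∃ l : Fˣ, c = Dz hF l := by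
    intro c hc
    have hc' : Dz hF k * c = c * Dz hF k := Subgroup.mem_centralizer_iff.mp hc _ rfl
    have hf1 : Dz hF k • (c • (infO : Cfsg.suzukiOvoid F m)) = c • infO := by
      rw [← mul_smul, hc', mul_smul, Dz_smul_infO]
    have hf2 : Dz hF k • (c • (ptO 0 0 : Cfsg.suzukiOvoid F m)) = c • ptO 0 0 := by
      rw [← mul_smul, hc', mul_smul, Dz_smul_ptO, mul_zero, mul_zero]
    have hne : c • (infO : Cfsg.suzukiOvoid F m) ≠ c • ptO 0 0 := fun h =>
      infO_ne_ptO 0 0 (MulAction.injective c h)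
    rcases Dz_fix_iff hF hk _ hf1 with h1 | h1 <;> rcases Dz_fix_iff hF hk _ hf2 with h3 | h3
    · exact absurd (h1.trans h3.symm) hne
    · exact eq_Dz_of_fix hF hm c h1 h3
    · exfalso
      -- `c` swaps `∞` and `0`
      have hf3 : (Wz hF * c) • (infO : Cfsg.suzukiOvoid F m) = infO := by
        rw [mul_smul, h1, Wz_smul_zero]
      have hf4 : (Wz hF * c) • (ptO 0 0 : Cfsg.suzukiOvoid F m) = ptO 0 0 := by
        rw [mul_smul, h3, Wz_smul_infO]
      obtain ⟨l, hl⟩ := eq_Dz_of_fix hF hm _ hf3 hf4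
      have hc2 : c = Wz hF * Dz hF l := by
        rw [← hl, ← mul_assoc, Wz_mul_Wz, one_mul]
      rw [hc2] at hc'
      have e1 : Dz hF k * (Wz hF * Dz hF l) = Wz hF * Dz hF (k⁻¹ * l) := by
        rw [← mul_assoc, Dz_mul_Wz, mul_assoc, Dz_mul']
      have e2 : Wz hF * Dz hF l * Dz hF k = Wz hF * Dz hF (l * k) := by
        rw [mul_assoc, Dz_mul']
      rw [e1, e2] at hc'
      have e3 := Dz_injective hF (mul_left_cancel hc')
      have e4 : k * k = 1 := by
        have : k⁻¹ = k := by
          have := congrArg (· * l⁻¹) e3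
          simpa [mul_comm l k, mul_assoc] using this
        calc k * k = k * k⁻¹ := by rw [this]
          _ = 1 := mul_inv_cancel k
      apply hk
      apply Units.ext
      have e5 : (k : F) * k = 1 := by
        have := congrArg Units.val e4
        simpa using this
      have e6 : ((k : F) - 1) ^ 2 = 0 := by linear_combination e5 - ((k : F) - 1) * h2
      have := pow_eq_zero_iff (two_ne_zero) |>.mp e6
      rw [Units.val_one]
      linear_combination this
    · exact absurd (h1.trans h3.symm) hne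
  apply isNilpotent_of_comm
  intro a ha b hb
  obtain ⟨l, rfl⟩ := key a ha
  obtain ⟨l', rfl⟩ := key b hb
  rw [Dz_mul', Dz_mul', mul_comm]

end Cfsg.Agent.Helper11.SzCN
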