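import Mathlib
import Cfsg.Agent.Helper11.SzCNA
import Cfsg.Agent.Helper11.IrrComm

/-! The Suzuki group is a CN-group, part B: fixed-point-free elements. -/

set_option autoImplicit false
set_option linter.unusedSectionVars false
set_option linter.unusedVariables false

namespace Cfsg.Agent.Helper11.SzCN

open Matrix Cfsg.Agent.Helper2.SzO Cfsg.Agent.Helper11.SzAut

variable {F : Type*} [Field F] [Fintype F] {m : ℕ}

/-- an element of prime-power order `p^n` with `p ∤ q²+1` has a fixed point on the ovoid -/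
theorem exists_fix_of_prime (hF : Fintype.card F = 2 ^ (2 * m + 1)) (x : Cfsg.Sz F m) (p n : ℕ)
    [Fact p.Prime] (hx : x ^ p ^ n = 1) (hp : ¬ p ∣ (2 ^ (2 * m + 1)) ^ 2 + 1) :
    ∃ ω : Cfsg.suzukiOvoid F m, x • ω = ω := by
  classical
  have : Fintype (Cfsg.suzukiOvoid F m) := Fintype.ofFinite _
  have hcard : Fintype.card (Cfsg.suzukiOvoid F m) = (2 ^ (2 * m + 1)) ^ 2 + 1 := by
    rw [← Nat.card_eq_fintype_card, card_ovoid, hF]
  have hσ : (MulAction.toPermHom (Cfsg.Sz F m) (Cfsg.suzukiOvoid F m) x) ^ p ^ n = 1 := by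
    rw [← map_pow, hx, map_one]
  obtain ⟨ω, hω⟩ := Equiv.Perm.exists_fixed_point_of_prime (p := p) (n := n)
    (by rw [hcard]; exact hp) hσ
  exact ⟨ω, hω⟩

theorem Wz_Dz_sq (hF : Fintype.card F = 2 ^ (2 * m + 1)) (l : Fˣ) :
    (Wz hF * Dz hF l) * (Wz (m := m) hF * Dz hF l) = 1 := by
  calc (Wz hF * Dz hF l) * (Wz hF * Dz hF l) = Wz hF * (Dz hF l * Wz hF) * Dz hF l := by group
    _ = 1 := by
      rw [Dz_mul_Wz, ← mul_assoc, Wz_mul_Wz, one_mul, Dz_mul', inv_mul_cancel, Dz_one]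

/-- a fixed-point-free element commutes with no non-identity element having a fixed point -/
theorem no_fix_of_comm (hF : Fintype.card F = 2 ^ (2 * m + 1)) (hm : 1 ≤ m) (g x : Cfsg.Sz F m)
    (hg : ∀ ω : Cfsg.suzukiOvoid F m, g • ω ≠ ω) (hx1 : x ≠ 1) (hcomm : x * g = g * x)
    (ω : Cfsg.suzukiOvoid F m) (hω : x • ω = ω) : False := by
  have : Fact (Nat.Prime 2) := ⟨Nat.prime_two⟩
  have hfix : ∀ ω' : Cfsg.suzukiOvoid F m, x • ω' = ω' → x • (g • ω') = g • ω' := by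
    intro ω' h'
    rw [← mul_smul, hcomm, mul_smul, h']
  set ω' := g • ω with hω'
  have h1 : ω ≠ ω' := fun h => hg ω h.symm
  have hswap : g • ω' = ω := by
    by_contra hne
    have h2 : ω' ≠ g • ω' := fun h => hg ω' h.symm
    have h3 : ω ≠ g • ω' := fun h => hne h.symm
    exact hx1 (three_point hF hm x ω ω' (g • ω') h1 h2 h3 hω (hfix ω hω) (hfix ω' (hfix ω hω)))
  obtain ⟨h, ha, hb⟩ := exists_move hF h1
  set g' := h * g * h⁻¹ with hg'
  have e1 : g' • (infO : Cfsg.suzukiOvoid F m) = ptO 0 0 := by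
    rw [hg', ← ha, mul_smul, mul_smul, inv_smul_smul, ← hω', hb]
  have e2 : g' • (ptO 0 0 : Cfsg.suzukiOvoid F m) = infO := by
    rw [hg', ← hb, mul_smul, mul_smul, inv_smul_smul, hswap, ha]
  have hf3 : (Wz hF * g') • (infO : Cfsg.suzukiOvoid F m) = infO := by
    rw [mul_smul, e1, Wz_smul_zero]
  have hf4 : (Wz hF * g') • (ptO 0 0 : Cfsg.suzukiOvoid F m) = ptO 0 0 := by
    rw [mul_smul, e2, Wz_smul_infO]
  obtain ⟨l, hl⟩ := eq_Dz_of_fix hF hm _ hf3 hf4
  have hg2 : g' = Wz hF * Dz hF l := by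
    rw [← hl, ← mul_assoc, Wz_mul_Wz, one_mul]
  have hsq' : g' * g' = 1 := by rw [hg2]; exact Wz_Dz_sq hF l
  have hsq : g ^ 2 ^ 1 = 1 := by
    rw [pow_one, pow_two]
    have : h * (g * g) * h⁻¹ = 1 := by
      rw [← hsq', hg']; group
    have := congrArg (fun z => h⁻¹ * z * h) this
    simpa [mul_assoc] using this
  obtain ⟨ω₀, hω₀⟩ := exists_fix_of_prime hF g 2 1 hsq (by
    intro hdvd
    have : 2 ∣ (2 ^ (2 * m + 1)) ^ 2 := by
      rw [← pow_mul]
      exact dvd_pow_self 2 (by omega)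
    have := (Nat.dvd_add_right this).mp hdvd
    omega)
  exact hg ω₀ hω₀

end Cfsg.Agent.Helper11.SzCN
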