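import Mathlib
import Cfsg.Agent.Helper11.SzCNB

/-! The Suzuki group is a CN-group, part C: conclusion. -/

set_option autoImplicit false
set_option linter.unusedSectionVars false
set_option linter.unusedVariables false

namespace Cfsg.Agent.Helper11.SzCN

open Matrix Cfsg.Agent.Helper2.SzO Cfsg.Agent.Helper11.SzAut

variable {F : Type*} [Field F] [Fintype F] {m : ℕ}

/-- arithmetic: an odd prime dividing `q²+1` divides none of `q`, `q-1`, `q²-1`, `q³-1` -/
theorem not_dvd_of_dvd {p q : ℕ} (hp : p.Prime) (hp2 : p ≠ 2) (hq : 2 ≤ q) (h : p ∣ q ^ 2 + 1) :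
    ∀ d, 0 < d → d < 4 → ¬ p ∣ q ^ d - 1 := by
  have hp2' : ¬ p ∣ 2 := fun h2 => hp2 ((Nat.prime_dvd_prime_iff_eq hp Nat.prime_two).mp h2)
  have hq2 : 1 ≤ q ^ 2 := Nat.one_le_pow _ _ (by omega)
  have key2 : ¬ p ∣ q ^ 2 - 1 := by
    intro h1
    apply hp2'
    have : q ^ 2 + 1 - (q ^ 2 - 1) = 2 := by omega
    rw [← this]
    exact Nat.dvd_sub h h1
  intro d hd0 hd4 hdvd
  have hd : d = 1 ∨ d = 2 ∨ d = 3 := by omega
  rcases hd with rfl | rfl | rfl
  · apply key2
    have : q ^ 2 - 1 = (q ^ 1 - 1) * (q + 1) := by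
      rw [pow_one]
      zify [hq2, (by omega : 1 ≤ q)]
      ring
    rw [this]
    exact Dvd.dvd.mul_right hdvd _
  · exact key2 hdvd
  · apply key2
    have hq3 : 1 ≤ q ^ 3 := Nat.one_le_pow _ _ (by omega)
    have h1 : p ∣ q * (q ^ 2 + 1) := Dvd.dvd.mul_left h q
    have h2 : q * (q ^ 2 + 1) - (q ^ 3 - 1) = q + 1 := by
      have e : q * (q ^ 2 + 1) = q ^ 3 + q := by ring
      rw [e]
      generalize q ^ 3 = c at *
      omega
    have h3 : p ∣ q + 1 := by
      rw [← h2]
      exact Nat.dvd_sub h1 hdvd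
    have : q ^ 2 - 1 = (q + 1) * (q - 1) := by
      zify [hq2, (by omega : 1 ≤ q)]
      ring
    rw [this]
    exact Dvd.dvd.mul_right h3 _

/-- the centraliser of an element of prime order `p ∣ q²+1` is abelian -/
theorem comm_of_prime (hF : Fintype.card F = 2 ^ (2 * m + 1)) (hm : 1 ≤ m) (x : Cfsg.Sz F m)
    (p : ℕ) [Fact p.Prime] (hx : x ^ p = 1) (hx1 : x ≠ 1) (hp : p ∣ (2 ^ (2 * m + 1)) ^ 2 + 1)
    (a b : Cfsg.Sz F m) (ha : a * x = x * a) (hb : b * x = x * b) : a * b = b * a := by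
  have hpp : p.Prime := Fact.out
  have hq2 : 2 ≤ 2 ^ (2 * m + 1) := by
    calc 2 = 2 ^ 1 := by norm_num
      _ ≤ 2 ^ (2 * m + 1) := Nat.pow_le_pow_right (by norm_num) (by omega)
  have hp2 : p ≠ 2 := by
    rintro rfl
    have : 2 ∣ (2 ^ (2 * m + 1)) ^ 2 := by
      rw [← pow_mul]
      exact dvd_pow_self 2 (by omega)
    have := (Nat.dvd_add_right this).mp hp
    omega
  have hq : ¬ p ∣ Fintype.card F := by
    rw [hF]
    intro h
    exact hp2 ((Nat.prime_dvd_prime_iff_eq hpp Nat.prime_two).mp (hpp.dvd_of_dvd_pow h))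
  have hd : ∀ d, 0 < d → d < 4 → ¬ p ∣ Fintype.card F ^ d - 1 := by
    rw [hF]
    exact not_dvd_of_dvd hpp hp2 hq2 hp
  have hM : (x.1.1 : Matrix (Fin 4) (Fin 4) F) ^ p = 1 := by
    have := congrArg (fun z : Cfsg.Sz F m => (z.1.1 : Matrix (Fin 4) (Fin 4) F)) hx
    simpa using this
  have hM1 : (x.1.1 : Matrix (Fin 4) (Fin 4) F) ≠ 1 := by
    intro h
    apply hx1
    apply Subtype.ext
    apply Subtype.ext
    exact h
  have hA : (a.1.1 : Matrix (Fin 4) (Fin 4) F) * x.1.1 = x.1.1 * a.1.1 := by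
    have := congrArg (fun z : Cfsg.Sz F m => (z.1.1 : Matrix (Fin 4) (Fin 4) F)) ha
    simpa using this
  have hB : (b.1.1 : Matrix (Fin 4) (Fin 4) F) * x.1.1 = x.1.1 * b.1.1 := by
    have := congrArg (fun z : Cfsg.Sz F m => (z.1.1 : Matrix (Fin 4) (Fin 4) F)) hb
    simpa using this
  have := Cfsg.Agent.Helper11.IrrComm.matrix_comm p _ hM hM1 hq hd _ _ hA hB
  apply Subtype.ext
  apply Subtype.ext
  exact this

theorem nilpotent_no_fix (hF : Fintype.card F = 2 ^ (2 * m + 1)) (hm : 1 ≤ m) (g : Cfsg.Sz F m)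
    (hg : ∀ ω : Cfsg.suzukiOvoid F m, g • ω ≠ ω) :
    Group.IsNilpotent (Subgroup.centralizer ({g} : Set (Cfsg.Sz F m))) := by
  have hg1 : g ≠ 1 := by
    rintro rfl
    exact hg infO (one_smul _ _)
  have hn1 : orderOf g ≠ 1 := fun h => hg1 (orderOf_eq_one_iff.mp h)
  have hn0 : orderOf g ≠ 0 := (orderOf_pos g).ne'
  set p := (orderOf g).minFac with hp
  have hpp : p.Prime := Nat.minFac_prime hn1
  have : Fact p.Prime := ⟨hpp⟩
  have hpd : p ∣ orderOf g := Nat.minFac_dvd _
  set x := g ^ (orderOf g / p) with hx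
  have hxo : orderOf x = p := orderOf_pow_orderOf_div hn0 hpd
  have hxp : x ^ p = 1 := by rw [← hxo]; exact pow_orderOf_eq_one x
  have hx1 : x ≠ 1 := by
    intro h
    rw [h, orderOf_one] at hxo
    exact hpp.one_lt.ne hxo
  have hcomm : x * g = g * x := by
    rw [hx, ← pow_succ, ← pow_succ']
  have hdvd : p ∣ (2 ^ (2 * m + 1)) ^ 2 + 1 := by
    by_contra hnd
    obtain ⟨ω, hω⟩ := exists_fix_of_prime hF x p 1 (by rw [pow_one]; exact hxp) hnd
    exact no_fix_of_comm hF hm g x hg hx1 hcomm ω hω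
  apply isNilpotent_of_comm
  intro a ha b hb
  have ha' : g * a = a * g := Subgroup.mem_centralizer_iff.mp ha g rfl
  have hb' : g * b = b * g := Subgroup.mem_centralizer_iff.mp hb g rfl
  have hax : a * x = x * a := by
    rw [hx]
    exact ((Commute.pow_left (show Commute g a from ha') _).eq).symm
  have hbx : b * x = x * b := by
    rw [hx]
    exact ((Commute.pow_left (show Commute g b from hb') _).eq).symm
  exact comm_of_prime hF hm x p hxp hx1 hdvd a b hax hbx

/-- the Suzuki group is a CN-group -/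
theorem isCNGroup (hF : Fintype.card F = 2 ^ (2 * m + 1)) (hm : 1 ≤ m) :
    Cfsg.IsCNGroup (Cfsg.Sz F m) := by
  intro g hg1
  by_cases h2 : ∃ ω₁ ω₂ : Cfsg.suzukiOvoid F m, ω₁ ≠ ω₂ ∧ g • ω₁ = ω₁ ∧ g • ω₂ = ω₂
  · -- two fixed points: conjugate into the torus
    obtain ⟨ω₁, ω₂, hne, hf1, hf2⟩ := h2
    obtain ⟨h, ha, hb⟩ := exists_move hF hne
    apply nilpotent_centralizer_conj g h
    have e1 : (h * g * h⁻¹) • (infO : Cfsg.suzukiOvoid F m) = infO := by
      rw [← ha, mul_smul, mul_smul, inv_smul_smul, hf1]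
    have e2 : (h * g * h⁻¹) • (ptO 0 0 : Cfsg.suzukiOvoid F m) = ptO 0 0 := by
      rw [← hb, mul_smul, mul_smul, inv_smul_smul, hf2]
    obtain ⟨k, hk⟩ := eq_Dz_of_fix hF hm _ e1 e2
    rw [hk]
    apply nilpotent_Dz hF hm
    rintro rfl
    rw [Dz_one] at hk
    apply hg1
    have := congrArg (fun z => h⁻¹ * z * h) hk
    simpa [mul_assoc] using this
  · by_cases h1 : ∃ ω : Cfsg.suzukiOvoid F m, g • ω = ω
    · -- exactly one fixed point: conjugate into `Q`
      obtain ⟨ω, hω⟩ := h1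
      obtain ⟨h, ha⟩ : ∃ h : Cfsg.Sz F m, h • ω = infO := by
        by_cases hω' : ω = infO
        · exact ⟨1, by rw [one_smul, hω']⟩
        · obtain ⟨h, ha, -⟩ := exists_move hF hω'
          exact ⟨h, ha⟩
      apply nilpotent_centralizer_conj g h
      have e1 : (h * g * h⁻¹) • (infO : Cfsg.suzukiOvoid F m) = infO := by
        rw [← ha, mul_smul, mul_smul, inv_smul_smul, hω]
      obtain ⟨a, b, k, hk⟩ := fix_inf_decomp hF hm _ e1
      have hk1 : k = 1 := by
        by_contra hk1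
        -- a second fixed point
        have h2' := two_eq_zero hF
        have hk' : (k : F) + 1 ≠ 0 := by
          intro h0
          apply hk1
          apply Units.ext
          rw [Units.val_one]
          linear_combination h0 - h2'
        have hk'' : (k : F) ^ (sg m + 1) + 1 ≠ 0 := by
          intro h0
          apply hk1
          apply eq_one_of_pow_sg_succ hF
          apply Units.ext
          rw [Units.val_pow_eq_pow_val, Units.val_one]
          linear_combination h0 - h2'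
        set x₀ := a / ((k : F) + 1) with hx₀
        set y₀ := (b + a ^ sg m * ((k : F) * x₀)) / ((k : F) ^ (sg m + 1) + 1) with hy₀
        have e2 : (h * g * h⁻¹) • (ptO x₀ y₀ : Cfsg.suzukiOvoid F m) = ptO x₀ y₀ := by
          rw [hk, mul_smul, Dz_smul_ptO, Tz_smul_ptO]
          congr 1
          · rw [hx₀]; field_simp; linear_combination (a * (k : F)) * h2'
          · rw [hy₀]; field_simp
            linear_combination ((k : F) * (k : F) ^ sg m * b +
              (k : F) ^ 2 * (k : F) ^ sg m * a * a ^ sg m * (1 + (k : F))⁻¹) * h2'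
        apply h2
        refine ⟨ω, h⁻¹ • ptO x₀ y₀, ?_, hω, ?_⟩
        · intro h'
          rw [eq_inv_smul_iff, ha] at h'
          exact infO_ne_ptO _ _ h'
        · rw [mul_smul, mul_smul] at e2
          exact eq_inv_smul_iff.mpr e2
      rw [hk, hk1, Dz_one, mul_one]
      apply nilpotent_Tz hF hm
      rintro ⟨rfl, rfl⟩
      rw [hk1, Dz_one, mul_one, Tz_one] at hk
      apply hg1
      have := congrArg (fun z => h⁻¹ * z * h) hk
      simpa [mul_assoc] using this
    · push Not at h1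
      exact nilpotent_no_fix hF hm g h1

end Cfsg.Agent.Helper11.SzCN
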