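import Mathlib

/-! Burnside counting for a 2-transitive action: `∑ fix = |G|`, `∑ fix² = 2|G|`. -/

set_option autoImplicit false
set_option linter.unusedSectionVars false
set_option linter.unusedVariables false

namespace Cfsg.Agent.Helper11.TwoTransCount

open MulAction

variable {G X : Type*} [Group G] [MulAction G X] [Fintype G] [Finite X]

/-- number of fixed points -/
noncomputable def fixN (g : G) : ℕ := Nat.card (fixedBy X g)

theorem sum_fixN [IsPretransitive G X] [Nonempty X] :
    ∑ g : G, fixN (X := X) g = Fintype.card G := by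
  classical
  have : Fintype X := Fintype.ofFinite X
  have : ∀ g : G, Fintype (fixedBy X g) := fun g => Fintype.ofFinite _
  have : Fintype (Quotient (orbitRel G X)) := Fintype.ofFinite _
  have h := sum_card_fixedBy_eq_card_orbits_mul_card_group G X
  have h1 : Fintype.card (Quotient (orbitRel G X)) = 1 := by
    rw [Fintype.card_eq_one_iff]
    obtain ⟨x₀⟩ := ‹Nonempty X›
    refine ⟨Quotient.mk'' x₀, ?_⟩
    intro y
    induction y using Quotient.inductionOn' with
    | h y =>
      apply Quotient.sound'
      obtain ⟨g, hg⟩ := exists_smul_eq G x₀ y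
      exact ⟨g, hg⟩
  rw [h1, one_mul] at h
  rw [← h]
  apply Finset.sum_congr rfl
  intro g _
  unfold fixN
  rw [Nat.card_eq_fintype_card]

theorem sum_fixN_sq [IsPretransitive G X]
    (h2 : ∀ a b c d : X, a ≠ b → c ≠ d → ∃ g : G, g • a = c ∧ g • b = d)
    (hX : ∃ a b : X, a ≠ b) :
    ∑ g : G, fixN (X := X) g ^ 2 = 2 * Fintype.card G := by
  classical
  have : Fintype X := Fintype.ofFinite X
  have : ∀ g : G, Fintype (fixedBy (X × X) g) := fun g => Fintype.ofFinite _
  have : Fintype (Quotient (orbitRel G (X × X))) := Fintype.ofFinite _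
  have h := sum_card_fixedBy_eq_card_orbits_mul_card_group G (X × X)
  obtain ⟨a₀, b₀, hab₀⟩ := hX
  have h1 : Fintype.card (Quotient (orbitRel G (X × X))) = 2 := by
    rw [← Fintype.card_bool]
    apply Fintype.card_congr
    let f : Quotient (orbitRel G (X × X)) → Bool :=
      Quotient.lift (fun p : X × X => decide (p.1 = p.2)) (by
        rintro ⟨a, b⟩ ⟨c, d⟩ ⟨g, hg⟩
        have h1 : g • c = a := congrArg Prod.fst hg
        have h2 : g • d = b := congrArg Prod.snd hg
        show decide (a = b) = decide (c = d)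
        congr 1
        rw [← h1, ← h2]
        exact propext (MulAction.injective g).eq_iff)
    refine Equiv.ofBijective f ⟨?_, ?_⟩
    · intro x y
      induction x using Quotient.inductionOn with
      | h x =>
      induction y using Quotient.inductionOn with
      | h y =>
      obtain ⟨a, b⟩ := x
      obtain ⟨c, d⟩ := y
      intro hxy
      have hxy' : decide (a = b) = decide (c = d) := hxy
      apply Quotient.sound
      by_cases hab : a = b
      · have hcd : c = d := by simpa [hab] using hxy'
        subst hab hcd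
        obtain ⟨g, hg⟩ := exists_smul_eq G c a
        exact ⟨g, by show g • (c, c) = (a, a); rw [Prod.smul_mk, hg]⟩
      · have hcd : c ≠ d := by
          intro hcd
          simp [hab, hcd] at hxy'
        obtain ⟨g, hg1, hg2⟩ := h2 c d a b hcd hab
        exact ⟨g, by show g • (c, d) = (a, b); rw [Prod.smul_mk, hg1, hg2]⟩
    · intro b
      cases b with
      | false => exact ⟨Quotient.mk _ (a₀, b₀), by show decide (a₀ = b₀) = false; simp [hab₀]⟩
      | true => exact ⟨Quotient.mk _ (a₀, a₀), by show decide (a₀ = a₀) = true; simp⟩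
  rw [h1] at h
  rw [← h]
  apply Finset.sum_congr rfl
  intro g _
  unfold fixN
  rw [← Nat.card_eq_fintype_card, sq, ← Nat.card_prod]
  apply Nat.card_congr
  exact
    { toFun := fun p => ⟨(p.1.1, p.2.1), by
        show g • (p.1.1, p.2.1) = (p.1.1, p.2.1)
        rw [Prod.smul_mk, p.1.2, p.2.2]⟩
      invFun := fun p => (⟨p.1.1, congrArg Prod.fst p.2⟩, ⟨p.1.2, congrArg Prod.snd p.2⟩)
      left_inv := fun p => rfl
      right_inv := fun p => rfl }

theorem fixN_one : fixN (X := X) (1 : G) = Nat.card X := by
  unfold fixN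
  have : fixedBy X (1 : G) = Set.univ := by
    ext x
    simp [MulAction.mem_fixedBy]
  rw [this]
  exact Nat.card_congr (Equiv.Set.univ X)

/-- in a sharply-at-most-2-point-fixing 2-transitive action, count the fixed-point-free elements -/
theorem two_mul_card_fpf [DecidableEq G] [IsPretransitive G X]
    (h2 : ∀ a b c d : X, a ≠ b → c ≠ d → ∃ g : G, g • a = c ∧ g • b = d)
    (hX : ∃ a b : X, a ≠ b) (h3 : ∀ g : G, g ≠ 1 → fixN (X := X) g ≤ 2) :
    2 * (Finset.univ.filter (fun g : G => fixN (X := X) g = 0)).card +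
      (Nat.card X - 1) * (Nat.card X - 2) = Fintype.card G := by
  classical
  have : Nonempty X := by
    obtain ⟨a, _, _⟩ := hX
    exact ⟨a⟩
  have : Fintype X := Fintype.ofFinite X
  have hn2 : 2 ≤ Nat.card X := by
    rw [Nat.card_eq_fintype_card]
    obtain ⟨a, b, hab⟩ := hX
    exact Fintype.one_lt_card_iff.mpr ⟨a, b, hab⟩
  have s1 := sum_fixN (G := G) (X := X)
  have s2 := sum_fixN_sq (G := G) (X := X) h2 hX
  set n := Nat.card X with hn
  have key : ∀ g : G, ((fixN (X := X) g : ℤ) - 1) * ((fixN (X := X) g : ℤ) - 2) =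
      (if fixN (X := X) g = 0 then (2 : ℤ) else 0) +
        (if g = 1 then ((n : ℤ) - 1) * ((n : ℤ) - 2) else 0) := by
    intro g
    by_cases hg : g = 1
    · subst hg
      rw [fixN_one, ← hn, if_neg (by omega), if_pos rfl, zero_add]
    · rw [if_neg hg, add_zero]
      have := h3 g hg
      generalize fixN (X := X) g = k at *
      interval_cases k <;> simp
  have hsum : ∑ g : G, ((fixN (X := X) g : ℤ) - 1) * ((fixN (X := X) g : ℤ) - 2) =
      (Fintype.card G : ℤ) := by
    have e : ∀ g : G, ((fixN (X := X) g : ℤ) - 1) * ((fixN (X := X) g : ℤ) - 2) =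
        ((fixN (X := X) g ^ 2 : ℕ) : ℤ) - 3 * ((fixN (X := X) g : ℕ) : ℤ) + 2 := by
      intro g; push_cast; ring
    simp_rw [e]
    rw [Finset.sum_add_distrib, Finset.sum_sub_distrib, ← Nat.cast_sum, ← Finset.mul_sum,
      ← Nat.cast_sum, s1, s2]
    simp
    ring
  simp_rw [key] at hsum
  rw [Finset.sum_add_distrib, Finset.sum_ite_eq' Finset.univ (1 : G), if_pos (Finset.mem_univ _),
    Finset.sum_ite, Finset.sum_const_zero, add_zero, Finset.sum_const, nsmul_eq_mul] at hsum
  have h1 : ((n : ℤ) - 1) * ((n : ℤ) - 2) = (((n - 1) * (n - 2) : ℕ) : ℤ) := by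
    rw [Nat.cast_mul, Nat.cast_sub (by omega), Nat.cast_sub (by omega)]
    simp
  rw [h1] at hsum
  have : ((2 * (Finset.univ.filter (fun g : G => fixN (X := X) g = 0)).card +
      (n - 1) * (n - 2) : ℕ) : ℤ) = (Fintype.card G : ℤ) := by
    rw [← hsum]
    push_cast
    ring
  exact_mod_cast this

end Cfsg.Agent.Helper11.TwoTransCount
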