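import Mathlib
import Cfsg.Agent.Helper11.SzCNC
import Cfsg.Agent.Helper11.FieldComm
import Cfsg.Agent.Helper11.SelfCentTI
import Cfsg.Agent.Helper11.TwoTransCount

/-! Tori of the Suzuki group, part A: centralisers of fixed-point-free elements. -/

set_option autoImplicit false
set_option linter.unusedSectionVars false
set_option linter.unusedVariables false

namespace Cfsg.Agent.Helper11.SzTor

open Matrix Cfsg.Agent.Helper2.SzO Cfsg.Agent.Helper11.SzAut Cfsg.Agent.Helper11.SzCN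
  Cfsg.Agent.Helper11.SCTI

variable {F : Type*} [Field F] [Fintype F] {m : ℕ}

/-- the natural representation -/
noncomputable def rho : Cfsg.Sz F m →* Module.End F (Fin 4 → F) where
  toFun g := Matrix.toLinAlgEquiv' (g.1.1 : Matrix (Fin 4) (Fin 4) F)
  map_one' := by simp
  map_mul' a b := by simp

theorem rho_injective : Function.Injective (rho : Cfsg.Sz F m →* Module.End F (Fin 4 → F)) := by
  intro a b h
  apply Subtype.ext
  apply Subtype.ext
  exact Matrix.toLinAlgEquiv'.injective h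

/-- no fixed point on the ovoid -/
def NoFix (g : Cfsg.Sz F m) : Prop := ∀ ω : Cfsg.suzukiOvoid F m, g • ω ≠ ω

theorem NoFix.ne_one {g : Cfsg.Sz F m} (hg : NoFix g) : g ≠ 1 := by
  rintro rfl
  exact hg infO (one_smul _ _)

theorem NoFix.conj {g : Cfsg.Sz F m} (hg : NoFix g) (h : Cfsg.Sz F m) : NoFix (h * g * h⁻¹) := by
  intro ω hω
  apply hg (h⁻¹ • ω)
  rw [mul_smul, mul_smul] at hω
  have := congrArg (h⁻¹ • ·) hω
  simpa using this

theorem two_le_q : 2 ≤ 2 ^ (2 * m + 1) := by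
  calc 2 = 2 ^ 1 := by norm_num
    _ ≤ 2 ^ (2 * m + 1) := Nat.pow_le_pow_right (by norm_num) (by omega)

theorem prime_ne_two {p : ℕ} (hp : p ∣ (2 ^ (2 * m + 1)) ^ 2 + 1) : p ≠ 2 := by
  rintro rfl
  have : 2 ∣ (2 ^ (2 * m + 1)) ^ 2 := by
    rw [← pow_mul]
    exact dvd_pow_self 2 (by omega)
  have := (Nat.dvd_add_right this).mp hp
  omega

theorem prime_hyps (hF : Fintype.card F = 2 ^ (2 * m + 1)) {p : ℕ} (hpp : p.Prime)
    (hp : p ∣ (2 ^ (2 * m + 1)) ^ 2 + 1) :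
    ¬ p ∣ Nat.card F ∧
      ∀ d, 0 < d → d < Module.finrank F (Fin 4 → F) → ¬ p ∣ Nat.card F ^ d - 1 := by
  have hp2 := prime_ne_two hp
  rw [Nat.card_eq_fintype_card, hF, Module.finrank_fin_fun]
  refine ⟨?_, not_dvd_of_dvd hpp hp2 two_le_q hp⟩
  intro h
  exact hp2 ((Nat.prime_dvd_prime_iff_eq hpp Nat.prime_two).mp (hpp.dvd_of_dvd_pow h))

section

variable (hF : Fintype.card F = 2 ^ (2 * m + 1)) (hm : 1 ≤ m)

include hF hm

theorem noFix_of_comm {g x : Cfsg.Sz F m} (hg : NoFix g) (hx1 : x ≠ 1) (hcomm : x * g = g * x) :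
    NoFix x :=
  fun ω hω => no_fix_of_comm hF hm g x hg hx1 hcomm ω hω

/-- a power of prime order -/
theorem exists_prime_pow {g : Cfsg.Sz F m} (hg : NoFix g) :
    ∃ (p k : ℕ), p.Prime ∧ p ∣ (2 ^ (2 * m + 1)) ^ 2 + 1 ∧ (g ^ k) ^ p = 1 ∧ g ^ k ≠ 1 := by
  have hg1 : g ≠ 1 := hg.ne_one
  have hn1 : orderOf g ≠ 1 := fun h => hg1 (orderOf_eq_one_iff.mp h)
  have hn0 : orderOf g ≠ 0 := (orderOf_pos g).ne'
  set p := (orderOf g).minFac with hp
  have hpp : p.Prime := Nat.minFac_prime hn1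
  have : Fact p.Prime := ⟨hpp⟩
  have hpd : p ∣ orderOf g := Nat.minFac_dvd _
  set x := g ^ (orderOf g / p) with hx
  have hxo : orderOf x = p := orderOf_pow_orderOf_div hn0 hpd
  have hxp : x ^ p = 1 := by rw [← hxo]; exact pow_orderOf_eq_one x
  have hx1 : x ≠ 1 := by
    intro h
    rw [h, orderOf_one] at hxo
    exact hpp.one_lt.ne hxo
  have hcomm : x * g = g * x := by
    rw [hx, ← pow_succ, ← pow_succ']
  refine ⟨p, orderOf g / p, hpp, ?_, hxp, hx1⟩
  by_contra hnd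
  obtain ⟨ω, hω⟩ := exists_fix_of_prime hF x p 1 (by rw [pow_one]; exact hxp) hnd
  exact no_fix_of_comm hF hm g x hg hx1 hcomm ω hω

/-- the centraliser of a fixed-point-free element of prime order -/
theorem sc_of_prime {x : Cfsg.Sz F m} {p : ℕ} [Fact p.Prime] (hx : x ^ p = 1) (hx1 : x ≠ 1)
    (hp : p ∣ (2 ^ (2 * m + 1)) ^ 2 + 1) (hnf : NoFix x) :
    SC (Subgroup.centralizer ({x} : Set (Cfsg.Sz F m))) ∧
      ∀ t ∈ Subgroup.centralizer ({x} : Set (Cfsg.Sz F m)), t ≠ 1 → NoFix t := by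
  have hnf' : ∀ t ∈ Subgroup.centralizer ({x} : Set (Cfsg.Sz F m)), t ≠ 1 → NoFix t := by
    intro t ht ht1
    exact noFix_of_comm hF hm hnf ht1 (mem_centralizer_singleton.mp ht).symm
  refine ⟨?_, hnf'⟩
  intro t ht ht1
  have htx : x * t = t * x := mem_centralizer_singleton.mp ht
  apply le_antisymm
  · intro c hc
    have hct : t * c = c * t := mem_centralizer_singleton.mp hc
    obtain ⟨p', k, hpp', hp', hy, hy1⟩ := exists_prime_pow hF hm (hnf' t ht ht1)
    have : Fact p'.Prime := ⟨hpp'⟩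
    have hcy : c * t ^ k = t ^ k * c := ((Commute.pow_left (show Commute t c from hct) k).eq).symm
    have hxy : x * t ^ k = t ^ k * x := (Commute.pow_right (show Commute x t from htx) k).eq
    have := comm_of_prime hF hm (t ^ k) p' hy hy1 hp' c x hcy hxy
    exact mem_centralizer_singleton.mpr this.symm
  · intro c hc
    have hcx : c * x = x * c := (mem_centralizer_singleton.mp hc).symm
    have := comm_of_prime hF hm x p hx hx1 hp c t hcx htx.symm
    exact mem_centralizer_singleton.mpr this.symm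

/-- tori: self-centralising TI subgroups consisting of fixed-point-free elements -/
def IsTor (T : Subgroup (Cfsg.Sz F m)) : Prop :=
  T ≠ ⊥ ∧ SC T ∧ ∀ t ∈ T, t ≠ 1 → NoFix t

/-- the centraliser of a fixed-point-free element is a torus -/
theorem isTor_centralizer {g : Cfsg.Sz F m} (hg : NoFix g) :
    IsTor (Subgroup.centralizer ({g} : Set (Cfsg.Sz F m))) := by
  obtain ⟨p, k, hpp, hp, hx, hx1⟩ := exists_prime_pow hF hm hg
  have : Fact p.Prime := ⟨hpp⟩
  have hcomm : g ^ k * g = g * g ^ k := by rw [← pow_succ, ← pow_succ']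
  have hnf : NoFix (g ^ k) := noFix_of_comm hF hm hg hx1 hcomm
  obtain ⟨hsc, hnf'⟩ := sc_of_prime hF hm hx hx1 hp hnf
  have hgm : g ∈ Subgroup.centralizer ({g ^ k} : Set (Cfsg.Sz F m)) :=
    mem_centralizer_singleton.mpr hcomm
  have e : Subgroup.centralizer ({g} : Set (Cfsg.Sz F m)) =
      Subgroup.centralizer ({g ^ k} : Set (Cfsg.Sz F m)) := hsc g hgm hg.ne_one
  rw [e]
  refine ⟨?_, hsc, hnf'⟩
  intro hbot
  rw [hbot, Subgroup.mem_bot] at hgm
  exact hg.ne_one hgm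

theorem IsTor.exists_prime {T : Subgroup (Cfsg.Sz F m)} (hT : IsTor T) :
    ∃ x ∈ T, ∃ p : ℕ, p.Prime ∧ x ^ p = 1 ∧ x ≠ 1 ∧ p ∣ (2 ^ (2 * m + 1)) ^ 2 + 1 ∧
      T = Subgroup.centralizer ({x} : Set (Cfsg.Sz F m)) := by
  obtain ⟨hne, hsc, hnf⟩ := hT
  obtain ⟨t, ht1⟩ := Subgroup.ne_bot_iff_exists_ne_one.mp hne
  have ht1' : (t : Cfsg.Sz F m) ≠ 1 := fun h => ht1 (Subtype.ext h)
  obtain ⟨p, k, hpp, hp, hx, hx1⟩ := exists_prime_pow hF hm (hnf t.1 t.2 ht1')
  have hxT : t.1 ^ k ∈ T := T.pow_mem t.2 k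
  exact ⟨t.1 ^ k, hxT, p, hpp, hx, hx1, hp, (hsc _ hxT hx1).symm⟩

theorem IsTor.isCyclic {T : Subgroup (Cfsg.Sz F m)} (hT : IsTor T) : IsCyclic T := by
  obtain ⟨x, hxT, p, hpp, hx, hx1, hp, hTx⟩ := hT.exists_prime hF hm
  have : Fact p.Prime := ⟨hpp⟩
  obtain ⟨hq, hd⟩ := prime_hyps hF hpp hp
  exact FieldComm.isCyclic_of_le_centralizer rho rho_injective p x hx hx1 hq hd T hTx.le

theorem IsTor.card_normalizer_dvd {T : Subgroup (Cfsg.Sz F m)} (hT : IsTor T) :
    Nat.card (Subgroup.normalizer (T : Set (Cfsg.Sz F m))) ∣ 4 * Nat.card T := by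
  obtain ⟨x, hxT, p, hpp, hx, hx1, hp, hTx⟩ := hT.exists_prime hF hm
  have : Fact p.Prime := ⟨hpp⟩
  obtain ⟨hq, hd⟩ := prime_hyps hF hpp hp
  have hN : ∀ h ∈ Subgroup.normalizer (T : Set (Cfsg.Sz F m)), Commute (h * x * h⁻¹) x := by
    intro h hh
    have : h * x * h⁻¹ ∈ T := (Subgroup.mem_normalizer_iff.mp hh x).mp hxT
    exact hT.2.1.comm _ this _ hxT
  have := FieldComm.card_dvd rho rho_injective p x hx hx1 hq hd _ hN
  rw [Module.finrank_fin_fun, ← hTx, inf_eq_right.mpr Subgroup.le_normalizer] at this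
  exact this

omit hm in
/-- a subgroup acting freely on the ovoid has order dividing `q² + 1` -/
theorem card_dvd_of_free (T : Subgroup (Cfsg.Sz F m)) (hT : ∀ t ∈ T, t ≠ 1 → NoFix t) :
    Nat.card T ∣ (2 ^ (2 * m + 1)) ^ 2 + 1 := by
  classical
  have : Fintype (Cfsg.suzukiOvoid F m) := Fintype.ofFinite _
  have : Fintype T := Fintype.ofFinite _
  have : ∀ t : T, Fintype (MulAction.fixedBy (Cfsg.suzukiOvoid F m) t) :=
    fun t => Fintype.ofFinite _
  have : Fintype (Quotient (MulAction.orbitRel T (Cfsg.suzukiOvoid F m))) := Fintype.ofFinite _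
  have h := MulAction.sum_card_fixedBy_eq_card_orbits_mul_card_group T (Cfsg.suzukiOvoid F m)
  have hcard : Fintype.card (Cfsg.suzukiOvoid F m) = (2 ^ (2 * m + 1)) ^ 2 + 1 := by
    rw [← Nat.card_eq_fintype_card, card_ovoid, hF]
  have h1 : ∑ t : T, Fintype.card (MulAction.fixedBy (Cfsg.suzukiOvoid F m) t) =
      (2 ^ (2 * m + 1)) ^ 2 + 1 := by
    rw [Finset.sum_eq_single (1 : T)]
    · rw [← hcard, ← Nat.card_eq_fintype_card, ← Nat.card_eq_fintype_card]
      exact TwoTransCount.fixN_one (G := T) (X := Cfsg.suzukiOvoid F m)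
    · intro t _ ht1
      rw [Fintype.card_eq_zero_iff]
      refine ⟨fun ω => ?_⟩
      have ht1' : (t : Cfsg.Sz F m) ≠ 1 := fun h => ht1 (Subtype.ext h)
      exact hT t.1 t.2 ht1' ω.1 ω.2
    · intro h
      exact absurd (Finset.mem_univ _) h
  rw [h1] at h
  rw [Nat.card_eq_fintype_card]
  exact Dvd.intro_left _ h.symm

theorem IsTor.card_dvd {T : Subgroup (Cfsg.Sz F m)} (hT : IsTor T) :
    Nat.card T ∣ (2 ^ (2 * m + 1)) ^ 2 + 1 :=
  card_dvd_of_free hF T hT.2.2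

omit hF hm in
theorem five_le_of_dvd {d : ℕ} (hd : d ∣ (2 ^ (2 * m + 1)) ^ 2 + 1) (hd1 : d ≠ 1) : 5 ≤ d := by
  have h4 : (2 ^ (2 * m + 1)) ^ 2 = 4 ^ (2 * m + 1) := by
    rw [← pow_mul, mul_comm, pow_mul]; norm_num
  rw [h4] at hd
  have hmod3 : (4 ^ (2 * m + 1) + 1) % 3 = 2 := by
    rw [Nat.add_mod, Nat.pow_mod]; norm_num
  have hmod2 : (4 ^ (2 * m + 1) + 1) % 2 = 1 := by
    rw [Nat.add_mod, Nat.pow_mod]; norm_num
  have hd0 : d ≠ 0 := by
    rintro rfl
    rw [zero_dvd_iff] at hd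
    omega
  by_contra hlt
  have : d = 2 ∨ d = 3 ∨ d = 4 := by omega
  rcases this with rfl | rfl | rfl
  · omega
  · omega
  · have : 2 ∣ 4 ^ (2 * m + 1) + 1 := dvd_trans (by norm_num) hd
    omega

theorem IsTor.five_le {T : Subgroup (Cfsg.Sz F m)} (hT : IsTor T) : 5 ≤ Nat.card T := by
  apply five_le_of_dvd (hT.card_dvd hF hm)
  intro h
  exact hT.1 (Subgroup.card_eq_one.mp h)

omit hF hm in
theorem IsTor.conj {T : Subgroup (Cfsg.Sz F m)} (hT : IsTor T) (h : Cfsg.Sz F m) :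
    IsTor (cj h T) := by
  obtain ⟨hne, hsc, hnf⟩ := hT
  refine ⟨?_, hsc.conj h, ?_⟩
  · intro hbot
    apply hne
    rw [← Subgroup.card_eq_one] at hbot ⊢
    rw [← card_cj h T]
    exact hbot
  · intro t ht ht1
    rw [mem_cj] at ht
    have ht1' : h⁻¹ * t * h ≠ 1 := by
      intro h1
      apply ht1
      have := congrArg (fun z => h * z * h⁻¹) h1
      simpa [mul_assoc] using this
    have := (hnf _ ht ht1').conj h
    have e : h * (h⁻¹ * t * h) * h⁻¹ = t := by group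
    rw [e] at this
    exact this

end

end Cfsg.Agent.Helper11.SzTor
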