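import Mathlib
import Cfsg.Agent.Helper11.SzTorusA

/-! Tori of the Suzuki group, part B: counting fixed-point-free elements. -/

set_option autoImplicit false
set_option linter.unusedSectionVars false
set_option linter.unusedVariables false

namespace Cfsg.Agent.Helper11.SzTor

open Matrix Cfsg.Agent.Helper2.SzO Cfsg.Agent.Helper11.SzAut Cfsg.Agent.Helper11.SzCN
  Cfsg.Agent.Helper11.SCTI

variable {F : Type*} [Field F] [Fintype F] {m : ℕ}

theorem exists_to_inf (hF : Fintype.card F = 2 ^ (2 * m + 1)) (ω : Cfsg.suzukiOvoid F m) :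
    ∃ h : Cfsg.Sz F m, h • ω = infO := by
  by_cases hω : ω = infO
  · exact ⟨1, by rw [one_smul, hω]⟩
  · obtain ⟨h, ha, -⟩ := exists_move hF hω
    exact ⟨h, ha⟩

theorem isPretransitive (hF : Fintype.card F = 2 ^ (2 * m + 1)) :
    MulAction.IsPretransitive (Cfsg.Sz F m) (Cfsg.suzukiOvoid F m) := by
  refine ⟨fun a b => ?_⟩
  obtain ⟨h1, h1a⟩ := exists_to_inf hF a
  obtain ⟨h2, h2b⟩ := exists_to_inf hF b
  exact ⟨h2⁻¹ * h1, by rw [mul_smul, h1a, inv_smul_eq_iff, h2b]⟩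

theorem fixN_eq_zero_iff (g : Cfsg.Sz F m) :
    TwoTransCount.fixN (X := Cfsg.suzukiOvoid F m) g = 0 ↔ NoFix g := by
  unfold TwoTransCount.fixN
  rw [Nat.card_eq_zero]
  constructor
  · rintro (h | h)
    · intro ω hω
      exact h.false ⟨ω, hω⟩
    · exact absurd (inferInstance : Finite _) (not_finite_iff_infinite.mpr h)
  · intro h
    left
    exact ⟨fun ω => h ω.1 ω.2⟩

theorem fixN_le_two (hF : Fintype.card F = 2 ^ (2 * m + 1)) (hm : 1 ≤ m) (g : Cfsg.Sz F m)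
    (hg : g ≠ 1) : TwoTransCount.fixN (X := Cfsg.suzukiOvoid F m) g ≤ 2 := by
  classical
  unfold TwoTransCount.fixN
  by_contra hlt
  push Not at hlt
  have : Fintype (MulAction.fixedBy (Cfsg.suzukiOvoid F m) g) := Fintype.ofFinite _
  rw [Nat.card_eq_fintype_card, Fintype.two_lt_card_iff] at hlt
  obtain ⟨a, b, c, hab, hac, hbc⟩ := hlt
  apply hg
  exact three_point hF hm g a.1 b.1 c.1 (fun h => hab (Subtype.ext h)) (fun h => hbc (Subtype.ext h))
    (fun h => hac (Subtype.ext h)) a.2 b.2 c.2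

/-- the number of fixed-point-free elements -/
theorem two_mul_card_noFix (hF : Fintype.card F = 2 ^ (2 * m + 1)) (hm : 1 ≤ m) :
    2 * Nat.card {g : Cfsg.Sz F m // NoFix g} =
      (2 ^ (2 * m + 1)) ^ 3 * (2 ^ (2 * m + 1) - 1) ^ 2 := by
  classical
  have : Fintype (Cfsg.Sz F m) := Fintype.ofFinite _
  have := isPretransitive (m := m) hF
  have h2 : ∀ a b c d : Cfsg.suzukiOvoid F m, a ≠ b → c ≠ d →
      ∃ g : Cfsg.Sz F m, g • a = c ∧ g • b = d := by
    intro a b c d hab hcd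
    obtain ⟨h1, h1a, h1b⟩ := exists_move hF hab
    obtain ⟨h2, h2c, h2d⟩ := exists_move hF hcd
    refine ⟨h2⁻¹ * h1, ?_, ?_⟩
    · rw [mul_smul, h1a, inv_smul_eq_iff, h2c]
    · rw [mul_smul, h1b, inv_smul_eq_iff, h2d]
  have hX : ∃ a b : Cfsg.suzukiOvoid F m, a ≠ b := ⟨infO, ptO 0 0, infO_ne_ptO 0 0⟩
  have key := TwoTransCount.two_mul_card_fpf (G := Cfsg.Sz F m) (X := Cfsg.suzukiOvoid F m)
    h2 hX (fixN_le_two hF hm)
  have hc : (Finset.univ.filter (fun g : Cfsg.Sz F m =>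
      TwoTransCount.fixN (X := Cfsg.suzukiOvoid F m) g = 0)).card =
      Nat.card {g : Cfsg.Sz F m // NoFix g} := by
    rw [Nat.card_eq_fintype_card, Fintype.card_subtype]
    congr 1
    ext g
    simp only [Finset.mem_filter, Finset.mem_univ, true_and]
    exact fixN_eq_zero_iff g
  rw [hc, card_ovoid, hF, ← Nat.card_eq_fintype_card, card_Sz hF hm] at key
  have hq : 2 ≤ 2 ^ (2 * m + 1) := two_le_q
  generalize 2 ^ (2 * m + 1) = q at *
  generalize Nat.card {g : Cfsg.Sz F m // NoFix g} = r at *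
  obtain ⟨k, rfl⟩ : ∃ k, q = k + 2 := ⟨q - 2, by omega⟩
  simp only [Nat.add_sub_cancel] at key ⊢
  have e1 : (k + 2) ^ 2 + 1 - 1 = (k + 2) ^ 2 := by omega
  have e2 : (k + 2) ^ 2 + 1 - 2 = (k + 2) ^ 2 - 1 := by omega
  have e3 : (k + 2) ^ 2 - 1 = (k + 1) * (k + 3) := by
    have : (k + 2) ^ 2 = (k + 1) * (k + 3) + 1 := by ring
    omega
  have e4 : k + 2 - 1 = k + 1 := by omega
  rw [e2, e3, e4] at key
  rw [e4]
  nlinarith [key]

end Cfsg.Agent.Helper11.SzTor
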