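import Mathlib
import Cfsg.Agent.Helper11.SzTorusB
import Cfsg.Agent.Helper11.SzTorusArith

/-! Tori of the Suzuki group, part C: the two classes of tori. -/

set_option autoImplicit false
set_option linter.unusedSectionVars false
set_option linter.unusedVariables false

namespace Cfsg.Agent.Helper11.SzTor

open Matrix Cfsg.Agent.Helper2.SzO Cfsg.Agent.Helper11.SzAut Cfsg.Agent.Helper11.SzCN
  Cfsg.Agent.Helper11.SCTI

variable {F : Type*} [Field F] [Fintype F] {m : ℕ}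

theorem cov_subset {T : Subgroup (Cfsg.Sz F m)} (hT : IsTor T) :
    cov T ⊆ {g : Cfsg.Sz F m | NoFix g} := by
  rintro g ⟨hg1, h, hh⟩
  have hne : h * g * h⁻¹ ≠ 1 := by
    intro h1
    apply hg1
    have := congrArg (fun z => h⁻¹ * z * h) h1
    simpa [mul_assoc] using this
  have := (hT.2.2 _ hh hne).conj h⁻¹
  have e : h⁻¹ * (h * g * h⁻¹) * h⁻¹⁻¹ = g := by group
  rw [e] at this
  exact this

theorem mem_cov_centralizer {g : Cfsg.Sz F m} (hg : NoFix g) :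
    g ∈ cov (Subgroup.centralizer ({g} : Set (Cfsg.Sz F m))) := by
  refine ⟨hg.ne_one, 1, ?_⟩
  rw [mem_centralizer_singleton]
  group

theorem conj_of_cov_inter {T T' : Subgroup (Cfsg.Sz F m)} (hT : IsTor T) (hT' : IsTor T')
    {g : Cfsg.Sz F m} (h1 : g ∈ cov T) (h2 : g ∈ cov T') : ∃ h, T' = cj h T := by
  obtain ⟨hg1, a, ha⟩ := h1
  obtain ⟨-, b, hb⟩ := h2
  have m1 : g ∈ cj a⁻¹ T := by rw [mem_cj, inv_inv]; exact ha
  have m2 : g ∈ cj b⁻¹ T' := by rw [mem_cj, inv_inv]; exact hb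
  have e := SC.eq_of_mem (hT.2.1.conj a⁻¹) (hT'.2.1.conj b⁻¹) hg1 m1 m2
  refine ⟨b * a⁻¹, ?_⟩
  rw [← cj_cj, e, cj_cj, mul_inv_cancel, cj_one]

section

variable (hF : Fintype.card F = 2 ^ (2 * m + 1)) (hm : 1 ≤ m)

include hF hm

theorem weight {T : Subgroup (Cfsg.Sz F m)} (hT : IsTor T) :
    ∃ a : ℕ, (a = 1 ∨ a = 2 ∨ a = 4) ∧
      Nat.card (Subgroup.normalizer (T : Set (Cfsg.Sz F m))) * a = 4 * Nat.card T ∧
      4 * Nat.card T * (cov T).ncard = a * Nat.card (Cfsg.Sz F m) * (Nat.card T - 1) := by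
  obtain ⟨a, ha⟩ := hT.card_normalizer_dvd hF hm
  obtain ⟨w, hw⟩ := Subgroup.card_dvd_of_le (Subgroup.le_normalizer (H := T))
  have hu : 0 < Nat.card T := Nat.card_pos
  have hwa : w * a = 4 := by
    have : Nat.card T * (w * a) = Nat.card T * 4 := by
      calc Nat.card T * (w * a) = (Nat.card T * w) * a := by ring
        _ = 4 * Nat.card T := by rw [← hw, ← ha]
        _ = Nat.card T * 4 := by ring
    exact Nat.eq_of_mul_eq_mul_left hu this
  have ha4 : a ∣ 4 := ⟨w, by rw [← hwa]; ring⟩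
  have ha' : a = 1 ∨ a = 2 ∨ a = 4 := by
    have hle := Nat.le_of_dvd (by norm_num) ha4
    interval_cases a <;> simp_all
  refine ⟨a, ha', ha.symm, ?_⟩
  have hc := card_cov hT.2.1
  rw [_root_.Nat.card_coe_set_eq] at hc
  calc 4 * Nat.card T * (cov T).ncard
      = (cov T).ncard * (Nat.card (Subgroup.normalizer (T : Set (Cfsg.Sz F m))) * a) := by
        rw [← ha]; ring
    _ = a * ((cov T).ncard * Nat.card (Subgroup.normalizer (T : Set (Cfsg.Sz F m)))) := by ring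
    _ = a * Nat.card (Cfsg.Sz F m) * (Nat.card T - 1) := by rw [hc]; ring

theorem five_mul_cov_ge {T : Subgroup (Cfsg.Sz F m)} (hT : IsTor T) :
    Nat.card (Cfsg.Sz F m) ≤ 5 * (cov T).ncard := by
  obtain ⟨a, ha, -, hw⟩ := weight hF hm hT
  have hu := hT.five_le hF hm
  obtain ⟨t, ht⟩ : ∃ t, Nat.card T = t + 1 := ⟨Nat.card T - 1, by omega⟩
  rw [ht, Nat.add_sub_cancel] at hw
  have h1 : 1 ≤ a := by rcases ha with rfl | rfl | rfl <;> norm_num
  have h2 : 4 * (t + 1) * Nat.card (Cfsg.Sz F m) ≤ 4 * (t + 1) * (5 * (cov T).ncard) := by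
    calc 4 * (t + 1) * Nat.card (Cfsg.Sz F m) ≤ 5 * t * Nat.card (Cfsg.Sz F m) := by
          apply Nat.mul_le_mul_right; omega
      _ = 5 * (1 * Nat.card (Cfsg.Sz F m) * t) := by ring
      _ ≤ 5 * (a * Nat.card (Cfsg.Sz F m) * t) := by
          apply Nat.mul_le_mul_left
          apply Nat.mul_le_mul_right
          exact Nat.mul_le_mul_right _ h1
      _ = 5 * (4 * (t + 1) * (cov T).ncard) := by rw [hw]
      _ = 4 * (t + 1) * (5 * (cov T).ncard) := by ring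
  exact Nat.le_of_mul_le_mul_left h2 (by omega)

/-- the two classes of tori of the Suzuki group -/
theorem main : ∃ T₁ T₂ : Subgroup (Cfsg.Sz F m), IsTor T₁ ∧ IsTor T₂ ∧
    Nat.card T₁ = 2 ^ (2 * m + 1) + 2 ^ (m + 1) + 1 ∧
    Nat.card T₂ = 2 ^ (2 * m + 1) - 2 ^ (m + 1) + 1 ∧
    Nat.card (Subgroup.normalizer (T₁ : Set (Cfsg.Sz F m))) = 4 * Nat.card T₁ ∧
    Nat.card (Subgroup.normalizer (T₂ : Set (Cfsg.Sz F m))) = 4 * Nat.card T₂ ∧
    ∀ T, IsTor T → (∃ h, T = cj h T₁) ∨ (∃ h, T = cj h T₂) := by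
  classical
  have hq2 := two_le_q (m := m)
  have hq8 : 8 ≤ 2 ^ (2 * m + 1) := by
    calc 8 = 2 ^ 3 := by norm_num
      _ ≤ 2 ^ (2 * m + 1) := Nat.pow_le_pow_right (by norm_num) (by omega)
  have hqeven : Even (2 ^ (2 * m + 1)) := (Nat.even_pow' (by omega)).mpr even_two
  have hs : (2 ^ (m + 1)) ^ 2 = 2 * 2 ^ (2 * m + 1) := by
    rw [← pow_mul, ← pow_succ']
    congr 1
    ring
  have hG := card_Sz hF hm
  have hR := two_mul_card_noFix hF hm
  have hdvd₀ : ∀ T : Subgroup (Cfsg.Sz F m), IsTor T → Nat.card T ∣ (2 ^ (2 * m + 1)) ^ 2 + 1 :=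
    fun T hT => hT.card_dvd hF hm
  obtain ⟨k, hk⟩ : ∃ k, 2 ^ (2 * m + 1) = k + 1 := ⟨2 ^ (2 * m + 1) - 1, by omega⟩
  rw [hk] at hG hR hs hdvd₀ hq8 hqeven ⊢
  rw [Nat.add_sub_cancel] at hG hR
  have hk7 : 7 ≤ k := by omega
  have hodd : Odd k := by
    rcases Nat.even_or_odd k with h | h
    · exfalso
      have := Nat.even_add_one.mp hqeven
      exact this h
    · exact h
  set Rs : Set (Cfsg.Sz F m) := {g | NoFix g} with hRsdef
  have hRs : 2 * Rs.ncard = (k + 1) ^ 3 * k ^ 2 := hR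
  -- step 0 : a torus exists
  have hRpos : 0 < Rs.ncard := by
    have : 0 < (k + 1) ^ 3 * k ^ 2 := by positivity
    omega
  obtain ⟨g₀, hg₀⟩ : ∃ g : Cfsg.Sz F m, NoFix g := by
    have hne : Rs.Nonempty := by
      rw [← Set.ncard_pos]
      exact hRpos
    exact hne
  set T₁ := Subgroup.centralizer ({g₀} : Set (Cfsg.Sz F m)) with hT₁def
  have hT₁ : IsTor T₁ := isTor_centralizer hF hm hg₀
  -- step A : a second class exists
  have stepA : ∃ T₂ : Subgroup (Cfsg.Sz F m), IsTor T₂ ∧ ¬ ∃ h, T₂ = cj h T₁ := by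
    by_contra hcon
    push Not at hcon
    have hRe : Rs = cov T₁ := by
      apply Set.Subset.antisymm
      · intro g hg
        obtain ⟨h, hh⟩ := hcon _ (isTor_centralizer hF hm hg)
        have := mem_cov_centralizer hg
        rw [hh, cov_cj] at this
        exact this
      · exact cov_subset hT₁
    obtain ⟨a, ha, -, hw⟩ := weight hF hm hT₁
    rw [← hRe, hG] at hw
    exact SzTorArith.arith_one k (Nat.card T₁) Rs.ncard a hk7 (hT₁.five_le hF hm) ha hRs hw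
  obtain ⟨T₂, hT₂, hnc⟩ := stepA
  have d12 : Disjoint (cov T₁) (cov T₂) :=
    Set.disjoint_left.mpr (fun g h1 h2 => hnc (conj_of_cov_inter hT₁ hT₂ h1 h2))
  -- step B : no third class
  have stepB : ∀ T, IsTor T → (∃ h, T = cj h T₁) ∨ (∃ h, T = cj h T₂) := by
    intro T₃ hT₃
    by_contra hcon
    push Not at hcon
    obtain ⟨hc1, hc2⟩ := hcon
    have d13 : Disjoint (cov T₁) (cov T₃) :=
      Set.disjoint_left.mpr (fun g h1 h2 => by
        obtain ⟨h, hh⟩ := conj_of_cov_inter hT₁ hT₃ h1 h2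
        exact hc1 h hh)
    have d23 : Disjoint (cov T₂) (cov T₃) :=
      Set.disjoint_left.mpr (fun g h1 h2 => by
        obtain ⟨h, hh⟩ := conj_of_cov_inter hT₂ hT₃ h1 h2
        exact hc2 h hh)
    have hsub : cov T₁ ∪ cov T₂ ∪ cov T₃ ⊆ Rs :=
      Set.union_subset (Set.union_subset (cov_subset hT₁) (cov_subset hT₂)) (cov_subset hT₃)
    have hcard : (cov T₁).ncard + (cov T₂).ncard + (cov T₃).ncard ≤ Rs.ncard := by
      rw [← Set.ncard_union_eq d12, ← Set.ncard_union_eq (Set.disjoint_union_left.mpr ⟨d13, d23⟩)]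
      exact Set.ncard_le_ncard hsub
    have f1 := five_mul_cov_ge hF hm hT₁
    have f2 := five_mul_cov_ge hF hm hT₂
    have f3 := five_mul_cov_ge hF hm hT₃
    exact SzTorArith.arith_three k _ _ _ _ _ hk7 hG hRs f1 f2 f3 hcard
  -- step C : the fixed-point-free elements are covered by the two classes
  have hRe : Rs = cov T₁ ∪ cov T₂ := by
    apply Set.Subset.antisymm
    · intro g hg
      have hmem := mem_cov_centralizer hg
      rcases stepB _ (isTor_centralizer hF hm hg) with ⟨h, hh⟩ | ⟨h, hh⟩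
      · left
        rw [hh, cov_cj] at hmem
        exact hmem
      · right
        rw [hh, cov_cj] at hmem
        exact hmem
    · exact Set.union_subset (cov_subset hT₁) (cov_subset hT₂)
  have hsum : (cov T₁).ncard + (cov T₂).ncard = Rs.ncard := by
    rw [hRe, Set.ncard_union_eq d12]
  -- step D : arithmetic
  have hcop : Nat.Coprime (Nat.card T₁) (Nat.card T₂) := by
    apply Nat.coprime_of_dvd
    intro p hp h1 h2
    have : Fact p.Prime := ⟨hp⟩
    exact hnc (SC.conj_of_prime hT₁.2.1 hT₂.2.1 p h1 h2)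
  obtain ⟨v, hv⟩ := Nat.Coprime.mul_dvd_of_dvd_of_dvd hcop (hdvd₀ T₁ hT₁) (hdvd₀ T₂ hT₂)
  obtain ⟨a₁, ha₁, hn₁, hw₁⟩ := weight hF hm hT₁
  obtain ⟨a₂, ha₂, hn₂, hw₂⟩ := weight hF hm hT₂
  rw [hG] at hw₁ hw₂
  have hc : 2 * ((cov T₁).ncard + (cov T₂).ncard) = (k + 1) ^ 3 * k ^ 2 := by rw [hsum, hRs]
  obtain ⟨hv1, rfl, rfl, hsum'⟩ := SzTorArith.arith_two k (Nat.card T₁) (Nat.card T₂) v
    (cov T₁).ncard (cov T₂).ncard a₁ a₂ hk7 hodd (hT₁.five_le hF hm) (hT₂.five_le hF hm) ha₁ ha₂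
    hv hw₁ hw₂ hc
  rw [hv1, mul_one] at hv
  rw [mul_one] at hn₁ hn₂
  rcases SzTorArith.arith_solve (k + 1) (2 ^ (m + 1)) (Nat.card T₁) (Nat.card T₂) hs hsum' hv.symm
    with ⟨e1, e2⟩ | ⟨e1, e2⟩
  · exact ⟨T₁, T₂, hT₁, hT₂, e1, e2, hn₁, hn₂, stepB⟩
  · exact ⟨T₂, T₁, hT₂, hT₁, e2, e1, hn₂, hn₁, fun T hT => (stepB T hT).symm⟩

end

end Cfsg.Agent.Helper11.SzTor
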