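import Mathlib
import Cfsg.Agent.Helper11.SzTorusC

/-! The partition of the Suzuki group, part A: generalities, the split torus. -/

set_option autoImplicit false
set_option linter.unusedSectionVars false
set_option linter.unusedVariables false

namespace Cfsg.Agent.Helper11.SzPart

open Matrix Cfsg.Agent.Helper2.SzO Cfsg.Agent.Helper11.SzAut Cfsg.Agent.Helper11.SzCN
  Cfsg.Agent.Helper11.SCTI Cfsg.Agent.Helper11.SzTor

section generic

variable {G : Type*} [Group G]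

/-- the admissible members of the partition -/
def Good (S : Set ℕ) (U : Subgroup G) : Prop :=
  (∃ P : Sylow 2 G, U = (P : Subgroup G)) ∨ (IsCyclic U ∧ Nat.card U ∈ S)

theorem isCyclic_cj (h : G) (U : Subgroup G) (hU : IsCyclic U) : IsCyclic (cj h U) := by
  let e := U.equivMapOfInjective (MulAut.conj h).toMonoidHom (MulAut.conj h).injective
  exact isCyclic_of_surjective e e.surjective

theorem Good.conj {S : Set ℕ} {U : Subgroup G} (hU : Good S U) (h : G) : Good S (cj h U) := by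
  rcases hU with ⟨P, rfl⟩ | ⟨hc, hn⟩
  · left
    refine ⟨h • P, ?_⟩
    rw [Sylow.coe_subgroup_smul]
    rfl
  · right
    exact ⟨isCyclic_cj h U hc, by rw [card_cj]; exact hn⟩

/-- the partition property is invariant under conjugation -/
theorem partition_conj (S : Set ℕ) (g h : G)
    (hg : ∃! U : Subgroup G, Good S U ∧ h * g * h⁻¹ ∈ U) : ∃! U : Subgroup G, Good S U ∧ g ∈ U := by
  obtain ⟨U, ⟨hU, hgU⟩, huniq⟩ := hg
  refine ⟨cj h⁻¹ U, ⟨hU.conj h⁻¹, ?_⟩, ?_⟩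
  · rw [mem_cj, inv_inv]
    exact hgU
  · rintro V ⟨hV, hgV⟩
    have := huniq (cj h V) ⟨hV.conj h, conj_mem_cj hgV⟩
    rw [← this, cj_cj, inv_mul_cancel, cj_one]

/-- an element of a `2`-group lying in a subgroup of odd order is trivial -/
theorem eq_one_of_two_group_of_odd {P U : Subgroup G} [Finite U] (hP : IsPGroup 2 P)
    (hU : Odd (Nat.card U)) {g : G} (hgP : g ∈ P) (hgU : g ∈ U) : g = 1 := by
  obtain ⟨j, hj⟩ := hP ⟨g, hgP⟩
  have hj' : g ^ 2 ^ j = 1 := congrArg Subtype.val hj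
  have h1 : orderOf g ∣ 2 ^ j := orderOf_dvd_of_pow_eq_one hj'
  have h2 : orderOf g ∣ Nat.card U := by
    have := orderOf_dvd_natCard (⟨g, hgU⟩ : U)
    rwa [Subgroup.orderOf_mk] at this
  have hcop : Nat.Coprime (2 ^ j) (Nat.card U) :=
    Nat.Coprime.pow_left j (Nat.coprime_two_left.mpr hU)
  have := Nat.eq_one_of_dvd_coprimes hcop h1 h2
  exact orderOf_eq_one_iff.mp this

end generic

section arith

variable {m : ℕ}

theorem s_le_q : 2 ^ (m + 1) ≤ 2 ^ (2 * m + 1) := Nat.pow_le_pow_right (by norm_num) (by omega)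

theorem s_sq : (2 ^ (m + 1)) ^ 2 = 2 * 2 ^ (2 * m + 1) := by
  rw [← pow_mul, ← pow_succ']
  congr 1
  ring

theorem prod_eq : (2 ^ (2 * m + 1) + 2 ^ (m + 1) + 1) * (2 ^ (2 * m + 1) - 2 ^ (m + 1) + 1) =
    (2 ^ (2 * m + 1)) ^ 2 + 1 := by
  have h1 := s_le_q (m := m)
  have h2 := s_sq (m := m)
  obtain ⟨d, hd⟩ : ∃ d, 2 ^ (2 * m + 1) = 2 ^ (m + 1) + d := ⟨_, (Nat.add_sub_cancel' h1).symm⟩
  rw [hd] at h2 ⊢
  rw [Nat.add_sub_cancel_left]
  nlinarith [h2]

theorem odd_q_sub_one : Odd (2 ^ (2 * m + 1) - 1) := by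
  have : 2 ^ (2 * m + 1) = 2 * 2 ^ (2 * m) := by rw [pow_succ']
  rw [this]
  exact ⟨2 ^ (2 * m) - 1, by have : 1 ≤ 2 ^ (2 * m) := Nat.one_le_two_pow; omega⟩

theorem odd_plus : Odd (2 ^ (2 * m + 1) + 2 ^ (m + 1) + 1) := by
  have h1 : 2 ^ (2 * m + 1) = 2 * 2 ^ (2 * m) := by rw [pow_succ']
  have h2 : 2 ^ (m + 1) = 2 * 2 ^ m := by rw [pow_succ']
  rw [h1, h2]
  exact ⟨2 ^ (2 * m) + 2 ^ m, by ring⟩

theorem odd_minus : Odd (2 ^ (2 * m + 1) - 2 ^ (m + 1) + 1) := by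
  have h1 : 2 ^ (2 * m + 1) = 2 * 2 ^ (2 * m) := by rw [pow_succ']
  have h2 : 2 ^ (m + 1) = 2 * 2 ^ m := by rw [pow_succ']
  have h3 := s_le_q (m := m)
  rw [h1, h2] at h3 ⊢
  exact ⟨2 ^ (2 * m) - 2 ^ m, by omega⟩

theorem coprime_sub_one_sq : Nat.Coprime (2 ^ (2 * m + 1) - 1) ((2 ^ (2 * m + 1)) ^ 2 + 1) := by
  have hodd := odd_q_sub_one (m := m)
  have h1 : 1 ≤ 2 ^ (2 * m + 1) := Nat.one_le_two_pow
  obtain ⟨k, hk⟩ : ∃ k, 2 ^ (2 * m + 1) = k + 1 := ⟨_, (Nat.sub_add_cancel h1).symm⟩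
  rw [hk] at hodd ⊢
  rw [Nat.add_sub_cancel] at hodd ⊢
  have : (k + 1) ^ 2 + 1 = 2 + k * (k + 2) := by ring
  rw [this, Nat.coprime_add_mul_left_right]
  exact Nat.coprime_two_right.mpr hodd

theorem coprime_plus_minus :
    Nat.Coprime (2 ^ (2 * m + 1) + 2 ^ (m + 1) + 1) (2 ^ (2 * m + 1) - 2 ^ (m + 1) + 1) := by
  have h1 := s_le_q (m := m)
  have hodd := odd_minus (m := m)
  have e : 2 ^ (2 * m + 1) + 2 ^ (m + 1) + 1 =
      (2 ^ (2 * m + 1) - 2 ^ (m + 1) + 1) + 2 ^ (m + 2) := by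
    have : 2 ^ (m + 2) = 2 * 2 ^ (m + 1) := by rw [pow_succ']
    rw [this]
    generalize 2 ^ (2 * m + 1) = q at *
    generalize 2 ^ (m + 1) = s at *
    omega
  rw [e, Nat.coprime_self_add_left]
  exact Nat.Coprime.pow_left _ (Nat.coprime_two_left.mpr hodd)

/-- the set of orders of the cyclic members -/
def SS (m : ℕ) : Set ℕ :=
  {2 ^ (2 * m + 1) - 1, 2 ^ (2 * m + 1) + 2 ^ (m + 1) + 1, 2 ^ (2 * m + 1) - 2 ^ (m + 1) + 1}

theorem odd_of_mem_SS {n : ℕ} (hn : n ∈ SS m) : Odd n := by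
  rcases hn with rfl | rfl | rfl
  · exact odd_q_sub_one
  · exact odd_plus
  · exact odd_minus

theorem one_lt_of_mem_SS (hm : 1 ≤ m) {n : ℕ} (hn : n ∈ SS m) : 1 < n := by
  have h1 := s_le_q (m := m)
  have h8 : 8 ≤ 2 ^ (2 * m + 1) := by
    calc 8 = 2 ^ 3 := by norm_num
      _ ≤ 2 ^ (2 * m + 1) := Nat.pow_le_pow_right (by norm_num) (by omega)
  have h3 : 2 ^ (m + 1) < 2 ^ (2 * m + 1) := Nat.pow_lt_pow_right (by norm_num) (by omega)
  rcases hn with rfl | rfl | rfl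
  · omega
  · generalize 2 ^ (2 * m + 1) = q at *
    generalize 2 ^ (m + 1) = s at *
    omega
  · generalize 2 ^ (2 * m + 1) = q at *
    generalize 2 ^ (m + 1) = s at *
    omega

theorem eq_of_dvd_SS (hm : 1 ≤ m) {n n₀ : ℕ} (hn : n ∈ SS m) (hn₀ : n₀ ∈ SS m) (h : n ∣ n₀) :
    n = n₀ := by
  by_contra hne
  have h1 := one_lt_of_mem_SS hm hn
  have c1 := coprime_sub_one_sq (m := m)
  rw [← prod_eq] at c1
  have c2 := coprime_plus_minus (m := m)
  have hcop : Nat.Coprime n n₀ := by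
    rcases hn with rfl | rfl | rfl <;> rcases hn₀ with rfl | rfl | rfl
    · exact absurd rfl hne
    · exact Nat.Coprime.coprime_mul_right_right c1
    · exact Nat.Coprime.coprime_mul_left_right c1
    · exact (Nat.Coprime.coprime_mul_right_right c1).symm
    · exact absurd rfl hne
    · exact c2
    · exact (Nat.Coprime.coprime_mul_left_right c1).symm
    · exact c2.symm
    · exact absurd rfl hne
  have := Nat.eq_one_of_dvd_coprimes hcop (dvd_refl n) h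
  omega

end arith

end Cfsg.Agent.Helper11.SzPart
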