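import Mathlib
import Cfsg.Agent.Helper11.SzPartA
import Cfsg.Agent.Helper11.SzTI

/-! The partition of the Suzuki group, part B. -/

set_option autoImplicit false
set_option linter.unusedSectionVars false
set_option linter.unusedVariables false

namespace Cfsg.Agent.Helper11.SzPart

open Matrix Cfsg.Agent.Helper2.SzO Cfsg.Agent.Helper11.SzAut Cfsg.Agent.Helper11.SzCN
  Cfsg.Agent.Helper11.SCTI Cfsg.Agent.Helper11.SzTor

variable {F : Type*} [Field F] [Fintype F] {m : ℕ}

section

variable (hF : Fintype.card F = 2 ^ (2 * m + 1)) (hm : 1 ≤ m)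

include hF hm

/-- every non-identity element is fixed-point-free, or conjugate into `Q`, or conjugate into `D` -/
theorem classify (g : Cfsg.Sz F m) (hg1 : g ≠ 1) :
    NoFix g ∨ (∃ (h : Cfsg.Sz F m) (a b : F), ¬ (a = 0 ∧ b = 0) ∧ h * g * h⁻¹ = Tz hF a b) ∨
      (∃ (h : Cfsg.Sz F m) (k : Fˣ), k ≠ 1 ∧ h * g * h⁻¹ = Dz hF k) := by
  by_cases h2 : ∃ ω₁ ω₂ : Cfsg.suzukiOvoid F m, ω₁ ≠ ω₂ ∧ g • ω₁ = ω₁ ∧ g • ω₂ = ω₂
  · right; right
    obtain ⟨ω₁, ω₂, hne, hf1, hf2⟩ := h2
    obtain ⟨h, ha, hb⟩ := exists_move hF hne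
    have e1 : (h * g * h⁻¹) • (infO : Cfsg.suzukiOvoid F m) = infO := by
      rw [← ha, mul_smul, mul_smul, inv_smul_smul, hf1]
    have e2 : (h * g * h⁻¹) • (ptO 0 0 : Cfsg.suzukiOvoid F m) = ptO 0 0 := by
      rw [← hb, mul_smul, mul_smul, inv_smul_smul, hf2]
    obtain ⟨k, hk⟩ := eq_Dz_of_fix hF hm _ e1 e2
    refine ⟨h, k, ?_, hk⟩
    rintro rfl
    rw [Dz_one] at hk
    apply hg1
    have := congrArg (fun z => h⁻¹ * z * h) hk
    simpa [mul_assoc] using this
  · by_cases h1 : ∃ ω : Cfsg.suzukiOvoid F m, g • ω = ω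
    · right; left
      obtain ⟨ω, hω⟩ := h1
      obtain ⟨h, ha⟩ := exists_to_inf hF ω
      have e1 : (h * g * h⁻¹) • (infO : Cfsg.suzukiOvoid F m) = infO := by
        rw [← ha, mul_smul, mul_smul, inv_smul_smul, hω]
      obtain ⟨a, b, k, hk⟩ := fix_inf_decomp hF hm _ e1
      have hk1 : k = 1 := by
        by_contra hk1
        have h2' := two_eq_zero hF
        have hk' : (k : F) + 1 ≠ 0 := by
          intro h0
          apply hk1
          apply Units.ext
          rw [Units.val_one]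
          linear_combination h0 - h2'
        have hk'' : (k : F) ^ (sg m + 1) + 1 ≠ 0 := by
          intro h0
          apply hk1
          apply eq_one_of_pow_sg_succ hF
          apply Units.ext
          rw [Units.val_pow_eq_pow_val, Units.val_one]
          linear_combination h0 - h2'
        set x₀ := a / ((k : F) + 1) with hx₀
        set y₀ := (b + a ^ sg m * ((k : F) * x₀)) / ((k : F) ^ (sg m + 1) + 1) with hy₀
        have e2 : (h * g * h⁻¹) • (ptO x₀ y₀ : Cfsg.suzukiOvoid F m) = ptO x₀ y₀ := by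
          rw [hk, mul_smul, Dz_smul_ptO, Tz_smul_ptO]
          congr 1
          · rw [hx₀]; field_simp; linear_combination (a * (k : F)) * h2'
          · rw [hy₀]; field_simp
            linear_combination ((k : F) * (k : F) ^ sg m * b +
              (k : F) ^ 2 * (k : F) ^ sg m * a * a ^ sg m * (1 + (k : F))⁻¹) * h2'
        apply h2
        refine ⟨ω, h⁻¹ • ptO x₀ y₀, ?_, hω, ?_⟩
        · intro h'
          rw [eq_inv_smul_iff, ha] at h'
          exact infO_ne_ptO _ _ h'
        · rw [mul_smul, mul_smul] at e2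
          exact eq_inv_smul_iff.mpr e2
      rw [hk1, Dz_one, mul_one] at hk
      refine ⟨h, a, b, ?_, hk⟩
      rintro ⟨rfl, rfl⟩
      rw [Tz_one] at hk
      apply hg1
      have := congrArg (fun z => h⁻¹ * z * h) hk
      simpa [mul_assoc] using this
    · left
      push Not at h1
      exact h1

/-- the split torus -/
def DzHom : Fˣ →* Cfsg.Sz F m where
  toFun := Dz hF
  map_one' := Dz_one hF
  map_mul' k l := (Dz_mul' hF k l).symm

/-- the split torus -/
def Dsub : Subgroup (Cfsg.Sz F m) := (DzHom hF).range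

omit hm in
theorem Dz_mem_Dsub (k : Fˣ) : Dz hF k ∈ Dsub (m := m) hF := ⟨k, rfl⟩

omit hm in
theorem card_Dsub : Nat.card (Dsub (m := m) hF) = 2 ^ (2 * m + 1) - 1 := by
  have hinj : Function.Injective (DzHom (m := m) hF) := fun k l h => Dz_injective hF h
  unfold Dsub
  rw [← Nat.card_congr (MonoidHom.ofInjective hinj).toEquiv, Nat.card_units,
    Nat.card_eq_fintype_card, hF]

omit hm in
theorem isCyclic_Dsub : IsCyclic (Dsub (m := m) hF) := by
  unfold Dsub
  exact isCyclic_of_surjective (DzHom (m := m) hF).rangeRestrict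
    (DzHom (m := m) hF).rangeRestrict_surjective

theorem centralizer_Dz {k : Fˣ} (hk : k ≠ 1) :
    Subgroup.centralizer ({Dz hF k} : Set (Cfsg.Sz F m)) = Dsub hF := by
  have h2 := two_eq_zero hF
  apply le_antisymm
  · intro c hc
    have hc' : Dz hF k * c = c * Dz hF k := mem_centralizer_singleton.mp hc
    have hf1 : Dz hF k • (c • (infO : Cfsg.suzukiOvoid F m)) = c • infO := by
      rw [← mul_smul, hc', mul_smul, Dz_smul_infO]
    have hf2 : Dz hF k • (c • (ptO 0 0 : Cfsg.suzukiOvoid F m)) = c • ptO 0 0 := by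
      rw [← mul_smul, hc', mul_smul, Dz_smul_ptO, mul_zero, mul_zero]
    have hne : c • (infO : Cfsg.suzukiOvoid F m) ≠ c • ptO 0 0 := fun h =>
      infO_ne_ptO 0 0 (MulAction.injective c h)
    rcases Dz_fix_iff hF hk _ hf1 with h1 | h1 <;> rcases Dz_fix_iff hF hk _ hf2 with h3 | h3
    · exact absurd (h1.trans h3.symm) hne
    · obtain ⟨l, rfl⟩ := eq_Dz_of_fix hF hm c h1 h3
      exact Dz_mem_Dsub hF l
    · exfalso
      have hf3 : (Wz hF * c) • (infO : Cfsg.suzukiOvoid F m) = infO := by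
        rw [mul_smul, h1, Wz_smul_zero]
      have hf4 : (Wz hF * c) • (ptO 0 0 : Cfsg.suzukiOvoid F m) = ptO 0 0 := by
        rw [mul_smul, h3, Wz_smul_infO]
      obtain ⟨l, hl⟩ := eq_Dz_of_fix hF hm _ hf3 hf4
      have hc2 : c = Wz hF * Dz hF l := by
        rw [← hl, ← mul_assoc, Wz_mul_Wz, one_mul]
      rw [hc2] at hc'
      have e1 : Dz hF k * (Wz hF * Dz hF l) = Wz hF * Dz hF (k⁻¹ * l) := by
        rw [← mul_assoc, Dz_mul_Wz, mul_assoc, Dz_mul']
      have e2 : Wz hF * Dz hF l * Dz hF k = Wz hF * Dz hF (l * k) := by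
        rw [mul_assoc, Dz_mul']
      rw [e1, e2] at hc'
      have e3 := Dz_injective hF (mul_left_cancel hc')
      have e4 : k * k = 1 := by
        have : k⁻¹ = k := by
          have := congrArg (· * l⁻¹) e3
          simpa [mul_comm l k, mul_assoc] using this
        calc k * k = k * k⁻¹ := by rw [this]
          _ = 1 := mul_inv_cancel k
      apply hk
      apply Units.ext
      have e5 : (k : F) * k = 1 := by
        have := congrArg Units.val e4
        simpa using this
      have e6 : ((k : F) - 1) ^ 2 = 0 := by linear_combination e5 - ((k : F) - 1) * h2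
      have := pow_eq_zero_iff (two_ne_zero) |>.mp e6
      rw [Units.val_one]
      linear_combination this
    · exact absurd (h1.trans h3.symm) hne
  · rintro _ ⟨l, rfl⟩
    rw [mem_centralizer_singleton]
    show Dz hF k * Dz hF l = Dz hF l * Dz hF k
    rw [Dz_mul', Dz_mul', mul_comm]

omit hF in
/-- odd case: `C(g)` is cyclic with order in the list -/
theorem unique_of_centralizer (g : Cfsg.Sz F m) (hg1 : g ≠ 1) (H : Subgroup (Cfsg.Sz F m))
    (hH : Subgroup.centralizer ({g} : Set (Cfsg.Sz F m)) = H) (hc : IsCyclic H)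
    (hn : Nat.card H ∈ SS m) : ∃! U : Subgroup (Cfsg.Sz F m), Good (SS m) U ∧ g ∈ U := by
  have hgH : g ∈ H := by
    rw [← hH, mem_centralizer_singleton]
  refine ⟨H, ⟨Or.inr ⟨hc, hn⟩, hgH⟩, ?_⟩
  rintro V ⟨hV, hgV⟩
  rcases hV with ⟨P, rfl⟩ | ⟨hVc, hVn⟩
  · exfalso
    exact hg1 (eq_one_of_two_group_of_odd P.2 (odd_of_mem_SS hn) hgV hgH)
  · have hle : V ≤ H := by
      intro v hv
      rw [← hH, mem_centralizer_singleton]
      have := hVc
      have hcomm := IsCyclic.isMulCommutative (α := V)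
      have := isMulCommutative_iff.mp hcomm (⟨g, hgV⟩ : V) ⟨v, hv⟩
      exact congrArg Subtype.val this
    have hdvd : Nat.card V ∣ Nat.card H := Subgroup.card_dvd_of_le hle
    have heq := eq_of_dvd_SS hm hVn hn hdvd
    exact Subgroup.eq_of_le_of_card_ge hle heq.ge

/-- the `2`-case -/
theorem unique_Tz (a b : F) (hab : ¬ (a = 0 ∧ b = 0)) :
    ∃! U : Subgroup (Cfsg.Sz F m), Good (SS m) U ∧ Tz hF a b ∈ U := by
  have : Fact (Nat.Prime 2) := ⟨Nat.prime_two⟩
  refine ⟨Qz hF, ⟨Or.inl ⟨QSylow hF hm, (QSylow_coe hF hm).symm⟩, Tz_mem_Qz hF a b⟩, ?_⟩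
  rintro V ⟨hV, hgV⟩
  rcases hV with ⟨P, rfl⟩ | ⟨hVc, hVn⟩
  · obtain ⟨x, hx⟩ := MulAction.exists_smul_eq (Cfsg.Sz F m) (QSylow hF hm) P
    rw [← hx, Sylow.coe_subgroup_smul] at hgV
    obtain ⟨q, hq, hqe⟩ := hgV
    rw [QSylow_coe] at hq
    obtain ⟨a', b', rfl⟩ := hq
    have hqe' : x * Tz hF a' b' * x⁻¹ = Tz hF a b := hqe
    have hne : ¬ (a' = 0 ∧ b' = 0) := by
      rintro ⟨rfl, rfl⟩
      rw [Tz_one, mul_one, mul_inv_cancel] at hqe'
      rw [← Tz_one hF] at hqe'
      obtain ⟨rfl, rfl⟩ := Tz_injective hF hqe'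
      exact hab ⟨rfl, rfl⟩
    have hfix := Cfsg.Agent.Helper11.SzTI.fix_inf_of_conj hF x a' b' a b hne hqe'
    have hxN : x ∈ Subgroup.normalizer ((QSylow hF hm : Subgroup (Cfsg.Sz F m)) :
        Set (Cfsg.Sz F m)) := by
      rw [QSylow_coe, Cfsg.Agent.Helper11.SzMax.normalizer_Qz hF hm, MulAction.mem_stabilizer_iff]
      exact hfix
    have := Sylow.smul_eq_iff_mem_normalizer.mpr hxN
    rw [← hx, this, QSylow_coe]
  · exfalso
    have h1 := eq_one_of_two_group_of_odd (QSylow hF hm).2 (odd_of_mem_SS hVn)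
      (by rw [QSylow_coe]; exact Tz_mem_Qz hF a b) hgV
    rw [← Tz_one hF] at h1
    obtain ⟨rfl, rfl⟩ := Tz_injective hF h1
    exact hab ⟨rfl, rfl⟩

/-- the partition of the Suzuki group -/
theorem partition (g : Cfsg.Sz F m) (hg : g ≠ 1) :
    ∃! U : Subgroup (Cfsg.Sz F m), Good (SS m) U ∧ g ∈ U := by
  rcases classify hF hm g hg with h | ⟨h, a, b, hab, e⟩ | ⟨h, k, hk, e⟩
  · obtain ⟨T₁, T₂, hT₁, hT₂, e1, e2, -, -, hall⟩ := SzTor.main hF hm
    have hT := isTor_centralizer hF hm h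
    apply unique_of_centralizer hm g hg _ rfl (hT.isCyclic hF hm)
    rcases hall _ hT with ⟨x, hx⟩ | ⟨x, hx⟩
    · rw [hx, card_cj, e1]
      right; left; rfl
    · rw [hx, card_cj, e2]
      right; right; rfl
  · apply partition_conj (SS m) g h
    rw [e]
    exact unique_Tz hF hm a b hab
  · apply partition_conj (SS m) g h
    rw [e]
    apply unique_of_centralizer hm _ _ _ (centralizer_Dz hF hm hk) (isCyclic_Dsub hF)
    · rw [card_Dsub]
      left; rfl
    · intro h1
      rw [← Dz_one hF] at h1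
      exact hk (Dz_injective hF h1)

end

end Cfsg.Agent.Helper11.SzPart
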