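import Mathlib
import Cfsg.Prelude.Def_KGroupFacts
import Cfsg.Agent.Helper11.SzAutG

/-! Automorphisms of the Suzuki group, part H: `Out(Sz(q))` has order `2m+1`. -/

set_option autoImplicit false
set_option linter.unusedSectionVars false
set_option linter.unusedVariables false

namespace Cfsg.Agent.Helper11.SzAut

open Matrix Cfsg.Agent.Helper2.SzO

variable {F : Type*} [Field F] [Fintype F] {m : ℕ}

/-- every automorphism is inner times a field automorphism -/
theorem exists_PhiAut (hF : Fintype.card F = 2 ^ (2 * m + 1)) (hm : 1 ≤ m)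
    (α : MulAut ↥(Cfsg.Sz F m)) :
    ∃ (h : ↥(Cfsg.Sz F m)) (φ : F →+* F), MulAut.conj h * α = PhiAut hF hm φ := by
  obtain ⟨g, hg⟩ := exists_norm hF hm α
  obtain ⟨k, hk, hone⟩ := hg.exists_torus hF hm
  obtain ⟨φ, hφ⟩ := hk.exists_phi hF hm hone
  refine ⟨Dz hF k * g, φ, ?_⟩
  rw [map_mul, mul_assoc]
  exact hk.eq_PhiAut hF hm φ hφ

/-- distinct field endomorphisms give automorphisms that differ modulo inner automorphisms -/
theorem PhiAut_inj (hF : Fintype.card F = 2 ^ (2 * m + 1)) (hm : 1 ≤ m) (φ ψ : F →+* F)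
    (g' : ↥(Cfsg.Sz F m))
    (h : ∀ x, PhiAut hF hm ψ x = g' * PhiAut hF hm φ x * g'⁻¹) : φ = ψ := by
  have hfix1 : g' • (infO : Cfsg.suzukiOvoid F m) = infO := by
    apply Cfsg.Agent.Helper11.SzTI.fix_inf_of_conj hF g' 1 0 1 0 one_ne_zero_pair
    have := h (Tz hF 1 0)
    rw [PhiAut_Tz, PhiAut_Tz, map_one, map_zero, map_one, map_zero] at this
    exact this.symm
  have hfix2 : g' • (ptO 0 0 : Cfsg.suzukiOvoid F m) = ptO 0 0 := by
    have h1 := h (Wz hF * Tz hF 1 0 * Wz hF)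
    rw [map_mul, map_mul, map_mul, map_mul, PhiAut_Tz, PhiAut_Tz, PhiAut_Wz, PhiAut_Wz,
      map_one, map_zero, map_one, map_zero] at h1
    have h2 : (Wz hF * g' * Wz hF) * Tz hF 1 0 * (Wz hF * g' * Wz hF)⁻¹ = Tz hF 1 0 := by
      have : Tz hF (1 : F) 0 = Wz hF * (Wz hF * Tz hF 1 0 * Wz hF) * Wz hF := by
        simp only [mul_assoc]
        rw [Wz_mul_Wz, mul_one, ← mul_assoc, Wz_mul_Wz, one_mul]
      conv_rhs => rw [this, h1]
      rw [_root_.mul_inv_rev, _root_.mul_inv_rev, Wz_inv]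
      simp only [mul_assoc]
    have h3 := Cfsg.Agent.Helper11.SzTI.fix_inf_of_conj hF _ 1 0 1 0 one_ne_zero_pair h2
    rw [mul_smul, mul_smul, Wz_smul_infO] at h3
    have := congrArg (fun z => Wz hF • z) h3
    beta_reduce at this
    rwa [← mul_smul, Wz_mul_Wz, one_smul, Wz_smul_infO] at this
  obtain ⟨k, rfl⟩ := eq_Dz_of_fix hF hm g' hfix1 hfix2
  have key : ∀ a : F, ψ a = (k : F) * φ a := by
    intro a
    have := h (Tz hF a 0)
    rw [PhiAut_Tz, PhiAut_Tz, Dz_mul_Tz] at this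
    exact (Tz_injective hF this).1
  have hk1 : (k : F) = 1 := by
    have := key 1
    rw [map_one, map_one, mul_one] at this
    exact this.symm
  apply RingHom.ext
  intro a
  rw [key a, hk1, one_mul]

/-- the number of ring endomorphisms of the field with `2^(2m+1)` elements -/
theorem card_ringHom (hF : Fintype.card F = 2 ^ (2 * m + 1)) :
    Nat.card (F →+* F) = 2 * m + 1 := by
  have := charP_two hF
  let _ := ZMod.algebra F 2
  have e : (F →+* F) ≃ (F →ₐ[ZMod 2] F) :=
    { toFun := fun φ => { φ with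
        commutes' := fun r => by
          have := RingHom.ext_zmod (φ.comp (algebraMap (ZMod 2) F)) (algebraMap (ZMod 2) F)
          exact congrFun (congrArg DFunLike.coe this) r }
      invFun := fun f => f.toRingHom
      left_inv := fun φ => rfl
      right_inv := fun f => rfl }
  rw [Nat.card_congr e, FiniteField.natCard_algHom_of_finrank_dvd (dvd_refl _)]
  have h1 := Module.card_eq_pow_finrank (K := ZMod 2) (V := F)
  rw [ZMod.card, hF] at h1
  exact (Nat.pow_right_injective (le_refl 2) h1).symm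

/-- `Out(Sz(q))` has order `2m+1` (ovoid realisation) -/
theorem card_out (hF : Fintype.card F = 2 ^ (2 * m + 1)) (hm : 1 ≤ m) :
    Nat.card (Cfsg.Out ↥(Cfsg.Sz F m)) = 2 * m + 1 := by
  rw [← card_ringHom hF]
  symm
  apply Nat.card_congr
  refine Equiv.ofBijective
    (fun φ : F →+* F => (QuotientGroup.mk (PhiAut hF hm φ) : Cfsg.Out ↥(Cfsg.Sz F m))) ⟨?_, ?_⟩
  · intro φ ψ hφψ
    have h1 := QuotientGroup.eq.mp hφψ
    obtain ⟨g, hg⟩ := h1
    have h2 : PhiAut hF hm ψ = PhiAut hF hm φ * MulAut.conj g := by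
      rw [hg]; group
    apply PhiAut_inj hF hm φ ψ (PhiAut hF hm φ g)
    intro x
    rw [h2, MulAut.mul_apply, MulAut.conj_apply, map_mul, map_mul, map_inv]
  · intro x
    obtain ⟨α, rfl⟩ := QuotientGroup.mk_surjective x
    obtain ⟨h, φ, hφ⟩ := exists_PhiAut hF hm α
    refine ⟨φ, ?_⟩
    show (QuotientGroup.mk (PhiAut hF hm φ) : Cfsg.Out ↥(Cfsg.Sz F m)) = QuotientGroup.mk α
    rw [QuotientGroup.eq, ← hφ]
    refine ⟨α⁻¹ h⁻¹, ?_⟩
    ext x
    simp [MulAut.mul_apply, MulAut.inv_apply, map_mul, map_inv]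

end Cfsg.Agent.Helper11.SzAut
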