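import Cfsg.Agent.Helper7.S2806Defs
import Cfsg.Agent.Helper19.S2806SYLSUB

/-! Board `s2806pieces`, piece PELT (helper11): if the Sylow subgroup `T ⊓ E` of the subnormal `E` is trivial,
then `E` has no nontrivial `p`-elements. -/

set_option autoImplicit false
set_option linter.unusedSectionVars false
set_option linter.unusedVariables false

namespace Cfsg.Agent.S2806P

open Cfsg Cfsg.Agent.Helper14

variable {G : Type*} [Group G]

variable [Finite G] {p : ℕ} [Fact p.Prime]

/-- PELT -/
theorem pelt_eq_one (T : Sylow p G) {E : Subgroup G} (hE : E.IsSubnormal)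
    (h0 : (T : Subgroup G) ⊓ E = ⊥) {x : G} (hx : x ∈ E) (hk : ∃ k : ℕ, orderOf x = p ^ k) :
    x = 1 := by
  have hS := isSylowIn_inf_of_isSubnormal (p := p) T hE
  rw [h0] at hS
  obtain ⟨k, hk⟩ := hk
  have hQE : Subgroup.zpowers x ≤ E := by
    rw [Subgroup.zpowers_le]; exact hx
  have hQp : IsPGroup p ↥(Subgroup.zpowers x) := by
    apply IsPGroup.of_card (n := k)
    rw [Nat.card_zpowers, hk]
  have hbot : Subgroup.zpowers x = ⊥ := hS.2.2 (Subgroup.zpowers x) hQE hQp bot_le
  exact Subgroup.zpowers_eq_bot.mp hbot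

end Cfsg.Agent.S2806P
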