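import Cfsg.Agent.Helper23.S2855PGEN

/-!
S2855 piece IRR1: in the reduced setting, if all `O^p(K)`, `K ∈ 𝒦`, lie in the normal subgroup `N`, so does `O^p(G)`.
-/

set_option autoImplicit false
set_option linter.unusedSectionVars false

namespace Cfsg.Agent.S2855P

open Cfsg
open scoped commutatorElement

namespace IRR1

variable {G : Type*} [Group G] [Finite G] {p : ℕ} [Fact p.Prime]

/-- some `p`-power power of `k` has order prime to `p` -/
theorem exists_pow_coprime (k : G) : ∃ a : ℕ, Nat.Coprime (orderOf (k ^ (p ^ a))) p := by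
  have hp : p.Prime := Fact.out
  have hpos : orderOf k ≠ 0 := (orderOf_pos k).ne'
  obtain ⟨a, m, hm, hkm⟩ := Nat.exists_eq_pow_mul_and_not_dvd hpos p hp.ne_one
  refine ⟨a, ?_⟩
  have h1 : orderOf (k ^ (p ^ a)) = m := by
    rw [orderOf_pow' k (pow_ne_zero a hp.ne_zero), hkm,
      Nat.gcd_eq_right (Dvd.intro _ rfl)]
    exact Nat.mul_div_cancel_left m (pow_pos hp.pos a)
  rw [h1]
  exact (Nat.Coprime.symm ((Nat.Prime.coprime_iff_not_dvd hp).mpr hm))

/-- the image of `K` modulo `N ≥ O^p(K)` is a `p`-group -/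
theorem isPGroup_map (N : Subgroup G) [N.Normal] (K : Subgroup G) (h : resOf p K ≤ N) :
    IsPGroup p ↥(K.map (QuotientGroup.mk' N)) := by
  rintro ⟨x, hx⟩
  obtain ⟨k, hk, rfl⟩ := Subgroup.mem_map.mp hx
  obtain ⟨a, ha⟩ := exists_pow_coprime (p := p) k
  refine ⟨a, ?_⟩
  apply Subtype.ext
  rw [Subgroup.coe_pow, Subgroup.coe_one]
  show (QuotientGroup.mk' N k) ^ (p ^ a) = 1
  rw [← map_pow]
  apply (QuotientGroup.eq_one_iff _).mpr
  apply h
  exact Subgroup.subset_closure ⟨K.pow_mem hk _, ha⟩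

end IRR1

section Reduced

variable {G : Type*} [Group G] [Finite G] {p : ℕ} [Fact p.Prime] {𝒦 : Set (Subgroup G)}

/-- piece IRR1: if all `O^p(K)`, `K ∈ 𝒦`, lie in the normal subgroup `N` then so does `O^p(G)`. -/
theorem Red.pResidual_le (hr : Red p G 𝒦) (N : Subgroup G) [N.Normal]
    (h : ∀ K ∈ 𝒦, resOf p K ≤ N) : pResidual p G ≤ N := by
  have hp : p.Prime := Fact.out
  set π := QuotientGroup.mk' N with hπ
  set S : Set (Subgroup (G ⧸ N)) := (fun K : Subgroup G => K.map π) '' 𝒦 with hS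
  have hsup : sSup S = (sSup 𝒦).map π := by
    rw [hS, sSup_image, sSup_eq_iSup, Subgroup.map_iSup]
    congr 1
    funext K
    rw [Subgroup.map_iSup]
  have hpS : ∀ X ∈ S, IsPGroup p ↥X := by
    rintro X ⟨K, hK, rfl⟩
    exact IRR1.isPGroup_map N K (h K hK)
  have hnS : ∀ X ∈ S, sSup S ≤ Subgroup.normalizer (X : Set (G ⧸ N)) := by
    rintro X ⟨K, hK, rfl⟩
    rw [hsup]
    exact (Subgroup.map_mono (hr.norm K hK)).trans (Subgroup.le_normalizer_map π)
  have hP : IsPGroup p ↥((sSup 𝒦).map π) := by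
    rw [← hsup]
    exact isPGroup_sSup_of_normalizes S hpS hnS
  unfold pResidual
  rw [Subgroup.closure_le]
  intro g hg
  have hgR : g ∈ sSup 𝒦 := hr.res (Subgroup.subset_closure hg)
  have hmem : π g ∈ (sSup 𝒦).map π := Subgroup.mem_map_of_mem π hgR
  obtain ⟨a, ha⟩ := hP ⟨π g, hmem⟩
  have ha' : (π g) ^ (p ^ a) = 1 := by
    have := congrArg Subtype.val ha
    simpa using this
  -- the order of `π g` divides `p ^ a` and `orderOf g`
  have h1 : orderOf (π g) ∣ p ^ a := orderOf_dvd_of_pow_eq_one ha'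
  have h2 : orderOf (π g) ∣ orderOf g := orderOf_map_dvd π g
  have hcop : Nat.Coprime (orderOf g) (p ^ a) := Nat.Coprime.pow_right a hg
  have h3 : orderOf (π g) = 1 := Nat.eq_one_of_dvd_coprimes hcop h2 h1
  have h4 : π g = 1 := orderOf_eq_one_iff.mp h3
  exact (QuotientGroup.eq_one_iff g).mp h4

end Reduced

end Cfsg.Agent.S2855P
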