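import Cfsg.Agent.S2855P.Defs

/-!
S2855 piece NOTCLOSED: in the reduced setting `G` is not `p`-closed.
-/

set_option autoImplicit false
set_option linter.unusedSectionVars false

namespace Cfsg.Agent.S2855P

open Cfsg
open scoped commutatorElement

section Reduced

variable {G : Type*} [Group G] [Finite G] {p : ℕ} [Fact p.Prime] {𝒦 : Set (Subgroup G)}

/-- piece NOTCLOSED -/
theorem Red.not_isPClosed (hr : Red p G 𝒦) : ¬ IsPClosed p G := by
  intro hc
  obtain ⟨E, hE⟩ := hr.ne
  apply (hr.irr E hE).1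
  intro S
  have hSp : IsPGroup p ↥((S : Subgroup ↥E).map E.subtype) := S.isPGroup'.map E.subtype
  obtain ⟨P, hP⟩ := hSp.exists_le_sylow
  have hPn : (P : Subgroup G).Normal := hc P
  have hPbot : (P : Subgroup G) = ⊥ := by
    apply le_bot_iff.mp
    rw [← hr.core]
    exact le_sSup ⟨hPn, P.isPGroup'⟩
  have hSbot : (S : Subgroup ↥E) = ⊥ := by
    rw [hPbot, le_bot_iff] at hP
    exact (Subgroup.map_eq_bot_iff_of_injective _ E.subtype_injective).mp hP
  rw [hSbot]
  infer_instance

end Reduced

end Cfsg.Agent.S2855P
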