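import Mathlib
import Cfsg.Agent.Helper15.S2933Defs

set_option autoImplicit false

/-! # S2933 piece TRANSFER (helper15's board `s2933pieces`)

The frozen hypotheses of S2933 give the abstract setting (P) (`PData`) on the subtype `↥T`, with
`τ', ρ'` the conjugations by `t`, `ρ`. -/

namespace Cfsg.Agent.S2933P

open scoped commutatorElement
open Cfsg.Agent.Helper16.S64

universe u

theorem TRANSFER_aux_norm {G : Type*} [Group G] (T : Subgroup G) {n : G}
    (hn : n ∈ Subgroup.normalizer (T : Set G)) (x : G) : x ∈ T ↔ n * x * n⁻¹ ∈ T := by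
  have := Subgroup.mem_normalizer_iff.mp hn x
  simpa using this

/-- Conjugation by a normalizing element as an automorphism of the subgroup. -/
def TRANSFER_aux_conj {G : Type*} [Group G] (T : Subgroup G) (n : G)
    (hn : n ∈ Subgroup.normalizer (T : Set G)) : MulAut ↥T where
  toFun x := ⟨n * x * n⁻¹, (TRANSFER_aux_norm T hn x).mp x.2⟩
  invFun x := ⟨n⁻¹ * x * n, (TRANSFER_aux_norm T hn _).mpr (by
    have : n * (n⁻¹ * (x : G) * n) * n⁻¹ = x := by group
    rw [this]; exact x.2)⟩
  left_inv x := by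
    apply Subtype.ext
    show n⁻¹ * (n * (x : G) * n⁻¹) * n = x
    group
  right_inv x := by
    apply Subtype.ext
    show n * (n⁻¹ * (x : G) * n) * n⁻¹ = x
    group
  map_mul' x y := by
    apply Subtype.ext
    show n * ((x : G) * y) * n⁻¹ = (n * x * n⁻¹) * (n * y * n⁻¹)
    group

theorem TRANSFER_aux_conj_coe {G : Type*} [Group G] (T : Subgroup G) (n : G)
    (hn : n ∈ Subgroup.normalizer (T : Set G)) (x : ↥T) :
    ((TRANSFER_aux_conj T n hn x : ↥T) : G) = n * x * n⁻¹ := rfl

/-- An automorphism of order dividing 3 of a four-group with a non-trivial fixed point is trivial. -/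
theorem TRANSFER_aux_four {A : Type*} [Group A] [Finite A] (hc : Nat.card A = 4)
    (h2 : ∀ x : A, x * x = 1) (φ : A ≃* A) (h3 : ∀ x, φ (φ (φ x)) = x) (v : A) (hv : v ≠ 1)
    (hfix : φ v = v) : ∀ w, φ w = w := by
  let Fix : Subgroup A :=
    { carrier := {w | φ w = w}
      mul_mem' := by
        intro a b ha hb
        show φ (a * b) = a * b
        rw [map_mul, ha, hb]
      one_mem' := map_one φ
      inv_mem' := by
        intro a ha
        show φ a⁻¹ = a⁻¹
        rw [map_inv, ha] }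
  have hmem : ∀ w, w ∈ Fix ↔ φ w = w := fun w => Iff.rfl
  have hdvd : Nat.card Fix ∣ 4 := hc ▸ Subgroup.card_subgroup_dvd_card Fix
  have hne1 : Nat.card Fix ≠ 1 := by
    intro h
    have hbot : Fix = ⊥ := Subgroup.card_eq_one.mp h
    have : v ∈ Fix := hfix
    rw [hbot, Subgroup.mem_bot] at this
    exact hv this
  have hcases : Nat.card Fix = 2 ∨ Nat.card Fix = 4 := by
    have hle : Nat.card Fix ≤ 4 := Nat.le_of_dvd (by norm_num) hdvd
    have hpos : 0 < Nat.card Fix := Nat.card_pos
    interval_cases h : Nat.card Fix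
    · exact absurd rfl hne1
    · left; rfl
    · norm_num at hdvd
    · right; rfl
  rcases hcases with h | h
  · exfalso
    have hidx : Fix.index = 2 := by
      have := Subgroup.card_mul_index Fix
      rw [h, hc] at this
      omega
    obtain ⟨a, ha⟩ := Subgroup.index_eq_two_iff.mp hidx
    have haF : a ∉ Fix := by
      have h1 := ha 1
      rw [one_mul] at h1
      rcases h1 with ⟨_, h⟩ | ⟨_, h⟩
      · exact absurd Fix.one_mem h
      · exact h
    have hφa : φ a ∉ Fix := by
      intro hh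
      apply haF
      exact φ.injective ((hmem _).mp hh)
    have hc0 : φ a * a⁻¹ ∈ Fix := by
      have h1 := ha (φ a * a⁻¹)
      rw [inv_mul_cancel_right] at h1
      rcases h1 with ⟨h, _⟩ | ⟨h, _⟩
      · exact absurd h hφa
      · exact h
    have e1 : φ (φ a) = a := by
      have e0 : φ a = (φ a * a⁻¹) * a := by group
      calc φ (φ a) = φ ((φ a * a⁻¹) * a) := by rw [← e0]
        _ = φ (φ a * a⁻¹) * φ a := map_mul _ _ _
        _ = (φ a * a⁻¹) * φ a := by rw [(hmem _).mp hc0]
        _ = (φ a * a⁻¹) * ((φ a * a⁻¹) * a) := by rw [← e0]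
        _ = ((φ a * a⁻¹) * (φ a * a⁻¹)) * a := by group
        _ = a := by rw [h2]; group
    apply haF
    show φ a = a
    have := h3 a
    rw [e1] at this
    exact this
  · have htop : Fix = ⊤ := (Subgroup.card_eq_iff_eq_top Fix).mp (h.trans hc.symm)
    intro w
    have : w ∈ Fix := by rw [htop]; exact Subgroup.mem_top w
    exact this

/-- TRANSFER: the frozen hypotheses give (P) on `↥T`. -/
theorem TRANSFER {G : Type u} [Group G] [Finite G] (T V : Subgroup G)
    (hVT : V ≤ T ⊓ Subgroup.centralizer (T : Set G)) (hV : Nat.card ↥V = 4 ∧ ∀ v ∈ V, v ^ 2 = 1)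
    (t ρ : G) (ht : orderOf t = 2) (hρ : orderOf ρ = 3)
    (htn : t ∈ Subgroup.normalizer (V : Set G) ⊓ Subgroup.normalizer (T : Set G))
    (hρn : ρ ∈ Subgroup.normalizer (V : Set G) ⊓ Subgroup.normalizer (T : Set G))
    (htρ : t * ρ = ρ * t) (htV : t ∈ Subgroup.centralizer (V : Set G))
    (hVρ : ⁅V, Subgroup.zpowers ρ⁆ = V)
    (hCt : T ⊓ Subgroup.centralizer ({t} : Set G) = V) :
    ∃ τ' ρ' : MulAut ↥T, PData τ' ρ' (V.subgroupOf T) := by
  have hVT' : V ≤ T := fun v hv => (hVT hv).1
  have hVc : ∀ v ∈ V, ∀ x ∈ T, x * v = v * x := fun v hv x hx =>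
    (Subgroup.mem_centralizer_iff.mp (hVT hv).2) x hx
  have ht2 : t * t = 1 := by
    have := pow_orderOf_eq_one t
    rw [ht, pow_two] at this
    exact this
  have hρ3 : ρ * ρ * ρ = 1 := by
    have := pow_orderOf_eq_one ρ
    rw [hρ] at this
    rw [← this, pow_succ, pow_two]
  refine ⟨TRANSFER_aux_conj T t htn.2, TRANSFER_aux_conj T ρ hρn.2, ?_, ?_, ?_, ?_, ?_, ?_, ?_, ?_, ?_⟩
  · -- tau_sq
    intro x
    apply Subtype.ext
    show t * (t * (x : G) * t⁻¹) * t⁻¹ = x
    calc t * (t * (x : G) * t⁻¹) * t⁻¹ = (t * t) * x * (t * t)⁻¹ := by group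
      _ = x := by rw [ht2]; group
  · -- rho_cube
    intro x
    apply Subtype.ext
    show ρ * (ρ * (ρ * (x : G) * ρ⁻¹) * ρ⁻¹) * ρ⁻¹ = x
    calc ρ * (ρ * (ρ * (x : G) * ρ⁻¹) * ρ⁻¹) * ρ⁻¹ = (ρ * ρ * ρ) * x * (ρ * ρ * ρ)⁻¹ := by group
      _ = x := by rw [hρ3]; group
  · -- comm
    intro x
    apply Subtype.ext
    show t * (ρ * (x : G) * ρ⁻¹) * t⁻¹ = ρ * (t * (x : G) * t⁻¹) * ρ⁻¹
    calc t * (ρ * (x : G) * ρ⁻¹) * t⁻¹ = (t * ρ) * x * (t * ρ)⁻¹ := by group
      _ = (ρ * t) * x * (ρ * t)⁻¹ := by rw [htρ]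
      _ = ρ * (t * (x : G) * t⁻¹) * ρ⁻¹ := by group
  · -- central
    intro v hv
    rw [Subgroup.mem_subgroupOf] at hv
    rw [Subgroup.mem_center_iff]
    intro x
    apply Subtype.ext
    show (x : G) * v = v * x
    exact hVc v hv x x.2
  · -- card
    rw [Nat.card_congr (Subgroup.subgroupOfEquivOfLe hVT').toEquiv]
    exact hV.1
  · -- exp
    intro v hv
    rw [Subgroup.mem_subgroupOf] at hv
    apply Subtype.ext
    show (v : G) * v = 1
    have := hV.2 v hv
    rwa [pow_two] at this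
  · -- tau_fix
    intro x
    rw [Subgroup.mem_subgroupOf]
    constructor
    · intro h
      have h1 : t * (x : G) * t⁻¹ = x := congrArg Subtype.val h
      have hx : (x : G) ∈ T ⊓ Subgroup.centralizer ({t} : Set G) := by
        refine Subgroup.mem_inf.mpr ⟨x.2, ?_⟩
        rw [Subgroup.mem_centralizer_iff]
        intro z hz
        rw [Set.mem_singleton_iff.mp hz]
        calc t * (x : G) = t * x * t⁻¹ * t := by group
          _ = x * t := by rw [h1]
      rw [hCt] at hx
      exact hx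
    · intro hx
      apply Subtype.ext
      show t * (x : G) * t⁻¹ = x
      have hx' : (x : G) ∈ T ⊓ Subgroup.centralizer ({t} : Set G) := by rw [hCt]; exact hx
      have h2 := Subgroup.mem_centralizer_iff.mp (Subgroup.mem_inf.mp hx').2 t rfl
      rw [h2]; group
  · -- rho_mem
    intro v hv
    rw [Subgroup.mem_subgroupOf] at hv ⊢
    show ρ * (v : G) * ρ⁻¹ ∈ V
    exact (TRANSFER_aux_norm V hρn.1 _).mp hv
  · -- rho_fpf
    intro v hv hfix
    rw [Subgroup.mem_subgroupOf] at hv
    by_contra hne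
    have hfix' : ρ * (v : G) * ρ⁻¹ = v := congrArg Subtype.val hfix
    have key := TRANSFER_aux_four (A := ↥V) hV.1
      (fun x => by
        apply Subtype.ext
        show (x : G) * x = 1
        have := hV.2 x x.2
        rwa [pow_two] at this)
      (TRANSFER_aux_conj V ρ hρn.1)
      (fun x => by
        apply Subtype.ext
        show ρ * (ρ * (ρ * (x : G) * ρ⁻¹) * ρ⁻¹) * ρ⁻¹ = x
        calc ρ * (ρ * (ρ * (x : G) * ρ⁻¹) * ρ⁻¹) * ρ⁻¹
            = (ρ * ρ * ρ) * x * (ρ * ρ * ρ)⁻¹ := by group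
          _ = x := by rw [hρ3]; group)
      ⟨(v : G), hv⟩
      (fun h => hne (by
        apply Subtype.ext
        have h' : (v : G) = 1 := congrArg Subtype.val h
        exact h'))
      (by
        apply Subtype.ext
        exact hfix')
    have hcen : Subgroup.zpowers ρ ≤ Subgroup.centralizer (V : Set G) := by
      rw [Subgroup.zpowers_le, Subgroup.mem_centralizer_iff]
      intro w hw
      have h1 : ρ * w * ρ⁻¹ = w := congrArg Subtype.val (key ⟨w, hw⟩)
      calc w * ρ = ρ * w * ρ⁻¹ * ρ := by rw [h1]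
        _ = ρ * w := by group
    have hbot : ⁅V, Subgroup.zpowers ρ⁆ = ⊥ :=
      Subgroup.commutator_eq_bot_iff_le_centralizer.mpr (Subgroup.le_centralizer_iff.mp hcen)
    rw [hVρ] at hbot
    have h1 : Nat.card ↥V = 1 := by rw [hbot]; exact Subgroup.card_bot
    rw [hV.1] at h1
    norm_num at h1

end Cfsg.Agent.S2933P
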