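import Mathlib
import Cfsg.Prelude.Def_JComponents
import Cfsg.Prelude.Def_Involutions
import Cfsg.Agent.Helper5.S2951Defs

set_option autoImplicit false

/-! # S2951–S2954 board (helper5): piece XV = (X4), first part

`V = Ω₁Z(O₂(L))` for a 2-local `L ≥ S` containing a `J(S)`-component `K`: `V ⊴ L`, `V ≤ O₂(L)`, exponent 2,
`|V| ≥ 4` (because `W_K = [Z_L, K] ≤ [V, K] ≤ V`), `ΩZ(S') ≤ V` for the Sylow 2-subgroups `S' ≤ L`, and if `|V| = 4`
then `V = W_K` and `K` is transitive on `V \ 1`. -/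

universe u

namespace Cfsg.Agent.S2951P

open Cfsg Subgroup Cfsg.Agent.Helper15.JComp Cfsg.Agent.S2951P

variable {G : Type u} [Group G] [Finite G]

/-- three distinct non-identity elements exhaust the non-identity elements of a group of order 4 -/
theorem XV_aux_four {W : Type*} [Group W] [Finite W] (hc : Nat.card W = 4) (x₁ x₂ x₃ : W)
    (h1 : x₁ ≠ 1) (h2 : x₂ ≠ 1) (h3 : x₃ ≠ 1) (h12 : x₁ ≠ x₂) (h13 : x₁ ≠ x₃) (h23 : x₂ ≠ x₃)
    (b : W) (hb : b ≠ 1) : b = x₁ ∨ b = x₂ ∨ b = x₃ := by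
  classical
  have := Fintype.ofFinite W
  by_contra hcon
  push Not at hcon
  obtain ⟨hb1, hb2, hb3⟩ := hcon
  have h5 : ({1, x₁, x₂, x₃, b} : Finset W).card = 5 := by
    rw [Finset.card_insert_of_notMem, Finset.card_insert_of_notMem, Finset.card_insert_of_notMem,
      Finset.card_insert_of_notMem, Finset.card_singleton]
    · simp only [Finset.mem_singleton]; exact fun h => hb3 h.symm
    · simp only [Finset.mem_insert, Finset.mem_singleton, not_or]
      exact ⟨h23, fun h => hb2 h.symm⟩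
    · simp only [Finset.mem_insert, Finset.mem_singleton, not_or]
      exact ⟨h12, h13, fun h => hb1 h.symm⟩
    · simp only [Finset.mem_insert, Finset.mem_singleton, not_or]
      exact ⟨fun h => h1 h.symm, fun h => h2 h.symm, fun h => h3 h.symm, fun h => hb h.symm⟩
  have hle := Finset.card_le_univ ({1, x₁, x₂, x₃, b} : Finset W)
  rw [h5, ← Nat.card_eq_fintype_card, hc] at hle
  omega

omit [Finite G] in
/-- the generators of `Ω₁Z(X)` have exponent 2 and commute: so does the whole group -/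
theorem XV_aux_sq (X : Subgroup G) : ∀ v ∈ omegaCenterOf X, v * v = 1 := by
  intro v hv
  unfold omegaCenterOf omegaOne at hv
  have key : ∀ w ∈ closure {x : G | x ∈ X ⊓ centralizer (X : Set G) ∧ x ^ 2 = 1},
      w ∈ X ⊓ centralizer (X : Set G) ∧ w * w = 1 := by
    intro w hw
    induction hw using Subgroup.closure_induction with
    | mem x hx => exact ⟨hx.1, by rw [← pow_two]; exact hx.2⟩
    | one => exact ⟨one_mem _, by group⟩
    | mul x y _ _ hx hy =>
      refine ⟨mul_mem hx.1 hy.1, ?_⟩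
      have hc : y * x = x * y :=
        mem_centralizer_iff.mp (mem_inf.mp hx.1).2 y (mem_inf.mp hy.1).1
      calc x * y * (x * y) = x * (y * x) * y := by group
        _ = x * (x * y) * y := by rw [hc]
        _ = (x * x) * (y * y) := by group
        _ = 1 := by rw [hx.2, hy.2]; group
    | inv x _ hx =>
      refine ⟨inv_mem hx.1, ?_⟩
      calc x⁻¹ * x⁻¹ = (x * x)⁻¹ := by group
        _ = 1 := by rw [hx.2]; group
  exact (key v hv).2

/-- XV (M–L) = (X4), first part: `V = Ω₁Z(O₂(L))`. -/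
theorem XV (g : Glob G) {L : Subgroup G} (hL2 : IsTwoLocal L) (S : Sylow 2 G)
    (hSL : (S : Subgroup G) ≤ L) {K : Subgroup G} (hK : IsJComponent (S : Subgroup G) K) (hKL : K ≤ L) :
    L ≤ normalizer ((omegaCenterOf (pCoreOf 2 L) : Subgroup G) : Set G) ∧
      omegaCenterOf (pCoreOf 2 L) ≤ pCoreOf 2 L ∧
      (∀ v ∈ omegaCenterOf (pCoreOf 2 L), v * v = 1) ∧
      4 ≤ Nat.card ↥(omegaCenterOf (pCoreOf 2 L)) ∧
      (∀ S' : Sylow 2 G, (S' : Subgroup G) ≤ L →
        omegaCenterOf (S' : Subgroup G) ≤ omegaCenterOf (pCoreOf 2 L)) ∧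
      (Nat.card ↥(omegaCenterOf (pCoreOf 2 L)) = 4 →
        ∀ a ∈ omegaCenterOf (pCoreOf 2 L), ∀ b ∈ omegaCenterOf (pCoreOf 2 L), a ≠ 1 → b ≠ 1 →
          ∃ l : G, b = l * a * l⁻¹) := by
  have : Fact (Nat.Prime 2) := ⟨Nat.prime_two⟩
  set Q := pCoreOf 2 L with hQ
  set V := omegaCenterOf Q with hV
  have hTL : IsSylowTwoIn (S : Subgroup G) L := isSylowTwoIn_of_sylow_le S hSL
  have hCP : centralizer ((Q : Subgroup G) : Set G) ≤ Q :=
    centralizer_pCoreOf_le_of_isTwoLocal g.hL hL2
  have hsolv : Group.IsSolvable ↥L := g.hN L hL2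
  have hLV : L ≤ normalizer ((V : Subgroup G) : Set G) := le_normalizer.trans (le_normalizer_omegaCenterOf_pCoreOf L)
  have hVQ : V ≤ Q := (omegaCenterOf_le Q).trans inf_le_left
  have hQL : Q ≤ L := Cfsg.Agent.Helper14.pCoreOf_le 2 L
  -- generators of `Ω₁Z(S')` lie in `V`
  have h5 : ∀ S' : Sylow 2 G, (S' : Subgroup G) ≤ L → omegaCenterOf (S' : Subgroup G) ≤ V := by
    intro S' hS'L
    have hQS' : Q ≤ (S' : Subgroup G) :=
      pCoreOf_le_of_isSylowTwoIn (isSylowTwoIn_of_sylow_le S' hS'L)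
    rw [hV]
    unfold omegaCenterOf omegaOne
    rw [closure_le]
    rintro x ⟨hx1, hx2⟩
    apply Subgroup.subset_closure
    refine ⟨?_, hx2⟩
    have hxc : x ∈ centralizer ((Q : Subgroup G) : Set G) :=
      centralizer_le hQS' (mem_inf.mp hx1).2
    exact mem_inf.mpr ⟨hCP hxc, hxc⟩
  -- `W_K ≤ V`
  have hWV : wOf K ≤ V := by
    have h := localSetup_of_overgroup g.hZ hsolv hTL hCP hK hKL
    have hE := h.commutator_omegaZ_eq_wOf
    rw [wOf_subgroupOf hKL] at hE
    have hF : Cfsg.Agent.Helper7.omegaZ 2 ↥L ≤ V.subgroupOf L := by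
      unfold Cfsg.Agent.Helper7.omegaZ
      apply iSup_le
      intro P
      unfold omegaOne
      rw [closure_le]
      rintro x ⟨hx1, hx2⟩
      rw [SetLike.mem_coe, mem_subgroupOf, hV]
      unfold omegaCenterOf omegaOne
      apply Subgroup.subset_closure
      have hxc : (x : G) ∈ centralizer ((Q : Subgroup G) : Set G) := by
        rw [mem_centralizer_iff]
        rintro _ ⟨y, hy, rfl⟩
        have hyP : y ∈ (P : Subgroup ↥L) := Cfsg.Agent.Helper14.pCore_le_sylow 2 P hy
        exact congrArg Subtype.val (mem_centralizer_iff.mp (mem_inf.mp hx1).2 y hyP)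
      refine ⟨mem_inf.mpr ⟨hCP hxc, hxc⟩, ?_⟩
      have := congrArg Subtype.val hx2
      simpa using this
    have hG : ⁅V.subgroupOf L, K.subgroupOf L⁆ ≤ V.subgroupOf L := by
      apply Cfsg.Agent.Lead.commutator_le_of_le_normalizer
      intro k _
      rw [← subgroupOf_normalizer_eq (hVQ.trans hQL), mem_subgroupOf]
      exact hLV k.2
    have hle : (wOf K).subgroupOf L ≤ V.subgroupOf L := by
      rw [← hE]
      exact (commutator_mono hF le_rfl).trans hG
    intro w hw
    have hwL : w ∈ L := hKL (wOf_le K hw)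
    have : (⟨w, hwL⟩ : ↥L) ∈ V.subgroupOf L := hle (mem_subgroupOf.mpr hw)
    exact mem_subgroupOf.mp this
  refine ⟨hLV, hVQ, XV_aux_sq Q, ?_, h5, ?_⟩
  · rw [← jc_card_wOf hK]
    exact Subgroup.card_le_of_le hWV
  · intro hc4 a ha b hb ha1 hb1
    have hWeq : wOf K = V := by
      apply Subgroup.eq_of_le_of_card_ge hWV
      rw [hc4, jc_card_wOf hK]
    rw [← hWeq] at ha hb
    obtain ⟨k, hk, hkR⟩ := jc_exists_not_mem_pCoreOf hK
    have hkN : k ∈ normalizer ((wOf K : Subgroup G) : Set G) :=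
      normalizer_le_normalizer_wOf K (le_normalizer hk)
    have hk2N : k * k ∈ normalizer ((wOf K : Subgroup G) : Set G) := mul_mem hkN hkN
    have hk2K : k * k ∈ K := mul_mem hk hk
    have hk2R : k * k ∉ pCoreOf 2 K := by
      intro h2
      apply hkR
      have h3 : k ^ 3 ∈ pCoreOf 2 K :=
        pow_three_mem (Cfsg.Agent.Helper14.pCoreOf_le 2 K)
          (Cfsg.Agent.Helper14.le_normalizer_pCoreOf 2 K) (jc_relIndex hK) hk
      have e : k = k ^ 3 * (k * k)⁻¹ := by group
      rw [e]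
      exact mul_mem h3 (inv_mem h2)
    have ha' : k * a * k⁻¹ ∈ wOf K := conj_mem_of_mem_normalizer hkN ha
    have ha'' : (k * k) * a * (k * k)⁻¹ ∈ wOf K := conj_mem_of_mem_normalizer hk2N ha
    have hne1 : k * a * k⁻¹ ≠ a := by
      intro h
      apply ha1
      apply jc_eq_one_of_commute hK hk hkR ha
      calc k * a = (k * a * k⁻¹) * k := by group
        _ = a * k := by rw [h]
    have hne2 : (k * k) * a * (k * k)⁻¹ ≠ a := by
      intro h
      apply ha1
      apply jc_eq_one_of_commute hK hk2K hk2R ha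
      calc (k * k) * a = ((k * k) * a * (k * k)⁻¹) * (k * k) := by group
        _ = a * (k * k) := by rw [h]
    have hne3 : (k * k) * a * (k * k)⁻¹ ≠ k * a * k⁻¹ := by
      intro h
      apply hne1
      calc k * a * k⁻¹ = k⁻¹ * ((k * k) * a * (k * k)⁻¹) * k := by group
        _ = k⁻¹ * (k * a * k⁻¹) * k := by rw [h]
        _ = a := by group
    have hcW : Nat.card ↥(wOf K) = 4 := jc_card_wOf hK
    have key := XV_aux_four hcW ⟨a, ha⟩ ⟨k * a * k⁻¹, ha'⟩ ⟨(k * k) * a * (k * k)⁻¹, ha''⟩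
      (fun h => ha1 (congrArg Subtype.val h))
      (fun h => ha1 (by
        have h' : k * a * k⁻¹ = 1 := congrArg Subtype.val h
        exact conj_eq_one_iff.mp h'))
      (fun h => ha1 (by
        have h' : (k * k) * a * (k * k)⁻¹ = 1 := congrArg Subtype.val h
        exact conj_eq_one_iff.mp h'))
      (fun h => hne1 (congrArg Subtype.val h).symm)
      (fun h => hne2 (congrArg Subtype.val h).symm)
      (fun h => hne3 (congrArg Subtype.val h).symm)
      ⟨b, hb⟩ (fun h => hb1 (congrArg Subtype.val h))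
    rcases key with h | h | h
    · refine ⟨1, ?_⟩
      have hba : b = a := congrArg Subtype.val h
      rw [hba]; group
    · exact ⟨k, congrArg Subtype.val h⟩
    · exact ⟨k * k, congrArg Subtype.val h⟩

end Cfsg.Agent.S2951P
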