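import Mathlib
import Cfsg.Agent.Helper24.S3067Defs

/-! # S3067, piece COSET: `G = C_G(a) · R` (coprime action: `a` fixes a point of each coset `g R`) -/

set_option autoImplicit false

namespace Cfsg.Agent.S3067P

variable {X : Type*} [Group X] [Finite X] {a τ : X} {r : ℕ} {G : Subgroup X}

/-- COSET: `G = C_G(a) · R` (coprime action: `a` fixes a point of each coset `g R`). -/
theorem COSET (h : Hyp a r G τ) (g : X) (hg : g ∈ G) :
    ∃ k ∈ R a G, (g * k) * a = a * (g * k) := by
  classical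
  have : Fact r.Prime := ⟨h.hr⟩
  let _inst : Fintype ↥(R a G) := Fintype.ofFinite _
  -- the map k ↦ [g,a] * (a⁻¹ k a) on R
  let f : ↥(R a G) → ↥(R a G) := fun k =>
    ⟨(g⁻¹ * a⁻¹ * g * a) * (a⁻¹ * (k : X) * a),
      Subgroup.mul_mem _ (gen_mem_R hg) (R_ainv h _ k.2)⟩
  have hf : ∀ k : ↥(R a G), g * ((f k : ↥(R a G)) : X) = a⁻¹ * (g * (k : X)) * a := by
    intro k
    show g * ((g⁻¹ * a⁻¹ * g * a) * (a⁻¹ * (k : X) * a)) = a⁻¹ * (g * (k : X)) * a
    group
  have hinj : Function.Injective f := by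
    intro k k' hkk
    have h1 : g * ((f k : ↥(R a G)) : X) = g * ((f k' : ↥(R a G)) : X) := by rw [hkk]
    rw [hf, hf] at h1
    have h2 : g * (k : X) = g * (k' : X) := by
      have := congrArg (fun z => a * z * a⁻¹) h1
      simpa [mul_assoc] using this
    exact Subtype.ext (mul_left_cancel h2)
  let σ : Equiv.Perm ↥(R a G) := Equiv.ofBijective f ⟨hinj, Finite.surjective_of_injective hinj⟩
  have hσ : ∀ k, σ k = f k := fun k => rfl
  have hiter : ∀ n : ℕ, ∀ k : ↥(R a G),
      g * (((σ ^ n) k : ↥(R a G)) : X) = (a⁻¹) ^ n * (g * (k : X)) * a ^ n := by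
    intro n
    induction n with
    | zero => intro k; simp
    | succ n ih =>
      intro k
      rw [pow_succ', Equiv.Perm.mul_apply, hσ, hf, ih]
      rw [pow_succ' a⁻¹, pow_succ a]
      group
  have hσr : σ ^ r ^ 1 = 1 := by
    rw [pow_one]
    ext k
    have h1 := hiter r k
    rw [inv_pow, h.har, inv_one, one_mul, mul_one] at h1
    rw [Equiv.Perm.one_apply]
    exact mul_left_cancel h1
  have hnd : ¬ r ∣ Fintype.card ↥(R a G) := by
    intro hd
    rw [← Nat.card_eq_fintype_card] at hd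
    have h1 : r ∣ Nat.card G := hd.trans (Subgroup.card_dvd_of_le (R_le h))
    have h2 : r ∣ 1 := by
      have := Nat.dvd_gcd h1 (dvd_refl r)
      rwa [Nat.Coprime.gcd_eq_one h.hcop] at this
    exact h.hr.one_lt.ne' (Nat.dvd_one.1 h2)
  obtain ⟨k, hk⟩ := Equiv.Perm.exists_fixed_point_of_prime hnd hσr
  refine ⟨(k : X), k.2, ?_⟩
  have h1 := hf k
  rw [← hσ, hk] at h1
  -- g k = a⁻¹ (g k) a
  calc g * (k : X) * a = a * (a⁻¹ * (g * (k : X)) * a) := by group
    _ = a * (g * (k : X)) := by rw [← h1]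

end Cfsg.Agent.S3067P
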