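import Mathlib
import Cfsg.Agent.Helper24.S3067Defs

/-! # S3067, piece L3Y: the `y`-argument -/

set_option autoImplicit false

namespace Cfsg.Agent.S3067P

variable {X : Type*} [Group X]

/-- pure group algebra: `w` an involution inverting `e` with `w a w (e e) = a` commutes with `a e⁻¹`. -/
theorem L3Y.aux_comm {a w e : X} (hB : w * e * w = e⁻¹) (hC : w * a * w * (e * e) = a) :
    w * (a * e⁻¹) = (a * e⁻¹) * w := by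
  calc w * (a * e⁻¹) = w * a * (w * e * w) := by rw [hB]; group
    _ = (w * a * w * (e * e)) * e⁻¹ * w := by group
    _ = a * e⁻¹ * w := by rw [hC]

variable [Finite X] {a τ : X} {r : ℕ} {G : Subgroup X}

/-- the key step for one `g`: `(a e⁻¹) ^ t = g⁻¹ a g`. -/
theorem L3Y.aux_key (h : Hyp a r G τ) (g : X) (hg : g ∈ G) (v e : X)
    (hvdef : v = (g⁻¹ * τ * g)⁻¹ * a⁻¹ * (g⁻¹ * τ * g) * a) (j : ℕ) (hj : orderOf v = 2 * j + 1)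
    (he : e = v ^ (j + 1)) (t : ℕ) (ht : t % r = 1) (htG : Nat.card G ∣ t) :
    (a * e⁻¹) ^ t = g⁻¹ * a * g := by
  have hw2 : (g⁻¹ * τ * g) * (g⁻¹ * τ * g) = 1 := by
    calc (g⁻¹ * τ * g) * (g⁻¹ * τ * g) = g⁻¹ * (τ * τ) * g := by group
      _ = 1 := by rw [h.hτ2]; group
  have hwinv : (g⁻¹ * τ * g)⁻¹ = g⁻¹ * τ * g := inv_eq_of_mul_eq_one_right hw2
  have hwG : g⁻¹ * τ * g ∈ G := G.mul_mem (G.mul_mem (G.inv_mem hg) h.hτG) hg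
  rw [hwinv] at hvdef
  -- abbreviate
  generalize hwdef : g⁻¹ * τ * g = w at hw2 hwinv hwG hvdef
  have hvG : v ∈ G := by
    rw [hvdef]
    have : w * a⁻¹ * w * a = w * (a⁻¹ * w * a) := by group
    rw [this]
    exact G.mul_mem hwG (h.hnorm w hwG)
  have heG : e ∈ G := by rw [he]; exact G.pow_mem hvG _
  -- w inverts v
  have hwv : w * v * w⁻¹ = v⁻¹ := by
    rw [hwinv, hvdef]
    calc w * (w * a⁻¹ * w * a) * w = (w * w) * a⁻¹ * w * a * w := by group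
      _ = a⁻¹ * w * a * w := by rw [hw2, one_mul]
      _ = a⁻¹ * w⁻¹ * a * w⁻¹ := by rw [hwinv]
      _ = (w * a⁻¹ * w * a)⁻¹ := by group
  have hB : w * e * w = e⁻¹ := by
    have h1 : w * e * w⁻¹ = e⁻¹ := by
      rw [he, ← conj_pow, hwv, inv_pow]
    rwa [hwinv] at h1
  have hee : e * e = v := by
    rw [he, ← pow_add]
    have : j + 1 + (j + 1) = (2 * j + 1) + 1 := by ring
    rw [this, pow_succ, ← hj, pow_orderOf_eq_one, one_mul]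
  have hC : w * a * w * (e * e) = a := by
    rw [hee, hvdef]
    calc w * a * w * (w * a⁻¹ * w * a) = w * a * (w * w) * a⁻¹ * w * a := by group
      _ = w * a * 1 * a⁻¹ * w * a := by rw [hw2]
      _ = (w * w) * a := by group
      _ = a := by rw [hw2, one_mul]
  have hwy : w * (a * e⁻¹) = (a * e⁻¹) * w := L3Y.aux_comm hB hC
  -- b = g⁻¹ a g commutes with w
  have hwb : w * (g⁻¹ * a * g) = (g⁻¹ * a * g) * w := by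
    rw [← hwdef]
    calc g⁻¹ * τ * g * (g⁻¹ * a * g) = g⁻¹ * (τ * a) * g := by group
      _ = g⁻¹ * (a * τ) * g := by rw [comm_τ_a h]
      _ = g⁻¹ * a * g * (g⁻¹ * τ * g) := by group
  -- c = y b⁻¹
  have hcG : (a * e⁻¹) * (g⁻¹ * a * g)⁻¹ ∈ G := by
    have : (a * e⁻¹) * (g⁻¹ * a * g)⁻¹ = (a * (e⁻¹ * g⁻¹) * a⁻¹) * g := by group
    rw [this]
    exact G.mul_mem (h.hnorm' _ (G.mul_mem (G.inv_mem heG) (G.inv_mem hg))) hg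
  have hcw : Commute ((a * e⁻¹) * (g⁻¹ * a * g)⁻¹) w := by
    have h1 : Commute (a * e⁻¹) w := hwy.symm
    have h2 : Commute (g⁻¹ * a * g) w := hwb.symm
    exact h1.mul_left h2.inv_left
  have hcb : Commute ((a * e⁻¹) * (g⁻¹ * a * g)⁻¹) (g⁻¹ * a * g) := by
    apply CENTCONJ h g _ hg hcG
    rw [hwdef]; exact hcw
  have hy : a * e⁻¹ = ((a * e⁻¹) * (g⁻¹ * a * g)⁻¹) * (g⁻¹ * a * g) := by group
  have hct : ((a * e⁻¹) * (g⁻¹ * a * g)⁻¹) ^ t = 1 := by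
    rw [← orderOf_dvd_iff_pow_eq_one]
    exact (Subgroup.orderOf_dvd_natCard G hcG).trans htG
  have hbr : (g⁻¹ * a * g) ^ r = 1 := by
    have : g⁻¹ * a * g = g⁻¹ * a * (g⁻¹)⁻¹ := by group
    rw [this, conj_pow, h.har]; group
  have hbt : (g⁻¹ * a * g) ^ t = g⁻¹ * a * g := by
    have : t = r * (t / r) + 1 := by
      have := Nat.div_add_mod t r
      omega
    rw [this, pow_succ, pow_mul, hbr, one_pow, one_mul]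
  calc (a * e⁻¹) ^ t = (((a * e⁻¹) * (g⁻¹ * a * g)⁻¹) * (g⁻¹ * a * g)) ^ t := by rw [← hy]
    _ = ((a * e⁻¹) * (g⁻¹ * a * g)⁻¹) ^ t * (g⁻¹ * a * g) ^ t := hcb.mul_pow t
    _ = g⁻¹ * a * g := by rw [hct, hbt, one_mul]

/-- L3Y: the `y`-argument. `wᵢ = gᵢ⁻¹ τ gᵢ`, `w₁⁻¹ a w₁ = w₂⁻¹ a w₂`, `v = [w₁,a]` of odd order.
`e ∈ ⟨v⟩` with `e² = v`, `y = a e⁻¹` commutes with `w₁, w₂`; `cᵢ = y (gᵢ⁻¹ a gᵢ)⁻¹ ∈ G` commutes with `wᵢ`,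
hence (CENTCONJ) with `gᵢ⁻¹ a gᵢ`; so `y ^ t = gᵢ⁻¹ a gᵢ` for `t ≡ 0 mod |G|`, `t ≡ 1 mod r`. -/
theorem L3Y (h : Hyp a r G τ) (g₁ g₂ : X) (hg₁ : g₁ ∈ G) (hg₂ : g₂ ∈ G)
    (hx : (g₁⁻¹ * τ * g₁)⁻¹ * a * (g₁⁻¹ * τ * g₁) = (g₂⁻¹ * τ * g₂)⁻¹ * a * (g₂⁻¹ * τ * g₂))
    (hv : Odd (orderOf ((g₁⁻¹ * τ * g₁)⁻¹ * a⁻¹ * (g₁⁻¹ * τ * g₁) * a))) :
    g₁⁻¹ * a * g₁ = g₂⁻¹ * a * g₂ := by
  obtain ⟨j, hj⟩ := hv
  obtain ⟨m, -, hm⟩ := Nat.exists_mul_mod_eq_one_of_coprime h.hcop h.hr.one_lt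
  have hv2 : (g₁⁻¹ * τ * g₁)⁻¹ * a⁻¹ * (g₁⁻¹ * τ * g₁) * a
      = (g₂⁻¹ * τ * g₂)⁻¹ * a⁻¹ * (g₂⁻¹ * τ * g₂) * a := by
    have e1 : (g₁⁻¹ * τ * g₁)⁻¹ * a⁻¹ * (g₁⁻¹ * τ * g₁)
        = ((g₁⁻¹ * τ * g₁)⁻¹ * a * (g₁⁻¹ * τ * g₁))⁻¹ := by group
    have e2 : (g₂⁻¹ * τ * g₂)⁻¹ * a⁻¹ * (g₂⁻¹ * τ * g₂)
        = ((g₂⁻¹ * τ * g₂)⁻¹ * a * (g₂⁻¹ * τ * g₂))⁻¹ := by group
    rw [e1, e2, hx]
  have k1 := L3Y.aux_key h g₁ hg₁ _ _ rfl j hj rfl (Nat.card G * m) hm (Dvd.intro _ rfl)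
  have k2 := L3Y.aux_key h g₂ hg₂ _ _ hv2 j hj rfl (Nat.card G * m) hm (Dvd.intro _ rfl)
  rw [← k1, ← k2]

end Cfsg.Agent.S3067P
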