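import Mathlib
import Cfsg.Agent.Helper2.S3086Defs
import Cfsg.Agent.Helper2.S3086Basic
import Cfsg.Agent.Helper5.S3086RES1
import Cfsg.Agent.Helper5.S3086RES2
import Cfsg.Agent.Helper5.S3086RES3
import Cfsg.Agent.Helper16.S3086QS1

/-! Board `s3086pieces`, row REDUCE: the general reduction to an invariant proper subspace. -/

set_option autoImplicit false
set_option linter.unusedVariables false
set_option linter.unusedSectionVars false

namespace Cfsg.Agent.S3086P

universe u

variable {p : ℕ} [Fact p.Prime] {V : Type u} [AddCommGroup V] [Module (ZMod p) V] [Finite V]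

variable {K A : Subgroup (GLV p V)}

theorem REDUCE_aux_card_lt (W : Submodule (ZMod p) V) (hW : W ≠ ⊤) : Nat.card ↥W < Nat.card V := by
  have hinj : Function.Injective (Subtype.val : ↥W → V) := Subtype.val_injective
  have hns : ¬ Function.Surjective (Subtype.val : ↥W → V) := by
    intro hs
    apply hW
    rw [eq_top_iff]
    intro v _
    obtain ⟨w, rfl⟩ := hs v
    exact w.2
  let _ : Fintype ↥W := Fintype.ofFinite _
  let _ : Fintype V := Fintype.ofFinite _
  rw [Nat.card_eq_fintype_card, Nat.card_eq_fintype_card]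
  exact Fintype.card_lt_of_injective_not_surjective _ hinj hns

theorem REDUCE_aux_cjg_le {W : Submodule (ZMod p) V} {S : Subgroup (GLV p V)} (hS : S ≤ stabS W)
    {a : GLV p V} (ha : a ∈ stabS W) : cjg a S ≤ stabS W := by
  intro x hx
  obtain ⟨s, hs, rfl⟩ := Subgroup.mem_map.mp hx
  show a * s * a⁻¹ ∈ stabS W
  exact (stabS W).mul_mem ((stabS W).mul_mem ha (hS hs)) ((stabS W).inv_mem ha)

theorem REDUCE_aux_mem_img {W : Submodule (ZMod p) V} {S : Subgroup (GLV p V)} (hS : S ≤ stabS W)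
    {a' : GLV p ↥W} (ha' : a' ∈ imgS W S) : ∃ a, ∃ ha : a ∈ S, a' = res W ⟨a, hS ha⟩ := by
  obtain ⟨⟨a, haW⟩, ha, rfl⟩ := Subgroup.mem_map.mp ha'
  exact ⟨a, Subgroup.mem_subgroupOf.mp ha, rfl⟩

theorem REDUCE_aux_mem_img' {W : Submodule (ZMod p) V} {S : Subgroup (GLV p V)} (hS : S ≤ stabS W)
    {a : GLV p V} (ha : a ∈ S) : res W ⟨a, hS ha⟩ ∈ imgS W S :=
  Subgroup.mem_map.mpr ⟨⟨a, hS ha⟩, Subgroup.mem_subgroupOf.mpr ha, rfl⟩

/-- REDUCE (L): the general reduction to an invariant proper subspace. -/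
theorem REDUCE (M : MC p V K A) (W : Submodule (ZMod p) V) (hW : W ≠ ⊤)
    (K₀ : Subgroup (GLV p V)) (hK₀ : Cfsg.IsQuasisimple ↥K₀) (hKW : K₀ ≤ stabS W) (hAW : A ≤ stabS W)
    (hnt : ¬ K₀ ≤ centS W) (hcomm : ∀ a ∈ A, cjg a K₀ = K₀ ∨ CommS K₀ (cjg a K₀)) (hmove : ∃ a ∈ A, cjg a K₀ ≠ K₀)
    (hbest : ∀ X : Subgroup (GLV p V), X ≤ A → A ⊓ centS W ≤ X →
      Nat.card ↥X * Nat.card ↥(fixS X ⊓ W) ≤ Nat.card ↥A * Nat.card ↥(fixS A ⊓ W)) : False := by
  have hK' : Cfsg.IsQuasisimple ↥(imgS W K₀) := RES_qs hKW hK₀ hnt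
  -- the commuting hypothesis for the images
  have hcomm' : ∀ (a : GLV p V) (ha : a ∈ A), (cjg a K₀ = K₀ → cjg (res W ⟨a, hAW ha⟩) (imgS W K₀) = imgS W K₀) ∧
      (CommS K₀ (cjg a K₀) → CommS (imgS W K₀) (cjg (res W ⟨a, hAW ha⟩) (imgS W K₀))) := by
    intro a ha
    have h1 := RES_cjg hKW (hAW ha)
    constructor
    · intro h
      rw [← h1, h]
    · intro h
      rw [← h1]
      exact RES_comm h
  -- the moving element
  obtain ⟨a, ha, hane⟩ := hmove
  have hCa : CommS K₀ (cjg a K₀) := by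
    rcases hcomm a ha with h | h
    · exact absurd h hane
    · exact h
  have hCa' := (hcomm' a ha).2 hCa
  -- it suffices to show that the image of `a` normalises the image of `K₀`
  suffices hfix : cjg (res W ⟨a, hAW ha⟩) (imgS W K₀) = imgS W K₀ by
    rw [hfix] at hCa'
    exact QS_not_comm hK' hCa'
  by_cases hbot : imgS W A = ⊥
  · have h1 : res W ⟨a, hAW ha⟩ ∈ imgS W A := REDUCE_aux_mem_img' hAW ha
    rw [hbot, Subgroup.mem_bot] at h1
    rw [h1]
    unfold cjg
    ext x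
    simp
  · have H : Hyp p ↥W (imgS W K₀) (imgS W A) := by
      refine ⟨hK', hbot, RES_elab M.hyp.hAel, ?_, ?_⟩
      · intro Y hY
        obtain ⟨X, hXA, hkX, rfl⟩ := RES_sub hAW Y hY
        have hXW : X ≤ stabS W := hXA.trans hAW
        have e1 := RES_fix (W := W) hXW
        have e2 := RES_fix (W := W) hAW
        have c1 := RES_card (W := W) hXW
        have c2 := RES_card (W := W) hAW
        have hker : X ⊓ centS W = A ⊓ centS W := by
          apply le_antisymm
          · exact inf_le_inf_right _ hXA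
          · exact le_inf hkX inf_le_right
        rw [hker] at c1
        have hpos : 0 < Nat.card ↥(A ⊓ centS W) := Nat.card_pos
        have hb := hbest X hXA hkX
        unfold qv
        rw [e1, e2]
        rw [← c1, ← c2] at hb
        have hb' : (Nat.card ↥(imgS W X) * Nat.card ↥(fixS X ⊓ W)) * Nat.card ↥(A ⊓ centS W) ≤
            (Nat.card ↥(imgS W A) * Nat.card ↥(fixS A ⊓ W)) * Nat.card ↥(A ⊓ centS W) := by
          calc (Nat.card ↥(imgS W X) * Nat.card ↥(fixS X ⊓ W)) * Nat.card ↥(A ⊓ centS W)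
              = Nat.card ↥(imgS W X) * Nat.card ↥(A ⊓ centS W) * Nat.card ↥(fixS X ⊓ W) := by ring
            _ ≤ Nat.card ↥(imgS W A) * Nat.card ↥(A ⊓ centS W) * Nat.card ↥(fixS A ⊓ W) := hb
            _ = (Nat.card ↥(imgS W A) * Nat.card ↥(fixS A ⊓ W)) * Nat.card ↥(A ⊓ centS W) := by ring
        exact Nat.le_of_mul_le_mul_right hb' hpos
      · intro a' ha'
        obtain ⟨b, hb, rfl⟩ := REDUCE_aux_mem_img hAW ha'
        rcases hcomm b hb with h | h
        · exact Or.inl ((hcomm' b hb).1 h)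
        · exact Or.inr ((hcomm' b hb).2 h)
    have hN : Norm (imgS W A) (imgS W K₀) :=
      M.ihV ↥W (imgS W K₀) (imgS W A) (REDUCE_aux_card_lt W hW) H
    exact hN _ (REDUCE_aux_mem_img' hAW ha)

end Cfsg.Agent.S3086P
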