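import Mathlib
import Cfsg.Agent.Helper2.S3086Defs
import Cfsg.Agent.Helper2.S3086Basic
import Cfsg.Agent.Helper15.S3086COP
import Cfsg.Agent.Helper15.S3086AXB
import Cfsg.Agent.Helper24.S3086QS2
import Cfsg.Agent.Helper16.S3086QS1
import Cfsg.Agent.Helper11.S3086REDUCE

/-! Board `s3086pieces`, row R3: `C_A(K) = 1` in a minimal counterexample. -/

set_option autoImplicit false
set_option linter.unusedVariables false
set_option linter.unusedSectionVars false

namespace Cfsg.Agent.S3086P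

universe u

variable {p : ℕ} [Fact p.Prime] {V : Type u} [AddCommGroup V] [Module (ZMod p) V] [Finite V]

variable {K A : Subgroup (GLV p V)}

/-- a subgroup commuting elementwise with `B` stabilises `C_V(B)` -/
theorem R3_aux_stab {S B : Subgroup (GLV p V)} (h : ∀ s ∈ S, ∀ b ∈ B, s * b = b * s) : S ≤ stabS (fixS B) := by
  have key : ∀ s ∈ S, ∀ w ∈ fixS B, s w ∈ fixS B := by
    intro s hs w hw b hb
    have h1 : (b * s) w = (s * b) w := by rw [h s hs b hb]
    have h2 : b (s w) = s (b w) := h1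
    rw [h2, hw b hb]
  intro s hs w
  constructor
  · exact key s hs w
  · intro hw
    have h1 := key s⁻¹ (S.inv_mem hs) (s w) hw
    have h2 : s⁻¹ (s w) = w := s.symm_apply_apply w
    rwa [h2] at h1

theorem R3_aux_pgroup (hA : Cfsg.IsElementaryAbelian p A) {B : Subgroup (GLV p V)} (hB : B ≤ A) : IsPGroup p ↥B := by
  intro g
  refine ⟨1, ?_⟩
  apply Subtype.ext
  rw [pow_one]
  show ((g : GLV p V)) ^ p = 1
  exact hA.2 _ (hB g.2)

theorem R3_aux_comm (hA : Cfsg.IsElementaryAbelian p A) {a b : GLV p V} (ha : a ∈ A) (hb : b ∈ A) : a * b = b * a := by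
  have hc : (⟨a, ha⟩ : ↥A) * ⟨b, hb⟩ = ⟨b, hb⟩ * ⟨a, ha⟩ := hA.1.is_comm.comm _ _
  exact congrArg Subtype.val hc

/-- R3 (L): `C_A(K) = 1` in a minimal counterexample. -/
theorem R3 (M : MC p V K A) : A ⊓ Subgroup.centralizer (K : Set (GLV p V)) = ⊥ := by
  by_contra hne
  set B₁ : Subgroup (GLV p V) := A ⊓ Subgroup.centralizer (K : Set (GLV p V)) with hB₁
  have hB₁A : B₁ ≤ A := inf_le_left
  have hB₁K : ∀ k ∈ K, ∀ b ∈ B₁, k * b = b * k := by
    intro k hk b hb
    exact (Subgroup.mem_centralizer_iff.mp hb.2) k hk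
  have hP : IsPGroup p ↥B₁ := R3_aux_pgroup M.hyp.hAel hB₁A
  have hW : fixS B₁ ≠ ⊤ := (PGF hP).1 hne
  have hKW : K ≤ stabS (fixS B₁) := R3_aux_stab hB₁K
  have hAW : A ≤ stabS (fixS B₁) := by
    apply R3_aux_stab
    intro a ha b hb
    exact R3_aux_comm M.hyp.hAel ha (hB₁A hb)
  have hnt : ¬ K ≤ centS (fixS B₁) := by
    intro hle
    have hfix : fixS B₁ ≤ fixS K := by
      intro v hv k hk
      exact hle hk v hv
    have hKbot : K = ⊥ := AXB hP hB₁K (QS_gen_pprime M.hyp.hK p) hfix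
    apply QS_not_comm M.hyp.hK
    intro x hx y hy
    rw [hKbot, Subgroup.mem_bot] at hx hy
    rw [hx, hy]
  have hmove : ∃ a ∈ A, cjg a K ≠ K := by
    by_contra h
    apply M.hnot
    intro a ha
    by_contra hne'
    exact h ⟨a, ha, hne'⟩
  have hcent : B₁ ≤ A ⊓ centS (fixS B₁) := by
    apply le_inf hB₁A
    intro b hb w hw
    exact hw b hb
  have hbest : ∀ X : Subgroup (GLV p V), X ≤ A → A ⊓ centS (fixS B₁) ≤ X →
      Nat.card ↥X * Nat.card ↥(fixS X ⊓ fixS B₁) ≤ Nat.card ↥A * Nat.card ↥(fixS A ⊓ fixS B₁) := by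
    intro X hXA hX
    have h1 : fixS X ⊓ fixS B₁ = fixS X := inf_of_le_left (fixS_anti (hcent.trans hX))
    have h2 : fixS A ⊓ fixS B₁ = fixS A := inf_of_le_left (fixS_anti hB₁A)
    rw [h1, h2]
    exact M.hyp.hbest X hXA
  exact REDUCE M (fixS B₁) hW K M.hyp.hK hKW hAW hnt M.hyp.hcomm hmove hbest

end Cfsg.Agent.S3086P
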