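import Mathlib
import Cfsg.Agent.Helper2.S3086Defs
import Cfsg.Agent.Helper2.S3086Basic
import Cfsg.Agent.Helper7.Quasisimple
import Cfsg.Agent.Helper11.S3086R3
import Cfsg.Agent.Helper15.S3086AXB
import Cfsg.Agent.Helper24.S3086QS2
import Cfsg.Agent.Helper16.S3086QS1
import Cfsg.Agent.Helper16.S3086HYPB
import Cfsg.Agent.Helper11.S3086REDUCE

/-! Board `s3086pieces`, row R4: `|A : N_A(K)| = 2` in a minimal counterexample for `p = 2`. -/

set_option autoImplicit false
set_option linter.unusedVariables false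
set_option linter.unusedSectionVars false

namespace Cfsg.Agent.S3086P

universe u

variable {p : ℕ} [Fact p.Prime] {V : Type u} [AddCommGroup V] [Module (ZMod p) V] [Finite V]

variable {K A : Subgroup (GLV p V)}

/-- elementwise commuting generating sets give elementwise commuting closures -/
theorem R4_aux_closure_comm {G : Type*} [Group G] {S T : Set G} (h : ∀ s ∈ S, ∀ t ∈ T, s * t = t * s) :
    ∀ x ∈ Subgroup.closure S, ∀ y ∈ Subgroup.closure T, x * y = y * x := by
  have h1 : ∀ s ∈ S, ∀ y ∈ Subgroup.closure T, s * y = y * s := by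
    intro s hs
    have : Subgroup.closure T ≤ Subgroup.centralizer ({s} : Set G) := by
      rw [Subgroup.closure_le]
      intro t ht
      rw [SetLike.mem_coe, Subgroup.mem_centralizer_iff]
      intro g hg
      rw [Set.mem_singleton_iff] at hg
      rw [hg]
      exact h s hs t ht
    intro y hy
    have := (Subgroup.mem_centralizer_iff.mp (this hy)) s (Set.mem_singleton s)
    exact this
  intro x hx y hy
  have : Subgroup.closure S ≤ Subgroup.centralizer ({y} : Set G) := by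
    rw [Subgroup.closure_le]
    intro s hs
    rw [SetLike.mem_coe, Subgroup.mem_centralizer_iff]
    intro g hg
    rw [Set.mem_singleton_iff] at hg
    rw [hg]
    exact (h1 s hs y hy).symm
  have := (Subgroup.mem_centralizer_iff.mp (this hx)) y (Set.mem_singleton y)
  exact this.symm

/-- index two from a coset decomposition -/
theorem R4_aux_index {G : Type*} [Group G] [Finite G] (A B : Subgroup G) (hBA : B ≤ A) (a : G) (ha : a ∈ A)
    (haB : a ∉ B) (h : ∀ c ∈ A, c ∉ B → c * a ∈ B) : Nat.card ↥A = 2 * Nat.card ↥B := by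
  have hidx : (B.subgroupOf A).index = 2 := by
    rw [Subgroup.index_eq_two_iff]
    refine ⟨⟨a, ha⟩, ?_⟩
    rintro ⟨c, hc⟩
    by_cases hcB : c ∈ B
    · right
      refine ⟨?_, ?_⟩
      · exact Subgroup.mem_subgroupOf.mpr hcB
      · intro hca
        have hca' : c * a ∈ B := Subgroup.mem_subgroupOf.mp hca
        have : a = c⁻¹ * (c * a) := by group
        rw [this] at haB
        exact haB (B.mul_mem (B.inv_mem hcB) hca')
    · left
      refine ⟨?_, ?_⟩
      · exact Subgroup.mem_subgroupOf.mpr (h c hc hcB)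
      · intro hcB'
        exact hcB (Subgroup.mem_subgroupOf.mp hcB')
  have h1 := (B.subgroupOf A).index_mul_card
  rw [hidx] at h1
  rw [← h1, Nat.card_congr (Subgroup.subgroupOfEquivOfLe hBA).toEquiv]

/-- the homomorphism `x ↦ x · (a x a⁻¹)` on `K` -/
noncomputable def R4_aux_hom (a : GLV p V) (K : Subgroup (GLV p V)) (hC : CommS K (cjg a K)) : ↥K →* GLV p V :=
  MonoidHom.mk' (fun x => (x : GLV p V) * (a * (x : GLV p V) * a⁻¹)) (by
    intro x y
    have h1 : (y : GLV p V) * (a * (x : GLV p V) * a⁻¹) = (a * (x : GLV p V) * a⁻¹) * (y : GLV p V) :=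
      hC _ y.2 _ (conj_mem_cjg x.2)
    show ((x : GLV p V) * (y : GLV p V)) * (a * ((x : GLV p V) * (y : GLV p V)) * a⁻¹) =
      ((x : GLV p V) * (a * (x : GLV p V) * a⁻¹)) * ((y : GLV p V) * (a * (y : GLV p V) * a⁻¹))
    have e1 : a * ((x : GLV p V) * (y : GLV p V)) * a⁻¹ = (a * (x : GLV p V) * a⁻¹) * (a * (y : GLV p V) * a⁻¹) := by group
    rw [e1, mul_assoc (x : GLV p V), ← mul_assoc (y : GLV p V), h1]
    simp only [mul_assoc])

theorem R4_aux_hom_apply (a : GLV p V) (K : Subgroup (GLV p V)) (hC : CommS K (cjg a K)) (x : ↥K) :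
    R4_aux_hom a K hC x = (x : GLV p V) * (a * (x : GLV p V) * a⁻¹) := rfl

theorem R4_aux_range (a : GLV p V) (K : Subgroup (GLV p V)) (hC : CommS K (cjg a K)) :
    (R4_aux_hom a K hC).range = DeltaS a K := by
  apply le_antisymm
  · rintro _ ⟨x, rfl⟩
    rw [R4_aux_hom_apply]
    exact mem_DeltaS x.2
  · unfold DeltaS
    rw [Subgroup.closure_le]
    rintro d ⟨x, hx, rfl⟩
    exact ⟨⟨x, hx⟩, rfl⟩

/-- `Δ` is quasisimple -/
theorem R4_aux_qs (a : GLV p V) (K : Subgroup (GLV p V)) (hK : Cfsg.IsQuasisimple ↥K) (hC : CommS K (cjg a K))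
    (hne : cjg a K ≠ K) : Cfsg.IsQuasisimple ↥(DeltaS a K) := by
  have hK' : Cfsg.IsQuasisimple ↥(⊤ : Subgroup ↥K) :=
    Cfsg.Agent.Helper7.isQuasisimple_of_mulEquiv Subgroup.topEquiv.symm hK
  have hker : ¬ (⊤ : Subgroup ↥K) ≤ (R4_aux_hom a K hC).ker := by
    intro hle
    apply hne
    have hsub : cjg a K ≤ K := by
      intro y hy
      rw [mem_cjg] at hy
      have h1 : (⟨a⁻¹ * y * a, hy⟩ : ↥K) ∈ (R4_aux_hom a K hC).ker := hle (Subgroup.mem_top _)
      rw [MonoidHom.mem_ker, R4_aux_hom_apply] at h1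
      have h2 : (a⁻¹ * y * a) * (a * (a⁻¹ * y * a) * a⁻¹) = 1 := h1
      have h3 : a * (a⁻¹ * y * a) * a⁻¹ = y := by group
      rw [h3] at h2
      have h4 : y = (a⁻¹ * y * a)⁻¹ := eq_inv_of_mul_eq_one_right h2
      rw [h4]
      exact K.inv_mem hy
    exact Subgroup.eq_of_le_of_card_ge hsub (le_of_eq (cjg_card a K).symm)
  have h := QS_map hK' (R4_aux_hom a K hC) hker
  have e : (⊤ : Subgroup ↥K).map (R4_aux_hom a K hC) = DeltaS a K := by
    rw [← MonoidHom.range_eq_map, R4_aux_range]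
  rw [e] at h
  exact h

/-- `a` centralises `Δ` when `a² = 1` -/
theorem R4_aux_cent (a : GLV p V) (K : Subgroup (GLV p V)) (hC : CommS K (cjg a K)) (ha : a * a = 1) :
    ∀ d ∈ DeltaS a K, d * a = a * d := by
  have hainv : a⁻¹ = a := inv_eq_of_mul_eq_one_left ha
  have : DeltaS a K ≤ Subgroup.centralizer ({a} : Set (GLV p V)) := by
    unfold DeltaS
    rw [Subgroup.closure_le]
    rintro d ⟨x, hx, rfl⟩
    rw [SetLike.mem_coe, Subgroup.mem_centralizer_iff]
    intro g hg
    rw [Set.mem_singleton_iff] at hg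
    rw [hg]
    have h1 : x * (a * x * a⁻¹) = (a * x * a⁻¹) * x := hC _ hx _ (conj_mem_cjg hx)
    rw [hainv] at h1 ⊢
    calc a * (x * (a * x * a)) = ((a * x * a) * x) * a := by simp only [mul_assoc]
      _ = (x * (a * x * a)) * a := by rw [h1]
  intro d hd
  have := (Subgroup.mem_centralizer_iff.mp (this hd)) a (Set.mem_singleton a)
  exact this.symm

/-- conjugating `Δ` by an element commuting with `a` -/
theorem R4_aux_cjg_delta (a c : GLV p V) (K : Subgroup (GLV p V)) (hac : a * c = c * a) :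
    cjg c (DeltaS a K) = DeltaS a (cjg c K) := by
  unfold cjg DeltaS
  rw [MonoidHom.map_closure]
  congr 1
  ext d
  constructor
  · rintro ⟨_, ⟨x, hx, rfl⟩, rfl⟩
    refine ⟨c * x * c⁻¹, Subgroup.mem_map.mpr ⟨x, hx, by simp [MulAut.conj_apply]⟩, ?_⟩
    have hac' : a * c⁻¹ = c⁻¹ * a := by
      have : c⁻¹ * (a * c) * c⁻¹ = c⁻¹ * (c * a) * c⁻¹ := by rw [hac]
      have e1 : c⁻¹ * (a * c) * c⁻¹ = c⁻¹ * a := by group
      have e2 : c⁻¹ * (c * a) * c⁻¹ = a * c⁻¹ := by group
      rw [e1, e2] at this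
      exact this.symm
    show c * (x * (a * x * a⁻¹)) * c⁻¹ = c * x * c⁻¹ * (a * (c * x * c⁻¹) * a⁻¹)
    have e3 : a * (c * x * c⁻¹) * a⁻¹ = (a * c) * x * (a * c)⁻¹ := by group
    rw [e3, hac]
    group
  · rintro ⟨y, hy, rfl⟩
    obtain ⟨x, hx, rfl⟩ := Subgroup.mem_map.mp hy
    refine ⟨x * (a * x * a⁻¹), ⟨x, hx, rfl⟩, ?_⟩
    show c * (x * (a * x * a⁻¹)) * c⁻¹ = c * x * c⁻¹ * (a * (c * x * c⁻¹) * a⁻¹)
    have e3 : a * (c * x * c⁻¹) * a⁻¹ = (a * c) * x * (a * c)⁻¹ := by group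
    rw [e3, hac]
    group

/-- `Δ` built from `a K a⁻¹` is `Δ` again -/
theorem R4_aux_delta_conj (a : GLV p V) (K : Subgroup (GLV p V)) (hC : CommS K (cjg a K)) (ha : a * a = 1) :
    DeltaS a (cjg a K) = DeltaS a K := by
  have hainv : a⁻¹ = a := inv_eq_of_mul_eq_one_left ha
  unfold DeltaS
  congr 1
  ext d
  constructor
  · rintro ⟨y, hy, rfl⟩
    have hy' := hy
    rw [mem_cjg] at hy'
    refine ⟨a⁻¹ * y * a, hy', ?_⟩
    have h1 : (a⁻¹ * y * a) * y = y * (a⁻¹ * y * a) := hC _ hy' _ hy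
    have e1 : a * (a⁻¹ * y * a) * a⁻¹ = y := by group
    have e2 : a * y * a⁻¹ = a⁻¹ * y * a := by rw [hainv]
    rw [e1, e2, h1]
  · rintro ⟨x, hx, rfl⟩
    refine ⟨a * x * a⁻¹, conj_mem_cjg hx, ?_⟩
    have h1 : x * (a * x * a⁻¹) = (a * x * a⁻¹) * x := hC _ hx _ (conj_mem_cjg hx)
    have e : a * (a * x * a⁻¹) * a⁻¹ = x := by
      have : a * (a * x * a⁻¹) * a⁻¹ = (a * a) * x * (a * a)⁻¹ := by group
      rw [this, ha]
      group
    rw [e, h1]

/-- R4 (L): `|A : N_A(K)| = 2` in a minimal counterexample for `p = 2`. -/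
theorem R4 (M : MC p V K A) (hp : p = 2) :
    Nat.card ↥A = 2 * Nat.card ↥(A ⊓ Subgroup.normalizer (K : Set (GLV p V))) := by
  have hAel := M.hyp.hAel
  have hsq : ∀ a ∈ A, a * a = 1 := by
    intro a ha
    have h2 : a ^ 2 = 1 := (congrArg (fun n : ℕ => a ^ n) hp).symm.trans (hAel.2 a ha)
    rwa [pow_two] at h2
  have hAc : ∀ a ∈ A, ∀ b ∈ A, a * b = b * a := fun a ha b hb => R3_aux_comm hAel ha hb
  by_contra hcard
  -- an element moving `K`
  obtain ⟨a, ha, hane⟩ : ∃ a ∈ A, cjg a K ≠ K := by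
    by_contra h
    apply M.hnot
    intro a ha
    by_contra hne'
    exact h ⟨a, ha, hne'⟩
  have haa := hsq a ha
  have hainv : a⁻¹ = a := inv_eq_of_mul_eq_one_left haa
  have hCa : CommS K (cjg a K) := by
    rcases M.hyp.hcomm a ha with h | h
    · exact absurd h hane
    · exact h
  -- a second coset
  obtain ⟨c, hc, hcK, hcaK⟩ : ∃ c ∈ A, cjg c K ≠ K ∧ cjg (c * a) K ≠ K := by
    by_contra h
    apply hcard
    apply R4_aux_index A _ inf_le_left a ha
    · intro haB
      exact hane (cjg_eq_iff.mpr haB.2)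
    · intro c hc hcB
      refine ⟨A.mul_mem hc ha, cjg_eq_iff.mp ?_⟩
      by_contra hne'
      apply h
      refine ⟨c, hc, ?_, hne'⟩
      intro hck
      exact hcB ⟨hc, cjg_eq_iff.mp hck⟩
  have hca : a * c = c * a := hAc a ha c hc
  have hcne : cjg c K ≠ cjg a K := by
    intro h
    apply hcaK
    rw [← hca, ← cjg_mul, h, cjg_mul, haa, cjg_one]
  -- `Δ` and `W`
  have hΔqs : Cfsg.IsQuasisimple ↥(DeltaS a K) := R4_aux_qs a K M.hyp.hK hCa hane
  have hΔa := R4_aux_cent a K hCa haa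
  have hza : Subgroup.zpowers a ≤ A := Subgroup.zpowers_le.mpr ha
  have hΔz : ∀ s ∈ DeltaS a K, ∀ b ∈ Subgroup.zpowers a, s * b = b * s := by
    intro s hs b hb
    obtain ⟨n, rfl⟩ := Subgroup.mem_zpowers_iff.mp hb
    have : Commute s a := hΔa s hs
    exact (this.zpow_right n)
  have hΔW : DeltaS a K ≤ stabS (fixS (Subgroup.zpowers a)) := R3_aux_stab hΔz
  have hAW : A ≤ stabS (fixS (Subgroup.zpowers a)) := by
    apply R3_aux_stab
    intro x hx b hb
    exact hAc x hx b (hza hb)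
  have hW : fixS (Subgroup.zpowers a) ≠ ⊤ := by
    intro h
    apply hane
    have : a = 1 := by
      apply LinearEquiv.ext
      intro v
      have hv : v ∈ fixS (Subgroup.zpowers a) := by rw [h]; trivial
      exact hv a (Subgroup.mem_zpowers a)
    rw [this, cjg_one]
  have hP : IsPGroup p ↥(Subgroup.zpowers a) := R3_aux_pgroup hAel hza
  have hnt : ¬ DeltaS a K ≤ centS (fixS (Subgroup.zpowers a)) := by
    intro hle
    have hfix : fixS (Subgroup.zpowers a) ≤ fixS (DeltaS a K) := by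
      intro v hv d hd
      exact hle hd v hv
    have hbot : DeltaS a K = ⊥ := AXB hP hΔz (QS_gen_pprime hΔqs p) hfix
    apply QS_not_comm hΔqs
    intro x hx y hy
    rw [hbot, Subgroup.mem_bot] at hx hy
    rw [hx, hy]
  -- the commuting hypothesis for `Δ`
  have hthird : ∀ c ∈ A, cjg c K ≠ K → cjg c K ≠ cjg a K → CommS (DeltaS a K) (DeltaS a (cjg c K)) := by
    intro c hc h1 h2
    have hca : a * c = c * a := hAc a ha c hc
    have c1 : CommS K (cjg c K) := by
      rcases M.hyp.hcomm c hc with h | h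
      · exact absurd h h1
      · exact h
    have c2 : CommS (cjg a K) (cjg c K) := by
      rcases Hyp.conj_pair M.hyp ha hc with h | h
      · exact absurd h.symm h2
      · exact h
    have c3 : CommS K (cjg a (cjg c K)) := by
      rw [cjg_mul]
      rcases M.hyp.hcomm (a * c) (A.mul_mem ha hc) with h | h
      · exfalso
        apply h2
        have : cjg a (cjg (a * c) K) = cjg a K := by rw [h]
        rw [cjg_mul, ← mul_assoc, haa, one_mul] at this
        exact this
      · exact h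
    have c4 : CommS (cjg a K) (cjg a (cjg c K)) := c1.cjg a
    unfold DeltaS
    apply R4_aux_closure_comm
    rintro _ ⟨x, hx, rfl⟩ _ ⟨y, hy, rfl⟩
    have hx' := conj_mem_cjg (a := a) hx
    have hy' := conj_mem_cjg (a := a) hy
    have e1 := c1 x hx y hy
    have e2 := c3 x hx _ hy'
    have e3 := c2 _ hx' y hy
    have e4 := c4 _ hx' _ hy'
    calc x * (a * x * a⁻¹) * (y * (a * y * a⁻¹))
        = x * ((a * x * a⁻¹) * y) * (a * y * a⁻¹) := by simp only [mul_assoc]
      _ = x * (y * (a * x * a⁻¹)) * (a * y * a⁻¹) := by rw [e3]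
      _ = (x * y) * ((a * x * a⁻¹) * (a * y * a⁻¹)) := by simp only [mul_assoc]
      _ = (y * x) * ((a * y * a⁻¹) * (a * x * a⁻¹)) := by rw [e1, e4]
      _ = y * (x * (a * y * a⁻¹)) * (a * x * a⁻¹) := by simp only [mul_assoc]
      _ = y * ((a * y * a⁻¹) * x) * (a * x * a⁻¹) := by rw [e2]
      _ = y * (a * y * a⁻¹) * (x * (a * x * a⁻¹)) := by simp only [mul_assoc]
  have hcommΔ : ∀ c ∈ A, cjg c (DeltaS a K) = DeltaS a K ∨ CommS (DeltaS a K) (cjg c (DeltaS a K)) := by
    intro c hc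
    rw [R4_aux_cjg_delta a c K (hAc a ha c hc)]
    by_cases h1 : cjg c K = K
    · left
      rw [h1]
    · by_cases h2 : cjg c K = cjg a K
      · left
        rw [h2, R4_aux_delta_conj a K hCa haa]
      · right
        exact hthird c hc h1 h2
  have hmoveΔ : ∃ c ∈ A, cjg c (DeltaS a K) ≠ DeltaS a K := by
    refine ⟨c, hc, ?_⟩
    intro h
    have h3 := hthird c hc hcK hcne
    rw [← R4_aux_cjg_delta a c K hca, h] at h3
    exact QS_not_comm hΔqs h3
  have hbest : ∀ X : Subgroup (GLV p V), X ≤ A → A ⊓ centS (fixS (Subgroup.zpowers a)) ≤ X →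
      Nat.card ↥X * Nat.card ↥(fixS X ⊓ fixS (Subgroup.zpowers a)) ≤
        Nat.card ↥A * Nat.card ↥(fixS A ⊓ fixS (Subgroup.zpowers a)) := by
    intro X hXA hX
    have haX : Subgroup.zpowers a ≤ X := by
      apply Subgroup.zpowers_le.mpr
      apply hX
      exact ⟨ha, le_centS_fixS _ (Subgroup.mem_zpowers a)⟩
    have h1 : fixS X ⊓ fixS (Subgroup.zpowers a) = fixS X := inf_of_le_left (fixS_anti haX)
    have h2 : fixS A ⊓ fixS (Subgroup.zpowers a) = fixS A := inf_of_le_left (fixS_anti hza)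
    rw [h1, h2]
    exact M.hyp.hbest X hXA
  exact REDUCE M (fixS (Subgroup.zpowers a)) hW (DeltaS a K) hΔqs hΔW hAW hnt hcommΔ hmoveΔ hbest

end Cfsg.Agent.S3086P
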