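import Mathlib
import Cfsg.Agent.Helper8.S3154Defs

/-! # S3154, piece TR1: `u(a,0,c)` with `(a,c) ≠ (0,0)` is conjugate in `SL₃(F)` to `u(1,0,0)` -/

set_option autoImplicit false

namespace Cfsg.Agent.S3154P

open Matrix

variable {F : Type*} [Field F]

theorem TR1.aux_conj (M : Matrix (Fin 3) (Fin 3) F) (hM : M.det = 1)
    (x y : Matrix.SpecialLinearGroup (Fin 3) F) (h : M * x.1 = y.1 * M) :
    ∃ g : Matrix.SpecialLinearGroup (Fin 3) F, g * x * g⁻¹ = y :=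
  ⟨⟨M, hM⟩, mul_inv_eq_iff_eq_mul.mpr (Subtype.ext h)⟩

/-- TR1 -/
theorem TR1 [Fintype F] (hF : Fintype.card F = 4) (a c : F) (h : ¬ (a = 0 ∧ c = 0)) :
    ∃ g : Matrix.SpecialLinearGroup (Fin 3) F, g * U a 0 c * g⁻¹ = U 1 0 0 := by
  by_cases ha : a = 0
  · have hc : c ≠ 0 := fun hc => h ⟨ha, hc⟩
    subst ha
    refine TR1.aux_conj !![c⁻¹, 0, 0; 0, 0, 1; 0, -c, 0] ?_ _ _ ?_
    · simp [Matrix.det_fin_three, hc]
    · ext i j
      fin_cases i <;> fin_cases j <;>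
        simp [uMat, Matrix.mul_apply, Fin.sum_univ_three, hc]
  · refine TR1.aux_conj !![a⁻¹, 0, 0; 0, 1, c * a⁻¹; 0, 0, a] ?_ _ _ ?_
    · simp [Matrix.det_fin_three, ha]
    · ext i j
      fin_cases i <;> fin_cases j <;>
        simp [uMat, Matrix.mul_apply, Fin.sum_univ_three, ha] <;> ring

end Cfsg.Agent.S3154P
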