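import Mathlib
import Cfsg.Agent.Helper8.S3154Defs

/-! # S3154, piece TR2: `u(0,b,c)` with `(b,c) ≠ (0,0)` is conjugate in `SL₃(F)` to `u(0,1,0)` -/

set_option autoImplicit false

namespace Cfsg.Agent.S3154P

open Matrix

variable {F : Type*} [Field F]

theorem TR2.aux_conj (M : Matrix (Fin 3) (Fin 3) F) (hM : M.det = 1)
    (x y : Matrix.SpecialLinearGroup (Fin 3) F) (h : M * x.1 = y.1 * M) :
    ∃ g : Matrix.SpecialLinearGroup (Fin 3) F, g * x * g⁻¹ = y :=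
  ⟨⟨M, hM⟩, mul_inv_eq_iff_eq_mul.mpr (Subtype.ext h)⟩

/-- TR2 -/
theorem TR2 [Fintype F] (hF : Fintype.card F = 4) (b c : F) (h : ¬ (b = 0 ∧ c = 0)) :
    ∃ g : Matrix.SpecialLinearGroup (Fin 3) F, g * U 0 b c * g⁻¹ = U 0 1 0 := by
  by_cases hb : b = 0
  · have hc : c ≠ 0 := fun hc => h ⟨hb, hc⟩
    subst hb
    refine TR2.aux_conj !![0, -c⁻¹, 0; 1, 0, 0; 0, 0, c] ?_ _ _ ?_
    · simp [Matrix.det_fin_three, hc]
    · ext i j
      fin_cases i <;> fin_cases j <;>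
        simp [uMat, Matrix.mul_apply, Fin.sum_univ_three, hc]
  · refine TR2.aux_conj !![b⁻¹, -(c * b⁻¹ * b⁻¹), 0; 0, 1, 0; 0, 0, b] ?_ _ _ ?_
    · simp [Matrix.det_fin_three, hb]
    · ext i j
      fin_cases i <;> fin_cases j <;>
        simp [uMat, Matrix.mul_apply, Fin.sum_univ_three, hb] <;> field_simp <;> ring

end Cfsg.Agent.S3154P
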