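import Mathlib
import Cfsg.Agent.Helper12.S3222Defs
import Cfsg.Agent.Helper7.S3222DCOUNT
import Cfsg.Agent.Helper28.S3222SYLFIX
import Cfsg.Agent.Helper27.S3222CLS
import Cfsg.Agent.Helper27.S3222INVERT

/-! # S3222, piece A6T: with 36 Sylow 5-subgroups, `t` normalises none of them -/

set_option autoImplicit false

namespace Cfsg.Agent.S3222P

/-- A Sylow 5-subgroup of a group of order 720 has order 5. -/
theorem A6T_aux_card {G : Type*} [Group G] [Finite G] [Fact (Nat.Prime 5)]
    (hG : Nat.card G = 720) (P : Sylow 5 G) : Nat.card ↥(P : Subgroup G) = 5 := by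
  rw [Sylow.card_eq_multiplicity, hG]
  have h : (720 : ℕ).factorization 5 = 1 := by
    have h1 : (720 : ℕ) = 5 * 144 := by norm_num
    rw [h1, Nat.factorization_mul (by norm_num) (by norm_num)]
    have h2 : (144 : ℕ).factorization 5 = 0 :=
      Nat.factorization_eq_zero_of_not_dvd (by norm_num)
    simp [h2, Nat.Prime.factorization_self (by norm_num : Nat.Prime 5)]
  rw [h]; norm_num

/-- A6T (M): with 36 Sylow 5-subgroups, `t` normalises none of them. -/
theorem A6T {G : Type*} [Group G] [Finite G] [Fact (Nat.Prime 5)] (t : G) (T : Sylow 2 G)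
    (L : Local t T) (hG : Nat.card G = 720) (h36 : Nat.card (Sylow 5 G) = 36)
    (P : Sylow 5 G) : t ∉ Subgroup.normalizer ((P : Subgroup G) : Set G) := by
  intro hN
  have hP : Nat.card ↥(P : Subgroup G) = 5 := A6T_aux_card hG P
  have htt : t * t = 1 := by
    rw [← pow_two, ← L.ht, pow_orderOf_eq_one]
  have hC : ¬ 5 ∣ Nat.card ↥(Subgroup.centralizer ({t} : Set G)) := by
    rw [L.cardC]; decide
  have hinv := INVERT P hP t htt hN hC
  have hfix := SYLFIX P hP (by decide) t htt hinv
  have hcls := CLS t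
  have hd := DCOUNT t P
  rw [L.cardC, hG] at hcls
  have h15 : Nat.card {v : G // IsConj t v} = 15 := by omega
  rw [h15, h36] at hd
  rw [h36] at hfix
  have hk : 0 < Nat.card {v : G // IsConj t v ∧
      v ∈ Subgroup.normalizer ((P : Subgroup G) : Set G)} := by
    have : Nonempty {v : G // IsConj t v ∧
        v ∈ Subgroup.normalizer ((P : Subgroup G) : Set G)} := ⟨⟨t, IsConj.refl t, hN⟩⟩
    exact Nat.card_pos
  omega

end Cfsg.Agent.S3222P
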