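import Mathlib
import Cfsg.Agent.Helper12.S3222Defs

/-!
# S3222, piece LOCA: the local data

All fields of `Local t T` by transport along `e : C_G(t) ≃* Γ = Z₂ × S₄`, the facts about `Γ`
being checked by `decide`.
-/

set_option autoImplicit false

namespace Cfsg.Agent.S3222P

/-! ## Facts about `Γ = Z₂ × S₄` -/

/-- the standard element `ζ = (1, (02)(13))` -/
def LOCA_aux_zeta : Gam := (1, Equiv.swap 0 2 * Equiv.swap 1 3)

/-- the central involution `τ = (-1, 1)` -/
def LOCA_aux_tau : Gam := (Multiplicative.ofAdd 1, 1)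

theorem LOCA_aux_cardGam : Nat.card Gam = 48 := by
  simp [Nat.card_eq_fintype_card, Fintype.card_perm, Nat.factorial]

set_option maxRecDepth 100000 in
theorem LOCA_aux_cardSigma :
    Nat.card {γ : Gam // γ * LOCA_aux_zeta = LOCA_aux_zeta * γ} = 16 := by
  rw [Nat.card_eq_fintype_card, Fintype.card_subtype]
  decide

set_option maxRecDepth 100000 in
theorem LOCA_aux_center :
    ∀ γ : Gam, (∀ δ : Gam, γ * δ = δ * γ) → γ = 1 ∨ γ = LOCA_aux_tau := by
  decide

set_option maxRecDepth 100000 in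
theorem LOCA_aux_snd : ∀ γ : Gam, γ.2 = 1 → γ = 1 ∨ γ = LOCA_aux_tau := by
  decide

set_option maxRecDepth 100000 in
theorem LOCA_aux_odd : ∀ x : Gam, x ≠ 1 →
    (∃ k : Fin 4, x ^ (k : ℕ) ≠ 1 ∧ x ^ (k : ℕ) * x ^ (k : ℕ) = 1) ∨
    ∃ g : Gam, x * (g * x⁻¹ * g⁻¹) ≠ 1 ∧ (x * (g * x⁻¹ * g⁻¹)) * (x * (g * x⁻¹ * g⁻¹)) = 1 := by
  decide

set_option maxRecDepth 100000 in
theorem LOCA_aux_cent8 : ∀ u : Gam, u * LOCA_aux_zeta = LOCA_aux_zeta * u →
    8 ∣ Nat.card {γ : Gam // γ * LOCA_aux_zeta = LOCA_aux_zeta * γ ∧ γ * u = u * γ} := by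
  simp only [Nat.card_eq_fintype_card, Fintype.card_subtype]
  decide

/-! ## `S₄` is solvable -/

/-- membership in the Klein four-group of `S₄` -/
def LOCA_aux_inV (σ : Equiv.Perm (Fin 4)) : Prop :=
  σ = 1 ∨ σ = Equiv.swap 0 1 * Equiv.swap 2 3 ∨ σ = Equiv.swap 0 2 * Equiv.swap 1 3 ∨
    σ = Equiv.swap 0 3 * Equiv.swap 1 2

instance LOCA_aux_inV_dec : DecidablePred LOCA_aux_inV := fun σ => by
  unfold LOCA_aux_inV; infer_instance

set_option maxRecDepth 100000 in
theorem LOCA_aux_V_mul : ∀ a b : Equiv.Perm (Fin 4), LOCA_aux_inV a → LOCA_aux_inV b →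
    LOCA_aux_inV (a * b) := by decide

set_option maxRecDepth 100000 in
theorem LOCA_aux_V_inv : ∀ a : Equiv.Perm (Fin 4), LOCA_aux_inV a → LOCA_aux_inV a⁻¹ := by
  decide

/-- the Klein four-group of `S₄` -/
def LOCA_aux_V : Subgroup (Equiv.Perm (Fin 4)) where
  carrier := {σ | LOCA_aux_inV σ}
  mul_mem' := fun {a b} ha hb => LOCA_aux_V_mul a b ha hb
  one_mem' := Or.inl rfl
  inv_mem' := fun {a} ha => LOCA_aux_V_inv a ha

set_option maxRecDepth 100000 in
theorem LOCA_aux_comm1 : ∀ a b : Equiv.Perm (Fin 4),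
    Equiv.Perm.sign (a * b * a⁻¹ * b⁻¹) = 1 := by decide

set_option maxRecDepth 100000 in
theorem LOCA_aux_comm2 : ∀ a b : Equiv.Perm (Fin 4), Equiv.Perm.sign a = 1 →
    Equiv.Perm.sign b = 1 → LOCA_aux_inV (a * b * a⁻¹ * b⁻¹) := by decide

set_option maxRecDepth 100000 in
theorem LOCA_aux_comm3 : ∀ a b : Equiv.Perm (Fin 4), LOCA_aux_inV a → LOCA_aux_inV b →
    a * b * a⁻¹ * b⁻¹ = 1 := by decide

theorem LOCA_aux_solvS4 : Group.IsSolvable (Equiv.Perm (Fin 4)) := by
  rw [Group.isSolvable_def]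
  refine ⟨3, ?_⟩
  have h1 : derivedSeries (Equiv.Perm (Fin 4)) 1 ≤ alternatingGroup (Fin 4) := by
    rw [derivedSeries_succ, derivedSeries_zero, Subgroup.commutator_le]
    intro a _ b _
    rw [Equiv.Perm.mem_alternatingGroup]
    exact LOCA_aux_comm1 a b
  have h2 : derivedSeries (Equiv.Perm (Fin 4)) 2 ≤ LOCA_aux_V := by
    rw [derivedSeries_succ]
    refine le_trans (Subgroup.commutator_mono h1 h1) ?_
    rw [Subgroup.commutator_le]
    intro a ha b hb
    exact LOCA_aux_comm2 a b (Equiv.Perm.mem_alternatingGroup.mp ha)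
      (Equiv.Perm.mem_alternatingGroup.mp hb)
  rw [derivedSeries_succ, eq_bot_iff]
  refine le_trans (Subgroup.commutator_mono h2 h2) ?_
  rw [Subgroup.commutator_le]
  intro a ha b hb
  rw [Subgroup.mem_bot]
  exact LOCA_aux_comm3 a b ha hb

theorem LOCA_aux_solvGam : Group.IsSolvable Gam := by
  have := LOCA_aux_solvS4
  infer_instance

/-! ## `C_{S₄}((02)(13))` is dihedral of order 8 -/

/-- `ZMod 4` is `Fin 4` -/
def LOCA_aux_dcast (i : ZMod 4) : Fin 4 := i

/-- the action of the dihedral group on `ZMod 4 = Fin 4` matching Mathlib's multiplication -/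
def LOCA_aux_dfun : DihedralGroup 4 → Equiv.Perm (Fin 4)
  | DihedralGroup.r i => ⟨fun x => x - LOCA_aux_dcast i, fun x => x + LOCA_aux_dcast i,
      fun x => by simp, fun x => by simp⟩
  | DihedralGroup.sr i => ⟨fun x => LOCA_aux_dcast i - x, fun x => LOCA_aux_dcast i - x,
      fun x => by simp, fun x => by simp⟩

set_option maxRecDepth 100000 in
theorem LOCA_aux_dmul : ∀ a b : DihedralGroup 4,
    LOCA_aux_dfun (a * b) = LOCA_aux_dfun a * LOCA_aux_dfun b := by
  decide

/-- the embedding `D₈ → S₄` -/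
def LOCA_aux_dhom : DihedralGroup 4 →* Equiv.Perm (Fin 4) :=
  MonoidHom.mk' LOCA_aux_dfun LOCA_aux_dmul

set_option maxRecDepth 100000 in
theorem LOCA_aux_dinj : ∀ a b : DihedralGroup 4, LOCA_aux_dfun a = LOCA_aux_dfun b → a = b := by
  decide

set_option maxRecDepth 100000 in
theorem LOCA_aux_dsurj : ∀ σ : Equiv.Perm (Fin 4),
    σ * (Equiv.swap 0 2 * Equiv.swap 1 3) = (Equiv.swap 0 2 * Equiv.swap 1 3) * σ →
    ∃ d : DihedralGroup 4, LOCA_aux_dfun d = σ := by
  decide

theorem LOCA_aux_dhom_inj : Function.Injective LOCA_aux_dhom := fun a b h =>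
  LOCA_aux_dinj a b h

/-! ## Transport -/

/-- counting a subgroup of `C_G(t)` inside `Γ` -/
theorem LOCA_aux_card {G : Type*} [Group G] (t : G)
    (e : ↥(Subgroup.centralizer ({t} : Set G)) ≃* Gam)
    (K : Subgroup G) (hK : K ≤ Subgroup.centralizer ({t} : Set G)) (q : Gam → Prop)
    (hq : ∀ x : ↥(Subgroup.centralizer ({t} : Set G)), (x : G) ∈ K ↔ q (e x)) :
    Nat.card ↥K = Nat.card {γ : Gam // q γ} := by
  refine Nat.card_congr ?_
  exact
    { toFun := fun s => ⟨e ⟨s.1, hK s.2⟩, (hq _).mp s.2⟩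
      invFun := fun γ => ⟨(e.symm γ.1 : G), (hq _).mpr (by simpa using γ.2)⟩
      left_inv := fun s => by simp
      right_inv := fun γ => by simp }

/-- a subgroup containing an involution has even order -/
theorem LOCA_aux_even {G : Type*} [Group G] [Finite G] (N : Subgroup G) (w : G) (hw : w ∈ N)
    (hw1 : w ≠ 1) (hw2 : w * w = 1) : ¬ Odd (Nat.card ↥N) := by
  have ho : orderOf w = 2 := orderOf_eq_prime (by rw [pow_two]; exact hw2) hw1
  have h2 : orderOf (⟨w, hw⟩ : ↥N) = 2 := by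
    rw [← ho]; exact Subgroup.orderOf_mk w hw
  have hd : 2 ∣ Nat.card ↥N := by
    rw [← h2]; exact orderOf_dvd_natCard _
  rw [Nat.not_odd_iff_even]
  exact (even_iff_two_dvd).mpr hd

/-- `e t = τ` -/
theorem LOCA_aux_et {G : Type*} [Group G] (t : G) (ht : orderOf t = 2)
    (e : ↥(Subgroup.centralizer ({t} : Set G)) ≃* Gam) :
    e ⟨t, Subgroup.mem_centralizer_singleton_iff.mpr rfl⟩ = LOCA_aux_tau := by
  set tc : ↥(Subgroup.centralizer ({t} : Set G)) :=
    ⟨t, Subgroup.mem_centralizer_singleton_iff.mpr rfl⟩ with htc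
  have hcen : ∀ δ : Gam, e tc * δ = δ * e tc := by
    intro δ
    obtain ⟨y, rfl⟩ := e.surjective δ
    rw [← map_mul, ← map_mul]
    congr 1
    apply Subtype.ext
    have := Subgroup.mem_centralizer_singleton_iff.mp y.2
    simpa [htc] using this.symm
  rcases LOCA_aux_center (e tc) hcen with h | h
  · exfalso
    have h1 : tc = 1 := (MulEquiv.map_eq_one_iff e).mp h
    have h2 : t = 1 := by
      have := congrArg Subtype.val h1
      simpa [htc] using this
    rw [h2, orderOf_one] at ht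
    omega
  · exact h

/-- LOCA (L): the local data. -/
theorem LOCA {G : Type*} [Group G] [Finite G]
    (t : G) (ht : orderOf t = 2) (T : Sylow 2 G) (htT : t ∈ (T : Subgroup G))
    (htc : ∀ s ∈ (T : Subgroup G), s * t = t * s)
    (e : ↥(Subgroup.centralizer ({t} : Set G)) ≃* Gam)
    (hstd : ∀ x : ↥(Subgroup.centralizer ({t} : Set G)), (x : G) ∈ (T : Subgroup G) ↔
        e x * ((1, Equiv.swap 0 2 * Equiv.swap 1 3) : Gam) =
          ((1, Equiv.swap 0 2 * Equiv.swap 1 3) : Gam) * e x) :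
    Local t T := by
  have hTC : (T : Subgroup G) ≤ Subgroup.centralizer ({t} : Set G) := fun s hs =>
    Subgroup.mem_centralizer_singleton_iff.mpr (htc s hs)
  have hcardT : Nat.card ↥(T : Subgroup G) = 16 := by
    rw [LOCA_aux_card t e (T : Subgroup G) hTC
      (fun γ => γ * LOCA_aux_zeta = LOCA_aux_zeta * γ) hstd]
    exact LOCA_aux_cardSigma
  refine ⟨ht, htT, htc, ?_, hcardT, ?_, ?_, ?_, ?_⟩
  · -- cardC
    rw [Nat.card_congr e.toEquiv, LOCA_aux_cardGam]
  · -- solvC
    have := LOCA_aux_solvGam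
    exact Group.isSolvable_of_isSolvable_injective (f := e.toMonoidHom) e.injective
  · -- oddC
    intro N hN hnorm hodd
    by_contra hne
    obtain ⟨x, hxN, hx1⟩ : ∃ x ∈ N, x ≠ 1 := by
      by_contra hcon
      refine hne ((Subgroup.eq_bot_iff_forall N).mpr fun y hy => ?_)
      by_contra hy1
      exact hcon ⟨y, hy, hy1⟩
    set xc : ↥(Subgroup.centralizer ({t} : Set G)) := ⟨x, hN hxN⟩ with hxc
    have hγ1 : e xc ≠ 1 := by
      intro h
      have h1 : xc = 1 := (MulEquiv.map_eq_one_iff e).mp h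
      exact hx1 (by simpa [hxc] using congrArg Subtype.val h1)
    -- an involution in `N`
    have key : ∃ w ∈ N, w ≠ 1 ∧ w * w = 1 := by
      rcases LOCA_aux_odd (e xc) hγ1 with ⟨k, hk1, hk2⟩ | ⟨g, hg1, hg2⟩
      · refine ⟨x ^ (k : ℕ), N.pow_mem hxN _, ?_, ?_⟩
        · intro h
          apply hk1
          rw [← map_pow]
          have : xc ^ (k : ℕ) = 1 := Subtype.ext (by simpa [hxc] using h)
          rw [this, map_one]
        · have h3 : e (xc ^ (k : ℕ) * xc ^ (k : ℕ)) = 1 := by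
            rw [map_mul, map_pow]; exact hk2
          have h4 := (MulEquiv.map_eq_one_iff e).mp h3
          simpa [hxc] using congrArg Subtype.val h4
      · set hc : ↥(Subgroup.centralizer ({t} : Set G)) := e.symm g with hhc
        have hw : x * ((hc : G) * x⁻¹ * (hc : G)⁻¹) ∈ N :=
          N.mul_mem hxN (hnorm _ hc.2 _ (N.inv_mem hxN))
        have he : e (xc * (hc * xc⁻¹ * hc⁻¹)) = e xc * (g * (e xc)⁻¹ * g⁻¹) := by
          simp [hhc]
        refine ⟨_, hw, ?_, ?_⟩
        · intro h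
          apply hg1
          rw [← he]
          have : xc * (hc * xc⁻¹ * hc⁻¹) = 1 := Subtype.ext (by simpa [hxc] using h)
          rw [this, map_one]
        · have h3 : e ((xc * (hc * xc⁻¹ * hc⁻¹)) * (xc * (hc * xc⁻¹ * hc⁻¹))) = 1 := by
            rw [map_mul, he]; exact hg2
          have h4 := (MulEquiv.map_eq_one_iff e).mp h3
          simpa [hxc] using congrArg Subtype.val h4
    obtain ⟨w, hwN, hw1, hw2⟩ := key
    exact LOCA_aux_even N w hwN hw1 hw2 hodd
  · -- cent8
    intro u hu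
    set uc : ↥(Subgroup.centralizer ({t} : Set G)) := ⟨u, hTC hu⟩ with huc
    have hK : (T : Subgroup G) ⊓ Subgroup.centralizer ({u} : Set G) ≤
        Subgroup.centralizer ({t} : Set G) := inf_le_left.trans hTC
    have hq : ∀ x : ↥(Subgroup.centralizer ({t} : Set G)),
        (x : G) ∈ (T : Subgroup G) ⊓ Subgroup.centralizer ({u} : Set G) ↔
          (e x * LOCA_aux_zeta = LOCA_aux_zeta * e x ∧ e x * e uc = e uc * e x) := by
      intro x
      rw [Subgroup.mem_inf, hstd x, Subgroup.mem_centralizer_singleton_iff]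
      refine and_congr Iff.rfl ?_
      rw [← map_mul, ← map_mul, e.injective.eq_iff, Subtype.ext_iff]
      simp [huc]
    have h1 := LOCA_aux_card t e _ hK
      (fun γ => γ * LOCA_aux_zeta = LOCA_aux_zeta * γ ∧ γ * e uc = e uc * γ) hq
    have h2 : 8 ∣ Nat.card ↥((T : Subgroup G) ⊓ Subgroup.centralizer ({u} : Set G)) := by
      rw [h1]
      exact LOCA_aux_cent8 (e uc) ((hstd uc).mp hu)
    exact h2.trans (Subgroup.card_dvd_of_le inf_le_right)
  · -- dih
    intro Q hQT hQ2 htQ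
    have hQC : Q ≤ Subgroup.centralizer ({t} : Set G) := hQT.trans hTC
    have hcardQ : Nat.card ↥Q = 8 := by
      have h := Subgroup.relIndex_mul_relIndex (⊥ : Subgroup G) Q (T : Subgroup G) bot_le hQT
      rw [Subgroup.relIndex_bot_left, Subgroup.relIndex_bot_left, hQ2, hcardT] at h
      omega
    let ψ : ↥Q →* Equiv.Perm (Fin 4) :=
      (MonoidHom.snd (Multiplicative (ZMod 2)) (Equiv.Perm (Fin 4))).comp
        (e.toMonoidHom.comp (Subgroup.inclusion hQC))
    have hψ : ∀ x : ↥Q, ψ x = (e ⟨x.1, hQC x.2⟩).2 := fun x => rfl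
    have hψinj : Function.Injective ψ := by
      rw [injective_iff_map_eq_one]
      intro x hx
      rw [hψ] at hx
      rcases LOCA_aux_snd _ hx with h | h
      · have h1 := (MulEquiv.map_eq_one_iff e).mp h
        exact Subtype.ext (by simpa using congrArg Subtype.val h1)
      · exfalso
        rw [← LOCA_aux_et t ht e] at h
        have h1 := e.injective h
        have h2 : (x : G) = t := by simpa using congrArg Subtype.val h1
        exact htQ (h2 ▸ x.2)
    have hle : ψ.range ≤ LOCA_aux_dhom.range := by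
      rintro σ ⟨x, rfl⟩
      rw [hψ]
      have h1 := (hstd ⟨x.1, hQC x.2⟩).mp (hQT x.2)
      have h2 := congrArg Prod.snd h1
      simp only [Prod.snd_mul] at h2
      obtain ⟨d, hd⟩ := LOCA_aux_dsurj _ h2
      exact ⟨d, hd⟩
    have hc1 : Nat.card ↥ψ.range = 8 := by
      rw [← hcardQ]
      exact (Nat.card_congr (MonoidHom.ofInjective hψinj).toEquiv).symm
    have hc2 : Nat.card ↥LOCA_aux_dhom.range = 8 := by
      rw [← Nat.card_congr (MonoidHom.ofInjective LOCA_aux_dhom_inj).toEquiv,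
        DihedralGroup.nat_card]
    have heq : ψ.range = LOCA_aux_dhom.range :=
      Subgroup.eq_of_le_of_card_ge hle (by rw [hc1, hc2])
    exact ⟨(MonoidHom.ofInjective hψinj).trans ((MulEquiv.subgroupCongr heq).trans
      (MonoidHom.ofInjective LOCA_aux_dhom_inj).symm)⟩

end Cfsg.Agent.S3222P
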