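import Mathlib

/-! S3412 piece FINALGT (board s3412pieces, driver helper15): two groups of equal order `m > 2`,
one of them simple, embedded in a group of order `≤ 2 m`, are isomorphic. -/

set_option autoImplicit false

namespace Cfsg.Agent.S3412P

namespace FINALGT

/-- a subgroup `N` with `|A| ≤ 2 |N|` is normal -/
theorem normal_of_card_le {A : Type*} [Group A] [Finite A] (N : Subgroup A)
    (h : Nat.card A ≤ 2 * Nat.card N) : N.Normal := by
  have hidx : N.index * Nat.card N = Nat.card A := N.index_mul_card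
  have hpos : 0 < Nat.card N := Nat.card_pos
  have hi : N.index ≤ 2 := by
    by_contra hlt
    have hlt' : 3 ≤ N.index := by omega
    have : 3 * Nat.card N ≤ N.index * Nat.card N := Nat.mul_le_mul_right _ hlt'
    omega
  have hi0 : N.index ≠ 0 := N.index_ne_zero_of_finite
  interval_cases hidx' : N.index
  · exact absurd rfl hi0
  · rw [Subgroup.index_eq_one] at hidx'
    rw [hidx']
    infer_instance
  · exact Subgroup.normal_of_index_eq_two hidx'

/-- if `N ⊓ M = ⊥` then `|N| |M| ≤ |A|` -/
theorem card_mul_card_le_of_inf_eq_bot {A : Type*} [Group A] [Finite A] (N M : Subgroup A)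
    (h : N ⊓ M = ⊥) : Nat.card N * Nat.card M ≤ Nat.card A := by
  rw [← Nat.card_prod]
  refine Nat.card_le_card_of_injective (fun x : N × M => (x.1 : A) * (x.2 : A)) ?_
  rintro ⟨n, m⟩ ⟨n', m'⟩ hnm
  simp only at hnm
  have hmem : (n' : A)⁻¹ * n ∈ N ⊓ M := by
    refine ⟨N.mul_mem (N.inv_mem n'.2) n.2, ?_⟩
    have : (n' : A)⁻¹ * n = m' * (m : A)⁻¹ := by
      rw [inv_mul_eq_iff_eq_mul, ← mul_assoc, ← hnm, mul_assoc, mul_inv_cancel, mul_one]
    rw [this]
    exact M.mul_mem m'.2 (M.inv_mem m.2)
  rw [h, Subgroup.mem_bot, inv_mul_eq_one] at hmem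
  have h1 : n = n' := Subtype.ext hmem.symm
  subst h1
  have h2 : (m : A) = m' := mul_left_cancel hnm
  rw [Prod.mk.injEq]
  exact ⟨rfl, Subtype.ext h2⟩

theorem iso_of_embeddings {A H G : Type*} [Group A] [Group H] [Group G] [Finite A]
    (ρH : H →* A) (ρG : G →* A) (hH : Function.Injective ρH) (hG : Function.Injective ρG)
    (hcard : Nat.card H = Nat.card G) (hA : Nat.card A ≤ 2 * Nat.card G)
    (hsimple : IsSimpleGroup G) (h2 : 2 < Nat.card G) : Nonempty (H ≃* G) := by
  have eH : H ≃* ρH.range := MonoidHom.ofInjective hH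
  have eG : G ≃* ρG.range := MonoidHom.ofInjective hG
  have cN : Nat.card ρH.range = Nat.card G := by
    rw [← hcard]; exact (Nat.card_congr eH.toEquiv).symm
  have cM : Nat.card ρG.range = Nat.card G := (Nat.card_congr eG.toEquiv).symm
  have hNn : ρH.range.Normal := normal_of_card_le _ (by rw [cN]; exact hA)
  have hsM : IsSimpleGroup ρG.range := eG.symm.isSimpleGroup
  have hnorm : ((ρH.range ⊓ ρG.range).subgroupOf ρG.range).Normal := by
    rw [Subgroup.inf_subgroupOf_right]
    exact hNn.subgroupOf _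
  rcases Subgroup.Normal.eq_bot_or_eq_top
    (H := (ρH.range ⊓ ρG.range).subgroupOf ρG.range) hnorm with hb | ht
  · exfalso
    have hinf : ρH.range ⊓ ρG.range = ⊥ := by
      rw [Subgroup.subgroupOf_eq_bot] at hb
      rw [disjoint_iff, inf_assoc, inf_idem] at hb
      exact hb
    have := card_mul_card_le_of_inf_eq_bot _ _ hinf
    rw [cN, cM] at this
    nlinarith
  · have hle : ρG.range ≤ ρH.range := by
      rw [Subgroup.subgroupOf_eq_top] at ht
      exact le_trans ht inf_le_left
    have heq : ρG.range = ρH.range :=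
      Subgroup.eq_of_le_of_card_ge hle (by rw [cN, cM])
    exact ⟨eH.trans ((MulEquiv.subgroupCongr heq.symm).trans eG.symm)⟩

end FINALGT

end Cfsg.Agent.S3412P
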