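import Mathlib

/-! S3439 piece A3 (driver helper6): an abstract lemma on semidirect products `N ⋊[φ] G`:
`g⁴ = 1`, `N` of exponent 9, `C_N(g²)` of exponent 3 ⇒ `⟨n, g⟩¹² = 1`. -/

set_option autoImplicit false

namespace Cfsg.Agent.S3439P

namespace A3

open SemidirectProduct

variable {N G : Type*} [Group N] [Group G] {φ : G →* MulAut N}

theorem right_pow (h : N ⋊[φ] G) (k : ℕ) : (h ^ k).right = h.right ^ k := by
  have := map_pow (rightHom : N ⋊[φ] G →* G) h k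
  simpa [rightHom_eq_right] using this

theorem eq_inl_of_right_eq_one {x : N ⋊[φ] G} (hx : x.right = 1) : x = inl x.left := by
  ext
  · rw [left_inl]
  · rw [right_inl, hx]

/-- `⟨n, t⟩` is conjugate to `inr t` when `n = y * y` and `φ t y = y⁻¹` -/
theorem conj_of_sqrt (t : G) (n y : N) (hy2 : y * y = n) (hyφ : φ t y = y⁻¹) :
    (⟨n, t⟩ : N ⋊[φ] G) = inl y * inr t * (inl y)⁻¹ := by
  ext
  · simp only [mul_left, mul_right, left_inl, right_inl, left_inr, right_inr, inv_left,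
      map_one, inv_one, one_mul, mul_one, MulAut.one_apply, map_inv, hyφ, inv_inv]
    exact hy2.symm
  · simp only [mul_right, right_inl, right_inr, inv_right, inv_one, one_mul, mul_one]

/-- an involution `⟨n, t⟩` over `t`, `n⁹ = 1`, is conjugate to `inr t` -/
theorem invol_conj (t : G) (n : N) (h9 : n ^ 9 = 1) (hs : (⟨n, t⟩ : N ⋊[φ] G) * ⟨n, t⟩ = 1) :
    (⟨n, t⟩ : N ⋊[φ] G) = inl (n ^ 5) * inr t * (inl (n ^ 5))⁻¹ := by
  have h1 : n * φ t n = 1 := by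
    have := congrArg SemidirectProduct.left hs
    simpa [mul_left] using this
  have h2 : φ t n = n⁻¹ := (eq_inv_of_mul_eq_one_right h1)
  apply conj_of_sqrt
  · rw [← pow_add]
    show n ^ 10 = n
    rw [pow_succ, h9, one_mul]
  · rw [map_pow, h2, inv_pow]

end A3

open A3 SemidirectProduct in
/-- A3 -/
theorem semi_pow_twelve {N G : Type*} [Group N] [Group G] (φ : G →* MulAut N)
    (h9 : ∀ n : N, n ^ 9 = 1) (g : G) (hg : g ^ 4 = 1)
    (hfix : ∀ x : N, φ (g ^ 2) x = x → x ^ 3 = 1) (n : N) :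
    ((⟨n, g⟩ : N ⋊[φ] G)) ^ 12 = 1 := by
  set h : N ⋊[φ] G := ⟨n, g⟩ with hh
  have hright : ∀ k : ℕ, (h ^ k).right = g ^ k := fun k => right_pow h k
  -- `h⁴ = inl m`
  have h4 : h ^ 4 = inl (h ^ 4).left := eq_inl_of_right_eq_one (by rw [hright, hg])
  set m : N := (h ^ 4).left with hm
  have h36 : h ^ 36 = 1 := by
    rw [show 36 = 4 * 9 from rfl, pow_mul, h4, ← map_pow, h9, map_one]
  -- the involution `s = h¹⁸`
  have hs_right : (h ^ 18).right = g ^ 2 := by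
    rw [hright, show 18 = 4 * 4 + 2 from rfl, pow_add, pow_mul, hg, one_pow, one_mul]
  have hs_eq : h ^ 18 = (⟨(h ^ 18).left, g ^ 2⟩ : N ⋊[φ] G) := by
    ext
    · rfl
    · exact hs_right
  have hs_sq : (⟨(h ^ 18).left, g ^ 2⟩ : N ⋊[φ] G) * ⟨(h ^ 18).left, g ^ 2⟩ = 1 := by
    rw [← hs_eq, ← pow_add]
    exact h36
  have hconj := invol_conj (φ := φ) (g ^ 2) (h ^ 18).left (h9 _) hs_sq
  set y : N := (h ^ 18).left ^ 5 with hy
  -- `w = h²⁸ = inl v` commutes with `s`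
  have h28 : h ^ 28 = inl (m ^ 7) := by
    rw [show 28 = 4 * 7 from rfl, pow_mul, h4, ← map_pow]
  have hcomm : Commute (h ^ 28) (h ^ 18) := (Commute.refl h).pow_pow 28 18
  rw [h28, hs_eq, hconj] at hcomm
  -- `u = y⁻¹ v y` is fixed by `φ (g²)`
  have hu : Commute (inl (y⁻¹ * m ^ 7 * y) : N ⋊[φ] G) (inr (g ^ 2)) := by
    have e : (inl (y⁻¹ * m ^ 7 * y) : N ⋊[φ] G) = (inl y)⁻¹ * inl (m ^ 7) * inl y := by
      rw [map_mul, map_mul, map_inv]
    rw [e]
    have := hcomm.eq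
    rw [Commute, SemiconjBy]
    calc (inl y)⁻¹ * inl (m ^ 7) * inl y * inr (g ^ 2)
        = (inl y)⁻¹ * (inl (m ^ 7) * (inl y * inr (g ^ 2) * (inl y)⁻¹)) * inl y := by group
      _ = (inl y)⁻¹ * ((inl y * inr (g ^ 2) * (inl y)⁻¹) * inl (m ^ 7)) * inl y := by rw [this]
      _ = inr (g ^ 2) * ((inl y)⁻¹ * inl (m ^ 7) * inl y) := by group
  have hfixu : φ (g ^ 2) (y⁻¹ * m ^ 7 * y) = y⁻¹ * m ^ 7 * y := by
    apply inl_injective (φ := φ)
    rw [inl_aut, ← hu.eq, mul_assoc, ← map_mul, mul_inv_cancel, map_one, mul_one]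
  have hu3 := hfix _ hfixu
  have hv3 : (m ^ 7) ^ 3 = 1 := by
    have e : m ^ 7 = y * (y⁻¹ * m ^ 7 * y) * y⁻¹ := by group
    rw [e, conj_pow, hu3, mul_one, mul_inv_cancel]
  have h84 : h ^ 84 = 1 := by
    rw [show 84 = 28 * 3 from rfl, pow_mul, h28, ← map_pow, hv3, map_one]
  have hd : orderOf h ∣ Nat.gcd 84 36 :=
    Nat.dvd_gcd (orderOf_dvd_of_pow_eq_one h84) (orderOf_dvd_of_pow_eq_one h36)
  exact orderOf_dvd_iff_pow_eq_one.1 hd

end Cfsg.Agent.S3439P
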