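import Mathlib

set_option autoImplicit false
set_option linter.unusedSectionVars false
set_option linter.unusedVariables false

/-! # S3501 pieces M1SIMPLE and TWOSINGLE (helper11; driver helper4 / helper13)

Statements verbatim from `departures/helper4_s3501_stubs.lean.txt`.  `TWOSINGLE` carries private copies
(`TWOSINGLE.aux_notconj`, `TWOSINGLE.aux_noncentral`) of the board pieces NOTCONJ / NONCENTRAL so that it does not
wait for them. -/

namespace Cfsg.Agent.S3501P

open MulAction

section
variable {G : Type*} [Group G] [Finite G] {Ω : Type*} [Fintype Ω] [MulAction G Ω] [FaithfulSMul G Ω]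

/-- M1SIMPLE: `N ≃* (Fin 1 → T)` with `T` simple non-abelian makes `N` simple (non-abelian is `hnab`). -/
theorem M1SIMPLE (N : Subgroup G) {T : Type} [Group T] [IsSimpleGroup T] (e : N ≃* (Fin 1 → T)) :
    IsSimpleGroup N :=
  (e.trans (MulEquiv.funUnique (Fin 1) T)).isSimpleGroup

/-- private copy of NOTCONJ -/
theorem TWOSINGLE.aux_notconj {G : Type*} [Group G] [Finite G] (N : Subgroup G) [N.Normal] (x x' : G)
    (hsub : ∀ n ∈ N, n * x' = x' * n → n * x = x * n)
    (hex : ∃ n ∈ N, n * x = x * n ∧ n * x' ≠ x' * n) : ¬ IsConj x x' := by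
  classical
  intro hc
  obtain ⟨g, hg⟩ := isConj_iff.mp hc
  set A : Set G := {n | n ∈ N ∧ n * x = x * n} with hA
  set A' : Set G := {n | n ∈ N ∧ n * x' = x' * n} with hA'
  have hfin : A.Finite := Set.toFinite A
  have hss : A' ⊂ A := by
    refine ⟨fun n hn => ⟨hn.1, hsub n hn.1 hn.2⟩, ?_⟩
    intro h
    obtain ⟨n, hnN, hn1, hn2⟩ := hex
    exact hn2 (h ⟨hnN, hn1⟩).2
  have h1 : A'.ncard < A.ncard := Set.ncard_lt_ncard hss hfin
  have h2 : A.ncard ≤ A'.ncard := by
    refine Set.ncard_le_ncard_of_injOn (fun n => g * n * g⁻¹) ?_ ?_ (Set.toFinite A')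
    · intro n hn
      refine ⟨‹N.Normal›.conj_mem n hn.1 g, ?_⟩
      have h := hn.2
      rw [← hg]
      calc g * n * g⁻¹ * (g * x * g⁻¹) = g * (n * x) * g⁻¹ := by group
        _ = g * (x * n) * g⁻¹ := by rw [h]
        _ = g * x * g⁻¹ * (g * n * g⁻¹) := by group
    · intro n _ n' _ h
      have h' : g * n * g⁻¹ = g * n' * g⁻¹ := h
      have := congrArg (fun y => g⁻¹ * y * g) h'
      simpa [mul_assoc] using this
  omega

/-- private copy of NONCENTRAL -/
theorem TWOSINGLE.aux_noncentral {T : Type*} [Group T] [IsSimpleGroup T] (hT : ¬ IsMulCommutative T)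
    (t : T) (ht : t ≠ 1) : ∃ s : T, s * t ≠ t * s := by
  by_contra hcon
  have hcon : ∀ s : T, s * t = t * s := fun s => by
    by_contra h
    exact hcon ⟨s, h⟩
  have hmem : t ∈ Subgroup.center T := by
    rw [Subgroup.mem_center_iff]
    intro s
    exact hcon s
  rcases (inferInstance : (Subgroup.center T).Normal).eq_bot_or_eq_top with h | h
  · rw [h, Subgroup.mem_bot] at hmem
    exact ht hmem
  · apply hT
    refine ⟨⟨fun a b => ?_⟩⟩
    have hb : b ∈ Subgroup.center T := by rw [h]; trivial
    exact Subgroup.mem_center_iff.mp hb a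

/-- TWOSINGLE: `x = single i t` and `x' = single i t * single j t'` (`i ≠ j`, `t' ≠ 1`, `T` simple
non-abelian) are not conjugate in `G`. -/
theorem TWOSINGLE (N : Subgroup G) [N.Normal] {T : Type} [Group T] [IsSimpleGroup T]
    (hT : ¬ IsMulCommutative T) {m : ℕ} (e : N ≃* (Fin m → T)) (i j : Fin m) (hij : i ≠ j) (t t' : T)
    (ht' : t' ≠ 1) :
    ¬ IsConj ((e.symm (Pi.mulSingle i t) : N) : G)
      ((e.symm (Pi.mulSingle i t * Pi.mulSingle j t') : N) : G) := by
  classical
  -- commutation in `G` of elements of `N` is commutation of their images under `e`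
  have key : ∀ (ν : N) (f : Fin m → T), ((ν : G) * ((e.symm f : N) : G) = ((e.symm f : N) : G) * (ν : G)) ↔
      e ν * f = f * e ν := by
    intro ν f
    constructor
    · intro h
      have h1 : ν * e.symm f = e.symm f * ν := Subtype.ext (by simpa using h)
      have h2 := congrArg e h1
      simpa using h2
    · intro h
      have h1 : ν * e.symm f = e.symm f * ν := by
        apply e.injective
        simpa using h
      have := congrArg (fun y : N => (y : G)) h1
      simpa using this
  have hji : j ≠ i := fun h => hij h.symm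
  apply TWOSINGLE.aux_notconj N
  · intro n hn hc
    have h1 := (key ⟨n, hn⟩ (Pi.mulSingle i t * Pi.mulSingle j t')).mp hc
    refine (key ⟨n, hn⟩ (Pi.mulSingle i t)).mpr ?_
    have hi := congrFun h1 i
    simp only [Pi.mul_apply, Pi.mulSingle_eq_same, Pi.mulSingle_eq_of_ne hij, mul_one] at hi
    funext k
    by_cases hk : k = i
    · subst hk
      simpa using hi
    · simp [Pi.mul_apply, Pi.mulSingle_eq_of_ne hk]
  · obtain ⟨s, hs⟩ := TWOSINGLE.aux_noncentral hT t' ht'
    refine ⟨((e.symm (Pi.mulSingle j s) : N) : G), (e.symm (Pi.mulSingle j s)).2, ?_, ?_⟩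
    · refine (key (e.symm (Pi.mulSingle j s)) (Pi.mulSingle i t)).mpr ?_
      rw [MulEquiv.apply_symm_apply]
      exact (Pi.mulSingle_commute (f := fun _ : Fin m => T) hji s t).eq
    · intro hc
      have h1 := (key (e.symm (Pi.mulSingle j s)) (Pi.mulSingle i t * Pi.mulSingle j t')).mp hc
      rw [MulEquiv.apply_symm_apply] at h1
      have hj := congrFun h1 j
      simp only [Pi.mul_apply, Pi.mulSingle_eq_same, Pi.mulSingle_eq_of_ne hji, one_mul] at hj
      exact hs hj

end

end Cfsg.Agent.S3501P
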