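import Mathlib
import Cfsg.Agent.Helper28.S3589Defs

/-! S3589 pieces ARITH1 and ARITH2 (driver helper28): the semisimple orders. -/

set_option autoImplicit false

namespace Cfsg.Agent.S3589P

namespace ARITH1

theorem mem_powerset_Icc (D : Finset ℕ) (hD : ∀ a ∈ D, 1 ≤ a) (n : ℕ) (h : D.sum id ≤ n) :
    D ∈ (Finset.Icc 1 n).powerset := by
  rw [Finset.mem_powerset]
  intro a ha
  rw [Finset.mem_Icc]
  refine ⟨hD a ha, le_trans ?_ h⟩
  exact Finset.single_le_sum (f := id) (fun i _ => Nat.zero_le _) ha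

set_option maxRecDepth 100000 in
theorem comb4 : ∀ Dm ∈ (Finset.Icc 1 4).powerset, ∀ Dp ∈ (Finset.Icc 1 4).powerset,
    Dm.sum id + Dp.sum id ≤ 4 →
      (Dm ⊆ {4} ∧ Dp ⊆ ∅) ∨ (Dm ⊆ {1, 2} ∧ Dp ⊆ {1, 2, 4}) ∨ (Dm ⊆ {1} ∧ Dp ⊆ {1, 3}) ∨
        (Dm ⊆ {1, 3} ∧ Dp ⊆ {1}) := by
  decide

set_option maxRecDepth 100000 in
theorem comb3 : ∀ Dm ∈ (Finset.Icc 1 3).powerset, ∀ Dp ∈ (Finset.Icc 1 3).powerset,
    Dm.sum id + Dp.sum id ≤ 3 →
      (Dm ⊆ {2} ∧ Dp ⊆ {1}) ∨ (Dm ⊆ {1, 2} ∧ Dp ⊆ ∅) ∨ (Dm ⊆ ∅ ∧ Dp ⊆ {1, 3}) ∨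
        (Dm ⊆ {1, 3} ∧ Dp ⊆ ∅) ∨ (Dm ⊆ {1} ∧ Dp ⊆ {1, 2}) := by
  decide

/-! ### divisibilities -/

theorem sub_one_dvd (q d : ℕ) : q - 1 ∣ q ^ d - 1 := Nat.sub_one_dvd_pow_sub_one q d

theorem pow_sub_one_dvd (q a b : ℕ) : q ^ a - 1 ∣ q ^ (a * b) - 1 := by
  rw [pow_mul]
  exact Nat.sub_one_dvd_pow_sub_one (q ^ a) b

theorem add_one_dvd_cube (q : ℕ) : q + 1 ∣ q ^ 3 + 1 := by
  simpa using Odd.nat_add_dvd_pow_add_pow q 1 (n := 3) (by decide)

theorem add_one_dvd_sq_sub (q : ℕ) : q + 1 ∣ q ^ 2 - 1 := by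
  have : q ^ 2 - 1 = (q + 1) * (q - 1) := by
    rw [← Nat.sq_sub_sq, one_pow]
  rw [this]
  exact dvd_mul_right _ _

theorem sq_sub_one_eq (q : ℕ) : q ^ 2 - 1 = (q - 1) * (q + 1) := by
  have : q ^ 2 - 1 = (q + 1) * (q - 1) := by
    rw [← Nat.sq_sub_sq, one_pow]
  rw [this, mul_comm]

theorem odd_pow_sub_one (q : ℕ) (hq : 2 ≤ q) (hev : Even q) (d : ℕ) (hd : 1 ≤ d) :
    Odd (q ^ d - 1) := by
  have h1 : Even (q ^ d) := (Nat.even_pow.2 ⟨hev, by omega⟩)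
  have h2 : 1 ≤ q ^ d := Nat.one_le_pow _ _ (by omega)
  obtain ⟨k, hk⟩ := h1
  exact ⟨k - 1, by omega⟩

theorem coprime_sub_add (n : ℕ) (hn : Odd (n - 1)) (h1 : 1 ≤ n) : Nat.Coprime (n - 1) (n + 1) := by
  have h : n + 1 = (n - 1) + 2 := by omega
  rw [h, Nat.coprime_self_add_right]
  exact Nat.coprime_two_right.2 hn

/-- `q⁴ - 1 ∣ lcm (q² - 1) (q² + 1)` -/
theorem four_dvd (q : ℕ) (hq : 2 ≤ q) (hev : Even q) :
    q ^ 4 - 1 ∣ Nat.lcm (q ^ 2 - 1) (q ^ 2 + 1) := by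
  have hc : Nat.Coprime (q ^ 2 - 1) (q ^ 2 + 1) :=
    coprime_sub_add (q ^ 2) (odd_pow_sub_one q hq hev 2 (by norm_num)) (Nat.one_le_pow _ _ (by omega))
  rw [hc.lcm_eq_mul]
  have : q ^ 4 - 1 = (q ^ 2 - 1) * (q ^ 2 + 1) := by
    have h := sq_sub_one_eq (q ^ 2)
    rw [← pow_mul] at h
    exact h
  rw [this]

/-- `q² - 1 ∣ lcm (q - 1) (q + 1)` -/
theorem two_dvd (q : ℕ) (hq : 2 ≤ q) (hev : Even q) :
    q ^ 2 - 1 ∣ Nat.lcm (q - 1) (q + 1) := by
  have hc : Nat.Coprime (q - 1) (q + 1) :=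
    coprime_sub_add q (by simpa using odd_pow_sub_one q hq hev 1 le_rfl) (by omega)
  rw [hc.lcm_eq_mul, sq_sub_one_eq]

end ARITH1

open ARITH1

/-- ARITH1 -/
theorem arith_one (q : ℕ) (hq : 2 ≤ q) (hev : Even q) (Dm Dp : Finset ℕ) (hDm : ∀ a ∈ Dm, 1 ≤ a)
    (hDp : ∀ d ∈ Dp, 1 ≤ d) (h : Dm.sum id + Dp.sum id ≤ 4) :
    ∃ M ∈ ords q, (∀ a ∈ Dm, q ^ a + 1 ∣ M) ∧ (∀ d ∈ Dp, q ^ d - 1 ∣ M) := by
  have h1 := mem_powerset_Icc Dm hDm 4 (by omega)
  have h2 := mem_powerset_Icc Dp hDp 4 (by omega)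
  rcases comb4 Dm h1 Dp h2 h with ⟨hm, hp⟩ | ⟨hm, hp⟩ | ⟨hm, hp⟩ | ⟨hm, hp⟩
  · refine ⟨q ^ 4 + 1, by simp [ords], fun a ha => ?_, fun d hd => ?_⟩
    · have := hm ha
      simp only [Finset.mem_singleton] at this
      subst this
      exact dvd_rfl
    · exact absurd (hp hd) (by simp)
  · refine ⟨Nat.lcm (q ^ 2 - 1) (q ^ 2 + 1), by simp [ords], fun a ha => ?_, fun d hd => ?_⟩
    · have := hm ha
      simp only [Finset.mem_insert, Finset.mem_singleton] at this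
      rcases this with rfl | rfl
      · rw [pow_one]
        exact (add_one_dvd_sq_sub q).trans (Nat.dvd_lcm_left _ _)
      · exact Nat.dvd_lcm_right _ _
    · have := hp hd
      simp only [Finset.mem_insert, Finset.mem_singleton] at this
      rcases this with rfl | rfl | rfl
      · rw [pow_one]; exact (sub_one_dvd q 2).trans (Nat.dvd_lcm_left (q ^ 2 - 1) (q ^ 2 + 1))
      · exact Nat.dvd_lcm_left _ _
      · exact four_dvd q hq hev
  · refine ⟨Nat.lcm (q ^ 3 - 1) (q + 1), by simp [ords], fun a ha => ?_, fun d hd => ?_⟩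
    · have := hm ha
      simp only [Finset.mem_singleton] at this
      subst this
      rw [pow_one]
      exact Nat.dvd_lcm_right _ _
    · have := hp hd
      simp only [Finset.mem_insert, Finset.mem_singleton] at this
      rcases this with rfl | rfl
      · rw [pow_one]; exact (sub_one_dvd q 3).trans (Nat.dvd_lcm_left (q ^ 3 - 1) (q + 1))
      · exact Nat.dvd_lcm_left _ _
  · refine ⟨Nat.lcm (q ^ 3 + 1) (q - 1), by simp [ords], fun a ha => ?_, fun d hd => ?_⟩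
    · have := hm ha
      simp only [Finset.mem_insert, Finset.mem_singleton] at this
      rcases this with rfl | rfl
      · rw [pow_one]
        exact (add_one_dvd_cube q).trans (Nat.dvd_lcm_left _ _)
      · exact Nat.dvd_lcm_left _ _
    · have := hp hd
      simp only [Finset.mem_singleton] at this
      subst this
      rw [pow_one]
      exact Nat.dvd_lcm_right _ _

/-- ARITH2 -/
theorem arith_two (q : ℕ) (hq : 2 ≤ q) (hev : Even q) (Dm Dp : Finset ℕ) (hDm : ∀ a ∈ Dm, 1 ≤ a)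
    (hDp : ∀ d ∈ Dp, 1 ≤ d) (h : Dm.sum id + Dp.sum id ≤ 3) :
    ∃ M ∈ ords q, 2 ∣ M ∧ (∀ a ∈ Dm, q ^ a + 1 ∣ M) ∧ (∀ d ∈ Dp, q ^ d - 1 ∣ M) := by
  have h1 := mem_powerset_Icc Dm hDm 3 (by omega)
  have h2 := mem_powerset_Icc Dp hDp 3 (by omega)
  rcases comb3 Dm h1 Dp h2 h with ⟨hm, hp⟩ | ⟨hm, hp⟩ | ⟨hm, hp⟩ | ⟨hm, hp⟩ | ⟨hm, hp⟩
  · refine ⟨Nat.lcm (Nat.lcm (q ^ 2 + 1) (q - 1)) 2, by simp [ords], Nat.dvd_lcm_right _ _,
      fun a ha => ?_, fun d hd => ?_⟩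
    · have := hm ha
      simp only [Finset.mem_singleton] at this
      subst this
      exact (Nat.dvd_lcm_left _ _).trans (Nat.dvd_lcm_left _ _)
    · have := hp hd
      simp only [Finset.mem_singleton] at this
      subst this
      rw [pow_one]
      exact (Nat.dvd_lcm_right _ _).trans (Nat.dvd_lcm_left _ _)
  · refine ⟨Nat.lcm (Nat.lcm (q ^ 2 + 1) (q + 1)) 2, by simp [ords], Nat.dvd_lcm_right _ _,
      fun a ha => ?_, fun d hd => ?_⟩
    · have := hm ha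
      simp only [Finset.mem_insert, Finset.mem_singleton] at this
      rcases this with rfl | rfl
      · rw [pow_one]
        exact (Nat.dvd_lcm_right _ _).trans (Nat.dvd_lcm_left _ _)
      · exact (Nat.dvd_lcm_left _ _).trans (Nat.dvd_lcm_left _ _)
    · exact absurd (hp hd) (by simp)
  · refine ⟨Nat.lcm (q ^ 3 - 1) 2, by simp [ords], Nat.dvd_lcm_right _ _,
      fun a ha => ?_, fun d hd => ?_⟩
    · exact absurd (hm ha) (by simp)
    · have := hp hd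
      simp only [Finset.mem_insert, Finset.mem_singleton] at this
      rcases this with rfl | rfl
      · rw [pow_one]; exact (sub_one_dvd q 3).trans (Nat.dvd_lcm_left (q ^ 3 - 1) 2)
      · exact Nat.dvd_lcm_left _ _
  · refine ⟨Nat.lcm (q ^ 3 + 1) 2, by simp [ords], Nat.dvd_lcm_right _ _,
      fun a ha => ?_, fun d hd => ?_⟩
    · have := hm ha
      simp only [Finset.mem_insert, Finset.mem_singleton] at this
      rcases this with rfl | rfl
      · rw [pow_one]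
        exact (add_one_dvd_cube q).trans (Nat.dvd_lcm_left _ _)
      · exact Nat.dvd_lcm_left _ _
    · exact absurd (hp hd) (by simp)
  · refine ⟨Nat.lcm (Nat.lcm (q - 1) (q + 1)) 4, by simp [ords],
      (by norm_num : 2 ∣ 4).trans (Nat.dvd_lcm_right _ _), fun a ha => ?_, fun d hd => ?_⟩
    · have := hm ha
      simp only [Finset.mem_singleton] at this
      subst this
      rw [pow_one]
      exact (Nat.dvd_lcm_right _ _).trans (Nat.dvd_lcm_left _ _)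
    · have := hp hd
      simp only [Finset.mem_insert, Finset.mem_singleton] at this
      rcases this with rfl | rfl
      · rw [pow_one]
        exact (Nat.dvd_lcm_left _ _).trans (Nat.dvd_lcm_left _ _)
      · exact (two_dvd q hq hev).trans (Nat.dvd_lcm_left _ _)

end Cfsg.Agent.S3589P
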