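import Mathlib
import Cfsg.Agent.Helper6.S3626.Defs

/-! S3626 piece FIX (driver helper6; helper11): a nonzero fixed point of the linear part forces
`e * tr g = φ (tr g)`. -/

set_option autoImplicit false

namespace Cfsg.Agent.S3626P

open Matrix

namespace FIX

variable {K : Type*} [Field K]

/-- Cayley–Hamilton for `2 × 2` matrices -/
theorem mul_self_eq (M : Matrix (Fin 2) (Fin 2) K) :
    M * M = M.trace • M - M.det • (1 : Matrix (Fin 2) (Fin 2) K) := by
  ext i j
  fin_cases i <;> fin_cases j <;>
    simp [Matrix.mul_apply, Fin.sum_univ_two, Matrix.trace_fin_two, Matrix.det_fin_two] <;> ring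

theorem mul_self_of_det_one (M : Matrix (Fin 2) (Fin 2) K) (hM : M.det = 1) :
    M * M = M.trace • M - 1 := by
  rw [mul_self_eq, hM, one_smul]

theorem trace_map_transpose (φ : K →+* K) (G : Matrix (Fin 2) (Fin 2) K) :
    ((G.map φ)ᵀ).trace = φ G.trace := by
  simp [Matrix.trace_fin_two, map_add]

theorem det_map_transpose (φ : K →+* K) (G : Matrix (Fin 2) (Fin 2) K) :
    ((G.map φ)ᵀ).det = φ G.det := by
  simp [Matrix.det_fin_two, map_sub, map_mul]

end FIX

section generic

variable {K : Type*} [Field K]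

open FIX in
/-- FIX: a nonzero fixed point of `lin φ e g` forces `e * tr g = φ (tr g)` -/
theorem trace_eq_of_fixed (φ : K →+* K) (e : K) (he : e = 1 ∨ e = -1)
    (g : Matrix.SpecialLinearGroup (Fin 2) K) (X : Matrix (Fin 2) (Fin 2) K) (hX : X ≠ 0)
    (hfix : lin φ e (g : Matrix (Fin 2) (Fin 2) K) X = X) :
    e * (g : Matrix (Fin 2) (Fin 2) K).trace = φ ((g : Matrix (Fin 2) (Fin 2) K).trace) := by
  set G : Matrix (Fin 2) (Fin 2) K := (g : Matrix (Fin 2) (Fin 2) K) with hG
  have hdG : G.det = 1 := g.det_coe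
  set G' : Matrix (Fin 2) (Fin 2) K := (G.map φ)ᵀ with hG'
  have hdG' : G'.det = 1 := by rw [hG', det_map_transpose, hdG, map_one]
  have htG' : G'.trace = φ G.trace := trace_map_transpose φ G
  have hee : e * e = 1 := by rcases he with rfl | rfl <;> simp
  set A : Matrix (Fin 2) (Fin 2) K := e • G with hA
  set B : Matrix (Fin 2) (Fin 2) K := G'.adjugate with hB
  have hG'B : G' * B = 1 := by rw [hB, Matrix.mul_adjugate, hdG', one_smul]
  have hBG' : B * G' = 1 := by rw [hB, Matrix.adjugate_mul, hdG', one_smul]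
  have hdA : A.det = 1 := by
    rw [hA, Matrix.det_smul, Fintype.card_fin, hdG, mul_one, pow_two, hee]
  have hdB : B.det = 1 := by
    have h := congrArg Matrix.det hG'B
    rw [Matrix.det_mul, hdG', one_mul, Matrix.det_one] at h
    exact h
  have htA : A.trace = e * G.trace := by rw [hA, Matrix.trace_smul, smul_eq_mul]
  have htB : B.trace = φ G.trace := by
    rw [hB, ← htG', Matrix.adjugate_fin_two, Matrix.trace_fin_two, Matrix.trace_fin_two]
    simp [add_comm]
  -- `A X = X B`
  have hAX : A * X = X * B := by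
    have h1 : A * X * G' = X := by
      rw [hA, Matrix.smul_mul, Matrix.smul_mul]
      exact hfix
    calc A * X = A * X * (G' * B) := by rw [hG'B, Matrix.mul_one]
      _ = (A * X * G') * B := by rw [Matrix.mul_assoc (A * X)]
      _ = X * B := by rw [h1]
  have hAAX : A * A * X = X * (B * B) := by
    rw [Matrix.mul_assoc, hAX, ← Matrix.mul_assoc, hAX, Matrix.mul_assoc]
  rw [mul_self_of_det_one A hdA, mul_self_of_det_one B hdB, Matrix.sub_mul, Matrix.mul_sub,
    Matrix.smul_mul, Matrix.mul_smul, Matrix.one_mul, Matrix.mul_one, hAX] at hAAX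
  have h2 : (A.trace - B.trace) • (X * B) = 0 := by
    rw [sub_smul]
    have := sub_left_injective hAAX
    rw [this, sub_self]
  rcases smul_eq_zero.mp h2 with h3 | h3
  · rw [← htA, ← htB]
    exact sub_eq_zero.mp h3
  · exfalso
    apply hX
    have hBB : B * B.adjugate = 1 := by rw [Matrix.mul_adjugate, hdB, one_smul]
    calc X = X * (B * B.adjugate) := by rw [hBB, Matrix.mul_one]
      _ = (X * B) * B.adjugate := by rw [Matrix.mul_assoc]
      _ = 0 := by rw [h3, Matrix.zero_mul]

end generic

end Cfsg.Agent.S3626P
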