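import Mathlib
import Cfsg.Agent.Helper6.S3626.Defs
import Cfsg.Agent.Helper12.SL2Torus
import Cfsg.Agent.Helper11.S3626FIX

/-! S3626 piece SS (driver helper6; helper11): the semisimple case. -/

set_option autoImplicit false

namespace Cfsg.Agent.S3626P

open Matrix

namespace SS

variable {K : Type*} [Field K]

/-- own copy of NOFIX -/
theorem nofix (φ : K →+* K) (σ : Equiv.Perm (Matrix (Fin 2) (Fin 2) K)) (e : K)
    (g v : Matrix (Fin 2) (Fin 2) K) (hσ : ∀ X, σ X = aff φ e g v X)
    (hfix : ∀ X, lin φ e g X = X → X = 0) (n : ℕ) (hn : ∀ X, lin φ (e ^ n) (g ^ n) X = X) :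
    σ ^ n = 1 := by
  apply Equiv.ext
  intro X
  rw [pow_apply_of_aff φ σ e g v hσ n X, aff_apply, hn, Equiv.Perm.one_apply,
    hfix _ (lin_psum_of_pow φ e g v n hn), add_zero]

theorem lin_one_pm (φ : K →+* K) (B : Matrix (Fin 2) (Fin 2) K) (hB : B = 1 ∨ B = -1)
    (X : Matrix (Fin 2) (Fin 2) K) : lin φ 1 B X = X := by
  rcases hB with rfl | rfl
  · exact lin_one φ X
  · exact lin_neg_one φ X

/-- a scalar matrix of determinant one is `± 1` -/
theorem scalar_pm (B : Matrix (Fin 2) (Fin 2) K) (hs : Cfsg.Agent.Helper12.IsScalar2 B)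
    (hd : B.det = 1) : B = 1 ∨ B = -1 := by
  obtain ⟨a, rfl⟩ := (Cfsg.Agent.Helper12.isScalar2_iff B).1 hs
  rw [Matrix.det_smul, Fintype.card_fin, Matrix.det_one, mul_one] at hd
  have h : (a - 1) * (a + 1) = 0 := by
    have : (a - 1) * (a + 1) = a ^ 2 - 1 := by ring
    rw [this, hd, sub_self]
  rcases mul_eq_zero.1 h with h | h
  · left
    rw [sub_eq_zero.1 h, one_smul]
  · right
    rw [eq_neg_of_add_eq_zero_left h, neg_smul, one_smul]

end SS

section finite

variable {K : Type*} [Field K] [Fintype K] {m : ℕ}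

open SS in
/-- SS: the semisimple case -/
theorem pow_of_semisimple [CharP K 3] (hK : Fintype.card K = 3 ^ (2 * m + 1))
    (σ : Equiv.Perm (Matrix (Fin 2) (Fin 2) K)) (e : K) (he : e = 1 ∨ e = -1)
    (g : Matrix.SpecialLinearGroup (Fin 2) K) (v : Matrix (Fin 2) (Fin 2) K)
    (hσ : ∀ X, σ X = aff (frobS K m) e (g : Matrix (Fin 2) (Fin 2) K) v X)
    (hfix : ∀ X, lin (frobS K m) e (g : Matrix (Fin 2) (Fin 2) K) X = X → X = 0)
    (ht1 : (g : Matrix (Fin 2) (Fin 2) K).trace ≠ 1)
    (ht2 : (g : Matrix (Fin 2) (Fin 2) K).trace ≠ -1) :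
    σ ^ (3 ^ (2 * m + 1) - 1) = 1 ∨ σ ^ ((3 ^ (2 * m + 1) + 1) / 2) = 1 := by
  classical
  set G : Matrix (Fin 2) (Fin 2) K := (g : Matrix (Fin 2) (Fin 2) K) with hG
  have hdG : G.det = 1 := g.det_coe
  set q : ℕ := 3 ^ (2 * m + 1) with hq
  have three : (3 : K) = 0 := by
    have := CharP.cast_eq_zero K 3
    exact_mod_cast this
  have hee : e * e = 1 := by rcases he with rfl | rfl <;> simp
  have hepow : ∀ k : ℕ, e ^ (2 * k) = 1 := by
    intro k
    rw [pow_mul, pow_two, hee, one_pow]
  -- `q = 8 j + 3`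
  have hq8 : q % 8 = 3 := by
    rw [hq, pow_succ, pow_mul, Nat.mul_mod, Nat.pow_mod]
    norm_num
  have hCH := FIX.mul_self_of_det_one G hdG
  by_cases hev : ∃ (c : K) (v0 : Fin 2 → K), v0 ≠ 0 ∧ G.mulVec v0 = c • v0
  · -- split case
    left
    obtain ⟨c, v0, hv0, hGv⟩ := hev
    -- `c ^ 2 - t c + 1 = 0`
    have hquad : c * c - G.trace * c + 1 = 0 := by
      have h1 : (G * G).mulVec v0 = (c * c) • v0 := by
        rw [← Matrix.mulVec_mulVec, hGv, Matrix.mulVec_smul, hGv, smul_smul]
      rw [hCH, Matrix.sub_mulVec, Matrix.smul_mulVec, hGv, Matrix.one_mulVec, smul_smul] at h1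
      have h2 : (c * c - G.trace * c + 1) • v0 = 0 := by
        rw [add_smul, sub_smul, one_smul, ← h1]; abel
      rcases smul_eq_zero.1 h2 with h | h
      · exact h
      · exact absurd h hv0
    have hc0 : c ≠ 0 := by
      rintro rfl
      simp at hquad
    have htr : G.trace = c + c⁻¹ := by
      have h1 : G.trace * c = c * c + 1 := by linear_combination -hquad
      field_simp
      linear_combination h1
    have hne : c ≠ c⁻¹ := by
      intro h
      have hcc : c * c = 1 := by
        calc c * c = c * c⁻¹ := by rw [← h]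
          _ = 1 := mul_inv_cancel₀ hc0
      have h2 : (c - 1) * (c + 1) = 0 := by
        have : (c - 1) * (c + 1) = c * c - 1 := by ring
        rw [this, hcc, sub_self]
      rcases mul_eq_zero.1 h2 with h3 | h3
      · have hc1 : c = 1 := sub_eq_zero.1 h3
        apply ht2
        rw [htr, hc1, inv_one]
        linear_combination three
      · have hc1 : c = -1 := eq_neg_of_add_eq_zero_left h3
        apply ht1
        rw [htr, hc1, inv_neg, inv_one]
        linear_combination -three
    have hA : G * G = (c + c⁻¹) • G - (1 : Matrix (Fin 2) (Fin 2) K) := by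
      rw [hCH, htr]
    have hcq : c ^ (q - 1) = 1 := by
      rw [← hK]
      exact FiniteField.pow_card_sub_one_eq_one c hc0
    have hGpow : G ^ (q - 1) = 1 := by
      have := Cfsg.Agent.Helper12.pow_isScalar2_of_roots G c c⁻¹ (mul_inv_cancel₀ hc0) hne hA
        (q - 1) (by rw [inv_pow, hcq, inv_one])
      rw [this, hcq, one_smul]
    have heq : e ^ (q - 1) = 1 := by
      have : q - 1 = 2 * ((q - 1) / 2) := by omega
      rw [this]
      exact hepow _
    apply nofix (frobS K m) σ e G v hσ hfix (q - 1)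
    intro X
    rw [hGpow, heq, lin_one]
  · -- nonsplit case
    right
    have hno : ∀ (c : K) (v0 : Fin 2 → K), v0 ≠ 0 →
        (g : Matrix (Fin 2) (Fin 2) K).mulVec v0 ≠ c • v0 := by
      intro c v0 hv0 h
      exact hev ⟨c, v0, hv0, h⟩
    have h2 : 2 * ((q + 1) / 2) = Fintype.card K + 1 := by
      rw [hK]
      omega
    have hs := Cfsg.Agent.Helper12.sl2_pow_half_isScalar2 g hno ((q + 1) / 2) h2
    have hpm := scalar_pm _ hs (Matrix.SpecialLinearGroup.det_coe _)
    rw [Matrix.SpecialLinearGroup.coe_pow] at hpm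
    have heq : e ^ ((q + 1) / 2) = 1 := by
      have : (q + 1) / 2 = 2 * ((q + 1) / 4) := by omega
      rw [this]
      exact hepow _
    apply nofix (frobS K m) σ e G v hσ hfix ((q + 1) / 2)
    intro X
    rw [heq]
    exact lin_one_pm _ _ hpm X

end finite

end Cfsg.Agent.S3626P
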