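import Mathlib
import Cfsg.Agent.Helper6.S3626.Defs
import Cfsg.Agent.Helper11.S3626FIX

/-! S3626 piece UNI (driver helper6; helper11): trace `±1` in characteristic `3` gives `σ^9 = 1` or
`σ^6 = 1`. -/

set_option autoImplicit false

namespace Cfsg.Agent.S3626P

open Matrix

namespace UNI

variable {K : Type*} [Field K]

theorem lin_one_left (φ : K →+* K) (e : K) (X : Matrix (Fin 2) (Fin 2) K) :
    lin φ e 1 X = e • X := by
  simp [lin, Matrix.map_one]

theorem lin_neg_one_left (φ : K →+* K) (e : K) (X : Matrix (Fin 2) (Fin 2) K) :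
    lin φ e (-1) X = e • X := by
  have h := lin_neg_one φ X
  rw [lin_apply, one_smul] at h
  rw [lin_apply, h]

/-- `g ^ 3 = - tr g` for `tr g = ± 1`, `det g = 1` -/
theorem pow_three (G : Matrix (Fin 2) (Fin 2) K) (hd : G.det = 1) (t : K) (ht : G.trace = t)
    (htt : t * t = 1) : G ^ 3 = (-t) • (1 : Matrix (Fin 2) (Fin 2) K) := by
  have hCH := FIX.mul_self_of_det_one G hd
  rw [ht] at hCH
  calc G ^ 3 = (G * G) * G := by rw [pow_succ, pow_two]
    _ = (t • G - 1) * G := by rw [hCH]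
    _ = t • (G * G) - G := by rw [Matrix.sub_mul, Matrix.smul_mul, Matrix.one_mul]
    _ = t • (t • G - 1) - G := by rw [hCH]
    _ = (t * t) • G - t • (1 : Matrix (Fin 2) (Fin 2) K) - G := by
        rw [smul_sub, smul_smul]
    _ = (-t) • (1 : Matrix (Fin 2) (Fin 2) K) := by
        rw [htt, one_smul, neg_smul]; abel

theorem pow_three' (G : Matrix (Fin 2) (Fin 2) K) (hd : G.det = 1)
    (ht : G.trace = 1 ∨ G.trace = -1) : G ^ 3 = 1 ∨ G ^ 3 = -1 := by
  rcases ht with ht | ht
  · right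
    have := pow_three G hd 1 ht (by simp)
    rw [this, neg_smul, one_smul]
  · left
    have := pow_three G hd (-1) ht (by simp)
    rw [this, neg_neg, one_smul]

end UNI

section generic

variable {K : Type*} [Field K]

open UNI in
/-- UNI: trace `±1 = ∓2` (`g = ±` unipotent) -/
theorem pow_of_trace_pm_one [CharP K 3] (φ : K →+* K)
    (σ : Equiv.Perm (Matrix (Fin 2) (Fin 2) K)) (e : K) (he : e = 1 ∨ e = -1)
    (g : Matrix.SpecialLinearGroup (Fin 2) K) (v : Matrix (Fin 2) (Fin 2) K)
    (hσ : ∀ X, σ X = aff φ e (g : Matrix (Fin 2) (Fin 2) K) v X)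
    (ht : (g : Matrix (Fin 2) (Fin 2) K).trace = 1 ∨ (g : Matrix (Fin 2) (Fin 2) K).trace = -1) :
    σ ^ 9 = 1 ∨ σ ^ 6 = 1 := by
  set G : Matrix (Fin 2) (Fin 2) K := (g : Matrix (Fin 2) (Fin 2) K) with hG
  have hdG : G.det = 1 := g.det_coe
  have three : (3 : K) = 0 := by
    have := CharP.cast_eq_zero K 3
    exact_mod_cast this
  set w : Matrix (Fin 2) (Fin 2) K := psum φ e G v 3 with hw
  have he3 : e ^ 3 = e := by rcases he with rfl | rfl <;> simp [pow_succ]
  have h3 : ∀ X, (σ ^ 3) X = e • X + w := by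
    intro X
    rw [pow_apply_of_aff φ σ e G v hσ 3 X, aff_apply, he3]
    rcases pow_three' G hdG ht with h | h
    · rw [h, lin_one_left]
    · rw [h, lin_neg_one_left]
  rcases he with rfl | rfl
  · left
    have h9 : σ ^ 9 = (σ ^ 3) ^ 3 := by rw [← pow_mul]
    rw [h9]
    apply Equiv.ext
    intro X
    rw [pow_succ, pow_two, Equiv.Perm.mul_apply, Equiv.Perm.mul_apply, h3, h3, h3,
      Equiv.Perm.one_apply, one_smul, one_smul, one_smul, add_assoc, add_assoc]
    have : w + (w + w) = (3 : K) • w := by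
      rw [show (3 : K) = 1 + 1 + 1 by norm_num, add_smul, add_smul, one_smul]; abel
    rw [this, three, zero_smul, add_zero]
  · right
    have h6 : σ ^ 6 = (σ ^ 3) ^ 2 := by rw [← pow_mul]
    rw [h6]
    apply Equiv.ext
    intro X
    rw [pow_two, Equiv.Perm.mul_apply, h3, h3, Equiv.Perm.one_apply, smul_add, smul_smul]
    simp

end generic

end Cfsg.Agent.S3626P
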