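import Cfsg.Agent.Helper11.S3753Defs
import Cfsg.Agent.Helper14.PCore

/-!
# S3753, piece CORE: the `Y_i / U_i` argument
-/

set_option autoImplicit false

namespace Cfsg.Agent.S3753P

open Cfsg Subgroup
open scoped commutatorElement

variable {G : Type*} [Group G]

/-- join of pairwise commuting elementary abelian subgroups is elementary abelian -/
theorem CORE_aux_iSup_elemAb {ι : Sort*} (p : ℕ) (S : ι → Subgroup G)
    (hS : ∀ i, IsElementaryAbelian p (S i))
    (hc : ∀ i j, ∀ a ∈ S i, ∀ b ∈ S j, a * b = b * a) : IsElementaryAbelian p (⨆ i, S i) := by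
  have hcomm1 : ∀ i, ∀ a ∈ S i, ∀ b ∈ (⨆ i, S i), a * b = b * a := by
    intro i a ha b hb
    refine Subgroup.iSup_induction S (C := fun b => a * b = b * a) hb ?_ ?_ ?_
    · intro j b hb
      exact hc i j a ha b hb
    · simp
    · intro x y hx hy
      rw [← mul_assoc, hx, mul_assoc, hy, ← mul_assoc]
  have hcomm : ∀ a ∈ (⨆ i, S i), ∀ b ∈ (⨆ i, S i), a * b = b * a := by
    intro a ha b hb
    refine Subgroup.iSup_induction S (C := fun a => a * b = b * a) ha ?_ ?_ ?_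
    · intro i a ha
      exact hcomm1 i a ha b hb
    · simp
    · intro x y hx hy
      rw [mul_assoc, hy, ← mul_assoc, hx, mul_assoc]
  refine ⟨⟨⟨?_⟩⟩, ?_⟩
  · rintro ⟨x, hx⟩ ⟨y, hy⟩
    apply Subtype.ext
    exact hcomm x hx y hy
  · intro a ha
    have key : a ∈ (⨆ i, S i) ∧ a ^ p = 1 := by
      refine Subgroup.iSup_induction S (C := fun a => a ∈ (⨆ i, S i) ∧ a ^ p = 1) ha ?_ ?_ ?_
      · intro i a ha
        exact ⟨Subgroup.mem_iSup_of_mem i ha, (hS i).2 a ha⟩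
      · exact ⟨one_mem _, one_pow _⟩
      · rintro x y ⟨hx, hxp⟩ ⟨hy, hyp⟩
        refine ⟨mul_mem hx hy, ?_⟩
        have hxy : Commute x y := hcomm x hx y hy
        rw [hxy.mul_pow, hxp, hyp, one_mul]
    exact key.2

/-- a family permuted by conjugation under `M` has an `M`-invariant join -/
theorem CORE_aux_iSup_normalizer {ι : Sort*} (M : Subgroup G) (S : ι → Subgroup G)
    (h : ∀ g ∈ M, ∀ i, ∀ a ∈ S i, ∃ j, g * a * g⁻¹ ∈ S j) :
    M ≤ Subgroup.normalizer ((⨆ i, S i : Subgroup G) : Set G) := by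
  have key : ∀ g ∈ M, ∀ a ∈ (⨆ i, S i), g * a * g⁻¹ ∈ (⨆ i, S i) := by
    intro g hg a ha
    refine Subgroup.iSup_induction S (C := fun a => g * a * g⁻¹ ∈ (⨆ i, S i)) ha ?_ ?_ ?_
    · intro i a ha
      obtain ⟨j, hj⟩ := h g hg i a ha
      exact Subgroup.mem_iSup_of_mem j hj
    · simp
    · intro x y hx hy
      have e : g * (x * y) * g⁻¹ = (g * x * g⁻¹) * (g * y * g⁻¹) := by group
      rw [e]
      exact mul_mem hx hy
  intro g hg
  rw [Subgroup.mem_normalizer_iff]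
  intro a
  constructor
  · exact key g hg a
  · intro ha
    have := key g⁻¹ (inv_mem hg) _ ha
    have e : g⁻¹ * (g * a * g⁻¹) * g⁻¹⁻¹ = a := by group
    rwa [e] at this

/-- `A` is an elementary abelian subgroup of `M` normalised by `M` -/
def NEA (p : ℕ) (M A : Subgroup G) : Prop :=
  A ≤ M ∧ M ≤ Subgroup.normalizer (A : Set G) ∧ IsElementaryAbelian p A

/-- no element of `X` acts quadratically and nontrivially on `A` -/
def QO (X : Set G) (A : Subgroup G) : Prop :=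
  ∀ x ∈ X, ⁅⁅A, Subgroup.zpowers x⁆, Subgroup.zpowers x⁆ = ⊥ → ⁅A, Subgroup.zpowers x⁆ = ⊥

/-- the largest member of `NEA p M` with `QO X` -/
def YY (p : ℕ) (X : Set G) (M : Subgroup G) : Subgroup G :=
  ⨆ A : {A : Subgroup G // NEA p M A ∧ QO X A}, A.1

theorem CORE_aux_isPGroup_of_elemAb {p : ℕ} [Fact p.Prime] {A : Subgroup G}
    (hA : IsElementaryAbelian p A) : IsPGroup p ↥A := by
  rintro ⟨x, hx⟩
  refine ⟨1, ?_⟩
  apply Subtype.ext
  simp only [pow_one, SubgroupClass.coe_pow, OneMemClass.coe_one]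
  exact hA.2 x hx

theorem CORE_aux_comm_of_elemAb {p : ℕ} {A : Subgroup G}
    (hA : IsElementaryAbelian p A) : ∀ a ∈ A, ∀ b ∈ A, a * b = b * a := by
  intro a ha b hb
  have := hA.1.is_comm.comm (⟨a, ha⟩ : A) ⟨b, hb⟩
  exact congrArg Subtype.val this

theorem CORE_aux_NEA_le {p : ℕ} [Fact p.Prime] {M A : Subgroup G} (h : NEA p M A) :
    A ≤ pCoreOf p M :=
  Cfsg.Agent.Helper14.le_pCoreOf p h.1 h.2.1 (CORE_aux_isPGroup_of_elemAb h.2.2)

/-- `[A, ⟨b⟩] ≤ B` when `A` normalises `B ∋ b` -/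
theorem CORE_aux_comm_le {A B : Subgroup G} (hAB : A ≤ Subgroup.normalizer (B : Set G))
    {b : G} (hb : b ∈ B) : ⁅A, Subgroup.zpowers b⁆ ≤ B := by
  rw [Subgroup.commutator_le]
  intro a ha z hz
  have hzB : z ∈ B := (Subgroup.zpowers_le.2 hb) hz
  have h1 : a * z * a⁻¹ ∈ B := (Subgroup.mem_normalizer_iff.1 (hAB ha) z).1 hzB
  rw [commutatorElement_def]
  exact mul_mem h1 (inv_mem hzB)

/-- `[B, ⟨b⟩] = 1` for `b ∈ B` abelian -/
theorem CORE_aux_comm_bot {B : Subgroup G} (hB : ∀ a ∈ B, ∀ b ∈ B, a * b = b * a)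
    {b : G} (hb : b ∈ B) : ⁅B, Subgroup.zpowers b⁆ = ⊥ := by
  rw [Subgroup.commutator_eq_bot_iff_le_centralizer]
  intro a ha
  rw [Subgroup.mem_centralizer_iff]
  intro z hz
  have hzB : z ∈ B := (Subgroup.zpowers_le.2 hb) hz
  exact hB z hzB a ha

/-- quadratic action of `b` on `A` when `A` normalises the abelian `B ∋ b` -/
theorem CORE_aux_quad {A B : Subgroup G} (hAB : A ≤ Subgroup.normalizer (B : Set G))
    (hB : ∀ a ∈ B, ∀ b ∈ B, a * b = b * a) {b : G} (hb : b ∈ B) :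
    ⁅⁅A, Subgroup.zpowers b⁆, Subgroup.zpowers b⁆ = ⊥ := by
  rw [eq_bot_iff, ← CORE_aux_comm_bot hB hb]
  exact Subgroup.commutator_mono (CORE_aux_comm_le hAB hb) le_rfl

/-- from `[A, ⟨b⟩] = 1` to elementwise commuting -/
theorem CORE_aux_commute_of_bot {A : Subgroup G} {b : G}
    (h : ⁅A, Subgroup.zpowers b⁆ = ⊥) : ∀ a ∈ A, a * b = b * a := by
  intro a ha
  rw [Subgroup.commutator_eq_bot_iff_le_centralizer] at h
  have := Subgroup.mem_centralizer_iff.1 (h ha) b (Subgroup.mem_zpowers b)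
  exact this.symm

theorem CORE_aux_bot_of_commute {A : Subgroup G} {b : G}
    (h : ∀ a ∈ A, a * b = b * a) : ⁅A, Subgroup.zpowers b⁆ = ⊥ := by
  rw [Subgroup.commutator_eq_bot_iff_le_centralizer]
  intro a ha
  rw [Subgroup.mem_centralizer_iff]
  intro z hz
  obtain ⟨k, rfl⟩ := Subgroup.mem_zpowers_iff.1 hz
  have hc : Commute a b := h a ha
  exact (hc.zpow_right k).eq.symm

/-- two members with `QO` commute -/
theorem CORE_aux_members_commute {p : ℕ} [Fact p.Prime] {X : Set G} {M A B : Subgroup G}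
    (hX : ∀ x ∈ pCoreOf p M, x ∈ X) (hA : NEA p M A) (hAQ : QO X A) (hB : NEA p M B) :
    ∀ a ∈ A, ∀ b ∈ B, a * b = b * a := by
  intro a ha b hb
  have hbX : b ∈ X := hX b (CORE_aux_NEA_le hB hb)
  have hAB : A ≤ Subgroup.normalizer (B : Set G) := hA.1.trans hB.2.1
  have hq := CORE_aux_quad hAB (CORE_aux_comm_of_elemAb hB.2.2) hb
  exact CORE_aux_commute_of_bot (hAQ b hbX hq) a ha

theorem CORE_aux_YY_NEA {p : ℕ} [Fact p.Prime] {X : Set G} {M : Subgroup G}
    (hX : ∀ x ∈ pCoreOf p M, x ∈ X) : NEA p M (YY p X M) := by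
  refine ⟨?_, ?_, ?_⟩
  · exact iSup_le fun A => A.2.1.1
  · apply CORE_aux_iSup_normalizer
    intro g hg A a ha
    exact ⟨A, (Subgroup.mem_normalizer_iff.1 (A.2.1.2.1 hg) a).1 ha⟩
  · apply CORE_aux_iSup_elemAb
    · intro A
      exact A.2.1.2.2
    · intro A B a ha b hb
      exact CORE_aux_members_commute hX A.2.1 A.2.2 B.2.1 a ha b hb

theorem CORE_aux_YY_QO (p : ℕ) (X : Set G) (M : Subgroup G) : QO X (YY p X M) := by
  intro x hx hq
  rw [Subgroup.commutator_eq_bot_iff_le_centralizer]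
  apply iSup_le
  intro A
  rw [← Subgroup.commutator_eq_bot_iff_le_centralizer]
  apply A.2.2 x hx
  rw [eq_bot_iff, ← hq]
  have hA : A.1 ≤ YY p X M := le_iSup (fun A : {A : Subgroup G // NEA p M A ∧ QO X A} => A.1) A
  exact Subgroup.commutator_mono (Subgroup.commutator_mono hA le_rfl) le_rfl

theorem CORE_aux_le_YY {p : ℕ} {X : Set G} {M A : Subgroup G} (hA : NEA p M A) (hQ : QO X A) :
    A ≤ YY p X M :=
  le_iSup (fun A : {A : Subgroup G // NEA p M A ∧ QO X A} => A.1) ⟨A, hA, hQ⟩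

/-- `Y ≠ 1` from `lemC` -/
theorem CORE_aux_YY_ne_bot {p : ℕ} {X : Set G} {M : Subgroup G} (hXM : ∀ x ∈ X, x ∈ M)
    (g : Good p M) : YY p X M ≠ ⊥ := by
  obtain ⟨A, hA0, hAM, hAn, hAe, hAq⟩ := g.lemC
  intro h
  apply hA0
  rw [eq_bot_iff, ← h]
  exact CORE_aux_le_YY ⟨hAM, hAn, hAe⟩ (fun x hx hq => hAq x (hXM x hx) hq)

theorem CORE_aux_normalizer_of_conj (M H : Subgroup G)
    (key : ∀ g ∈ M, ∀ h ∈ H, g * h * g⁻¹ ∈ H) : M ≤ Subgroup.normalizer (H : Set G) := by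
  intro g hg
  rw [Subgroup.mem_normalizer_iff]
  intro a
  constructor
  · exact key g hg a
  · intro ha
    have := key g⁻¹ (inv_mem hg) _ ha
    have e : g⁻¹ * (g * a * g⁻¹) * g⁻¹⁻¹ = a := by group
    rwa [e] at this

theorem CORE_aux_conj_mem {M H : Subgroup G} (h : M ≤ Subgroup.normalizer (H : Set G))
    {g a : G} (hg : g ∈ M) (ha : a ∈ H) : g * a * g⁻¹ ∈ H :=
  (Subgroup.mem_normalizer_iff.1 (h hg) a).1 ha

theorem CORE_aux_conj_mem' {M H : Subgroup G} (h : M ≤ Subgroup.normalizer (H : Set G))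
    {g a : G} (hg : g ∈ M) (ha : a ∈ H) : g⁻¹ * a * g ∈ H := by
  have := CORE_aux_conj_mem h (inv_mem hg) ha
  rwa [inv_inv] at this

theorem CORE_aux_map_conj_eq {M H : Subgroup G} (h : M ≤ Subgroup.normalizer (H : Set G))
    {g : G} (hg : g ∈ M) : H.map (MulAut.conj g).toMonoidHom = H := by
  apply le_antisymm
  · rintro _ ⟨a, ha, rfl⟩
    simp only [MulEquiv.coe_toMonoidHom, MulAut.conj_apply]
    exact CORE_aux_conj_mem h hg ha
  · intro a ha
    refine ⟨g⁻¹ * a * g, CORE_aux_conj_mem' h hg ha, ?_⟩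
    simp only [MulEquiv.coe_toMonoidHom, MulAut.conj_apply]
    group

theorem CORE_aux_mem_map_conj {H : Subgroup G} {g a : G} :
    a ∈ H.map (MulAut.conj g).toMonoidHom ↔ g⁻¹ * a * g ∈ H := by
  constructor
  · rintro ⟨b, hb, rfl⟩
    simp only [MulEquiv.coe_toMonoidHom, MulAut.conj_apply]
    have e : g⁻¹ * (g * b * g⁻¹) * g = b := by group
    rwa [e]
  · intro h
    refine ⟨g⁻¹ * a * g, h, ?_⟩
    simp only [MulEquiv.coe_toMonoidHom, MulAut.conj_apply]
    group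

theorem CORE_aux_elemAb_map {p : ℕ} {A : Subgroup G} (hA : IsElementaryAbelian p A) (g : G) :
    IsElementaryAbelian p (A.map (MulAut.conj g).toMonoidHom) := by
  have hc := CORE_aux_comm_of_elemAb hA
  refine ⟨⟨⟨?_⟩⟩, ?_⟩
  · rintro ⟨_, a, ha, rfl⟩ ⟨_, b, hb, rfl⟩
    apply Subtype.ext
    show (MulAut.conj g).toMonoidHom a * (MulAut.conj g).toMonoidHom b =
      (MulAut.conj g).toMonoidHom b * (MulAut.conj g).toMonoidHom a
    rw [← map_mul, ← map_mul, hc a ha b hb]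
  · rintro _ ⟨a, ha, rfl⟩
    rw [← map_pow, hA.2 a ha, map_one]

/-- the key inclusion `Y(M') ≤ Y(M)` -/
theorem CORE_aux_half {p : ℕ} [Fact p.Prime] (M M' : Subgroup G) (X : Set G)
    (hQD : pCoreOf p M ≤ M ⊓ M') (hQ'D : pCoreOf p M' ≤ M ⊓ M')
    (hXQ : ∀ x ∈ pCoreOf p M, x ∈ X) (hXQ' : ∀ x ∈ pCoreOf p M', x ∈ X)
    (hX : ∀ x ∈ X, x ∈ pCoreOf p M ∨ x ∈ pCoreOf p M')
    (g : Good p M) (g' : Good p M')
    (hprim : ∀ A : Subgroup G, A ≠ ⊥ → A ≤ M ⊓ M' → M' ≤ Subgroup.normalizer (A : Set G) →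
      M ⊓ Subgroup.normalizer (A : Set G) = M ⊓ M') :
    YY p X M' ≤ YY p X M := by
  set Q := pCoreOf p M with hQdef
  set Q' := pCoreOf p M' with hQ'def
  set Y' := YY p X M' with hY'def
  have hQM : Q ≤ M := hQD.trans inf_le_left
  have hQM' : Q ≤ M' := hQD.trans inf_le_right
  have hQ'M : Q' ≤ M := hQ'D.trans inf_le_left
  have hQ'M' : Q' ≤ M' := hQ'D.trans inf_le_right
  have hMQ : M ≤ Subgroup.normalizer (Q : Set G) := Cfsg.Agent.Helper14.le_normalizer_pCoreOf p M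
  have hM'Q' : M' ≤ Subgroup.normalizer (Q' : Set G) := Cfsg.Agent.Helper14.le_normalizer_pCoreOf p M'
  have hXM : ∀ x ∈ X, x ∈ M := by
    intro x hx
    rcases hX x hx with h | h
    · exact hQM h
    · exact hQ'M h
  have hXM' : ∀ x ∈ X, x ∈ M' := by
    intro x hx
    rcases hX x hx with h | h
    · exact hQM' h
    · exact hQ'M' h
  have hY'N : NEA p M' Y' := CORE_aux_YY_NEA hXQ'
  have hY'Q : QO X Y' := CORE_aux_YY_QO p X M'
  have hY'ne : Y' ≠ ⊥ := CORE_aux_YY_ne_bot hXM' g'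
  have hY'leQ' : Y' ≤ Q' := CORE_aux_NEA_le hY'N
  have hY'ab := CORE_aux_comm_of_elemAb hY'N.2.2
  have hY'leQ : Y' ≤ Q :=
    g.lemA Y' (hY'leQ'.trans hQ'M) hY'ab (hQM'.trans hY'N.2.1)
  -- the family of conjugates
  let S : ↥M → Subgroup G := fun m => Y'.map (MulAut.conj (m : G)).toMonoidHom
  have hSmem : ∀ (m : ↥M) (a : G), a ∈ S m ↔ (m : G)⁻¹ * a * (m : G) ∈ Y' :=
    fun m a => CORE_aux_mem_map_conj
  have hSQ : ∀ m : ↥M, S m ≤ Q := by
    intro m a ha
    have h1 : (m : G)⁻¹ * a * (m : G) ∈ Q := hY'leQ ((hSmem m a).1 ha)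
    have h2 := CORE_aux_conj_mem hMQ m.2 h1
    have e : (m : G) * ((m : G)⁻¹ * a * (m : G)) * (m : G)⁻¹ = a := by group
    rwa [e] at h2
  have hSe : ∀ m : ↥M, IsElementaryAbelian p (S m) := fun m => CORE_aux_elemAb_map hY'N.2.2 _
  -- (C3)
  have hC3 : ∀ m : ↥M, ∀ a ∈ Y', ∀ b ∈ S m, a * b = b * a := by
    intro m a ha b hb
    have hbX : b ∈ X := hXQ b (hSQ m hb)
    have hnorm : Y' ≤ Subgroup.normalizer ((S m : Subgroup G) : Set G) := by
      have h1 : M'.map (MulAut.conj (m : G)).toMonoidHom ≤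
          Subgroup.normalizer ((S m : Subgroup G) : Set G) :=
        Cfsg.Agent.Helper14.map_conj_le_normalizer (m : G) hY'N.2.1
      refine le_trans ?_ h1
      intro y hy
      rw [CORE_aux_mem_map_conj]
      exact hQM' (CORE_aux_conj_mem' hMQ m.2 (hY'leQ hy))
    have hq := CORE_aux_quad hnorm (CORE_aux_comm_of_elemAb (hSe m)) hb
    exact CORE_aux_commute_of_bot (hY'Q b hbX hq) a ha
  have hcomm : ∀ m m' : ↥M, ∀ a ∈ S m, ∀ b ∈ S m', a * b = b * a := by
    intro m m' a ha b hb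
    have ha' := (hSmem m a).1 ha
    have hb' := (hSmem m' b).1 hb
    set n : ↥M := m⁻¹ * m' with hn
    have hb0 : (m : G)⁻¹ * b * (m : G) ∈ S n := by
      rw [hSmem]
      have e : ((n : ↥M) : G)⁻¹ * ((m : G)⁻¹ * b * (m : G)) * ((n : ↥M) : G) =
          (m' : G)⁻¹ * b * (m' : G) := by
        rw [hn]
        simp only [Subgroup.coe_mul, Subgroup.coe_inv]
        group
      rw [e]
      exact hb'
    have h1 := hC3 n _ ha' _ hb0
    calc a * b = (m : G) * (((m : G)⁻¹ * a * (m : G)) * ((m : G)⁻¹ * b * (m : G))) * (m : G)⁻¹ := by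
          group
      _ = (m : G) * (((m : G)⁻¹ * b * (m : G)) * ((m : G)⁻¹ * a * (m : G))) * (m : G)⁻¹ := by
          rw [h1]
      _ = b * a := by group
  set U : Subgroup G := ⨆ m : ↥M, S m with hUdef
  have hUe : IsElementaryAbelian p U := CORE_aux_iSup_elemAb p S hSe hcomm
  have hUM : U ≤ M := iSup_le fun m => (hSQ m).trans hQM
  have hUn : M ≤ Subgroup.normalizer (U : Set G) := by
    apply CORE_aux_iSup_normalizer
    intro x hx m a ha
    refine ⟨⟨x, hx⟩ * m, ?_⟩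
    rw [hSmem]
    have e : (((⟨x, hx⟩ * m : ↥M) : ↥M) : G)⁻¹ * (x * a * x⁻¹) * (((⟨x, hx⟩ * m : ↥M) : ↥M) : G) =
        (m : G)⁻¹ * a * (m : G) := by
      simp only [Subgroup.coe_mul]
      group
    rw [e]
    exact (hSmem m a).1 ha
  have hUN : NEA p M U := ⟨hUM, hUn, hUe⟩
  have hY'U : Y' ≤ U := by
    intro y hy
    apply Subgroup.mem_iSup_of_mem (1 : ↥M)
    rw [hSmem]
    simpa using hy
  -- (C4)
  have hUQ : QO X U := by
    intro x hxX hq
    have hxM : x ∈ M := hXM x hxX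
    have hxp : ∃ k : ℕ, x ^ (p ^ k) = 1 := by
      rcases hX x hxX with h | h
      · obtain ⟨k, hk⟩ := (Cfsg.Agent.Helper14.pCoreOf_isPGroup p M) ⟨x, h⟩
        exact ⟨k, by simpa using congrArg Subtype.val hk⟩
      · obtain ⟨k, hk⟩ := (Cfsg.Agent.Helper14.pCoreOf_isPGroup p M') ⟨x, h⟩
        exact ⟨k, by simpa using congrArg Subtype.val hk⟩
    set K : Subgroup G := ⨅ m : ↥M, (M ⊓ M').map (MulAut.conj (m : G)).toMonoidHom with hKdef
    have hKmem : ∀ a : G, a ∈ K ↔ ∀ m : ↥M, (m : G)⁻¹ * a * (m : G) ∈ M ⊓ M' := by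
      intro a
      rw [hKdef, Subgroup.mem_iInf]
      exact forall_congr' fun m => CORE_aux_mem_map_conj
    have hKD : K ≤ M ⊓ M' := by
      intro a ha
      have := (hKmem a).1 ha 1
      simpa using this
    have hKM : K ≤ M := hKD.trans inf_le_left
    have hKM' : K ≤ M' := hKD.trans inf_le_right
    have hKn : M ≤ Subgroup.normalizer (K : Set G) := by
      apply CORE_aux_normalizer_of_conj
      intro y hy a ha
      rw [hKmem]
      intro m
      have := (hKmem a).1 ha (⟨y, hy⟩⁻¹ * m)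
      have e : (((⟨y, hy⟩⁻¹ * m : ↥M) : ↥M) : G)⁻¹ * a * (((⟨y, hy⟩⁻¹ * m : ↥M) : ↥M) : G) =
          (m : G)⁻¹ * (y * a * y⁻¹) * (m : G) := by
        simp only [Subgroup.coe_mul, Subgroup.coe_inv]
        group
      rwa [e] at this
    have hCK : M ⊓ Subgroup.centralizer (U : Set G) ≤ K := by
      rintro y ⟨hyM, hyC⟩
      rw [hKmem]
      intro m
      have hdM : (m : G)⁻¹ * y * (m : G) ∈ M := mul_mem (mul_mem (inv_mem m.2) hyM) m.2
      have hdC : (m : G)⁻¹ * y * (m : G) ∈ Subgroup.centralizer (Y' : Set G) := by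
        rw [Subgroup.mem_centralizer_iff]
        intro z hz
        have hzU : (m : G) * z * (m : G)⁻¹ ∈ U := by
          apply Subgroup.mem_iSup_of_mem m
          rw [hSmem]
          have e : (m : G)⁻¹ * ((m : G) * z * (m : G)⁻¹) * (m : G) = z := by group
          rwa [e]
        have h1 := Subgroup.mem_centralizer_iff.1 hyC _ hzU
        calc z * ((m : G)⁻¹ * y * (m : G))
            = (m : G)⁻¹ * (((m : G) * z * (m : G)⁻¹) * y) * (m : G) := by group
          _ = (m : G)⁻¹ * (y * ((m : G) * z * (m : G)⁻¹)) * (m : G) := by rw [h1]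
          _ = (m : G)⁻¹ * y * (m : G) * z := by group
      have hdN : (m : G)⁻¹ * y * (m : G) ∈ M ⊓ Subgroup.normalizer (Y' : Set G) :=
        ⟨hdM, Subgroup.centralizer_le_normalizer _ hdC⟩
      rw [hprim Y' hY'ne (le_inf (hY'leQ.trans hQM) (hY'leQ'.trans hQ'M')) hY'N.2.1] at hdN
      exact hdN
    have hpK : pCoreOf p K ≤ Q := by
      apply Cfsg.Agent.Helper14.le_pCoreOf p ((Cfsg.Agent.Helper14.pCoreOf_le p K).trans hKM)
      · apply CORE_aux_normalizer_of_conj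
        intro y hy a ha
        have h1 : (pCoreOf p K).map (MulAut.conj y).toMonoidHom = pCoreOf p K := by
          rw [← Cfsg.Agent.Helper14.pCoreOf_map_conj, CORE_aux_map_conj_eq hKn hy]
        rw [← h1]
        exact ⟨a, ha, by simp⟩
      · exact Cfsg.Agent.Helper14.pCoreOf_isPGroup p K
    have hxK : ∀ k ∈ K, ⁅k, x⁆ ∈ Q := by
      intro k hk
      rcases hX x hxX with h | h
      · rw [commutatorElement_def]
        exact mul_mem (CORE_aux_conj_mem hMQ (hKM hk) h) (inv_mem h)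
      · apply hpK
        have hR : K ⊓ Q' ≤ pCoreOf p K := by
          apply Cfsg.Agent.Helper14.le_pCoreOf p inf_le_left
          · apply CORE_aux_normalizer_of_conj
            rintro y hy a ⟨haK, haQ⟩
            exact ⟨CORE_aux_conj_mem hKn (hKM hy) haK, CORE_aux_conj_mem hM'Q' (hKM' hy) haQ⟩
          · exact (Cfsg.Agent.Helper14.pCoreOf_isPGroup p M').to_le inf_le_right
        have hkK : ⁅k, x⁆ ∈ K := by
          have e : ⁅k, x⁆ = k * (x * k⁻¹ * x⁻¹) := by rw [commutatorElement_def]; group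
          rw [e]
          exact mul_mem hk (CORE_aux_conj_mem hKn (hQ'M h) (inv_mem hk))
        have hkQ' : ⁅k, x⁆ ∈ Q' := by
          rw [commutatorElement_def]
          exact mul_mem (CORE_aux_conj_mem hM'Q' (hKM' hk) h) (inv_mem h)
        exact hR ⟨hkK, hkQ'⟩
    have hxQ : x ∈ Q := g.lemB K U hKM hKn hUM hUn hUe hCK x hxM hxp hxK hq
    apply CORE_aux_bot_of_commute
    intro a ha
    refine Subgroup.iSup_induction S (C := fun a => a * x = x * a) ha ?_ ?_ ?_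
    · intro m a ha
      set x' : G := (m : G)⁻¹ * x * (m : G) with hx'
      have hx'Q : x' ∈ Q := CORE_aux_conj_mem' hMQ m.2 hxQ
      have hfx : (MulAut.conj (m : G)).toMonoidHom x' = x := by
        simp only [MulEquiv.coe_toMonoidHom, MulAut.conj_apply, hx']
        group
      have hq' : ⁅⁅Y', Subgroup.zpowers x'⁆, Subgroup.zpowers x'⁆ = ⊥ := by
        rw [← Subgroup.map_eq_bot_iff_of_injective _
          (show Function.Injective ((MulAut.conj (m : G)).toMonoidHom) from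
            (MulAut.conj (m : G)).injective)]
        have h1 : (⁅⁅Y', Subgroup.zpowers x'⁆, Subgroup.zpowers x'⁆).map
            (MulAut.conj (m : G)).toMonoidHom =
            ⁅⁅S m, Subgroup.zpowers x⁆, Subgroup.zpowers x⁆ := by
          rw [Subgroup.map_commutator, Subgroup.map_commutator, MonoidHom.map_zpowers, hfx]
        rw [h1, eq_bot_iff, ← hq]
        exact Subgroup.commutator_mono
          (Subgroup.commutator_mono (le_iSup S m) le_rfl) le_rfl
      have h2 := CORE_aux_commute_of_bot (hY'Q x' (hXQ x' hx'Q) hq')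
      have h3 := h2 _ ((hSmem m a).1 ha)
      calc a * x = (m : G) * (((m : G)⁻¹ * a * (m : G)) * x') * (m : G)⁻¹ := by
            rw [hx']; group
        _ = (m : G) * (x' * ((m : G)⁻¹ * a * (m : G))) * (m : G)⁻¹ := by rw [h3]
        _ = x * a := by rw [hx']; group
    · simp
    · intro y z hy hz
      rw [mul_assoc, hz, ← mul_assoc, hy, mul_assoc]
  exact hY'U.trans (CORE_aux_le_YY hUN hUQ)

/-- piece CORE -/
theorem CORE [Finite G] {p : ℕ} [Fact p.Prime] (M₁ M₂ : Subgroup G) (hne : M₁ ≠ M₂) (hP : Prim M₁ M₂)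
    (hO : pCoreOf p M₁ ⊔ pCoreOf p M₂ ≤ M₁ ⊓ M₂) (h₁ : Good p M₁) (h₂ : Good p M₂) : False := by
  set X : Set G := {x | x ∈ pCoreOf p M₁ ∨ x ∈ pCoreOf p M₂} with hXdef
  have hQ₁D : pCoreOf p M₁ ≤ M₁ ⊓ M₂ := le_sup_left.trans hO
  have hQ₂D : pCoreOf p M₂ ≤ M₁ ⊓ M₂ := le_sup_right.trans hO
  have hQ₁D' : pCoreOf p M₁ ≤ M₂ ⊓ M₁ := by rw [inf_comm]; exact hQ₁D
  have hQ₂D' : pCoreOf p M₂ ≤ M₂ ⊓ M₁ := by rw [inf_comm]; exact hQ₂D
  have h12 : YY p X M₂ ≤ YY p X M₁ :=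
    CORE_aux_half M₁ M₂ X hQ₁D hQ₂D (fun x hx => Or.inl hx) (fun x hx => Or.inr hx)
      (fun x hx => hx) h₁ h₂ (fun A hA hAD hn => (hP A hA hAD).2 hn)
  have h21 : YY p X M₁ ≤ YY p X M₂ :=
    CORE_aux_half M₂ M₁ X hQ₂D' hQ₁D' (fun x hx => Or.inr hx) (fun x hx => Or.inl hx)
      (fun x hx => hx.symm) h₂ h₁ (fun A hA hAD hn => by
        have hAD' : A ≤ M₁ ⊓ M₂ := by rw [inf_comm]; exact hAD
        rw [(hP A hA hAD').1 hn, inf_comm])
  have hYeq : YY p X M₁ = YY p X M₂ := le_antisymm h21 h12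
  have hXM₁ : ∀ x ∈ X, x ∈ M₁ := by
    intro x hx
    rcases hx with h | h
    · exact (hQ₁D h).1
    · exact (hQ₂D h).1
  have hN₁ : NEA p M₁ (YY p X M₁) := CORE_aux_YY_NEA (fun x hx => Or.inl hx)
  have hN₂ : NEA p M₂ (YY p X M₂) := CORE_aux_YY_NEA (fun x hx => Or.inr hx)
  have hne' : YY p X M₁ ≠ ⊥ := CORE_aux_YY_ne_bot hXM₁ h₁
  set Y := YY p X M₁ with hYdef
  have hYD : Y ≤ M₁ ⊓ M₂ := le_inf hN₁.1 (by rw [hYeq]; exact hN₂.1)
  have hn₁ : M₁ ≤ Subgroup.normalizer (Y : Set G) := hN₁.2.1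
  have hn₂ : M₂ ≤ Subgroup.normalizer (Y : Set G) := by rw [hYeq]; exact hN₂.2.1
  obtain ⟨ha, hb⟩ := hP Y hne' hYD
  have e₂ : M₂ = M₁ ⊓ M₂ := by
    rw [← ha hn₁]
    exact (inf_eq_left.2 hn₂).symm
  have e₁ : M₁ = M₁ ⊓ M₂ := by
    rw [← hb hn₂]
    exact (inf_eq_left.2 hn₁).symm
  exact hne (e₁.trans e₂.symm)

end Cfsg.Agent.S3753P
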