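import Mathlib
import Cfsg.Prelude.Def_PLocal
import Cfsg.Prelude.Def_Amalgam

/-!
# S3753 (KS: a primitive pair of characteristic `p` has a member with non-abelian Sylow 2-subgroups)

Shared definitions for the board `s3753pieces`.  Everything is phrased with subgroups of the ambient group `G`;
`O_p(M)` is `Cfsg.pCoreOf p M` (`= (pCore p ↥M).map M.subtype`, lemmas in `Cfsg.Agent.Helper14.PCore`).
-/

set_option autoImplicit false

namespace Cfsg.Agent.S3753P

open Cfsg
open scoped commutatorElement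

variable {G : Type*} [Group G]

/-- The three facts about one member `M` of the pair that the core argument uses (all are consequences of
`IsActionPStable p ↥M`, characteristic `p` and `O_p(M) ≠ 1`; pieces LEMA, LEMB, LEMC). -/
structure Good (p : ℕ) (M : Subgroup G) : Prop where
  /-- an abelian subgroup of `M` normalised by `O_p(M)` lies in `O_p(M)` -/
  lemA : ∀ A : Subgroup G, A ≤ M → (∀ a ∈ A, ∀ b ∈ A, a * b = b * a) →
    pCoreOf p M ≤ Subgroup.normalizer (A : Set G) → A ≤ pCoreOf p M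
  /-- a `p`-element of `M` acting quadratically on a normal elementary abelian `U` with `C_M(U) ≤ K ⊴ M`
  and with `[K, x] ≤ O_p(M)` lies in `O_p(M)` -/
  lemB : ∀ K U : Subgroup G, K ≤ M → M ≤ Subgroup.normalizer (K : Set G) →
    U ≤ M → M ≤ Subgroup.normalizer (U : Set G) → IsElementaryAbelian p U →
    M ⊓ Subgroup.centralizer (U : Set G) ≤ K →
    ∀ x ∈ M, (∃ k : ℕ, x ^ (p ^ k) = 1) → (∀ k ∈ K, ⁅k, x⁆ ∈ pCoreOf p M) →
    ⁅⁅U, Subgroup.zpowers x⁆, Subgroup.zpowers x⁆ = ⊥ → x ∈ pCoreOf p M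
  /-- there is a nontrivial normal elementary abelian subgroup on which no element of `M` acts quadratically and
  nontrivially -/
  lemC : ∃ A : Subgroup G, A ≠ ⊥ ∧ A ≤ M ∧ M ≤ Subgroup.normalizer (A : Set G) ∧ IsElementaryAbelian p A ∧
    ∀ x ∈ M, ⁅⁅A, Subgroup.zpowers x⁆, Subgroup.zpowers x⁆ = ⊥ → ⁅A, Subgroup.zpowers x⁆ = ⊥

/-- Primitivity of the pair, exactly as in the frozen statement. -/
def Prim (M₁ M₂ : Subgroup G) : Prop :=
  ∀ A : Subgroup G, A ≠ ⊥ → A ≤ M₁ ⊓ M₂ →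
    (M₁ ≤ Subgroup.normalizer (A : Set G) → M₂ ⊓ Subgroup.normalizer (A : Set G) = M₁ ⊓ M₂) ∧
    (M₂ ≤ Subgroup.normalizer (A : Set G) → M₁ ⊓ Subgroup.normalizer (A : Set G) = M₁ ⊓ M₂)

end Cfsg.Agent.S3753P
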