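import Cfsg.Agent.Helper11.S3786Defs
import Cfsg.Agent.Helper2.S3786FRAT
import Cfsg.Agent.Helper2.S3786LIFT
import Cfsg.Agent.Helper3.S3786NonExc
import Cfsg.Agent.Helper21.ExpSix
import Cfsg.Agent.Lead.PSolvHall
import Cfsg.Agent.Helper5.HHTn
import Cfsg.Agent.S3784

/-! # S3786, row `STEP1`: the key step of part (a) -/

set_option autoImplicit false

namespace Cfsg.Agent.S3786P

open Subgroup

universe u

/-- a `p`-element is killed by the exponent of the Sylow subgroups -/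
theorem STEP1_aux_pow {X : Type*} [Group X] [Finite X] {p : ℕ} [Fact p.Prime] {n : ℕ} (hexp : ExpLE p n X) (g : X)
    (hg : ∃ k : ℕ, g ^ p ^ k = 1) : g ^ p ^ n = 1 := by
  obtain ⟨k, hk⟩ := hg
  have hz : IsPGroup p ↥(zpowers g) := by
    rw [IsPGroup.iff_card, Nat.card_zpowers]
    exact (Nat.dvd_prime_pow Fact.out).mp (orderOf_dvd_of_pow_eq_one hk) |>.imp fun m hm => hm.2
  obtain ⟨P, hP⟩ := hz.exists_le_sylow
  exact hexp P g (hP (mem_zpowers g))

/-- an odd prime `p` with `p ^ n₀ - 1` a power of 2 is a Fermat prime (`S3784`) -/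
theorem STEP1_aux_fermat {p : ℕ} (hp : p.Prime) (hp2 : p ≠ 2) {n₀ q m : ℕ} (hn₀ : 1 ≤ n₀) (hq : q.Prime) (hm : 1 ≤ m)
    (h : p ^ n₀ - 1 = q ^ m) : q = 2 ∧ ∃ k : ℕ, p = 2 ^ k + 1 := by
  have hpos : 1 ≤ p ^ n₀ := Nat.one_le_pow _ _ hp.pos
  have h' : p ^ n₀ = q ^ m + 1 := by omega
  rcases Cfsg.Agent.S3784.result p q n₀ m hp hq hn₀ hm h' with h1 | h1 | h1
  · exact absurd h1.1 hp2
  · exact ⟨h1.1, m, h1.2.2.2⟩
  · obtain ⟨h9, h8⟩ := h1
    have hq2 : q = 2 := by
      have : q ∣ 2 ^ 3 := by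
        have : q ∣ q ^ m := dvd_pow_self q (by omega)
        rw [h8] at this
        exact this
      exact (Nat.prime_dvd_prime_iff_eq hq Nat.prime_two).mp (hq.dvd_of_dvd_pow this)
    have hp3 : p = 3 := by
      have : p ∣ 3 ^ 2 := by
        have : p ∣ p ^ n₀ := dvd_pow_self p (by omega)
        rw [h9] at this
        exact this
      exact (Nat.prime_dvd_prime_iff_eq hp Nat.prime_three).mp (hp.dvd_of_dvd_pow this)
    exact ⟨hq2, 1, by rw [hp3]; norm_num⟩

/-- E1. -/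
theorem STEP1 {X : Type u} [Group X] [Finite X] {p : ℕ} [Fact p.Prime] (hp2 : p ≠ 2) (hsol : Cfsg.IsPSolvable p X)
    (hO : Cfsg.pPrimeCore p X = ⊥) (hne : NonExc p X) {n : ℕ} (hexp : ExpLE p (n + 1) X) (P : Sylow p X) (x : X)
    (hx : x ∈ (P : Subgroup X)) : x ^ p ^ n ∈ Cfsg.pCore p X := by
  classical
  have hp := (Fact.out : p.Prime)
  by_cases hX : Nontrivial X
  · obtain ⟨V, iA, iM, iF, iN, π, ρb, D⟩ := FRAT p hsol hO
    have hfs : Function.Surjective (QuotientGroup.mk' (Cfsg.pCore p X)) := QuotientGroup.mk'_surjective _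
    have iFD : FiniteDimensional (ZMod p) V := Module.Finite.of_finite
    set y := QuotientGroup.mk' (Cfsg.pCore p X) x with hy
    by_contra hnot
    have hyn : y ^ p ^ n ≠ 1 := by
      intro h1
      apply hnot
      rw [hy, ← map_pow, QuotientGroup.mk'_apply, QuotientGroup.eq_one_iff] at h1
      exact h1
    have hyn1 : y ^ p ^ (n + 1) = 1 := by
      rw [hy, ← map_pow, hexp P x hx, map_one]
    have hord : orderOf y = p ^ (n + 1) := by
      obtain ⟨k, hk, hk'⟩ := (Nat.dvd_prime_pow hp).mp (orderOf_dvd_of_pow_eq_one hyn1)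
      rcases Nat.lt_or_ge k (n + 1) with hlt | hge
      · exfalso
        apply hyn
        have hdvd : orderOf y ∣ p ^ n := by
          rw [hk']
          exact pow_dvd_pow p (by omega)
        exact orderOf_dvd_iff_pow_eq_one.mp hdvd
      · have : k = n + 1 := le_antisymm hk hge
        rw [hk', this]
    have hr : (ρb y - 1) ^ (p ^ (n + 1) - 1) = 0 := by
      by_contra hne0
      have hx1 : x ^ p ^ (n + 1) ∈ Cfsg.pCore p X := by
        rw [hexp P x hx]; exact one_mem _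
      obtain ⟨g, hg, hgne⟩ := LIFT D x (n + 1) hx1 hne0
      exact hgne (STEP1_aux_pow hexp g hg)
    have hpos : 1 ≤ p ^ (n + 1) := Nat.one_le_pow _ _ hp.pos
    rcases Cfsg.Agent.Helper5.HHT.thmB_rep ρb D.inj (Cfsg.Agent.Lead.isPSolvable_quotient hsol _)
      (Cfsg.Agent.Helper21.ExpSix.pCore_quotient_pCore_eq_bot p) y (n + 1) (by omega) hord
      (p ^ (n + 1) - 1) hr with hle | ⟨n₀, q, m, hn₀, -, hq, hm, hpq, hnab, -⟩
    · omega
    · obtain ⟨hq2, hk⟩ := STEP1_aux_fermat hp hp2 hn₀ hq hm hpq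
      subst hq2
      rcases NonExc.of_surjective hne _ hfs with h1 | h1
      · exact h1 hk
      · have : Fact (Nat.Prime 2) := ⟨Nat.prime_two⟩
        obtain ⟨Q⟩ : Nonempty (Sylow 2 (X ⧸ Cfsg.pCore p X)) := inferInstance
        exact hnab Q (h1 Q)
  · rw [not_nontrivial_iff_subsingleton] at hX
    have : x ^ p ^ n = 1 := Subsingleton.elim _ _
    rw [this]
    exact one_mem _

end Cfsg.Agent.S3786P
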