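import Cfsg.Agent.Helper11.S3786Defs
import Cfsg.Agent.Helper11.S3786STEP1
import Cfsg.Agent.Helper3.S3786NonExc
import Cfsg.Agent.Helper9.PLenExpC

/-! # S3786, row `IND1`: the induction of part (a) -/

set_option autoImplicit false

namespace Cfsg.Agent.S3786P

open Subgroup

universe u

/-- the key step in `G`: `p ^ n`-th powers of `p`-elements lie in `O_{p',p}(G)`. -/
theorem IND1_aux_pow_mem_upper_two {G : Type u} [Group G] [Finite G] {p : ℕ} [Fact p.Prime] (hp2 : p ≠ 2)
    (hsol : Cfsg.IsPSolvable p G) (hne : NonExc p G) {n : ℕ}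
    (hexp : ExpLE p (n + 1) G) (P : Sylow p G) (x : G) (hx : x ∈ (P : Subgroup G)) :
    x ^ p ^ n ∈ (Cfsg.upperPSeries p G 2).1 := by
  set A := (Cfsg.upperPSeries p G 1).1 with hA
  have hfA : Function.Surjective (QuotientGroup.mk' A) := QuotientGroup.mk'_surjective A
  have hBeq : (Cfsg.upperPSeries p G 2).1 = (Cfsg.pCore p (G ⧸ A)).comap (QuotientGroup.mk' A) :=
    Cfsg.Agent.Lead.upperPSeries_succ_of_not_even p G (n := 1) (by decide)
  rw [hBeq, mem_comap, map_pow]
  have hexp' : ExpLE p (n + 1) (G ⧸ A) :=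
    Cfsg.Agent.Helper9.PLenExp.ExpLE.of_surjective (p := p) (n := n + 1) hexp _ hfA
  apply STEP1 hp2 (Cfsg.Agent.Lead.isPSolvable_quotient hsol A)
    Cfsg.Agent.Helper9.PLenExp.pPrimeCore_quotient_one
    (NonExc.of_surjective hne _ hfA) hexp' (P.mapSurjective hfA)
  rw [Sylow.coe_mapSurjective]
  exact ⟨x, hx, rfl⟩

/-- E3. Induction for part (a) (skeleton: `Helper9.PLenExp.aux`, `pow_mem_upper_two`). -/
theorem IND1 {p : ℕ} [Fact p.Prime] (hp2 : p ≠ 2) : ∀ (n : ℕ) (G : Type u) [Group G] [Finite G],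
    Cfsg.IsPSolvable p G → NonExc p G → ExpLE p n G → Cfsg.PLengthLE p n G := by
  intro n
  induction n with
  | zero =>
    intro G _ _ hsol _ hexp
    apply Cfsg.Agent.Helper1.PLen.pLengthLE_zero_of_coprime
    obtain ⟨S⟩ : Nonempty (Sylow p G) := inferInstance
    have hS1 : Nat.card (S : Subgroup G) = 1 := by
      rw [Nat.card_eq_one_iff_unique]
      refine ⟨⟨fun a b => ?_⟩, ⟨1⟩⟩
      apply Subtype.ext
      have ha := hexp S a a.2
      have hb := hexp S b b.2
      simp only [pow_zero, pow_one] at ha hb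
      rw [ha, hb]
    have h2 := (S : Subgroup G).card_mul_index
    rw [hS1, one_mul] at h2
    rw [← h2]
    exact ((Nat.Prime.coprime_iff_not_dvd Fact.out).mpr S.not_dvd_index).symm
  | succ n ih =>
    intro G _ _ hsol hne hexp
    set B := (Cfsg.upperPSeries p G 2).1 with hB
    have hf : Function.Surjective (QuotientGroup.mk' B) := QuotientGroup.mk'_surjective B
    apply Cfsg.Agent.Lead.PLengthLE.of_quotient_two
    apply ih (G ⧸ B) (Cfsg.Agent.Lead.isPSolvable_quotient hsol B) (NonExc.of_surjective hne _ hf)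
    intro P'
    obtain ⟨P, rfl⟩ := Sylow.mapSurjective_surjective hf p P'
    rw [Sylow.coe_mapSurjective]
    rintro _ ⟨x, hx, rfl⟩
    rw [← map_pow, QuotientGroup.mk'_apply, QuotientGroup.eq_one_iff]
    exact IND1_aux_pow_mem_upper_two hp2 hsol hne hexp P x hx

end Cfsg.Agent.S3786P
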