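import Cfsg.Agent.Helper11.S3786Defs
import Cfsg.Agent.Helper10.PGroupBasic

/-! # S3786, core of row `That_comm`: `T̂` is abelian -/

set_option autoImplicit false

namespace Cfsg.Agent.S3786P

open Subgroup

universe u

/-- group-theoretic core: a subgroup `Th ⊴ T` (`T` a finite `p`-group) generated by a set `gens` such that every generator centralises every
abelian subgroup `B ≤ Th` which is normal in `T`, is abelian. -/
theorem That_comm_aux_core {H : Type*} [Group H] {p : ℕ} [Fact p.Prime] (T Th : Subgroup H) [Finite ↥T] (hTp : IsPGroup p ↥T)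
    (gens : Set H) (hgen : Th = closure gens) (hThT : Th ≤ T) (hTn : T ≤ normalizer (Th : Set H))
    (hkey : ∀ z ∈ gens, ∀ B : Subgroup H, B ≤ Th → (∀ a ∈ B, ∀ b ∈ B, a * b = b * a) → T ≤ normalizer (B : Set H) →
      ∀ b ∈ B, z * b = b * z) :
    ∀ a ∈ Th, ∀ b ∈ Th, a * b = b * a := by
  classical
  set Zh : Subgroup H := Th ⊓ centralizer (Th : Set H) with hZh
  by_contra hcon
  have hnle : ¬ Th ≤ Zh := by
    intro h
    apply hcon
    intro a ha b hb
    exact ((mem_centralizer_iff.mp (h ha).2) b hb).symm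
  -- `T` normalises `Zh`
  have hTZ : ∀ t ∈ T, ∀ c ∈ Zh, t * c * t⁻¹ ∈ Zh := by
    intro t ht c hc
    refine ⟨(mem_normalizer_iff.mp (hTn ht) c).mp hc.1, ?_⟩
    exact Cfsg.Agent.Helper10.conj_mem_centralizer_of_mem_normalizer (hTn ht) hc.2
  have hTTh : ∀ t ∈ T, ∀ c ∈ Th, t * c * t⁻¹ ∈ Th := fun t ht c hc => (mem_normalizer_iff.mp (hTn ht) c).mp hc
  let Cs : Subgroup ↥T := Zh.subgroupOf T
  let Ds : Subgroup ↥T := Th.subgroupOf T
  have hCn : Cs.Normal := ⟨fun c hc t => by
    rw [mem_subgroupOf] at hc ⊢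
    exact hTZ t t.2 c hc⟩
  have hDn : Ds.Normal := ⟨fun c hc t => by
    rw [mem_subgroupOf] at hc ⊢
    exact hTTh t t.2 c hc⟩
  have hDC : ¬ Ds ≤ Cs := by
    intro h
    apply hnle
    intro a ha
    have : (⟨a, hThT ha⟩ : ↥T) ∈ Cs := h (mem_subgroupOf.mpr ha)
    exact mem_subgroupOf.mp this
  obtain ⟨y, hyD, hyC, hyc⟩ := Cfsg.Agent.Helper10.exists_mem_not_mem_central_mod hTp Cs Ds hDC
  have hyTh : (y : H) ∈ Th := mem_subgroupOf.mp hyD
  have hyZ : (y : H) ∉ Zh := fun h => hyC (mem_subgroupOf.mpr h)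
  have hyc' : ∀ t ∈ T, t * (y : H) * t⁻¹ * (y : H)⁻¹ ∈ Zh := by
    intro t ht
    have := hyc ⟨t, ht⟩
    exact mem_subgroupOf.mp this
  -- `B = ⟨Zh, y⟩`
  set k : Set H := (Zh : Set H) ∪ {(y : H)} with hk
  have hkTh : k ⊆ (Th : Set H) := by
    rintro a (ha | ha)
    · exact ha.1
    · rw [Set.mem_singleton_iff] at ha; rw [ha]; exact hyTh
  have hkcomm : ∀ a ∈ k, ∀ b ∈ k, a * b = b * a := by
    rintro a (ha | ha) b hb
    · exact ((mem_centralizer_iff.mp ha.2) b (hkTh hb)).symm
    · rw [Set.mem_singleton_iff] at ha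
      rcases hb with hb | hb
      · rw [ha]; exact (mem_centralizer_iff.mp hb.2) (y : H) hyTh
      · rw [Set.mem_singleton_iff] at hb; rw [ha, hb]
  set B : Subgroup H := closure k with hB
  have hBTh : B ≤ Th := (closure_le Th).mpr hkTh
  have hBc : ∀ a ∈ B, ∀ b ∈ B, a * b = b * a := by
    intro a ha b hb
    have h1 : B ≤ centralizer (k : Set H) := by
      rw [hB, closure_le]
      intro c hc
      rw [SetLike.mem_coe, mem_centralizer_iff]
      intro d hd
      exact hkcomm d hd c hc
    have h2 : B ≤ centralizer ({b} : Set H) := by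
      rw [hB, closure_le]
      intro d hd
      rw [SetLike.mem_coe, Subgroup.mem_centralizer_singleton_iff]
      exact (mem_centralizer_iff.mp (h1 hb)) d hd
    have := h2 ha
    rw [Subgroup.mem_centralizer_singleton_iff] at this
    exact this
  have hconjB : ∀ t ∈ T, ∀ c ∈ B, t * c * t⁻¹ ∈ B := by
    intro t ht c hc
    have hmap : B.map (MulAut.conj t).toMonoidHom ≤ B := by
      rw [hB, MonoidHom.map_closure, closure_le]
      rintro _ ⟨d, hd, rfl⟩
      show t * d * t⁻¹ ∈ closure k
      rcases hd with hd | hd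
      · exact subset_closure (Or.inl (hTZ t ht d hd))
      · rw [Set.mem_singleton_iff] at hd
        rw [hd]
        have h1 : t * (y : H) * t⁻¹ = (t * (y : H) * t⁻¹ * (y : H)⁻¹) * (y : H) := by group
        rw [h1]
        exact (closure k).mul_mem (subset_closure (Or.inl (hyc' t ht))) (subset_closure (Or.inr rfl))
    exact hmap ⟨c, hc, rfl⟩
  have hTB : T ≤ normalizer (B : Set H) := by
    intro t ht
    rw [mem_normalizer_iff]
    intro c
    constructor
    · exact hconjB t ht c
    · intro h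
      have := hconjB t⁻¹ (T.inv_mem ht) _ h
      have e : t⁻¹ * (t * c * t⁻¹) * t⁻¹⁻¹ = c := by group
      rwa [e] at this
  -- `y` commutes with all generators
  have hyB : (y : H) ∈ B := subset_closure (Or.inr rfl)
  have hycent : (y : H) ∈ centralizer (Th : Set H) := by
    have : Th ≤ centralizer ({(y : H)} : Set H) := by
      rw [hgen, closure_le]
      intro z hz
      rw [SetLike.mem_coe, Subgroup.mem_centralizer_singleton_iff]
      exact (hkey z hz B hBTh hBc hTB (y : H) hyB)
    rw [mem_centralizer_iff]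
    intro g hg
    have := this hg
    rw [Subgroup.mem_centralizer_singleton_iff] at this
    exact this
  exact hyZ ⟨hyTh, hycent⟩

end Cfsg.Agent.S3786P
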