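import Cfsg.Agent.Helper11.S3786Defs
import Cfsg.Agent.Helper2.S3786FRAT
import Cfsg.Agent.Helper2.S3786LIFT
import Cfsg.Agent.Helper2.S3786Kmain
import Cfsg.Agent.Helper21.ExpSix
import Cfsg.Agent.Lead.PSolvHall

/-! # S3786, row `STEP2`: the key step of part (b) -/

set_option autoImplicit false

namespace Cfsg.Agent.S3786P

open Subgroup

universe u

/-- a `p`-element is killed by the exponent of the Sylow subgroups -/
theorem STEP2_aux_pow {X : Type*} [Group X] [Finite X] {p : ℕ} [Fact p.Prime] {n : ℕ} (hexp : ExpLE p n X) (g : X)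
    (hg : ∃ k : ℕ, g ^ p ^ k = 1) : g ^ p ^ n = 1 := by
  obtain ⟨k, hk⟩ := hg
  have hz : IsPGroup p ↥(zpowers g) := by
    rw [IsPGroup.iff_card, Nat.card_zpowers]
    exact (Nat.dvd_prime_pow Fact.out).mp (orderOf_dvd_of_pow_eq_one hk) |>.imp fun m hm => hm.2
  obtain ⟨P, hP⟩ := hz.exists_le_sylow
  exact hexp P g (hP (mem_zpowers g))

/-- E2. -/
theorem STEP2 {X : Type u} [Group X] [Finite X] {p : ℕ} [Fact p.Prime] (hp2 : p ≠ 2) (hsol : Cfsg.IsPSolvable p X)
    (hO : Cfsg.pPrimeCore p X = ⊥) {n : ℕ} (hexp : ExpLE p (n + 1) X) (P : Sylow p X) (x : X)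
    (hx : x ∈ (P : Subgroup X)) :
    QuotientGroup.mk' (Cfsg.pCore p X) (x ^ p ^ n) ∈ Cfsg.pPrimePCore p (X ⧸ Cfsg.pCore p X) := by
  classical
  by_cases hX : Nontrivial X
  · obtain ⟨V, iA, iM, iF, iN, π, ρb, D⟩ := FRAT p hsol hO
    have hfs : Function.Surjective (QuotientGroup.mk' (Cfsg.pCore p X)) := QuotientGroup.mk'_surjective _
    have iFD : FiniteDimensional (ZMod p) V := Module.Finite.of_finite
    set T : Sylow p (X ⧸ Cfsg.pCore p X) := P.mapSurjective hfs with hT
    have hTmem : ∀ w, w ∈ (T : Subgroup (X ⧸ Cfsg.pCore p X)) ↔ ∃ x' ∈ (P : Subgroup X),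
        QuotientGroup.mk' (Cfsg.pCore p X) x' = w := by
      intro w
      rw [hT, Sylow.coe_mapSurjective]
      exact Subgroup.mem_map
    have hK : KSet ρb p (T : Subgroup (X ⧸ Cfsg.pCore p X)) (n + 1) :=
      { inj := D.inj
        p_odd := hp2
        sol := Cfsg.Agent.Lead.isPSolvable_quotient hsol _
        core := Cfsg.Agent.Helper21.ExpSix.pCore_quotient_pCore_eq_bot p
        one_le := by omega
        exp := by
          intro w hw
          obtain ⟨x', hx', rfl⟩ := (hTmem w).mp hw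
          rw [← map_pow, hexp P x' hx', map_one]
        exc := by
          intro w hw hwn
          obtain ⟨x', hx', rfl⟩ := (hTmem w).mp hw
          by_contra hne
          have hx1 : x' ^ p ^ (n + 1) ∈ Cfsg.pCore p X := by
            rw [hexp P x' hx']; exact one_mem _
          obtain ⟨g, hg, hgne⟩ := LIFT D x' (n + 1) hx1 hne
          exact hgne (STEP2_aux_pow hexp g hg) }
    have := K_main hK (QuotientGroup.mk' (Cfsg.pCore p X) x) ((hTmem _).mpr ⟨x, hx, rfl⟩)
    rw [Nat.add_sub_cancel, ← map_pow] at this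
    exact this
  · rw [not_nontrivial_iff_subsingleton] at hX
    have : x ^ p ^ n = 1 := Subsingleton.elim _ _
    rw [this, map_one]
    exact one_mem _

end Cfsg.Agent.S3786P
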