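import Cfsg.Agent.Helper11.S3786Defs
import Cfsg.Agent.Helper10.S3786That_le
import Cfsg.Agent.Helper23.S3786LYapply
import Cfsg.Agent.Helper11.S3786That_commcore

/-! # S3786, row `That_comm`: `T̂` is abelian -/

set_option autoImplicit false

namespace Cfsg.Agent.S3786P

open Subgroup

universe u

section K

variable {F : Type*} [Field F] {p : ℕ} [Fact p.Prime] [CharP F p] {V : Type*} [AddCommGroup V] [Module F V]
  [FiniteDimensional F V] [Nontrivial V] {H : Type u} [Group H] [Finite H] {ρ₀ : Representation F H V}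
  {T : Sylow p H} {n : ℕ}

/-- K7. `T̂` is abelian. -/
theorem That_comm (S : KSet ρ₀ p (T : Subgroup H) n) :
    ∀ a ∈ That (T : Subgroup H) p n, ∀ b ∈ That (T : Subgroup H) p n, a * b = b * a := by
  obtain ⟨hThT, hTn⟩ := That_le (T : Subgroup H) p n
  refine That_comm_aux_core (T : Subgroup H) (That (T : Subgroup H) p n) T.isPGroup'
    {z | ∃ w ∈ (T : Subgroup H), orderOf w = p ^ n ∧ z = w ^ p ^ (n - 1)} rfl hThT hTn ?_
  rintro z ⟨w, hw, hwn, rfl⟩ B hB hBc hTB b hb
  exact LY_apply S hw hwn B hB hBc (hTB hw) b hb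

end K

end Cfsg.Agent.S3786P
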