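import Cfsg.Agent.Helper11.S3818Fld

/-! # S3818 (Flavell, Theorem A), core of row A4: a commutative algebra `R` acting faithfully on an irreducible
`G`-module `V` and normalised by `G` is a field, or `V` is imprimitive. -/

set_option autoImplicit false

namespace Cfsg.Agent.S3818P

open Module

universe u v w

section abs

variable {k : Type v} [Field k] {V : Type w} [AddCommGroup V] [Module k V]
variable {R : Type*} [CommRing R] [Algebra k R] (φ : R →ₐ[k] Module.End k V)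

/-- the subspace killed by an ideal -/
def A4_aux_Vof (I : Ideal R) : Submodule k V := ⨅ r ∈ I, LinearMap.ker (φ r)

theorem A4_aux_mem_Vof {I : Ideal R} {v : V} : v ∈ A4_aux_Vof φ I ↔ ∀ r ∈ I, φ r v = 0 := by
  simp [A4_aux_Vof, Submodule.mem_iInf]

/-- the annihilator of a subspace -/
def A4_aux_Ann (T : Submodule k V) : Ideal R where
  carrier := {r | ∀ v ∈ T, φ r v = 0}
  add_mem' := by
    intro a b ha hb v hv
    rw [map_add, LinearMap.add_apply, ha v hv, hb v hv, add_zero]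
  zero_mem' := by
    intro v _
    rw [map_zero, LinearMap.zero_apply]
  smul_mem' := by
    intro c r hr v hv
    show φ (c • r) v = 0
    rw [smul_eq_mul, map_mul, Module.End.mul_apply, hr v hv, map_zero]

theorem A4_aux_mem_Ann {T : Submodule k V} {r : R} : r ∈ A4_aux_Ann φ T ↔ ∀ v ∈ T, φ r v = 0 := Iff.rfl

/-- the annihilator of a vector -/
def A4_aux_annElt (v : V) : Ideal R where
  carrier := {r | φ r v = 0}
  add_mem' := by
    intro a b ha hb
    show φ (a + b) v = 0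
    rw [map_add, LinearMap.add_apply, ha, hb, add_zero]
  zero_mem' := by
    show φ 0 v = 0
    rw [map_zero, LinearMap.zero_apply]
  smul_mem' := by
    intro c r hr
    show φ (c • r) v = 0
    rw [smul_eq_mul, map_mul, Module.End.mul_apply, hr, map_zero]

theorem A4_aux_mem_annElt {v : V} {r : R} : r ∈ A4_aux_annElt φ v ↔ φ r v = 0 := Iff.rfl

/-- distinct maximal ideals kill independent subspaces -/
theorem A4_aux_indep {ι : Type*} [Finite ι] (𝔪 : ι → Ideal R) (hmax : ∀ i, (𝔪 i).IsMaximal)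
    (hinj : Function.Injective 𝔪) : iSupIndep (fun i => A4_aux_Vof φ (𝔪 i)) := by
  classical
  have := Fintype.ofFinite ι
  rw [iSupIndep_def]
  intro i
  rw [Submodule.disjoint_def]
  intro x hx1 hx2
  have htop : 𝔪 i ⊔ ⨅ j ∈ Finset.univ.erase i, 𝔪 j = ⊤ :=
    Ideal.sup_iInf_eq_top (fun j hj => (hmax i).coprime_of_ne (hmax j)
      (fun h => (Finset.ne_of_mem_erase hj) (hinj h).symm))
  have h1 : (1 : R) ∈ 𝔪 i ⊔ ⨅ j ∈ Finset.univ.erase i, 𝔪 j := by rw [htop]; trivial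
  obtain ⟨a, ha, b, hb, hab⟩ := Submodule.mem_sup.mp h1
  have hax : φ a x = 0 := (A4_aux_mem_Vof φ).mp hx1 a ha
  have hbx : φ b x = 0 := by
    have hle : (⨆ j, ⨆ (_ : j ≠ i), A4_aux_Vof φ (𝔪 j)) ≤ LinearMap.ker (φ b) := by
      refine iSup₂_le fun j hj => ?_
      intro y hy
      rw [LinearMap.mem_ker]
      have hbj : b ∈ 𝔪 j := by
        have h2 := (Submodule.mem_iInf _).mp hb j
        exact (Submodule.mem_iInf _).mp h2 (Finset.mem_erase.mpr ⟨hj, Finset.mem_univ j⟩)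
      exact (A4_aux_mem_Vof φ).mp hy b hbj
    exact LinearMap.mem_ker.mp (hle hx2)
  calc x = φ 1 x := by rw [map_one, Module.End.one_apply]
    _ = φ (a + b) x := by rw [hab]
    _ = 0 := by rw [map_add, LinearMap.add_apply, hax, hbx, add_zero]

/-- some maximal ideal kills a nonzero vector -/
theorem A4_aux_exists_max [FiniteDimensional k V] [Nontrivial V] :
    ∃ 𝔪 : Ideal R, 𝔪.IsMaximal ∧ A4_aux_Vof φ 𝔪 ≠ ⊥ := by
  classical
  -- a nonzero invariant subspace of minimal dimension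
  let P : ℕ → Prop := fun n => ∃ T : Submodule k V, T ≠ ⊥ ∧ (∀ r : R, ∀ v ∈ T, φ r v ∈ T) ∧ finrank k T = n
  have hP : ∃ n, P n := ⟨finrank k (⊤ : Submodule k V), ⊤, top_ne_bot, fun _ _ _ => Submodule.mem_top, rfl⟩
  obtain ⟨S₀, hS0, hSinv, hSrank⟩ := Nat.find_spec hP
  have hmin : ∀ T : Submodule k V, T ≠ ⊥ → (∀ r : R, ∀ v ∈ T, φ r v ∈ T) → finrank k S₀ ≤ finrank k T := by
    intro T h1 h2
    rw [hSrank]
    exact Nat.find_min' hP ⟨T, h1, h2, rfl⟩
  obtain ⟨v, hvS, hv0⟩ := Submodule.exists_mem_ne_zero_of_ne_bot hS0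
  refine ⟨A4_aux_annElt φ v, ?_, ?_⟩
  · rw [Ideal.isMaximal_iff]
    refine ⟨?_, ?_⟩
    · intro h
      rw [A4_aux_mem_annElt, map_one, Module.End.one_apply] at h
      exact hv0 h
    · intro J x hJ hx hxJ
      rw [A4_aux_mem_annElt] at hx
      set w : V := φ x v with hw
      -- the cyclic subspace generated by `w`
      let ev : R →ₗ[k] V :=
        { toFun := fun r => φ r w
          map_add' := fun a b => by rw [map_add, LinearMap.add_apply]
          map_smul' := fun c a => by rw [map_smul, LinearMap.smul_apply, RingHom.id_apply] }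
      have hev : ∀ r, ev r = φ r w := fun r => rfl
      have hT0 : LinearMap.range ev ≠ ⊥ := by
        intro h
        have h1 : ev 1 ∈ LinearMap.range ev := LinearMap.mem_range_self ev 1
        rw [h, Submodule.mem_bot, hev, map_one, Module.End.one_apply] at h1
        exact hx h1
      have hTinv : ∀ r : R, ∀ y ∈ LinearMap.range ev, φ r y ∈ LinearMap.range ev := by
        rintro r _ ⟨a, rfl⟩
        refine ⟨r * a, ?_⟩
        rw [hev, hev, map_mul, Module.End.mul_apply]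
      have hTle : LinearMap.range ev ≤ S₀ := by
        rintro _ ⟨a, rfl⟩
        rw [hev]
        exact hSinv a _ (hSinv x v hvS)
      have hTeq : LinearMap.range ev = S₀ :=
        Submodule.eq_of_le_of_finrank_le hTle (hmin _ hT0 hTinv)
      have hvT : v ∈ LinearMap.range ev := hTeq ▸ hvS
      obtain ⟨r, hr⟩ := hvT
      rw [hev, hw] at hr
      -- `(1 - r x) v = 0`
      have h1 : 1 - r * x ∈ A4_aux_annElt φ v := by
        rw [A4_aux_mem_annElt, map_sub, map_one, map_mul, LinearMap.sub_apply, Module.End.one_apply,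
          Module.End.mul_apply, hr, sub_self]
      have h2 : r * x ∈ J := J.mul_mem_left r hxJ
      have h3 : (1 - r * x) + r * x ∈ J := J.add_mem (hJ h1) h2
      rwa [sub_add_cancel] at h3
  · intro h
    have : v ∈ A4_aux_Vof φ (A4_aux_annElt φ v) := (A4_aux_mem_Vof φ).mpr fun r hr => hr
    rw [h, Submodule.mem_bot] at this
    exact hv0 this

end abs

section conj

variable {k : Type v} [Field k] {V : Type w} [AddCommGroup V] [Module k V]
variable {R : Type*} [CommRing R] [Algebra k R] (φ : R →ₐ[k] Module.End k V)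
variable {G : Type u} [Group G] (ρ : Representation k G V)

theorem A4_aux_rho_inv_apply (g : G) (v : V) : ρ g⁻¹ (ρ g v) = v := by
  rw [← Module.End.mul_apply, ← map_mul, inv_mul_cancel, map_one, Module.End.one_apply]

theorem A4_aux_rho_apply_inv (g : G) (v : V) : ρ g (ρ g⁻¹ v) = v := by
  rw [← Module.End.mul_apply, ← map_mul, mul_inv_cancel, map_one, Module.End.one_apply]

theorem A4_aux_rho_inj (g : G) : Function.Injective (ρ g) := fun a b h => by
  have := congrArg (ρ g⁻¹) h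
  rwa [A4_aux_rho_inv_apply, A4_aux_rho_inv_apply] at this

theorem A4_aux_map_mul (g h : G) (T : Submodule k V) : (T.map (ρ h)).map (ρ g) = T.map (ρ (g * h)) := by
  rw [map_mul, Module.End.mul_eq_comp, Submodule.map_comp]

theorem A4_aux_map_one (T : Submodule k V) : T.map (ρ 1) = T := by
  rw [map_one]
  exact Submodule.map_id T

/-- `r'` is the conjugate of `r` under `g`: `φ r' = ρ g ∘ φ r ∘ ρ g⁻¹` -/
def A4_aux_Cj (g : G) (r r' : R) : Prop := ∀ v, φ r' (ρ g v) = ρ g (φ r v)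

variable {φ ρ}

theorem A4_aux_Cj_unique (hφ : Function.Injective φ) {g : G} {r a b : R} (ha : A4_aux_Cj φ ρ g r a)
    (hb : A4_aux_Cj φ ρ g r b) : a = b := by
  apply hφ
  ext v
  have h1 := ha (ρ g⁻¹ v)
  have h2 := hb (ρ g⁻¹ v)
  rw [A4_aux_rho_apply_inv] at h1 h2
  rw [h1, h2]

theorem A4_aux_Cj_one (g : G) : A4_aux_Cj φ ρ g 1 1 := by
  intro v
  rw [map_one, Module.End.one_apply, Module.End.one_apply]

theorem A4_aux_Cj_add {g : G} {a a' b b' : R} (ha : A4_aux_Cj φ ρ g a a') (hb : A4_aux_Cj φ ρ g b b') :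
    A4_aux_Cj φ ρ g (a + b) (a' + b') := by
  intro v
  rw [map_add, map_add, LinearMap.add_apply, LinearMap.add_apply, ha v, hb v, map_add]

theorem A4_aux_Cj_mul {g : G} {a a' b b' : R} (ha : A4_aux_Cj φ ρ g a a') (hb : A4_aux_Cj φ ρ g b b') :
    A4_aux_Cj φ ρ g (a * b) (a' * b') := by
  intro v
  rw [map_mul, map_mul, Module.End.mul_apply, Module.End.mul_apply, hb v, ha]

theorem A4_aux_Cj_symm {g : G} {r r' : R} (h : A4_aux_Cj φ ρ g⁻¹ r' r) : A4_aux_Cj φ ρ g r r' := by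
  intro v
  have h1 := h (ρ g v)
  rw [A4_aux_rho_inv_apply] at h1
  rw [h1, A4_aux_rho_apply_inv]

theorem A4_aux_Cj_exists_pre (hnorm : ∀ (g : G) (r : R), ∃ r', A4_aux_Cj φ ρ g r r') (g : G) (r' : R) :
    ∃ r, A4_aux_Cj φ ρ g r r' := by
  obtain ⟨r, hr⟩ := hnorm g⁻¹ r'
  exact ⟨r, A4_aux_Cj_symm hr⟩

theorem A4_aux_Cj_Ann {g : G} {r r' : R} (h : A4_aux_Cj φ ρ g r r') (T : Submodule k V) :
    r' ∈ A4_aux_Ann φ (T.map (ρ g)) ↔ r ∈ A4_aux_Ann φ T := by
  rw [A4_aux_mem_Ann, A4_aux_mem_Ann]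
  constructor
  · intro h1 v hv
    have h2 := h1 (ρ g v) (Submodule.mem_map_of_mem hv)
    rw [h v] at h2
    exact A4_aux_rho_inj ρ g (by rw [h2, map_zero])
  · rintro h1 _ ⟨v, hv, rfl⟩
    rw [h v, h1 v hv, map_zero]

/-- the annihilator of `V[𝔪₀]` is `𝔪₀` -/
theorem A4_aux_Ann_Vof {𝔪₀ : Ideal R} (hmax : 𝔪₀.IsMaximal) (hne : A4_aux_Vof φ 𝔪₀ ≠ ⊥) :
    A4_aux_Ann φ (A4_aux_Vof φ 𝔪₀) = 𝔪₀ := by
  symm
  refine hmax.eq_of_le ?_ ?_
  · intro h
    have h1 : (1 : R) ∈ A4_aux_Ann φ (A4_aux_Vof φ 𝔪₀) := by rw [h]; trivial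
    apply hne
    rw [eq_bot_iff]
    intro v hv
    have := (A4_aux_mem_Ann φ).mp h1 v hv
    rwa [map_one, Module.End.one_apply] at this
  · intro r hr v hv
    exact (A4_aux_mem_Vof φ).mp hv r hr

/-- conjugating `V[𝔪₀]` by `g`: the annihilator is again maximal and recovers the subspace -/
theorem A4_aux_conj_max (hφ : Function.Injective φ) (hnorm : ∀ (g : G) (r : R), ∃ r', A4_aux_Cj φ ρ g r r')
    {𝔪₀ : Ideal R} (hmax : 𝔪₀.IsMaximal) (hne : A4_aux_Vof φ 𝔪₀ ≠ ⊥) (g : G) :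
    (A4_aux_Ann φ ((A4_aux_Vof φ 𝔪₀).map (ρ g))).IsMaximal ∧
      A4_aux_Vof φ (A4_aux_Ann φ ((A4_aux_Vof φ 𝔪₀).map (ρ g))) = (A4_aux_Vof φ 𝔪₀).map (ρ g) := by
  have hAnn := A4_aux_Ann_Vof hmax hne
  constructor
  · rw [Ideal.isMaximal_iff]
    constructor
    · intro h
      rw [A4_aux_Cj_Ann (A4_aux_Cj_one g), hAnn] at h
      exact (Ideal.isMaximal_iff.mp hmax).1 h
    · intro J x hJ hx hxJ
      obtain ⟨x₀, hx₀⟩ := A4_aux_Cj_exists_pre hnorm g x
      rw [A4_aux_Cj_Ann hx₀, hAnn] at hx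
      obtain ⟨y₀, m₀, hm₀, hym⟩ := hmax.exists_inv hx
      obtain ⟨y, hy⟩ := hnorm g y₀
      obtain ⟨m, hm⟩ := hnorm g m₀
      have h1 : A4_aux_Cj φ ρ g (y₀ * x₀ + m₀) (y * x + m) := A4_aux_Cj_add (A4_aux_Cj_mul hy hx₀) hm
      rw [hym] at h1
      have h2 : y * x + m = 1 := A4_aux_Cj_unique hφ h1 (A4_aux_Cj_one g)
      have hmJ : m ∈ J := hJ ((A4_aux_Cj_Ann hm _).mpr (by rw [hAnn]; exact hm₀))
      rw [← h2]
      exact J.add_mem (J.mul_mem_left y hxJ) hmJ
  · apply le_antisymm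
    · intro v hv
      have hv' : ρ g⁻¹ v ∈ A4_aux_Vof φ 𝔪₀ := by
        rw [A4_aux_mem_Vof]
        intro m₀ hm₀
        obtain ⟨m, hm⟩ := hnorm g m₀
        have hmA : m ∈ A4_aux_Ann φ ((A4_aux_Vof φ 𝔪₀).map (ρ g)) := (A4_aux_Cj_Ann hm _).mpr (by rw [hAnn]; exact hm₀)
        have h1 := (A4_aux_mem_Vof φ).mp hv m hmA
        have h2 := hm (ρ g⁻¹ v)
        rw [A4_aux_rho_apply_inv, h1] at h2
        exact A4_aux_rho_inj ρ g (by rw [← h2, map_zero])
      have : ρ g (ρ g⁻¹ v) ∈ (A4_aux_Vof φ 𝔪₀).map (ρ g) := Submodule.mem_map_of_mem hv'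
      rwa [A4_aux_rho_apply_inv] at this
    · intro v hv
      rw [A4_aux_mem_Vof]
      intro r hr
      exact (A4_aux_mem_Ann φ).mp hr v hv

end conj

end Cfsg.Agent.S3818P
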