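import Cfsg.Agent.Helper26.S3818Defs

/-! # S3818 (Flavell, Theorem A): commutative subalgebras of `End V` which are fields; irreducibility unfolded -/

set_option autoImplicit false

namespace Cfsg.Agent.S3818P

open Module

universe u v w

/-- irreducibility, unfolded: `V ≠ 0` and every invariant subspace is `⊥` or `⊤` -/
theorem Fld_aux_irr_iff {G : Type u} [Monoid G] {k : Type v} [Field k] {V : Type w} [AddCommGroup V] [Module k V]
    (ρ : Representation k G V) :
    ρ.IsIrreducible ↔ Nontrivial V ∧ ∀ W : Submodule k V, (∀ g, ∀ v ∈ W, ρ g v ∈ W) → W = ⊥ ∨ W = ⊤ := by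
  constructor
  · intro h
    refine ⟨?_, ?_⟩
    · by_contra hV
      rw [not_nontrivial_iff_subsingleton] at hV
      have : (⊥ : Subrepresentation ρ) = ⊤ :=
        Subrepresentation.toSubmodule_injective (Subsingleton.elim _ _)
      exact bot_ne_top this
    · intro W hW
      rcases eq_bot_or_eq_top (⟨W, fun g v hv => hW g v hv⟩ : Subrepresentation ρ) with h1 | h1
      · left; exact congrArg Subrepresentation.toSubmodule h1
      · right; exact congrArg Subrepresentation.toSubmodule h1
  · rintro ⟨hV, hW⟩
    refine { exists_pair_ne := ⟨⊥, ⊤, ?_⟩, eq_bot_or_eq_top := ?_ }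
    · intro h
      have h1 : (⊥ : Submodule k V) = ⊤ := congrArg Subrepresentation.toSubmodule h
      exact bot_ne_top h1
    · intro σ
      rcases hW σ.toSubmodule (fun g v hv => σ.apply_mem_toSubmodule g hv) with h1 | h1
      · left; exact Subrepresentation.toSubmodule_injective h1
      · right; exact Subrepresentation.toSubmodule_injective h1

theorem Fld_aux_nontrivial {G : Type u} [Monoid G] {k : Type v} [Field k] {V : Type w} [AddCommGroup V] [Module k V]
    (ρ : Representation k G V) [h : ρ.IsIrreducible] : Nontrivial V := ((Fld_aux_irr_iff ρ).mp h).1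

theorem Fld_aux_invariant {G : Type u} [Monoid G] {k : Type v} [Field k] {V : Type w} [AddCommGroup V] [Module k V]
    (ρ : Representation k G V) [h : ρ.IsIrreducible] (W : Submodule k V) (hW : ∀ g, ∀ v ∈ W, ρ g v ∈ W) :
    W = ⊥ ∨ W = ⊤ := ((Fld_aux_irr_iff ρ).mp h).2 W hW

/-- Schur: an endomorphism commuting with an irreducible representation is `0` or injective -/
theorem Fld_aux_schur {G : Type u} [Monoid G] {k : Type v} [Field k] {V : Type w} [AddCommGroup V] [Module k V]
    (ρ : Representation k G V) [ρ.IsIrreducible] (b : Module.End k V) (hb : ∀ g, b * ρ g = ρ g * b) (h0 : b ≠ 0) :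
    Function.Injective b := by
  rcases Fld_aux_invariant ρ (LinearMap.ker b) (fun g v hv => by
      rw [LinearMap.mem_ker] at hv ⊢
      have := LinearMap.congr_fun (hb g) v
      rw [Module.End.mul_apply, Module.End.mul_apply, hv, map_zero] at this
      exact this) with h | h
  · exact LinearMap.ker_eq_bot.mp h
  · exact absurd (LinearMap.ker_eq_top.mp h) h0

/-- a commutative subalgebra of `End V` all of whose nonzero elements are injective is a field -/
theorem Fld_aux_isField {k : Type v} [Field k] {V : Type w} [AddCommGroup V] [Module k V] [FiniteDimensional k V]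
    [Nontrivial V] (B : Subalgebra k (Module.End k V)) (hcomm : ∀ a ∈ B, ∀ b ∈ B, a * b = b * a)
    (hinj : ∀ b ∈ B, b ≠ 0 → Function.Injective b) : IsField ↥B := by
  refine { exists_pair_ne := ⟨0, 1, ?_⟩, mul_comm := ?_, mul_inv_cancel := ?_ }
  · intro h
    have h1 : (0 : Module.End k V) = 1 := congrArg Subtype.val h
    exact zero_ne_one h1
  · intro a b
    exact Subtype.ext (hcomm a a.2 b b.2)
  · intro a ha
    have ha0 : (a : Module.End k V) ≠ 0 := fun h => ha (Subtype.ext h)
    have hai := hinj a a.2 ha0
    -- multiplication by `a` on `B` is injective, hence surjective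
    let m : ↥B →ₗ[k] ↥B :=
      { toFun := fun c => a * c
        map_add' := fun c d => mul_add a c d
        map_smul' := fun r c => by simp }
    have hm : Function.Injective m := by
      intro c d hcd
      have h1 : (a : Module.End k V) * c = a * d := congrArg Subtype.val hcd
      apply Subtype.ext
      ext v
      apply hai
      have := LinearMap.congr_fun h1 v
      simpa [Module.End.mul_apply] using this
    obtain ⟨c, hc⟩ := (LinearMap.injective_iff_surjective.mp hm) 1
    exact ⟨c, hc⟩

end Cfsg.Agent.S3818P
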