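import Mathlib
import Cfsg.Agent.Helper26.S3911Defs
import Cfsg.Agent.Helper17.S3913Defs

/-! # s3913pieces IRRa: all subgroups of `N` of the order of `W` are `Q`-invariant (helper11) -/

set_option autoImplicit false

namespace Cfsg.Agent.S3913P

open Cfsg.Agent.S3911P Cfsg.Agent.S3913P

open scoped commutatorElement

private theorem IRRa_comm {G : Type*} [Group G] (N U : Subgroup G)
    (hNab : ∀ a ∈ N, ∀ b ∈ N, a * b = b * a) (hUN : U ≤ N) : IsMulCommutative ↥U :=
  ⟨⟨fun a b => Subtype.ext (hNab a.1 (hUN a.2) b.1 (hUN b.2))⟩⟩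

/-- IRRa (S/M; hB): all subgroups of `N` of the order of `W` are `Q`-invariant. -/
theorem IRRa {G : Type*} [Group G] [Finite G] (hB : BProp G) (F Q : Subgroup G) [F.Normal]
    (hFQ : (F ⊔ Q).Normal) (N : Subgroup G) [N.Normal] (hNab : ∀ a ∈ N, ∀ b ∈ N, a * b = b * a)
    (hFN : F ≤ Subgroup.centralizer (N : Set G)) (W : Subgroup G) (hWN : W ≤ N)
    (hQW : Q ≤ Subgroup.normalizer (W : Set G)) :
    ∀ U : Subgroup G, U ≤ N → Nat.card ↥U = Nat.card ↥W → Q ≤ Subgroup.normalizer (U : Set G) := by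
  intro U hUN hcard
  obtain ⟨g, hg⟩ := hB W U (IRRa_comm N W hNab hWN) (IRRa_comm N U hNab hUN) hcard.symm
  -- F ⊔ Q normalises W
  have hFW : F ≤ Subgroup.normalizer (W : Set G) := by
    intro f hf
    rw [Subgroup.mem_normalizer_iff]
    intro w
    have hcen : ∀ w ∈ W, f * w * f⁻¹ = w := by
      intro w hw
      have := (Subgroup.mem_centralizer_iff.mp (hFN hf)) w (hWN hw)
      -- this : w * f = f * w
      rw [← this]; group
    constructor
    · intro hw; rw [hcen w hw]; exact hw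
    · intro hw
      have h2 : f⁻¹ * (f * w * f⁻¹) * f⁻¹⁻¹ = f * w * f⁻¹ := by
        have hfinv : f⁻¹ ∈ Subgroup.centralizer (N : Set G) := inv_mem (hFN hf)
        have := (Subgroup.mem_centralizer_iff.mp hfinv) _ (hWN hw)
        rw [← this]; group
      have h3 : f⁻¹ * (f * w * f⁻¹) * f⁻¹⁻¹ = w := by group
      rw [← h3, h2]; exact hw
  have hFQW : F ⊔ Q ≤ Subgroup.normalizer (W : Set G) := sup_le hFW hQW
  intro q hq
  have hq' : q ∈ F ⊔ Q := (le_sup_right : Q ≤ F ⊔ Q) hq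
  have hconj : g⁻¹ * q * g⁻¹⁻¹ ∈ F ⊔ Q := hFQ.conj_mem q hq' g⁻¹
  have hn : g⁻¹ * q * g⁻¹⁻¹ ∈ Subgroup.normalizer (W : Set G) := hFQW hconj
  rw [hg]
  have hmap := Subgroup.map_equiv_normalizer_eq W (MulAut.conj g)
  have : q ∈ (Subgroup.normalizer (W : Set G)).map (MulAut.conj g).toMonoidHom := by
    refine ⟨g⁻¹ * q * g⁻¹⁻¹, hn, ?_⟩
    simp [MulAut.conj_apply, mul_assoc]
  rw [hmap] at this
  exact this

end Cfsg.Agent.S3913P
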