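import Mathlib

/-! # s3913pieces IRRb: descent from the subgroups of order `p ^ j` to the cyclic subgroups (helper11) -/

set_option autoImplicit false

namespace Cfsg.Agent.S3913P

open Subgroup

/-- the order of the join of two elementwise commuting disjoint subgroups -/
private theorem IRRb_card_sup {G : Type*} [Group G] (H K : Subgroup G)
    (hcomm : ∀ a ∈ H, ∀ b ∈ K, a * b = b * a) (hd : Disjoint H K) :
    Nat.card ↥(H ⊔ K) = Nat.card H * Nat.card K := by
  have hc : ∀ (a : H) (b : K), Commute (H.subtype a) (K.subtype b) := fun a b =>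
    hcomm a.1 a.2 b.1 b.2
  have hinj : Function.Injective (MonoidHom.noncommCoprod H.subtype K.subtype hc) := by
    rw [MonoidHom.noncommCoprod_injective]
    refine ⟨subtype_injective H, subtype_injective K, ?_⟩
    rw [range_subtype, range_subtype]
    exact hd
  have hr : (MonoidHom.noncommCoprod H.subtype K.subtype hc).range = H ⊔ K := by
    rw [MonoidHom.noncommCoprod_range, range_subtype, range_subtype]
  rw [← hr, ← Nat.card_prod]
  exact (Nat.card_congr (MonoidHom.ofInjective hinj).toEquiv).symm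

/-- adjoining an element of order `p` outside `U` multiplies the order by `p` -/
private theorem IRRb_adjoin {G : Type*} [Group G] [Finite G] (N : Subgroup G) (p : ℕ) [Fact p.Prime]
    (hNab : ∀ a ∈ N, ∀ b ∈ N, a * b = b * a) (hNp : ∀ v ∈ N, v ^ p = 1)
    (U : Subgroup G) (hUN : U ≤ N) (v : G) (hvN : v ∈ N) (hvU : v ∉ U) :
    Nat.card ↥(U ⊔ zpowers v) = Nat.card ↥U * p ∧ U ⊔ zpowers v ≤ N := by
  have hp : p.Prime := Fact.out
  have hzN : zpowers v ≤ N := zpowers_le.mpr hvN
  have hv1 : v ≠ 1 := fun h => hvU (h ▸ U.one_mem)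
  have hord : orderOf v = p := by
    have hdvd : orderOf v ∣ p := orderOf_dvd_of_pow_eq_one (hNp v hvN)
    rcases (Nat.dvd_prime hp).mp hdvd with h | h
    · exact absurd (orderOf_eq_one_iff.mp h) hv1
    · exact h
  have hcard : Nat.card ↥(zpowers v) = p := by rw [Nat.card_zpowers, hord]
  have hd : Disjoint U (zpowers v) := by
    rw [Subgroup.disjoint_def]
    intro g hgU hgz
    by_contra hg1
    obtain ⟨k, hk⟩ := mem_zpowers_iff.mp hgz
    have hndvd : ¬ (p : ℤ) ∣ k := by
      intro hdvd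
      obtain ⟨c, hc⟩ := hdvd
      apply hg1
      rw [← hk, hc, zpow_mul, zpow_natCast, hNp v hvN, one_zpow]
    have hcop : IsCoprime k (p : ℤ) := by
      have := (Nat.prime_iff_prime_int.mp hp)
      exact ((Prime.coprime_iff_not_dvd this).mpr hndvd).symm
    obtain ⟨a, b, hab⟩ := hcop
    apply hvU
    have : v = g ^ a := by
      calc v = v ^ (1 : ℤ) := (zpow_one v).symm
        _ = v ^ (a * k + b * p) := by rw [hab]
        _ = v ^ (a * k) * v ^ (b * (p : ℤ)) := zpow_add v _ _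
        _ = (v ^ k) ^ a * ((v ^ (p : ℤ)) ^ b) := by
            rw [mul_comm a k, zpow_mul, mul_comm b (p : ℤ), zpow_mul]
        _ = g ^ a := by rw [hk, zpow_natCast, hNp v hvN, one_zpow, mul_one]
    rw [this]
    exact U.zpow_mem hgU a
  refine ⟨?_, sup_le hUN hzN⟩
  rw [IRRb_card_sup U (zpowers v) (fun a ha b hb => hNab a (hUN ha) b (hzN hb)) hd, hcard]

/-- a proper subgroup misses an element -/
private theorem IRRb_exists_not_mem {G : Type*} [Group G] [Finite G] (N U : Subgroup G)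
    (hlt : Nat.card ↥U < Nat.card ↥N) : ∃ u ∈ N, u ∉ U := by
  by_contra h
  have hle : N ≤ U := fun u hu => by_contra (fun hn => h ⟨u, hu, hn⟩)
  exact absurd (Subgroup.card_le_of_le hle) (not_le.mpr hlt)

/-- one descent step -/
private theorem IRRb_step {G : Type*} [Group G] [Finite G] (N Q : Subgroup G) (p : ℕ) [Fact p.Prime]
    (hNab : ∀ a ∈ N, ∀ b ∈ N, a * b = b * a) (hNp : ∀ v ∈ N, v ^ p = 1) (j : ℕ)
    (hlt : p ^ (j + 1) < Nat.card ↥N)
    (hall : ∀ U : Subgroup G, U ≤ N → Nat.card ↥U = p ^ (j + 1) →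
      Q ≤ Subgroup.normalizer (U : Set G)) :
    ∀ Y : Subgroup G, Y ≤ N → Nat.card ↥Y = p ^ j → Q ≤ Subgroup.normalizer (Y : Set G) := by
  have hp : p.Prime := Fact.out
  intro Y hYN hYc
  have hlt0 : Nat.card ↥Y < Nat.card ↥N := by
    rw [hYc]
    exact lt_of_le_of_lt (Nat.pow_le_pow_right hp.pos (Nat.le_succ j)) hlt
  obtain ⟨u, huN, huY⟩ := IRRb_exists_not_mem N Y hlt0
  obtain ⟨hc1, hY1N⟩ := IRRb_adjoin N p hNab hNp Y hYN u huN huY
  have hc1' : Nat.card ↥(Y ⊔ zpowers u) = p ^ (j + 1) := by rw [hc1, hYc, pow_succ]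
  obtain ⟨v, hvN, hvY1⟩ := IRRb_exists_not_mem N (Y ⊔ zpowers u) (by rw [hc1']; exact hlt)
  have hvY : v ∉ Y := fun h => hvY1 ((le_sup_left : Y ≤ Y ⊔ zpowers u) h)
  obtain ⟨hc2, hY2N⟩ := IRRb_adjoin N p hNab hNp Y hYN v hvN hvY
  have hc2' : Nat.card ↥(Y ⊔ zpowers v) = p ^ (j + 1) := by rw [hc2, hYc, pow_succ]
  have hQ1 := hall _ hY1N hc1'
  have hQ2 := hall _ hY2N hc2'
  -- the intersection is `Y`
  have hinf : (Y ⊔ zpowers u) ⊓ (Y ⊔ zpowers v) = Y := by
    set K := (Y ⊔ zpowers u) ⊓ (Y ⊔ zpowers v) with hK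
    have hYK : Y ≤ K := le_inf le_sup_left le_sup_left
    have hKY1 : K ≤ Y ⊔ zpowers u := inf_le_left
    have hd1 : Nat.card ↥Y ∣ Nat.card ↥K := Subgroup.card_dvd_of_le hYK
    have hd2 : Nat.card ↥K ∣ Nat.card ↥(Y ⊔ zpowers u) := Subgroup.card_dvd_of_le hKY1
    rw [hc1'] at hd2
    obtain ⟨i, hi, hKi⟩ := (Nat.dvd_prime_pow hp).mp hd2
    rw [hYc, hKi] at hd1
    have hji : j ≤ i := (Nat.pow_dvd_pow_iff_le_right hp.one_lt).mp hd1
    rcases Nat.lt_or_ge i (j + 1) with hlt' | hge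
    · have hij : i = j := le_antisymm (Nat.lt_succ_iff.mp hlt') hji
      symm
      apply Subgroup.eq_of_le_of_card_ge hYK
      rw [hKi, hij, hYc]
    · exfalso
      have hij : i = j + 1 := le_antisymm hi hge
      have hKeq : K = Y ⊔ zpowers u := by
        apply Subgroup.eq_of_le_of_card_ge hKY1
        rw [hKi, hij, hc1']
      have h12 : Y ⊔ zpowers u ≤ Y ⊔ zpowers v := by
        rw [← hKeq]; exact inf_le_right
      have h12' : Y ⊔ zpowers u = Y ⊔ zpowers v := by
        apply Subgroup.eq_of_le_of_card_ge h12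
        rw [hc1', hc2']
      apply hvY1
      rw [h12']
      exact (le_sup_right : zpowers v ≤ Y ⊔ zpowers v) (mem_zpowers v)
  intro a ha
  have h1 := hQ1 ha
  have h2 := hQ2 ha
  rw [mem_normalizer_iff] at h1 h2 ⊢
  intro h
  rw [← hinf, Subgroup.mem_inf, Subgroup.mem_inf, h1 h, h2 h]

/-- IRRb (M/L): descent: if all subgroups of order `p ^ j` of the elementary abelian group `N` (`1 ≤ j`, `p ^ j < |N|`)
are `Q`-invariant, all cyclic subgroups of `N` are `Q`-invariant. -/
theorem IRRb {G : Type*} [Group G] [Finite G] (N Q : Subgroup G) (p : ℕ) [Fact p.Prime]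
    (hNab : ∀ a ∈ N, ∀ b ∈ N, a * b = b * a) (hNp : ∀ v ∈ N, v ^ p = 1) (j : ℕ) (hj : 1 ≤ j)
    (hlt : p ^ j < Nat.card ↥N)
    (hall : ∀ U : Subgroup G, U ≤ N → Nat.card ↥U = p ^ j → Q ≤ Subgroup.normalizer (U : Set G)) :
    ∀ x ∈ N, ∀ a ∈ Q, a * x * a⁻¹ ∈ Subgroup.zpowers x := by
  have hp : p.Prime := Fact.out
  -- descend to `j = 1`
  have hone : ∀ U : Subgroup G, U ≤ N → Nat.card ↥U = p ^ 1 →
      Q ≤ Subgroup.normalizer (U : Set G) := by
    revert hlt hall
    induction j, hj using Nat.le_induction with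
    | base => intro _ hall; exact hall
    | succ j hj ih =>
      intro hlt hall
      apply ih
      · exact lt_of_le_of_lt (Nat.pow_le_pow_right hp.pos (Nat.le_succ j)) hlt
      · exact IRRb_step N Q p hNab hNp j hlt hall
  intro x hxN a ha
  by_cases hx1 : x = 1
  · subst hx1
    simp
  · have hord : orderOf x = p := by
      have hdvd : orderOf x ∣ p := orderOf_dvd_of_pow_eq_one (hNp x hxN)
      rcases (Nat.dvd_prime hp).mp hdvd with h | h
      · exact absurd (orderOf_eq_one_iff.mp h) hx1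
      · exact h
    have hcard : Nat.card ↥(zpowers x) = p ^ 1 := by rw [Nat.card_zpowers, hord, pow_one]
    have hn := hone (zpowers x) (zpowers_le.mpr hxN) hcard ha
    rw [mem_normalizer_iff] at hn
    exact (hn x).mp (mem_zpowers x)

end Cfsg.Agent.S3913P
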