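import Mathlib

/-! # s3913pieces IRRc: two elements normalising `⟨x⟩` have a commutator centralising `x` (helper11) -/

set_option autoImplicit false

namespace Cfsg.Agent.S3913P

open scoped commutatorElement

/-- IRRc (S): two elements normalising `⟨x⟩` have a commutator centralising `x`. -/
theorem IRRc {G : Type*} [Group G] [Finite G] (x a b : G) (ha : a * x * a⁻¹ ∈ Subgroup.zpowers x)
    (hb : b * x * b⁻¹ ∈ Subgroup.zpowers x) : ⁅a, b⁆ * x = x * ⁅a, b⁆ := by
  obtain ⟨i, hi⟩ := Subgroup.mem_zpowers_iff.mp ha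
  obtain ⟨j, hj⟩ := Subgroup.mem_zpowers_iff.mp hb
  have hai : ∀ k : ℤ, a * x ^ k * a⁻¹ = x ^ (i * k) := by
    intro k
    rw [← conj_zpow, ← hi, ← zpow_mul]
  have hbj : ∀ k : ℤ, b * x ^ k * b⁻¹ = x ^ (j * k) := by
    intro k
    rw [← conj_zpow, ← hj, ← zpow_mul]
  have h1 : (a * b) * x * (a * b)⁻¹ = x ^ (i * j) := by
    calc (a * b) * x * (a * b)⁻¹ = a * (b * x * b⁻¹) * a⁻¹ := by group
      _ = a * x ^ j * a⁻¹ := by rw [← hj]
      _ = x ^ (i * j) := hai j
  have h2 : (b * a) * x * (b * a)⁻¹ = x ^ (i * j) := by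
    calc (b * a) * x * (b * a)⁻¹ = b * (a * x * a⁻¹) * b⁻¹ := by group
      _ = b * x ^ i * b⁻¹ := by rw [← hi]
      _ = x ^ (j * i) := hbj i
      _ = x ^ (i * j) := by rw [mul_comm]
  have hcw : ⁅a, b⁆ * x ^ (i * j) = x ^ (i * j) * ⁅a, b⁆ := by
    have hc : ⁅a, b⁆ = (a * b) * (b * a)⁻¹ := by
      simp [commutatorElement_def, mul_assoc]
    rw [hc]
    conv_lhs => rw [← h2]
    conv_rhs => rw [← h1]
    group
  have hword : orderOf (x ^ (i * j)) = orderOf x := by
    rw [← h1]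
    have := (MulAut.conj (a * b)).orderOf_eq x
    rw [MulAut.conj_apply] at this
    exact this
  have hle : Subgroup.zpowers (x ^ (i * j)) ≤ Subgroup.zpowers x :=
    Subgroup.zpowers_le.mpr (Subgroup.zpow_mem_zpowers x (i * j))
  have heq : Subgroup.zpowers (x ^ (i * j)) = Subgroup.zpowers x := by
    apply Subgroup.eq_of_le_of_card_ge hle
    rw [Nat.card_zpowers, Nat.card_zpowers, hword]
  have hx : x ∈ Subgroup.zpowers (x ^ (i * j)) := by
    rw [heq]; exact Subgroup.mem_zpowers x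
  obtain ⟨m, hm⟩ := Subgroup.mem_zpowers_iff.mp hx
  have hcomm : Commute ⁅a, b⁆ (x ^ (i * j)) := hcw
  have := hcomm.zpow_right m
  rw [hm] at this
  exact this

end Cfsg.Agent.S3913P
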