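import Mathlib
import Cfsg.Agent.Helper26.S3911Defs
import Cfsg.Agent.Helper17.S3913Defs
import Cfsg.Agent.Helper11.S3913IRRa
import Cfsg.Agent.Helper11.S3913IRRb
import Cfsg.Agent.Helper11.S3913IRRc

/-! # s3913pieces IRR: a normal-mod-`F` subgroup `Q` normalising a proper nontrivial subgroup of the elementary
abelian normal subgroup `N` has its commutators centralising `N` (helper11) -/

set_option autoImplicit false

namespace Cfsg.Agent.S3913P

open Cfsg.Agent.S3911P Cfsg.Agent.S3913P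

open scoped commutatorElement

/-- IRR (S/M; IRRa, IRRb, IRRc; helper11's argument): if `Q` (with `F ⊔ Q` normal) normalises a proper nontrivial
subgroup `W` of the elementary abelian normal subgroup `N ≤ C(F)`, the commutators of `Q` centralise `N`. -/
theorem IRR {G : Type*} [Group G] [Finite G] (hB : BProp G) (F Q : Subgroup G) [F.Normal]
    (hFQ : (F ⊔ Q).Normal) (N : Subgroup G) [N.Normal] (hNab : ∀ a ∈ N, ∀ b ∈ N, a * b = b * a)
    (hFN : F ≤ Subgroup.centralizer (N : Set G)) (p : ℕ) [Fact p.Prime] (hNp : ∀ v ∈ N, v ^ p = 1)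
    (W : Subgroup G) (hWN : W ≤ N) (hW1 : W ≠ ⊥) (hW2 : W ≠ N)
    (hQW : Q ≤ Subgroup.normalizer (W : Set G)) :
    ∀ a ∈ Q, ∀ b ∈ Q, ∀ x ∈ N, ⁅a, b⁆ * x = x * ⁅a, b⁆ := by
  have hp : p.Prime := Fact.out
  -- `W` is a `p`-group
  have hWp : IsPGroup p ↥W := by
    intro w
    refine ⟨1, ?_⟩
    apply Subtype.ext
    simpa using hNp w.1 (hWN w.2)
  obtain ⟨j, hj⟩ := hWp.exists_card_eq
  have hj1 : 1 ≤ j := by
    rcases Nat.eq_zero_or_pos j with h0 | h0
    · exfalso
      apply hW1
      rw [h0, pow_zero] at hj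
      exact Subgroup.card_eq_one.mp hj
    · exact h0
  have hlt : p ^ j < Nat.card ↥N := by
    rw [← hj]
    rcases lt_or_eq_of_le (Subgroup.card_le_of_le hWN) with h | h
    · exact h
    · exfalso
      apply hW2
      exact Subgroup.eq_of_le_of_card_ge hWN (le_of_eq h.symm)
  have hall : ∀ U : Subgroup G, U ≤ N → Nat.card ↥U = p ^ j →
      Q ≤ Subgroup.normalizer (U : Set G) := by
    intro U hUN hUc
    exact IRRa hB F Q hFQ N hNab hFN W hWN hQW U hUN (by rw [hUc, hj])
  have hcyc := IRRb N Q p hNab hNp j hj1 hlt hall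
  intro a ha b hb x hx
  exact IRRc x a b (hcyc x hx a ha) (hcyc x hx b hb)

end Cfsg.Agent.S3913P
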