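import Mathlib
import Cfsg.Agent.Helper2.S4130Defs
import Cfsg.Agent.Helper23.S4130INHN
import Cfsg.Agent.Helper7.Fitting
import Cfsg.Agent.Helper7.S4130DIV
import Cfsg.Agent.Helper29.S4130PKN1
import Cfsg.Agent.Helper18.S4130PNILS

/-! s4130pieces PFC2: the Fitting subgroup of an (SQ)-group has class at most 2. -/

set_option autoImplicit false

namespace Cfsg.Agent.S4130P

universe u

open Subgroup

/-- (PFC2) the Fitting subgroup of an (SQ)-group has class at most 2. -/
theorem PFC2 {G : Type u} [Group G] [Finite G] (h : SqfCls G) :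
    Subgroup.upperCentralSeries ↥(Cfsg.fittingSubgroup G) 2 = ⊤ := by
  have hF : SqfCls ↥(Cfsg.fittingSubgroup G) := Chk.INHN h _
  have hnil : Group.IsNilpotent ↥(Cfsg.fittingSubgroup G) :=
    Cfsg.Agent.Helper7.fittingSubgroup_isNilpotent
  apply PNILS hnil
  intro p _ P
  have hPn : (P : Subgroup ↥(Cfsg.fittingSubgroup G)).Normal := inferInstance
  have hP : SqfCls ↥(P : Subgroup ↥(Cfsg.fittingSubgroup G)) := Chk.INHN hF _
  exact PKN1 p P.isPGroup' (PSQP p P.isPGroup' hP)

end Cfsg.Agent.S4130P
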