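import Mathlib
import Cfsg.Agent.Helper27.S4150Defs

/-!
# S4150 piece WITT: Witt's lemma, elementwise
-/

set_option autoImplicit false
set_option linter.unusedSectionVars false
set_option linter.style.haveILetI false

namespace Cfsg.Agent.S4150P

open Equiv Equiv.Perm MulAction
open scoped Pointwise

namespace WITT

theorem conj_inv_zpow {G : Type*} [Group G] (g t : G) (j : ℤ) :
    (g⁻¹ * t * g) ^ j = g⁻¹ * t ^ j * g := by
  have := conj_zpow (a := g⁻¹) (b := t) (i := j)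
  rwa [inv_inv] at this

theorem orderOf_conj_inv {G : Type*} [Group G] (g t : G) : orderOf (g⁻¹ * t * g) = orderOf t := by
  have := orderOf_injective (MulAut.conj g⁻¹).toMonoidHom (MulAut.conj g⁻¹).injective t
  simpa using this

/-- `n` normalises `⟨t⟩` as soon as `n t n⁻¹` and `n⁻¹ t n` are powers of `t` -/
theorem mem_normalizer_zpowers {G : Type*} [Group G] (n t : G)
    (h1 : n * t * n⁻¹ ∈ Subgroup.zpowers t) (h2 : n⁻¹ * t * n ∈ Subgroup.zpowers t) :
    n ∈ Subgroup.normalizer ((Subgroup.zpowers t : Subgroup G) : Set G) := by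
  rw [Subgroup.mem_normalizer_iff]
  intro h
  constructor
  · intro hh
    obtain ⟨m, rfl⟩ := Subgroup.mem_zpowers_iff.mp hh
    rw [← conj_zpow]
    exact Subgroup.zpow_mem _ h1 m
  · intro hh
    obtain ⟨m, hm⟩ := Subgroup.mem_zpowers_iff.mp hh
    have e : h = (n⁻¹ * t * n) ^ m := by
      rw [conj_inv_zpow, hm]
      group
    rw [e]
    exact Subgroup.zpow_mem _ h2 m

variable {G : Type*} [Group G] [Finite G]

/-- two elements of prime order `p` in a finite group of order not divisible by `p²` generate conjugate subgroups -/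
theorem exists_conj_mem_zpowers {p : ℕ} (hp : p.Prime) (hsyl : ¬ p ^ 2 ∣ Nat.card G) (u v : G)
    (hu : orderOf u = p) (hv : orderOf v = p) :
    ∃ c : G, c * u * c⁻¹ ∈ Subgroup.zpowers v ∧ c⁻¹ * v * c ∈ Subgroup.zpowers u := by
  haveI : Fact p.Prime := ⟨hp⟩
  have hP : IsPGroup p (Subgroup.zpowers u) :=
    IsPGroup.of_card (n := 1) (by rw [Nat.card_zpowers, hu, pow_one])
  have hP' : IsPGroup p (Subgroup.zpowers v) :=
    IsPGroup.of_card (n := 1) (by rw [Nat.card_zpowers, hv, pow_one])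
  obtain ⟨S, hS⟩ := hP.exists_le_sylow
  obtain ⟨S', hS'⟩ := hP'.exists_le_sylow
  have hcardle : ∀ T : Sylow p G, Nat.card T ≤ p := by
    intro T
    obtain ⟨k, hk⟩ := IsPGroup.iff_card.mp T.isPGroup'
    have h1 : p ^ k ∣ Nat.card G := by
      rw [← hk]
      exact Subgroup.card_subgroup_dvd_card _
    have hk1 : k ≤ 1 := by
      by_contra hk2
      push Not at hk2
      exact hsyl ((pow_dvd_pow p hk2).trans h1)
    rw [hk]
    calc p ^ k ≤ p ^ 1 := Nat.pow_le_pow_right hp.pos hk1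
      _ = p := pow_one p
  have hSeq : Subgroup.zpowers u = S := by
    apply Subgroup.eq_of_le_of_card_ge hS
    rw [Nat.card_zpowers, hu]
    exact hcardle S
  have hSeq' : Subgroup.zpowers v = S' := by
    apply Subgroup.eq_of_le_of_card_ge hS'
    rw [Nat.card_zpowers, hv]
    exact hcardle S'
  obtain ⟨z, hz⟩ := MulAction.exists_smul_eq G S S'
  have hz' : MulAut.conj z • (S : Subgroup G) = S' := by
    rw [← Sylow.coe_subgroup_smul, hz]
  refine ⟨z, ?_, ?_⟩
  · rw [hSeq', ← hz']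
    have h1 : u ∈ (S : Subgroup G) := hS (Subgroup.mem_zpowers u)
    have h2 := Subgroup.smul_mem_pointwise_smul u (MulAut.conj z) _ h1
    rwa [MulAut.smul_def, MulAut.conj_apply] at h2
  · rw [hSeq]
    have h1 : v ∈ MulAut.conj z • (S : Subgroup G) := by
      rw [hz']
      exact hS' (Subgroup.mem_zpowers v)
    rw [Subgroup.mem_pointwise_smul_iff_inv_smul_mem] at h1
    rwa [MulAut.smul_def, MulAut.conj_inv_apply] at h1

end WITT

section
variable {α : Type*} [Fintype α] [DecidableEq α]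

/-- WITT [M-L]: Witt's lemma, elementwise.  `H` is `k`-transitive, `L = ptStab H S`, `|S| = k`,
`t ∈ L` of prime order `p` with `p² ∤ |L|` (so `⟨t⟩` is a Sylow `p`-subgroup of `L`).  Then
`N_H(⟨t⟩)` is `k`-transitive on the fixed points of `t`. -/
theorem WITT.main (H : Subgroup (Perm α)) {k : ℕ} (hk : IsMultiplyPretransitive H α k)
    (S : Finset α) (hS : S.card = k) {p : ℕ} (hp : p.Prime) {t : Perm α} (ht : t ∈ ptStab H S)
    (hto : orderOf t = p) (hsyl : ¬ p ^ 2 ∣ Nat.card (ptStab H S))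
    (e e' : Fin k ↪ α) (he : ∀ i, t (e i) = e i) (he' : ∀ i, t (e' i) = e' i) :
    ∃ n ∈ normIn H t, ∀ i, n (e i) = e' i := by
  classical
  -- an enumeration of `S`
  let eqv : S ≃ Fin k := S.equivFinOfCardEq hS
  let s : Fin k ↪ α := eqv.symm.toEmbedding.trans (Function.Embedding.subtype _)
  have hsS : ∀ i, s i ∈ S := fun i => (eqv.symm i).2
  have hSs : ∀ x ∈ S, ∃ i, s i = x := by
    intro x hx
    refine ⟨eqv ⟨x, hx⟩, ?_⟩
    show ((eqv.symm (eqv ⟨x, hx⟩) : S) : α) = x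
    rw [Equiv.symm_apply_apply]
  obtain ⟨a, ha⟩ := hk.exists_smul_eq s e
  obtain ⟨b, hb⟩ := hk.exists_smul_eq s e'
  have ha' : ∀ i, (a : Perm α) (s i) = e i := fun i => DFunLike.congr_fun ha i
  have hb' : ∀ i, (b : Perm α) (s i) = e' i := fun i => DFunLike.congr_fun hb i
  have ha'' : ∀ i, (a : Perm α)⁻¹ (e i) = s i := fun i => by rw [← ha' i]; simp
  have hb'' : ∀ i, (b : Perm α)⁻¹ (e' i) = s i := fun i => by rw [← hb' i]; simp
  -- the two conjugates of `t` in `L`
  have htH : t ∈ H := ht.1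
  have hua : (a : Perm α)⁻¹ * t * a ∈ ptStab H S := by
    refine ⟨H.mul_mem (H.mul_mem (H.inv_mem a.2) htH) a.2, ?_⟩
    intro x hx
    obtain ⟨i, rfl⟩ := hSs x hx
    rw [Perm.mul_apply, Perm.mul_apply, ha', he, ha'']
  have hub : (b : Perm α)⁻¹ * t * b ∈ ptStab H S := by
    refine ⟨H.mul_mem (H.mul_mem (H.inv_mem b.2) htH) b.2, ?_⟩
    intro x hx
    obtain ⟨i, rfl⟩ := hSs x hx
    rw [Perm.mul_apply, Perm.mul_apply, hb', he', hb'']
  let u : ptStab H S := ⟨(a : Perm α)⁻¹ * t * a, hua⟩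
  let v : ptStab H S := ⟨(b : Perm α)⁻¹ * t * b, hub⟩
  have huo : orderOf u = p := by
    rw [← Subgroup.orderOf_coe]
    show orderOf ((a : Perm α)⁻¹ * t * a) = p
    rw [WITT.orderOf_conj_inv, hto]
  have hvo : orderOf v = p := by
    rw [← Subgroup.orderOf_coe]
    show orderOf ((b : Perm α)⁻¹ * t * b) = p
    rw [WITT.orderOf_conj_inv, hto]
  obtain ⟨c, hc1, hc2⟩ := WITT.exists_conj_mem_zpowers hp hsyl u v huo hvo
  obtain ⟨j, hj⟩ := Subgroup.mem_zpowers_iff.mp hc1
  obtain ⟨i, hi⟩ := Subgroup.mem_zpowers_iff.mp hc2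
  have hj' : ((b : Perm α)⁻¹ * t * b) ^ j = (c : Perm α) * ((a : Perm α)⁻¹ * t * a) * (c : Perm α)⁻¹ := by
    have := congrArg Subtype.val hj
    simpa [u, v] using this
  have hi' : ((a : Perm α)⁻¹ * t * a) ^ i = (c : Perm α)⁻¹ * ((b : Perm α)⁻¹ * t * b) * (c : Perm α) := by
    have := congrArg Subtype.val hi
    simpa [u, v] using this
  refine ⟨(b : Perm α) * c * (a : Perm α)⁻¹, ⟨?_, ?_⟩, ?_⟩
  · exact H.mul_mem (H.mul_mem b.2 c.2.1) (H.inv_mem a.2)
  · apply WITT.mem_normalizer_zpowers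
    · rw [Subgroup.mem_zpowers_iff]
      refine ⟨j, ?_⟩
      have e1 : (b : Perm α) * c * (a : Perm α)⁻¹ * t * ((b : Perm α) * c * (a : Perm α)⁻¹)⁻¹ =
          (b : Perm α) * ((c : Perm α) * ((a : Perm α)⁻¹ * t * a) * (c : Perm α)⁻¹) * (b : Perm α)⁻¹ := by
        group
      rw [e1, ← hj', WITT.conj_inv_zpow]
      group
    · rw [Subgroup.mem_zpowers_iff]
      refine ⟨i, ?_⟩
      have e1 : ((b : Perm α) * c * (a : Perm α)⁻¹)⁻¹ * t * ((b : Perm α) * c * (a : Perm α)⁻¹) =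
          (a : Perm α) * ((c : Perm α)⁻¹ * ((b : Perm α)⁻¹ * t * b) * (c : Perm α)) * (a : Perm α)⁻¹ := by
        group
      rw [e1, ← hi', WITT.conj_inv_zpow]
      group
  · intro i
    rw [Perm.mul_apply, Perm.mul_apply, ha'', c.2.2 _ (hsS i), hb']

end

end Cfsg.Agent.S4150P
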