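import Mathlib
import Cfsg.Agent.Helper27.S4150Defs
import Cfsg.Agent.Helper11.S4150WITT

/-!
# S4150 piece WITTDVD: the number of fixed points of `t` divides `|N_H(⟨t⟩)|`
-/

set_option autoImplicit false
set_option linter.unusedSectionVars false

namespace Cfsg.Agent.S4150P

open Equiv Equiv.Perm MulAction

namespace WITTDVD

variable {α : Type*} [Fintype α] [DecidableEq α]

/-- an embedding `Fin k ↪ α` with values in the finset `Φ` (of at least `k ≥ 1` points) and prescribed first value -/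
theorem exists_emb (Φ : Finset α) {k : ℕ} (hk1 : 1 ≤ k) (hΦ : k ≤ Φ.card) {a : α} (ha : a ∈ Φ) :
    ∃ e : Fin k ↪ α, (∀ i, e i ∈ Φ) ∧ e ⟨0, hk1⟩ = a := by
  classical
  have hcard : Fintype.card (Fin k) ≤ Fintype.card ↥Φ := by
    rw [Fintype.card_fin, Fintype.card_coe]; exact hΦ
  obtain ⟨f0⟩ := Function.Embedding.nonempty_of_card_le hcard
  let f : Fin k ↪ ↥Φ := f0.trans (Equiv.swap (f0 ⟨0, hk1⟩) ⟨a, ha⟩).toEmbedding
  refine ⟨f.trans (Function.Embedding.subtype _), fun i => (f i).2, ?_⟩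
  show ((Equiv.swap (f0 ⟨0, hk1⟩) ⟨a, ha⟩ (f0 ⟨0, hk1⟩) : ↥Φ) : α) = a
  rw [Equiv.swap_apply_left]

/-- a power of `t` fixes the fixed points of `t` -/
theorem zpow_fix (t : Perm α) {x : α} (hx : t x = x) (j : ℤ) : (t ^ j) x = x :=
  Equiv.Perm.zpow_apply_eq_self_of_apply_eq_self hx j

end WITTDVD

section
variable {α : Type*} [Fintype α] [DecidableEq α]

/-- WITTDVD [M]: consequence of WITT: the number of fixed points of `t` divides `|N_H(⟨t⟩)|`. -/
theorem WITTDVD.main (H : Subgroup (Perm α)) {k : ℕ} (hk1 : 1 ≤ k)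
    (hk : IsMultiplyPretransitive H α k) (S : Finset α) (hS : S.card = k) {p : ℕ} (hp : p.Prime)
    {t : Perm α} (ht : t ∈ ptStab H S) (hto : orderOf t = p)
    (hsyl : ¬ p ^ 2 ∣ Nat.card (ptStab H S)) :
    (t.supportᶜ).card ∣ Nat.card (normIn H t) := by
  classical
  set Φ : Finset α := t.supportᶜ with hΦ
  have hmemΦ : ∀ x, x ∈ Φ ↔ t x = x := by
    intro x
    rw [hΦ, Finset.mem_compl, Perm.notMem_support]
  have hSΦ : S ⊆ Φ := fun x hx => (hmemΦ x).mpr (ht.2 x hx)
  have hkΦ : k ≤ Φ.card := by rw [← hS]; exact Finset.card_le_card hSΦ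
  -- a base point
  have hSne : S.Nonempty := by
    rw [← Finset.card_pos, hS]; exact hk1
  obtain ⟨a, haS⟩ := hSne
  have haΦ : a ∈ Φ := hSΦ haS
  -- the orbit of `a` under the normaliser is `Φ`
  have horb : MulAction.orbit (normIn H t) a = (Φ : Set α) := by
    ext x
    constructor
    · rintro ⟨n, rfl⟩
      rw [Finset.mem_coe, hmemΦ]
      have hn : (n : Perm α) ∈ Subgroup.normalizer ((Subgroup.zpowers t : Subgroup (Perm α)) : Set (Perm α)) :=
        n.2.2
      have h1 := (Subgroup.mem_normalizer_iff''.mp hn t).mp (Subgroup.mem_zpowers t)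
      obtain ⟨j, hj⟩ := Subgroup.mem_zpowers_iff.mp h1
      have h2 : ((n : Perm α)⁻¹ * t * n) a = a := by
        rw [← hj]
        exact WITTDVD.zpow_fix t ((hmemΦ a).mp haΦ) j
      rw [Perm.mul_apply, Perm.mul_apply, Perm.inv_eq_iff_eq] at h2
      exact h2
    · intro hx
      rw [Finset.mem_coe] at hx
      obtain ⟨e, heΦ, he0⟩ := WITTDVD.exists_emb Φ hk1 hkΦ haΦ
      obtain ⟨e', heΦ', he0'⟩ := WITTDVD.exists_emb Φ hk1 hkΦ hx
      obtain ⟨n, hn, hne⟩ := WITT.main H hk S hS hp ht hto hsyl e e'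
        (fun i => (hmemΦ _).mp (heΦ i)) (fun i => (hmemΦ _).mp (heΦ' i))
      refine ⟨⟨n, hn⟩, ?_⟩
      show n a = x
      rw [← he0, hne, he0']
  have h1 : (MulAction.orbit (normIn H t) a).ncard ∣ Nat.card (normIn H t) := by
    rw [← MulAction.index_stabilizer]
    exact Subgroup.index_dvd_card _
  rw [horb, Set.ncard_coe_finset] at h1
  exact h1

end

end Cfsg.Agent.S4150P
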