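import Mathlib

/-!
# S4330 board, piece B2 (helper11)

Abstract group lemma: if all commutators of elements of `D` are central in `D` and have order dividing the odd
prime `p`, then the `p`-th power map is multiplicative on `D`.
-/

set_option autoImplicit false

namespace Cfsg.Agent.Helper5.S4330

/-- `b ^ n * a * c ^ n = a * b ^ n` when `c` commutes with `b` and `b * a * c = a * b`. -/
theorem mul_pow_p_of_class_two_aux_swap {G : Type*} [Group G] (a b c : G)
    (hcb : Commute c b) (hbac : b * a * c = a * b) (n : ℕ) : b ^ n * a * c ^ n = a * b ^ n := by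
  induction n with
  | zero => simp
  | succ n ih =>
    have h1 : Commute c (b ^ n) := hcb.pow_right n
    calc b ^ (n + 1) * a * c ^ (n + 1)
        = b * (b ^ n * a * c ^ n) * c := by
          rw [pow_succ' b n, pow_succ c n]; simp only [mul_assoc]
      _ = b * (a * b ^ n) * c := by rw [ih]
      _ = b * a * (b ^ n * c) := by simp only [mul_assoc]
      _ = b * a * (c * b ^ n) := by rw [h1.eq]
      _ = (b * a * c) * b ^ n := by simp only [mul_assoc]
      _ = a * b * b ^ n := by rw [hbac]
      _ = a * b ^ (n + 1) := by rw [pow_succ' b n]; simp only [mul_assoc]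

/-- `(a * b) ^ n * c ^ (n choose 2) = a ^ n * b ^ n` for a central commutator `c`. -/
theorem mul_pow_p_of_class_two_aux_pow {G : Type*} [Group G] (a b c : G) (hca : Commute c a)
    (hcb : Commute c b) (hbac : b * a * c = a * b) (n : ℕ) :
    (a * b) ^ n * c ^ (n.choose 2) = a ^ n * b ^ n := by
  induction n with
  | zero => simp
  | succ n ih =>
    have hch : (n + 1).choose 2 = n + n.choose 2 := by
      rw [Nat.choose_succ_succ' n 1, Nat.choose_one_right]
    have hcab : Commute c (a * b) := hca.mul_right hcb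
    have h2 : Commute (c ^ (n.choose 2)) (a * b) := hcab.pow_left _
    have h3 : Commute (c ^ n) b := hcb.pow_left n
    have h4 : Commute (c ^ (n.choose 2)) (c ^ n) := (Commute.refl c).pow_pow _ _
    calc (a * b) ^ (n + 1) * c ^ ((n + 1).choose 2)
        = (a * b) ^ n * (a * b) * (c ^ n * c ^ (n.choose 2)) := by
          rw [hch, pow_add c, pow_succ (a * b) n]
      _ = (a * b) ^ n * ((a * b) * (c ^ (n.choose 2) * c ^ n)) := by
          rw [h4.eq]; simp only [mul_assoc]
      _ = (a * b) ^ n * ((a * b) * c ^ (n.choose 2) * c ^ n) := by simp only [mul_assoc]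
      _ = (a * b) ^ n * (c ^ (n.choose 2) * (a * b) * c ^ n) := by rw [h2.eq]
      _ = ((a * b) ^ n * c ^ (n.choose 2)) * (a * b * c ^ n) := by simp only [mul_assoc]
      _ = a ^ n * b ^ n * (a * b * c ^ n) := by rw [ih]
      _ = a ^ n * (b ^ n * a * (b * c ^ n)) := by simp only [mul_assoc]
      _ = a ^ n * (b ^ n * a * (c ^ n * b)) := by rw [h3.eq]
      _ = a ^ n * ((b ^ n * a * c ^ n) * b) := by simp only [mul_assoc]
      _ = a ^ n * ((a * b ^ n) * b) := by
          rw [mul_pow_p_of_class_two_aux_swap a b c hcb hbac n]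
      _ = a ^ (n + 1) * b ^ (n + 1) := by
          rw [pow_succ a n, pow_succ b n]; simp only [mul_assoc]

theorem mul_pow_p_of_class_two {p : ℕ} [Fact p.Prime] (hp : p ≠ 2) {G : Type*} [Group G]
    (D : Subgroup G)
    (h : ∀ a ∈ D, ∀ b ∈ D, (∀ c ∈ D, (a * b * a⁻¹ * b⁻¹) * c = c * (a * b * a⁻¹ * b⁻¹)) ∧
      (a * b * a⁻¹ * b⁻¹) ^ p = 1) :
    ∀ a ∈ D, ∀ b ∈ D, (a * b) ^ p = a ^ p * b ^ p := by
  intro a ha b hb
  obtain ⟨hcen, hpow⟩ := h a ha b hb
  set c : G := a * b * a⁻¹ * b⁻¹ with hc
  have hca : Commute c a := hcen a ha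
  have hcb : Commute c b := hcen b hb
  have hbac : b * a * c = a * b := by
    have h1 : b * a * c = c * (b * a) := by
      have : Commute c (b * a) := hcb.mul_right hca
      exact this.eq.symm
    rw [h1, hc]; group
  have hpp : Nat.Prime p := Fact.out
  have hp2 : 2 < p := by
    have := hpp.two_le
    omega
  have hdvd : p ∣ p.choose 2 := hpp.dvd_choose_self (by norm_num) hp2
  have hone : c ^ (p.choose 2) = 1 := by
    obtain ⟨k, hk⟩ := hdvd
    rw [hk, pow_mul, hpow, one_pow]
  have := mul_pow_p_of_class_two_aux_pow a b c hca hcb hbac p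
  rw [hone, mul_one] at this
  exact this

end Cfsg.Agent.Helper5.S4330
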