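import Mathlib

/-!
# S4330 board, piece RQ (helper11)

The class hypothesis of S4330 passes to quotients.
-/

set_option autoImplicit false
open Pointwise

namespace Cfsg.Agent.Helper5.S4330

/-- The image of a conjugate subgroup under a homomorphism is the conjugate of the image. -/
theorem hyp_quotient_aux_map {G H : Type*} [Group G] [Group H] (f : G →* H) (g : G)
    (A : Subgroup G) : (MulAut.conj g • A).map f = MulAut.conj (f g) • A.map f := by
  ext y
  constructor
  · rintro ⟨x, hx, rfl⟩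
    obtain ⟨a, ha, rfl⟩ := Subgroup.mem_pointwise_smul_iff_inv_smul_mem.mpr
      (Subgroup.mem_pointwise_smul_iff_inv_smul_mem.mp hx) |> fun h => (Subgroup.mem_smul_pointwise_iff_exists _ _ _).mp h
    refine (Subgroup.mem_smul_pointwise_iff_exists _ _ _).mpr ⟨f a, Subgroup.mem_map_of_mem f ha, ?_⟩
    simp [MulAut.smul_def, MulAut.conj_apply]
  · intro hy
    obtain ⟨b, hb, rfl⟩ := (Subgroup.mem_smul_pointwise_iff_exists _ _ _).mp hy
    obtain ⟨a, ha, rfl⟩ := hb
    refine ⟨MulAut.conj g • a, Subgroup.smul_mem_pointwise_smul a (MulAut.conj g) A ha, ?_⟩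
    simp [MulAut.smul_def, MulAut.conj_apply]

variable {G : Type*} [Group G]

theorem hyp_quotient {p : ℕ} (N : Subgroup G) [N.Normal] (A : Subgroup G)
    (h : ∀ c : G, ∃ g : G, IsConj c g ∧ IsPGroup p ↥(A ⊔ MulAut.conj g • A)) :
    ∀ c : G ⧸ N, ∃ g : G ⧸ N, IsConj c g ∧
      IsPGroup p ↥(A.map (QuotientGroup.mk' N) ⊔ MulAut.conj g • A.map (QuotientGroup.mk' N)) := by
  intro c
  obtain ⟨c0, rfl⟩ := QuotientGroup.mk_surjective c
  obtain ⟨g, hcg, hp⟩ := h c0
  refine ⟨(QuotientGroup.mk' N) g, ?_, ?_⟩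
  · exact (QuotientGroup.mk' N).map_isConj hcg
  · have h1 : (A ⊔ MulAut.conj g • A).map (QuotientGroup.mk' N) =
        A.map (QuotientGroup.mk' N) ⊔
          MulAut.conj ((QuotientGroup.mk' N) g) • A.map (QuotientGroup.mk' N) := by
      rw [Subgroup.map_sup, hyp_quotient_aux_map]
    rw [← h1]
    exact hp.map (QuotientGroup.mk' N)

end Cfsg.Agent.Helper5.S4330
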