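import Mathlib
import Cfsg.Agent.Helper26.S4394Defs
import Cfsg.Agent.Helper23.PSeries

set_option autoImplicit false

/-! Board `s4394pieces`, piece CASE1: lifting `p`-length one through a normal subgroup centralized
by the Sylow subgroup. -/

namespace Cfsg.Agent.S4394P

open Cfsg

/-- a finite group `K₁` with a central normal `p`-subgroup `N` of index prime to `p` and no nontrivial
conjugation-invariant `p'`-part: abstract form.  `K₁ ⊴ G`, `N₀ ≤ K₁` central in `K₁`, `N₀` a `p`-group,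
`|K₁ : N₀|` prime to `p`, `O_{p'}(G) = 1`.  Then `K₁ = N₀`. -/
theorem CASE1_aux_central {G : Type*} [Group G] [Finite G] {p : ℕ} [Fact p.Prime]
    (hO : Cfsg.pPrimeCore p G = ⊥) (K₁ N₀ : Subgroup G) (hK₁n : K₁.Normal) (hN₀n : N₀.Normal)
    (hle : N₀ ≤ K₁) (hN₀p : IsPGroup p N₀)
    (hcen : ∀ x ∈ K₁, ∀ n ∈ N₀, x * n = n * x)
    (hcop : (N₀.relIndex K₁).Coprime p) : K₁ = N₀ := by
  classical
  have hp : p.Prime := Fact.out
  have : (N₀.subgroupOf K₁).Normal := hN₀n.subgroupOf K₁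
  -- N := N₀.subgroupOf K₁ is a p-group
  have hNp : IsPGroup p (N₀.subgroupOf K₁) :=
    hN₀p.of_equiv (Subgroup.subgroupOfEquivOfLe hle).symm
  have hidx : (N₀.subgroupOf K₁).index = N₀.relIndex K₁ := rfl
  obtain ⟨a, ha⟩ := IsPGroup.iff_card.mp hNp
  have hcop' : Nat.Coprime (Nat.card (N₀.subgroupOf K₁)) (N₀.subgroupOf K₁).index := by
    rw [ha, hidx]
    exact Nat.Coprime.pow_left a ((Nat.coprime_comm).mp hcop)
  obtain ⟨H₀, hH₀⟩ := Subgroup.exists_right_complement'_of_coprime hcop'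
  set m := N₀.relIndex K₁ with hm
  have hH₀card : Nat.card H₀ = m := by
    have h1 := hH₀.card_mul_card
    have h2 := (N₀.subgroupOf K₁).card_mul_index
    rw [hidx] at h2
    have hpos : 0 < Nat.card (N₀.subgroupOf K₁) := Nat.card_pos
    exact Nat.eq_of_mul_eq_mul_left hpos (h1.trans h2.symm)
  -- characterization of H₀ by the power m
  have hchar : ∀ x : K₁, x ∈ H₀ ↔ x ^ m = 1 := by
    intro x
    constructor
    · intro hx
      have := pow_card_eq_one' (G := H₀) (x := ⟨x, hx⟩)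
      rw [hH₀card] at this
      have h' := congrArg (fun y : H₀ => (y : K₁)) this
      simpa using h'
    · intro hx
      obtain ⟨⟨n, h⟩, hnh, -⟩ := (Subgroup.isComplement_iff_existsUnique.mp
        (Subgroup.isComplement'_def.mp hH₀)) x
      simp only at hnh
      have hcomm : Commute (n : K₁) (h : K₁) := by
        have hn : ((n : K₁) : G) ∈ N₀ := n.2
        have := hcen (h : K₁) (h : K₁).2 _ hn
        apply Subtype.ext
        simpa using this.symm
      have hhm : (h : K₁) ^ m = 1 := by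
        have := pow_card_eq_one' (G := H₀) (x := h)
        rw [hH₀card] at this
        have h' := congrArg (fun y : H₀ => (y : K₁)) this
        simpa using h'
      have hnm : (n : K₁) ^ m = 1 := by
        have : ((n : K₁) * (h : K₁)) ^ m = 1 := by rw [hnh]; exact hx
        rw [hcomm.mul_pow, hhm, mul_one] at this
        exact this
      -- n is a p-element with n^m = 1, m coprime to p
      have hn1 : (n : K₁) = 1 := by
        obtain ⟨j, hj⟩ := hNp n
        have hj' : (n : K₁) ^ p ^ j = 1 := by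
          have h' := congrArg (fun y : N₀.subgroupOf K₁ => (y : K₁)) hj
          simpa using h'
        have hd1 : orderOf (n : K₁) ∣ m := orderOf_dvd_of_pow_eq_one hnm
        have hd2 : orderOf (n : K₁) ∣ p ^ j := orderOf_dvd_of_pow_eq_one hj'
        have hcp : Nat.Coprime m (p ^ j) := Nat.Coprime.pow_right j hcop
        have : orderOf (n : K₁) = 1 := Nat.eq_one_of_dvd_coprimes hcp hd1 hd2
        exact orderOf_eq_one_iff.mp this
      rw [hn1, one_mul] at hnh
      rw [← hnh]; exact h.2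
  -- H' := H₀.map K₁.subtype is normal in G
  set H' := H₀.map K₁.subtype with hH'
  have hmemH' : ∀ x : G, x ∈ H' ↔ x ∈ K₁ ∧ x ^ m = 1 := by
    intro x
    constructor
    · rintro ⟨y, hy, rfl⟩
      refine ⟨y.2, ?_⟩
      have := (hchar y).mp hy
      have h' := congrArg (fun z : K₁ => (z : G)) this
      simpa using h'
    · rintro ⟨hxK, hxm⟩
      refine ⟨⟨x, hxK⟩, (hchar ⟨x, hxK⟩).mpr ?_, rfl⟩
      apply Subtype.ext
      simpa using hxm
  have hH'n : H'.Normal := by
    refine ⟨fun x hx g => ?_⟩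
    rw [hmemH'] at hx ⊢
    refine ⟨hK₁n.conj_mem x hx.1 g, ?_⟩
    rw [conj_pow, hx.2, mul_one, mul_inv_cancel]
  have hH'card : Nat.card H' = m := by
    rw [hH', Subgroup.card_map_of_injective K₁.subtype_injective, hH₀card]
  have hH'le : H' ≤ Cfsg.pPrimeCore p G :=
    le_sSup (⟨hH'n, by rw [hH'card]; exact hcop⟩ : H' ∈ {N : Subgroup G | N.Normal ∧ (Nat.card N).Coprime p})
  rw [hO, le_bot_iff] at hH'le
  have hm1 : m = 1 := by
    rw [← hH'card, hH'le]; exact Subgroup.card_bot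
  -- relIndex = 1 gives K₁ ≤ N₀
  have : K₁ ≤ N₀ := Subgroup.relIndex_eq_one.mp (hm ▸ hm1)
  exact le_antisymm this hle

/-- a subgroup all of whose elements conjugate `T` into `T` normalizes `T` -/
theorem CASE1_aux_le_normalizer {G : Type*} [Group G] (S' T : Subgroup G)
    (h : ∀ g ∈ S', ∀ t ∈ T, g * t * g⁻¹ ∈ T) : S' ≤ Subgroup.normalizer (T : Set G) := by
  intro g hg
  rw [Subgroup.mem_normalizer_iff]
  intro t
  constructor
  · exact h g hg t
  · intro ht
    have := h g⁻¹ (S'.inv_mem hg) _ ht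
    simpa [mul_assoc] using this

theorem CASE1 {G : Type*} [Group G] [Finite G] {p : ℕ} [Fact p.Prime]
    (hO : Cfsg.pPrimeCore p G = ⊥) (T : Sylow p G) (N₀ : Subgroup G) [N₀.Normal]
    (hN₀T : N₀ ≤ (T : Subgroup G))
    (hcent : ∀ t ∈ (T : Subgroup G), ∀ n ∈ N₀, t * n = n * t)
    (hq : Cfsg.PLengthLE p 1 (G ⧸ N₀)) : (T : Subgroup G).Normal := by
  classical
  have hπs : Function.Surjective (QuotientGroup.mk' N₀) := QuotientGroup.mk'_surjective N₀
  obtain ⟨Kh, hKhn, hKhcop, hKhsup, -⟩ :=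
    Cfsg.Agent.Helper23.exists_normal_pPrime_of_pLengthLE_one p (G ⧸ N₀) hq (T.mapSurjective hπs)
  set K := Kh.comap (QuotientGroup.mk' N₀) with hK
  have hKn : K.Normal := hKhn.comap _
  have hN₀K : N₀ ≤ K := Cfsg.Agent.Helper23.le_comap_mk' N₀ Kh
  have hKcard : Nat.card K = Nat.card N₀ * Nat.card Kh := Cfsg.Agent.Helper23.card_comap_mk' N₀ Kh
  set C := Subgroup.centralizer (N₀ : Set G) with hC
  have hCn : C.Normal := Subgroup.normal_centralizer
  have hTC : (T : Subgroup G) ≤ C := fun t ht =>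
    Subgroup.mem_centralizer_iff.mpr (fun n hn => (hcent t ht n hn).symm)
  have hN₀C : N₀ ≤ C := hN₀T.trans hTC
  -- K ⊓ C = N₀
  have hK₁n : (K ⊓ C).Normal := by
    refine ⟨fun x hx g => ⟨hKn.conj_mem x hx.1 g, hCn.conj_mem x hx.2 g⟩⟩
  have hN₀p : IsPGroup p N₀ := T.isPGroup'.to_le hN₀T
  have hrelK : N₀.relIndex K = Nat.card Kh := by
    have h1 := (N₀.subgroupOf K).card_mul_index
    have h2 : Nat.card (N₀.subgroupOf K) = Nat.card N₀ :=
      Nat.card_congr (Subgroup.subgroupOfEquivOfLe hN₀K).toEquiv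
    rw [h2, hKcard] at h1
    have hpos : 0 < Nat.card N₀ := Nat.card_pos
    exact Nat.eq_of_mul_eq_mul_left hpos h1
  have hrel : (N₀.relIndex (K ⊓ C)).Coprime p := by
    have h1 : N₀.relIndex (K ⊓ C) ∣ N₀.relIndex K :=
      Dvd.intro _ (Subgroup.relIndex_mul_relIndex N₀ (K ⊓ C) K (le_inf hN₀K hN₀C) inf_le_left)
    rw [hrelK] at h1
    exact Nat.Coprime.coprime_dvd_left h1 hKhcop
  have hkey : K ⊓ C = N₀ :=
    CASE1_aux_central hO (K ⊓ C) N₀ hK₁n inferInstance (le_inf hN₀K hN₀C) hN₀p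
      (fun x hx n hn => ((Subgroup.mem_centralizer_iff.mp hx.2) n hn).symm) hrel
  -- K normalizes T
  have hKT : K ≤ Subgroup.normalizer ((T : Subgroup G) : Set G) := by
    apply CASE1_aux_le_normalizer
    intro k hk t ht
    have hmemK : k * t * k⁻¹ * t⁻¹ ∈ K := by
      have : t * k⁻¹ * t⁻¹ ∈ K := hKn.conj_mem _ (K.inv_mem hk) t
      have h2 := K.mul_mem hk this
      simpa [mul_assoc] using h2
    have hmemC : k * t * k⁻¹ * t⁻¹ ∈ C :=
      C.mul_mem (hCn.conj_mem t (hTC ht) k) (C.inv_mem (hTC ht))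
    have hN : k * t * k⁻¹ * t⁻¹ ∈ N₀ := by
      rw [← hkey]; exact ⟨hmemK, hmemC⟩
    have := (T : Subgroup G).mul_mem (hN₀T hN) ht
    simpa [mul_assoc] using this
  -- the preimage of the normalizer of the image normalizes T
  have hNT : (Subgroup.normalizer (((T.mapSurjective hπs : Sylow p (G ⧸ N₀)) : Subgroup (G ⧸ N₀)) : Set (G ⧸ N₀))).comap
      (QuotientGroup.mk' N₀) ≤ Subgroup.normalizer ((T : Subgroup G) : Set G) := by
    apply CASE1_aux_le_normalizer
    intro g hg t ht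
    rw [Subgroup.mem_comap, Subgroup.mem_normalizer_iff] at hg
    have h1 : (QuotientGroup.mk' N₀) t ∈ ((T.mapSurjective hπs : Sylow p (G ⧸ N₀)) : Subgroup (G ⧸ N₀)) := by
      rw [Sylow.coe_mapSurjective]; exact Subgroup.mem_map_of_mem _ ht
    have h2 := (hg _).mp h1
    rw [Sylow.coe_mapSurjective] at h2
    obtain ⟨t', ht', ht'eq⟩ := h2
    have h3 : (QuotientGroup.mk' N₀) (t'⁻¹ * (g * t * g⁻¹)) = 1 := by
      rw [map_mul, map_inv, ht'eq, map_mul, map_mul, map_inv]
      group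
    have h4 : t'⁻¹ * (g * t * g⁻¹) ∈ N₀ := by
      rw [← QuotientGroup.ker_mk' N₀]; exact h3
    have := (T : Subgroup G).mul_mem ht' (hN₀T h4)
    simpa [mul_assoc] using this
  have htop : (⊤ : Subgroup G) ≤ Subgroup.normalizer ((T : Subgroup G) : Set G) := by
    have h1 : (⊤ : Subgroup G) = (⊤ : Subgroup (G ⧸ N₀)).comap (QuotientGroup.mk' N₀) := rfl
    rw [h1, ← hKhsup, ← Subgroup.comap_sup_eq _ _ _ hπs]
    exact sup_le hKT hNT
  exact Subgroup.normalizer_eq_top_iff.mp (top_le_iff.mp htop)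

end Cfsg.Agent.S4394P
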