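import Mathlib
import Cfsg.Prelude.Def_Transfer
import Cfsg.Agent.Helper4.S4404Defs
import Cfsg.Agent.Helper4.S4404W
import Cfsg.Agent.Helper15.S4404CNT
import Cfsg.Agent.Helper17.S4404AUTW
import Cfsg.Agent.Helper26.Replacement

/-! Board `s4404pieces`, row IIB5: `p = 5` is impossible. -/

set_option autoImplicit false
set_option linter.unusedVariables false
set_option linter.unusedSectionVars false

namespace Cfsg.Agent.S4404P

open Subgroup
open scoped commutatorElement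

variable {S : Type*} [Group S] [Finite S]

omit [Finite S] in
theorem IIB5_aux_mem_cent (x u : S) : u ∈ centralizer (zpowers x : Set S) ↔ x * u = u * x := by
  rw [mem_centralizer_iff]
  constructor
  · intro h
    exact h x (mem_zpowers x)
  · intro h g hg
    obtain ⟨n, rfl⟩ := mem_zpowers_iff.mp hg
    have hc : Commute x u := h
    exact (hc.zpow_left n).eq

omit [Finite S] in
theorem IIB5_aux_zpowers_le_cent (U : Subgroup S) (y : S) :
    U ≤ centralizer (zpowers y : Set S) ↔ y ∈ centralizer (U : Set S) := by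
  constructor
  · intro h
    rw [mem_centralizer_iff]
    intro u hu
    exact ((IIB5_aux_mem_cent y u).mp (h hu)).symm
  · intro h u hu
    rw [IIB5_aux_mem_cent]
    exact ((mem_centralizer_iff.mp h) u hu).symm

/-- a `5`-element normalising a group `U` of order `16` and not centralising it acts fixed-point-freely. -/
theorem IIB5_aux_fpf (Y U : Subgroup S) (hU : Nat.card ↥U = 16) (hY : IsPGroup 5 ↥Y)
    (hYU : Y ≤ normalizer (U : Set S)) (y : S) (hy : y ∈ Y) (hyc : y ∉ centralizer (U : Set S)) :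
    U ⊓ centralizer (zpowers y : Set S) = ⊥ := by
  have : Fact (Nat.Prime 5) := ⟨by norm_num⟩
  have hzY : zpowers y ≤ Y := (zpowers_le).mpr hy
  have h1 := card_modEq_card_cent 5 (zpowers y) U (hY.to_le hzY) (hzY.trans hYU)
  rw [hU] at h1
  have h2 : Nat.card ↥(U ⊓ centralizer (zpowers y : Set S)) ∣ 16 := by
    rw [← hU]
    exact Subgroup.card_dvd_of_le inf_le_left
  have h3 : Nat.card ↥(U ⊓ centralizer (zpowers y : Set S)) ≠ 16 := by
    intro h16
    apply hyc
    rw [← IIB5_aux_zpowers_le_cent]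
    have hge : Nat.card ↥U ≤ Nat.card ↥(U ⊓ centralizer (zpowers y : Set S)) := by rw [hU, h16]
    have := Subgroup.eq_of_le_of_card_ge (inf_le_left : U ⊓ centralizer (zpowers y : Set S) ≤ U) hge
    rw [← this]
    exact inf_le_right
  have h4 : Nat.card ↥(U ⊓ centralizer (zpowers y : Set S)) = 1 := by
    generalize Nat.card ↥(U ⊓ centralizer (zpowers y : Set S)) = c at h1 h2 h3
    have hle : c ≤ 16 := Nat.le_of_dvd (by norm_num) h2
    have h1' : 16 % 5 = c % 5 := h1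
    interval_cases c <;> omega
  exact (Subgroup.card_eq_one).mp h4

theorem two_b_five (M : Subgroup S) [M.Normal] (hM : Cfsg.IsElementaryAbelian 2 M) (x : S) (hxo : Odd (orderOf x))
    (hx3 : x ^ 3 ∈ centralizer (M : Set S)) (hW : Nat.card ↥(Wc M x) = 4)
    (Y U : Subgroup S) (hUM : U ≤ M) (hU : Nat.card ↥U = 16) (hWU : Wc M x ≤ U)
    (hY : IsPGroup 5 ↥Y) (hxY : x ∈ normalizer (Y : Set S)) (hYU : Y ≤ normalizer (U : Set S))
    (hnt : ¬ Y ≤ centralizer (U : Set S)) : False := by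
  have : Fact (Nat.Prime 5) := ⟨by norm_num⟩
  have : Fact (Nat.Prime 3) := ⟨by norm_num⟩
  -- an element `v` of `Y` not centralising `U`
  obtain ⟨v, hvY, hvc⟩ := SetLike.not_le_iff_exists.mp hnt
  have hxN : x ∈ normalizer (U : Set S) := mem_normalizer_of_Wc_le M x U hUM hWU
  -- the action on `U`
  set N : Subgroup S := normalizer (U : Set S) with hNdef
  set ψ : ↥N →* Equiv.Perm ↥U := AUTW_aux_hom N U le_rfl with hψ
  have hψapp : ∀ (b : ↥N) (u : ↥U), ((ψ b u : ↥U) : S) = (b : S) * u * (b : S)⁻¹ := fun b u => rfl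
  have hψone : ∀ b : ↥N, (b : S) ∈ centralizer (U : Set S) → ψ b = 1 := by
    intro b hb
    ext u
    rw [hψapp]
    have h3 := (mem_centralizer_iff.mp hb) (u : S) u.2
    simp only [Equiv.Perm.coe_one, id_eq]
    calc (b : S) * u * (b : S)⁻¹ = (u * (b : S)) * (b : S)⁻¹ := by rw [h3]
      _ = u := by group
  set Yt : Subgroup (Equiv.Perm ↥U) := (Y.subgroupOf N).map ψ with hYt
  have hYtp : IsPGroup 5 ↥Yt := (hY.comap_subtype).map ψ
  have hYtmem : ∀ h : Equiv.Perm ↥U, h ∈ Yt ↔ ∃ y : S, ∃ hy : y ∈ Y, h = ψ ⟨y, hYU hy⟩ := by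
    intro h
    constructor
    · rintro ⟨b, hb, rfl⟩
      exact ⟨(b : S), hb, rfl⟩
    · rintro ⟨y, hy, rfl⟩
      exact ⟨⟨y, hYU hy⟩, hy, rfl⟩
  set xt : Equiv.Perm ↥U := ψ ⟨x, hxN⟩ with hxt
  -- `xt ^ 3 = 1`
  have hxt3 : xt ^ 3 = 1 := by
    rw [hxt, ← map_pow]
    apply hψone
    have hc : centralizer (M : Set S) ≤ centralizer (U : Set S) := centralizer_le hUM
    exact hc hx3
  have h3grp : IsPGroup 3 ↥(zpowers xt) := by
    rintro ⟨g, hg⟩
    refine ⟨1, ?_⟩
    obtain ⟨n, rfl⟩ := mem_zpowers_iff.mp hg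
    apply Subtype.ext
    change (xt ^ n) ^ 3 ^ 1 = 1
    rw [pow_one, ← zpow_natCast, ← zpow_mul, mul_comm, zpow_mul, zpow_natCast, hxt3, one_zpow]
  -- `xt` normalises `Yt`
  have hxtN : zpowers xt ≤ normalizer (Yt : Set (Equiv.Perm ↥U)) := by
    rw [zpowers_le, mem_normalizer_iff]
    intro h
    constructor
    · intro hh
      obtain ⟨y, hy, rfl⟩ := (hYtmem h).mp hh
      have hy' : x * y * x⁻¹ ∈ Y := (mem_normalizer_iff.mp hxY y).mp hy
      rw [hYtmem]
      refine ⟨x * y * x⁻¹, hy', ?_⟩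
      rw [hxt, ← map_inv, ← map_mul, ← map_mul]
      rfl
    · intro hh
      obtain ⟨y, hy, hyeq⟩ := (hYtmem _).mp hh
      have hy' : x⁻¹ * y * x ∈ Y := by
        have := (mem_normalizer_iff.mp (inv_mem hxY) y).mp hy
        simpa using this
      rw [hYtmem]
      refine ⟨x⁻¹ * y * x, hy', ?_⟩
      have e1 : h = xt⁻¹ * (xt * h * xt⁻¹) * xt := by group
      rw [e1, hyeq, hxt, ← map_inv, ← map_mul, ← map_mul]
      rfl
  -- semiregularity
  have hsemi : ∀ y ∈ Y, ∀ u ∈ U, u ≠ 1 → y * u * y⁻¹ = u → y ∈ centralizer (U : Set S) := by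
    intro y hy u hu hu1 hfix
    by_contra hyc
    have hbot := IIB5_aux_fpf Y U hU hY hYU y hy hyc
    have hc : u ∈ centralizer (zpowers y : Set S) := by
      rw [IIB5_aux_mem_cent]
      calc y * u = y * u * y⁻¹ * y := by group
        _ = u * y := by rw [hfix]
    have hmem : u ∈ U ⊓ centralizer (zpowers y : Set S) := mem_inf.mpr ⟨hu, hc⟩
    rw [hbot, mem_bot] at hmem
    exact hu1 hmem
  -- a nontrivial element of `U`
  have hUnt : ∃ u₀ : S, u₀ ∈ U ∧ u₀ ≠ 1 := by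
    by_contra hcon
    have hbot : U = ⊥ := by
      rw [eq_bot_iff]
      intro u hu
      rw [mem_bot]
      by_contra hu1
      exact hcon ⟨u, hu, hu1⟩
    rw [hbot, Subgroup.card_bot] at hU
    omega
  obtain ⟨u₀, hu₀U, hu₀1⟩ := hUnt
  -- `|Yt| ≤ 16`
  have hYtle : Nat.card ↥Yt ≤ 16 := by
    rw [← hU]
    let _ : Fintype ↥U := Fintype.ofFinite _
    apply Nat.card_le_card_of_injective (fun h : ↥Yt => (h : Equiv.Perm ↥U) ⟨u₀, hu₀U⟩)
    intro h h' hhh'
    have hhh'' : (h : Equiv.Perm ↥U) ⟨u₀, hu₀U⟩ = (h' : Equiv.Perm ↥U) ⟨u₀, hu₀U⟩ := hhh'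
    have hmem : (h : Equiv.Perm ↥U)⁻¹ * (h' : Equiv.Perm ↥U) ∈ Yt := Yt.mul_mem (Yt.inv_mem h.2) h'.2
    obtain ⟨y, hy, hyeq⟩ := (hYtmem _).mp hmem
    have hfix : ((h : Equiv.Perm ↥U)⁻¹ * (h' : Equiv.Perm ↥U)) ⟨u₀, hu₀U⟩ = ⟨u₀, hu₀U⟩ := by
      rw [Equiv.Perm.mul_apply, ← hhh'']
      simp
    rw [hyeq] at hfix
    have hfix' := congrArg Subtype.val hfix
    rw [hψapp] at hfix'
    have hyc := hsemi y hy u₀ hu₀U hu₀1 hfix'
    have hone := hψone ⟨y, hYU hy⟩ hyc
    rw [hone] at hyeq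
    apply Subtype.ext
    have e : (h' : Equiv.Perm ↥U) = (h : Equiv.Perm ↥U) * ((h : Equiv.Perm ↥U)⁻¹ * (h' : Equiv.Perm ↥U)) := by
      group
    rw [e, hyeq, mul_one]
  -- `Yt ≠ ⊥`
  have hvt : ψ ⟨v, hYU hvY⟩ ∈ Yt := (hYtmem _).mpr ⟨v, hvY, rfl⟩
  have hvt1 : ψ ⟨v, hYU hvY⟩ ≠ 1 := by
    intro h1
    apply hvc
    rw [mem_centralizer_iff]
    intro u hu
    have h2 : ψ ⟨v, hYU hvY⟩ ⟨u, hu⟩ = ⟨u, hu⟩ := by rw [h1]; rfl
    have h3 := congrArg Subtype.val h2
    rw [hψapp] at h3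
    simp only at h3
    calc u * v = (v * u * v⁻¹) * v := by rw [h3]
      _ = v * u := by group
  have hYt5 : Nat.card ↥Yt = 5 := by
    obtain ⟨k, hk⟩ := IsPGroup.iff_card.mp hYtp
    have hk0 : k ≠ 0 := by
      intro h0
      rw [h0, pow_zero] at hk
      have hbot := (Subgroup.card_eq_one).mp hk
      rw [hbot, mem_bot] at hvt
      exact hvt1 hvt
    have hk1 : k ≤ 1 := by
      by_contra hk2
      have hk2 : 2 ≤ k := by omega
      have : 5 ^ 2 ≤ 5 ^ k := Nat.pow_le_pow_right (by norm_num) hk2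
      rw [← hk] at this
      omega
    have : k = 1 := by omega
    rw [hk, this, pow_one]
  -- `xt` centralises `Yt`
  have hcentr : Yt ≤ centralizer (zpowers xt : Set (Equiv.Perm ↥U)) := by
    have h1 := card_modEq_card_cent 3 (zpowers xt) Yt h3grp hxtN
    rw [hYt5] at h1
    have h2 : Nat.card ↥(Yt ⊓ centralizer (zpowers xt : Set (Equiv.Perm ↥U))) ∣ 5 := by
      rw [← hYt5]
      exact Subgroup.card_dvd_of_le inf_le_left
    have h4 : Nat.card ↥(Yt ⊓ centralizer (zpowers xt : Set (Equiv.Perm ↥U))) = 5 := by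
      generalize Nat.card ↥(Yt ⊓ centralizer (zpowers xt : Set (Equiv.Perm ↥U))) = c at h1 h2
      have hle : c ≤ 5 := Nat.le_of_dvd (by norm_num) h2
      have h1' : 5 % 3 = c % 3 := h1
      interval_cases c <;> omega
    have hge : Nat.card ↥Yt ≤ Nat.card ↥(Yt ⊓ centralizer (zpowers xt : Set (Equiv.Perm ↥U))) := by
      rw [hYt5, h4]
    have := Subgroup.eq_of_le_of_card_ge
      (inf_le_left : Yt ⊓ centralizer (zpowers xt : Set (Equiv.Perm ↥U)) ≤ Yt) hge
    rw [← this]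
    exact inf_le_right
  -- hence every `y ∈ Y` commutes with `x` on `U`
  have hcomm : ∀ y ∈ Y, ∀ u ∈ U, x * (y * u * y⁻¹) * x⁻¹ = y * (x * u * x⁻¹) * y⁻¹ := by
    intro y hy u hu
    have hyt : ψ ⟨y, hYU hy⟩ ∈ Yt := (hYtmem _).mpr ⟨y, hy, rfl⟩
    have h1 := (IIB5_aux_mem_cent xt _).mp (hcentr hyt)
    have h2 := congrArg (fun f : Equiv.Perm ↥U => ((f ⟨u, hu⟩ : ↥U) : S)) h1
    simp only [Equiv.Perm.mul_apply] at h2
    rw [hxt, hψapp, hψapp, hψapp, hψapp] at h2
    exact h2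
  -- the centraliser `D` of `x` in `U`
  set D : Subgroup S := U ⊓ centralizer (zpowers x : Set S) with hD
  have hDinv : ∀ y ∈ Y, ∀ u ∈ D, y * u * y⁻¹ ∈ D := by
    intro y hy u hu
    have huU : u ∈ U := hu.1
    have hux : x * u = u * x := (IIB5_aux_mem_cent x u).mp hu.2
    have hux' : x * u * x⁻¹ = u := by rw [hux]; group
    have hc : y * u * y⁻¹ ∈ centralizer (zpowers x : Set S) := by
      rw [IIB5_aux_mem_cent]
      have h1 := hcomm y hy u huU
      rw [hux'] at h1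
      calc x * (y * u * y⁻¹) = x * (y * u * y⁻¹) * x⁻¹ * x := by group
        _ = y * u * y⁻¹ * x := by rw [h1]
    exact mem_inf.mpr ⟨(mem_normalizer_iff.mp (hYU hy) u).mp huU, hc⟩
  have hvND : zpowers v ≤ normalizer (D : Set S) := by
    rw [zpowers_le, mem_normalizer_iff]
    intro u
    constructor
    · intro hu
      exact hDinv v hvY u hu
    · intro hu
      have := hDinv v⁻¹ (Y.inv_mem hvY) _ hu
      have e : v⁻¹ * (v * u * v⁻¹) * v⁻¹⁻¹ = u := by group
      rwa [e] at this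
  -- `|D|` is `4` or `8`
  obtain ⟨hWbot, -, hMcard⟩ := Wc_coprime M hM x hxo
  have hDdvd : Nat.card ↥D ∣ 16 := by
    rw [← hU]
    exact Subgroup.card_dvd_of_le inf_le_left
  have hDne : Nat.card ↥D ≠ 16 := by
    intro h16
    have hge : Nat.card ↥U ≤ Nat.card ↥D := by rw [hU, h16]
    have hDU : D = U := Subgroup.eq_of_le_of_card_ge (inf_le_left : D ≤ U) hge
    have hWle : Wc M x ≤ Wc M x ⊓ centralizer (zpowers x : Set S) := by
      intro w hw
      refine ⟨hw, ?_⟩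
      have : w ∈ D := by rw [hDU]; exact hWU hw
      exact this.2
    rw [hWbot, le_bot_iff] at hWle
    rw [hWle, Subgroup.card_bot] at hW
    omega
  have hDge : 4 ≤ Nat.card ↥D := by
    have h1 := Cfsg.Agent.Helper26.card_mul_card_le_inf_sup U (M ⊓ centralizer (zpowers x : Set S))
    have h2 : U ⊓ (M ⊓ centralizer (zpowers x : Set S)) = D := by
      rw [hD, ← inf_assoc, inf_eq_left.mpr hUM]
    have h3 : Nat.card ↥(U ⊔ (M ⊓ centralizer (zpowers x : Set S))) ≤ Nat.card ↥M :=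
      Subgroup.card_le_of_le (sup_le hUM inf_le_left)
    rw [h2, hU] at h1
    have hpos : 0 < Nat.card ↥(M ⊓ centralizer (zpowers x : Set S)) := Nat.card_pos
    rw [hMcard, hW] at h3
    have h4 : 16 * Nat.card ↥(M ⊓ centralizer (zpowers x : Set S)) ≤
        Nat.card ↥D * (Nat.card ↥(M ⊓ centralizer (zpowers x : Set S)) * 4) :=
      h1.trans (Nat.mul_le_mul_left _ h3)
    by_contra hlt
    have hlt' : Nat.card ↥D ≤ 3 := by omega
    have h5 : Nat.card ↥D * (Nat.card ↥(M ⊓ centralizer (zpowers x : Set S)) * 4) ≤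
        3 * (Nat.card ↥(M ⊓ centralizer (zpowers x : Set S)) * 4) := Nat.mul_le_mul_right _ hlt'
    omega
  -- final count
  have hfin := card_modEq_card_cent 5 (zpowers v) D (hY.to_le ((zpowers_le).mpr hvY)) hvND
  have hbot : D ⊓ centralizer (zpowers v : Set S) = ⊥ := by
    rw [eq_bot_iff, ← IIB5_aux_fpf Y U hU hY hYU v hvY hvc]
    exact inf_le_inf_right _ inf_le_left
  rw [hbot, Subgroup.card_bot] at hfin
  generalize Nat.card ↥D = d at hfin hDdvd hDne hDge
  have hle : d ≤ 16 := Nat.le_of_dvd (by norm_num) hDdvd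
  have hfin' : d % 5 = 1 % 5 := hfin
  interval_cases d <;> omega

end Cfsg.Agent.S4404P
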