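import Mathlib
import Cfsg.Prelude.Def_Solvable
import Cfsg.Prelude.Def_Transfer
import Cfsg.Agent.Helper11.S4409Defs
import Cfsg.Agent.Helper1.S4409NQ8
import Cfsg.Agent.Helper1.S4409TB2
import Cfsg.Agent.Helper10.S4409CA3
import Cfsg.Agent.Helper10.S4409Q6
import Cfsg.Agent.Helper11.S4409Q0
import Cfsg.Agent.Helper11.S4409Q1
import Cfsg.Agent.Helper14.S4409CYCAUT
import Cfsg.Agent.Helper14.S4409TB1
import Cfsg.Agent.Helper14.S4409V3
import Cfsg.Agent.Helper15.S4409CA1N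
import Cfsg.Agent.Helper15.S4409CA2
import Cfsg.Agent.Helper16.S4409Q4
import Cfsg.Agent.Helper16.S4409Q5
import Cfsg.Agent.Helper16.S4409TY
import Cfsg.Agent.Helper17.S4409E2
import Cfsg.Agent.Helper17.S4409F2
import Cfsg.Agent.Helper19.S4409ABLACK
import Cfsg.Agent.Helper19.S4409Q3
import Cfsg.Agent.Helper20.S4409CA4
import Cfsg.Agent.Helper20.S4409STEP0
import Cfsg.Agent.Helper21.S44093SUB
import Cfsg.Agent.Helper21.S4409E1
import Cfsg.Agent.Helper22.S4409V5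
import Cfsg.Agent.Helper25.S4409CARDSUP
import Cfsg.Agent.Helper25.S4409F1
import Cfsg.Agent.Helper3.S4409CFIT
import Cfsg.Agent.Helper3.S4409HALL2
import Cfsg.Agent.Helper3.S4409P2BQ
import Cfsg.Agent.Helper3.S4409PCORE
import Cfsg.Agent.Helper4.S4409AB8
import Cfsg.Agent.Helper5.S4409TA
import Cfsg.Agent.Helper6.S4409CA1
import Cfsg.Agent.Helper6.S4409Q2
import Cfsg.Agent.Helper7.S4409E1N
import Cfsg.Agent.Helper7.S4409E3
import Cfsg.Agent.Helper7.S4409P2A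
import Cfsg.Agent.Helper8.S4409NV4
import Cfsg.Agent.Helper8.S4409P2BV
import Cfsg.Agent.Helper8.S4409TR
import Cfsg.Agent.Helper9.S4409F
import Cfsg.Agent.Helper9.S4409V

/-! Board `s4409pieces`: the assemblies `tcore`, `claim`, `struct`, `sylow_eq_pcore`, `main` (helper11). -/

set_option autoImplicit false
set_option linter.unusedVariables false
set_option linter.unusedSectionVars false

namespace Cfsg.Agent.S4409P

open Subgroup
open scoped commutatorElement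

variable {S : Type*} [Group S] [Finite S]

/-- TCORE -/
theorem tcore (X K : Subgroup S) (hX : IsPGroup 2 ↥X) (hK : Odd (Nat.card ↥K)) (hKX : K ≤ normalizer (X : Set S))
    (hXK : ⁅X, K⁆ = X) (hna : ¬ IsAb X) (hM : MinA X K) (hI : IHyp X K) :
    SpecialInt X ∧ (Nat.card ↥(Zc X) = 4 ∨ (Nat.card ↥(Zc X) = 2 ∧ (IsQ8 X ∨ 32 ≤ Nat.card ↥X))) := by
  have hne : X ≠ ⊥ := by
    rintro rfl
    apply hna
    intro x hx y hy
    rw [mem_bot] at hx hy
    rw [hx, hy]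
  obtain ⟨Y, hY1, hY2, hY3, hY4, hY5⟩ := exists_max_inv X K hX hne hKX
  by_cases hYK : ⁅Y, K⁆ = ⊥
  · exact tcore_a X K Y hX hK hKX hXK hna hM hY1 hY2 hY3 hY4 hY5 hYK
  · rcases hI Y hY2 hY3 hY4 hYK with hV | hQ
    · obtain ⟨h1, h2⟩ := tcore_b1 X K Y hX hK hKX hXK hna hY1 hY2 hY3 hY4 hY5 hV hYK
      exact ⟨h1, Or.inl h2⟩
    · obtain ⟨h1, h2, h3⟩ := tcore_b2 X K Y hX hK hKX hXK hna hI hY1 hY2 hY3 hY4 hY5 hQ hYK
      exact ⟨h1, Or.inr ⟨h2, Or.inr (by rw [h3])⟩⟩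

theorem ASM_aux_card_lt {Y L : Subgroup S} (hYL : Y ≤ L) (hne : Y ≠ L) : Nat.card ↥Y < Nat.card ↥L := by
  rcases lt_or_ge (Nat.card ↥Y) (Nat.card ↥L) with h | h
  · exact h
  · exact absurd (Subgroup.eq_of_le_of_card_ge hYL h) hne

theorem ASM_aux_two_pow {L : Subgroup S} (hL : IsPGroup 2 ↥L) {c : S} (hc : c ∈ L) : ∃ n : ℕ, c ^ (2 ^ n) = 1 := by
  obtain ⟨n, hn⟩ := hL ⟨c, hc⟩
  refine ⟨n, ?_⟩
  have := congrArg Subtype.val hn
  simpa using this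

/-- CLAIM (induction) -/
theorem claim_aux : ∀ (n : ℕ) (L K : Subgroup S), Nat.card ↥L ≤ n → IsPGroup 2 ↥L → Odd (Nat.card ↥K) →
    K ≤ normalizer (L : Set S) → ⁅L, K⁆ ≠ ⊥ → ¬ HasA L → VQ L := by
  intro n
  induction n with
  | zero =>
    intro L K hn
    exact absurd hn (by have := Nat.card_pos (α := ↥L); omega)
  | succ n ih =>
    intro L K hn hL hK hKL hne hA
    have hL1L : ⁅L, K⁆ ≤ L := comm_le L K hKL
    obtain ⟨hLn, hKn⟩ := comm_normal L K hKL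
    have hL1p : IsPGroup 2 ↥(⁅L, K⁆ : Subgroup S) := hL.to_le hL1L
    have hL1K : ⁅⁅L, K⁆, K⁆ = ⁅L, K⁆ := comm_comm L K hL hK hKL
    have hne1 : ⁅⁅L, K⁆, K⁆ ≠ ⊥ := by rw [hL1K]; exact hne
    have hA1 : ¬ HasA ⁅L, K⁆ := fun h => hA (h.mono hL1L)
    have hVQ1 : VQ ⁅L, K⁆ := by
      by_cases hab : IsAb ⁅L, K⁆
      · rcases cyclic_or_v4_of_abelian _ hL1p hab hA1 with hc | hv
        · exact absurd (comm_eq_bot_of_cyclic _ K hL1p hc hK hKn) hne1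
        · exact Or.inl hv
      · have hM : MinA ⁅L, K⁆ K := fun Y hY _ _ h => hA (h.mono (hY.trans hL1L))
        have hI : IHyp ⁅L, K⁆ K := by
          intro Y hY hYne hKY hYK
          have hlt : Nat.card ↥Y < Nat.card ↥(⁅L, K⁆ : Subgroup S) := ASM_aux_card_lt hY hYne
          have hle : Nat.card ↥(⁅L, K⁆ : Subgroup S) ≤ Nat.card ↥L := Subgroup.card_le_of_le hL1L
          exact ih Y K (by omega) (hL1p.to_le hY) hK hKY hYK (fun h => hA (h.mono (hY.trans hL1L)))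
        obtain ⟨hs, h4 | ⟨h2, hq | h32⟩⟩ := tcore _ K hL1p hK hKn hL1K hab hM hI
        · exact absurd (sp_hasA _ hL1p hs h4) hA1
        · exact Or.inr hq
        · exact absurd (es_hasA _ hL1p hs h2 (by omega)) hA1
    have hsup := comm_sup_cent L K hL hK hKL
    have hC : L ⊓ centralizer (K : Set S) ≤ ⁅L, K⁆ := by
      intro c hc
      by_contra hcL1
      have hc2 : ∃ n : ℕ, c ^ (2 ^ n) = 1 := ASM_aux_two_pow hL hc.1
      have hcN : c ∈ normalizer ((⁅L, K⁆ : Subgroup S) : Set S) := hLn hc.1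
      have hle : ⁅L, K⁆ ⊔ zpowers c ≤ L := sup_le hL1L ((zpowers_le).mpr hc.1)
      rcases hVQ1 with hv | hq
      · have hcc := v4_cen _ K hv hK hKn hne1 c hcN hc.2 hc2
        exact hA ((v4_hasA _ hv c hcc hcL1 hc2).mono hle)
      · have hcc := q8_cen _ K hq hK hKn hne1 c hcN hc.2 hc2
        exact hA ((q8_hasA _ hq c hcc hcL1 hc2).mono hle)
    have heq : L = ⁅L, K⁆ := le_antisymm (by
      calc L = ⁅L, K⁆ ⊔ (L ⊓ centralizer (K : Set S)) := hsup.symm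
        _ ≤ ⁅L, K⁆ := sup_le le_rfl hC) hL1L
    rw [heq]
    exact hVQ1

/-- CLAIM : a `2`-group without `HasA` on which a group of odd order acts nontrivially is `V4` or `Q8`. -/
theorem claim (L K : Subgroup S) (hL : IsPGroup 2 ↥L) (hK : Odd (Nat.card ↥K))
    (hKL : K ≤ normalizer (L : Set S)) (hne : ⁅L, K⁆ ≠ ⊥) (hA : ¬ HasA L) : VQ L :=
  claim_aux (Nat.card ↥L) L K le_rfl hL hK hKL hne hA

/-- STRUCT -/
theorem struct (X K : Subgroup S) (hX : IsPGroup 2 ↥X) (hK : Odd (Nat.card ↥K)) (hKX : K ≤ normalizer (X : Set S))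
    (hA : HasA X) (hM : MinA X K) :
    IsAb X ∨ (SpecialInt X ∧ Nat.card ↥(Zc X) = 2 ∧ 32 ≤ Nat.card ↥X) ∨
      (∃ X₀ : Subgroup S, X₀ ≤ X ∧ X₀.relIndex X = 2 ∧ Nonempty (↥X₀ ≃* QuaternionGroup 2) ∧
        X₀ ⊔ (X ⊓ centralizer (X₀ : Set S)) = X) ∨
      (SpecialInt X ∧ Nat.card ↥(Zc X) = 4) := by
  by_cases h0 : ⁅X, K⁆ = ⊥
  · exact Or.inl (struct_triv X K hA hM h0)
  by_cases h1 : ⁅X, K⁆ = X
  · by_cases hab : IsAb X
    · exact Or.inl hab
    have hI : IHyp X K := fun Y hY hYne hKY hYK => claim Y K (hX.to_le hY) hK hKY hYK (hM Y hY hYne hKY)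
    obtain ⟨hs, h4 | ⟨h2, hq | h32⟩⟩ := tcore X K hX hK hKX h1 hab hM hI
    · exact Or.inr (Or.inr (Or.inr ⟨hs, h4⟩))
    · exfalso
      obtain ⟨A, hAX, hAc, hAnc, hA8⟩ := hA
      have hAeq : A = X := Subgroup.eq_of_le_of_card_ge hAX (by rw [hA8, hq.1])
      apply hab
      rw [isAb_iff]
      subst hAeq
      exact hAc
    · exact Or.inr (Or.inl ⟨hs, h2, h32⟩)
  · have hle := comm_le X K hKX
    obtain ⟨hXn, hKn⟩ := comm_normal X K hKX
    have hne1 : ⁅⁅X, K⁆, K⁆ ≠ ⊥ := by rw [comm_comm X K hX hK hKX]; exact h0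
    have hVQ : VQ ⁅X, K⁆ := claim _ K (hX.to_le hle) hK hKn hne1 (hM _ hle h1 hKn)
    rcases hVQ with hv | hq
    · exact Or.inl (struct_v4 X K hX hK hKX hM h1 hv)
    · exact Or.inr (Or.inr (Or.inl (struct_q8 X K hX hK hKX hM h1 hq)))

end Cfsg.Agent.S4409P
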