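import Mathlib
import Cfsg.Prelude.Def_Solvable
import Cfsg.Prelude.Def_Transfer
import Cfsg.Agent.Helper11.S4409Defs
import Cfsg.Agent.Helper11.S4409ASM

/-! Board `s4409pieces`: the assemblies `sylow_eq_pcore` (XNORM) and `main` (helper11). -/

set_option autoImplicit false
set_option linter.unusedVariables false
set_option linter.unusedSectionVars false

namespace Cfsg.Agent.S4409P

open Subgroup
open scoped commutatorElement

variable {S : Type*} [Group S] [Finite S]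

/-- the index of `Y ⊔ K` (`Y ≤ X` a `K`-invariant `2`-group, `K` a `2`-complement) is a power of `2`, and it is `1` only if `Y = X`. -/
theorem ASM_aux_index (X : Sylow 2 S) (K Y : Subgroup S) (hKc : Nat.card ↥K * Nat.card ↥X = Nat.card S)
    (hKo : Odd (Nat.card ↥K)) (hY : Y ≤ (X : Subgroup S)) (hKY : K ≤ normalizer (Y : Set S)) :
    (∃ k : ℕ, (Y ⊔ K).index = 2 ^ k) ∧ (Y ≠ (X : Subgroup S) → Y ⊔ K ≠ ⊤) := by
  have hYp : IsPGroup 2 ↥Y := X.isPGroup'.to_le hY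
  have hc := card_sup Y K hYp hKo hKY
  have hKpos : 0 < Nat.card ↥K := Nat.card_pos
  have hmul : (Y ⊔ K).index * Nat.card ↥Y = Nat.card ↥X := by
    have h1 := Subgroup.card_mul_index (Y ⊔ K)
    rw [hc, ← hKc] at h1
    -- |Y| * |K| * idx = |K| * |X|
    have h2 : Nat.card ↥K * ((Y ⊔ K).index * Nat.card ↥Y) = Nat.card ↥K * Nat.card ↥X := by
      rw [← h1]; ring
    exact Nat.eq_of_mul_eq_mul_left hKpos h2
  obtain ⟨a, ha⟩ := IsPGroup.iff_card.mp X.isPGroup'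
  have hdvd : (Y ⊔ K).index ∣ 2 ^ a := by
    rw [← ha]; exact Dvd.intro _ hmul
  obtain ⟨k, _, hk⟩ := (Nat.dvd_prime_pow Nat.prime_two).mp hdvd
  refine ⟨⟨k, hk⟩, ?_⟩
  intro hne htop
  rw [htop, Subgroup.index_top, one_mul] at hmul
  exact hne (Subgroup.eq_of_le_of_card_ge hY (le_of_eq hmul.symm))

/-- XNORM : the Sylow `2`-subgroup is `O_2(S)`. -/
theorem sylow_eq_pcore [Group.IsSolvable S] (hO : Cfsg.pPrimeCore 2 S = ⊥)
    (h8 : ∃ A : Subgroup S, IsMulCommutative ↥A ∧ ¬ IsCyclic ↥A ∧ Nat.card ↥A = 8)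
    (hmin : ∀ R : Subgroup S, R ≠ ⊤ → (∃ k : ℕ, R.index = 2 ^ k) →
      ¬ ∃ A : Subgroup S, A ≤ R ∧ IsMulCommutative ↥A ∧ ¬ IsCyclic ↥A ∧ Nat.card ↥A = 8)
    (X : Sylow 2 S) : Cfsg.pCore 2 S = (X : Subgroup S) := by
  obtain ⟨hNn, hNp, hNle⟩ := pcore_facts (S := S)
  by_contra hne
  obtain ⟨K, hKc, hKo⟩ := exists_two_compl X
  have hKN : K ≤ normalizer ((Cfsg.pCore 2 S : Subgroup S) : Set S) := by
    rw [Subgroup.normalizer_eq_top]; exact le_top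
  obtain ⟨hidx, htop⟩ := ASM_aux_index X K (Cfsg.pCore 2 S) hKc hKo (hNle X) hKN
  have hAN : ¬ HasA (Cfsg.pCore 2 S) := by
    rintro ⟨A, hA, h1, h2, h3⟩
    exact hmin _ (htop hne) hidx ⟨A, hA.trans le_sup_left, h1, h2, h3⟩
  have hcomm : ⁅(Cfsg.pCore 2 S : Subgroup S), K⁆ ≠ ⊥ := by
    intro h0
    rw [Subgroup.commutator_comm, Subgroup.commutator_eq_bot_iff_le_centralizer] at h0
    have hKle : K ≤ Cfsg.pCore 2 S := h0.trans (cent_pcore_le hO)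
    have hK2 : IsPGroup 2 ↥K := hNp.to_le hKle
    obtain ⟨b, hb⟩ := IsPGroup.iff_card.mp hK2
    have hb0 : b = 0 := by
      by_contra hb0
      rw [hb] at hKo
      exact (Nat.not_even_iff_odd.mpr hKo) (Nat.even_pow.mpr ⟨even_two, hb0⟩)
    rw [hb0, pow_zero] at hb
    rw [hb, one_mul] at hKc
    have hXtop : (X : Subgroup S) = ⊤ := (Subgroup.card_eq_iff_eq_top (X : Subgroup S)).mp hKc
    apply hne
    apply le_antisymm (hNle X)
    rw [hXtop]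
    refine le_sSup ⟨?_, ?_⟩
    · infer_instance
    · have := X.isPGroup'
      rw [hXtop] at this
      exact this
  have hVQ : VQ (Cfsg.pCore 2 S) := claim _ K hNp hKo hKN hcomm hAN
  obtain ⟨A, hAc, hAnc, hA8⟩ := h8
  have hA2 : IsPGroup 2 ↥A := IsPGroup.of_card (n := 3) (by rw [hA8]; norm_num)
  obtain ⟨Q, hQ⟩ := hA2.exists_le_sylow
  have hHQ : HasA (Q : Subgroup S) := ⟨A, hQ, hAc, hAnc, hA8⟩
  rcases hVQ with hv | hq
  · exact no_hasA_over_v4 _ _ hv hNn (cent_pcore_le hO) Q.isPGroup' (hNle Q) hHQ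
  · exact no_hasA_over_q8 _ _ hq hNn (cent_pcore_le hO) Q.isPGroup' (hNle Q) hHQ

/-- MAIN (internal form) -/
theorem main [Group.IsSolvable S] (hO : Cfsg.pPrimeCore 2 S = ⊥)
    (h8 : ∃ A : Subgroup S, IsMulCommutative ↥A ∧ ¬ IsCyclic ↥A ∧ Nat.card ↥A = 8)
    (hmin : ∀ R : Subgroup S, R ≠ ⊤ → (∃ k : ℕ, R.index = 2 ^ k) →
      ¬ ∃ A : Subgroup S, A ≤ R ∧ IsMulCommutative ↥A ∧ ¬ IsCyclic ↥A ∧ Nat.card ↥A = 8)
    (X : Sylow 2 S) :
    (X : Subgroup S).Normal ∧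
      (IsAb (X : Subgroup S) ∨ (SpecialInt (X : Subgroup S) ∧ Nat.card ↥(Zc (X : Subgroup S)) = 2 ∧ 32 ≤ Nat.card ↥X) ∨
      (∃ X₀ : Subgroup S, X₀ ≤ (X : Subgroup S) ∧ X₀.relIndex (X : Subgroup S) = 2 ∧ Nonempty (↥X₀ ≃* QuaternionGroup 2) ∧
        X₀ ⊔ ((X : Subgroup S) ⊓ centralizer (X₀ : Set S)) = (X : Subgroup S)) ∨
      (SpecialInt (X : Subgroup S) ∧ Nat.card ↥(Zc (X : Subgroup S)) = 4)) := by
  have hXN := sylow_eq_pcore hO h8 hmin X
  obtain ⟨hNn, hNp, hNle⟩ := pcore_facts (S := S)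
  have hXn : (X : Subgroup S).Normal := hXN ▸ hNn
  refine ⟨hXn, ?_⟩
  obtain ⟨K, hKc, hKo⟩ := exists_two_compl X
  have hKX : K ≤ normalizer ((X : Subgroup S) : Set S) := by
    rw [Subgroup.normalizer_eq_top]; exact le_top
  have hA : HasA (X : Subgroup S) := by
    obtain ⟨A, hAc, hAnc, hA8⟩ := h8
    have hA2 : IsPGroup 2 ↥A := IsPGroup.of_card (n := 3) (by rw [hA8]; norm_num)
    obtain ⟨Q, hQ⟩ := hA2.exists_le_sylow
    have hQX : (Q : Subgroup S) = (X : Subgroup S) := by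
      have h1 : (X : Subgroup S) ≤ (Q : Subgroup S) := hXN ▸ hNle Q
      have h2 : Nat.card ↥(Q : Subgroup S) = Nat.card ↥(X : Subgroup S) := by
        have : Fact (Nat.Prime 2) := ⟨Nat.prime_two⟩
        rw [Sylow.card_eq_multiplicity Q, Sylow.card_eq_multiplicity X]
      exact (Subgroup.eq_of_le_of_card_ge h1 (le_of_eq h2)).symm
    exact ⟨A, hQX ▸ hQ, hAc, hAnc, hA8⟩
  have hM : MinA (X : Subgroup S) K := by
    intro Y hY hYne hKY hAY
    obtain ⟨hidx, htop⟩ := ASM_aux_index X K Y hKc hKo hY hKY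
    obtain ⟨A, hAY', h1, h2, h3⟩ := hAY
    exact hmin _ (htop hYne) hidx ⟨A, hAY'.trans le_sup_left, h1, h2, h3⟩
  exact struct (X : Subgroup S) K X.isPGroup' hKo hKX hA hM

end Cfsg.Agent.S4409P
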