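import Mathlib
import Cfsg.Prelude.Def_Characters
import Cfsg.Agent.Helper24.CenterIndex
import Cfsg.Agent.Helper24.ReeP9
import Cfsg.Agent.Helper11.Transfer
import Cfsg.Agent.Helper17.Basic
set_option autoImplicit false
namespace Cfsg.Agent.S4751P
open scoped ComplexConjugate
universe u
variable {G : Type u} [Group G] [Finite G]

/-- IDX6 -/
theorem centralizer_index_eq_six (χ : G → ℂ) (hχ : Cfsg.IsIrrCharacter G χ) (h3 : χ 1 = 3)
    (P : Subgroup G) [P.Normal] (hP4 : Nat.card P = 4)
    (hC : Subgroup.centralizer (P : Set G) = P ⊔ Subgroup.center G)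
    (hPZ : P ⊓ Subgroup.center G = ⊥) (hZodd : ¬ 2 ∣ Nat.card (Subgroup.center G))
    (h8 : 8 ∣ Nat.card G) : (Subgroup.centralizer (P : Set G)).index = 6 := by
  set Z := Subgroup.center G with hZ
  set C := Subgroup.centralizer (P : Set G) with hCdef
  -- |C| = 4 |Z|
  have hcardC : Nat.card C = 4 * Nat.card Z := by
    have h := Cfsg.Agent.Helper17.card_sup_mul_card_inf_of_normal P Z
    rw [hPZ, Subgroup.card_bot, mul_one, hP4, ← hC] at h
    exact h
  -- index divides 6
  have hdvd6 : C.index ∣ 6 := by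
    have h := Cfsg.Agent.Helper11.relIndex_centralizer_normalizer_dvd_card_mulAut P
    rw [Subgroup.normalizer_eq_top, Subgroup.relIndex_top_right] at h
    exact h.trans (Cfsg.Agent.Helper24.ReeP9.card_mulAut_dvd_six hP4)
  have hG : C.index * (4 * Nat.card Z) = Nat.card G := by
    rw [← hcardC]; exact C.index_mul_card
  -- 3 divides the index of the centre
  have h3Z : 3 ∣ Z.index := by
    obtain ⟨n, ρ, hirr, hρ⟩ := hχ
    have := hirr
    have h := Cfsg.Agent.Helper24.finrank_dvd_index_center ρ
    rw [Module.finrank_fin_fun] at h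
    have hn : (n : ℂ) = 3 := by
      rw [← h3, ← hρ, Representation.char_one, Module.finrank_fin_fun]
    have hn3 : n = 3 := by exact_mod_cast hn
    rw [hn3] at h
    exact h
  have hZidx : Z.index * Nat.card Z = Nat.card G := Z.index_mul_card
  have hZpos : 0 < Nat.card Z := Nat.card_pos
  have hZi : Z.index = C.index * 4 := by
    apply Nat.eq_of_mul_eq_mul_right hZpos
    rw [hZidx, ← hG]; ring
  have h3i : 3 ∣ C.index := by
    rw [hZi] at h3Z
    exact (Nat.Coprime.dvd_of_dvd_mul_right (by norm_num) h3Z)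
  have h2i : 2 ∣ C.index := by
    rw [← hG] at h8
    have h8' : 4 * 2 ∣ 4 * (C.index * Nat.card Z) := by
      have : C.index * (4 * Nat.card Z) = 4 * (C.index * Nat.card Z) := by ring
      rw [this] at h8
      exact h8
    have h2 : 2 ∣ C.index * Nat.card Z := Nat.dvd_of_mul_dvd_mul_left (by norm_num) h8'
    rcases (Nat.Prime.dvd_mul Nat.prime_two).1 h2 with h | h
    · exact h
    · exact absurd h hZodd
  have h6 : 6 ∣ C.index := by
    have : Nat.Coprime 2 3 := by norm_num
    exact this.mul_dvd_of_dvd_of_dvd h2i h3i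
  exact Nat.dvd_antisymm hdvd6 h6

end Cfsg.Agent.S4751P
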