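import Mathlib
import Cfsg.Prelude.Def_Characters
import Cfsg.Agent.Helper10.S4751S4Ga1
import Cfsg.Agent.Helper10.S4751S4Ga2
import Cfsg.Agent.Helper15.S4751S4Gb
import Cfsg.Agent.Helper15.S4751S4Gc
import Cfsg.Agent.Helper17.Basic
set_option autoImplicit false
namespace Cfsg.Agent.S4751P
open scoped ComplexConjugate
universe u
variable {G : Type u} [Group G] [Finite G]

/-- S4Gd -/
theorem s4_final (P : Subgroup G) [P.Normal] (hP4 : Nat.card P = 4) (h2 : ∀ y ∈ P, y ^ 2 = 1)
    (hC : Subgroup.centralizer (P : Set G) = P ⊔ Subgroup.center G)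
    (hPZ : P ⊓ Subgroup.center G = ⊥) (hZodd : ¬ 2 ∣ Nat.card (Subgroup.center G))
    (hidx : (Subgroup.centralizer (P : Set G)).index = 6) :
    ∃ H : Subgroup G, Nonempty (H ≃* Equiv.Perm (Fin 4)) ∧ H ⊓ Subgroup.center G = ⊥ ∧
      H ⊔ Subgroup.center G = ⊤ := by
  obtain ⟨u, hu, huC⟩ := exists_invol P hP4 h2 hC hPZ hZodd hidx
  obtain ⟨d, hd, hud, hdC⟩ := exists_three P hP4 h2 hC hPZ hZodd hidx u hu huC
  obtain ⟨hL6, hLC⟩ := s3_of_invol_three (Subgroup.centralizer (P : Set G)) hidx u d hu hd hud huC hdC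
  have hab : ∀ a ∈ P, ∀ b ∈ P, a * b = b * a := by
    intro a ha b hb
    have h1 : a * a = 1 := by rw [← pow_two]; exact h2 a ha
    have h3 : b * b = 1 := by rw [← pow_two]; exact h2 b hb
    have h4 : (a * b) * (a * b) = 1 := by rw [← pow_two]; exact h2 _ (P.mul_mem ha hb)
    calc a * b = a * (a * b * (a * b)) * b := by rw [h4, mul_one]
      _ = (a * a) * (b * a) * (b * b) := by group
      _ = b * a := by rw [h1, h3, one_mul, mul_one]
  obtain ⟨h24, hHC, hiso⟩ := s4_of_complement P (Subgroup.closure ({u, d} : Set G)) hP4 hL6 hLC hab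
  set L := Subgroup.closure ({u, d} : Set G) with hL
  set Z := Subgroup.center G with hZ
  refine ⟨P ⊔ L, hiso, ?_, ?_⟩
  · have hZC : Z ≤ Subgroup.centralizer (P : Set G) := Subgroup.center_le_centralizer _
    apply le_antisymm _ bot_le
    rw [← hPZ]
    intro x hx
    refine ⟨?_, hx.2⟩
    rw [← hHC]
    exact ⟨hx.1, hZC hx.2⟩
  · have hinf : (P ⊔ L) ⊓ Z = ⊥ := by
      have hZC : Z ≤ Subgroup.centralizer (P : Set G) := Subgroup.center_le_centralizer _
      apply le_antisymm _ bot_le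
      rw [← hPZ]
      intro x hx
      refine ⟨?_, hx.2⟩
      rw [← hHC]
      exact ⟨hx.1, hZC hx.2⟩
    have hcardC : Nat.card (Subgroup.centralizer (P : Set G)) = 4 * Nat.card Z := by
      have h := Cfsg.Agent.Helper17.card_sup_mul_card_inf_of_normal P Z
      rw [hPZ, Subgroup.card_bot, mul_one, hP4, ← hC] at h
      exact h
    have hG : Nat.card G = 24 * Nat.card Z := by
      rw [← (Subgroup.centralizer (P : Set G)).index_mul_card, hidx, hcardC]; ring
    have hsup : Nat.card ((P ⊔ L) ⊔ Z : Subgroup G) = 24 * Nat.card Z := by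
      have h := Cfsg.Agent.Helper17.card_sup_mul_card_inf_of_normal Z (P ⊔ L)
      rw [inf_comm, hinf, Subgroup.card_bot, mul_one, h24, sup_comm] at h
      rw [h]; ring
    apply Subgroup.eq_top_of_card_eq
    rw [hsup, hG]

end Cfsg.Agent.S4751P
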