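import Mathlib
import Cfsg.Prelude.Def_RootSubgroups

set_option autoImplicit false

/-! # S5039 (Timmesfeld: rank one pairs are special), piece CARD

In the degenerate case of S5039 every member of the class has at least four elements: either some root element has
order `> 3` (or infinite order), or hypothesis (H) gives `A₀ ≤ A` isomorphic to the additive group of a field with more
than three elements (the map `SL₂(k) → G` has central kernel, so it is injective on the unitriangular subgroup). -/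

universe u

namespace Cfsg.Agent.S5039P

open Cfsg

/-- the upper unitriangular matrix `u(t)` -/
def CARD_aux_u (k : Type*) [Field k] (t : k) : Matrix.SpecialLinearGroup (Fin 2) k :=
  ⟨!![1, t; 0, 1], by simp [Matrix.det_fin_two]⟩

theorem CARD_aux_u_coe (k : Type*) [Field k] (t : k) :
    ((CARD_aux_u k t : Matrix.SpecialLinearGroup (Fin 2) k) : Matrix (Fin 2) (Fin 2) k) =
      !![1, t; 0, 1] := rfl

theorem CARD_aux_u_mem (k : Type*) [Field k] (t : k) : CARD_aux_u k t ∈ upperUnipotentSL2 k := by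
  unfold upperUnipotentSL2
  apply Subgroup.subset_closure
  show (CARD_aux_u k t : Matrix (Fin 2) (Fin 2) k) 1 0 = 0 ∧
    (CARD_aux_u k t : Matrix (Fin 2) (Fin 2) k) 0 0 = 1 ∧
    (CARD_aux_u k t : Matrix (Fin 2) (Fin 2) k) 1 1 = 1
  rw [CARD_aux_u_coe]; simp

theorem CARD_aux_u_mul (k : Type*) [Field k] (s t : k) :
    CARD_aux_u k s * CARD_aux_u k t = CARD_aux_u k (s + t) := by
  apply Subtype.ext
  rw [Matrix.SpecialLinearGroup.coe_mul, CARD_aux_u_coe, CARD_aux_u_coe, CARD_aux_u_coe]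
  ext i j
  fin_cases i <;> fin_cases j <;> simp [Matrix.mul_apply, Fin.sum_univ_two, add_comm]

theorem CARD_aux_u_zero (k : Type*) [Field k] : CARD_aux_u k 0 = 1 := by
  apply Subtype.ext
  rw [Matrix.SpecialLinearGroup.coe_one, CARD_aux_u_coe]
  ext i j
  fin_cases i <;> fin_cases j <;> simp

/-- the lower unitriangular matrix `l(1)` -/
def CARD_aux_l (k : Type*) [Field k] : Matrix.SpecialLinearGroup (Fin 2) k :=
  ⟨!![1, 0; 1, 1], by simp [Matrix.det_fin_two]⟩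

theorem CARD_aux_l_coe (k : Type*) [Field k] :
    ((CARD_aux_l k : Matrix.SpecialLinearGroup (Fin 2) k) : Matrix (Fin 2) (Fin 2) k) =
      !![1, 0; 1, 1] := rfl

theorem CARD_aux_lu (k : Type*) [Field k] (s : k) :
    ((CARD_aux_l k * CARD_aux_u k s : Matrix.SpecialLinearGroup (Fin 2) k) :
      Matrix (Fin 2) (Fin 2) k) 0 0 = 1 := by
  rw [Matrix.SpecialLinearGroup.coe_mul, CARD_aux_l_coe, CARD_aux_u_coe]
  simp [Matrix.mul_apply, Fin.sum_univ_two]

theorem CARD_aux_ul (k : Type*) [Field k] (s : k) :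
    ((CARD_aux_u k s * CARD_aux_l k : Matrix.SpecialLinearGroup (Fin 2) k) :
      Matrix (Fin 2) (Fin 2) k) 0 0 = 1 + s := by
  rw [Matrix.SpecialLinearGroup.coe_mul, CARD_aux_l_coe, CARD_aux_u_coe]
  simp [Matrix.mul_apply, Fin.sum_univ_two]

/-- a homomorphism from `SL₂(k)` with central kernel is injective on the `u(t)` -/
theorem CARD_aux_inj {G : Type*} [Group G] (k : Type*) [Field k]
    (φ : Matrix.SpecialLinearGroup (Fin 2) k →* G)
    (hker : φ.ker ≤ Subgroup.center (Matrix.SpecialLinearGroup (Fin 2) k)) {s t : k}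
    (h : φ (CARD_aux_u k s) = φ (CARD_aux_u k t)) : s = t := by
  have h1 : CARD_aux_u k (s + -t) ∈ φ.ker := by
    rw [MonoidHom.mem_ker, ← CARD_aux_u_mul, map_mul, h, ← map_mul, CARD_aux_u_mul,
      add_neg_cancel, CARD_aux_u_zero, map_one]
  have h2 := Subgroup.mem_center_iff.mp (hker h1) (CARD_aux_l k)
  have h3 : ((CARD_aux_l k * CARD_aux_u k (s + -t) : Matrix.SpecialLinearGroup (Fin 2) k) :
      Matrix (Fin 2) (Fin 2) k) 0 0 =
      ((CARD_aux_u k (s + -t) * CARD_aux_l k : Matrix.SpecialLinearGroup (Fin 2) k) :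
      Matrix (Fin 2) (Fin 2) k) 0 0 := by rw [h2]
  rw [CARD_aux_lu, CARD_aux_ul] at h3
  linear_combination -h3

/-- four distinct elements in a type with more than three elements -/
theorem CARD_aux_four (k : Type*) (h : 3 < ENat.card k) : ∃ f : Fin 4 → k, Function.Injective f := by
  by_cases hfin : Finite k
  · have := Fintype.ofFinite k
    have hc : 3 < Fintype.card k := by
      rw [ENat.card_eq_coe_fintype_card] at h
      exact_mod_cast h
    have hle : Fintype.card (Fin 4) ≤ Fintype.card k := by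
      rw [Fintype.card_fin]; omega
    obtain ⟨e⟩ := Function.Embedding.nonempty_of_card_le hle
    exact ⟨e, e.injective⟩
  · rw [not_finite_iff_infinite] at hfin
    exact ⟨fun i => Infinite.natEmbedding k (i : ℕ),
      fun i j hij => Fin.val_injective ((Infinite.natEmbedding k).injective hij)⟩

/-- conjugates of three distinct non-identity elements -/
theorem CARD_aux_conj {G : Type*} [Group G] {E : Subgroup G} (g : G)
    (h : ∃ x y z : G, x ∈ E ∧ y ∈ E ∧ z ∈ E ∧ x ≠ 1 ∧ y ≠ 1 ∧ z ≠ 1 ∧ x ≠ y ∧ x ≠ z ∧ y ≠ z) :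
    ∃ x y z : G, x ∈ conjBy E g ∧ y ∈ conjBy E g ∧ z ∈ conjBy E g ∧ x ≠ 1 ∧ y ≠ 1 ∧ z ≠ 1 ∧
      x ≠ y ∧ x ≠ z ∧ y ≠ z := by
  obtain ⟨x, y, z, hx, hy, hz, hx1, hy1, hz1, hxy, hxz, hyz⟩ := h
  have hc : ∀ w ∈ E, g * w * g⁻¹ ∈ conjBy E g := fun w hw => ⟨w, hw, by simp [MulAut.conj_apply]⟩
  have hinj : ∀ v w : G, g * v * g⁻¹ = g * w * g⁻¹ → v = w := fun v w hvw =>
    mul_left_cancel (mul_right_cancel hvw)
  refine ⟨g * x * g⁻¹, g * y * g⁻¹, g * z * g⁻¹, hc x hx, hc y hy, hc z hz, ?_, ?_, ?_, ?_, ?_, ?_⟩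
  · exact fun h => hx1 (conj_eq_one_iff.mp h)
  · exact fun h => hy1 (conj_eq_one_iff.mp h)
  · exact fun h => hz1 (conj_eq_one_iff.mp h)
  · exact fun h => hxy (hinj _ _ h)
  · exact fun h => hxz (hinj _ _ h)
  · exact fun h => hyz (hinj _ _ h)

/-- CARD: in the degenerate case of S5039 every member of the class has three distinct non-identity elements. -/
theorem CARD {G : Type u} [Group G] {S : Set (Subgroup G)} (hS : Cfsg.IsRootSubgroupClass S)
    (hH : Cfsg.IsDegenerateRootSet S → (∀ A ∈ S, ∀ a ∈ A, 0 < orderOf a ∧ orderOf a ≤ 3) →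
      ∀ A ∈ S, ∀ B ∈ Cfsg.rankOnePartners S A, ∃ A₀ B₀ : Subgroup G, A₀ ≤ A ∧ B₀ ≤ B ∧
        ∃ (k : Type u) (_ : Field k), 3 < ENat.card k ∧ Cfsg.IsPSL2PairOver k A₀ B₀)
    (hdeg : Cfsg.IsDegenerateRootSet S) {A B : Subgroup G} (hA : A ∈ S)
    (hB : B ∈ Cfsg.rankOnePartners S A) :
    ∀ E ∈ S, ∃ x y z : G, x ∈ E ∧ y ∈ E ∧ z ∈ E ∧ x ≠ 1 ∧ y ≠ 1 ∧ z ≠ 1 ∧ x ≠ y ∧ x ≠ z ∧ y ≠ z := by
  -- it suffices to find one member with the property
  suffices hone : ∃ E₁ ∈ S, ∃ x y z : G, x ∈ E₁ ∧ y ∈ E₁ ∧ z ∈ E₁ ∧ x ≠ 1 ∧ y ≠ 1 ∧ z ≠ 1 ∧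
      x ≠ y ∧ x ≠ z ∧ y ≠ z by
    obtain ⟨E₁, hE₁, h⟩ := hone
    intro E hE
    obtain ⟨g, rfl⟩ := hS.2.2 E₁ hE₁ E hE
    exact CARD_aux_conj g h
  by_cases hord : ∀ A ∈ S, ∀ a ∈ A, 0 < orderOf a ∧ orderOf a ≤ 3
  · -- hypothesis (H)
    obtain ⟨A₀, B₀, hA₀, -, k, _, hk, φ, -, hker, hup, -⟩ := hH hdeg hord A hA B hB
    obtain ⟨f, hf⟩ := CARD_aux_four k hk
    have hmem : ∀ t : k, φ (CARD_aux_u k t) ∈ A := fun t =>
      hA₀ (hup ▸ Subgroup.mem_map_of_mem φ (CARD_aux_u_mem k t))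
    have hne1 : ∀ t : k, t ≠ 0 → φ (CARD_aux_u k t) ≠ 1 := by
      intro t ht h1
      apply ht
      apply CARD_aux_inj k φ hker
      rw [h1, CARD_aux_u_zero, map_one]
    have hne : ∀ s t : k, s ≠ t → φ (CARD_aux_u k s) ≠ φ (CARD_aux_u k t) :=
      fun s t hst h => hst (CARD_aux_inj k φ hker h)
    have hd : ∀ i j : Fin 4, i ≠ j → f i - f 3 ≠ f j - f 3 := fun i j hij h =>
      hij (hf (sub_left_injective h))
    have hz : ∀ i : Fin 4, i ≠ 3 → f i - f 3 ≠ 0 := fun i hi h =>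
      hi (hf (sub_eq_zero.mp h))
    refine ⟨A, hA, φ (CARD_aux_u k (f 0 - f 3)), φ (CARD_aux_u k (f 1 - f 3)),
      φ (CARD_aux_u k (f 2 - f 3)), hmem _, hmem _, hmem _, hne1 _ (hz 0 (by decide)),
      hne1 _ (hz 1 (by decide)), hne1 _ (hz 2 (by decide)), hne _ _ (hd 0 1 (by decide)),
      hne _ _ (hd 0 2 (by decide)), hne _ _ (hd 1 2 (by decide))⟩
  · -- an element of order `> 3` or of infinite order
    push Not at hord
    obtain ⟨E₁, hE₁, a, ha, hao⟩ := hord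
    have hpow : ∀ n : ℕ, 0 < n → n ≤ 3 → a ^ n ≠ 1 := by
      intro n hn hn3 h1
      have hdvd := orderOf_dvd_of_pow_eq_one h1
      have hpos : 0 < orderOf a := Nat.pos_of_dvd_of_pos hdvd hn
      have hle : orderOf a ≤ n := Nat.le_of_dvd hn hdvd
      have := hao hpos
      omega
    refine ⟨E₁, hE₁, a, a ^ 2, a ^ 3, ha, pow_mem ha 2, pow_mem ha 3, ?_, hpow 2 (by norm_num) (by norm_num),
      hpow 3 (by norm_num) le_rfl, ?_, ?_, ?_⟩
    · have := hpow 1 (by norm_num) (by norm_num)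
      rwa [pow_one] at this
    · intro h
      apply hpow 1 (by norm_num) (by norm_num)
      have : a ^ 1 * a = 1 * a := by rw [pow_one, one_mul, ← pow_two]; exact h.symm
      exact mul_right_cancel this
    · intro h
      apply hpow 2 (by norm_num) (by norm_num)
      have : a ^ 2 * a = 1 * a := by rw [one_mul, ← pow_succ]; exact h.symm
      exact mul_right_cancel this
    · intro h
      apply hpow 1 (by norm_num) (by norm_num)
      have : a ^ 1 * a ^ 2 = 1 * a ^ 2 := by rw [one_mul, ← pow_add]; exact h.symm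
      exact mul_right_cancel this

/-- what Lemma M needs: two different elements of `E ∖ {1, e₀⁻¹}` -/
theorem CARD_pick {G : Type u} [Group G] {S : Set (Subgroup G)} (hS : Cfsg.IsRootSubgroupClass S)
    (hH : Cfsg.IsDegenerateRootSet S → (∀ A ∈ S, ∀ a ∈ A, 0 < orderOf a ∧ orderOf a ≤ 3) →
      ∀ A ∈ S, ∀ B ∈ Cfsg.rankOnePartners S A, ∃ A₀ B₀ : Subgroup G, A₀ ≤ A ∧ B₀ ≤ B ∧
        ∃ (k : Type u) (_ : Field k), 3 < ENat.card k ∧ Cfsg.IsPSL2PairOver k A₀ B₀)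
    (hdeg : Cfsg.IsDegenerateRootSet S) {A B : Subgroup G} (hA : A ∈ S)
    (hB : B ∈ Cfsg.rankOnePartners S A) :
    ∀ E ∈ S, ∀ e₀ : G, ∃ e e' : G, e ∈ E ∧ e' ∈ E ∧ e ≠ 1 ∧ e' ≠ 1 ∧ e ≠ e' ∧
      e * e₀ ≠ 1 ∧ e' * e₀ ≠ 1 := by
  intro E hE e₀
  obtain ⟨x, y, z, hx, hy, hz, hx1, hy1, hz1, hxy, hxz, hyz⟩ := CARD hS hH hdeg hA hB E hE
  have huniq : ∀ v w : G, v * e₀ = 1 → w * e₀ = 1 → v = w := fun v w hv hw =>
    mul_right_cancel (hv.trans hw.symm)
  by_cases h1 : x * e₀ = 1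
  · refine ⟨y, z, hy, hz, hy1, hz1, hyz, fun h => hxy (huniq _ _ h1 h), fun h => hxz (huniq _ _ h1 h)⟩
  · by_cases h2 : y * e₀ = 1
    · exact ⟨x, z, hx, hz, hx1, hz1, hxz, h1, fun h => hyz (huniq _ _ h2 h)⟩
    · exact ⟨x, y, hx, hy, hx1, hy1, hxy, h1, h2⟩

end Cfsg.Agent.S5039P
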