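import Mathlib
import Cfsg.Agent.Helper25.S5165.Defs
import Cfsg.Agent.Helper24.S5165LIBA
import Cfsg.Agent.Helper24.S5165LIBB
import Cfsg.Agent.Helper23.S5165TYPEB
import Cfsg.Agent.Helper7.S5165PCYC
import Cfsg.Agent.Helper29.S5165NBASE

set_option autoImplicit false
set_option linter.unusedSectionVars false
set_option linter.unusedVariables false

/-! # S5165 pieces STEP2 and SELFNORM2: the Sylow `2`-subgroups of the symmetric groups are self-normalizing -/

namespace Cfsg.Agent.S5165P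

open Equiv

section chapC

variable {p : ℕ} [Fact p.Prime] {I : Type} [Fintype I] [DecidableEq I] {r : ℕ}

namespace STEP2

/-- conjugation by an element of `N(SQ r Q)` maps `Bsub` into itself -/
theorem conj_mem_Bsub (Q : Subgroup (Perm I)) {g : Perm (X p I r)}
    (hg : g ∈ Subgroup.normalizer ((SQ r Q : Subgroup (Perm (X p I r))) : Set (Perm (X p I r))))
    {h : Perm (X p I r)} (hh : h ∈ Bsub p I r) : g * h * g⁻¹ ∈ Bsub p I r := by
  rw [LIBB.Bsub_eq_closure] at hh
  induction hh using Subgroup.closure_induction with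
  | mem x hx =>
    obtain ⟨i, rfl⟩ := hx
    have h1 : g * cyc i * g⁻¹ ∈ SQ r Q :=
      (Subgroup.mem_normalizer_iff.1 hg _).1 (LIBB.Bsub_le_SQ Q (mem_Bsub.2 ⟨_, rfl⟩))
    have h2 : (g * cyc (p := p) (r := r) i * g⁻¹).cycleType = {p} := by
      rw [Equiv.Perm.cycleType_conj]
      unfold cyc
      rw [TYPEB.cycleType_base]
      have : (Finset.univ.filter (fun j => (Pi.single i (1 : ZMod p) : I → ZMod p) j ≠ 0)) = {i} := by
        ext j
        by_cases hj : j = i
        · subst hj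
          simp
        · simp [hj]
      rw [this]
      simp
    obtain ⟨j, k, _, hjk⟩ := PCYC.eq_base_single Q _ h1 h2
    rw [hjk]
    exact mem_Bsub.2 ⟨_, rfl⟩
  | one => simp [(Bsub p I r).one_mem]
  | mul x y _ _ hx hy =>
    have : g * (x * y) * g⁻¹ = (g * x * g⁻¹) * (g * y * g⁻¹) := by group
    rw [this]
    exact (Bsub p I r).mul_mem hx hy
  | inv x _ hx =>
    have : g * x⁻¹ * g⁻¹ = (g * x * g⁻¹)⁻¹ := by group
    rw [this]
    exact (Bsub p I r).inv_mem hx

/-- private copy of NORMBASE -/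
theorem normbase (Q : Subgroup (Perm I)) :
    Subgroup.normalizer ((SQ r Q : Subgroup (Perm (X p I r))) : Set (Perm (X p I r))) ≤
      Subgroup.normalizer ((Bsub p I r : Subgroup (Perm (X p I r))) : Set (Perm (X p I r))) := by
  intro g hg
  rw [Subgroup.mem_normalizer_iff]
  intro h
  refine ⟨fun hh => conj_mem_Bsub Q hg hh, fun hh => ?_⟩
  have := conj_mem_Bsub Q ((Subgroup.normalizer _).inv_mem hg) hh
  simpa [mul_assoc] using this

end STEP2

/-- STEP2: `N(Q) ≤ Q ⇒ N(SQ r Q) ≤ SQ r Q` for `p = 2`. -/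
theorem STEP2.normalizer_le (hp : p = 2) (hr : r ≤ 1) (Q : Subgroup (Perm I))
    (hQ : Subgroup.normalizer ((Q : Subgroup (Perm I)) : Set (Perm I)) ≤ Q) :
    Subgroup.normalizer ((SQ r Q : Subgroup (Perm (X p I r))) : Set (Perm (X p I r))) ≤ SQ r Q := by
  subst hp
  intro g hg
  have hgB := STEP2.normbase Q hg
  obtain ⟨f, a, σ, rfl⟩ := NBASE.exists_nf hr g hgB
  have ha : a = 1 := Subsingleton.elim _ _
  subst ha
  rw [LIBA.torus_one, mul_one] at hg ⊢
  rw [LIBB.base_mul_lift_mem_SQ_iff]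
  apply hQ
  rw [Subgroup.mem_normalizer_iff] at hg ⊢
  intro q
  have hbf : base (r := r) f ∈ SQ (p := 2) r Q := LIBB.Bsub_le_SQ Q (mem_Bsub.2 ⟨f, rfl⟩)
  have key : base (r := r) f * lift σ * lift q * (base f * lift σ)⁻¹ =
      base f * lift (σ * q * σ⁻¹) * (base f)⁻¹ := by
    simp only [map_mul, map_inv, mul_inv_rev, mul_assoc]
  have h1 := hg (lift q)
  rw [key, LIBB.lift_mem_SQ_iff] at h1
  rw [h1]
  constructor
  · intro h
    have := (SQ (p := 2) r Q).mul_mem ((SQ (p := 2) r Q).mul_mem ((SQ (p := 2) r Q).inv_mem hbf) h) hbf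
    rw [← LIBB.lift_mem_SQ_iff (p := 2) (r := r)]
    simpa [mul_assoc] using this
  · intro h
    rw [← LIBB.lift_mem_SQ_iff (p := 2) (r := r)] at h
    exact (SQ (p := 2) r Q).mul_mem ((SQ (p := 2) r Q).mul_mem hbf h) ((SQ (p := 2) r Q).inv_mem hbf)

end chapC

end Cfsg.Agent.S5165P
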