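import Mathlib
import Cfsg.Agent.Helper25.S5165.Defs
import Cfsg.Agent.Helper11.S5165STEP2
import Cfsg.Agent.Helper17.S5165IND

set_option autoImplicit false
set_option linter.unusedSectionVars false
set_option linter.unusedVariables false

/-! # S5165 piece SELFNORM2: the Sylow `2`-subgroups of the symmetric groups are self-normalizing -/

namespace Cfsg.Agent.S5165P

open Equiv

namespace SELFNORM2

/-- self-normalizing subgroups are transported by isomorphisms -/
theorem map_equiv_selfnorm {G H : Type*} [Group G] [Group H] (e : G ≃* H) (P : Subgroup G)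
    (h : Subgroup.normalizer (P : Set G) ≤ P) :
    Subgroup.normalizer ((P.map e.toMonoidHom : Subgroup H) : Set H) ≤ P.map e.toMonoidHom := by
  rw [← Subgroup.map_equiv_normalizer_eq P e]
  exact Subgroup.map_mono h

end SELFNORM2

/-- SELFNORM2 -/
theorem SELFNORM2.normalizer_le (Y : Type) [Fintype Y] [DecidableEq Y] (P : Sylow 2 (Perm Y)) :
    Subgroup.normalizer (((P : Subgroup (Perm Y))) : Set (Perm Y)) ≤ (P : Subgroup (Perm Y)) := by
  have : Fact (Nat.Prime 2) := Nat.fact_prime_two
  refine IND.sylow_induction 2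
    (fun Y _ _ P => Subgroup.normalizer ((P : Subgroup (Perm Y)) : Set (Perm Y)) ≤ P)
    ?_ ?_ ?_ ?_ Y P
  · intro Y _ _ P g h
    exact SELFNORM2.map_equiv_selfnorm (MulAut.conj g) P h
  · intro Y Z _ _ _ _ e P h
    exact SELFNORM2.map_equiv_selfnorm (Equiv.permCongrHom e) P h
  · intro Y _ _ hY g _
    have : Subsingleton Y := Fintype.card_le_one_iff_subsingleton.1 (by omega)
    rw [Subgroup.mem_bot]
    exact Subsingleton.elim _ _
  · intro m r hm hr Q hQ
    exact STEP2.normalizer_le rfl (by omega) (Q : Subgroup (Perm (Fin m))) hQ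

end Cfsg.Agent.S5165P
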