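import Mathlib
import Cfsg.Agent.Helper25.S5165.Defs

set_option autoImplicit false
set_option linter.unusedSectionVars false
set_option linter.unusedVariables false

/-! # S5165 piece TYPEL2: the cycle type of `base f * lift (swap i₁ i₂)` for `p = 2` -/

namespace Cfsg.Agent.S5165P

open Equiv

section chapA

variable {p : ℕ} [Fact p.Prime] {I : Type} [Fintype I] [DecidableEq I] {r : ℕ}

namespace TYPEL2

theorem apply_inl (f : I → ZMod p) (σ : Perm I) (i : I) (x : ZMod p) :
    (base (r := r) f * lift σ : Perm (X p I r)) (Sum.inl (i, x)) = Sum.inl (σ i, x + f (σ i)) := rfl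

theorem apply_inr (f : I → ZMod p) (σ : Perm I) (k : Fin r) :
    (base (r := r) f * lift σ : Perm (X p I r)) (Sum.inr k) = Sum.inr k := rfl

/-- the square is trivial -/
theorem sq_eq_one [Fact (Nat.Prime 2)] {i₁ i₂ : I} (h12 : i₁ ≠ i₂) (f : I → ZMod 2)
    (hf : f i₁ = f i₂) :
    (base (p := 2) (r := r) f * lift (Equiv.swap i₁ i₂) : Perm (X 2 I r)) ^ 2 = 1 := by
  ext y
  rcases y with ⟨i, x⟩ | k
  · rw [pow_two, Perm.mul_apply, apply_inl, apply_inl, Equiv.swap_apply_self, Perm.one_apply]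
    congr 2
    rw [add_assoc]
    have : f (Equiv.swap i₁ i₂ i) + f i = 0 := by
      by_cases h1 : i = i₁
      · subst h1
        rw [Equiv.swap_apply_left, ← hf]
        exact CharTwo.add_self_eq_zero _
      · by_cases h2 : i = i₂
        · subst h2
          rw [Equiv.swap_apply_right, hf]
          exact CharTwo.add_self_eq_zero _
        · rw [Equiv.swap_apply_of_ne_of_ne h1 h2]
          exact CharTwo.add_self_eq_zero _
    rw [this, add_zero]
  · rw [pow_two, Perm.mul_apply, apply_inr, apply_inr, Perm.one_apply]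

/-- the moved blocks -/
theorem moved_iff [Fact (Nat.Prime 2)] {i₁ i₂ : I} (h12 : i₁ ≠ i₂) (f : I → ZMod 2) (i : I)
    (x : ZMod 2) :
    (base (p := 2) (r := r) f * lift (Equiv.swap i₁ i₂) : Perm (X 2 I r)) (Sum.inl (i, x)) ≠ Sum.inl (i, x) ↔
      (i = i₁ ∨ i = i₂ ∨ f i ≠ 0) := by
  rw [apply_inl]
  by_cases h1 : i = i₁
  · subst h1
    rw [Equiv.swap_apply_left]
    simp only [ne_eq, Sum.inl.injEq, Prod.mk.injEq, true_or, iff_true, not_and]
    intro h
    exact absurd h.symm h12
  · by_cases h2 : i = i₂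
    · subst h2
      rw [Equiv.swap_apply_right]
      simp only [ne_eq, Sum.inl.injEq, Prod.mk.injEq, true_or, or_true, iff_true, not_and]
      intro h
      exact absurd h.symm h1
    · rw [Equiv.swap_apply_of_ne_of_ne h1 h2]
      simp [h1, h2]

theorem card_moved {i₁ i₂ : I} (h12 : i₁ ≠ i₂) (f : I → ZMod 2) :
    (Finset.univ.filter (fun i => i = i₁ ∨ i = i₂ ∨ f i ≠ 0)).card =
      2 + (Finset.univ.filter (fun i => i ≠ i₁ ∧ i ≠ i₂ ∧ f i ≠ 0)).card := by
  have : Finset.univ.filter (fun i => i = i₁ ∨ i = i₂ ∨ f i ≠ 0) =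
      insert i₁ (insert i₂ (Finset.univ.filter (fun i => i ≠ i₁ ∧ i ≠ i₂ ∧ f i ≠ 0))) := by
    ext i
    simp only [Finset.mem_filter, Finset.mem_univ, true_and, Finset.mem_insert]
    by_cases h1 : i = i₁
    · simp [h1]
    · by_cases h2 : i = i₂
      · simp [h2]
      · simp [h1, h2]
  rw [this, Finset.card_insert_of_notMem, Finset.card_insert_of_notMem]
  · omega
  · simp
  · simp [h12]

theorem card_support [Fact (Nat.Prime 2)] {i₁ i₂ : I} (h12 : i₁ ≠ i₂) (f : I → ZMod 2) :
    (base (p := 2) (r := r) f * lift (Equiv.swap i₁ i₂) : Perm (X 2 I r)).support.card =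
      2 * (2 + (Finset.univ.filter (fun i => i ≠ i₁ ∧ i ≠ i₂ ∧ f i ≠ 0)).card) := by
  rw [← card_moved h12 f]
  have hs : (base (p := 2) (r := r) f * lift (Equiv.swap i₁ i₂) : Perm (X 2 I r)).support =
      Finset.univ.filter (fun y => (base (p := 2) (r := r) f * lift (Equiv.swap i₁ i₂) : Perm (X 2 I r)) y ≠ y) := by
    ext y
    simp only [Perm.mem_support, ne_eq, Finset.mem_filter, Finset.mem_univ, true_and]
  rw [hs, Finset.card_filter, Fintype.sum_sum_type, Fintype.sum_prod_type]
  simp only [apply_inr, ne_eq, not_true_eq_false, if_false, Finset.sum_const_zero, add_zero]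
  have : ∀ i : I, (∑ x : ZMod 2,
      if ¬ (base (p := 2) (r := r) f * lift (Equiv.swap i₁ i₂) : Perm (X 2 I r)) (Sum.inl (i, x)) = Sum.inl (i, x)
        then 1 else 0) = if (i = i₁ ∨ i = i₂ ∨ f i ≠ 0) then 2 else 0 := by
    intro i
    have h := fun x => moved_iff (r := r) h12 f i x
    simp only [ne_eq] at h
    simp only [h]
    split_ifs with hi
    · simp [ZMod.card]
    · simp
  rw [Finset.sum_congr rfl (fun i _ => this i), Finset.card_filter, Finset.mul_sum]
  refine Finset.sum_congr rfl (fun i _ => ?_)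
  split_ifs <;> simp

end TYPEL2

/-- TYPEL2 -/
theorem TYPEL2.cycleType_base_mul_swap (hp : p = 2) {i₁ i₂ : I} (h12 : i₁ ≠ i₂) (f : I → ZMod p)
    (hf : f i₁ = f i₂) :
    (base (r := r) f * lift (Equiv.swap i₁ i₂)).cycleType =
      Multiset.replicate
        (2 + (Finset.univ.filter (fun i => i ≠ i₁ ∧ i ≠ i₂ ∧ f i ≠ 0)).card) 2 := by
  subst hp
  set g : Perm (X 2 I r) := base (r := r) f * lift (Equiv.swap i₁ i₂) with hg
  have hsq : g ^ 2 = 1 := TYPEL2.sq_eq_one h12 f hf
  have hne : g ≠ 1 := by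
    intro h
    have := TYPEL2.apply_inl (r := r) f (Equiv.swap i₁ i₂) i₁ 0
    rw [← hg, h, Perm.one_apply, Equiv.swap_apply_left] at this
    simp only [Sum.inl.injEq, Prod.mk.injEq] at this
    exact h12 this.1
  have hord : orderOf g = 2 := orderOf_eq_prime hsq hne
  obtain ⟨n, hn⟩ := Equiv.Perm.cycleType_prime_order (σ := g) (by rw [hord]; exact Nat.prime_two)
  rw [hord] at hn
  have hsum := Equiv.Perm.sum_cycleType g
  rw [hn, Multiset.sum_replicate, TYPEL2.card_support h12 f, smul_eq_mul] at hsum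
  rw [hn]
  congr 1
  omega

end chapA

end Cfsg.Agent.S5165P
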