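import Mathlib
import Cfsg.Prelude.Def_Classical
import Cfsg.Agent.Helper26.S5320.Defs
import Cfsg.Agent.Helper23.S5320EMB
import Cfsg.Agent.Helper23.S5320SWMEM
import Cfsg.Agent.Helper18.S5320CONJT

/-! S5320 pieces NEMB and SC2 (driver helper26). -/

set_option autoImplicit false
set_option linter.unusedSectionVars false
set_option linter.unusedVariables false

namespace Cfsg.Agent.S5320P

open Matrix

variable {F : Type*} [Field F]

namespace NEMB

theorem sig_inv : (sig : Gt F)⁻¹ = sig := inv_eq_of_mul_eq_one_right sig_mul_self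

/-- `sig` commutes with the diagonal embedding -/
theorem sig_comm (u : L F) : (sig : Gt F) * emb (u, u) = emb (u, u) * sig := by
  have h := sig_conj u u
  rw [mul_inv_eq_iff_eq_mul] at h
  exact h

theorem sig_mem_SW (Q : Subgroup (L F)) : (sig : Gt F) ∈ SW Q :=
  (mem_SW_iff Q sig).2 ⟨1, Q.one_mem, 1, Q.one_mem, Or.inr (by
    rw [show ((1 : L F), (1 : L F)) = (1 : L F × L F) from rfl, map_one, one_mul])⟩

theorem conj_mem (Q : Subgroup (L F)) {u : L F}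
    (hu : u ∈ Subgroup.normalizer ((Q : Subgroup (L F)) : Set (L F))) {x : Gt F} (hx : x ∈ SW Q) :
    emb (u, u) * x * (emb (u, u))⁻¹ ∈ SW Q := by
  rw [Subgroup.mem_normalizer_iff] at hu
  obtain ⟨a, ha, b, hb, hx | hx⟩ := (mem_SW_iff Q x).1 hx
  · refine (mem_SW_iff Q _).2 ⟨u * a * u⁻¹, (hu a).1 ha, u * b * u⁻¹, (hu b).1 hb, Or.inl ?_⟩
    rw [hx, ← map_inv, ← map_mul, ← map_mul]
    rfl
  · refine (mem_SW_iff Q _).2 ⟨u * a * u⁻¹, (hu a).1 ha, u * b * u⁻¹, (hu b).1 hb, Or.inr ?_⟩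
    have e : emb (u * a * u⁻¹, u * b * u⁻¹) = emb (u, u) * emb (a, b) * (emb (u, u) : Gt F)⁻¹ := by
      rw [← map_inv, ← map_mul, ← map_mul]
      rfl
    rw [hx, e]
    have hc : (sig : Gt F) * (emb (u, u))⁻¹ = (emb (u, u))⁻¹ * sig := by
      rw [eq_inv_mul_iff_mul_eq, ← mul_assoc, ← sig_comm, mul_assoc, mul_inv_cancel, mul_one]
    rw [mul_assoc (emb (u, u) * emb (a, b)), ← hc]
    group

end NEMB

/-- NEMB -/
theorem NEMB.mem_normalizer (Q : Subgroup (L F)) (u : L F)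
    (hu : u ∈ Subgroup.normalizer ((Q : Subgroup (L F)) : Set (L F))) :
    emb (u, u) ∈ Subgroup.normalizer ((SW Q : Subgroup (Gt F)) : Set (Gt F)) := by
  rw [Subgroup.mem_normalizer_iff]
  intro x
  refine ⟨fun hx => NEMB.conj_mem Q hu hx, fun hx => ?_⟩
  have hu' : u⁻¹ ∈ Subgroup.normalizer ((Q : Subgroup (L F)) : Set (L F)) :=
    (Subgroup.normalizer _).inv_mem hu
  have := NEMB.conj_mem Q hu' hx
  have e : (emb (u⁻¹, u⁻¹) : Gt F) = (emb (u, u))⁻¹ := by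
    rw [← map_inv]
    rfl
  rw [e] at this
  simpa [mul_assoc] using this

/-- SC2 -/
theorem SC2.anti_mem (h2 : (2 : F) ≠ 0) (Q : Subgroup (L F)) (T : Subgroup (Gt F))
    (hsc : ∀ t ∈ T, ∀ g : Gt F, g * t * g⁻¹ ∈ SW Q → g * t * g⁻¹ ∈ T) (h1 : t1 ∈ T) :
    sig ∈ T ∧ ∀ a ∈ Q, emb (a, a⁻¹) ∈ T := by
  obtain ⟨c, hc⟩ := CONJT.exists_conj h2 (F := F)
  have hsig : (sig : Gt F) ∈ T := by
    have := hsc t1 h1 c (by rw [hc]; exact NEMB.sig_mem_SW Q)
    rwa [hc] at this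
  refine ⟨hsig, fun a ha => ?_⟩
  have e : (emb (a, 1) : Gt F) * sig * (emb (a, 1))⁻¹ = emb (a, a⁻¹) * sig := by
    have h := sig_conj (F := F) a⁻¹ 1
    have e1 : (emb (a, 1) : Gt F)⁻¹ = emb (a⁻¹, 1) := by
      rw [← map_inv]
      simp
    have e2 : (emb (a, a⁻¹) : Gt F) = emb (a, 1) * emb (1, a⁻¹) := by
      rw [← map_mul]
      simp
    rw [e1, e2, ← h, NEMB.sig_inv]
    have hs := sig_mul_self (F := F)
    calc (emb (a, 1) : Gt F) * sig * emb (a⁻¹, 1)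
        = emb (a, 1) * (sig * emb (a⁻¹, 1) * (sig * sig)) := by rw [hs, mul_one, mul_assoc]
      _ = emb (a, 1) * (sig * emb (a⁻¹, 1) * sig) * sig := by simp only [mul_assoc]
  have hmem : (emb (a, a⁻¹) : Gt F) * sig ∈ SW Q :=
    (mem_SW_iff Q _).2 ⟨a, ha, a⁻¹, Q.inv_mem ha, Or.inr rfl⟩
  have hT := hsc sig hsig (emb (a, 1)) (by rw [e]; exact hmem)
  rw [e] at hT
  have := T.mul_mem hT (T.inv_mem hsig)
  rwa [mul_assoc, mul_inv_cancel, mul_one] at this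

end Cfsg.Agent.S5320P
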