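import Cfsg.Agent.Helper27.S5634BDefs
import Cfsg.Agent.Helper11.S5634BHMEM
import Cfsg.Agent.Lead.S5634BEE1
import Cfsg.Agent.Lead.S5634BEE2

set_option autoImplicit false
set_option linter.unusedSectionVars false
set_option linter.unusedVariables false

/-! # S5634, half `m ≥ 2`, piece B_LCLA: the two commutator moves with a block transvection of `HH D` -/

namespace Cfsg.Agent.S5634P

open Matrix Cfsg.Agent.Helper28.SLMax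
open scoped MatrixGroups

variable {F : Type*} [Field F] {n t m : ℕ} {D : Fin t → Submodule F (Fin n → F)}

theorem LC (hD : Cfsg.Geo.IsMDecomposition m D) (M : Subgroup (GL (Fin n) F)) (hHM : HH D ≤ M)
    {w ψ x χ : Fin n → F} {c : Fin t} (hT : EE w ψ ∈ M) (hψw : ψ ⬝ᵥ w = 0) (hx : x ∈ D c)
    (hχ : χ ∈ Dl D c) (hχx : χ ⬝ᵥ x = 0) (hψx : ψ ⬝ᵥ x = 0) : EE ((χ ⬝ᵥ w) • x) ψ ∈ M := by
  have hX : EE x χ ∈ M := hHM (HMEM.EE_mem_HH hD hx hχ hχx)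
  have hcomm : EE w ψ * EE x χ * (EE w ψ)⁻¹ * (EE x χ)⁻¹ ∈ M :=
    M.mul_mem (M.mul_mem (M.mul_mem hT hX) (M.inv_mem hT)) (M.inv_mem hX)
  rw [EE.comm_center hψw hχx hψx] at hcomm
  have h0 : ψ ⬝ᵥ ((-(χ ⬝ᵥ w)) • x) = 0 := by
    rw [dotProduct_smul, hψx, smul_zero]
  have hinv := M.inv_mem hcomm
  rw [EE.inv h0] at hinv
  have : -((-(χ ⬝ᵥ w)) • x) = (χ ⬝ᵥ w) • x := by
    rw [neg_smul, neg_neg]
  rw [this] at hinv
  exact hinv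

theorem LA (hD : Cfsg.Geo.IsMDecomposition m D) (M : Subgroup (GL (Fin n) F)) (hHM : HH D ≤ M)
    {w ψ x χ : Fin n → F} {c : Fin t} (hT : EE w ψ ∈ M) (hψw : ψ ⬝ᵥ w = 0) (hx : x ∈ D c)
    (hχ : χ ∈ Dl D c) (hχx : χ ⬝ᵥ x = 0) (hχw : χ ⬝ᵥ w = 0) : EE w ((ψ ⬝ᵥ x) • χ) ∈ M := by
  have hX : EE x χ ∈ M := hHM (HMEM.EE_mem_HH hD hx hχ hχx)
  have hcomm : EE w ψ * EE x χ * (EE w ψ)⁻¹ * (EE x χ)⁻¹ ∈ M :=
    M.mul_mem (M.mul_mem (M.mul_mem hT hX) (M.inv_mem hT)) (M.inv_mem hX)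
  rw [EE.comm_axis hψw hχx hχw] at hcomm
  exact hcomm

end Cfsg.Agent.S5634P
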