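import Mathlib
import Cfsg.Prelude.Def_GeometricClasses
import Cfsg.Agent.Helper19.Mono.Defs

set_option autoImplicit false
set_option linter.unusedSectionVars false

/-! # S5634 (monomial half), piece BLOCKEMB: the block embedding `GL (Fin 3) K →* GL ι K` along an injection -/

namespace Cfsg.Agent.MonoP

open Matrix

variable {ι : Type} [Fintype ι] [DecidableEq ι] {K : Type*} [Field K] [Fintype K]

namespace BLOCKEMB

open Classical in
/-- `Fin 3 ⊕ (range f)ᶜ ≃ ι` -/
noncomputable def eqv (f : Fin 3 ↪ ι) : Fin 3 ⊕ ↥(Set.range f)ᶜ ≃ ι :=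
  (Equiv.sumCongr (Equiv.ofInjective f f.injective) (Equiv.refl _)).trans
    (Equiv.Set.sumCompl (Set.range f))

theorem eqv_inl (f : Fin 3 ↪ ι) (i : Fin 3) : eqv f (Sum.inl i) = f i := by
  simp [eqv]

theorem eqv_inr (f : Fin 3 ↪ ι) (c : ↥(Set.range f)ᶜ) : eqv f (Sum.inr c) = c.1 := by
  simp [eqv]

theorem eqv_symm_apply (f : Fin 3 ↪ ι) (i : Fin 3) : (eqv f).symm (f i) = Sum.inl i := by
  rw [Equiv.symm_apply_eq, eqv_inl]

theorem eqv_symm_of_notMem (f : Fin 3 ↪ ι) (x : ι) (hx : x ∉ Set.range f) :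
    (eqv f).symm x = Sum.inr ⟨x, hx⟩ := by
  rw [Equiv.symm_apply_eq, eqv_inr]

open Classical in
/-- the block-diagonal embedding of matrices -/
noncomputable def blockHom (C : Type) [Fintype C] [DecidableEq C] :
    Matrix (Fin 3) (Fin 3) K →* Matrix (Fin 3 ⊕ C) (Fin 3 ⊕ C) K where
  toFun M := Matrix.fromBlocks M 0 0 1
  map_one' := Matrix.fromBlocks_one
  map_mul' M N := by
    rw [Matrix.fromBlocks_multiply]
    simp

open Classical in
/-- the embedding of matrices along `f` -/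
noncomputable def matHom (f : Fin 3 ↪ ι) : Matrix (Fin 3) (Fin 3) K →* Matrix ι ι K :=
  ((Matrix.reindexAlgEquiv K K (eqv f)).toRingEquiv.toMonoidHom).comp
    (blockHom (K := K) ↥(Set.range f)ᶜ)

theorem matHom_apply (f : Fin 3 ↪ ι) (M : Matrix (Fin 3) (Fin 3) K) (x y : ι) :
    matHom f M x y =
      (Matrix.fromBlocks M 0 0 (1 : Matrix ↥(Set.range f)ᶜ ↥(Set.range f)ᶜ K))
        ((eqv f).symm x) ((eqv f).symm y) := by
  classical
  simp [matHom, blockHom, Matrix.reindex_apply]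

end BLOCKEMB

/-- BLOCKEMB (M): the block embedding `GL (Fin 3) K → GL ι K` along an injection `f`. -/
theorem BLOCKEMB.exists_hom (f : Fin 3 ↪ ι) :
    ∃ Φ : GL (Fin 3) K →* GL ι K,
      (∀ (M : GL (Fin 3) K) (i j : Fin 3), ((Φ M : GL ι K) : Matrix ι ι K) (f i) (f j) = (M : Matrix _ _ K) i j) ∧
      (∀ (M : GL (Fin 3) K) (x y : ι), (x ∉ Set.range f ∨ y ∉ Set.range f) →
        ((Φ M : GL ι K) : Matrix ι ι K) x y = (1 : Matrix ι ι K) x y) := by
  classical
  refine ⟨Units.map (BLOCKEMB.matHom f), ?_, ?_⟩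
  · intro M i j
    rw [Units.coe_map, BLOCKEMB.matHom_apply, BLOCKEMB.eqv_symm_apply, BLOCKEMB.eqv_symm_apply,
      Matrix.fromBlocks_apply₁₁]
  · intro M x y hxy
    rw [Units.coe_map, BLOCKEMB.matHom_apply]
    by_cases hx : x ∈ Set.range f
    · have hy : y ∉ Set.range f := by
        rcases hxy with h | h
        · exact absurd hx h
        · exact h
      obtain ⟨i, rfl⟩ := hx
      rw [BLOCKEMB.eqv_symm_apply, BLOCKEMB.eqv_symm_of_notMem f y hy, Matrix.fromBlocks_apply₁₂]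
      have hne : f i ≠ y := fun h => hy ⟨i, h⟩
      rw [Matrix.one_apply_ne hne]
      rfl
    · rw [BLOCKEMB.eqv_symm_of_notMem f x hx]
      by_cases hy : y ∈ Set.range f
      · obtain ⟨j, rfl⟩ := hy
        rw [BLOCKEMB.eqv_symm_apply, Matrix.fromBlocks_apply₂₁]
        have hne : x ≠ f j := fun h => hx ⟨j, h.symm⟩
        rw [Matrix.one_apply_ne hne]
        rfl
      · rw [BLOCKEMB.eqv_symm_of_notMem f y hy, Matrix.fromBlocks_apply₂₂]
        by_cases hxy' : x = y
        · subst hxy'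
          rw [Matrix.one_apply_eq, Matrix.one_apply_eq]
        · rw [Matrix.one_apply_ne hxy', Matrix.one_apply_ne]
          intro h
          exact hxy' (congrArg Subtype.val h)

end Cfsg.Agent.MonoP
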