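import Mathlib
import Cfsg.Prelude.Def_GeometricClasses
import Cfsg.Agent.Helper19.Mono.Defs

set_option autoImplicit false
set_option linter.unusedSectionVars false

/-! # S5634 (monomial half), piece SECGRP: the section set `secSet M o` is a subgroup -/

namespace Cfsg.Agent.MonoP

open Matrix

variable {ι : Type} [Fintype ι] [DecidableEq ι] {K : Type*} [Field K] [Fintype K]

namespace SECGRP

/-- splitting a sum over `ι` at the coordinate `o` -/
theorem sum_split (o : ι) (g : ι → K) :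
    ∑ r, g r = g o + ∑ r : {i : ι // i ≠ o}, g r.1 := by
  rw [← Finset.add_sum_erase Finset.univ g (Finset.mem_univ o)]
  congr 1
  exact Finset.sum_subtype (Finset.univ.erase o) (fun x => by simp) g

/-- the `{i // i ≠ o}`-block of a matrix -/
def blk (o : ι) (y : Matrix ι ι K) : Matrix {i : ι // i ≠ o} {i : ι // i ≠ o} K :=
  fun i j => y i.1 j.1

/-- column `o` is a multiple of `e_o` -/
def ColO (o : ι) (y : Matrix ι ι K) : Prop := ∀ i, i ≠ o → y i o = 0

theorem colO_mul (o : ι) {y z : Matrix ι ι K} (hy : ColO o y) (hz : ColO o z) : ColO o (y * z) := by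
  intro i hi
  rw [Matrix.mul_apply, sum_split o, hy i hi, zero_mul, zero_add]
  apply Finset.sum_eq_zero
  intro r _
  rw [hz r.1 r.2, mul_zero]

theorem blk_mul (o : ι) {y : Matrix ι ι K} (hy : ColO o y) (z : Matrix ι ι K) :
    blk o (y * z) = blk o y * blk o z := by
  funext i j
  show (y * z) i.1 j.1 = (blk o y * blk o z) i j
  rw [Matrix.mul_apply, Matrix.mul_apply, sum_split o, hy i.1 i.2, zero_mul, zero_add]
  rfl

theorem blk_one (o : ι) : blk o (1 : Matrix ι ι K) = 1 := by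
  funext i j
  show (1 : Matrix ι ι K) i.1 j.1 = (1 : Matrix _ _ K) i j
  by_cases h : i = j
  · subst h
    rw [Matrix.one_apply_eq, Matrix.one_apply_eq]
  · rw [Matrix.one_apply_ne h, Matrix.one_apply_ne (fun h' => h (Subtype.ext h'))]

theorem colO_one (o : ι) : ColO o (1 : Matrix ι ι K) := by
  intro i hi
  exact Matrix.one_apply_ne hi

/-- the inverse of an invertible matrix whose column `o` is a multiple of `e_o` has the same property -/
theorem colO_inv (o : ι) (y : GL ι K) (hy : ColO o (y : Matrix ι ι K)) :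
    ColO o ((y⁻¹ : GL ι K) : Matrix ι ι K) := by
  have h1 : ((y⁻¹ : GL ι K) : Matrix ι ι K) * (y : Matrix ι ι K) = 1 := by
    rw [← Units.val_mul, inv_mul_cancel, Units.val_one]
  have hcol : ∀ i, ((y⁻¹ : GL ι K) : Matrix ι ι K) i o * (y : Matrix ι ι K) o o =
      (1 : Matrix ι ι K) i o := by
    intro i
    rw [← h1, Matrix.mul_apply, sum_split o]
    have : ∑ r : {i : ι // i ≠ o}, ((y⁻¹ : GL ι K) : Matrix ι ι K) i r.1 * (y : Matrix ι ι K) r.1 o = 0 := by
      apply Finset.sum_eq_zero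
      intro r _
      rw [hy r.1 r.2, mul_zero]
    rw [this, add_zero]
  have hα : (y : Matrix ι ι K) o o ≠ 0 := by
    intro h0
    have := hcol o
    rw [h0, mul_zero, Matrix.one_apply_eq] at this
    exact zero_ne_one this
  intro i hi
  have := hcol i
  rw [Matrix.one_apply_ne hi] at this
  rcases mul_eq_zero.mp this with h | h
  · exact h
  · exact absurd h hα

theorem mem_secSet_iff (M : Subgroup (GL ι K)) (o : ι) (h : GL {i : ι // i ≠ o} K) :
    h ∈ secSet M o ↔ ∃ y ∈ M, ColO o (y : Matrix ι ι K) ∧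
      blk o (y : Matrix ι ι K) = (h : Matrix _ _ K) := by
  constructor
  · rintro ⟨y, hyM, hc, hb⟩
    refine ⟨y, hyM, hc, ?_⟩
    funext i j
    exact hb i j
  · rintro ⟨y, hyM, hc, hb⟩
    refine ⟨y, hyM, hc, ?_⟩
    intro i j
    exact congrFun (congrFun hb i) j

end SECGRP

/-- SECGRP (M): the section set is a subgroup. -/
theorem SECGRP.exists_subgroup (M : Subgroup (GL ι K)) (o : ι) :
    ∃ S : Subgroup (GL {i : ι // i ≠ o} K), (S : Set (GL {i : ι // i ≠ o} K)) = secSet M o := by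
  refine ⟨{ carrier := secSet M o, mul_mem' := ?_, one_mem' := ?_, inv_mem' := ?_ }, rfl⟩
  · intro a b ha hb
    rw [SECGRP.mem_secSet_iff] at ha hb ⊢
    obtain ⟨y, hyM, hyc, hyb⟩ := ha
    obtain ⟨z, hzM, hzc, hzb⟩ := hb
    refine ⟨y * z, M.mul_mem hyM hzM, ?_, ?_⟩
    · rw [Units.val_mul]
      exact SECGRP.colO_mul o hyc hzc
    · rw [Units.val_mul, Units.val_mul, SECGRP.blk_mul o hyc, hyb, hzb]
  · rw [SECGRP.mem_secSet_iff]
    refine ⟨1, M.one_mem, ?_, ?_⟩
    · rw [Units.val_one]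
      exact SECGRP.colO_one o
    · rw [Units.val_one, Units.val_one]
      exact SECGRP.blk_one o
  · intro a ha
    rw [SECGRP.mem_secSet_iff] at ha ⊢
    obtain ⟨y, hyM, hyc, hyb⟩ := ha
    have hinvc := SECGRP.colO_inv o y hyc
    refine ⟨y⁻¹, M.inv_mem hyM, hinvc, ?_⟩
    -- `blk (y⁻¹) * a = 1`
    have h1 : SECGRP.blk o ((y⁻¹ : GL ι K) : Matrix ι ι K) * ((a : GL {i : ι // i ≠ o} K) : Matrix {i : ι // i ≠ o} {i : ι // i ≠ o} K) = 1 := by
      rw [← hyb, ← SECGRP.blk_mul o hinvc, ← Units.val_mul, inv_mul_cancel, Units.val_one]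
      exact SECGRP.blk_one o
    have h2 : ((a : GL {i : ι // i ≠ o} K) : Matrix {i : ι // i ≠ o} {i : ι // i ≠ o} K) * ((a⁻¹ : GL {i : ι // i ≠ o} K) : Matrix {i : ι // i ≠ o} {i : ι // i ≠ o} K) = 1 := by
      rw [← Units.val_mul, mul_inv_cancel, Units.val_one]
    calc SECGRP.blk o ((y⁻¹ : GL ι K) : Matrix ι ι K)
        = SECGRP.blk o ((y⁻¹ : GL ι K) : Matrix ι ι K) *
            (((a : GL {i : ι // i ≠ o} K) : Matrix {i : ι // i ≠ o} {i : ι // i ≠ o} K) * ((a⁻¹ : GL {i : ι // i ≠ o} K) : Matrix {i : ι // i ≠ o} {i : ι // i ≠ o} K)) := by rw [h2, mul_one]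
      _ = ((a⁻¹ : GL {i : ι // i ≠ o} K) : Matrix {i : ι // i ≠ o} {i : ι // i ≠ o} K) := by rw [← mul_assoc, h1, one_mul]

end Cfsg.Agent.MonoP
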