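import Mathlib
import Cfsg.Agent.Helper3.S5655EVDefs
import Cfsg.Agent.Helper8.S5655EVE1PAIR
import Cfsg.Agent.Helper6.S5655EVTTWO

set_option autoImplicit false
set_option linter.unusedSectionVars false
set_option linter.unusedVariables false

/-! # S5655 k = 1, chapter "q EVEN", piece E1: if all transvections of `M` have a centre of weight 2 then `M` is monomial -/

namespace Cfsg.Agent.S5655K1.EV

open Matrix
open Cfsg.Agent.S2644 Cfsg.Agent.Helper2.SUGen Cfsg.Agent.Helper28.SimMax Cfsg.Agent.S5658P

variable {K : Type*} [Field K] {q n : ℕ}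

local notation "h" => Cfsg.hermForm n K q
local notation "T" => Cfsg.unitaryTransvection n q

/-- `A e_j` is column `j` (private copy of `COL.mulVec_single`, so that this piece does not wait for COL) -/
theorem E1.mulVec_single (A : Matrix (Fin n) (Fin n) K) (j : Fin n) :
    A *ᵥ Pi.single j 1 = col A j := by
  ext i
  simp [col]

/-! ## E1 (M): if all transvections of `M` have a centre of weight 2 then `M` is monomial -/

theorem E1.main [Fintype K] (D : Frob K q) (hK : Fintype.card K = q ^ 2) (hq : 2 ≤ q) (h2 : (2 : K) = 0)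
    (hn : 4 ≤ n) {M : Subgroup (Matrix.GeneralLinearGroup (Fin n) K)} (hM : Over q M)
    (hT : ∀ v : Fin n → K, h v v = 0 → v ≠ 0 → T v (1 : K) ∈ MS M → wt v = 2) :
    ∀ A ∈ MS M, IsMono A := by
  classical
  intro A hA j
  by_contra hj
  push Not at hj
  have hP := pres_of_MS hM.le hA
  have hdet := det_of_MS hM.le hA
  have hcol : ∀ a, A *ᵥ Pi.single a 1 = col A a := fun a => E1.mulVec_single A a
  have key : ∀ b, b ≠ j → supp (col A b) ⊆ supp (col A j) ∧ wt (col A j) ≤ 3 := by
    intro b hb
    have hxx : h (col A j) (col A j) = 1 := by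
      rw [← hcol, hP, h_single_right D]
      simp
    have hw : ∀ l : K, l * D.σ l = 1 → wt (col A j + l • col A b) = 2 := by
      intro l hl
      obtain ⟨hTm, hiso⟩ := TTWO.mem D h2 hM (Ne.symm hb) hl
      have h1 := MS_conj_T D hM.le hA hTm
      have e1 : A *ᵥ (Pi.single j 1 + l • Pi.single b 1) = col A j + l • col A b := by
        rw [Matrix.mulVec_add, Matrix.mulVec_smul, hcol, hcol]
      rw [e1] at h1
      apply hT _ _ _ h1
      · rw [← e1, hP]; exact hiso
      · intro h0
        have h3 := hP (Pi.single j 1 + l • Pi.single b 1) (Pi.single j 1)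
        rw [e1, h0, h_zero_left, h_single_right D] at h3
        simp [Ne.symm hb] at h3
    rcases E1PAIR.main D hK hq hxx hw with h1 | h1
    · omega
    · exact h1
  obtain ⟨b, hb⟩ : ∃ b : Fin n, b ≠ j := by
    by_cases hj0 : j = ⟨0, by omega⟩
    · exact ⟨⟨1, by omega⟩, by rw [hj0]; intro hh; exact absurd (Fin.mk.inj hh) (by omega)⟩
    · exact ⟨⟨0, by omega⟩, fun hh => hj0 hh.symm⟩
  have hcard : (supp (col A j)).card < Fintype.card (Fin n) := by
    rw [Fintype.card_fin]
    have := (key b hb).2
    unfold wt at this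
    omega
  obtain ⟨i, hi⟩ : ∃ i, i ∉ supp (col A j) := by
    by_contra hall
    push Not at hall
    have : supp (col A j) = Finset.univ := Finset.eq_univ_iff_forall.mpr hall
    rw [this, Finset.card_univ] at hcard
    exact lt_irrefl _ hcard
  have hrow : ∀ c, A i c = 0 := by
    intro c
    by_cases hc : c = j
    · subst hc
      by_contra hne
      exact hi (mem_supp.mpr hne)
    · by_contra hne
      exact hi ((key c hc).1 (mem_supp.mpr hne))
  have h0 := Matrix.det_eq_zero_of_row_eq_zero i hrow
  rw [hdet] at h0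
  exact one_ne_zero h0

end Cfsg.Agent.S5655K1.EV
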