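import Mathlib
import Cfsg.Agent.Helper3.S5655EVDefs
import Cfsg.Agent.Helper14.S5655EVQ2FIELD

set_option autoImplicit false
set_option linter.unusedSectionVars false
set_option linter.unusedVariables false

/-! # S5655 k = 1, chapter "q EVEN", piece Q2WT: `h z z = wt z` over the field with 4 elements -/

namespace Cfsg.Agent.S5655K1.EV

open Matrix
open Cfsg.Agent.S2644 Cfsg.Agent.Helper2.SUGen Cfsg.Agent.Helper28.SimMax Cfsg.Agent.S5658P

variable {K : Type*} [Field K] {q n : ℕ}

local notation "h" => Cfsg.hermForm n K q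
local notation "T" => Cfsg.unitaryTransvection n q

/-- `h z z = wt z` in `K` -/
theorem Q2WT.herm_self [Fintype K] (D : Frob K 2) (hK : Fintype.card K = 2 ^ 2) (z : Fin n → K) :
    Cfsg.hermForm n K 2 z z = ((wt z : ℕ) : K) := by
  classical
  have h1 : ((wt z : ℕ) : K) = ∑ i ∈ supp z, (1 : K) := by
    rw [Finset.sum_const, nsmul_eq_mul, mul_one]; rfl
  rw [h1]
  unfold Cfsg.hermForm supp
  rw [Finset.sum_filter]
  apply Finset.sum_congr rfl
  intro i _
  by_cases hi : z i = 0
  · rw [hi]; simp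
  · rw [if_pos hi, ← D.pow]
    exact Q2FIELD.norm_one D hK hi

theorem Q2WT.iso_iff_even [Fintype K] (D : Frob K 2) (hK : Fintype.card K = 2 ^ 2) (z : Fin n → K) :
    Cfsg.hermForm n K 2 z z = 0 ↔ Even (wt z) := by
  rw [Q2WT.herm_self D hK z]
  haveI : CharP K 2 := CharTwo.of_one_ne_zero_of_two_eq_zero one_ne_zero (Q2FIELD.two_eq_zero hK)
  rw [CharP.cast_eq_zero_iff K 2, even_iff_two_dvd]

end Cfsg.Agent.S5655K1.EV
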