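import Mathlib
import Cfsg.Agent.Helper3.S5655EVDefs
import Cfsg.Agent.Helper22.S5655EVQ2UP
import Cfsg.Agent.Helper22.S5655EVQ2FULL
import Cfsg.Agent.Helper6.S5655EVTTWO
import Cfsg.Agent.Helper14.S5655EVQ2FIELD
import Cfsg.Agent.Helper11.S5655EVQ2WT

set_option autoImplicit false
set_option linter.unusedSectionVars false
set_option linter.unusedVariables false

/-! # S5655 k = 1, chapter "q EVEN", piece Q2ALL: `q = 2`, `Good 4` gives all transvections -/

namespace Cfsg.Agent.S5655K1.EV

open Matrix
open Cfsg.Agent.S2644 Cfsg.Agent.Helper2.SUGen Cfsg.Agent.Helper28.SimMax Cfsg.Agent.S5658P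

variable {K : Type*} [Field K] {q n : ℕ}

local notation "h" => Cfsg.hermForm n K q
local notation "T" => Cfsg.unitaryTransvection n q

namespace Q2ALL

/-- a vector of weight `0` is zero (private copy of `COL.wt_eq_zero`, so that this piece does not wait for COL) -/
theorem wt_eq_zero {v : Fin n → K} (hv : wt v = 0) : v = 0 := by
  classical
  funext i
  by_contra hi
  have h1 : i ∈ supp v := mem_supp.mpr hi
  have h2 : supp v = ∅ := Finset.card_eq_zero.mp hv
  rw [h2] at h1
  exact absurd h1 (Finset.notMem_empty i)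

/-- weight 0 -/
theorem good_zero (M : Subgroup (Matrix.GeneralLinearGroup (Fin n) K)) : Good 2 M 0 := by
  intro z _ hz
  rw [wt_eq_zero hz, T_zero_vec]
  exact ⟨1, M.one_mem, rfl⟩

/-- weight 2 -/
theorem good_two [Fintype K] (D : Frob K 2) (hK : Fintype.card K = 2 ^ 2)
    {M : Subgroup (Matrix.GeneralLinearGroup (Fin n) K)} (hM : Over 2 M) : Good 2 M 2 := by
  intro z hzz hz
  have h2 : (2 : K) = 0 := Q2FIELD.two_eq_zero hK
  have hneg : (-1 : K) = 1 := by linear_combination (-1 : K) * h2
  apply hM.mono_mem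
  · apply pres_T D hzz
    rw [map_one, hneg]
  · exact det_T D hzz 1
  · exact TTWO.isMono D h2 hz (fun i hi => Q2FIELD.norm_one D hK hi)

end Q2ALL

/-! ## Q2ALL (M): all transvections (weights 0, 2: monomial; even weights `4 ≤ w < n` by Q2UP; `w = n` by Q2FULL) -/

theorem Q2ALL.main [Fintype K] (D : Frob K 2) (hK : Fintype.card K = 2 ^ 2) (hn : 7 ≤ n)
    {M : Subgroup (Matrix.GeneralLinearGroup (Fin n) K)} (hM : Over 2 M) (h4 : Good 2 M 4) :
    ∀ z : Fin n → K, Cfsg.hermForm n K 2 z z = 0 → Cfsg.unitaryTransvection n 2 z (1 : K) ∈ MS M := by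
  classical
  have hgood : ∀ m : ℕ, 2 * m ≤ n → Good 2 M (2 * m) := by
    intro m
    induction m with
    | zero => intro _; exact Q2ALL.good_zero M
    | succ m ih =>
      intro hm
      rcases Nat.lt_or_ge m 2 with hm2 | hm2
      · interval_cases m
        · exact Q2ALL.good_two D hK hM
        · exact h4
      · have ihm := ih (by omega)
        rcases Nat.lt_or_ge (2 * (m + 1)) n with hlt | hge
        · have := Q2UP.main D hK hM (w := 2 * m) (by omega) (by omega) h4 ihm
          have e : 2 * (m + 1) = 2 * m + 2 := by ring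
          rw [e]; exact this
        · have e : 2 * (m + 1) = n := le_antisymm hm hge
          have e' : n - 2 = 2 * m := by omega
          rw [e]
          apply Q2FULL.main D hK (by omega) hM h4
          rw [e']; exact ihm
  intro z hzz
  have hev : Even (wt z) := (Q2WT.iso_iff_even D hK z).mp hzz
  obtain ⟨r, hr⟩ := hev
  have hle : wt z ≤ n := by
    unfold wt
    calc (supp z).card ≤ Fintype.card (Fin n) := Finset.card_le_univ _
      _ = n := Fintype.card_fin n
  have hr' : wt z = 2 * r := by omega
  exact hgood r (by omega) z hzz hr'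

end Cfsg.Agent.S5655K1.EV
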