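import Mathlib
import Cfsg.Agent.Helper3.S5655EVDefs
import Cfsg.Agent.Helper8.S5655EVE2
import Cfsg.Agent.Helper14.S5655EVQ2MAIN
import Cfsg.Agent.Helper11.S5655EVE1

set_option autoImplicit false
set_option linter.unusedSectionVars false
set_option linter.unusedVariables false

/-! # S5655 k = 1, chapter "q EVEN", piece MAIN: the chapter assembly -/

namespace Cfsg.Agent.S5655K1.EV

open Matrix
open Cfsg.Agent.S2644 Cfsg.Agent.Helper2.SUGen Cfsg.Agent.Helper28.SimMax Cfsg.Agent.S5658P

variable {K : Type*} [Field K] {q n : ℕ}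

local notation "h" => Cfsg.hermForm n K q
local notation "T" => Cfsg.unitaryTransvection n q

/-- characteristic 2 (private copy of `CHAR2.two_eq_zero`, so that the assembly does not wait for CHAR2) -/
theorem MAIN.two_eq_zero [Fintype K] (hK : Fintype.card K = q ^ 2) (hq : Even q) : (2 : K) = 0 := by
  have h1 : Fintype.card K % 2 = 0 := by
    rw [hK]
    exact Nat.even_iff.mp ((Nat.even_pow' (by norm_num)).mpr hq)
  have h3 : ringChar K = 2 := FiniteField.even_card_iff_char_two.mpr h1
  haveI : CharP K 2 := (ringChar.eq_iff).mp h3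
  exact CharTwo.two_eq_zero

/-! ## MAIN (S): the chapter -/

theorem main [Fintype K] (D : Frob K q) (hK : Fintype.card K = q ^ 2) (hq : Even q) (hq0 : 2 ≤ q)
    (hn : 13 ≤ n) {M : Subgroup (Matrix.GeneralLinearGroup (Fin n) K)} (hM : Over q M)
    (hB : 4 ≤ q → PropB M) :
    (∀ A ∈ MS M, IsMono A) ∨ M = Cfsg.GU n K q ⊓ Cfsg.Geo.specialLinear (Fin n) K := by
  by_cases hq2 : q = 2
  · subst hq2
    exact Q2MAIN.main D hK hn hM
  · have hq4 : 4 ≤ q := by
      obtain ⟨r, hr⟩ := hq
      omega
    have h2 : (2 : K) = 0 := MAIN.two_eq_zero hK hq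
    left
    exact E1.main D hK hq0 h2 (by omega) hM
      (fun v hvv hv hT => E2.main D hK hq4 h2 (by omega) hM (hB hq4) hvv hv hT)

end Cfsg.Agent.S5655K1.EV
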