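import Mathlib
import Cfsg.Agent.Helper28.S5658.Defs
import Cfsg.Agent.Helper28.S5658.Lib

/-! S5658 piece RGRP (driver helper28): the group `R` generated by `RSet`. -/

set_option autoImplicit false

namespace Cfsg.Agent.S5658P

open Matrix
open Cfsg.Agent.S2644 Cfsg.Agent.Helper2.SUGen Cfsg.Agent.Helper28.SimMax Cfsg.Agent.S5639P

variable {K : Type*} [Field K] {q n : ℕ}

local notation "h" => Cfsg.hermForm n K q
local notation "T" => Cfsg.unitaryTransvection n q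

/-- RGRP -/
theorem RGRP.mulVec (D : Frob K q) {u₀ w₀ : Fin n → K} (huu : h u₀ u₀ = 0) (hww : h w₀ w₀ = 0)
    (hwu : h w₀ u₀ = 0) (s s' c : K) (z : Fin n → K) :
    (T u₀ s * T w₀ s' * S q u₀ w₀ c) *ᵥ z =
      z + (s * h z u₀ - D.σ c * h z w₀) • u₀ + (s' * h z w₀ + c * h z u₀) • w₀ := by
  have huw : h u₀ w₀ = 0 := h_symm_zero D hwu
  rw [← Matrix.mulVec_mulVec, ← Matrix.mulVec_mulVec, S_mulVec D, T_mulVec, T_mulVec]
  simp only [h_add_left, h_sub_left, h_smul_left, huu, hww, hwu, huw, mul_zero, add_zero, sub_zero]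
  module

namespace RGRP

/-- the product of two elements of `RSet`: the parameters add -/
theorem mul_eq (D : Frob K q) {u₀ w₀ : Fin n → K} (huu : h u₀ u₀ = 0) (hww : h w₀ w₀ = 0)
    (hwu : h w₀ u₀ = 0) (s s' c t t' d : K) :
    (T u₀ s * T w₀ s' * S q u₀ w₀ c) * (T u₀ t * T w₀ t' * S q u₀ w₀ d) =
      T u₀ (s + t) * T w₀ (s' + t') * S q u₀ w₀ (c + d) := by
  have huw : h u₀ w₀ = 0 := h_symm_zero D hwu
  apply mat_ext
  intro z
  rw [← Matrix.mulVec_mulVec, RGRP.mulVec D huu hww hwu, RGRP.mulVec D huu hww hwu,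
    RGRP.mulVec D huu hww hwu]
  simp only [h_add_left, h_smul_left, huu, hww, hwu, huw, mul_zero, add_zero, map_add]
  module

theorem one_eq (D : Frob K q) (u₀ w₀ : Fin n → K) :
    T u₀ (0 : K) * T w₀ (0 : K) * S q u₀ w₀ (0 : K) = 1 := by
  rw [T_zero, T_zero, S_zero D, mul_one, mul_one]

theorem one_mem (D : Frob K q) (F₀ : Subfield K) (u₀ w₀ : Fin n → K) :
    (1 : Matrix (Fin n) (Fin n) K) ∈ RSet D F₀ u₀ w₀ :=
  ⟨0, 0, 0, F₀.zero_mem, F₀.zero_mem, F₀.zero_mem, by simp, by simp, (one_eq D u₀ w₀).symm⟩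

theorem mul_mem (D : Frob K q) (F₀ : Subfield K) {u₀ w₀ : Fin n → K} (huu : h u₀ u₀ = 0)
    (hww : h w₀ w₀ = 0) (hwu : h w₀ u₀ = 0) {A B : Matrix (Fin n) (Fin n) K}
    (hA : A ∈ RSet D F₀ u₀ w₀) (hB : B ∈ RSet D F₀ u₀ w₀) : A * B ∈ RSet D F₀ u₀ w₀ := by
  obtain ⟨s, s', c, hs, hs', hc, hσs, hσs', rfl⟩ := hA
  obtain ⟨t, t', d, ht, ht', hd, hσt, hσt', rfl⟩ := hB
  refine ⟨s + t, s' + t', c + d, F₀.add_mem hs ht, F₀.add_mem hs' ht', F₀.add_mem hc hd, ?_, ?_,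
    mul_eq D huu hww hwu s s' c t t' d⟩
  · rw [map_add, hσs, hσt]; ring
  · rw [map_add, hσs', hσt']; ring

theorem inv_mem (D : Frob K q) (F₀ : Subfield K) {u₀ w₀ : Fin n → K} (huu : h u₀ u₀ = 0)
    (hww : h w₀ w₀ = 0) (hwu : h w₀ u₀ = 0) (g : Matrix.GeneralLinearGroup (Fin n) K)
    (hg : (g : Matrix (Fin n) (Fin n) K) ∈ RSet D F₀ u₀ w₀) :
    ((g⁻¹ : Matrix.GeneralLinearGroup (Fin n) K) : Matrix (Fin n) (Fin n) K) ∈ RSet D F₀ u₀ w₀ := by
  obtain ⟨s, s', c, hs, hs', hc, hσs, hσs', hg⟩ := hg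
  refine ⟨-s, -s', -c, F₀.neg_mem hs, F₀.neg_mem hs', F₀.neg_mem hc, ?_, ?_, ?_⟩
  · rw [map_neg, hσs]
  · rw [map_neg, hσs']
  · have h1 : (g : Matrix (Fin n) (Fin n) K) * (T u₀ (-s) * T w₀ (-s') * S q u₀ w₀ (-c)) = 1 := by
      rw [hg, mul_eq D huu hww hwu, add_neg_cancel, add_neg_cancel, add_neg_cancel, one_eq D]
    calc ((g⁻¹ : Matrix.GeneralLinearGroup (Fin n) K) : Matrix (Fin n) (Fin n) K)
        = ((g⁻¹ : Matrix.GeneralLinearGroup (Fin n) K) : Matrix (Fin n) (Fin n) K) *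
            ((g : Matrix (Fin n) (Fin n) K) * (T u₀ (-s) * T w₀ (-s') * S q u₀ w₀ (-c))) := by
          rw [h1, mul_one]
      _ = T u₀ (-s) * T w₀ (-s') * S q u₀ w₀ (-c) := by
          rw [← mul_assoc, inv_mul_coe, one_mul]

end RGRP

theorem RGRP.mem_iff (D : Frob K q) (F₀ : Subfield K) {u₀ w₀ : Fin n → K} (huu : h u₀ u₀ = 0)
    (hww : h w₀ w₀ = 0) (hwu : h w₀ u₀ = 0) (g : Matrix.GeneralLinearGroup (Fin n) K) :
    g ∈ Rgrp D F₀ u₀ w₀ ↔ (g : Matrix (Fin n) (Fin n) K) ∈ RSet D F₀ u₀ w₀ := by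
  constructor
  · intro hg
    unfold Rgrp at hg
    induction hg using Subgroup.closure_induction with
    | mem x hx => exact hx
    | one => exact RGRP.one_mem D F₀ u₀ w₀
    | mul x y _ _ hx hy =>
      rw [Units.val_mul]
      exact RGRP.mul_mem D F₀ huu hww hwu hx hy
    | inv x _ hx => exact RGRP.inv_mem D F₀ huu hww hwu x hx
  · intro hg
    exact Subgroup.subset_closure hg

theorem RGRP.comm (D : Frob K q) (F₀ : Subfield K) {u₀ w₀ : Fin n → K} (huu : h u₀ u₀ = 0)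
    (hww : h w₀ w₀ = 0) (hwu : h w₀ u₀ = 0) (a b : Matrix.GeneralLinearGroup (Fin n) K)
    (ha : a ∈ Rgrp D F₀ u₀ w₀) (hb : b ∈ Rgrp D F₀ u₀ w₀) : a * b = b * a := by
  rw [RGRP.mem_iff D F₀ huu hww hwu] at ha hb
  obtain ⟨s, s', c, -, -, -, -, -, ha⟩ := ha
  obtain ⟨t, t', d, -, -, -, -, -, hb⟩ := hb
  apply Units.ext
  rw [Units.val_mul, Units.val_mul, ha, hb, RGRP.mul_eq D huu hww hwu, RGRP.mul_eq D huu hww hwu,
    add_comm s t, add_comm s' t', add_comm c d]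

theorem RGRP.isPGroup (p : ℕ) [Fact p.Prime] [CharP K p] (D : Frob K q) (F₀ : Subfield K)
    {u₀ w₀ : Fin n → K} (huu : h u₀ u₀ = 0) (hww : h w₀ w₀ = 0) (hwu : h w₀ u₀ = 0) :
    IsPGroup p (Rgrp D F₀ u₀ w₀) := by
  intro g
  refine ⟨1, ?_⟩
  rw [pow_one]
  have hg := (RGRP.mem_iff D F₀ huu hww hwu (g : Matrix.GeneralLinearGroup (Fin n) K)).1 g.2
  obtain ⟨s, s', c, -, -, -, -, -, hg⟩ := hg
  -- powers: the parameters are multiplied by `k`
  have hpow : ∀ k : ℕ, (((g : Matrix.GeneralLinearGroup (Fin n) K) ^ k :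
      Matrix.GeneralLinearGroup (Fin n) K) : Matrix (Fin n) (Fin n) K) =
      T u₀ ((k : K) * s) * T w₀ ((k : K) * s') * S q u₀ w₀ ((k : K) * c) := by
    intro k
    induction k with
    | zero => simp [RGRP.one_eq D u₀ w₀]
    | succ k ih =>
      rw [pow_succ, Units.val_mul, ih, hg, RGRP.mul_eq D huu hww hwu]
      push_cast
      congr 2 <;> ring_nf
  apply Subtype.ext
  apply Units.ext
  rw [Subgroup.coe_pow, hpow p, CharP.cast_eq_zero K p, zero_mul, zero_mul, zero_mul, RGRP.one_eq D]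
  rfl

end Cfsg.Agent.S5658P
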