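import Mathlib
import Cfsg.Agent.Helper28.S5658.Defs
import Cfsg.Agent.Helper28.S5658.Lib
import Cfsg.Agent.Helper11.S5658RGRP

/-! S5658 piece RNCYC (driver helper28): the group `R` is not cyclic. -/

set_option autoImplicit false

namespace Cfsg.Agent.S5658P

open Matrix
open Cfsg.Agent.S2644 Cfsg.Agent.Helper2.SUGen Cfsg.Agent.Helper28.SimMax Cfsg.Agent.S5639P

variable {K : Type*} [Field K] {q n : ℕ}

local notation "h" => Cfsg.hermForm n K q
local notation "T" => Cfsg.unitaryTransvection n q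

namespace RNCYC

/-- the element `R(s, s', c)` of `GL` -/
noncomputable def el (D : Frob K q) {u₀ w₀ : Fin n → K} (huu : h u₀ u₀ = 0) (hww : h w₀ w₀ = 0)
    (hwu : h w₀ u₀ = 0) (s s' c : K) : Matrix.GeneralLinearGroup (Fin n) K :=
  toGL (T u₀ s * T w₀ s' * S q u₀ w₀ c) (T u₀ (-s) * T w₀ (-s') * S q u₀ w₀ (-c))
    (by rw [RGRP.mul_eq D huu hww hwu, add_neg_cancel, add_neg_cancel, add_neg_cancel,
      RGRP.one_eq D])
    (by rw [RGRP.mul_eq D huu hww hwu, neg_add_cancel, neg_add_cancel, neg_add_cancel,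
      RGRP.one_eq D])

theorem el_val (D : Frob K q) {u₀ w₀ : Fin n → K} (huu : h u₀ u₀ = 0) (hww : h w₀ w₀ = 0)
    (hwu : h w₀ u₀ = 0) (s s' c : K) :
    ((el D huu hww hwu s s' c : Matrix.GeneralLinearGroup (Fin n) K) :
      Matrix (Fin n) (Fin n) K) = T u₀ s * T w₀ s' * S q u₀ w₀ c := rfl

theorem el_mem (D : Frob K q) (F₀ : Subfield K) {u₀ w₀ : Fin n → K} (huu : h u₀ u₀ = 0)
    (hww : h w₀ w₀ = 0) (hwu : h w₀ u₀ = 0) {s s' c : K} (hs : s ∈ F₀) (hs' : s' ∈ F₀) (hc : c ∈ F₀)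
    (hσs : D.σ s = -s) (hσs' : D.σ s' = -s') : el D huu hww hwu s s' c ∈ Rgrp D F₀ u₀ w₀ :=
  Subgroup.subset_closure ⟨s, s', c, hs, hs', hc, hσs, hσs', rfl⟩

theorem el_pow (D : Frob K q) {u₀ w₀ : Fin n → K} (huu : h u₀ u₀ = 0) (hww : h w₀ w₀ = 0)
    (hwu : h w₀ u₀ = 0) (s s' c : K) (k : ℕ) :
    el D huu hww hwu s s' c ^ k = el D huu hww hwu ((k : K) * s) ((k : K) * s') ((k : K) * c) := by
  apply Units.ext
  induction k with
  | zero => simp [el_val, RGRP.one_eq D u₀ w₀]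
  | succ k ih =>
    rw [pow_succ, Units.val_mul, ih, el_val, el_val, el_val, RGRP.mul_eq D huu hww hwu]
    push_cast
    congr 2 <;> ring_nf

/-- a vector not orthogonal to a non-zero vector -/
theorem exists_h_ne (D : Frob K q) {w : Fin n → K} (hw : w ≠ 0) : ∃ z : Fin n → K, h z w ≠ 0 := by
  by_contra hcon
  push Not at hcon
  exact hw (h_nondeg D (fun y => h_symm_zero D (hcon y)))

end RNCYC

open RNCYC in
/-- RNCYC -/
theorem RNCYC.not_isCyclic (p : ℕ) [Fact p.Prime] [CharP K p] (D : Frob K q) (F₀ : Subfield K)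
    (hθ : ∃ θ ∈ F₀, D.σ θ ≠ θ) {u₀ w₀ : Fin n → K} (huu : h u₀ u₀ = 0) (hww : h w₀ w₀ = 0)
    (hwu : h w₀ u₀ = 0) (hi : LinearIndependent K ![u₀, w₀]) : ¬ IsCyclic (Rgrp D F₀ u₀ w₀) := by
  intro hcyc
  obtain ⟨s₀, hs₀F, hs₀, hσs₀⟩ := exists_rat_skew D F₀ hθ
  have hu0 : u₀ ≠ 0 := by simpa using hi.ne_zero 0
  have hw0 : w₀ ≠ 0 := by simpa using hi.ne_zero 1
  have hpair := LinearIndependent.pair_iff.1 hi
  -- the two elements
  have hz0 : D.σ (0 : K) = -0 := by simp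
  set a : Rgrp D F₀ u₀ w₀ :=
    ⟨el D huu hww hwu s₀ 0 0, el_mem D F₀ huu hww hwu hs₀F F₀.zero_mem F₀.zero_mem hσs₀ hz0⟩ with ha
  set b : Rgrp D F₀ u₀ w₀ :=
    ⟨el D huu hww hwu 0 s₀ 0, el_mem D F₀ huu hww hwu F₀.zero_mem hs₀F F₀.zero_mem hz0 hσs₀⟩ with hb
  -- exponent `p`
  have hexp : ∀ g : Rgrp D F₀ u₀ w₀, g ^ p = 1 := by
    intro g
    have hg := (RGRP.mem_iff D F₀ huu hww hwu (g : Matrix.GeneralLinearGroup (Fin n) K)).1 g.2
    obtain ⟨s, s', c, -, -, -, -, -, hg⟩ := hg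
    have hge : (g : Matrix.GeneralLinearGroup (Fin n) K) = el D huu hww hwu s s' c :=
      Units.ext hg
    apply Subtype.ext
    rw [Subgroup.coe_pow, hge, el_pow, CharP.cast_eq_zero K p, zero_mul, zero_mul, zero_mul]
    apply Units.ext
    rw [el_val, RGRP.one_eq D]
    rfl
  have hcard : Nat.card (Rgrp D F₀ u₀ w₀) ∣ p := by
    rw [← IsCyclic.exponent_eq_card]
    exact Monoid.exponent_dvd_iff_forall_pow_eq_one.2 hexp
  -- `a ≠ 1`
  have ha1 : a ≠ 1 := by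
    intro h1
    obtain ⟨z, hz⟩ := exists_h_ne D hu0
    have e := congrArg (fun g : Rgrp D F₀ u₀ w₀ =>
      ((g : Matrix.GeneralLinearGroup (Fin n) K) : Matrix (Fin n) (Fin n) K) *ᵥ z) h1
    simp only [ha, el_val, RGRP.mulVec D huu hww hwu, OneMemClass.coe_one, Units.val_one,
      Matrix.one_mulVec, map_zero, zero_mul, sub_zero, add_zero, zero_smul] at e
    have e' : (s₀ * h z u₀) • u₀ + (0 : K) • w₀ = 0 := by
      rw [zero_smul, add_zero]
      simpa using e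
    exact mul_ne_zero hs₀ hz (hpair _ _ e').1
  have hp : Nat.card (Rgrp D F₀ u₀ w₀) = p := by
    rcases (Nat.dvd_prime (Fact.out : p.Prime)).1 hcard with h1 | h1
    · exfalso
      have : Subsingleton (Rgrp D F₀ u₀ w₀) := (Nat.card_eq_one_iff_unique.1 h1).1
      exact ha1 (Subsingleton.elim _ _)
    · exact h1
  have htop := zpowers_eq_top_of_prime_card hp ha1
  have hbmem : b ∈ Subgroup.zpowers a := by rw [htop]; trivial
  have hfin : IsOfFinOrder a := isOfFinOrder_iff_pow_eq_one.2 ⟨p, (Fact.out : p.Prime).pos, hexp a⟩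
  rw [← hfin.mem_powers_iff_mem_zpowers] at hbmem
  obtain ⟨k, hk⟩ := hbmem
  -- compare the two matrices on a vector `z` with `h z w₀ ≠ 0`
  obtain ⟨z, hz⟩ := exists_h_ne D hw0
  have e := congrArg (fun g : Rgrp D F₀ u₀ w₀ =>
    ((g : Matrix.GeneralLinearGroup (Fin n) K) : Matrix (Fin n) (Fin n) K) *ᵥ z) hk
  simp only [ha, hb, Subgroup.coe_pow, el_pow, el_val, RGRP.mulVec D huu hww hwu, map_zero,
    zero_mul, mul_zero, sub_zero, add_zero, zero_smul] at e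
  have e' : ((k : K) * s₀ * h z u₀) • u₀ + (-(s₀ * h z w₀)) • w₀ = 0 := by
    have e2 : z + ((k : K) * s₀ * h z u₀) • u₀ = z + (s₀ * h z w₀) • w₀ := by simpa using e
    have e3 := add_left_cancel e2
    rw [e3, neg_smul, add_neg_cancel]
  have := (hpair _ _ e').2
  exact mul_ne_zero hs₀ hz (neg_eq_zero.1 this)

end Cfsg.Agent.S5658P
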