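import Mathlib
import Cfsg.Prelude.Def_GeometricClasses
import Cfsg.Agent.Helper2.S5886.Defs
import Cfsg.Agent.Helper2.S5664.Defs
import Cfsg.Agent.Helper22.S5886YADD
import Cfsg.Agent.Helper10.S5664YKILL
import Cfsg.Agent.Helper22.S5664YREP
import Cfsg.Agent.Helper25.S5664SYMREL
import Cfsg.Agent.Helper4.S5664YTOR
import Cfsg.Agent.Helper20.S5664NSPAN
import Cfsg.Agent.Helper22.S5664YPIcore
import Cfsg.Agent.Helper18.S5664YPOL

/-! # S5664 (driver helper2), piece YPIECE (helper11): the `{σ, σ⁻¹}`-piece of `yset M (K v)` is everything. -/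

set_option autoImplicit false

namespace Cfsg.Agent.S5664P

open Cfsg.Agent.S5886P

variable {F K V : Type*} [Field F] [Field K] [Algebra F K]
  [AddCommGroup V] [Module F V] [Module K V] [IsScalarTower F K V]

namespace YPIECE

theorem smap_add (B : V →ₗ[K] V →ₗ[K] K) (v : V) (σ : K ≃ₐ[F] K) (a a' : K) :
    smap B v σ (a + a') = smap B v σ a + smap B v σ a' := by
  ext x
  rw [LinearMap.add_apply, smap_apply, smap_apply, smap_apply, add_mul, add_smul]

theorem smap_zero (B : V →ₗ[K] V →ₗ[K] K) (v : V) (σ : K ≃ₐ[F] K) :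
    smap B v σ (0 : K) = 0 := by
  ext x
  rw [smap_apply, zero_mul, zero_smul, LinearMap.zero_apply]

theorem smap_neg (B : V →ₗ[K] V →ₗ[K] K) (v : V) (σ : K ≃ₐ[F] K) (a : K) :
    smap B v σ (-a) = - smap B v σ a := by
  ext x
  rw [LinearMap.neg_apply, smap_apply, smap_apply, neg_mul, neg_smul]

/-- the torus action on a semilinear piece -/
theorem tor_smap (B : V →ₗ[K] V →ₗ[K] K) (v : V) (σ : K ≃ₐ[F] K) (a e : K) :
    e • (smap B v σ a ∘ₗ DistribSMul.toLinearMap F V e) = smap B v σ (a * (e * σ e)) := by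
  ext x
  rw [LinearMap.smul_apply, LinearMap.comp_apply, smap_apply, smap_apply]
  have h1 : (DistribSMul.toLinearMap F V e) x = e • x := rfl
  rw [h1, map_smul, LinearMap.smul_apply, smul_eq_mul, map_mul, smul_smul]
  congr 1
  ring

/-- the additive subgroup of admissible parameters -/
def sgrp (B : V →ₗ[K] V →ₗ[K] K) (M : Subgroup (V ≃ₗ[F] V)) (v : V) (σ : K ≃ₐ[F] K) (a : K) :
    AddSubgroup K where
  carrier := {s | smap B v σ (a * s) + smap B v σ⁻¹ (σ⁻¹ (a * s)) ∈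
    yset M (Kline (F := F) (K := K) v)}
  zero_mem' := by
    show smap B v σ (a * 0) + smap B v σ⁻¹ (σ⁻¹ (a * 0)) ∈ yset M (Kline (F := F) (K := K) v)
    rw [mul_zero, map_zero, smap_zero, smap_zero, add_zero]
    exact YADD.zero M _
  add_mem' := by
    intro s s' hs hs'
    show smap B v σ (a * (s + s')) + smap B v σ⁻¹ (σ⁻¹ (a * (s + s'))) ∈ yset M (Kline (F := F) (K := K) v)
    rw [mul_add, map_add, smap_add, smap_add]
    have := YADD.add M _ _ _ hs hs'
    convert this using 1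
    abel
  neg_mem' := by
    intro s hs
    show smap B v σ (a * (-s)) + smap B v σ⁻¹ (σ⁻¹ (a * (-s))) ∈ yset M (Kline (F := F) (K := K) v)
    rw [mul_neg, map_neg, smap_neg, smap_neg]
    have := YADD.neg M _ _ hs
    convert this using 1
    abel

end YPIECE

theorem YPIECE [Finite F] [Finite K] [Finite V] (hr : (Module.finrank F K).Prime)
    (hodd : Module.finrank F K ≠ 2)
    (B : V →ₗ[K] V →ₗ[K] K) (hB : IsAltND B)
    (M : Subgroup (V ≃ₗ[F] V)) (hK : SpK F B ≤ M) (hM : M ≤ SpF F B) (v : V) (hv : v ≠ 0)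
    (σ : K ≃ₐ[F] K) (hσ : σ ≠ 1) (hS : σ ∈ Sig' (K := K) M (Kline (F := F) (K := K) v)) (c : K) :
    smap B v σ c + smap B v σ⁻¹ (σ⁻¹ c) ∈ yset M (Kline (F := F) (K := K) v) := by
  obtain ⟨A, hA, hne⟩ := hS
  have hkill : ∀ x, B x v = 0 → A x = 0 := fun x hx => YKILL B hB M hM v A hA x hx
  obtain ⟨a, ha⟩ := YREP B hB v hv A hA.1 hkill σ
  obtain ⟨a', ha'⟩ := YREP B hB v hv A hA.1 hkill σ⁻¹
  obtain ⟨g, hgM, hgA⟩ := hA.2
  have haa' : a' = σ⁻¹ a := SYMREL B hB v hv A hA.1 g (hM hgM) hgA σ a a' ha ha'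
  have ha0 : a ≠ 0 := by
    intro h0
    apply hne
    rw [ha, h0, YPIECE.smap_zero]
  have hP : smap B v σ a + smap B v σ⁻¹ (σ⁻¹ a) ∈ yset M (Kline (F := F) (K := K) v) := by
    have := YPI.core M (Kline (F := F) (K := K) v) σ A
      (fun e e' => YPOL B hB M hK hM v hv e e' A hA)
    rwa [ha, ha', haa'] at this
  have hgen : ∀ e : K, e ≠ 0 → e * σ e ∈ YPIECE.sgrp B M v σ a := by
    intro e he
    have h1 := YTOR B hB M hK hM v hv e he _ hP
    show smap B v σ (a * (e * σ e)) + smap B v σ⁻¹ (σ⁻¹ (a * (e * σ e))) ∈ yset M (Kline (F := F) (K := K) v)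
    rw [LinearMap.add_comp, smul_add, YPIECE.tor_smap, YPIECE.tor_smap] at h1
    have h2 : σ⁻¹ a * (e * σ⁻¹ e) = σ⁻¹ (a * (e * σ e)) := by
      rw [map_mul, map_mul]
      have : σ⁻¹ (σ e) = e := by
        show σ.symm (σ e) = e
        exact σ.symm_apply_apply e
      rw [this]
      ring
    rwa [h2] at h1
  have htop : YPIECE.sgrp B M v σ a = ⊤ := by
    rw [eq_top_iff, ← NSPAN hr hodd σ hσ]
    rw [AddSubgroup.closure_le]
    rintro _ ⟨e, he, rfl⟩
    exact hgen e he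
  have hmem : a⁻¹ * c ∈ YPIECE.sgrp B M v σ a := by rw [htop]; trivial
  have h3 : smap B v σ (a * (a⁻¹ * c)) + smap B v σ⁻¹ (σ⁻¹ (a * (a⁻¹ * c))) ∈
      yset M (Kline (F := F) (K := K) v) := hmem
  rwa [mul_inv_cancel_left₀ ha0] at h3

end Cfsg.Agent.S5664P
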