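import Mathlib
import Cfsg.Prelude.Def_GeometricClasses
import Cfsg.Agent.Helper2.S5886.Defs
import Cfsg.Agent.Helper2.S5664.Defs
import Cfsg.Agent.Helper22.S5886YADD
import Cfsg.Agent.Helper22.S5886PROJB
import Cfsg.Agent.Helper23.S5886GALFIX
import Cfsg.Agent.Helper10.S5664YKILL
import Cfsg.Agent.Helper5.S5664YKTV
import Cfsg.Agent.Helper25.S5664YONE
import Cfsg.Agent.Helper22.S5664YREP
import Cfsg.Agent.Helper25.S5664SYMREL
import Cfsg.Agent.Helper4.S5664YTOR

/-! # S5664 (driver helper2), piece YPIECE2 (helper11): `r = 2`, every `σ ∈ Sig'` has `smap σ 1 ∈ yset M (K v)`. -/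

set_option autoImplicit false

namespace Cfsg.Agent.S5664P

open Cfsg.Agent.S5886P

variable {F K V : Type*} [Field F] [Field K] [Algebra F K]
  [AddCommGroup V] [Module F V] [Module K V] [IsScalarTower F K V]

namespace YPIECE2

theorem smap_zero (B : V →ₗ[K] V →ₗ[K] K) (v : V) (σ : K ≃ₐ[F] K) :
    smap B v σ (0 : K) = 0 := by
  ext x
  rw [smap_apply, zero_mul, zero_smul, LinearMap.zero_apply]

/-- the torus action on a semilinear piece -/
theorem tor_smap (B : V →ₗ[K] V →ₗ[K] K) (v : V) (σ : K ≃ₐ[F] K) (a e : K) :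
    e • (smap B v σ a ∘ₗ DistribSMul.toLinearMap F V e) = smap B v σ (a * (e * σ e)) := by
  ext x
  rw [LinearMap.smul_apply, LinearMap.comp_apply, smap_apply, smap_apply]
  have h1 : (DistribSMul.toLinearMap F V e) x = e • x := rfl
  rw [h1, map_smul, LinearMap.smul_apply, smul_eq_mul, map_mul, smul_smul]
  congr 1
  ring

/-- in a quadratic extension the Galois group is `{1, σ}` -/
theorem gal_two [Finite F] [Finite K] (hr2 : Module.finrank F K = 2) (σ : K ≃ₐ[F] K) (hσ : σ ≠ 1)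
    (τ : K ≃ₐ[F] K) : τ = 1 ∨ τ = σ := by
  classical
  have hcard : Nat.card (K ≃ₐ[F] K) = 2 := by
    rw [IsGalois.card_aut_eq_finrank F K, hr2]
  by_contra hcon
  push Not at hcon
  have h3 : 3 ≤ Nat.card (K ≃ₐ[F] K) := by
    have : Fintype (K ≃ₐ[F] K) := Fintype.ofFinite _
    rw [Nat.card_eq_fintype_card]
    have hsub : ({1, σ, τ} : Finset (K ≃ₐ[F] K)).card ≤ Fintype.card (K ≃ₐ[F] K) :=
      Finset.card_le_univ _
    have h3' : ({1, σ, τ} : Finset (K ≃ₐ[F] K)).card = 3 := by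
      rw [Finset.card_insert_of_notMem, Finset.card_insert_of_notMem, Finset.card_singleton]
      · simpa using Ne.symm hcon.2
      · simp only [Finset.mem_insert, Finset.mem_singleton, not_or]
        exact ⟨Ne.symm hσ, Ne.symm hcon.1⟩
    omega
  omega

end YPIECE2

theorem YPIECE2 [Finite F] [Finite K] [Finite V] (hr2 : Module.finrank F K = 2)
    (B : V →ₗ[K] V →ₗ[K] K) (hB : IsAltND B)
    (M : Subgroup (V ≃ₗ[F] V)) (hK : SpK F B ≤ M) (hM : M ≤ SpF F B) (v : V) (hv : v ≠ 0)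
    (σ : K ≃ₐ[F] K) (hS : σ ∈ Sig' (K := K) M (Kline (F := F) (K := K) v)) :
    smap B v σ 1 ∈ yset M (Kline (F := F) (K := K) v) := by
  classical
  by_cases hσ : σ = 1
  · rw [hσ]
    exact YKTV B hB M hK v 1
  have hr : (Module.finrank F K).Prime := by rw [hr2]; exact Nat.prime_two
  obtain ⟨A, hA, hne⟩ := hS
  have hgal := YPIECE2.gal_two hr2 σ hσ
  have hinv : σ⁻¹ = σ := by
    rcases hgal σ⁻¹ with h | h
    · exfalso; apply hσ
      rw [← inv_inv σ, h, inv_one]
    · exact h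
  -- `A = proj 1 A + proj σ A`
  have hsum : proj (1 : K ≃ₐ[F] K) A + proj σ A = A := by
    have : Fintype (K ≃ₐ[F] K) := Fintype.ofFinite _
    have h := PROJ.sum (F := F) (K := K) A
    rw [finsum_eq_sum_of_fintype] at h
    have huniv : (Finset.univ : Finset (K ≃ₐ[F] K)) = {1, σ} := by
      ext τ
      simp only [Finset.mem_univ, Finset.mem_insert, Finset.mem_singleton, true_iff]
      exact hgal τ
    rw [huniv, Finset.sum_pair (Ne.symm hσ)] at h
    exact h
  have hσA : proj σ A ∈ yset M (Kline (F := F) (K := K) v) := by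
    have h1 : proj σ A = A + - proj (1 : K ≃ₐ[F] K) A := by
      rw [← sub_eq_add_neg, eq_sub_iff_add_eq, add_comm]; exact hsum
    rw [h1]
    exact YADD.add M _ _ _ hA (YADD.neg M _ _ (YONE B hB M hK hM v hv A hA))
  have hkill : ∀ x, B x v = 0 → A x = 0 := fun x hx => YKILL B hB M hM v A hA x hx
  obtain ⟨a, ha⟩ := YREP B hB v hv A hA.1 hkill σ
  obtain ⟨g, hgM, hgA⟩ := hA.2
  have ha' : proj σ⁻¹ A = smap B v σ⁻¹ a := by rw [hinv]; exact ha
  have haa : a = σ⁻¹ a := SYMREL B hB v hv A hA.1 g (hM hgM) hgA σ a a ha ha'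
  have hfix : σ a = a := by
    rw [hinv] at haa
    exact haa.symm
  have ha0 : a ≠ 0 := by
    intro h0
    apply hne
    rw [ha, h0, YPIECE2.smap_zero]
  have haF : a ∈ Set.range (algebraMap F K) := by
    by_contra hcon
    exact hσ (GALFIX hr σ a hcon hfix)
  obtain ⟨a₀, rfl⟩ := haF
  have ha₀ : a₀ ≠ 0 := by
    intro h0; apply ha0; rw [h0, map_zero]
  obtain ⟨e, he⟩ := FiniteField.norm_surjective F K a₀⁻¹
  have he0 : e ≠ 0 := by
    intro h0
    rw [h0, Algebra.norm_zero] at he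
    exact inv_ne_zero ha₀ he.symm
  have hprod : ∀ (inst : Fintype (K ≃ₐ[F] K)),
      (@Finset.univ _ inst).prod (fun τ : K ≃ₐ[F] K => τ e) = e * σ e := by
    intro inst
    have huniv : (@Finset.univ _ inst) = {1, σ} := by
      ext τ
      simp only [Finset.mem_univ, Finset.mem_insert, Finset.mem_singleton, true_iff]
      exact hgal τ
    rw [huniv, Finset.prod_pair (Ne.symm hσ)]
    rfl
  have hnorm : e * σ e = algebraMap F K a₀⁻¹ := by
    rw [← he, Algebra.norm_eq_prod_automorphisms, hprod]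
  have h1 := YTOR B hB M hK hM v hv e he0 _ hσA
  rw [ha, YPIECE2.tor_smap, hnorm, ← map_mul, mul_inv_cancel₀ ha₀, map_one] at h1
  exact h1

end Cfsg.Agent.S5664P
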