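import Cfsg.Agent.Helper29.S5677.Defs

set_option autoImplicit false
set_option linter.unusedSectionVars false
set_option linter.unusedVariables false

/-! # S5677, piece UPERP: the perpendicular of a nonsingular vector inside a block -/

namespace Cfsg.Agent.S5677P

open Matrix Cfsg.Agent.Helper28.Sg Cfsg.Agent.Helper28.Spin Cfsg.Agent.Helper12.OrthGen
  Cfsg.Agent.S2614 Cfsg.Agent.S5683P Cfsg.Agent.Helper28.NDM

variable {F : Type*} [Field F] {m t k : ℕ} {D : Fin t → Submodule F (Idx m → F)}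

/-- membership in `perpIn Q N {a}` without finiteness of the field -/
theorem UPERP.mem_perpIn_singleton (N : Submodule F (Idx m → F)) (a x : Idx m → F) :
    x ∈ perpIn (QfOdd m F) N {a} ↔ x ∈ N ∧ B (QfOdd m F) a x = 0 := by
  unfold perpIn
  rw [Submodule.mem_inf, LinearMap.BilinForm.mem_orthogonal_iff]
  constructor
  · rintro ⟨h1, h2⟩
    exact ⟨h1, h2 a (Submodule.subset_span (Set.mem_singleton a))⟩
  · rintro ⟨h1, h2⟩
    refine ⟨h1, fun n hn => ?_⟩
    obtain ⟨c, rfl⟩ := Submodule.mem_span_singleton.mp hn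
    show QuadraticMap.polar (⇑(QfOdd m F)) (c • a) x = 0
    rw [QuadraticMap.polar_smul_left]
    have : QuadraticMap.polar (⇑(QfOdd m F)) a x = 0 := h2
    rw [this, smul_zero]

/-- the decomposition `x = s a + x'`, `x' ∈ N ∩ a^⊥` -/
theorem UPERP.decomp (h2 : (2 : F) ≠ 0) (N : Submodule F (Idx m → F)) {a : Idx m → F} (ha : a ∈ N)
    (hQa : QfOdd m F a ≠ 0) {x : Idx m → F} (hx : x ∈ N) :
    ∃ s : F, x - s • a ∈ perpIn (QfOdd m F) N {a} := by
  have haa : B (QfOdd m F) a a ≠ 0 := by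
    rw [B_self]
    exact mul_ne_zero h2 hQa
  refine ⟨B (QfOdd m F) a x / B (QfOdd m F) a a, ?_⟩
  rw [UPERP.mem_perpIn_singleton]
  refine ⟨N.sub_mem hx (N.smul_mem _ ha), ?_⟩
  show QuadraticMap.polar (⇑(QfOdd m F)) a (x - (B (QfOdd m F) a x / B (QfOdd m F) a a) • a) = 0
  rw [QuadraticMap.polar_sub_right, QuadraticMap.polar_smul_right, smul_eq_mul]
  show B (QfOdd m F) a x - B (QfOdd m F) a x / B (QfOdd m F) a a * B (QfOdd m F) a a = 0
  rw [div_mul_cancel₀ _ haa, sub_self]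

theorem UPERP.ndon (h2 : (2 : F) ≠ 0) (N : Submodule F (Idx m → F)) (hN : NDon (QfOdd m F) N)
    {a : Idx m → F} (ha : a ∈ N) (hQa : QfOdd m F a ≠ 0) :
    NDon (QfOdd m F) (perpIn (QfOdd m F) N {a}) := by
  intro y hy hy0
  rw [UPERP.mem_perpIn_singleton] at hy
  obtain ⟨hyN, hay⟩ := hy
  obtain ⟨z, hzN, hyz⟩ := hN y hyN hy0
  obtain ⟨s, hs⟩ := UPERP.decomp h2 N ha hQa hzN
  refine ⟨z - s • a, hs, ?_⟩
  have : B (QfOdd m F) y (z - s • a) = B (QfOdd m F) y z := by
    show QuadraticMap.polar (⇑(QfOdd m F)) y (z - s • a) = QuadraticMap.polar (⇑(QfOdd m F)) y z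
    rw [QuadraticMap.polar_sub_right, QuadraticMap.polar_smul_right, smul_eq_mul]
    have hya' : QuadraticMap.polar (⇑(QfOdd m F)) y a = 0 := by
      rw [QuadraticMap.polar_comm]
      exact hay
    rw [hya', mul_zero, sub_zero]
  rw [this]
  exact hyz

theorem UPERP.finrank [Fintype F] (h2 : (2 : F) ≠ 0) (N : Submodule F (Idx m → F))
    (a : Idx m → F) :
    Module.finrank F N ≤ Module.finrank F (perpIn (QfOdd m F) N {a}) + 1 := by
  have := finrank_perpIn (QfOdd m F) (nondeg_odd h2 m) N ({a} : Finset (Idx m → F))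
  rw [Finset.coe_singleton, Finset.card_singleton] at this
  exact this

end Cfsg.Agent.S5677P
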