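import Mathlib
import Cfsg.Agent.Helper15.S5704SEEDDefs2

/-! # S5704, chapter SEED (driver helper15), piece EGMUL (helper11): the `EGp` elements with fixed `z ⊥ z1` multiply by
adding parameters. -/

set_option autoImplicit false
set_option linter.unusedSectionVars false
set_option linter.unusedVariables false

namespace Cfsg.Agent.S5704P

open Matrix Cfsg.Agent.S5637P Cfsg.Agent.S5704S Cfsg.Agent.Helper28.Sg

variable {F : Type*} [Field F] {n a b : ℕ} (e : Fin n ≃ Fin a × Fin b)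
variable {Q : QuadraticForm F (Fin n → F)} {GU : Matrix (Fin a) (Fin a) F}
  {GW : Matrix (Fin b) (Fin b) F} {M : Subgroup (GL (Fin n) F)}

/-- EGMUL (M): the `EGp` elements with fixed `z ⊥ z1` multiply by adding parameters (`k` fixes `x ⊗ z` and `x ⊗ z1`). -/
theorem EGMUL.main (hW : IsSymp GW) {z z1 : Fin b → F} (hzz1 : bf GW z1 z = 0)
    {Θ Θ' C Ψ Ψ' D : Matrix (Fin a) (Fin a) F} {k k' : GL (Fin n) F}
    (h : EGp e GW z z1 Θ Θ' C k) (h' : EGp e GW z z1 Ψ Ψ' D k') :
    EGp e GW z z1 (Θ + Ψ) (Θ' + Ψ') (C + D) (k * k') := by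
  have hz1 : bf GW z z1 = 0 := hW.eq_zero_symm hzz1
  have hfixz : ∀ x : Fin a → F, (k : Matrix (Fin n) (Fin n) F) *ᵥ tn e x z = tn e x z := by
    intro x
    rw [h x z, hz1, hW.alt, zero_smul, zero_smul, add_zero, add_zero]
  have hfixz1 : ∀ x : Fin a → F, (k : Matrix (Fin n) (Fin n) F) *ᵥ tn e x z1 = tn e x z1 := by
    intro x
    rw [h x z1, hW.alt, hzz1, zero_smul, zero_smul, add_zero, add_zero]
  intro u w
  rw [Units.val_mul, ← mulVec_mulVec, h' u w, mulVec_add, mulVec_add, mulVec_smul, mulVec_smul,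
    mulVec_add, hfixz, hfixz1, hfixz, h u w, add_mulVec, add_mulVec, add_mulVec, tn_add_left,
    tn_add_left, tn_add_left]
  module

end Cfsg.Agent.S5704P
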