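import Mathlib
import Cfsg.Agent.Helper15.S5704SEEDDefs2

/-! # S5704, chapter SEED (driver helper15), piece EIG (helper11): a matrix for which every vector is an eigenvector
is scalar. -/

set_option autoImplicit false
set_option linter.unusedSectionVars false
set_option linter.unusedVariables false

namespace Cfsg.Agent.S5704P

open Matrix Cfsg.Agent.S5637P Cfsg.Agent.S5704S Cfsg.Agent.Helper28.Sg

variable {F : Type*} [Field F] {n a b : ℕ} (e : Fin n ≃ Fin a × Fin b)
variable {Q : QuadraticForm F (Fin n → F)} {GU : Matrix (Fin a) (Fin a) F}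
  {GW : Matrix (Fin b) (Fin b) F} {M : Subgroup (GL (Fin n) F)}

/-- EIG (M): every vector an eigenvector ⟹ scalar (`a = 0` trivial; compare eigenvalues on `e_i`, `e_j`, `e_i + e_j`). -/
theorem EIG.main (Θ : Matrix (Fin a) (Fin a) F) (h : ∀ u : Fin a → F, ∃ c : F, Θ *ᵥ u = c • u) : IsScal Θ := by
  classical
  rcases Nat.eq_zero_or_pos a with ha | ha
  · subst ha
    exact ⟨0, Subsingleton.elim _ _⟩
  let i₀ : Fin a := ⟨0, ha⟩
  obtain ⟨c₀, hc₀⟩ := h (Pi.single i₀ 1)
  refine ⟨c₀, ?_⟩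
  have key : ∀ j : Fin a, Θ *ᵥ Pi.single j 1 = c₀ • Pi.single j 1 := by
    intro j
    by_cases hj : j = i₀
    · rw [hj]; exact hc₀
    obtain ⟨cj, hcj⟩ := h (Pi.single j 1)
    obtain ⟨c, hc⟩ := h (Pi.single i₀ 1 + Pi.single j 1)
    rw [mulVec_add, hc₀, hcj] at hc
    have h1 := congrFun hc i₀
    have h2 := congrFun hc j
    simp only [Pi.add_apply, Pi.smul_apply, Pi.single_eq_same, Pi.single_eq_of_ne hj,
      Pi.single_eq_of_ne (Ne.symm hj), smul_eq_mul, mul_one, mul_zero, add_zero, zero_add] at h1 h2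
    rw [hcj, h2, ← h1]
  ext i j
  have h3 := congrFun (key j) i
  rw [mulVec_single_one] at h3
  simp only [Matrix.col_apply, Pi.smul_apply, smul_eq_mul, Pi.single_apply] at h3
  rw [h3, Matrix.smul_apply, Matrix.one_apply, smul_eq_mul]

end Cfsg.Agent.S5704P
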