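import Mathlib
import Cfsg.Agent.Helper28.S5704SDefs
import Cfsg.Agent.Helper14.S5704PURESPAN

/-! # S5704, chapter SPREAD, piece PURESPAN: the kernel of a functional is spanned by its pure tensors `pt e P u w`
(transport of `Cfsg.Agent.S5704P.PURESPAN.main` along the invertible matrix `P`) -/

set_option autoImplicit false
set_option linter.unusedSectionVars false
set_option linter.unusedVariables false

namespace Cfsg.Agent.S5704S

open Matrix Cfsg.Agent.Helper28.Sg

variable {F : Type*} [Field F] {n a b m : ℕ}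

/-- PURESPAN (M-L): the kernel of a linear functional is spanned by the pure tensors it contains. -/
theorem PURESPAN.main (e : Fin n ≃ Fin a × Fin b) {P : Matrix (Fin n) (Fin n) F} (hP : IsUnit P)
    (φ : (Fin n → F) →ₗ[F] F) (v : Fin n → F) (hv : φ v = 0) :
    v ∈ Submodule.span F {p : Fin n → F | (∃ u w, p = pt e P u w) ∧ φ p = 0} := by
  have hdet : IsUnit P.det := (Matrix.isUnit_iff_isUnit_det P).mp hP
  have hPP : P * P⁻¹ = 1 := Matrix.mul_nonsing_inv P hdet
  set ψ : (Fin n → F) →ₗ[F] F := φ.comp P.mulVecLin with hψ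
  set x : Fin n → F := P⁻¹ *ᵥ v with hx
  have hPx : P *ᵥ x = v := by
    rw [hx, Matrix.mulVec_mulVec, hPP, Matrix.one_mulVec]
  have hψx : ψ x = 0 := by
    rw [hψ, LinearMap.comp_apply, Matrix.mulVecLin_apply, hPx, hv]
  have h1 := Cfsg.Agent.S5704P.PURESPAN.main e ψ x hψx
  have h2 : P.mulVecLin x ∈ (Cfsg.Agent.S5704P.PURESPAN.S e ψ).map P.mulVecLin :=
    Submodule.mem_map_of_mem h1
  rw [Matrix.mulVecLin_apply, hPx] at h2
  refine (?_ : (Cfsg.Agent.S5704P.PURESPAN.S e ψ).map P.mulVecLin ≤ _) h2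
  unfold Cfsg.Agent.S5704P.PURESPAN.S
  rw [Submodule.map_span]
  apply Submodule.span_mono
  rintro _ ⟨p, ⟨u, w, rfl, hp0⟩, rfl⟩
  refine ⟨⟨u, w, rfl⟩, ?_⟩
  have : ψ (Cfsg.Agent.S5637P.tn e u w) = φ (P.mulVecLin (Cfsg.Agent.S5637P.tn e u w)) := rfl
  rw [← this]
  exact hp0

end Cfsg.Agent.S5704S
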