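import Mathlib
import Cfsg.Agent.Helper28.S5704SDefs
import Cfsg.Agent.Helper11.S5704SPURESPAN

/-! # S5704, chapter SPREAD, piece PTSPAN: the pure tensors `pt e P u w` span `V` -/

set_option autoImplicit false
set_option linter.unusedSectionVars false
set_option linter.unusedVariables false

namespace Cfsg.Agent.S5704S

open Matrix Cfsg.Agent.Helper28.Sg

variable {F : Type*} [Field F] {n a b m : ℕ}

/-- PTSPAN (M): the pure tensors span `V` (PURESPAN for the zero functional). -/
theorem PTSPAN.main (e : Fin n ≃ Fin a × Fin b) {P : Matrix (Fin n) (Fin n) F} (hP : IsUnit P) :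
    Submodule.span F {p : Fin n → F | ∃ u w, p = pt e P u w} = ⊤ := by
  rw [eq_top_iff]
  intro v _
  have h1 := PURESPAN.main e hP (0 : (Fin n → F) →ₗ[F] F) v rfl
  refine (Submodule.span_mono ?_) h1
  rintro p ⟨hp, _⟩
  exact hp

end Cfsg.Agent.S5704S
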