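import Mathlib
import Cfsg.Prelude.Def_GeometricClasses
import Cfsg.Agent.Helper24.S5704.Defs
import Cfsg.Agent.Helper17.S5704.STDefs

set_option autoImplicit false
set_option linter.unusedSectionVars false
set_option linter.unusedVariables false

/-! # S5704, chapter STAR' (driver helper17), piece STHEIS (hedge by helper11): the Heisenberg element
`Hz z₀ z = XW (z₀ + z) 1 * XW z₀ (-1) * XW z (-1)` fixes `V_z` pointwise and acts on `K_z` by `x ↦ x + tn (cps ψ_{z₀} x) z`. -/

namespace Cfsg.Agent.S5704P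

open Matrix Cfsg.Agent.S5637P Cfsg.Agent.S5704S Cfsg.Agent.S5634P

variable {F : Type*} [Field F] {n a b : ℕ} (e : Fin n ≃ Fin a × Fin b)

namespace STHEIS

theorem mul3 (A B C : GL (Fin n) F) (x : Fin n → F) :
    ((A * B * C : GL (Fin n) F) : Matrix (Fin n) (Fin n) F) *ᵥ x =
      (A : Matrix (Fin n) (Fin n) F) *ᵥ ((B : Matrix (Fin n) (Fin n) F) *ᵥ
        ((C : Matrix (Fin n) (Fin n) F) *ᵥ x)) := by
  rw [Units.val_mul, Units.val_mul, Matrix.mulVec_mulVec, Matrix.mulVec_mulVec, Matrix.mul_assoc]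

end STHEIS

theorem STHEIS {GW : Matrix (Fin b) (Fin b) F} (hW : IsSymp GW) {z₀ z : Fin b → F}
    (h0 : bf GW z₀ z = 0) :
    (∀ u : Fin a → F, ((Hz e GW z₀ z : GL (Fin n) F) : Matrix (Fin n) (Fin n) F) *ᵥ tn e u z =
      tn e u z) ∧
    ∀ x : Fin n → F, cps e (psi GW z) x = 0 →
      ((Hz e GW z₀ z : GL (Fin n) F) : Matrix (Fin n) (Fin n) F) *ᵥ x =
        x + tn e (cps e (psi GW z₀) x) z := by
  have h0' : bf GW z z₀ = 0 := hW.eq_zero_symm h0
  constructor
  · intro u
    unfold Hz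
    rw [STHEIS.mul3, XW_mulVec_tn e hW, hW.alt, mul_zero, zero_smul, add_zero,
      XW_mulVec_tn e hW, h0', mul_zero, zero_smul, add_zero,
      XW_mulVec_tn e hW, bf_add_right, h0', hW.alt, add_zero, mul_zero, zero_smul, add_zero]
  · intro x hx
    unfold Hz
    rw [STHEIS.mul3, XW_mulVec e hW z, hx, tn_zero_left, smul_zero, add_zero,
      XW_mulVec e hW z₀, XW_mulVec e hW (z₀ + z)]
    set c := cps e (psi GW z₀) x with hc
    have h1 : cps e (psi GW (z₀ + z)) (x + (-1 : F) • tn e c z₀) = c := by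
      rw [map_add, map_smul, cps_tn, psi_dot, bf_add_right, hW.alt, h0, add_zero, zero_smul,
        smul_zero, add_zero, psi_add, cps_add, hx, add_zero]
    rw [h1, tn_add_right]
    module

end Cfsg.Agent.S5704P
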