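import Mathlib
import Cfsg.Prelude.Def_GeometricClasses
import Cfsg.Agent.Helper24.S5704.Defs
import Cfsg.Agent.Helper17.S5704.STDefs
import Cfsg.Agent.Helper10.S5704KRISO

set_option autoImplicit false
set_option linter.unusedSectionVars false
set_option linter.unusedVariables false

/-! # S5704, chapter STAR' (driver helper17), piece STKRISO (helper11): `α ⊗ B'` with inverse similarity factors is a
`Q`-isometry.  An adapter of helper10's `Cfsg.Agent.S5704S.KRISO.main`. -/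

namespace Cfsg.Agent.S5704P

open Matrix Cfsg.Agent.S5637P Cfsg.Agent.S5704S Cfsg.Agent.S5634P

variable {F : Type*} [Field F] {n a b : ℕ} (e : Fin n ≃ Fin a × Fin b)

theorem STKRISO {Q : QuadraticForm F (Fin n → F)} {GU : Matrix (Fin a) (Fin a) F}
    {GW : Matrix (Fin b) (Fin b) F} (hT : TData Q e 1 GU GW) (α : GL (Fin a) F)
    (B' : GL (Fin b) F) {μ : F} (hμ : μ ≠ 0)
    (hα : ∀ u u' : Fin a → F, bf GU ((α : Matrix (Fin a) (Fin a) F) *ᵥ u)
      ((α : Matrix (Fin a) (Fin a) F) *ᵥ u') = μ * bf GU u u')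
    (hB : ∀ w w' : Fin b → F,
      bf GW ((B' : Matrix (Fin b) (Fin b) F) *ᵥ w) ((B' : Matrix (Fin b) (Fin b) F) *ᵥ w') =
        μ⁻¹ * bf GW w w') :
    krg e α B' ∈ Cfsg.isometryGroup F ⇑Q :=
  Cfsg.Agent.S5704S.KRISO.main hT α B' μ μ⁻¹ (mul_inv_cancel₀ hμ) hα hB

end Cfsg.Agent.S5704P
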