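import Mathlib
import Cfsg.Prelude.Def_GeometricClasses
import Cfsg.Agent.Helper24.S5704.Defs
import Cfsg.Agent.Helper17.S5704.STDefs
import Cfsg.Agent.Helper28.IsoTransport

set_option autoImplicit false
set_option linter.unusedSectionVars false
set_option linter.unusedVariables false

/-! # S5704, chapter STAR' (driver helper17), piece STKZ (helper11): an isometry stabilising `V_z` stabilises
`K_z = V_z^⊥ = ker cps ψ_z`.  `STKZ.isopol` / `STKZ.pol` are private copies of the pieces STISOPOL / STPOL (same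
statements), so that this module does not wait for them. -/

namespace Cfsg.Agent.S5704P

open Matrix Cfsg.Agent.S5637P Cfsg.Agent.S5704S Cfsg.Agent.S5634P

variable {F : Type*} [Field F] {n a b : ℕ} (e : Fin n ≃ Fin a × Fin b)

namespace STKZ

theorem isopol {Q : QuadraticForm F (Fin n → F)} {g : GL (Fin n) F}
    (hg : g ∈ Cfsg.isometryGroup F ⇑Q) (x x' : Fin n → F) :
    QuadraticMap.polar ⇑Q ((g : Matrix (Fin n) (Fin n) F) *ᵥ x)
      ((g : Matrix (Fin n) (Fin n) F) *ᵥ x') = QuadraticMap.polar ⇑Q x x' := by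
  have h := (Cfsg.Agent.Helper28.IsoTransport.mem_isometryGroup_iff (⇑Q) g).1 hg
  unfold QuadraticMap.polar
  rw [← Matrix.mulVec_add, h, h, h]

theorem pol {Q : QuadraticForm F (Fin n → F)} {GU : Matrix (Fin a) (Fin a) F}
    {GW : Matrix (Fin b) (Fin b) F} (hT : TData Q e 1 GU GW) (x : Fin n → F) (u : Fin a → F)
    (z : Fin b → F) :
    QuadraticMap.polar ⇑Q x (tn e u z) = bf GU (cps e (psi GW z) x) u := by
  let f : (Fin n → F) →ₗ[F] F := (QuadraticMap.polarBilin Q).flip (tn e u z)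
  let bl : (Fin a → F) →ₗ[F] F :=
    { toFun := fun v => bf GU v u
      map_add' := fun v v' => bf_add_left GU v v' u
      map_smul' := fun c v => bf_smul_left GU c v u }
  let g : (Fin n → F) →ₗ[F] F := bl ∘ₗ cps e (psi GW z)
  have hfg : f = g := by
    apply ext_tn e
    intro u' w
    show QuadraticMap.polar ⇑Q (tn e u' w) (tn e u z) = bf GU (cps e (psi GW z) (tn e u' w)) u
    have h := hT.pol u' w u z
    rw [pt_one, pt_one] at h
    rw [h, cps_tn, psi_dot, bf_smul_left]
    ring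
  exact DFunLike.congr_fun hfg x

end STKZ

theorem STKZ {Q : QuadraticForm F (Fin n → F)} {GU : Matrix (Fin a) (Fin a) F}
    {GW : Matrix (Fin b) (Fin b) F} (hT : TData Q e 1 GU GW) {y : GL (Fin n) F}
    (hy : y ∈ Cfsg.isometryGroup F ⇑Q) {z : Fin b → F} (hyz : gmap y (Vw e z) = Vw e z) :
    ∀ x : Fin n → F, cps e (psi GW z) x = 0 →
      cps e (psi GW z) ((y : Matrix (Fin n) (Fin n) F) *ᵥ x) = 0 := by
  intro x hx
  apply hT.sympU.nondeg
  intro u
  rw [← STKZ.pol e hT]
  have hmem : tn e u z ∈ gmap y (Vw e z) := by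
    rw [hyz]; exact tn_mem_Vw e u z
  obtain ⟨x₀, hx₀, hyx₀⟩ := (mem_gmap).1 hmem
  obtain ⟨u₀, rfl⟩ := (mem_Vw e).1 hx₀
  rw [← hyx₀, STKZ.isopol hy, STKZ.pol e hT, hx, bf_zero_left]

end Cfsg.Agent.S5704P
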