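import Mathlib
import Cfsg.Prelude.Def_GeometricClasses
import Cfsg.Agent.Helper24.S5704.Defs
import Cfsg.Agent.Helper17.S5704.STDefs

set_option autoImplicit false
set_option linter.unusedSectionVars false
set_option linter.unusedVariables false

/-! # S5704, chapter STAR' (driver helper17), piece STRADH (hedge by helper11): a Kronecker product in the radical at `z`
acts on `K_z` by `x ↦ x + tn (cps ψ' x) z` with `ψ' ⬝ᵥ z = 0`. -/

namespace Cfsg.Agent.S5704P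

open Matrix Cfsg.Agent.S5637P Cfsg.Agent.S5704S Cfsg.Agent.S5634P

variable {F : Type*} [Field F] {n a b : ℕ} (e : Fin n ≃ Fin a × Fin b)

namespace STRADH

/-- vectors are determined by their dot products -/
theorem ext_dot {m : ℕ} {η ζ : Fin m → F} (h : ∀ w : Fin m → F, η ⬝ᵥ w = ζ ⬝ᵥ w) : η = ζ := by
  funext j
  have := h (Pi.single j 1)
  simpa using this

theorem ext_dot' {m : ℕ} {η ζ : Fin m → F} (h : ∀ φ : Fin m → F, φ ⬝ᵥ η = φ ⬝ᵥ ζ) : η = ζ := by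
  funext j
  have := h (Pi.single j 1)
  simpa using this

/-- a functional with value `1` at `z ≠ 0` -/
theorem exists_dot_one {m : ℕ} {z : Fin m → F} (hz : z ≠ 0) : ∃ φ₀ : Fin m → F, φ₀ ⬝ᵥ z = 1 := by
  obtain ⟨j, hj⟩ := Function.ne_iff.1 hz
  refine ⟨Pi.single j (z j)⁻¹, ?_⟩
  rw [single_dotProduct]
  exact inv_mul_cancel₀ hj

/-- a vector `z*` with `bf G z* z = 1` -/
theorem exists_dual {m : ℕ} {G : Matrix (Fin m) (Fin m) F} (hG : IsSymp G) {z : Fin m → F}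
    (hz : z ≠ 0) : ∃ zs : Fin m → F, bf G zs z = 1 := by
  have : ¬ ∀ y, bf G z y = 0 := fun h => hz (hG.nondeg z h)
  push Not at this
  obtain ⟨y, hy⟩ := this
  have hy' : bf G y z ≠ 0 := by
    rw [hG.skew]; exact neg_ne_zero.2 hy
  refine ⟨(bf G y z)⁻¹ • y, ?_⟩
  rw [bf_smul_left, inv_mul_cancel₀ hy']

/-- a functional vanishing on `z^⊥` is a multiple of `ψ_z` -/
theorem eq_smul_psi {m : ℕ} {G : Matrix (Fin m) (Fin m) F} (hG : IsSymp G) {z : Fin m → F}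
    (hz : z ≠ 0) (η : Fin m → F) (h : ∀ w : Fin m → F, bf G w z = 0 → η ⬝ᵥ w = 0) :
    ∃ k : F, η = k • psi G z := by
  obtain ⟨zs, hzs⟩ := exists_dual hG hz
  refine ⟨η ⬝ᵥ zs, ext_dot fun w => ?_⟩
  have h1 : bf G (w - bf G w z • zs) z = 0 := by
    rw [bf_sub_left, bf_smul_left, hzs, mul_one, sub_self]
  have h2 := h _ h1
  rw [dotProduct_sub, dotProduct_smul, smul_eq_mul, sub_eq_zero] at h2
  rw [h2, smul_dotProduct, psi_dot, smul_eq_mul]
  ring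

end STRADH

theorem STRADH {GW : Matrix (Fin b) (Fin b) F} (hW : IsSymp GW) (ha : 1 ≤ a) {z : Fin b → F}
    (hz : z ≠ 0) {g : GL (Fin n) F} (hg : g ∈ Kr e) (hr : RadAt e GW z g) :
    ∃ ψ' : Fin b → F, ψ' ⬝ᵥ z = 0 ∧ ∀ x : Fin n → F, cps e (psi GW z) x = 0 →
      (g : Matrix (Fin n) (Fin n) F) *ᵥ x - x = tn e (cps e ψ' x) z := by
  classical
  obtain ⟨A, B, rfl⟩ := (mem_Kr e).1 hg
  obtain ⟨hr1, hr2⟩ := hr
  let i₀ : Fin a := ⟨0, ha⟩
  let u₀ : Fin a → F := Pi.single i₀ 1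
  have hu₀ : u₀ i₀ = 1 := by simp [u₀]
  obtain ⟨φ₀, hφ₀⟩ := STRADH.exists_dot_one hz
  -- (E1)
  have E1 : ∀ (φ : Fin b → F) (u : Fin a → F),
      (φ ⬝ᵥ (B : Matrix (Fin b) (Fin b) F) *ᵥ z) • ((A : Matrix (Fin a) (Fin a) F) *ᵥ u) =
        (φ ⬝ᵥ z) • u := by
    intro φ u
    have h := hr1 u
    rw [krg_mulVec_tn] at h
    have h' := congrArg (cps e φ) h
    rwa [cps_tn, cps_tn] at h'
  set κ : F := φ₀ ⬝ᵥ (B : Matrix (Fin b) (Fin b) F) *ᵥ z with hκdef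
  have hκu : ∀ u : Fin a → F, κ • ((A : Matrix (Fin a) (Fin a) F) *ᵥ u) = u := by
    intro u
    have := E1 φ₀ u
    rwa [hφ₀, one_smul] at this
  have hκ : κ ≠ 0 := by
    intro h0
    have := hκu u₀
    rw [h0, zero_smul] at this
    have h1 := congrFun this i₀
    rw [hu₀] at h1
    exact zero_ne_one h1
  have hA : ∀ u : Fin a → F, (A : Matrix (Fin a) (Fin a) F) *ᵥ u = κ⁻¹ • u := by
    intro u
    conv_rhs => rw [← hκu u]
    rw [smul_smul, inv_mul_cancel₀ hκ, one_smul]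
  have hBz : (B : Matrix (Fin b) (Fin b) F) *ᵥ z = κ • z := by
    apply STRADH.ext_dot'
    intro φ
    have h := E1 φ u₀
    rw [hA, smul_smul] at h
    have h1 := congrFun h i₀
    simp only [Pi.smul_apply, hu₀, smul_eq_mul, mul_one] at h1
    rw [dotProduct_smul, smul_eq_mul, ← h1]
    field_simp
  -- the matrix `C`
  set C : Matrix (Fin b) (Fin b) F := κ⁻¹ • (B : Matrix (Fin b) (Fin b) F) - 1 with hCdef
  have hCw : ∀ w : Fin b → F, C *ᵥ w = κ⁻¹ • ((B : Matrix (Fin b) (Fin b) F) *ᵥ w) - w := by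
    intro w
    rw [hCdef, Matrix.sub_mulVec, Matrix.smul_mulVec, Matrix.one_mulVec]
  have hCz : C *ᵥ z = 0 := by
    rw [hCw, hBz, smul_smul, inv_mul_cancel₀ hκ, one_smul, sub_self]
  have hgt : ∀ (u : Fin a → F) (w : Fin b → F),
      ((krg e A B : GL (Fin n) F) : Matrix (Fin n) (Fin n) F) *ᵥ tn e u w - tn e u w =
        tn e u (C *ᵥ w) := by
    intro u w
    rw [krg_mulVec_tn, hA, hCw, tn_smul_left, tn_sub_right, tn_smul_right]
  have hmat : ((krg e A B : GL (Fin n) F) : Matrix (Fin n) (Fin n) F) - 1 = kr e 1 C := by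
    apply mat_ext_tn e
    intro u w
    rw [Matrix.sub_mulVec, Matrix.one_mulVec, hgt, kr_mulVec_tn, Matrix.one_mulVec]
  have hgx : ∀ x : Fin n → F,
      ((krg e A B : GL (Fin n) F) : Matrix (Fin n) (Fin n) F) *ᵥ x - x = kr e 1 C *ᵥ x := by
    intro x
    rw [← hmat, Matrix.sub_mulVec, Matrix.one_mulVec]
  -- (E2)
  have E2 : ∀ w : Fin b → F, bf GW w z = 0 → ∀ φ : Fin b → F, φ ⬝ᵥ z = 0 →
      φ ⬝ᵥ C *ᵥ w = 0 := by
    intro w hw φ hφ
    obtain ⟨u', hu'⟩ := hr2 u₀ w hw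
    rw [hgt] at hu'
    have h' := congrArg (cps e φ) hu'
    rw [cps_tn, cps_tn, hφ, zero_smul] at h'
    have h1 := congrFun h' i₀
    simpa [hu₀] using h1
  set θ : Fin b → F := φ₀ ᵥ* C with hθdef
  have hθz : θ ⬝ᵥ z = 0 := by
    rw [hθdef, ← Matrix.dotProduct_mulVec, hCz, dotProduct_zero]
  have E3 : ∀ w : Fin b → F, bf GW w z = 0 → ∀ φ : Fin b → F,
      φ ⬝ᵥ C *ᵥ w = (φ ⬝ᵥ z) * (θ ⬝ᵥ w) := by
    intro w hw φ
    have h1 : (φ - (φ ⬝ᵥ z) • φ₀) ⬝ᵥ z = 0 := by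
      rw [sub_dotProduct, smul_dotProduct, hφ₀, smul_eq_mul, mul_one, sub_self]
    have h2 := E2 w hw _ h1
    rw [sub_dotProduct, smul_dotProduct, smul_eq_mul, sub_eq_zero] at h2
    rw [h2, hθdef, ← Matrix.dotProduct_mulVec]
  refine ⟨θ, hθz, ?_⟩
  intro x hx
  rw [hgx, ← sub_eq_zero]
  apply eq_zero_of_cps e
  intro φ
  rw [map_sub, cps_kr, Matrix.one_mulVec, cps_tn, sub_eq_zero]
  obtain ⟨k, hk⟩ := STRADH.eq_smul_psi hW hz (φ ᵥ* C - (φ ⬝ᵥ z) • θ) (by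
    intro w hw
    rw [sub_dotProduct, smul_dotProduct, smul_eq_mul, ← Matrix.dotProduct_mulVec, E3 w hw φ,
      sub_self])
  have hφC : φ ᵥ* C = k • psi GW z + (φ ⬝ᵥ z) • θ := by
    rw [← hk]; abel
  rw [hφC, cps_add, cps_smul, cps_smul, hx, smul_zero, zero_add]

end Cfsg.Agent.S5704P
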