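import Mathlib
import Cfsg.Prelude.Def_GeometricClasses
import Cfsg.Agent.Helper18.S5707.Defs

/-! S5707 piece CHAR2: a finite field of even order has characteristic 2. -/

set_option autoImplicit false

namespace Cfsg.Agent.S5707P

open Matrix

variable {F : Type*} [Field F] {k t : ℕ}

/-- piece CHAR2 (S): a finite field of even order has characteristic 2. -/
theorem CHAR2.charP [Fintype F] (h : ¬ Odd (Fintype.card F)) : CharP F 2 := by
  have h1 : Fintype.card F % 2 = 0 := Nat.even_iff.mp (Nat.not_odd_iff_even.mp h)
  have h2 : ringChar F = 2 := FiniteField.even_card_iff_char_two.mpr h1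
  exact (ringChar.eq_iff).mp h2

end Cfsg.Agent.S5707P
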