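import Mathlib
import Cfsg.Prelude.Def_GeometricClasses
import Cfsg.Agent.Helper18.S5707.Defs
import Cfsg.Agent.Helper20.S5707TENS
import Cfsg.Agent.Helper17.S5707ENT

/-! S5707 piece K4ZNOTNORM: `z = 1 + loc2 s0 s1 Eb Eab` does not normalise `calV L4`. -/

set_option autoImplicit false

namespace Cfsg.Agent.S5707P

open Matrix

variable {F : Type*} [Field F] {k t : ℕ}

namespace K4ZNOTNORM

theorem Eb'_mem : (Eb' : Matrix (Fin 4) (Fin 4) F) ∈ (L4 : Submodule F (Matrix (Fin 4) (Fin 4) F)) := by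
  show _ ∧ _
  simp [Eb']

theorem Eab_sq : (Eab : Matrix (Fin 4) (Fin 4) F) * Eab = 0 := by
  ext i j
  fin_cases i <;> fin_cases j <;> simp [Eab, Matrix.mul_apply, Fin.sum_univ_four]

theorem Eb_anti [CharP F 2] :
    (Eb : Matrix (Fin 4) (Fin 4) F) * Eb' + Eb' * Eb = 1 := by
  ext i j
  fin_cases i <;> fin_cases j <;> simp [Eb, Eb']

/-- `z (loc s0 Eb') z - loc s0 Eb' = loc s1 Eab` -/
theorem key [CharP F 2] (s0 s1 : Fin t) (h01 : s0 ≠ s1) :
    loc2 s0 s1 (Eb : Matrix (Fin 4) (Fin 4) F) Eab * loc s0 Eb' + loc s0 Eb' * loc2 s0 s1 Eb Eab +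
      loc2 s0 s1 Eb Eab * loc s0 Eb' * loc2 s0 s1 Eb Eab = loc s1 Eab := by
  have e1 : loc2 s0 s1 (Eb : Matrix (Fin 4) (Fin 4) F) Eab * loc s0 Eb' =
      tensM (Function.update (upd1 s1 (Eab : Matrix (Fin 4) (Fin 4) F)) s0 (Eb * Eb')) := by
    unfold loc2 loc
    rw [TENS.tensM_mul]
    congr 1
    funext i
    by_cases hi0 : i = s0
    · subst hi0
      simp [upd1, Function.update_of_ne h01]
    · by_cases hi1 : i = s1
      · subst hi1
        simp [upd1, Function.update_of_ne hi0]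
      · simp [upd1, Function.update_of_ne hi0, Function.update_of_ne hi1]
  have e2 : loc s0 Eb' * loc2 s0 s1 (Eb : Matrix (Fin 4) (Fin 4) F) Eab =
      tensM (Function.update (upd1 s1 (Eab : Matrix (Fin 4) (Fin 4) F)) s0 (Eb' * Eb)) := by
    unfold loc2 loc
    rw [TENS.tensM_mul]
    congr 1
    funext i
    by_cases hi0 : i = s0
    · subst hi0
      simp [upd1, Function.update_of_ne h01]
    · by_cases hi1 : i = s1
      · subst hi1
        simp [upd1, Function.update_of_ne hi0]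
      · simp [upd1, Function.update_of_ne hi0, Function.update_of_ne hi1]
  have e3 : loc2 s0 s1 (Eb : Matrix (Fin 4) (Fin 4) F) Eab * loc s0 Eb' * loc2 s0 s1 Eb Eab = 0 := by
    unfold loc2 loc
    rw [TENS.tensM_mul, TENS.tensM_mul]
    apply TENS.tensM_eq_zero _ s1
    simp [upd1, Function.update_of_ne h01.symm, Eab_sq]
  rw [e3, e1, e2, add_zero, ← TENS.tensM_update_add, Eb_anti]
  unfold loc
  congr 1
  funext i
  by_cases hi0 : i = s0
  · subst hi0
    simp [upd1, Function.update_of_ne h01]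
  · simp [Function.update_of_ne hi0]

end K4ZNOTNORM

/-- piece K4ZNOTNORM -/
theorem K4.z_not_normV [CharP F 2] (s0 s1 : Fin t) (h01 : s0 ≠ s1)
    (hN : loc2 s0 s1 (Eb : Matrix (Fin 4) (Fin 4) F) Eab * loc2 s0 s1 Eb Eab = 0) :
    invo (loc2 s0 s1 Eb Eab) hN ∉ normV (t := t) (L4 : Submodule F (Matrix (Fin 4) (Fin 4) F)) := by
  intro hz
  set N : Matrix (X 4 t) (X 4 t) F := loc2 s0 s1 (Eb : Matrix (Fin 4) (Fin 4) F) Eab with hNdef
  have hM : loc s0 (Eb' : Matrix (Fin 4) (Fin 4) F) ∈ calV (t := t) (L4 : Submodule F (Matrix (Fin 4) (Fin 4) F)) :=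
    Submodule.subset_span ⟨s0, Eb', K4ZNOTNORM.Eb'_mem, rfl⟩
  have h1 := (hz (loc s0 (Eb' : Matrix (Fin 4) (Fin 4) F))).mpr hM
  have hval : ((invo N hN : GL (X 4 t) F) : Matrix (X 4 t) (X 4 t) F) = 1 + N := rfl
  have hinv : (((invo N hN)⁻¹ : GL (X 4 t) F) : Matrix (X 4 t) (X 4 t) F) = 1 + N := rfl
  rw [hval, hinv] at h1
  have h2 : (1 + N) * loc s0 (Eb' : Matrix (Fin 4) (Fin 4) F) * (1 + N) =
      loc s0 Eb' + (N * loc s0 Eb' + loc s0 Eb' * N + N * loc s0 Eb' * N) := by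
    simp only [Matrix.add_mul, Matrix.mul_add, Matrix.one_mul, Matrix.mul_one]
    abel
  rw [h2, K4ZNOTNORM.key s0 s1 h01] at h1
  have h3 : loc s1 (Eab : Matrix (Fin 4) (Fin 4) F) ∈ calV (t := t) (L4 : Submodule F (Matrix (Fin 4) (Fin 4) F)) := by
    have := Submodule.sub_mem _ h1 hM
    rwa [add_sub_cancel_left] at this
  obtain ⟨A, hA, hent⟩ := ENT.near _ _ h3 s1
  have hA03 : A 0 3 = 0 := hA.2.2.2.2.2.2.2.1
  let x : X 4 t := fun _ => 0
  let x' : X 4 t := Function.update x s1 3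
  have hx : ∀ j, j ≠ s1 → x j = x' j := by
    intro j hj
    show (0 : Fin 4) = Function.update x s1 3 j
    rw [Function.update_of_ne hj]
  have hx1 : x s1 ≠ x' s1 := by
    show (0 : Fin 4) ≠ Function.update x s1 3 s1
    rw [Function.update_self]
    decide
  have h4 := hent x x' hx hx1
  have h5 : x' s1 = 3 := Function.update_self _ _ _
  have h6 : x s1 = 0 := rfl
  rw [h5, h6, hA03] at h4
  -- the entry of `loc s1 Eab` at `(x, x')` is `1`
  have h7 : loc s1 (Eab : Matrix (Fin 4) (Fin 4) F) x x' = 1 := by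
    show ∏ i, (upd1 s1 (Eab : Matrix (Fin 4) (Fin 4) F)) i (x i) (x' i) = 1
    apply Finset.prod_eq_one
    intro i _
    by_cases hi : i = s1
    · subst hi
      rw [h5, h6]
      simp [upd1, Eab]
    · have : x' i = 0 := by
        show Function.update x s1 3 i = 0
        rw [Function.update_of_ne hi]
      rw [this]
      simp [upd1, Function.update_of_ne hi]
      rfl
  rw [h7] at h4
  exact one_ne_zero h4

end Cfsg.Agent.S5707P
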