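import Mathlib
import Cfsg.Prelude.Def_GeometricClasses
import Cfsg.Agent.Helper2.S5886.Defs
import Cfsg.Agent.Helper4.S5886SYLGENA
import Cfsg.Agent.Helper4.S5886SYLGENB
import Cfsg.Agent.Helper8.S5886FIXL
import Cfsg.Agent.Helper21.S5886KTRANS2
import Cfsg.Agent.Helper23.S5886KTVP
import Cfsg.Agent.Helper11.S5886SYLH1

/-! # S5886 piece C1: the case `r ≠ p` -/

set_option autoImplicit false
set_option linter.style.haveILetI false
set_option linter.unusedSectionVars false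
set_option linter.unusedVariables false

namespace Cfsg.Agent.S5886P

variable {F K V : Type*} [Field F] [Field K] [Algebra F K]
  [AddCommGroup V] [Module F V] [Module K V] [IsScalarTower F K V]

namespace C1

/-- an element normalising a Sylow `p`-subgroup of `StabPt M (K v)` maps `K v` into itself -/
theorem map_Kline [Finite F] [Finite K] [Finite V] (p : ℕ) [Fact p.Prime] [CharP F p]
    (M : Subgroup (V ≃ₗ[F] V)) (hKTV : KTV F K V ≤ M) (v : V) (hv : v ≠ 0)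
    (Q : Subgroup (V ≃ₗ[F] V)) (hQ : IsSylIn p (StabPt M (Kline (F := F) (K := K) v)) Q)
    (g : V ≃ₗ[F] V) (hgn : ∀ x : V ≃ₗ[F] V, x ∈ Q ↔ g * x * g⁻¹ ∈ Q) :
    ∀ x ∈ Kline (F := F) (K := K) v, g x ∈ Kline (F := F) (K := K) v := by
  intro x hx
  apply FIXL p M hKTV v hv Q hQ
  intro q hq
  have h1 : g⁻¹ * q * g ∈ Q := by
    rw [hgn (g⁻¹ * q * g)]
    have : g * (g⁻¹ * q * g) * g⁻¹ = q := by group
    rw [this]; exact hq
  have h2 : (g⁻¹ * q * g) x = x := (hQ.1 h1).2 x hx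
  have h3 : q (g x) = g ((g⁻¹ * q * g) x) := by
    simp only [LinearEquiv.mul_apply]
    have : g (g⁻¹ (q (g x))) = q (g x) := by
      rw [← LinearEquiv.mul_apply, mul_inv_cancel]; rfl
    rw [this]
  rw [h3, h2]

/-- iterating a map acting on `K v` through `σ` -/
theorem pow_apply (g : V ≃ₗ[F] V) (σ : K ≃ₐ[F] K) (v : V) (hσ : ∀ c : K, g (c • v) = σ c • v) (n : ℕ) :
    ∀ c : K, (g ^ n) (c • v) = (σ ^ n) c • v := by
  induction n with
  | zero => intro c; simp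
  | succ n ih =>
    intro c
    rw [pow_succ', pow_succ', LinearEquiv.mul_apply, ih, hσ, AlgEquiv.mul_apply]

/-- an automorphism of `p`-power order of an extension of prime degree `r ≠ p` is trivial -/
theorem aut_eq_one [Finite F] [Finite K] {p : ℕ} (hp : p.Prime) (hr : (Module.finrank F K).Prime)
    (hrp : Module.finrank F K ≠ p) (σ : K ≃ₐ[F] K) (e : ℕ) (hσ : σ ^ (p ^ e) = 1) : σ = 1 := by
  haveI : IsGalois F K := inferInstance
  have h1 : orderOf σ ∣ p ^ e := orderOf_dvd_of_pow_eq_one hσ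
  have h2 : orderOf σ ∣ Module.finrank F K := by
    rw [← IsGalois.card_aut_eq_finrank F K]
    exact orderOf_dvd_natCard σ
  have hcop : Nat.Coprime (p ^ e) (Module.finrank F K) :=
    Nat.Coprime.pow_left e ((Nat.coprime_primes hp hr).mpr (fun hh => hrp hh.symm))
  have h3 : orderOf σ = 1 := Nat.eq_one_of_dvd_coprimes hcop h1 h2
  exact orderOf_eq_one_iff.mp h3

end C1

/-- C1 : the case `r ≠ p`. -/
theorem C1 [Finite F] [Finite K] [Finite V] (p : ℕ) [Fact p.Prime] [CharP F p]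
    (hm : 2 ≤ Module.finrank K V) (hr : (Module.finrank F K).Prime) (hrp : Module.finrank F K ≠ p)
    (M : Subgroup (V ≃ₗ[F] V)) (hKTV : KTV F K V ≤ M) (v : V) (k : K) (h : V ≃ₗ[F] V) (hv : v ≠ 0)
    (hh : h ∈ M) (hhv : h v = v) (hhk : h (k • v) ∉ Kline (F := F) (K := K) v)
    (S1 : ∀ g ∈ M, (∀ x ∈ Kline (F := F) (K := K) v, g x ∈ Kline (F := F) (K := K) v) → g v = v →
      ∃ σ : K ≃ₐ[F] K, ∀ c : K, g (c • v) = σ c • v) : False := by
  have hp : p.Prime := Fact.out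
  -- `k ∉ F`
  have hk : k ∉ Set.range (algebraMap F K) := by
    rintro ⟨a, rfl⟩
    apply hhk
    rw [algebraMap_smul, map_smul, hhv]
    have : a • v = (algebraMap F K a) • v := (algebraMap_smul K a v).symm
    rw [this]
    exact SYLH1.smul_mem_Kline v _
  set w := h (k • v) with hw
  set L := Kline (F := F) (K := K) v with hL
  set H0 := StabPt M L with hH0
  set H1 := Stab2 M v (k • v) with hH1
  set H2 := Stab2c M v (k • v) with hH2
  -- the transvection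
  obtain ⟨t, htK, htv, htw⟩ := KTRANS2 (F := F) (K := K) v w hhk 1
  have htM : t ∈ M := hKTV (Subgroup.subset_closure htK)
  have htp : t ^ p = 1 := KTVP p t htK
  set t' := h⁻¹ * t * h with ht'
  have ht'M : t' ∈ M := M.mul_mem (M.mul_mem (M.inv_mem hh) htM) hh
  have hinvv : h⁻¹ v = v := by
    apply h.injective
    rw [hhv]
    show (h * h⁻¹) v = v
    rw [mul_inv_cancel]; rfl
  have hinvw : h⁻¹ w = k • v := by
    rw [hw]
    show (h⁻¹ * h) (k • v) = k • v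
    rw [inv_mul_cancel]; rfl
  have ht'v : t' v = v := by
    rw [ht']
    simp only [LinearEquiv.mul_apply]
    rw [hhv, htv, hinvv]
  have ht'k : t' (k • v) = k • v + (1 : F) • v := by
    rw [ht']
    simp only [LinearEquiv.mul_apply]
    rw [← hw, htw, map_add, map_smul, hinvw, hinvv]
  have ht'H2 : t' ∈ H2 := ⟨ht'M, ht'v, 1, ht'k⟩
  have ht'H1 : t' ∉ H1 := by
    rintro ⟨_, _, h3⟩
    rw [ht'k, one_smul] at h3
    exact hv (by simpa using h3)
  have ht'p : t' ^ p = 1 := by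
    have e1 : t' ^ p = h⁻¹ * t ^ p * h := by
      have := conj_pow (a := h⁻¹) (b := t) (i := p)
      rwa [inv_inv] at this
    rw [e1, htp]
    group
  -- Sylow subgroups
  obtain ⟨Q0, hQ0, _⟩ := SYLGEN.exists_le p H0 ⊥ bot_le IsPGroup.of_bot
  have hQ0H1 : IsSylIn p H1 Q0 := SYLH1 p hr M hKTV v hv k hk S1 Q0 hQ0
  have hH01 : H0 ≤ H1 := by
    rintro g ⟨hgM, hgL⟩
    exact ⟨hgM, hgL v (SYLH1.self_mem_Kline v), hgL (k • v) (SYLH1.smul_mem_Kline v k)⟩
  have hH12 : H1 ≤ H2 := by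
    rintro g ⟨hgM, hgv, hgk⟩
    exact ⟨hgM, hgv, 0, by rw [hgk, zero_smul, add_zero]⟩
  -- `H1` is normal in `H2`
  have hnorm : ∀ c ∈ H2, ∀ g ∈ H1, c * g * c⁻¹ ∈ H1 := by
    rintro c ⟨hcM, hcv, a, hck⟩ g ⟨hgM, hgv, hgk⟩
    have hcinvv : c⁻¹ v = v := by
      apply c.injective
      rw [hcv]
      show (c * c⁻¹) v = v
      rw [mul_inv_cancel]; rfl
    have hcinvk : c⁻¹ (k • v) = k • v - a • v := by
      apply c.injective
      rw [map_sub, map_smul c a v, hck, hcv]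
      show (c * c⁻¹) (k • v) = _
      rw [mul_inv_cancel]
      simp
    refine ⟨M.mul_mem (M.mul_mem hcM hgM) (M.inv_mem hcM), ?_, ?_⟩
    · simp only [LinearEquiv.mul_apply]
      rw [hcinvv, hgv, hcv]
    · simp only [LinearEquiv.mul_apply]
      rw [hcinvk, map_sub, map_smul g a v, hgk, hgv, map_sub, map_smul c a v, hck, hcv]
      abel
  obtain ⟨P1, hP1, hQ0P1⟩ := SYLGEN.exists_le p H2 Q0 (hQ0H1.1.trans hH12) hQ0H1.2.1
  -- `P1` is not inside `H1`
  have hP1H1 : ¬ P1 ≤ H1 := by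
    intro hle
    have hzp : IsPGroup p (Subgroup.zpowers t') := by
      rintro ⟨x, hx⟩
      obtain ⟨j, rfl⟩ := Subgroup.mem_zpowers_iff.mp hx
      refine ⟨1, Subtype.ext ?_⟩
      simp only [pow_one, Subgroup.coe_pow, Subgroup.coe_one]
      rw [← zpow_natCast, ← zpow_mul, mul_comm, zpow_mul, zpow_natCast, ht'p, one_zpow]
    obtain ⟨P', hP', hzP'⟩ := SYLGEN.exists_le p H2 (Subgroup.zpowers t')
      (Subgroup.zpowers_le.mpr ht'H2) hzp
    obtain ⟨c, hcH2, hc⟩ := SYLGEN.conj p H2 P1 P' hP1 hP'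
    have h1 : c⁻¹ * t' * c ∈ P1 := (hc t').mp (hzP' (Subgroup.mem_zpowers t'))
    have h2 := hnorm c hcH2 _ (hle h1)
    have h3 : c * (c⁻¹ * t' * c) * c⁻¹ = t' := by group
    rw [h3] at h2
    exact ht'H1 h2
  have hint : P1 ⊓ H1 = Q0 :=
    hQ0H1.2.2 (P1 ⊓ H1) inf_le_right (hP1.2.1.to_le inf_le_left) (le_inf hQ0P1 hQ0H1.1)
  have hne : Q0 ≠ P1 := by
    intro heq
    apply hP1H1
    rw [← heq]
    exact hQ0H1.1
  obtain ⟨g, hgP1, hgQ0, hgn⟩ := SYLGEN.norm_grow p P1 Q0 hP1.2.1 hQ0P1 hne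
  have hgL := C1.map_Kline p M hKTV v hv Q0 hQ0 g hgn
  obtain ⟨hgM, hgv, _⟩ := hP1.1 hgP1
  obtain ⟨σ, hσ⟩ := S1 g hgM hgL hgv
  obtain ⟨e, he⟩ := hP1.2.1 ⟨g, hgP1⟩
  have he' : g ^ (p ^ e) = 1 := by simpa using congrArg Subtype.val he
  have hσe : σ ^ (p ^ e) = 1 := by
    apply AlgEquiv.ext
    intro c
    have h1 := C1.pow_apply g σ v hσ (p ^ e) c
    rw [he'] at h1
    have h2 : (c - (σ ^ (p ^ e)) c) • v = 0 := by
      rw [sub_smul, ← h1]
      simp
    rcases smul_eq_zero.mp h2 with h3 | h3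
    · rw [AlgEquiv.one_apply]
      exact (sub_eq_zero.mp h3).symm
    · exact absurd h3 hv
  have hσ1 := C1.aut_eq_one hp hr hrp σ e hσe
  have hgH0 : g ∈ H0 := by
    refine ⟨hgM, ?_⟩
    intro x hx
    obtain ⟨c, rfl⟩ := SYLH1.mem_Kline.mp hx
    rw [hσ c, hσ1]
    rfl
  have h6 : g ∈ P1 ⊓ H1 := ⟨hgP1, hH01 hgH0⟩
  rw [hint] at h6
  exact hgQ0 h6

end Cfsg.Agent.S5886P
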