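import Mathlib
import Cfsg.Prelude.Def_GeometricClasses
import Cfsg.Agent.Helper2.S5886.Defs
import Cfsg.Agent.Helper26.S5886PROJA
import Cfsg.Agent.Helper22.S5886PROJB
import Cfsg.Agent.Helper22.S5886YADD
import Cfsg.Agent.Lead.S5886YFULL

/-! # S5886 piece UNIV: `Sig = univ` gives `ulie (K v) ⊆ yset` -/

set_option autoImplicit false

namespace Cfsg.Agent.S5886P

variable {F K V : Type*} [Field F] [Field K] [Algebra F K]
  [AddCommGroup V] [Module F V] [Module K V] [IsScalarTower F K V]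

/-- UNIV -/
theorem UNIV [Finite F] [Finite K] [Finite V] (hm : 2 ≤ Module.finrank K V)
    (h2 : 2 ≤ Module.finrank F K)
    (M : Subgroup (V ≃ₗ[F] V)) (hN : Nrm F K V ⊓ DetIn (⊥ : Subgroup Fˣ) ≤ M) (v : V) (hv : v ≠ 0)
    (hS : Sig (K := K) M (Kline (F := F) (K := K) v) = Set.univ)
    (A : V →ₗ[F] V) (hA : A ∈ ulie (Kline (F := F) (K := K) v)) :
    A ∈ yset M (Kline (F := F) (K := K) v) := by
  classical
  haveI : Finite (K ≃ₐ[F] K) := Finite.of_injective (fun σ : K ≃ₐ[F] K => (σ : K → K))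
    (fun _ _ hh => AlgEquiv.ext (congrFun hh))
  letI := Fintype.ofFinite (K ≃ₐ[F] K)
  rw [← PROJ.sum (K := K) A, finsum_eq_sum_of_fintype]
  apply Finset.sum_induction _ (fun B => B ∈ yset M (Kline (F := F) (K := K) v))
  · intro B C hB hC
    exact YADD.add M _ B C hB hC
  · exact YADD.zero M _
  · intro σ _
    have hσ : σ ∈ Sig (K := K) M (Kline (F := F) (K := K) v) := by rw [hS]; trivial
    exact YFULL hm h2 M hN v hv σ hσ (proj σ A) (PROJ.ulie v σ A hA) (PROJ.semi σ A)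

end Cfsg.Agent.S5886P
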