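import Mathlib
import Cfsg.Prelude.Def_KGroupFacts
import Cfsg.Agent.Helper11.HexGroup
import Cfsg.Agent.Helper2.A6Omega

/-! A stem extension of `SL₂(9)` with kernel of order 3: the fibre product of `SL₂(9) → A₆` with
the hexacode group `3.A₆ → A₆`. -/

set_option autoImplicit false
set_option linter.unusedSectionVars false
set_option linter.unusedVariables false
set_option linter.style.haveILetI false

namespace Cfsg.Agent.Helper11.HexGroup

open scoped commutatorElement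
open Matrix

universe u

theorem sl2_center_sq {F : Type*} [Field F] (g : SpecialLinearGroup (Fin 2) F)
    (hg : g ∈ Subgroup.center (SpecialLinearGroup (Fin 2) F)) : g ^ 2 = 1 := by
  classical
  rw [Matrix.SpecialLinearGroup.mem_center_iff] at hg
  obtain ⟨r, hr, hg⟩ := hg
  rw [Fintype.card_fin] at hr
  apply Subtype.ext
  have h1 : ((g ^ 2 : SpecialLinearGroup (Fin 2) F) : Matrix (Fin 2) (Fin 2) F) =
      (g : Matrix (Fin 2) (Fin 2) F) ^ 2 := Matrix.SpecialLinearGroup.coe_pow g 2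
  show ((g ^ 2 : SpecialLinearGroup (Fin 2) F) : Matrix (Fin 2) (Fin 2) F) = 1
  rw [h1, ← hg, ← map_pow, hr, map_one]

theorem exists_stem {F : Type u} [Field F] [Fintype F] (hF : Fintype.card F = 9) :
    ∃ (Γ : Type u) (_ : Group Γ) (_ : Finite Γ) (σ : Γ →* SpecialLinearGroup (Fin 2) F),
      Cfsg.IsStemExtension σ ∧ Nonempty (σ.ker ≃* Multiplicative (ZMod 3)) := by
  classical
  -- the field with four elements
  haveI : Fact (Nat.Prime 2) := ⟨Nat.prime_two⟩
  let K := GaloisField 2 2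
  haveI : Fintype K := Fintype.ofFinite K
  have hK : Fintype.card K = 4 := by
    rw [← Nat.card_eq_fintype_card, GaloisField.card 2 2 (by norm_num)]
    norm_num
  have hu3 : Nat.card Kˣ = 3 := by
    rw [Nat.card_units, Nat.card_eq_fintype_card, hK]
  obtain ⟨ω', hω'⟩ : ∃ l : Kˣ, l ≠ 1 := by
    by_contra hcon
    push Not at hcon
    have : Subsingleton Kˣ := ⟨fun a b => (hcon a).trans (hcon b).symm⟩
    have := Nat.card_unique (α := Kˣ)
    omega
  have hω3 : ω' ^ 3 = 1 := by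
    rw [← hu3]; exact pow_card_eq_one'
  set ω : K := (ω' : K) with hωdef
  have hω : ω ^ 2 + ω + 1 = 0 := by
    have h1 : ω ^ 3 = 1 := by
      have := congrArg Units.val hω3
      simpa using this
    have h2 : ω ≠ 1 := fun h => hω' (Units.ext h)
    have h3 : (ω - 1) * (ω ^ 2 + ω + 1) = 0 := by
      linear_combination h1
    rcases mul_eq_zero.mp h3 with h | h
    · exact absurd (sub_eq_zero.mp h) h2
    · exact h
  -- the two maps onto `A₆`
  obtain ⟨e⟩ := Cfsg.Agent.Helper2.A6O4.nonempty_mulEquiv_PSL hF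
  let θ : SpecialLinearGroup (Fin 2) F →* alternatingGroup (Fin 6) :=
    e.toMonoidHom.comp (QuotientGroup.mk' (Subgroup.center (SpecialLinearGroup (Fin 2) F)))
  have hθs : Function.Surjective θ :=
    e.surjective.comp (QuotientGroup.mk'_surjective _)
  have hθk : ∀ g, θ g = 1 → g ^ 2 = 1 := by
    intro g hg
    apply sl2_center_sq
    have : (QuotientGroup.mk' (Subgroup.center (SpecialLinearGroup (Fin 2) F))) g = 1 :=
      e.map_eq_one_iff.mp hg
    rwa [QuotientGroup.mk'_apply, QuotientGroup.eq_one_iff] at this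
  let ρ : hexG ω →* alternatingGroup (Fin 6) := rho hK hω
  have hρs : Function.Surjective ρ := rho_surjective hK hω
  -- the fibre product
  haveI : Finite (Mon Kˣ) := Finite.of_equiv _ SemidirectProduct.equivProd.symm
  let Γ : Subgroup (SpecialLinearGroup (Fin 2) F × hexG ω) :=
    MonoidHom.eqLocus (θ.comp (MonoidHom.fst _ _)) (ρ.comp (MonoidHom.snd _ _))
  have hΓ : ∀ x : SpecialLinearGroup (Fin 2) F × hexG ω, x ∈ Γ ↔ θ x.1 = ρ x.2 := fun x => Iff.rfl
  let σ : Γ →* SpecialLinearGroup (Fin 2) F := (MonoidHom.fst _ _).comp Γ.subtype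
  have hσ : ∀ x : Γ, σ x = x.1.1 := fun x => rfl
  have hσs : Function.Surjective σ := by
    intro g
    obtain ⟨m, hm⟩ := hρs (θ g)
    exact ⟨⟨(g, m), hm.symm⟩, rfl⟩
  -- description of the kernel
  have hker : ∀ x : Γ, x ∈ σ.ker → ∃ l : Kˣ, x.1 = (1, sc l) := by
    intro x hx
    rw [MonoidHom.mem_ker, hσ] at hx
    have h2 : ρ x.1.2 = 1 := by
      have := (hΓ x.1).mp x.2
      rw [hx, map_one] at this
      exact this.symm
    obtain ⟨l, hl⟩ := eq_sc_of_rho_eq_one hK hω _ h2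
    exact ⟨l, Prod.ext hx hl⟩
  have hmemΓ : ∀ l : Kˣ, ((1 : SpecialLinearGroup (Fin 2) F), (sc l : hexG ω)) ∈ Γ := by
    intro l
    rw [hΓ]
    show θ 1 = ρ (sc l)
    rw [map_one]
    exact (rho_sc hK hω l).symm
  have hkc : σ.ker ≤ Subgroup.center Γ := by
    intro x hx
    obtain ⟨l, hl⟩ := hker x hx
    rw [Subgroup.mem_center_iff]
    intro y
    apply Subtype.ext
    rw [Subgroup.coe_mul, Subgroup.coe_mul, hl]
    apply Prod.ext
    · simp
    · show y.1.2 * sc l = sc l * y.1.2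
      exact (sc_mul_comm l y.1.2).symm
  -- a commutator
  obtain ⟨m₁, m₂, l₀, hl₀, hm⟩ := exists_comm hK hω
  obtain ⟨g₁, hg₁⟩ := hθs (ρ m₁)
  obtain ⟨g₂, hg₂⟩ := hθs (ρ m₂)
  let x₁ : Γ := ⟨(g₁, m₁), hg₁⟩
  let x₂ : Γ := ⟨(g₂, m₂), hg₂⟩
  have hcm : ⁅m₁, m₂⁆ = sc l₀ := by
    rw [commutatorElement_def, hm]
    group
  have hcg : ⁅g₁, g₂⁆ ^ 2 = 1 := by
    apply hθk
    rw [map_commutatorElement, hg₁, hg₂, ← map_commutatorElement, hcm]
    exact rho_sc hK hω l₀
  have hl₀3 : l₀ ^ 3 = 1 := by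
    rw [← hu3]; exact pow_card_eq_one'
  set z₀ : Γ := ⁅x₁, x₂⁆ ^ 4 with hz₀
  have hz₀v : z₀.1 = (1, sc l₀) := by
    rw [hz₀, Subgroup.coe_pow]
    have : (⁅x₁, x₂⁆ : Γ).1 = (⁅g₁, g₂⁆, ⁅m₁, m₂⁆) := rfl
    rw [this, hcm]
    apply Prod.ext
    · show ⁅g₁, g₂⁆ ^ 4 = 1
      have : (4 : ℕ) = 2 * 2 := rfl
      rw [this, pow_mul, hcg, one_pow]
    · show (sc l₀ : hexG ω) ^ 4 = sc l₀
      rw [sc_pow]
      congr 1
      rw [pow_succ, hl₀3, one_mul]
  have hz₀c : z₀ ∈ commutator Γ := by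
    rw [hz₀]
    apply Subgroup.pow_mem
    rw [commutator_eq_closure]
    exact Subgroup.subset_closure ⟨x₁, x₂, rfl⟩
  have htop : Subgroup.zpowers l₀ = ⊤ := by
    haveI : Fact (Nat.Prime 3) := ⟨Nat.prime_three⟩
    exact zpowers_eq_top_of_prime_card (p := 3) hu3 hl₀
  have hkz : ∀ x : Γ, x ∈ σ.ker → x ∈ Subgroup.zpowers z₀ := by
    intro x hx
    obtain ⟨l, hl⟩ := hker x hx
    have : l ∈ Subgroup.zpowers l₀ := by rw [htop]; trivial
    obtain ⟨k, hk⟩ := (mem_powers_iff_mem_zpowers (x := l₀)).mpr this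
    refine (mem_powers_iff_mem_zpowers (x := z₀)).mp ⟨k, ?_⟩
    apply Subtype.ext
    show (z₀ ^ k).1 = x.1
    rw [Subgroup.coe_pow, hz₀v, hl, ← hk]
    apply Prod.ext
    · simp
    · show (sc l₀ : hexG ω) ^ k = sc (l₀ ^ k)
      exact sc_pow l₀ k
  have hz₀k : z₀ ∈ σ.ker := by
    rw [MonoidHom.mem_ker, hσ, hz₀v]
  have hkcomm : σ.ker ≤ commutator Γ := by
    intro x hx
    obtain ⟨k, hk⟩ := hkz x hx
    rw [← hk]
    exact Subgroup.zpow_mem _ hz₀c k
  have hkeq : σ.ker = Subgroup.zpowers z₀ := by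
    apply le_antisymm
    · intro x hx; exact hkz x hx
    · rw [Subgroup.zpowers_le]; exact hz₀k
  have hz₀3 : z₀ ^ 3 = 1 := by
    apply Subtype.ext
    rw [Subgroup.coe_pow, hz₀v]
    apply Prod.ext
    · simp
    · show (sc l₀ : hexG ω) ^ 3 = 1
      rw [sc_pow, hl₀3]
      apply Subtype.ext
      rfl
  have hz₀1 : z₀ ≠ 1 := by
    intro h
    have h1 : z₀.1.2 = 1 := by rw [h]; rfl
    rw [hz₀v] at h1
    have h1' : (sc l₀ : hexG ω) = 1 := h1
    have h2 : (sc l₀ : hexG ω) = sc 1 := by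
      rw [h1']
      apply Subtype.ext
      rfl
    exact hl₀ (sc_injective h2)
  have hcardk : Nat.card σ.ker = 3 := by
    rw [hkeq, Nat.card_zpowers]
    exact orderOf_eq_prime hz₀3 hz₀1
  refine ⟨Γ, inferInstance, inferInstance, σ, ⟨hσs, hkc, hkcomm⟩, ?_⟩
  haveI : Fact (Nat.Prime 3) := ⟨Nat.prime_three⟩
  have hcyc : IsCyclic σ.ker := isCyclic_of_prime_card hcardk
  have eq := zmodCyclicMulEquiv hcyc
  rw [hcardk] at eq
  exact ⟨eq.symm⟩

end Cfsg.Agent.Helper11.HexGroup
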