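import Mathlib
import Cfsg.Agent.Helper11.NilSq

set_option autoImplicit false

namespace Cfsg.Agent.Helper11.SLInvol

open Matrix Module

variable {F : Type*} [Field F] [CharP F 2] {n : ℕ}

theorem sub_one_mul_self {A : Matrix (Fin n) (Fin n) F} (hA : A * A = 1) :
    (A - 1) * (A - 1) = 0 := by
  have h2 : ∀ B : Matrix (Fin n) (Fin n) F, B + B = 0 := by
    intro B
    ext i j
    rw [Matrix.add_apply, Matrix.zero_apply]
    exact CharTwo.add_self_eq_zero _
  calc (A - 1) * (A - 1) = A * A + 1 - (A + A) := by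
        simp only [mul_sub, sub_mul, mul_one, one_mul]; abel
    _ = 0 := by rw [hA, h2, h2, sub_zero]

theorem sl_involution_conj [Finite F] (a b : SpecialLinearGroup (Fin n) F) (ha : orderOf a = 2)
    (hb : orderOf b = 2)
    (hrank : ((a : Matrix (Fin n) (Fin n) F) - 1).rank = ((b : Matrix (Fin n) (Fin n) F) - 1).rank) :
    IsConj a b := by
  classical
  have haa : (a : Matrix (Fin n) (Fin n) F) * a = 1 := by
    have := pow_orderOf_eq_one a
    rw [ha, pow_two] at this
    exact congrArg Subtype.val this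
  have hbb : (b : Matrix (Fin n) (Fin n) F) * b = 1 := by
    have := pow_orderOf_eq_one b
    rw [hb, pow_two] at this
    exact congrArg Subtype.val this
  set N : Matrix (Fin n) (Fin n) F := (a : Matrix (Fin n) (Fin n) F) - 1 with hN
  set M : Matrix (Fin n) (Fin n) F := (b : Matrix (Fin n) (Fin n) F) - 1 with hM
  have hNN : N * N = 0 := sub_one_mul_self haa
  have hMM : M * M = 0 := sub_one_mul_self hbb
  have hN0 : N ≠ 0 := by
    intro h
    have h1 : (a : Matrix (Fin n) (Fin n) F) = 1 := sub_eq_zero.1 h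
    have h2 : a = 1 := Subtype.ext h1
    rw [h2, orderOf_one] at ha
    omega
  have hf : Matrix.toLin' N ∘ₗ Matrix.toLin' N = 0 := by
    rw [← Matrix.toLin'_mul, hNN, map_zero]
  have hf' : Matrix.toLin' M ∘ₗ Matrix.toLin' M = 0 := by
    rw [← Matrix.toLin'_mul, hMM, map_zero]
  have hne : Matrix.toLin' N ≠ 0 := by
    intro h
    exact hN0 (Matrix.toLin'.injective (by rw [h, map_zero]))
  have hrk : finrank F (LinearMap.range (Matrix.toLin' N)) =
      finrank F (LinearMap.range (Matrix.toLin' M)) := hrank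
  have hsq : ∀ x : F, IsSquare x := by
    haveI := Fintype.ofFinite F
    exact FiniteField.isSquare_of_char_two (ringChar.eq F 2)
  obtain ⟨φ, hφ, hdet⟩ := NilSq.exists_conj_det_one _ _ hf hf' hrk hne hsq
  set P : Matrix (Fin n) (Fin n) F := LinearMap.toMatrix' φ.toLinearMap with hP
  have hPN : P * N = M * P := by
    have := congrArg LinearMap.toMatrix' hφ
    rw [LinearMap.toMatrix'_comp, LinearMap.toMatrix'_comp, LinearMap.toMatrix'_toLin',
      LinearMap.toMatrix'_toLin'] at this
    exact this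
  have hPdet : P.det = 1 := by
    rw [hP, LinearMap.det_toMatrix', hdet]
  let g : SpecialLinearGroup (Fin n) F := ⟨P, hPdet⟩
  have hg : g * a = b * g := by
    apply Subtype.ext
    change P * (a : Matrix (Fin n) (Fin n) F) = (b : Matrix (Fin n) (Fin n) F) * P
    have e1 : (a : Matrix (Fin n) (Fin n) F) = 1 + N := by rw [hN]; abel
    have e2 : (b : Matrix (Fin n) (Fin n) F) = 1 + M := by rw [hM]; abel
    rw [e1, e2, mul_add, add_mul, mul_one, one_mul, hPN]
  rw [isConj_iff]
  exact ⟨g, by rw [hg, mul_inv_cancel_right]⟩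

end Cfsg.Agent.Helper11.SLInvol

namespace Cfsg.Agent.Helper11.SLInvol

open Matrix Module

theorem rank_sub_one_of_isConj {F : Type*} [Field F] {n : ℕ} (a b : SpecialLinearGroup (Fin n) F)
    (h : IsConj a b) :
    ((a : Matrix (Fin n) (Fin n) F) - 1).rank = ((b : Matrix (Fin n) (Fin n) F) - 1).rank := by
  obtain ⟨c, hc⟩ := isConj_iff.1 h
  have h1 : (c : Matrix (Fin n) (Fin n) F) * (a : Matrix (Fin n) (Fin n) F) *
      ((c⁻¹ : SpecialLinearGroup (Fin n) F) : Matrix (Fin n) (Fin n) F) = b := by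
    rw [← hc]; rfl
  have h2 : (c : Matrix (Fin n) (Fin n) F) *
      ((c⁻¹ : SpecialLinearGroup (Fin n) F) : Matrix (Fin n) (Fin n) F) = 1 := by
    have : c * c⁻¹ = 1 := mul_inv_cancel c
    exact congrArg Subtype.val this
  have h3 : (b : Matrix (Fin n) (Fin n) F) - 1 = (c : Matrix (Fin n) (Fin n) F) *
      ((a : Matrix (Fin n) (Fin n) F) - 1) *
      ((c⁻¹ : SpecialLinearGroup (Fin n) F) : Matrix (Fin n) (Fin n) F) := by
    rw [mul_sub, sub_mul, mul_one, h1, h2]
  rw [h3, Matrix.rank_mul_eq_left_of_isUnit_det _ _ (by rw [(c⁻¹).2]; exact isUnit_one),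
    Matrix.rank_mul_eq_right_of_isUnit_det _ _ (by rw [c.2]; exact isUnit_one)]

end Cfsg.Agent.Helper11.SLInvol
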