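import Mathlib
import Cfsg.Agent.Helper2.SzSylow2
import Cfsg.Agent.Helper11.SzMax

set_option autoImplicit false

namespace Cfsg.Agent.Helper11.SzReal

open Cfsg.Agent.Helper2.SzO Cfsg.Agent.Helper11.SzMax
open scoped Pointwise

variable {F : Type*} [Field F] [Fintype F] {m : ℕ}

/-- If a translation `T(a,b)` is conjugate to its inverse then `a = 0`. -/
theorem eq_zero_of_real (hF : Fintype.card F = 2 ^ (2 * m + 1)) (hm : 1 ≤ m) (a b : F)
    (c : Cfsg.Sz F m) (hc : c * Tz hF a b * c⁻¹ = (Tz hF a b)⁻¹) : a = 0 := by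
  have h2 := two_eq_zero hF
  rw [Tz_inv] at hc
  have hfixc : Tz hF a (b + a ^ sg m * a) • (c • (infO : Cfsg.suzukiOvoid F m)) = c • infO := by
    rw [← hc, mul_smul, mul_smul, inv_smul_smul, Tz_smul_infO]
  rcases ovoid_cases (c • (infO : Cfsg.suzukiOvoid F m)) with hinf | ⟨u, v, huv⟩
  · -- `c` fixes `∞`
    obtain ⟨c, hcm⟩ := c
    have hfix' : c • (infP : Projectivization F (Fin 4 → F)) = infP := congrArg Subtype.val hinf
    obtain ⟨a', b', k, hk⟩ := decomp_fix_inf hF hm hcm hfix'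
    have e : (⟨c, hcm⟩ : Cfsg.Sz F m) = Tz hF a' b' * Dz hF k := Subtype.ext hk
    rw [e] at hc
    have e2 : Tz hF a' b' * Dz hF k * Tz hF a b * (Tz hF a' b' * Dz hF k)⁻¹ =
        Tz hF a' b' * (Dz hF k * Tz hF a b * (Dz hF k)⁻¹) * (Tz hF a' b')⁻¹ := by group
    rw [e2, Dz_mul_Tz, Tz_inv, Tz_mul, Tz_mul] at hc
    obtain ⟨h1, h3⟩ := Tz_injective hF hc
    by_contra ha
    have hk1 : (k : F) = 1 := by
      have : ((k : F) - 1) * a = 0 := by linear_combination h1 - a' * h2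
      rcases mul_eq_zero.mp this with h | h
      · exact sub_eq_zero.mp h
      · exact absurd h ha
    rw [hk1, one_mul, one_pow, one_mul, add_pow_sg hF] at h3
    -- `a'^σ a + a^σ a' = a^σ a`
    have h4 : a' ^ sg m * a + a ^ sg m * a' = a ^ sg m * a := by
      linear_combination h3 - (b' + a' ^ sg m * a') * h2
    set y := a' / a with hy
    have hay : a' = a * y := by rw [hy, mul_div_cancel₀ _ ha]
    rw [hay, mul_pow] at h4
    have h5 : (y ^ sg m + y) * (a ^ sg m * a) = 1 * (a ^ sg m * a) := by linear_combination h4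
    have hne : a ^ sg m * a ≠ 0 := mul_ne_zero (pow_ne_zero _ ha) ha
    have h6 := mul_right_cancel₀ hne h5
    exact one_not_mem_range_phi hF ⟨y, h6⟩
  · rw [huv] at hfixc
    exact (Tz_fix_affine hF hfixc).1

/-- Real 2-elements of the Suzuki group are involutions. -/
theorem real_iff (hF : Fintype.card F = 2 ^ (2 * m + 1)) (hm : 1 ≤ m)
    (P : Sylow 2 (Cfsg.Sz F m)) (g : Cfsg.Sz F m) (hg : g ∈ (P : Subgroup (Cfsg.Sz F m)))
    (h1 : g ≠ 1) : IsConj g g⁻¹ ↔ orderOf g = 2 := by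
  have : Fact (Nat.Prime 2) := ⟨Nat.prime_two⟩
  constructor
  · intro hconj
    obtain ⟨h, hh⟩ := MulAction.exists_smul_eq (Cfsg.Sz F m) (QSylow hF hm) P
    have hP : (P : Subgroup (Cfsg.Sz F m)) = MulAut.conj h • Qz hF := by
      rw [← hh, Sylow.coe_subgroup_smul, QSylow_coe]
    rw [hP] at hg
    obtain ⟨t, ht, rfl⟩ := hg
    obtain ⟨a, b, rfl⟩ := ht
    have hg' : ∀ z : Cfsg.Sz F m, (MulAut.conj h) z = h * z * h⁻¹ := fun z => rfl
    simp only [MulDistribMulAction.toMonoidEnd_apply, MulDistribMulAction.toMonoidHom_apply,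
      MulAut.smul_def, hg'] at hconj h1 ⊢
    rw [isConj_iff] at hconj
    obtain ⟨c, hc⟩ := hconj
    have hc' : (h⁻¹ * c * h) * Tz hF a b * (h⁻¹ * c * h)⁻¹ = (Tz hF a b)⁻¹ := by
      calc (h⁻¹ * c * h) * Tz hF a b * (h⁻¹ * c * h)⁻¹
          = h⁻¹ * (c * (h * Tz hF a b * h⁻¹) * c⁻¹) * h := by group
        _ = h⁻¹ * (h * Tz hF a b * h⁻¹)⁻¹ * h := by rw [hc]
        _ = _ := by group
    have ha := eq_zero_of_real hF hm a b _ hc'
    subst ha
    have hsq : (h * Tz hF 0 b * h⁻¹) ^ 2 = 1 := by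
      rw [pow_two]
      calc h * Tz hF 0 b * h⁻¹ * (h * Tz hF 0 b * h⁻¹) = h * (Tz hF 0 b * Tz hF 0 b) * h⁻¹ := by
            group
        _ = 1 := by rw [Tz_zero_mul_self]; group
    exact orderOf_eq_prime hsq h1
  · intro h2
    have hsq : g ^ 2 = 1 := by rw [← h2]; exact pow_orderOf_eq_one g
    have : g⁻¹ = g := by
      rw [inv_eq_iff_mul_eq_one, ← pow_two]; exact hsq
    rw [this]

end Cfsg.Agent.Helper11.SzReal
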