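import Mathlib
import Cfsg.Agent.Helper11.SzAutH

/-! Minimal degree of the Suzuki groups, part B: sign characters of the field and their radicals. -/

set_option autoImplicit false
set_option linter.unusedSectionVars false
set_option linter.unusedVariables false

namespace Cfsg.Agent.Helper11.SzRep

open Cfsg.Agent.Helper2.SzO

variable {F : Type*} [Field F] [Fintype F] {m : ℕ}

/-- a multiplier `e ≠ 0` preserving `P = {t^σ + t}` does not lie in `P` -/
theorem not_mem_of_stab (hF : Fintype.card F = 2 ^ (2 * m + 1)) (e : F) (he : e ≠ 0)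
    (h : ∀ p ∈ (phi hF).range, e * p ∈ (phi hF).range) : e ∉ (phi hF).range := by
  intro hmem
  let g : (phi hF).range → (phi hF).range := fun p => ⟨e * p.1, h p.1 p.2⟩
  have hinj : Function.Injective g := by
    intro p p' hpp
    have := congrArg Subtype.val hpp
    exact Subtype.ext (mul_left_cancel₀ he this)
  obtain ⟨p, hp⟩ := Finite.surjective_of_injective hinj ⟨e, hmem⟩
  have h1 : e * p.1 = e := congrArg Subtype.val hp
  have h2 : p.1 = 1 := by
    have : e * p.1 = e * 1 := by rw [h1, mul_one]
    exact mul_left_cancel₀ he this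
  exact one_not_mem_range_phi hF (h2 ▸ p.2)

/-- the multiplicative stabiliser of `P = {t^σ + t}` is trivial -/
theorem stab_phi_range (hF : Fintype.card F = 2 ^ (2 * m + 1)) (e : F) (he : e ≠ 0)
    (h : ∀ p ∈ (phi hF).range, e * p ∈ (phi hF).range) : e = 1 := by
  have h2 := two_eq_zero hF
  have hnot := not_mem_of_stab hF e he h
  obtain ⟨t, ht | ht⟩ := exists_phi hF e
  · exact absurd ⟨t, ht.symm⟩ hnot
  · by_contra hne
    have he' : phi hF t ≠ 0 := by
      intro h0
      rw [h0, add_zero] at ht
      exact hne ht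
    have hstab : ∀ p ∈ (phi hF).range, phi hF t * p ∈ (phi hF).range := by
      intro p hp
      have : phi hF t * p = e * p + p := by
        rw [ht]; linear_combination -p * h2
      rw [this]
      exact AddSubgroup.add_mem _ (h p hp) hp
    exact not_mem_of_stab hF _ he' hstab ⟨t, rfl⟩

/-- sign characters of the additive group of the field -/
structure IsSignChar (lam : F → ℂ) : Prop where
  add : ∀ b b', lam (b + b') = lam b * lam b'
  sign : ∀ b, lam b = 1 ∨ lam b = -1

theorem IsSignChar.zero {lam : F → ℂ} (h : IsSignChar lam) : lam 0 = 1 := by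
  have h1 := h.add 0 0
  rw [add_zero] at h1
  rcases h.sign 0 with h0 | h0
  · exact h0
  · rw [h0] at h1
    norm_num at h1

theorem IsSignChar.ne_zero {lam : F → ℂ} (h : IsSignChar lam) (b : F) : lam b ≠ 0 := by
  rcases h.sign b with h0 | h0 <;> rw [h0] <;> norm_num

/-- if a non-trivial sign character is trivial on `c P` then its kernel is exactly `c P` -/
theorem ker_eq_of_trivial_on (hF : Fintype.card F = 2 ^ (2 * m + 1)) {lam : F → ℂ}
    (h : IsSignChar lam) (hnt : ∃ b, lam b ≠ 1) (c : F) (hc : c ≠ 0)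
    (htr : ∀ p ∈ (phi hF).range, lam (c * p) = 1) (b : F) (hb : lam b = 1) :
    ∃ p ∈ (phi hF).range, b = c * p := by
  obtain ⟨t, ht | ht⟩ := exists_phi hF (b / c)
  · exact ⟨phi hF t, ⟨t, rfl⟩, by rw [← ht]; field_simp⟩
  · exfalso
    have hb' : b = c + c * phi hF t := by
      have : b = c * (b / c) := by field_simp
      rw [this, ht]; ring
    have hlc : lam c = 1 := by
      rw [hb', h.add, htr _ ⟨t, rfl⟩, mul_one] at hb
      exact hb
    obtain ⟨b₀, hb₀⟩ := hnt
    apply hb₀
    obtain ⟨t', ht' | ht'⟩ := exists_phi hF (b₀ / c)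
    · have : b₀ = c * phi hF t' := by rw [← ht']; field_simp
      rw [this]
      exact htr _ ⟨t', rfl⟩
    · have : b₀ = c + c * phi hF t' := by
        have : b₀ = c * (b₀ / c) := by field_simp
        rw [this, ht']; ring
      rw [this, h.add, htr _ ⟨t', rfl⟩, hlc, mul_one]

/-- the radical of the commutator form twisted by a sign character -/
def rad (hF : Fintype.card F = 2 ^ (2 * m + 1)) {lam : F → ℂ} (h : IsSignChar lam) :
    AddSubgroup F where
  carrier := {a | ∀ x : F, lam (x ^ sg m * a + a ^ sg m * x) = 1}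
  zero_mem' := by
    intro x
    simp [sg_ne_zero, h.zero]
  add_mem' := by
    intro a a' ha ha' x
    have : x ^ sg m * (a + a') + (a + a') ^ sg m * x =
        (x ^ sg m * a + a ^ sg m * x) + (x ^ sg m * a' + a' ^ sg m * x) := by
      rw [add_pow_sg hF]; ring
    rw [this, h.add, ha x, ha' x, mul_one]
  neg_mem' := by
    intro a ha x
    have h2 := two_eq_zero hF
    have : -a = a := by linear_combination -a * h2
    rw [this]
    exact ha x

theorem mem_rad (hF : Fintype.card F = 2 ^ (2 * m + 1)) {lam : F → ℂ} (h : IsSignChar lam) (a : F) :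
    a ∈ rad hF h ↔ ∀ x : F, lam (x ^ sg m * a + a ^ sg m * x) = 1 := Iff.rfl

/-- two non-zero elements of the radical of a non-trivial sign character are equal -/
theorem rad_unique (hF : Fintype.card F = 2 ^ (2 * m + 1)) {lam : F → ℂ} (h : IsSignChar lam)
    (hnt : ∃ b, lam b ≠ 1) {a a' : F} (ha : a ∈ rad hF h) (ha' : a' ∈ rad hF h)
    (ha0 : a ≠ 0) (ha'0 : a' ≠ 0) : a = a' := by
  have key : ∀ a : F, a ∈ rad hF h → ∀ p ∈ (phi hF).range, lam (a ^ sg m * a * p) = 1 := by
    rintro a ha _ ⟨y, rfl⟩
    have := ha (a * y)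
    rw [phi_apply]
    rw [← this]
    congr 1
    rw [mul_pow]; ring
  have hc : a ^ sg m * a ≠ 0 := mul_ne_zero (pow_ne_zero _ ha0) ha0
  have hc' : a' ^ sg m * a' ≠ 0 := mul_ne_zero (pow_ne_zero _ ha'0) ha'0
  -- `e = c'/c` stabilises `P`
  have hstab : ∀ p ∈ (phi hF).range, (a' ^ sg m * a') / (a ^ sg m * a) * p ∈ (phi hF).range := by
    intro p hp
    obtain ⟨p', hp', e⟩ := ker_eq_of_trivial_on hF h hnt _ hc (key a ha) _ (key a' ha' p hp)
    have : (a' ^ sg m * a') / (a ^ sg m * a) * p = p' := by
      field_simp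
      linear_combination e
    rw [this]
    exact hp'
  have he := stab_phi_range hF _ (div_ne_zero hc' hc) hstab
  have hcc : a' ^ sg m * a' = a ^ sg m * a := by
    field_simp at he
    exact he
  -- injectivity of `x ↦ x^(σ+1)`
  have hu : (Units.mk0 a' ha'0 / Units.mk0 a ha0) ^ (sg m + 1) = 1 := by
    apply Units.ext
    simp only [Units.val_pow_eq_pow_val, Units.val_div_eq_div_val, Units.val_mk0, Units.val_one]
    rw [div_pow, pow_succ, pow_succ, hcc]
    exact div_self hc
  have := eq_one_of_pow_sg_succ hF hu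
  have h3 := congrArg Units.val this
  simp only [Units.val_div_eq_div_val, Units.val_mk0, Units.val_one] at h3
  field_simp at h3
  exact h3.symm

/-- the radical of a non-trivial sign character has at most two elements -/
theorem card_rad_le (hF : Fintype.card F = 2 ^ (2 * m + 1)) {lam : F → ℂ} (h : IsSignChar lam)
    (hnt : ∃ b, lam b ≠ 1) : Nat.card (rad hF h) ≤ 2 := by
  classical
  have : Nat.card Bool = 2 := by simp
  rw [← this]
  apply Nat.card_le_card_of_injective (fun a : rad hF h => decide (a.1 = 0))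
  intro a a' haa
  simp only [decide_eq_decide] at haa
  apply Subtype.ext
  by_cases h0 : a.1 = 0
  · rw [h0, haa.mp h0]
  · have h0' : a'.1 ≠ 0 := fun h' => h0 (haa.mpr h')
    exact rad_unique hF h hnt a.2 a'.2 h0 h0'

/-- the quotient by the radical has at least `q/2` elements -/
theorem card_quot_rad (hF : Fintype.card F = 2 ^ (2 * m + 1)) {lam : F → ℂ} (h : IsSignChar lam)
    (hnt : ∃ b, lam b ≠ 1) : 2 ^ (2 * m) ≤ Nat.card (F ⧸ rad hF h) := by
  have h1 := AddSubgroup.card_eq_card_quotient_mul_card_addSubgroup (rad hF h)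
  rw [Nat.card_eq_fintype_card, hF] at h1
  have h2 := card_rad_le hF h hnt
  have h3 : 2 ^ (2 * m + 1) ≤ Nat.card (F ⧸ rad hF h) * 2 := by
    rw [h1]; exact Nat.mul_le_mul_left _ h2
  rw [pow_succ] at h3
  omega

end Cfsg.Agent.Helper11.SzRep
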