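import Mathlib
import Cfsg.Agent.Helper11.SzSolD

/-! Solubilizers in the Suzuki groups, part E: counting the involutions and the elements of order
four. -/

set_option autoImplicit false
set_option linter.unusedSectionVars false
set_option linter.unusedVariables false

namespace Cfsg.Agent.Helper11.SzSol

open Matrix Cfsg.Agent.Helper2.SzO Cfsg.Agent.Helper11.SzAut Cfsg.Agent.Helper11.SzCN
  Cfsg.Agent.Helper11.SCTI Cfsg.Agent.Helper11.SzTor Cfsg.Agent.Helper11.SzPart
  Cfsg.Agent.Helper11.SzTI Cfsg.Agent.Helper11.SzMax Cfsg.Agent.Helper11.SzSg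

/-- double counting, in terms of `Nat.card` -/
theorem double_count {α β : Type*} [Finite α] [Finite β] (p : α → Prop) (q : β → Prop)
    (r : α → β → Prop) (a b : ℕ)
    (h1 : ∀ x, p x → Nat.card {y // q y ∧ r x y} = a)
    (h2 : ∀ y, q y → Nat.card {x // p x ∧ r x y} = b) :
    Nat.card {x // p x} * a = Nat.card {y // q y} * b := by
  classical
  have := Fintype.ofFinite α
  have := Fintype.ofFinite β
  have e := Finset.card_mul_eq_card_mul (s := Finset.univ.filter p) (t := Finset.univ.filter q) r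
    (m := a) (n := b) (by
      intro x hx
      rw [Finset.mem_filter] at hx
      rw [← h1 x hx.2, Nat.card_eq_fintype_card, Fintype.card_subtype]
      congr 1
      ext y
      simp [Finset.bipartiteAbove]) (by
      intro y hy
      rw [Finset.mem_filter] at hy
      rw [← h2 y hy.2, Nat.card_eq_fintype_card, Fintype.card_subtype]
      congr 1
      ext x
      simp [Finset.bipartiteBelow])
  rw [Nat.card_eq_fintype_card, Nat.card_eq_fintype_card, Fintype.card_subtype, Fintype.card_subtype]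
  exact e

variable {F : Type*} [Field F] [Fintype F] {m : ℕ}

section

variable (hF : Fintype.card F = 2 ^ (2 * m + 1)) (hm : 1 ≤ m)

include hF hm

/-- elements of order `2` or `4` are conjugate into `Q` -/
theorem exists_conj_Tz_of_two_elt (y : Cfsg.Sz F m) (h : orderOf y = 2 ∨ orderOf y = 4) :
    ∃ (g : Cfsg.Sz F m) (a b : F), ¬ (a = 0 ∧ b = 0) ∧ g * y * g⁻¹ = Tz hF a b := by
  rcases h with h | h
  · obtain ⟨g, hg⟩ := exists_conj_of_order_two hF hm y h
    exact ⟨g, 0, 1, fun h => one_ne_zero h.2, hg⟩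
  · obtain ⟨g, a, b, ha, hg⟩ := exists_conj_of_order_four hF hm y h
    exact ⟨g, a, b, fun h => ha h.1, hg⟩

/-- the unique fixed point of an element of order `2` or `4` -/
theorem fix_unique_two_elt (y : Cfsg.Sz F m) (h : orderOf y = 2 ∨ orderOf y = 4) :
    ∃ ω₀ : Cfsg.suzukiOvoid F m, y • ω₀ = ω₀ ∧ ∀ ω, y • ω = ω → ω = ω₀ := by
  obtain ⟨g, a, b, hab, e⟩ := exists_conj_Tz_of_two_elt hF hm y h
  have hy : y = g⁻¹ * Tz hF a b * g := by rw [← e]; group
  refine ⟨g⁻¹ • infO, ?_, ?_⟩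
  · rw [hy, mul_smul, mul_smul, smul_inv_smul, Tz_smul_infO]
  · intro ω hω
    have h1 : Tz hF a b • (g • ω) = g • ω := by
      rw [← e, mul_smul, mul_smul, inv_smul_smul, hω]
    rcases ovoid_cases (g • ω) with h2 | ⟨u, v, h2⟩
    · rw [← h2, inv_smul_smul]
    · exfalso
      rw [h2] at h1
      exact hab (Tz_fix_affine hF h1)

/-- `2`-elements fixing `∞` lie in `Q` -/
theorem mem_Qz_of_fix (y : Cfsg.Sz F m) (hy : y • (infO : Cfsg.suzukiOvoid F m) = infO)
    (h : orderOf y = 2 ∨ orderOf y = 4) : ∃ a b : F, y = Tz hF a b := by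
  obtain ⟨g, a, b, hab, e⟩ := exists_conj_Tz_of_two_elt hF hm y h
  have h1 : Tz hF a b • (g • (infO : Cfsg.suzukiOvoid F m)) = g • infO := by
    rw [← e, mul_smul, mul_smul, inv_smul_smul, hy]
  have hg : g • (infO : Cfsg.suzukiOvoid F m) = infO := by
    rcases ovoid_cases (g • (infO : Cfsg.suzukiOvoid F m)) with h2 | ⟨u, v, h2⟩
    · exact h2
    · exfalso
      rw [h2] at h1
      exact hab (Tz_fix_affine hF h1)
  have hg' : g⁻¹ • (infO : Cfsg.suzukiOvoid F m) = infO := by rw [inv_smul_eq_iff, hg]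
  obtain ⟨a', b', h3⟩ := conj_mem_Qz hF hm g⁻¹ hg' a b
  refine ⟨a', b', ?_⟩
  rw [← h3, ← e]
  group

theorem card_ne_zero : Nat.card {c : F // c ≠ 0} = 2 ^ (2 * m + 1) - 1 := by
  rw [← Nat.card_congr (unitsEquivNeZero (G₀ := F))]
  rw [Nat.card_units, Nat.card_eq_fintype_card, hF]

theorem card_invol_fix_inf :
    Nat.card {z : Cfsg.Sz F m // orderOf z = 2 ∧ z • (infO : Cfsg.suzukiOvoid F m) = infO} =
      2 ^ (2 * m + 1) - 1 := by
  rw [← card_ne_zero hF hm]
  symm
  apply Nat.card_congr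
  refine Equiv.ofBijective (fun c => ⟨Tz hF 0 c.1, orderOf_Tz_central hF c.2, Tz_smul_infO hF 0 c.1⟩)
    ⟨?_, ?_⟩
  · intro c c' h
    apply Subtype.ext
    exact (Tz_injective hF (congrArg Subtype.val h)).2
  · rintro ⟨z, hz2, hzf⟩
    obtain ⟨a, b, rfl⟩ := mem_Qz_of_fix hF hm z hzf (Or.inl hz2)
    have ha : a = 0 := by
      by_contra ha
      rw [orderOf_Tz_four hF ha] at hz2
      omega
    subst ha
    have hb : b ≠ 0 := by
      rintro rfl
      rw [Tz_one, orderOf_one] at hz2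
      omega
    exact ⟨⟨b, hb⟩, rfl⟩

theorem card_four_fix_inf :
    Nat.card {z : Cfsg.Sz F m // orderOf z = 4 ∧ z • (infO : Cfsg.suzukiOvoid F m) = infO} =
      (2 ^ (2 * m + 1) - 1) * 2 ^ (2 * m + 1) := by
  have : Nat.card ({c : F // c ≠ 0} × F) = (2 ^ (2 * m + 1) - 1) * 2 ^ (2 * m + 1) := by
    rw [Nat.card_prod, card_ne_zero hF hm, Nat.card_eq_fintype_card, hF]
  rw [← this]
  symm
  apply Nat.card_congr
  refine Equiv.ofBijective
    (fun p => ⟨Tz hF p.1.1 p.2, orderOf_Tz_four hF p.1.2, Tz_smul_infO hF p.1.1 p.2⟩) ⟨?_, ?_⟩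
  · rintro ⟨c, d⟩ ⟨c', d'⟩ h
    obtain ⟨h1, h2⟩ := Tz_injective hF (congrArg Subtype.val h)
    exact Prod.ext (Subtype.ext h1) h2
  · rintro ⟨z, hz4, hzf⟩
    obtain ⟨a, b, rfl⟩ := mem_Qz_of_fix hF hm z hzf (Or.inr hz4)
    have ha : a ≠ 0 := by
      rintro rfl
      by_cases hb : b = 0
      · rw [hb, Tz_one, orderOf_one] at hz4
        omega
      · rw [orderOf_Tz_central hF hb] at hz4
        omega
    exact ⟨(⟨a, ha⟩, b), rfl⟩

/-- transport of fixed-point counts along conjugation -/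
theorem card_fix_conj (n : ℕ) (ω : Cfsg.suzukiOvoid F m) (h : Cfsg.Sz F m) :
    Nat.card {z : Cfsg.Sz F m // orderOf z = n ∧ z • (h • ω) = h • ω} =
      Nat.card {z : Cfsg.Sz F m // orderOf z = n ∧ z • ω = ω} := by
  refine Nat.card_congr
    { toFun := fun z => ⟨h⁻¹ * z.1 * h, by
        constructor
        · have : orderOf (h⁻¹ * z.1 * h⁻¹⁻¹) = orderOf z.1 :=
            MulEquiv.orderOf_eq (MulAut.conj h⁻¹) z.1
          rw [inv_inv] at this
          rw [this]; exact z.2.1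
        · rw [mul_smul, mul_smul, z.2.2, inv_smul_smul]⟩
      invFun := fun z => ⟨h * z.1 * h⁻¹, by
        constructor
        · have : orderOf (h * z.1 * h⁻¹) = orderOf z.1 := MulEquiv.orderOf_eq (MulAut.conj h) z.1
          rw [this]; exact z.2.1
        · rw [mul_smul, mul_smul, inv_smul_smul, z.2.2]⟩
      left_inv := by
        intro z
        apply Subtype.ext
        show h * (h⁻¹ * z.1 * h) * h⁻¹ = z.1
        group
      right_inv := by
        intro z
        apply Subtype.ext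
        show h⁻¹ * (h * z.1 * h⁻¹) * h = z.1
        group }

theorem card_order_fix (n : ℕ) (ω : Cfsg.suzukiOvoid F m) :
    Nat.card {z : Cfsg.Sz F m // orderOf z = n ∧ z • ω = ω} =
      Nat.card {z : Cfsg.Sz F m // orderOf z = n ∧ z • (infO : Cfsg.suzukiOvoid F m) = infO} := by
  obtain ⟨h, hh⟩ := SzTor.exists_to_inf hF ω
  rw [← hh, card_fix_conj hF hm]

theorem card_ovoid' : Nat.card (Cfsg.suzukiOvoid F m) = (2 ^ (2 * m + 1)) ^ 2 + 1 := by
  rw [card_ovoid, hF]

/-- the number of involutions -/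
theorem card_invol :
    Nat.card {z : Cfsg.Sz F m // orderOf z = 2} =
      ((2 ^ (2 * m + 1)) ^ 2 + 1) * (2 ^ (2 * m + 1) - 1) := by
  have := double_count (α := Cfsg.Sz F m) (β := Cfsg.suzukiOvoid F m) (fun z => orderOf z = 2)
    (fun _ => True) (fun z ω => z • ω = ω) 1 (2 ^ (2 * m + 1) - 1) (by
      intro z hz
      obtain ⟨ω₀, h1, h2⟩ := fix_unique_two_elt hF hm z (Or.inl hz)
      rw [Nat.card_eq_one_iff_unique]
      exact ⟨⟨fun a b => Subtype.ext ((h2 _ a.2.2).trans (h2 _ b.2.2).symm)⟩, ⟨⟨ω₀, trivial, h1⟩⟩⟩) (by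
      intro ω _
      rw [card_order_fix hF hm 2 ω, card_invol_fix_inf hF hm])
  rw [mul_one] at this
  rw [this]
  congr 1
  rw [← card_ovoid' hF hm]
  exact Nat.card_congr (Equiv.subtypeUnivEquiv (fun _ => trivial))

/-- the number of elements of order four -/
theorem card_four :
    Nat.card {z : Cfsg.Sz F m // orderOf z = 4} =
      ((2 ^ (2 * m + 1)) ^ 2 + 1) * ((2 ^ (2 * m + 1) - 1) * 2 ^ (2 * m + 1)) := by
  have := double_count (α := Cfsg.Sz F m) (β := Cfsg.suzukiOvoid F m) (fun z => orderOf z = 4)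
    (fun _ => True) (fun z ω => z • ω = ω) 1 ((2 ^ (2 * m + 1) - 1) * 2 ^ (2 * m + 1)) (by
      intro z hz
      obtain ⟨ω₀, h1, h2⟩ := fix_unique_two_elt hF hm z (Or.inr hz)
      rw [Nat.card_eq_one_iff_unique]
      exact ⟨⟨fun a b => Subtype.ext ((h2 _ a.2.2).trans (h2 _ b.2.2).symm)⟩, ⟨⟨ω₀, trivial, h1⟩⟩⟩) (by
      intro ω _
      rw [card_order_fix hF hm 4 ω, card_four_fix_inf hF hm])
  rw [mul_one] at this
  rw [this]
  congr 1
  rw [← card_ovoid' hF hm]
  exact Nat.card_congr (Equiv.subtypeUnivEquiv (fun _ => trivial))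

end

end Cfsg.Agent.Helper11.SzSol
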