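import Mathlib
import Cfsg.Agent.Helper11.SzSolE

/-! Solubilizers in the Suzuki groups, part F: how many tori does an element of order `2` or `4`
normalise. -/

set_option autoImplicit false
set_option linter.unusedSectionVars false
set_option linter.unusedVariables false

namespace Cfsg.Agent.Helper11.SzSol

open Matrix Cfsg.Agent.Helper2.SzO Cfsg.Agent.Helper11.SzAut Cfsg.Agent.Helper11.SzCN
  Cfsg.Agent.Helper11.SCTI Cfsg.Agent.Helper11.SzTor Cfsg.Agent.Helper11.SzPart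
  Cfsg.Agent.Helper11.SzTI Cfsg.Agent.Helper11.SzMax Cfsg.Agent.Helper11.SzSg

variable {F : Type*} [Field F] [Fintype F] {m : ℕ}

/-- `y` normalises the centraliser of `t` -/
def NC (y t : Cfsg.Sz F m) : Prop :=
  y ∈ Subgroup.normalizer
    ((Subgroup.centralizer ({t} : Set (Cfsg.Sz F m)) : Subgroup (Cfsg.Sz F m)) : Set (Cfsg.Sz F m))

theorem NC_conj (g y t : Cfsg.Sz F m) : NC (g * y * g⁻¹) (g * t * g⁻¹) ↔ NC y t := by
  unfold NC
  rw [centralizer_conj, mem_normalizer_cj]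
  have e : g⁻¹ * (g * y * g⁻¹) * g = y := by group
  rw [e]

theorem NC_inv (y t : Cfsg.Sz F m) : NC y⁻¹ t ↔ NC y t := by
  unfold NC
  exact inv_mem_iff

theorem mem_cov_conj (T₀ : Subgroup (Cfsg.Sz F m)) (g t : Cfsg.Sz F m) :
    g * t * g⁻¹ ∈ cov T₀ ↔ t ∈ cov T₀ := by
  constructor
  · rintro ⟨h1, h, hh⟩
    refine ⟨?_, h * g, ?_⟩
    · rintro rfl
      apply h1
      group
    · have e : h * g * t * (h * g)⁻¹ = h * (g * t * g⁻¹) * h⁻¹ := by group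
      rw [e]; exact hh
  · rintro ⟨h1, h, hh⟩
    refine ⟨?_, h * g⁻¹, ?_⟩
    · intro h2
      apply h1
      have := congrArg (fun z => g⁻¹ * z * g) h2
      simpa [mul_assoc] using this
    · have e : h * g⁻¹ * (g * t * g⁻¹) * (h * g⁻¹)⁻¹ = h * t * h⁻¹ := by group
      rw [e]; exact hh

/-- the number of `t` in `cov T₀` whose centraliser is normalised by `y` -/
noncomputable def nu (T₀ : Subgroup (Cfsg.Sz F m)) (y : Cfsg.Sz F m) : ℕ :=
  Nat.card {t : Cfsg.Sz F m // t ∈ cov T₀ ∧ NC y t}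

theorem nu_conj (T₀ : Subgroup (Cfsg.Sz F m)) (g y : Cfsg.Sz F m) :
    nu T₀ (g * y * g⁻¹) = nu T₀ y := by
  unfold nu
  refine Nat.card_congr
    { toFun := fun t => ⟨g⁻¹ * t.1 * g, by
        have e : t.1 = g * (g⁻¹ * t.1 * g) * g⁻¹ := by group
        constructor
        · have := t.2.1
          rw [e, mem_cov_conj] at this
          exact this
        · have := t.2.2
          rw [e, NC_conj] at this
          exact this⟩
      invFun := fun t => ⟨g * t.1 * g⁻¹, (mem_cov_conj T₀ g t.1).mpr t.2.1,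
        (NC_conj g y t.1).mpr t.2.2⟩
      left_inv := by
        intro t
        apply Subtype.ext
        show g * (g⁻¹ * t.1 * g) * g⁻¹ = t.1
        group
      right_inv := by
        intro t
        apply Subtype.ext
        show g⁻¹ * (g * t.1 * g⁻¹) * g = t.1
        group }

theorem nu_inv (T₀ : Subgroup (Cfsg.Sz F m)) (y : Cfsg.Sz F m) : nu T₀ y⁻¹ = nu T₀ y := by
  unfold nu
  exact Nat.card_congr (Equiv.subtypeEquivRight (fun t => by rw [NC_inv]))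

section

variable (hF : Fintype.card F = 2 ^ (2 * m + 1)) (hm : 1 ≤ m)

include hF hm

omit hF hm in
/-- the centraliser of an element of `cov T₀` is a conjugate of `T₀` -/
theorem centralizer_of_mem_cov {T₀ : Subgroup (Cfsg.Sz F m)} (hT₀ : IsTor T₀) {t : Cfsg.Sz F m}
    (ht : t ∈ cov T₀) :
    ∃ h : Cfsg.Sz F m, Subgroup.centralizer ({t} : Set (Cfsg.Sz F m)) = cj h T₀ := by
  obtain ⟨ht1, h, hh⟩ := ht
  have hne : h * t * h⁻¹ ≠ 1 := by
    intro h1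
    apply ht1
    have := congrArg (fun z => h⁻¹ * z * h) h1
    simpa [mul_assoc] using this
  have h1 := hT₀.2.1 _ hh hne
  rw [centralizer_conj] at h1
  refine ⟨h⁻¹, ?_⟩
  rw [← h1, cj_cj, inv_mul_cancel, cj_one]

/-- any two elements of order four are conjugate up to inversion -/
theorem conj_or_inv_of_order_four (y y' : Cfsg.Sz F m) (hy : orderOf y = 4) (hy' : orderOf y' = 4) :
    ∃ g : Cfsg.Sz F m, g * y * g⁻¹ = y' ∨ g * y * g⁻¹ = y'⁻¹ := by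
  have h2 := two_eq_zero hF
  obtain ⟨g, a, b, ha, e⟩ := exists_conj_of_order_four hF hm y hy
  obtain ⟨g', a', b', ha', e'⟩ := exists_conj_of_order_four hF hm y' hy'
  -- adjust `a`
  set k : Fˣ := Units.mk0 (a' / a) (div_ne_zero ha' ha) with hk
  have e1 : Dz hF k * Tz hF a b * (Dz hF k)⁻¹ = Tz hF a' ((k : F) ^ (sg m + 1) * b) := by
    rw [Dz_mul_Tz]
    congr 1
    rw [hk, Units.val_mk0]
    field_simp
  set b₁ := (k : F) ^ (sg m + 1) * b with hb₁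
  -- conjugation by translations
  have hconj : ∀ s : F, Tz hF (a' * s) 0 * Tz hF a' b₁ * (Tz hF (a' * s) 0)⁻¹ =
      Tz hF a' (b₁ + a' ^ (sg m + 1) * (s ^ sg m + s)) := by
    intro s
    rw [Tz_inv, Tz_mul, Tz_mul]
    congr 1
    · linear_combination (a' * s) * h2
    · rw [add_pow_sg hF, mul_pow]
      linear_combination (a' ^ sg m * s ^ sg m * a' * s) * h2
  have ha'ne : a' ^ (sg m + 1) ≠ 0 := pow_ne_zero _ ha'
  obtain ⟨s, hs⟩ := Cfsg.Agent.Helper2.SzO.exists_phi hF ((b' + b₁) / a' ^ (sg m + 1))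
  rw [phi_apply] at hs
  have hy'e : y' = g'⁻¹ * Tz hF a' b' * g' := by rw [← e']; group
  rcases hs with hs | hs
  · refine ⟨g'⁻¹ * Tz hF (a' * s) 0 * Dz hF k * g, Or.inl ?_⟩
    have hb' : b' = b₁ + a' ^ (sg m + 1) * (s ^ sg m + s) := by
      rw [← hs]
      field_simp
      linear_combination (-b₁) * h2
    have e3 : g'⁻¹ * Tz hF (a' * s) 0 * Dz hF k * g * y * (g'⁻¹ * Tz hF (a' * s) 0 * Dz hF k * g)⁻¹ =
        g'⁻¹ * (Tz hF (a' * s) 0 * (Dz hF k * (g * y * g⁻¹) * (Dz hF k)⁻¹) *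
          (Tz hF (a' * s) 0)⁻¹) * g' := by group
    rw [e3, e, e1, hconj, ← hb', hy'e]
  · refine ⟨g'⁻¹ * Tz hF (a' * s) 0 * Dz hF k * g, Or.inr ?_⟩
    have hb' : b' + a' ^ sg m * a' = b₁ + a' ^ (sg m + 1) * (s ^ sg m + s) := by
      have h3 : b' + b₁ = a' ^ (sg m + 1) * (1 + (s ^ sg m + s)) := by
        rw [← hs]
        field_simp
      rw [pow_succ] at h3 ⊢
      linear_combination h3 + (a' ^ sg m * a' - b₁) * h2
    have e3 : g'⁻¹ * Tz hF (a' * s) 0 * Dz hF k * g * y * (g'⁻¹ * Tz hF (a' * s) 0 * Dz hF k * g)⁻¹ =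
        g'⁻¹ * (Tz hF (a' * s) 0 * (Dz hF k * (g * y * g⁻¹) * (Dz hF k)⁻¹) *
          (Tz hF (a' * s) 0)⁻¹) * g' := by group
    rw [e3, e, e1, hconj, ← hb', hy'e, ← Tz_inv]
    group

theorem card_invol_NC {T₀ : Subgroup (Cfsg.Sz F m)} (hT₀ : IsTor T₀) {t : Cfsg.Sz F m}
    (ht : t ∈ cov T₀) :
    Nat.card {z : Cfsg.Sz F m // orderOf z = 2 ∧ NC z t} = Nat.card T₀ := by
  obtain ⟨h, hh⟩ := centralizer_of_mem_cov hT₀ ht
  have hT := hT₀.conj h
  rw [← card_cj h T₀, ← hT.card_invol hF hm]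
  apply Nat.card_congr
  apply Equiv.subtypeEquivRight
  intro z
  unfold NC
  rw [hh, and_comm]

theorem card_four_NC {T₀ : Subgroup (Cfsg.Sz F m)} (hT₀ : IsTor T₀) {t : Cfsg.Sz F m}
    (ht : t ∈ cov T₀) :
    Nat.card {z : Cfsg.Sz F m // orderOf z = 4 ∧ NC z t} = 2 * Nat.card T₀ := by
  obtain ⟨h, hh⟩ := centralizer_of_mem_cov hT₀ ht
  have hT := hT₀.conj h
  rw [← card_cj h T₀, ← hT.card_order_four hF hm]
  apply Nat.card_congr
  apply Equiv.subtypeEquivRight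
  intro z
  unfold NC
  rw [hh, and_comm]

theorem dc_two {T₀ : Subgroup (Cfsg.Sz F m)} (hT₀ : IsTor T₀) (x : Cfsg.Sz F m)
    (hx : orderOf x = 2) :
    Nat.card {z : Cfsg.Sz F m // orderOf z = 2} * nu T₀ x = Nat.card (cov T₀) * Nat.card T₀ := by
  apply double_count (fun z : Cfsg.Sz F m => orderOf z = 2) (fun t : Cfsg.Sz F m => t ∈ cov T₀)
    (fun z t => NC z t)
  · intro z hz
    obtain ⟨g₁, h1⟩ := exists_conj_of_order_two hF hm z hz
    obtain ⟨g₂, h2⟩ := exists_conj_of_order_two hF hm x hx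
    have : z = (g₁⁻¹ * g₂) * x * (g₁⁻¹ * g₂)⁻¹ := by
      have e : (g₁⁻¹ * g₂) * x * (g₁⁻¹ * g₂)⁻¹ = g₁⁻¹ * (g₂ * x * g₂⁻¹) * g₁ := by group
      rw [e, h2, ← h1]
      group
    rw [this]
    exact nu_conj T₀ _ x
  · intro t ht
    exact card_invol_NC hF hm hT₀ ht

theorem dc_four {T₀ : Subgroup (Cfsg.Sz F m)} (hT₀ : IsTor T₀) (x : Cfsg.Sz F m)
    (hx : orderOf x = 4) :
    Nat.card {z : Cfsg.Sz F m // orderOf z = 4} * nu T₀ x =
      Nat.card (cov T₀) * (2 * Nat.card T₀) := by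
  apply double_count (fun z : Cfsg.Sz F m => orderOf z = 4) (fun t : Cfsg.Sz F m => t ∈ cov T₀)
    (fun z t => NC z t)
  · intro z hz
    obtain ⟨g, hg | hg⟩ := conj_or_inv_of_order_four hF hm x z hx hz
    · rw [← hg]
      exact nu_conj T₀ g x
    · have : z = (g * x * g⁻¹)⁻¹ := by rw [hg, inv_inv]
      rw [this]
      show nu T₀ (g * x * g⁻¹)⁻¹ = nu T₀ x
      rw [nu_inv, nu_conj]
  · intro t ht
    exact card_four_NC hF hm hT₀ ht

/-- the two classes of tori, and the fixed-point-free elements -/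
theorem exists_tori : ∃ T₁ T₂ : Subgroup (Cfsg.Sz F m), IsTor T₁ ∧ IsTor T₂ ∧
    Nat.card T₁ = 2 ^ (2 * m + 1) + 2 ^ (m + 1) + 1 ∧
    Nat.card T₂ = 2 ^ (2 * m + 1) - 2 ^ (m + 1) + 1 ∧
    (∀ t : Cfsg.Sz F m, NoFix t ↔ t ∈ cov T₁ ∨ t ∈ cov T₂) ∧
    (∀ t : Cfsg.Sz F m, t ∈ cov T₁ → t ∉ cov T₂) := by
  obtain ⟨T₁, T₂, hT₁, hT₂, e1, e2, n1, n2, hall⟩ := SzTor.main hF hm
  refine ⟨T₁, T₂, hT₁, hT₂, e1, e2, ?_, ?_⟩
  · intro t
    constructor
    · intro ht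
      have hT := isTor_centralizer hF hm ht
      have hmem := mem_cov_centralizer ht
      rcases hall _ hT with ⟨h, hh⟩ | ⟨h, hh⟩
      · left
        rw [hh, cov_cj] at hmem
        exact hmem
      · right
        rw [hh, cov_cj] at hmem
        exact hmem
    · rintro (h | h)
      · exact cov_subset hT₁ h
      · exact cov_subset hT₂ h
  · intro t h1 h2
    obtain ⟨h, hh⟩ := conj_of_cov_inter hT₁ hT₂ h1 h2
    have := congrArg (fun U : Subgroup (Cfsg.Sz F m) => Nat.card U) hh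
    simp only [card_cj] at this
    rw [e1, e2] at this
    have h3 := s_le_q (m := m)
    have h4 : 0 < 2 ^ (m + 1) := by positivity
    omega

/-- the number of fixed-point-free `t` with `C(t)` normalised by `x` -/
theorem card_noFix_NC (x : Cfsg.Sz F m) (T₁ T₂ : Subgroup (Cfsg.Sz F m))
    (h1 : ∀ t : Cfsg.Sz F m, NoFix t ↔ t ∈ cov T₁ ∨ t ∈ cov T₂)
    (h2 : ∀ t : Cfsg.Sz F m, t ∈ cov T₁ → t ∉ cov T₂) :
    Nat.card {t : Cfsg.Sz F m // NoFix t ∧ NC x t} = nu T₁ x + nu T₂ x := by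
  unfold nu
  have hfin : ∀ s : Set (Cfsg.Sz F m), s.Finite := fun s => Set.toFinite s
  have e : {t : Cfsg.Sz F m | NoFix t ∧ NC x t} =
      {t : Cfsg.Sz F m | t ∈ cov T₁ ∧ NC x t} ∪ {t : Cfsg.Sz F m | t ∈ cov T₂ ∧ NC x t} := by
    ext t
    simp only [Set.mem_setOf_eq, Set.mem_union, h1 t]
    tauto
  have hd : Disjoint {t : Cfsg.Sz F m | t ∈ cov T₁ ∧ NC x t}
      {t : Cfsg.Sz F m | t ∈ cov T₂ ∧ NC x t} := by
    rw [Set.disjoint_left]
    rintro t ⟨ht1, -⟩ ⟨ht2, -⟩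
    exact h2 t ht1 ht2
  have := Set.ncard_union_eq hd (hfin _) (hfin _)
  rw [← e] at this
  rw [← Nat.card_coe_set_eq, ← Nat.card_coe_set_eq, ← Nat.card_coe_set_eq] at this
  exact this

theorem two_mul_card_noFix_NC_of_two (x : Cfsg.Sz F m) (hx : orderOf x = 2) :
    2 * Nat.card {t : Cfsg.Sz F m // NoFix t ∧ NC x t} = (2 ^ (2 * m + 1)) ^ 3 := by
  obtain ⟨T₁, T₂, hT₁, hT₂, e1, e2, h1, h2⟩ := exists_tori hF hm
  rw [card_noFix_NC hF hm x T₁ T₂ h1 h2]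
  have d1 := dc_two hF hm hT₁ x hx
  have d2 := dc_two hF hm hT₂ x hx
  have c1 := card_cov hT₁.2.1
  have c2 := card_cov hT₂.2.1
  rw [hT₁.card_normalizer hF hm] at c1
  rw [hT₂.card_normalizer hF hm] at c2
  rw [card_invol hF hm] at d1 d2
  rw [card_Sz hF hm] at c1 c2
  rw [e1] at c1 d1
  rw [e2] at c2 d2
  have hr := s_le_q (m := m)
  have hr2 := s_sq (m := m)
  set Q := 2 ^ (2 * m + 1) with hQ
  set r := 2 ^ (m + 1) with hr'
  set n₁ := nu T₁ x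
  set n₂ := nu T₂ x
  set k₁ := Nat.card (cov T₁)
  set k₂ := Nat.card (cov T₂)
  have hQ1 : 1 ≤ Q := Nat.one_le_two_pow
  obtain ⟨P, hP⟩ : ∃ P, Q = P + 1 := ⟨Q - 1, by omega⟩
  obtain ⟨s, hs⟩ : ∃ s, Q = r + s := ⟨Q - r, by omega⟩
  have e3 : Q - 1 = P := by omega
  have e4 : Q - r + 1 = s + 1 := by omega
  have e5 : Q + r + 1 - 1 = Q + r := by omega
  have e6 : s + 1 - 1 = s := by omega
  rw [e3] at d1 d2 c1 c2
  rw [e4] at d2 c2
  rw [e5] at c1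
  rw [e6] at c2
  have hI : 0 < (Q ^ 2 + 1) * P := by
    have : 0 < P := by
      have : 2 ≤ Q := two_le_q
      omega
    positivity
  have key : ((Q ^ 2 + 1) * P) * (2 * (n₁ + n₂)) = ((Q ^ 2 + 1) * P) * Q ^ 3 := by
    have a1 : 4 * ((Q ^ 2 + 1) * P * n₁) = Q ^ 2 * (Q ^ 2 + 1) * P * (Q + r) := by
      rw [d1, ← c1]; ring
    have a2 : 4 * ((Q ^ 2 + 1) * P * n₂) = Q ^ 2 * (Q ^ 2 + 1) * P * s := by
      rw [d2, ← c2]; ring
    have a3 : Q + r + s = 2 * Q := by omega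
    have : 2 * (((Q ^ 2 + 1) * P) * (2 * (n₁ + n₂))) = 2 * (((Q ^ 2 + 1) * P) * Q ^ 3) := by
      calc 2 * (((Q ^ 2 + 1) * P) * (2 * (n₁ + n₂)))
          = 4 * ((Q ^ 2 + 1) * P * n₁) + 4 * ((Q ^ 2 + 1) * P * n₂) := by ring
        _ = Q ^ 2 * (Q ^ 2 + 1) * P * (Q + r + s) := by rw [a1, a2]; ring
        _ = 2 * (((Q ^ 2 + 1) * P) * Q ^ 3) := by rw [a3]; ring
    omega
  exact Nat.eq_of_mul_eq_mul_left hI key

theorem card_noFix_NC_of_four (x : Cfsg.Sz F m) (hx : orderOf x = 4) :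
    Nat.card {t : Cfsg.Sz F m // NoFix t ∧ NC x t} = (2 ^ (2 * m + 1)) ^ 2 := by
  obtain ⟨T₁, T₂, hT₁, hT₂, e1, e2, h1, h2⟩ := exists_tori hF hm
  rw [card_noFix_NC hF hm x T₁ T₂ h1 h2]
  have d1 := dc_four hF hm hT₁ x hx
  have d2 := dc_four hF hm hT₂ x hx
  have c1 := card_cov hT₁.2.1
  have c2 := card_cov hT₂.2.1
  rw [hT₁.card_normalizer hF hm] at c1
  rw [hT₂.card_normalizer hF hm] at c2
  rw [card_four hF hm] at d1 d2
  rw [card_Sz hF hm] at c1 c2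
  rw [e1] at c1 d1
  rw [e2] at c2 d2
  have hr := s_le_q (m := m)
  set Q := 2 ^ (2 * m + 1) with hQ
  set r := 2 ^ (m + 1) with hr'
  set n₁ := nu T₁ x
  set n₂ := nu T₂ x
  set k₁ := Nat.card (cov T₁)
  set k₂ := Nat.card (cov T₂)
  have hQ1 : 1 ≤ Q := Nat.one_le_two_pow
  obtain ⟨P, hP⟩ : ∃ P, Q = P + 1 := ⟨Q - 1, by omega⟩
  obtain ⟨s, hs⟩ : ∃ s, Q = r + s := ⟨Q - r, by omega⟩
  have e3 : Q - 1 = P := by omega
  have e4 : Q - r + 1 = s + 1 := by omega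
  have e5 : Q + r + 1 - 1 = Q + r := by omega
  have e6 : s + 1 - 1 = s := by omega
  rw [e3] at d1 d2 c1 c2
  rw [e4] at d2 c2
  rw [e5] at c1
  rw [e6] at c2
  have hI : 0 < (Q ^ 2 + 1) * (P * Q) := by
    have : 0 < P := by
      have : 2 ≤ Q := two_le_q
      omega
    positivity
  have key : ((Q ^ 2 + 1) * (P * Q)) * (n₁ + n₂) = ((Q ^ 2 + 1) * (P * Q)) * Q ^ 2 := by
    have a1 : 2 * ((Q ^ 2 + 1) * (P * Q) * n₁) = Q ^ 2 * (Q ^ 2 + 1) * P * (Q + r) := by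
      rw [d1, ← c1]; ring
    have a2 : 2 * ((Q ^ 2 + 1) * (P * Q) * n₂) = Q ^ 2 * (Q ^ 2 + 1) * P * s := by
      rw [d2, ← c2]; ring
    have a3 : Q + r + s = 2 * Q := by omega
    have : 2 * (((Q ^ 2 + 1) * (P * Q)) * (n₁ + n₂)) = 2 * (((Q ^ 2 + 1) * (P * Q)) * Q ^ 2) := by
      calc 2 * (((Q ^ 2 + 1) * (P * Q)) * (n₁ + n₂))
          = 2 * ((Q ^ 2 + 1) * (P * Q) * n₁) + 2 * ((Q ^ 2 + 1) * (P * Q) * n₂) := by ring
        _ = Q ^ 2 * (Q ^ 2 + 1) * P * (Q + r + s) := by rw [a1, a2]; ring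
        _ = 2 * (((Q ^ 2 + 1) * (P * Q)) * Q ^ 2) := by rw [a3]; ring
    omega
  exact Nat.eq_of_mul_eq_mul_left hI key

end

end Cfsg.Agent.Helper11.SzSol
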