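import Mathlib
import Cfsg.Agent.Helper11.SzSolF

/-! Solubilizers in the Suzuki groups, part G: the solubilizer of an element of order four. -/

set_option autoImplicit false
set_option linter.unusedSectionVars false
set_option linter.unusedVariables false

namespace Cfsg.Agent.Helper11.SzSol

open Matrix Cfsg.Agent.Helper2.SzO Cfsg.Agent.Helper11.SzAut Cfsg.Agent.Helper11.SzCN
  Cfsg.Agent.Helper11.SCTI Cfsg.Agent.Helper11.SzTor Cfsg.Agent.Helper11.SzPart
  Cfsg.Agent.Helper11.SzTI Cfsg.Agent.Helper11.SzMax Cfsg.Agent.Helper11.SzSg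

variable {F : Type*} [Field F] [Fintype F] {m : ℕ}

section

variable (hF : Fintype.card F = 2 ^ (2 * m + 1)) (hm : 1 ≤ m)

include hF hm

variable {T : Subgroup (Cfsg.Sz F m)}

/-- uniqueness of the decomposition of the normaliser of a torus -/
theorem _root_.Cfsg.Agent.Helper11.SzTor.IsTor.decomp_inj (hT : IsTor T) {c : Cfsg.Sz F m}
    (hc4 : orderOf c = 4) {t t' : Cfsg.Sz F m} (ht : t ∈ T) (ht' : t' ∈ T) {i j : ℕ}
    (hi : i < 4) (hj : j < 4) (h' : t * c ^ i = t' * c ^ j) : t = t' ∧ i = j := by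
  have hc4' : c ^ 4 = 1 := by
    have := pow_orderOf_eq_one c
    rwa [hc4] at this
  set u := t'⁻¹ * t with hu
  have huT : u ∈ T := T.mul_mem (T.inv_mem ht') ht
  have hue : u = c ^ j * (c ^ i)⁻¹ := by
    rw [hu]
    have := congrArg (fun z => t'⁻¹ * z * (c ^ i)⁻¹) h'
    simp only [← mul_assoc, mul_inv_cancel_right, inv_mul_cancel, one_mul] at this
    exact this
  have hu4 : u ^ 4 = 1 := by
    rw [hue]
    have hcomm : Commute (c ^ j) ((c ^ i)⁻¹) := ((Commute.refl c).pow_pow j i).inv_right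
    rw [hcomm.mul_pow, inv_pow, ← pow_mul, ← pow_mul, mul_comm j 4, mul_comm i 4,
      pow_mul, pow_mul, hc4', one_pow, one_pow, inv_one, mul_one]
  have hu1 : u = 1 := by
    have hodd := hT.odd_orderOf hF hm huT
    have hd : orderOf u ∣ 4 := orderOf_dvd_of_pow_eq_one hu4
    have : orderOf u = 1 := by
      have hd' : orderOf u ∣ 2 ^ 2 := by
        norm_num
        exact hd
      obtain ⟨k, -, hk⟩ := (Nat.dvd_prime_pow Nat.prime_two).mp hd'
      rcases k with _ | k
      · simpa using hk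
      · exfalso
        rw [hk] at hodd
        exact (Nat.not_even_iff_odd.mpr hodd) (Nat.even_pow.mpr ⟨even_two, by omega⟩)
    exact orderOf_eq_one_iff.mp this
  have htt : t = t' := (inv_mul_eq_one.mp hu1).symm
  have hcc : c ^ i = c ^ j := by
    rw [htt] at h'
    exact mul_left_cancel h'
  have hij : i = j :=
    pow_injOn_Iio_orderOf (x := c) (by rw [hc4]; exact hi) (by rw [hc4]; exact hj) hcc
  exact ⟨htt, hij⟩

/-- elements normalising the split torus fix or swap its two fixed points -/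
theorem sq_mem_Dsub {n : Cfsg.Sz F m}
    (hn : n ∈ Subgroup.normalizer ((Dsub (m := m) hF : Subgroup (Cfsg.Sz F m)) :
      Set (Cfsg.Sz F m))) : n * n ∈ Dsub (m := m) hF := by
  obtain ⟨k, hk⟩ := exists_units_ne_one hF hm
  have hk1 : Dz hF k ≠ 1 := by
    intro h
    rw [← Dz_one hF] at h
    exact hk (Dz_injective hF h)
  obtain ⟨k', hk'⟩ := (Subgroup.mem_normalizer_iff.mp hn _).mp (Dz_mem_Dsub hF k)
  have hk'e : Dz hF k' = n * Dz hF k * n⁻¹ := hk'
  have hk'1 : k' ≠ 1 := by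
    rintro rfl
    rw [Dz_one] at hk'e
    apply hk1
    have := congrArg (fun z => n⁻¹ * z * n) hk'e
    simp only [mul_one, inv_mul_cancel] at this
    rw [this]
    group
  have hfix : ∀ ω : Cfsg.suzukiOvoid F m, Dz hF k • ω = ω → Dz hF k' • (n • ω) = n • ω := by
    intro ω hω
    rw [hk'e, mul_smul, mul_smul, inv_smul_smul, hω]
  have h1 := Dz_fix_iff hF hk'1 _ (hfix infO (Dz_smul_infO hF k))
  have h2 := Dz_fix_iff hF hk'1 _ (hfix (ptO 0 0) (Dz_smul_zero hF k))
  have hne : n • (infO : Cfsg.suzukiOvoid F m) ≠ n • ptO 0 0 := by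
    intro h
    exact infO_ne_ptO _ _ (MulAction.injective n h)
  rcases h1 with h1 | h1
  · rcases h2 with h2 | h2
    · exact absurd (h1.trans h2.symm) hne
    · obtain ⟨l, rfl⟩ := eq_Dz_of_fix hF hm n h1 h2
      rw [Dz_mul']
      exact Dz_mem_Dsub hF _
  · rcases h2 with h2 | h2
    · obtain ⟨l, rfl⟩ := eq_Wz_mul_Dz hF hm n h1 h2
      rw [Wz_Dz_sq]
      exact Subgroup.one_mem _
    · exact absurd (h1.trans h2.symm) hne

/-- no element of order four normalises a conjugate of the split torus -/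
theorem orderOf_ne_four_of_mem_normalizer (g x : Cfsg.Sz F m)
    (hx : x ∈ Subgroup.normalizer ((cj g (Dsub (m := m) hF) : Subgroup (Cfsg.Sz F m)) :
      Set (Cfsg.Sz F m))) : orderOf x ≠ 4 := by
  intro h4
  rw [mem_normalizer_cj] at hx
  have ho : orderOf (g⁻¹ * x * g) = 4 := by
    have : orderOf (g⁻¹ * x * g⁻¹⁻¹) = orderOf x := MulEquiv.orderOf_eq (MulAut.conj g⁻¹) x
    rw [inv_inv] at this
    rw [this, h4]
  set x' := g⁻¹ * x * g with hx'
  obtain ⟨k, hk⟩ := sq_mem_Dsub hF hm hx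
  have hk' : Dz hF k = x' * x' := hk
  have hodd : Odd (orderOf (x' * x')) := by
    rw [← hk']
    exact Odd.of_dvd_nat odd_q_sub_one (orderOf_Dz_dvd hF k)
  have h2 : orderOf (x' * x') = 2 := by
    have hx4 : x' ^ 4 = 1 := by
      have := pow_orderOf_eq_one x'
      rwa [ho] at this
    apply orderOf_eq_prime
    · rw [pow_two]
      have : x' * x' * (x' * x') = x' ^ 4 := by
        simp only [pow_succ, pow_zero, one_mul, mul_assoc]
      rw [this, hx4]
    · intro h1
      have : orderOf x' ∣ 2 := orderOf_dvd_of_pow_eq_one (by rw [pow_two]; exact h1)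
      rw [ho] at this
      omega
  rw [h2] at hodd
  exact absurd hodd (by decide)

theorem ncard_stab (ω : Cfsg.suzukiOvoid F m) :
    {y : Cfsg.Sz F m | y • ω = ω}.ncard = (2 ^ (2 * m + 1)) ^ 2 * (2 ^ (2 * m + 1) - 1) := by
  obtain ⟨h, hh⟩ := SzTor.exists_to_inf hF ω
  rw [← ncard_stab_inf hF hm]
  have : {y : Cfsg.Sz F m | y • (infO : Cfsg.suzukiOvoid F m) = infO} =
      (fun y => h * y * h⁻¹) '' {y : Cfsg.Sz F m | y • ω = ω} := by
    ext y
    constructor
    · intro hy
      have hy' : y • (infO : Cfsg.suzukiOvoid F m) = infO := hy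
      refine ⟨h⁻¹ * y * h, ?_, by group⟩
      show (h⁻¹ * y * h) • ω = ω
      rw [mul_smul, mul_smul, hh, hy', inv_smul_eq_iff, hh]
    · rintro ⟨z, hz, rfl⟩
      have hz' : z • ω = ω := hz
      show (h * z * h⁻¹) • (infO : Cfsg.suzukiOvoid F m) = infO
      rw [mul_smul, mul_smul, ← hh, inv_smul_smul, hz']
  rw [this]
  symm
  apply Set.ncard_image_of_injective
  intro a b hab
  have := congrArg (fun z => h⁻¹ * z * h) hab
  simpa [mul_assoc] using this

omit hF hm in
theorem self_mem_centralizer (t : Cfsg.Sz F m) :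
    t ∈ Subgroup.centralizer ({t} : Set (Cfsg.Sz F m)) := by
  rw [mem_centralizer_singleton]

/-- case 2: the solubilizer of an element of order four -/
theorem card_rel_of_order_four (x : Cfsg.Sz F m) (hx : orderOf x = 4) :
    Nat.card {y : Cfsg.Sz F m // Rel x y} = (2 ^ (2 * m + 1)) ^ 2 * (2 ^ (2 * m + 1) + 3) := by
  obtain ⟨ω₀, hω₀, huniq⟩ := fix_unique_two_elt hF hm x (Or.inr hx)
  have hfin : ∀ s : Set (Cfsg.Sz F m), s.Finite := fun s => Set.toFinite s
  have hxpow : ∀ i : ℕ, x ^ i • ω₀ = ω₀ := by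
    intro i
    induction i with
    | zero => simp
    | succ n ih => rw [pow_succ, mul_smul, hω₀, ih]
  set A := {y : Cfsg.Sz F m | y • ω₀ = ω₀} with hA
  set B := {y : Cfsg.Sz F m | Rel x y ∧ y • ω₀ ≠ ω₀} with hB
  have hcover : {y : Cfsg.Sz F m | Rel x y} = A ∪ B := by
    ext y
    constructor
    · intro hy
      by_cases h : y • ω₀ = ω₀
      · left; exact h
      · right; exact ⟨hy, h⟩
    · rintro (h | h)
      · left; exact ⟨ω₀, hω₀, h⟩
      · exact h.1
  have hdisj : Disjoint A B := by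
    rw [Set.disjoint_left]
    intro y hy hy'
    exact hy'.2 hy
  have hmem : ∀ (t : Cfsg.Sz F m) (i : ℕ), NoFix t → NC x t → t * x ^ i ∈ B := by
    intro t i ht hnc
    constructor
    · right
      refine ⟨_, isCT_of_isTor hF hm (isTor_centralizer hF hm ht), hnc, ?_⟩
      exact Subgroup.mul_mem _ (Subgroup.le_normalizer (self_mem_centralizer t))
        (Subgroup.pow_mem _ hnc i)
    · intro h
      rw [mul_smul, hxpow] at h
      exact ht ω₀ h
  let Φ : {t : Cfsg.Sz F m // NoFix t ∧ NC x t} × Fin 4 → ↥B :=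
    fun p => ⟨p.1.1 * x ^ (p.2 : ℕ), hmem p.1.1 p.2 p.1.2.1 p.1.2.2⟩
  have hΦinj : Function.Injective Φ := by
    rintro ⟨⟨t, ht, hnc⟩, i⟩ ⟨⟨t', ht', hnc'⟩, j⟩ h
    have h' : t * x ^ (i : ℕ) = t' * x ^ (j : ℕ) := congrArg Subtype.val h
    have hT := isTor_centralizer hF hm ht
    have hT' := isTor_centralizer hF hm ht'
    have htT := self_mem_centralizer t
    have ht'N : t' ∈ Subgroup.normalizer
        ((Subgroup.centralizer ({t} : Set (Cfsg.Sz F m)) : Subgroup (Cfsg.Sz F m)) :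
          Set (Cfsg.Sz F m)) := by
      have e : t' = t * x ^ (i : ℕ) * (x ^ (j : ℕ))⁻¹ := by rw [h']; group
      rw [e]
      exact Subgroup.mul_mem _ (Subgroup.mul_mem _ (Subgroup.le_normalizer htT)
        (Subgroup.pow_mem _ hnc _)) (Subgroup.inv_mem _ (Subgroup.pow_mem _ hnc _))
    have ht'odd : Odd (orderOf t') := Odd.of_dvd_nat odd_sq_add_one (orderOf_noFix_dvd hF hm ht')
    have ht'T : t' ∈ Subgroup.centralizer ({t} : Set (Cfsg.Sz F m)) :=
      hT.mem_of_odd hF hm ht'N ht'odd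
    obtain ⟨e1, e2⟩ := hT.decomp_inj hF hm hx htT ht'T i.2 j.2 h'
    subst e1
    have : i = j := Fin.ext e2
    subst this
    rfl
  have hΦsurj : Function.Surjective Φ := by
    rintro ⟨y, hyrel, hyω⟩
    rcases hyrel with ⟨ω, h1, h2⟩ | ⟨U, hU, hxU, hyU⟩
    · exfalso
      rw [huniq ω h1] at h2
      exact hyω h2
    · rcases isCT_cases hF hm hU with ⟨g, rfl⟩ | hT
      · exact absurd hx (orderOf_ne_four_of_mem_normalizer hF hm g x hxU)
      · obtain ⟨t, htU, i, hy⟩ := hT.decomp hF hm hxU hx hyU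
        have ht1 : t ≠ 1 := by
          rintro rfl
          apply hyω
          rw [hy, one_mul, hxpow]
        have hnf : NoFix t := hT.2.2 t htU ht1
        have hC : Subgroup.centralizer ({t} : Set (Cfsg.Sz F m)) = U := hT.2.1 t htU ht1
        have hnc : NC x t := by
          unfold NC
          rw [hC]
          exact hxU
        refine ⟨⟨⟨t, hnf, hnc⟩, i⟩, ?_⟩
        apply Subtype.ext
        exact hy.symm
  have hB' : B.ncard = (2 ^ (2 * m + 1)) ^ 2 * 4 := by
    rw [← Nat.card_coe_set_eq, ← Nat.card_congr (Equiv.ofBijective Φ ⟨hΦinj, hΦsurj⟩),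
      Nat.card_prod, card_noFix_NC_of_four hF hm x hx, Nat.card_eq_fintype_card (α := Fin 4),
      Fintype.card_fin]
  have hA' : A.ncard = (2 ^ (2 * m + 1)) ^ 2 * (2 ^ (2 * m + 1) - 1) := ncard_stab hF hm ω₀
  have e1 : Nat.card {y : Cfsg.Sz F m // Rel x y} = {y : Cfsg.Sz F m | Rel x y}.ncard := by
    rw [← Nat.card_coe_set_eq]
    rfl
  rw [e1, hcover, Set.ncard_union_eq hdisj (hfin _) (hfin _), hA', hB']
  have hQ1 : 1 ≤ 2 ^ (2 * m + 1) := Nat.one_le_two_pow
  obtain ⟨P, hP⟩ : ∃ P, 2 ^ (2 * m + 1) = P + 1 := ⟨2 ^ (2 * m + 1) - 1, by omega⟩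
  rw [hP]
  have : P + 1 - 1 = P := by omega
  rw [this]
  ring

end

end Cfsg.Agent.Helper11.SzSol
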