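import Cfsg.Agent.Helper12.SzTDefs
import Cfsg.Agent.Helper11.SzSolG
import Cfsg.Agent.Helper11.SzSgE
import Cfsg.Agent.Helper11.SzReal
import Cfsg.Agent.Helper11.SzRepB
import Cfsg.Agent.Helper20.SZTRZQ
import Cfsg.Agent.Helper20.SZTPSIQ

/-! SZT piece INST: the Suzuki group `Cfsg.Sz F m` carries the configuration `Cfg` of helper12's
character-table project (all fields from helper11's Suzuki library). -/

set_option autoImplicit false
set_option linter.all false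
set_option maxHeartbeats 400000

namespace Cfsg.Agent.SZT

open Cfsg Cfsg.Agent.Helper11.SCTI Cfsg.Agent.Helper2.SzO Cfsg.Agent.Helper11.SzAut
  Cfsg.Agent.Helper11.SzCN Cfsg.Agent.Helper11.SzPart Cfsg.Agent.Helper11.SzTor
  Cfsg.Agent.Helper11.SzSol Cfsg.Agent.Helper11.SzSg
open scoped Classical ComplexConjugate

universe u

variable {F : Type u} [Field F] [Fintype F] {m : ℕ}

namespace INST

theorem ite_dec_irrel {α : Sort*} (p : Prop) (i1 i2 : Decidable p) (a b : α) :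
    @ite α p i1 a b = @ite α p i2 a b := by
  have : i1 = i2 := Subsingleton.elim _ _
  rw [this]

section

variable (hF : Fintype.card F = 2 ^ (2 * m + 1)) (hm : 1 ≤ m)

include hF hm

theorem Dz_ne_one {k : Fˣ} (hk : k ≠ 1) : Dz (m := m) hF k ≠ 1 := by
  intro h
  rw [← Dz_one hF] at h
  exact hk (Dz_injective hF h)

theorem sc_Dsub : SC (Dsub (m := m) hF) := by
  intro t ht ht1
  obtain ⟨k, rfl⟩ := ht
  have hk : k ≠ 1 := by
    rintro rfl
    exact ht1 (Dz_one hF)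
  exact centralizer_Dz hF hm hk

/-- elements of the normaliser of the split torus -/
theorem normalizer_Dsub_cases {n : Cfsg.Sz F m}
    (hn : n ∈ Subgroup.normalizer ((Dsub (m := m) hF : Subgroup (Cfsg.Sz F m)) :
      Set (Cfsg.Sz F m))) : (∃ l : Fˣ, n = Dz hF l) ∨ (∃ l : Fˣ, n = Wz hF * Dz hF l) := by
  obtain ⟨k, hk⟩ := exists_units_ne_one hF hm
  have hk1 : Dz hF k ≠ 1 := Dz_ne_one hF hm hk
  obtain ⟨k', hk'⟩ := (Subgroup.mem_normalizer_iff.mp hn _).mp (Dz_mem_Dsub hF k)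
  have hk'e : Dz hF k' = n * Dz hF k * n⁻¹ := hk'
  have hk'1 : k' ≠ 1 := by
    rintro rfl
    rw [Dz_one] at hk'e
    apply hk1
    have := congrArg (fun z => n⁻¹ * z * n) hk'e
    simp only [mul_one, inv_mul_cancel] at this
    rw [this]
    group
  have hfix : ∀ ω : Cfsg.suzukiOvoid F m, Dz hF k • ω = ω → Dz hF k' • (n • ω) = n • ω := by
    intro ω hω
    rw [hk'e, mul_smul, mul_smul, inv_smul_smul, hω]
  have h1 := Dz_fix_iff hF hk'1 _ (hfix infO (Dz_smul_infO hF k))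
  have h2 := Dz_fix_iff hF hk'1 _ (hfix (ptO 0 0) (Dz_smul_zero hF k))
  have hne : n • (infO : Cfsg.suzukiOvoid F m) ≠ n • ptO 0 0 := by
    intro h
    exact infO_ne_ptO _ _ (MulAction.injective n h)
  rcases h1 with h1 | h1
  · rcases h2 with h2 | h2
    · exact absurd (h1.trans h2.symm) hne
    · left
      exact eq_Dz_of_fix hF hm n h1 h2
  · rcases h2 with h2 | h2
    · right
      exact eq_Wz_mul_Dz hF hm n h1 h2
    · exact absurd (h1.trans h2.symm) hne

theorem card_normalizer_Dsub :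
    Nat.card (Subgroup.normalizer ((Dsub (m := m) hF : Subgroup (Cfsg.Sz F m)) :
      Set (Cfsg.Sz F m))) = 2 * (2 ^ (2 * m + 1) - 1) := by
  set N := Subgroup.normalizer ((Dsub (m := m) hF : Subgroup (Cfsg.Sz F m)) : Set (Cfsg.Sz F m))
    with hN
  have hset : (N : Set (Cfsg.Sz F m)) =
      ((Dsub (m := m) hF : Subgroup (Cfsg.Sz F m)) : Set (Cfsg.Sz F m)) ∪
        (fun y => Wz hF * y) '' ((Dsub (m := m) hF : Subgroup (Cfsg.Sz F m)) :
          Set (Cfsg.Sz F m)) := by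
    ext n
    constructor
    · intro hn
      rcases normalizer_Dsub_cases hF hm hn with ⟨l, rfl⟩ | ⟨l, rfl⟩
      · left; exact Dz_mem_Dsub hF l
      · right; exact ⟨Dz hF l, Dz_mem_Dsub hF l, rfl⟩
    · rintro (hn | ⟨y, ⟨l, rfl⟩, rfl⟩)
      · exact Subgroup.le_normalizer hn
      · exact Wz_Dz_mem_normalizer hF hm l
  have hdisj : Disjoint ((Dsub (m := m) hF : Subgroup (Cfsg.Sz F m)) : Set (Cfsg.Sz F m))
      ((fun y => Wz hF * y) '' ((Dsub (m := m) hF : Subgroup (Cfsg.Sz F m)) :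
          Set (Cfsg.Sz F m))) := by
    rw [Set.disjoint_left]
    rintro x ⟨l, rfl⟩ ⟨y, ⟨l', rfl⟩, hy⟩
    have h1 : (Wz hF * Dz hF l') • (infO : Cfsg.suzukiOvoid F m) = ptO 0 0 := by
      rw [mul_smul]
      show Wz hF • (Dz hF l' • (infO : Cfsg.suzukiOvoid F m)) = ptO 0 0
      rw [Dz_smul_infO, Wz_smul_infO]
    have h2 : (DzHom hF l) • (infO : Cfsg.suzukiOvoid F m) = infO := Dz_smul_infO hF l
    have hy' : Wz hF * (DzHom hF l') = DzHom hF l := hy
    rw [← hy'] at h2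
    have h1' : (Wz hF * (DzHom hF l')) • (infO : Cfsg.suzukiOvoid F m) = ptO 0 0 := h1
    rw [h1'] at h2
    exact infO_ne_ptO _ _ h2.symm
  have hfin : ((Dsub (m := m) hF : Subgroup (Cfsg.Sz F m)) : Set (Cfsg.Sz F m)).Finite :=
    Set.toFinite _
  have hc : Nat.card N = (N : Set (Cfsg.Sz F m)).ncard := rfl
  rw [hc, hset, Set.ncard_union_eq hdisj hfin (Set.toFinite _),
    Set.ncard_image_of_injective _ (mul_right_injective (Wz hF)), ncard_Dsub hF]
  ring


theorem orderOf_conj' (h g : Cfsg.Sz F m) : orderOf (h * g * h⁻¹) = orderOf g :=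
  MulEquiv.orderOf_eq (MulAut.conj h) g

theorem classify' (T₁ T₂ : Subgroup (Cfsg.Sz F m))
    (h1 : ∀ t : Cfsg.Sz F m, NoFix t ↔ t ∈ cov T₁ ∨ t ∈ cov T₂) (g : Cfsg.Sz F m) (hg : g ≠ 1) :
    orderOf g = 2 ∨ orderOf g = 4 ∨ (∃ x ∈ Dsub (m := m) hF, x ≠ 1 ∧ IsConj x g) ∨
      (∃ x ∈ T₁, x ≠ 1 ∧ IsConj x g) ∨ (∃ x ∈ T₂, x ≠ 1 ∧ IsConj x g) := by
  have key : ∀ T : Subgroup (Cfsg.Sz F m), g ∈ cov T → ∃ x ∈ T, x ≠ 1 ∧ IsConj x g := by
    rintro T ⟨hg1, h, hh⟩
    refine ⟨h * g * h⁻¹, hh, ?_, ?_⟩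
    · intro h1
      apply hg1
      have := congrArg (fun z => h⁻¹ * z * h) h1
      simp only [mul_one, inv_mul_cancel] at this
      rw [← this]
      group
    · rw [isConj_iff]
      exact ⟨h⁻¹, by group⟩
  rcases Cfsg.Agent.Helper11.SzPart.classify hF hm g hg with hnf | ⟨h, a, b, hab, he⟩ | ⟨h, k, hk, he⟩
  · rcases (h1 g).mp hnf with hc | hc
    · right; right; right; left
      exact key T₁ hc
    · right; right; right; right
      exact key T₂ hc
  · have ho : orderOf g = orderOf (Tz hF a b) := by rw [← he, orderOf_conj' hF hm]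
    by_cases ha : a = 0
    · left
      subst ha
      have hb : b ≠ 0 := fun hb => hab ⟨rfl, hb⟩
      rw [ho]
      exact orderOf_Tz_central hF hb
    · right; left
      rw [ho]
      exact orderOf_Tz_four hF ha
  · right; right; left
    refine ⟨Dz hF k, Dz_mem_Dsub hF k, Dz_ne_one hF hm hk, ?_⟩
    rw [isConj_iff]
    refine ⟨h⁻¹, ?_⟩
    rw [← he]
    group

theorem invol_conj' (g h : Cfsg.Sz F m) (hg : orderOf g = 2) (hh : orderOf h = 2) : IsConj g h := by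
  obtain ⟨c, hc⟩ := exists_conj_of_order_two hF hm g hg
  obtain ⟨d, hd⟩ := exists_conj_of_order_two hF hm h hh
  rw [isConj_iff]
  refine ⟨d⁻¹ * c, ?_⟩
  have : d⁻¹ * c * g * (d⁻¹ * c)⁻¹ = d⁻¹ * (c * g * c⁻¹) * d := by group
  rw [this, hc, ← hd]
  group

theorem four_conj' (g h : Cfsg.Sz F m) (hg : orderOf g = 4) (hh : orderOf h = 4) :
    IsConj g h ∨ IsConj g h⁻¹ := by
  obtain ⟨c, hc | hc⟩ := conj_or_inv_of_order_four hF hm g h hg hh
  · left
    rw [isConj_iff]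
    exact ⟨c, hc⟩
  · right
    rw [isConj_iff]
    exact ⟨c, hc⟩

theorem four_not_real' (g : Cfsg.Sz F m) (hg : orderOf g = 4) : ¬ IsConj g g⁻¹ := by
  intro h
  rw [isConj_iff] at h
  obtain ⟨c, hc⟩ := h
  obtain ⟨k, a, b, ha, hk⟩ := exists_conj_of_order_four hF hm g hg
  apply ha
  apply Cfsg.Agent.Helper11.SzReal.eq_zero_of_real hF hm a b (k * c * k⁻¹)
  rw [← hk]
  have : k * c * k⁻¹ * (k * g * k⁻¹) * (k * c * k⁻¹)⁻¹ = k * (c * g * c⁻¹) * k⁻¹ := by group
  rw [this, hc]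
  group

theorem U_order' (u : Cfsg.Sz F m) (hu : u ∈ Qz (m := m) hF) :
    u = 1 ∨ orderOf u = 2 ∨ orderOf u = 4 := by
  obtain ⟨a, b, rfl⟩ := hu
  by_cases ha : a = 0
  · subst ha
    by_cases hb : b = 0
    · subst hb
      left
      exact Tz_one hF
    · right; left
      exact orderOf_Tz_central hF hb
  · right; right
    exact orderOf_Tz_four hF ha

theorem cent_two' (g : Cfsg.Sz F m) (hg : orderOf g = 2) :
    ∃ h : Cfsg.Sz F m, Subgroup.centralizer ({g} : Set (Cfsg.Sz F m)) ≤ cj h (Qz hF) := by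
  obtain ⟨c, hc⟩ := exists_conj_of_order_two hF hm g hg
  refine ⟨c⁻¹, ?_⟩
  have e : g = c⁻¹ * Tz hF 0 1 * c⁻¹⁻¹ := by
    rw [← hc]
    group
  rw [e, centralizer_conj]
  intro x hx
  rw [mem_cj] at hx ⊢
  exact centralizer_Tz_le hF hm (a := 0) (b := 1) (fun h => one_ne_zero h.2) hx

theorem real_Dsub (x : Cfsg.Sz F m) (hx : x ∈ Dsub (m := m) hF) : IsConj x x⁻¹ := by
  obtain ⟨k, rfl⟩ := hx
  rw [isConj_iff]
  refine ⟨Wz hF, ?_⟩
  have h1 : (DzHom hF k)⁻¹ = DzHom (m := m) hF k⁻¹ := (map_inv (DzHom hF) k).symm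
  rw [h1]
  exact Wz_conj_Dz hF k

theorem real_tor {T : Subgroup (Cfsg.Sz F m)} (hT : IsTor T) (x : Cfsg.Sz F m) (hx : x ∈ T) :
    IsConj x x⁻¹ := by
  obtain ⟨a, ha, ha2⟩ := hT.exists_invol hF hm
  rw [isConj_iff]
  exact ⟨a, hT.inverts hF hm ha ha2 hx⟩


end

/-! ### the Sylow `2`-subgroup `Q` as an abstract group, its centre `Z` -/

section

variable (hF : Fintype.card F = 2 ^ (2 * m + 1))

include hF

/-- the central elements `T(0,b)` of `Q`, as a subgroup of `Q` -/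
def Zs : Subgroup ↥(Qz (m := m) hF) where
  carrier := {u | ∃ b : F, (u : Cfsg.Sz F m) = Tz hF 0 b}
  one_mem' := ⟨0, (Tz_one hF).symm⟩
  mul_mem' := by
    rintro u v ⟨b, hb⟩ ⟨b', hb'⟩
    refine ⟨b + b', ?_⟩
    show (u : Cfsg.Sz F m) * (v : Cfsg.Sz F m) = _
    rw [hb, hb', Tz_mul]
    simp [sg_ne_zero]
  inv_mem' := by
    rintro u ⟨b, hb⟩
    refine ⟨b, ?_⟩
    show (u : Cfsg.Sz F m)⁻¹ = _
    rw [hb, Tz_inv]
    simp [sg_ne_zero]

theorem mem_Zs (u : ↥(Qz (m := m) hF)) :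
    u ∈ Zs hF ↔ ∃ b : F, (u : Cfsg.Sz F m) = Tz hF 0 b := Iff.rfl

theorem mem_Zs_iff (u : ↥(Qz (m := m) hF)) :
    u ∈ Zs hF ↔ ((u : Cfsg.Sz F m) = 1 ∨ orderOf (u : Cfsg.Sz F m) = 2) := by
  rw [mem_Zs]
  constructor
  · rintro ⟨b, hb⟩
    by_cases hb0 : b = 0
    · left
      rw [hb, hb0, Tz_one]
    · right
      rw [hb]
      exact orderOf_Tz_central hF hb0
  · intro h
    obtain ⟨a, b, hab⟩ := u.2
    by_cases ha : a = 0
    · subst ha
      exact ⟨b, hab⟩
    · exfalso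
      have h4 : orderOf (u : Cfsg.Sz F m) = 4 := by
        rw [hab]
        exact orderOf_Tz_four hF ha
      rcases h with h | h
      · rw [h, orderOf_one] at h4
        omega
      · rw [h] at h4
        omega

/-- the basic commutation rule in `Q` -/
theorem Tz_comm (a b c d : F) :
    Tz hF a b * Tz hF c d = Tz hF 0 (a ^ sg m * c + c ^ sg m * a) * (Tz hF c d * Tz hF a b) := by
  have h2 := two_eq_zero hF
  rw [Tz_mul, Tz_mul, Tz_mul]
  have h0 : (0 : F) ^ sg m = 0 := zero_pow sg_ne_zero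
  congr 1
  · ring
  · rw [h0]
    linear_combination (-(c ^ sg m * a)) * h2

theorem Tz_commutator (a b c d : F) :
    Tz hF a b * Tz hF c d * (Tz hF a b)⁻¹ * (Tz hF c d)⁻¹ =
      Tz hF 0 (a ^ sg m * c + c ^ sg m * a) := by
  rw [Tz_comm hF a b c d]
  group

theorem Zs_le_center : Zs hF ≤ Subgroup.center ↥(Qz (m := m) hF) := by
  rintro u ⟨b, hb⟩
  rw [Subgroup.mem_center_iff]
  intro v
  obtain ⟨c, d, hcd⟩ := v.2
  apply Subtype.ext
  show (v : Cfsg.Sz F m) * (u : Cfsg.Sz F m) = (u : Cfsg.Sz F m) * (v : Cfsg.Sz F m)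
  rw [hb, hcd, Tz_mul, Tz_mul]
  have h0 : (0 : F) ^ sg m = 0 := zero_pow sg_ne_zero
  congr 1
  · ring
  · rw [h0]
    ring

theorem commutator_mem_Zs (u t : ↥(Qz (m := m) hF)) : u * t * u⁻¹ * t⁻¹ ∈ Zs hF := by
  obtain ⟨a, b, hab⟩ := u.2
  obtain ⟨c, d, hcd⟩ := t.2
  refine ⟨a ^ sg m * c + c ^ sg m * a, ?_⟩
  show (u : Cfsg.Sz F m) * (t : Cfsg.Sz F m) * (u : Cfsg.Sz F m)⁻¹ * (t : Cfsg.Sz F m)⁻¹ = _
  rw [hab, hcd]
  exact Tz_commutator hF a b c d

/-- the central elements, parametrised by the field -/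
def zOf (b : F) : ↥(Zs hF) := ⟨⟨Tz hF 0 b, Tz_mem_Qz hF 0 b⟩, b, rfl⟩

theorem zOf_add (b b' : F) : zOf hF (b + b') = zOf hF b * zOf hF b' := by
  apply Subtype.ext
  apply Subtype.ext
  show Tz hF 0 (b + b') = Tz hF 0 b * Tz hF 0 b'
  rw [Tz_mul]
  simp [sg_ne_zero]

theorem zOf_bijective : Function.Bijective (zOf (m := m) hF) := by
  constructor
  · intro b b' h
    have := congrArg (fun z : ↥(Zs hF) => ((z : ↥(Qz hF)) : Cfsg.Sz F m)) h
    exact (Tz_injective hF this).2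
  · rintro ⟨u, b, hb⟩
    refine ⟨b, ?_⟩
    apply Subtype.ext
    apply Subtype.ext
    exact hb.symm

theorem card_Zs : Nat.card ↥(Zs (m := m) hF) = 2 ^ (2 * m + 1) := by
  rw [← Nat.card_congr (Equiv.ofBijective _ (zOf_bijective hF)), Nat.card_eq_fintype_card, hF]

theorem card_Qz' : Nat.card ↥(Qz (m := m) hF) = (2 ^ (2 * m + 1)) ^ 2 := card_Qz hF

theorem index_Zs : (Zs (m := m) hF).index = 2 ^ (2 * m + 1) := by
  have h := (Zs (m := m) hF).card_mul_index
  rw [card_Zs, card_Qz', sq] at h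
  exact Nat.eq_of_mul_eq_mul_left (by positivity) h


theorem zOf_zero : zOf (m := m) hF (0 : F) = 1 := by
  apply Subtype.ext
  apply Subtype.ext
  exact Tz_one hF

/-- the sign character of `F` attached to a linear character of `Z` -/
noncomputable def lamOf (μ : ↥(Zs (m := m) hF) →* ℂˣ) (b : F) : ℂ := ((μ (zOf hF b) : ℂˣ) : ℂ)

theorem isSignChar_lamOf (μ : ↥(Zs (m := m) hF) →* ℂˣ) :
    Cfsg.Agent.Helper11.SzRep.IsSignChar (lamOf hF μ) where
  add b b' := by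
    unfold lamOf
    rw [zOf_add, map_mul, Units.val_mul]
  sign b := by
    have h2 := two_eq_zero hF
    have hbb : b + b = 0 := by linear_combination b * h2
    have h1 : lamOf hF μ b * lamOf hF μ b = 1 := by
      unfold lamOf
      rw [← Units.val_mul, ← map_mul, ← zOf_add, hbb, zOf_zero, map_one, Units.val_one]
    exact mul_self_eq_one_iff.mp h1

theorem lamOf_nontrivial (μ : ↥(Zs (m := m) hF) →* ℂˣ) (hμ : μ ≠ 1) : ∃ b, lamOf hF μ b ≠ 1 := by
  by_contra hcon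
  push Not at hcon
  apply hμ
  ext z
  obtain ⟨b, rfl⟩ := (zOf_bijective hF).2 z
  rw [MonoidHom.one_apply, Units.val_one]
  exact hcon b

noncomputable def coordA (u : ↥(Qz (m := m) hF)) : F := Classical.choose u.2

noncomputable def coordB (u : ↥(Qz (m := m) hF)) : F := Classical.choose (Classical.choose_spec u.2)

theorem coord_spec (u : ↥(Qz (m := m) hF)) :
    (u : Cfsg.Sz F m) = Tz hF (coordA hF u) (coordB hF u) :=
  Classical.choose_spec (Classical.choose_spec u.2)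

theorem comm_eq_zOf (u t : ↥(Qz (m := m) hF)) (a b c d : F)
    (hu : (u : Cfsg.Sz F m) = Tz hF a b) (ht : (t : Cfsg.Sz F m) = Tz hF c d) :
    (⟨u * t * u⁻¹ * t⁻¹, commutator_mem_Zs hF u t⟩ : ↥(Zs (m := m) hF)) =
      zOf hF (a ^ sg m * c + c ^ sg m * a) := by
  apply Subtype.ext
  apply Subtype.ext
  show (u : Cfsg.Sz F m) * (t : Cfsg.Sz F m) * (u : Cfsg.Sz F m)⁻¹ * (t : Cfsg.Sz F m)⁻¹ = Tz hF 0 _
  rw [hu, ht]
  exact Tz_commutator hF a b c d

theorem coordA_mem_rad (μ : ↥(Zs (m := m) hF) →* ℂˣ) (u : ↥(Qz (m := m) hF))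
    (hu : ∀ t : ↥(Qz (m := m) hF), μ ⟨u * t * u⁻¹ * t⁻¹, commutator_mem_Zs hF u t⟩ = 1) :
    coordA hF u ∈ Cfsg.Agent.Helper11.SzRep.rad hF (isSignChar_lamOf hF μ) := by
  rw [Cfsg.Agent.Helper11.SzRep.mem_rad]
  intro x
  obtain ⟨t, ht⟩ : ∃ t : ↥(Qz (m := m) hF), (t : Cfsg.Sz F m) = Tz hF x 0 :=
    ⟨⟨Tz hF x 0, Tz_mem_Qz hF x 0⟩, rfl⟩
  have h := hu t
  rw [comm_eq_zOf hF u t _ _ x 0 (coord_spec hF u) ht] at h
  unfold lamOf
  rw [add_comm, h, Units.val_one]

theorem card_radical_le (μ : ↥(Zs (m := m) hF) →* ℂˣ) (hμ : μ ≠ 1) :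
    Nat.card {u : ↥(Qz (m := m) hF) // ∀ t : ↥(Qz (m := m) hF),
      μ ⟨u * t * u⁻¹ * t⁻¹, commutator_mem_Zs hF u t⟩ = 1} ≤ 2 * 2 ^ (2 * m + 1) := by
  set R := Cfsg.Agent.Helper11.SzRep.rad hF (isSignChar_lamOf hF μ) with hR
  let f : {u : ↥(Qz (m := m) hF) // ∀ t : ↥(Qz (m := m) hF),
      μ ⟨u * t * u⁻¹ * t⁻¹, commutator_mem_Zs hF u t⟩ = 1} → ↥R × F :=
    fun u => (⟨coordA hF u.1, coordA_mem_rad hF μ u.1 u.2⟩, coordB hF u.1)
  have hf : Function.Injective f := by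
    rintro ⟨u, hu⟩ ⟨v, hv⟩ h
    have h1 : coordA hF u = coordA hF v := congrArg (fun z : ↥R × F => (z.1 : F)) h
    have h2 : coordB hF u = coordB hF v := congrArg (fun z : ↥R × F => z.2) h
    apply Subtype.ext
    apply Subtype.ext
    show (u : Cfsg.Sz F m) = (v : Cfsg.Sz F m)
    rw [coord_spec hF u, coord_spec hF v, h1, h2]
  have h1 := Nat.card_le_card_of_injective f hf
  have h2 : Nat.card (↥R × F) = Nat.card ↥R * 2 ^ (2 * m + 1) := by
    rw [Nat.card_prod, Nat.card_eq_fintype_card (α := F), hF]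
  have h3 := Cfsg.Agent.Helper11.SzRep.card_rad_le hF (isSignChar_lamOf hF μ)
    (lamOf_nontrivial hF μ hμ)
  calc _ ≤ Nat.card (↥R × F) := h1
    _ = Nat.card ↥R * 2 ^ (2 * m + 1) := h2
    _ ≤ 2 * 2 ^ (2 * m + 1) := Nat.mul_le_mul_right _ h3

theorem isCharacter_congr' {Q : Type u} [Group Q] (f g : Q → ℂ) (e : ∀ u, f u = g u)
    (hg : IsCharacter Q g) : IsCharacter Q f := by
  have : f = g := funext e
  rw [this]
  exact hg

theorem normal_Zs : (Zs (m := m) hF).Normal := by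
  constructor
  intro n hn g
  have hc := Subgroup.mem_center_iff.mp (Zs_le_center hF hn) g
  have : g * n * g⁻¹ = n := by rw [hc, mul_inv_cancel_right]
  rw [this]
  exact hn

theorem rzU_char : IsCharacter ↥(Qz (m := m) hF) (fun u : ↥(Qz (m := m) hF) =>
    if (u : Cfsg.Sz F m) = 1 ∨ orderOf (u : Cfsg.Sz F m) = 2 then
      (((2 ^ (2 * m + 1) : ℕ) : ℂ)) else 0) := by
  haveI : Fintype ↥(Qz (m := m) hF) := Fintype.ofFinite _
  haveI := normal_Zs (m := m) hF
  have h := isCharacter_ind_one_normal (Zs (m := m) hF)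
  refine isCharacter_congr' hF _ _ ?_ h
  intro u
  show (if (u : Cfsg.Sz F m) = 1 ∨ orderOf (u : Cfsg.Sz F m) = 2 then
      (((2 ^ (2 * m + 1) : ℕ) : ℂ)) else 0) = _
  rw [index_Zs]
  by_cases hu : u ∈ Zs (m := m) hF
  · rw [if_pos hu, if_pos ((mem_Zs_iff hF u).mp hu)]
  · rw [if_neg hu, if_neg (fun h => hu ((mem_Zs_iff hF u).mpr h))]

theorem psiU_char : IsCharacter ↥(Qz (m := m) hF) (fun u : ↥(Qz (m := m) hF) =>
    if (u : Cfsg.Sz F m) = 1 then ((((2 ^ (2 * m + 1) : ℕ) : ℂ)) - 1) * ((2 ^ (m + 1) : ℕ) : ℂ)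
    else if orderOf (u : Cfsg.Sz F m) = 2 then -(((2 ^ (m + 1) : ℕ) : ℂ)) else 0) := by
  haveI : Fintype ↥(Qz (m := m) hF) := Fintype.ofFinite _
  have h := isCharacter_psi (Zs (m := m) hF) m (Zs_le_center hF) (commutator_mem_Zs hF)
    (card_Zs hF) (card_Qz' hF) (card_radical_le hF)
  refine isCharacter_congr' hF _ _ ?_ h
  intro u
  show (if (u : Cfsg.Sz F m) = 1 then ((((2 ^ (2 * m + 1) : ℕ) : ℂ)) - 1) * ((2 ^ (m + 1) : ℕ) : ℂ)
      else if orderOf (u : Cfsg.Sz F m) = 2 then -(((2 ^ (m + 1) : ℕ) : ℂ)) else 0) = _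
  by_cases hu1 : u = 1
  · have : (u : Cfsg.Sz F m) = 1 := by rw [hu1]; rfl
    rw [if_pos hu1, if_pos this]
    push_cast
    ring
  · have hne : (u : Cfsg.Sz F m) ≠ 1 := fun h => hu1 (Subtype.ext h)
    rw [if_neg hu1, if_neg hne]
    by_cases hu : u ∈ Zs (m := m) hF
    · have h2 : orderOf (u : Cfsg.Sz F m) = 2 := by
        rcases (mem_Zs_iff hF u).mp hu with h | h
        · exact absurd h hne
        · exact h
      rw [if_pos hu, if_pos h2]
      push_cast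
      ring
    · have h2 : ¬ orderOf (u : Cfsg.Sz F m) = 2 := fun h => hu ((mem_Zs_iff hF u).mpr (Or.inr h))
      rw [if_neg hu, if_neg h2]

end

end INST

/-- the configuration of the Suzuki group -/
theorem exists_cfg (hF : Fintype.card F = 2 ^ (2 * m + 1)) (hm : 1 ≤ m) :
    ∃ (_ : Fintype (Cfsg.Sz F m)) (C : Cfg (Cfsg.Sz F m)),
      C.q = 2 ^ (2 * m + 1) ∧ C.r = 2 ^ (m + 1) := by
  obtain ⟨T₁, T₂, hT₁, hT₂, hc1, hc2, hcov, hdisj⟩ := Cfsg.Agent.Helper11.SzSol.exists_tori hF hm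
  have hle : 2 ^ (m + 1) ≤ 2 ^ (2 * m + 1) := Nat.pow_le_pow_right (by norm_num) (by omega)
  have hc2' : Nat.card T₂ = 2 ^ (2 * m + 1) + 1 - 2 ^ (m + 1) := by
    rw [hc2]
    generalize 2 ^ (2 * m + 1) = q at hle ⊢
    generalize 2 ^ (m + 1) = r at hle ⊢
    omega
  refine ⟨Fintype.ofFinite _, ?_⟩
  letI : Fintype (Cfsg.Sz F m) := Fintype.ofFinite _
  refine ⟨{ q := 2 ^ (2 * m + 1)
            r := 2 ^ (m + 1)
            hr := ?_
            hq := ?_
            card_G := ?_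
            U := Qz hF
            A0 := Dsub hF
            A1 := T₁
            A2 := T₂
            card_U := card_Qz hF
            card_A0 := card_Dsub hF
            card_A1 := hc1
            card_A2 := hc2'
            sc_A0 := INST.sc_Dsub hF hm
            sc_A1 := hT₁.2.1
            sc_A2 := hT₂.2.1
            card_N0 := INST.card_normalizer_Dsub hF hm
            card_N1 := ?_
            card_N2 := ?_
            classify := INST.classify' hF hm T₁ T₂ hcov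
            invol_conj := INST.invol_conj' hF hm
            four_conj := INST.four_conj' hF hm
            four_not_real := INST.four_not_real' hF hm
            card_invol := Cfsg.Agent.Helper11.SzSol.card_invol hF hm
            card_four := ?_
            U_order := INST.U_order' hF hm
            cent_two := INST.cent_two' hF hm
            real_A0 := INST.real_Dsub hF hm
            real_A1 := INST.real_tor hF hm hT₁
            real_A2 := INST.real_tor hF hm hT₂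
            rzU := INST.isCharacter_congr' hF _ _ (fun u => INST.ite_dec_irrel _ _ _ _ _) (INST.rzU_char hF)
            psiU := INST.isCharacter_congr' hF _ _ (fun u => INST.ite_dec_irrel _ _ _ _ _) (INST.psiU_char hF) }, rfl, rfl⟩
  · ring
  · calc 8 = 2 ^ 3 := by norm_num
      _ ≤ 2 ^ (2 * m + 1) := Nat.pow_le_pow_right (by norm_num) (by omega)
  · rw [card_Sz hF hm]
    ring
  · rw [hT₁.card_normalizer hF hm, hc1]
  · rw [hT₂.card_normalizer hF hm, hc2']
  · rw [Cfsg.Agent.Helper11.SzSol.card_four hF hm, mul_assoc]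


end Cfsg.Agent.SZT
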