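import Mathlib

/-!
# Sharply 3-transitive groups of degree `p^f + 1`, `f` odd: generic lemmas (part A)

* `even_finrank_of_anticomm`: an invertible linear map anticommuting with an injective one forces
  even dimension (characteristic not 2).
* `sign_eq_neg_one_of_semiregular`: sign of a permutation all of whose nontrivial cycles have the
  same even length, with an odd number of cycles.
-/

set_option autoImplicit false

namespace Cfsg.Agent.Helper11.Sh3

open Module

/-- anticommuting with an injective map forces even dimension -/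
theorem even_finrank_of_anticomm {k V : Type*} [Field k] [AddCommGroup V] [Module k V]
    [FiniteDimensional k V] (h2 : (2 : k) ≠ 0) (g : V ≃ₗ[k] V) (u : V →ₗ[k] V)
    (hu : Function.Injective u)
    (h : (g : V →ₗ[k] V) ∘ₗ u = -(u ∘ₗ (g : V →ₗ[k] V))) : Even (finrank k V) := by
  by_contra hodd
  rw [Nat.not_even_iff_odd] at hodd
  have h1 := congrArg LinearMap.det h
  have h3 : -(u ∘ₗ (g : V →ₗ[k] V)) = (-1 : k) • (u ∘ₗ (g : V →ₗ[k] V)) := by simp
  rw [h3, LinearMap.det_smul, LinearMap.det_comp, LinearMap.det_comp, hodd.neg_one_pow] at h1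
  have hg : LinearMap.det (g : V →ₗ[k] V) ≠ 0 := (LinearEquiv.isUnit_det' g).ne_zero
  have hdu : LinearMap.det u = 0 := by
    have h4 : (2 : k) * (LinearMap.det (g : V →ₗ[k] V) * LinearMap.det u) = 0 := by
      linear_combination h1
    rcases mul_eq_zero.mp h4 with h5 | h5
    · exact absurd h5 h2
    · rcases mul_eq_zero.mp h5 with h6 | h6
      · exact absurd h6 hg
      · exact h6
  have h7 := LinearMap.bot_lt_ker_of_det_eq_zero hdu
  rw [LinearMap.ker_eq_bot.mpr hu] at h7
  exact lt_irrefl _ h7

/-- variant with a linear map having a right inverse -/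
theorem even_finrank_of_anticomm' {k V : Type*} [Field k] [AddCommGroup V] [Module k V]
    [FiniteDimensional k V] (h2 : (2 : k) ≠ 0) (g g' u : V →ₗ[k] V)
    (hgg' : g ∘ₗ g' = LinearMap.id) (hu : Function.Injective u)
    (h : g ∘ₗ u = -(u ∘ₗ g)) : Even (finrank k V) := by
  by_contra hodd
  rw [Nat.not_even_iff_odd] at hodd
  have h1 := congrArg LinearMap.det h
  have h3 : -(u ∘ₗ g) = (-1 : k) • (u ∘ₗ g) := by simp
  rw [h3, LinearMap.det_smul, LinearMap.det_comp, LinearMap.det_comp, hodd.neg_one_pow] at h1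
  have hg : LinearMap.det g ≠ 0 := by
    intro h0
    have h4 := congrArg LinearMap.det hgg'
    rw [LinearMap.det_comp, h0, zero_mul, LinearMap.det_id] at h4
    exact zero_ne_one h4
  have hdu : LinearMap.det u = 0 := by
    have h4 : (2 : k) * (LinearMap.det g * LinearMap.det u) = 0 := by
      linear_combination h1
    rcases mul_eq_zero.mp h4 with h5 | h5
    · exact absurd h5 h2
    · rcases mul_eq_zero.mp h5 with h6 | h6
      · exact absurd h6 hg
      · exact h6
  have h7 := LinearMap.bot_lt_ker_of_det_eq_zero hdu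
  rw [LinearMap.ker_eq_bot.mpr hu] at h7
  exact lt_irrefl _ h7

open Equiv Equiv.Perm in
/-- if every power of `σ` fixing a moved point is trivial, all cycles have length `orderOf σ` -/
theorem eq_orderOf_of_mem_cycleType {α : Type*} [Fintype α] [DecidableEq α] (σ : Perm α)
    (hσ : ∀ (k : ℕ) (x : α), σ x ≠ x → (σ ^ k) x = x → σ ^ k = 1) {c : ℕ}
    (hc : c ∈ σ.cycleType) : c = orderOf σ := by
  apply Nat.dvd_antisymm (dvd_of_mem_cycleType hc)
  rw [cycleType_def, Multiset.mem_map] at hc
  obtain ⟨τ, hτ, rfl⟩ := hc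
  have hτ' : τ ∈ σ.cycleFactorsFinset := hτ
  have hcyc := (mem_cycleFactorsFinset_iff.mp hτ').1
  obtain ⟨x, hx⟩ := hcyc.nonempty_support
  have hτx : τ = σ.cycleOf x := cycle_is_cycleOf hx hτ'
  have hσx : σ x ≠ x := by
    have h1 := (mem_cycleFactorsFinset_iff.mp hτ').2 x hx
    rw [← h1]
    exact mem_support.mp hx
  apply orderOf_dvd_of_pow_eq_one
  apply hσ _ x hσx
  show (σ ^ (Finset.card ∘ support) τ) x = x
  rw [Function.comp_apply, ← cycleOf_pow_apply_self, ← hτx, ← hcyc.orderOf, pow_orderOf_eq_one]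
  rfl

open Equiv Equiv.Perm in
/-- sign of a semiregular-on-support permutation of even order with an odd number of cycles -/
theorem sign_eq_neg_one_of_semiregular {α : Type*} [Fintype α] [DecidableEq α] (σ : Perm α)
    (hσ : ∀ (k : ℕ) (x : α), σ x ≠ x → (σ ^ k) x = x → σ ^ k = 1)
    (heven : Even (orderOf σ)) {m : ℕ} (hm : Odd m) (hcard : σ.support.card = m * orderOf σ) :
    sign σ = -1 := by
  have hall : ∀ c ∈ σ.cycleType, c = orderOf σ := fun c hc => eq_orderOf_of_mem_cycleType σ hσ hc
  have hrep : σ.cycleType = Multiset.replicate (Multiset.card σ.cycleType) (orderOf σ) :=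
    Multiset.eq_replicate.mpr ⟨rfl, hall⟩
  have hsum := sum_cycleType σ
  rw [hrep, Multiset.sum_replicate, smul_eq_mul, hcard] at hsum
  have hpos : 0 < orderOf σ := orderOf_pos σ
  have hcm : Multiset.card σ.cycleType = m := Nat.eq_of_mul_eq_mul_right hpos hsum
  rw [sign_of_cycleType, sum_cycleType, hcard, hcm]
  have h1 : Even (m * orderOf σ) := heven.mul_left m
  rw [pow_add, h1.neg_one_pow, hm.neg_one_pow, one_mul]

end Cfsg.Agent.Helper11.Sh3
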