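import Mathlib
import Cfsg.Agent.S0016
import Cfsg.Agent.Helper11.Sh3A

/-!
# Sharply 3-transitive groups of degree `p^f + 1`, `f` odd: generic group lemmas (part B)

For a finite group `H` in which
* `hI`: an element inverted by another has square one,
* `hU`: there is at most one involution,

every 2-subgroup is cyclic, and an abelian subgroup of index two forces `H` to be abelian.
Also: an involutive endomorphism with at most two fixed points inverts a subgroup of index 2
containing all `k⁻¹ φ k`.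
-/

set_option autoImplicit false

namespace Cfsg.Agent.Helper11.Sh3

variable {H : Type*} [Group H]

/-- hypothesis: inverted elements have square one -/
def InvSq (H : Type*) [Group H] : Prop := ∀ g w : H, g * w * g⁻¹ = w⁻¹ → w * w = 1

/-- hypothesis: at most one involution -/
def UniqInv (H : Type*) [Group H] : Prop := ∀ x y : H, orderOf x = 2 → orderOf y = 2 → x = y

theorem quaternion_not_invSq {n : ℕ} (hn : 2 ≤ n) : ¬ InvSq (QuaternionGroup n) := by
  intro h
  have hinv : (QuaternionGroup.a (1 : ZMod (2 * n)))⁻¹ = QuaternionGroup.a (-1) := by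
    apply inv_eq_of_mul_eq_one_right
    rw [QuaternionGroup.a_mul_a, add_neg_cancel, QuaternionGroup.one_def]
  have h1 := h (QuaternionGroup.xa 0) (QuaternionGroup.a 1) (by
    rw [mul_inv_eq_iff_eq_mul, hinv, QuaternionGroup.xa_mul_a, QuaternionGroup.a_mul_xa]
    congr 1
    ring)
  rw [QuaternionGroup.a_mul_a, QuaternionGroup.one_def] at h1
  have h2 : ((1 : ZMod (2 * n)) + 1) = 0 := by
    injection h1
  have h3 : ((2 : ℕ) : ZMod (2 * n)) = 0 := by
    rw [← h2]; norm_num
  rw [ZMod.natCast_eq_zero_iff] at h3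
  have := Nat.le_of_dvd (by norm_num) h3
  omega

theorem InvSq.of_injective {K : Type*} [Group K] (hH : InvSq H) (f : K →* H)
    (hf : Function.Injective f) : InvSq K := by
  intro g w h
  apply hf
  rw [map_mul, map_one]
  apply hH (f g) (f w)
  rw [← map_inv, ← map_mul, ← map_mul, h, map_inv]

theorem UniqInv.of_injective {K : Type*} [Group K] (hH : UniqInv H) (f : K →* H)
    (hf : Function.Injective f) : UniqInv K := by
  intro x y hx hy
  apply hf
  apply hH
  · rw [orderOf_injective f hf, hx]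
  · rw [orderOf_injective f hf, hy]

/-- with at most one involution, all subgroups of order two coincide -/
theorem UniqInv.subgroup_unique (hU : UniqInv H) (A B : Subgroup H) (hA : Nat.card A = 2)
    (hB : Nat.card B = 2) : A = B := by
  have key : ∀ L : Subgroup H, Nat.card L = 2 → ∃ u : H, orderOf u = 2 ∧ L = Subgroup.zpowers u := by
    intro L hL
    have : Finite L := Nat.finite_of_card_ne_zero (by rw [hL]; norm_num)
    have hnt : Nontrivial L := by
      rw [← Finite.one_lt_card_iff_nontrivial, hL]; norm_num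
    obtain ⟨h, hh⟩ := exists_ne (1 : L)
    have hdvd : orderOf h ∣ 2 := hL ▸ orderOf_dvd_natCard h
    have hne : orderOf h ≠ 1 := by rwa [Ne, orderOf_eq_one_iff]
    have h2 : orderOf h = 2 := by
      rcases (Nat.dvd_prime Nat.prime_two).1 hdvd with h1 | h1
      · exact absurd h1 hne
      · exact h1
    have h2' : orderOf (h : H) = 2 := by rw [Subgroup.orderOf_coe]; exact h2
    refine ⟨h, h2', ?_⟩
    have hle : Subgroup.zpowers (h : H) ≤ L := by
      rw [Subgroup.zpowers_le]; exact h.2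
    symm
    apply Subgroup.eq_of_le_of_card_ge hle
    rw [hL, Nat.card_zpowers, h2']
  obtain ⟨u, hu, rfl⟩ := key A hA
  obtain ⟨v, hv, rfl⟩ := key B hB
  rw [hU u v hu hv]

/-- every 2-group with `InvSq` and `UniqInv` is cyclic -/
theorem isCyclic_of_isPGroup [Finite H] (hI : InvSq H) (hU : UniqInv H) (hP : IsPGroup 2 H) :
    IsCyclic H := by
  have : Fact (Nat.Prime 2) := ⟨Nat.prime_two⟩
  rcases Cfsg.Agent.S0016.result 2 hP hU.subgroup_unique with h | ⟨-, n, ⟨e⟩⟩
  · exact h
  · rcases Nat.eq_zero_or_pos n with hn | hn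
    · subst hn
      have : IsCyclic (QuaternionGroup (2 ^ 0)) := by
        rw [pow_zero]; exact QuaternionGroup.quaternionGroup_one_isCyclic
      exact isCyclic_of_surjective e.symm e.symm.surjective
    · exfalso
      have h2 : 2 ≤ 2 ^ n := by
        calc 2 = 2 ^ 1 := by norm_num
          _ ≤ 2 ^ n := Nat.pow_le_pow_right (by norm_num) hn
      exact quaternion_not_invSq h2 (hI.of_injective e.symm.toMonoidHom e.symm.injective)


/-- conjugation of powers when `x h x⁻¹ = h w` with `w` central -/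
theorem conj_pow_of_central {x h w : H} (hx : x * h * x⁻¹ = h * w) (hw : ∀ g : H, Commute g w)
    (k : ℕ) : x * h ^ k * x⁻¹ = h ^ k * w ^ k := by
  rw [← conj_pow, hx, (hw h).mul_pow]

theorem conj_pow_left_of_central {x h w : H} (hx : x * h * x⁻¹ = h * w)
    (hw : ∀ g : H, Commute g w) (k : ℕ) : x ^ k * h * (x ^ k)⁻¹ = h * w ^ k := by
  induction k with
  | zero => simp
  | succ k ih =>
    have e1 : x ^ (k + 1) * h * (x ^ (k + 1))⁻¹ = x * (x ^ k * h * (x ^ k)⁻¹) * x⁻¹ := by
      rw [pow_succ']; group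
    rw [e1, ih]
    have e2 : x * (h * w ^ k) * x⁻¹ = (x * h * x⁻¹) * (x * w ^ k * x⁻¹) := by group
    have e3 : x * w ^ k * x⁻¹ = w ^ k := by
      rw [((hw x).pow_right k).eq]; group
    rw [e2, hx, e3, pow_succ', mul_assoc]


/-- an odd power of an element of two-power-times-odd order which is a 2-element -/
theorem exists_odd_pow_isPGroup [Finite H] (x : H) :
    ∃ m : ℕ, Odd m ∧ ∃ i : ℕ, orderOf (x ^ m) = 2 ^ i := by
  obtain ⟨i, m, hm, ho⟩ := Nat.exists_eq_two_pow_mul_odd (orderOf_pos x).ne'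
  refine ⟨m, hm, i, ?_⟩
  have hm0 : m ≠ 0 := by
    rintro rfl
    exact (Nat.not_odd_iff_even.mpr (by decide)) hm
  rw [orderOf_pow' x hm0, ho, Nat.gcd_eq_right (Dvd.intro_left _ rfl),
    Nat.mul_div_cancel _ (Nat.pos_of_ne_zero hm0)]

/-- `InvSq` + `UniqInv` + abelian subgroup of index two: outside elements centralize it -/
theorem commute_of_abelian_index_two [Finite H] (hI : InvSq H) (hU : UniqInv H)
    (A : Subgroup H) (hA : ∀ a ∈ A, ∀ b ∈ A, a * b = b * a) (hidx : A.index = 2)
    (x : H) {h : H} (hh : h ∈ A) : x * h = h * x := by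
  have hN : A.Normal := Subgroup.normal_of_index_eq_two hidx
  obtain ⟨w, hw⟩ : ∃ w, w = h⁻¹ * (x * h * x⁻¹) := ⟨_, rfl⟩
  have hwA : w ∈ A := hw ▸ A.mul_mem (A.inv_mem hh) (hN.conj_mem h hh x)
  have hx2 : x * x ∈ A := Subgroup.mul_self_mem_of_index_two hidx x
  have hconj : x * w * x⁻¹ = w⁻¹ := by
    have e1 : (x * x) * h * (x * x)⁻¹ = h := by
      rw [hA _ hx2 _ hh]; group
    calc x * w * x⁻¹ = (x * h * x⁻¹)⁻¹ * ((x * x) * h * (x * x)⁻¹) := by rw [hw]; group
      _ = (x * h * x⁻¹)⁻¹ * h := by rw [e1]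
      _ = w⁻¹ := by rw [hw]; group
  have hww : w * w = 1 := hI x w hconj
  have hxh : x * h * x⁻¹ = h * w := by rw [hw]; group
  by_cases hw1 : w = 1
  · rw [hw1, mul_one] at hxh
    calc x * h = (x * h * x⁻¹) * x := by group
      _ = h * x := by rw [hxh]
  exfalso
  have hw2 : orderOf w = 2 := orderOf_eq_prime (by rw [pow_two]; exact hww) hw1
  have hwc : ∀ g : H, Commute g w := by
    intro g
    have h1 : orderOf (g * w * g⁻¹) = 2 := by
      rw [← MulAut.conj_apply, MulEquiv.orderOf_eq, hw2]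
    have h2 := hU _ _ h1 hw2
    show g * w = w * g
    calc g * w = (g * w * g⁻¹) * g := by group
      _ = w * g := by rw [h2]
  have hwpow : ∀ m : ℕ, Odd m → w ^ m = w := by
    rintro m ⟨k, rfl⟩
    rw [pow_succ, pow_mul, pow_two, hww, one_pow, one_mul]
  -- reduce to 2-elements
  obtain ⟨mx, hmx, j, hj⟩ := exists_odd_pow_isPGroup x
  obtain ⟨mh, hmh, i, hi⟩ := exists_odd_pow_isPGroup h
  have h1 : x * h ^ mh * x⁻¹ = h ^ mh * w := by
    rw [conj_pow_of_central hxh hwc, hwpow mh hmh]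
  have h2 : x ^ mx * h ^ mh * (x ^ mx)⁻¹ = h ^ mh * w := by
    rw [conj_pow_left_of_central h1 hwc, hwpow mx hmx]
  -- `w` is a power of `h ^ mh`
  have hi0 : i ≠ 0 := by
    rintro rfl
    rw [pow_zero, orderOf_eq_one_iff] at hi
    rw [hi, one_mul, mul_one, mul_inv_cancel] at h2
    exact hw1 h2.symm
  have hwz : w ∈ Subgroup.zpowers (h ^ mh) := by
    have h3 : orderOf ((h ^ mh) ^ 2 ^ (i - 1)) = 2 := by
      rw [orderOf_pow' _ (by positivity), hi]
      have : 2 ^ i = 2 ^ (i - 1) * 2 := by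
        rw [← pow_succ]; congr 1; omega
      rw [this, Nat.gcd_eq_right (Dvd.intro _ rfl), Nat.mul_div_cancel_left _ (by positivity)]
    rw [← hU _ _ h3 hw2]
    exact Subgroup.npow_mem_zpowers _ _
  -- `x ^ mx` normalizes `zpowers (h ^ mh)`
  have hnorm : x ^ mx ∈ Subgroup.normalizer (Subgroup.zpowers (h ^ mh) : Set H) := by
    have hf : ∀ y ∈ Subgroup.zpowers (h ^ mh), x ^ mx * y * (x ^ mx)⁻¹ ∈ Subgroup.zpowers (h ^ mh) := by
      intro y hy
      obtain ⟨k, rfl⟩ := Subgroup.mem_zpowers_iff.mp hy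
      have : x ^ mx * (h ^ mh) ^ k * (x ^ mx)⁻¹ = (x ^ mx * h ^ mh * (x ^ mx)⁻¹) ^ k := by
        rw [conj_zpow]
      rw [this, h2]
      exact Subgroup.zpow_mem _ (Subgroup.mul_mem _ (Subgroup.mem_zpowers _) hwz) k
    have hb : ∀ y ∈ Subgroup.zpowers (h ^ mh), (x ^ mx)⁻¹ * y * (x ^ mx) ∈ Subgroup.zpowers (h ^ mh) := by
      intro y hy
      obtain ⟨k, rfl⟩ := Subgroup.mem_zpowers_iff.mp hy
      have e0 : (x ^ mx)⁻¹ * h ^ mh * x ^ mx = h ^ mh * w := by
        have e1 : h ^ mh = (x ^ mx)⁻¹ * (h ^ mh * w) * x ^ mx := by rw [← h2]; group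
        have e2 : (x ^ mx)⁻¹ * (h ^ mh * w) * x ^ mx = ((x ^ mx)⁻¹ * h ^ mh * x ^ mx) * w := by
          calc (x ^ mx)⁻¹ * (h ^ mh * w) * x ^ mx = (x ^ mx)⁻¹ * h ^ mh * (w * x ^ mx) := by group
            _ = (x ^ mx)⁻¹ * h ^ mh * (x ^ mx * w) := by rw [(hwc (x ^ mx)).eq]
            _ = ((x ^ mx)⁻¹ * h ^ mh * x ^ mx) * w := by group
        have e3 : (x ^ mx)⁻¹ * h ^ mh * x ^ mx = h ^ mh * w⁻¹ := by
          rw [eq_mul_inv_iff_mul_eq, ← e2, ← e1]
        rw [e3]
        congr 1
        exact inv_eq_of_mul_eq_one_left hww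
      have : (x ^ mx)⁻¹ * (h ^ mh) ^ k * (x ^ mx) = ((x ^ mx)⁻¹ * h ^ mh * (x ^ mx)) ^ k := by
        have := conj_zpow (a := (x ^ mx)⁻¹) (b := h ^ mh) (i := k)
        rw [inv_inv] at this
        exact this.symm
      rw [this, e0]
      exact Subgroup.zpow_mem _ (Subgroup.mul_mem _ (Subgroup.mem_zpowers _) hwz) k
    rw [Subgroup.mem_normalizer_iff]
    intro y
    constructor
    · exact hf y
    · intro hy
      have := hb _ hy
      have e : (x ^ mx)⁻¹ * (x ^ mx * y * (x ^ mx)⁻¹) * x ^ mx = y := by group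
      rwa [e] at this
  -- the 2-group generated
  have hP1 : IsPGroup 2 (Subgroup.zpowers (h ^ mh)) :=
    IsPGroup.of_card (n := i) (by rw [Nat.card_zpowers, hi])
  have hP2 : IsPGroup 2 (Subgroup.zpowers (x ^ mx)) :=
    IsPGroup.of_card (n := j) (by rw [Nat.card_zpowers, hj])
  have hP : IsPGroup 2 (Subgroup.zpowers (h ^ mh) ⊔ Subgroup.zpowers (x ^ mx) : Subgroup H) :=
    IsPGroup.to_sup_of_normal_left' hP1 hP2 (Subgroup.zpowers_le.mpr hnorm)
  have hcyc := isCyclic_of_isPGroup
    (hI.of_injective (Subgroup.subtype _) (Subgroup.subtype_injective _))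
    (hU.of_injective (Subgroup.subtype _) (Subgroup.subtype_injective _)) hP
  have hm1 : h ^ mh ∈ (Subgroup.zpowers (h ^ mh) ⊔ Subgroup.zpowers (x ^ mx) : Subgroup H) :=
    Subgroup.mem_sup_left (Subgroup.mem_zpowers _)
  have hm2 : x ^ mx ∈ (Subgroup.zpowers (h ^ mh) ⊔ Subgroup.zpowers (x ^ mx) : Subgroup H) :=
    Subgroup.mem_sup_right (Subgroup.mem_zpowers _)
  have hcomm : (⟨x ^ mx, hm2⟩ : (Subgroup.zpowers (h ^ mh) ⊔ Subgroup.zpowers (x ^ mx) : Subgroup H))
      * ⟨h ^ mh, hm1⟩ = ⟨h ^ mh, hm1⟩ * ⟨x ^ mx, hm2⟩ := by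
    have := hcyc
    exact (IsCyclic.commGroup).mul_comm _ _
  have hcomm' : x ^ mx * h ^ mh = h ^ mh * x ^ mx := congrArg Subtype.val hcomm
  rw [hcomm', mul_assoc, mul_inv_cancel, mul_one] at h2
  exact hw1 (by simpa using h2.symm)

/-- consequently `H` is abelian -/
theorem mul_comm_of_abelian_index_two [Finite H] (hI : InvSq H) (hU : UniqInv H)
    (A : Subgroup H) (hA : ∀ a ∈ A, ∀ b ∈ A, a * b = b * a) (hidx : A.index = 2) (x y : H) :
    x * y = y * x := by
  by_cases hx : x ∈ A
  · by_cases hy : y ∈ A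
    · exact hA x hx y hy
    · exact (commute_of_abelian_index_two hI hU A hA hidx y hx).symm
  · by_cases hy : y ∈ A
    · exact commute_of_abelian_index_two hI hU A hA hidx x hy
    · have h1 : x⁻¹ * y ∈ A := by
        rw [Subgroup.mul_mem_iff_of_index_two hidx]
        rw [Subgroup.inv_mem_iff]
        exact ⟨fun h => absurd h hx, fun h => absurd h hy⟩
      have h2 := commute_of_abelian_index_two hI hU A hA hidx x h1
      have e1 : x * y = x * x * (x⁻¹ * y) := by group
      have e2 : y * x = x * (x⁻¹ * y) * x := by group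
      rw [e1, e2, mul_assoc x (x⁻¹ * y) x, ← h2]
      group


/-- an involutive endomorphism with at most two fixed points inverts a subgroup of index 2
containing all `k⁻¹ φ k` -/
theorem inverts_of_index_two [Finite H] (φ : H →* H) (hinv : ∀ k, φ (φ k) = k)
    (A : Subgroup H) (hidx : A.index = 2) (hmem : ∀ k : H, k⁻¹ * φ k ∈ A)
    (hfix : ∀ a b c : H, φ a = a → φ b = b → φ c = c → a = b ∨ a = c ∨ b = c) :
    ∀ h ∈ A, φ h = h⁻¹ := by
  classical
  have : Fintype H := Fintype.ofFinite H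
  let f : H → H := fun k => k⁻¹ * φ k
  have hfib : ∀ b ∈ Finset.image f Finset.univ,
      (Finset.univ.filter (fun a => f a = b)).card ≤ 2 := by
    intro b _
    by_contra hlt
    rw [not_le, Finset.two_lt_card] at hlt
    obtain ⟨k₁, h₁, k₂, h₂, k₃, h₃, h12, h13, h23⟩ := hlt
    simp only [Finset.mem_filter, Finset.mem_univ, true_and] at h₁ h₂ h₃
    have hfx : ∀ k k' : H, f k = f k' → φ (k' * k⁻¹) = k' * k⁻¹ := by
      intro k k' hkk
      have e1 : φ k = k * f k := by simp only [f]; group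
      have e2 : φ k' = k' * f k' := by simp only [f]; group
      rw [map_mul, map_inv, e1, e2, hkk]
      group
    have hf1 : φ (k₁ * k₁⁻¹) = k₁ * k₁⁻¹ := hfx k₁ k₁ rfl
    have hf2 : φ (k₂ * k₁⁻¹) = k₂ * k₁⁻¹ := hfx k₁ k₂ (h₁.trans h₂.symm)
    have hf3 : φ (k₃ * k₁⁻¹) = k₃ * k₁⁻¹ := hfx k₁ k₃ (h₁.trans h₃.symm)
    rcases hfix _ _ _ hf1 hf2 hf3 with h | h | h
    · exact h12 (mul_right_cancel h)
    · exact h13 (mul_right_cancel h)
    · exact h23 (mul_right_cancel h)
  have h1 := Finset.card_le_mul_card_image (f := f) Finset.univ 2 hfib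
  rw [Finset.card_univ] at h1
  have h2 : A.index * Nat.card A = Nat.card H := A.index_mul_card
  rw [hidx, Nat.card_eq_fintype_card (α := H)] at h2
  let AF : Finset H := Finset.univ.filter (fun x => x ∈ A)
  have hAF : AF.card = Nat.card A := by
    rw [Nat.card_eq_fintype_card, Fintype.card_subtype]
  have hsub : Finset.image f Finset.univ ⊆ AF := by
    intro y hy
    rw [Finset.mem_image] at hy
    obtain ⟨k, _, rfl⟩ := hy
    simp only [AF, Finset.mem_filter, Finset.mem_univ, true_and]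
    exact hmem k
  have heq : Finset.image f Finset.univ = AF := by
    apply Finset.eq_of_subset_of_card_le hsub
    rw [hAF]
    omega
  intro h hh
  have hmemAF : h ∈ AF := by
    simp only [AF, Finset.mem_filter, Finset.mem_univ, true_and]; exact hh
  rw [← heq, Finset.mem_image] at hmemAF
  obtain ⟨k, _, rfl⟩ := hmemAF
  simp only [f]
  rw [map_mul, map_inv, hinv]
  group


/-- a group acting additively and semiregularly on the nonzero vectors of an odd-dimensional space
over `ZMod p`, `p` odd: inverted elements have square one -/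
theorem invSq_of_linear {p : ℕ} [Fact p.Prime] (hp2 : p ≠ 2) {V : Type*} [AddCommGroup V]
    [Module (ZMod p) V] [Finite V] {f : ℕ} (hcard : Nat.card V = p ^ f) (hf : Odd f)
    {K : Type*} [Group K] (r : K → V → V)
    (hadd : ∀ h x y, r h (x + y) = r h x + r h y)
    (hmul : ∀ h k x, r (h * k) x = r h (r k x))
    (hone : ∀ x, r 1 x = x)
    (hfix : ∀ h x, x ≠ 0 → r h x = x → h = 1) : InvSq K := by
  intro g w hgw
  by_contra hww
  have : Fintype V := Fintype.ofFinite V
  let L : K → (V →ₗ[ZMod p] V) := fun h =>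
    (AddMonoidHom.mk' (r h) (hadd h)).toZModLinearMap p
  have hL : ∀ (h : K) (x : V), L h x = r h x := fun _ _ => rfl
  have hLmul : ∀ h k : K, L (h * k) = L h ∘ₗ L k := by
    intro h k
    apply LinearMap.ext
    intro x
    rw [hL, LinearMap.comp_apply, hL, hL, hmul]
  have hLone : L 1 = LinearMap.id := by
    apply LinearMap.ext
    intro x
    rw [hL, hone]
    rfl
  have hfin : Module.finrank (ZMod p) V = f := by
    have h1 := Module.card_eq_pow_finrank (K := ZMod p) (V := V)
    rw [ZMod.card, ← Nat.card_eq_fintype_card, hcard] at h1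
    exact (Nat.pow_right_injective (Fact.out : p.Prime).two_le h1).symm
  have h2 : (2 : ZMod p) ≠ 0 := by
    intro h
    have h3 : ((2 : ℕ) : ZMod p) = 0 := by exact_mod_cast h
    rw [ZMod.natCast_eq_zero_iff] at h3
    exact hp2 ((Nat.prime_dvd_prime_iff_eq (Fact.out : p.Prime) Nat.prime_two).mp h3)
  have e1 : g * w = w⁻¹ * g := by rw [← hgw]; group
  have e2 : g * w⁻¹ = w * g := by
    have : g * w⁻¹ * g⁻¹ = w := by
      have := congrArg (fun z => z⁻¹) hgw
      simpa [mul_assoc] using this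
    calc g * w⁻¹ = (g * w⁻¹ * g⁻¹) * g := by group
      _ = w * g := by rw [this]
  have hanti : L g ∘ₗ (L w - L w⁻¹) = -((L w - L w⁻¹) ∘ₗ L g) := by
    rw [LinearMap.comp_sub, LinearMap.sub_comp, ← hLmul, ← hLmul, ← hLmul, ← hLmul, e1, e2]
    abel
  have hinj : Function.Injective (L w - L w⁻¹) := by
    rw [injective_iff_map_eq_zero]
    intro x hx
    by_contra hx0
    rw [LinearMap.sub_apply, sub_eq_zero, hL, hL] at hx
    have h4 : r (w * w) x = x := by
      rw [hmul, hx, ← hmul, mul_inv_cancel, hone]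
    exact hww (hfix _ _ hx0 h4)
  have heven := even_finrank_of_anticomm' h2 (L g) (L g⁻¹) (L w - L w⁻¹)
    (by rw [← hLmul, mul_inv_cancel, hLone]) hinj hanti
  rw [hfin] at heven
  exact (Nat.not_even_iff_odd.mpr hf) heven

end Cfsg.Agent.Helper11.Sh3
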