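import Mathlib
import Cfsg.Agent.Helper4.Sharp3Even
import Cfsg.Agent.Helper11.Sh3A
import Cfsg.Agent.Helper11.Sh3B

/-!
# Sharply 3-transitive groups of degree `p^f + 1`, `p` odd, `f` odd (part C)

Setup: `G ≤ Perm α` sharply 3-transitive, `o : α` a point, the complement `{x // x ≠ o}` carries a
near-field structure for which the stabilizer of `o` is the group of maps `x ↦ x * a + b`.
We study the two-point stabilizer `H0 G o` of `o` and `0`.
-/

set_option autoImplicit false
set_option linter.unusedSectionVars false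

namespace Cfsg.Agent.Helper11.Sh3

open Equiv Equiv.Perm MulAction Cfsg Cfsg.Agent.Helper4 Cfsg.Agent.Helper4.Sharp3Even

variable {α : Type*} [Fintype α] [DecidableEq α] (G : Subgroup (Perm α)) (o : α)
  [NearField {x : α // x ≠ o}]

/-- the standing hypotheses -/
structure Setup : Prop where
  h3 : IsMultiplyPretransitive G α 3
  hsharp : ∀ x : Fin 3 ↪ α, stabilizer G x = ⊥
  hH : ∀ σ : Perm {x : α // x ≠ o}, σ ∈ Hres G o ↔
      ∃ a b : {x : α // x ≠ o}, a ≠ 0 ∧ ∀ x, σ x = x * a + b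

/-- the stabilizer of `o` and `0` -/
def H0 : Subgroup (Perm α) :=
  G ⊓ stabilizer (Perm α) o ⊓ stabilizer (Perm α) ((0 : {x : α // x ≠ o}) : α)

variable {G o}

theorem mem_H0 {h : Perm α} : h ∈ H0 G o ↔ h ∈ G ∧ h o = o ∧
    h ((0 : {x : α // x ≠ o}) : α) = ((0 : {x : α // x ≠ o}) : α) := by
  simp only [H0, Subgroup.mem_inf, mem_stabilizer_iff, Perm.smul_def, and_assoc]

theorem zero_ne_o : ((0 : {x : α // x ≠ o}) : α) ≠ o := (0 : {x : α // x ≠ o}).2

theorem coe_ne_o (x : {x : α // x ≠ o}) : (x : α) ≠ o := x.2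

theorem Setup.affine (S : Setup G o) {g : Perm α} (hg : g ∈ G) (hgo : g o = o) :
    ∃ a b : {x : α // x ≠ o}, a ≠ 0 ∧
      ∀ x : {x : α // x ≠ o}, g x = ((x * a + b : {x : α // x ≠ o}) : α) := by
  obtain ⟨a, b, ha, hab⟩ := (S.hH _).mp (resP_mem G o hg hgo)
  exact ⟨a, b, ha, fun x => by rw [← hab x]; rfl⟩

theorem Setup.exists_affine (S : Setup G o) (a b : {x : α // x ≠ o}) (ha : a ≠ 0) :
    ∃ g ∈ G, g o = o ∧ ∀ x : {x : α // x ≠ o}, g x = ((x * a + b : {x : α // x ≠ o}) : α) := by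
  obtain ⟨g, hg, hgp, hσ⟩ := (S.hH (nfAffineMap a b ha)).mpr ⟨a, b, ha, fun _ => rfl⟩
  exact ⟨g, hg, hgp, fun x => by rw [← hσ x]; rfl⟩

/-- elements of `H0` are right multiplications -/
theorem Setup.mul_of_mem (S : Setup G o) {h : Perm α} (hh : h ∈ H0 G o) :
    ∃ a : {x : α // x ≠ o}, a ≠ 0 ∧ ∀ x : {x : α // x ≠ o}, h x = ((x * a : {x : α // x ≠ o}) : α) := by
  obtain ⟨hG, ho, h0⟩ := mem_H0.mp hh
  obtain ⟨a, b, ha, hab⟩ := S.affine hG ho
  have hb : b = 0 := by
    have := hab 0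
    rw [h0, nf_zero_mul, zero_add] at this
    exact (Subtype.ext this).symm
  subst hb
  exact ⟨a, ha, fun x => by rw [hab x, add_zero]⟩

theorem Setup.exists_mem (S : Setup G o) (a : {x : α // x ≠ o}) (ha : a ≠ 0) :
    ∃ h ∈ H0 G o, ∀ x : {x : α // x ≠ o}, h x = ((x * a : {x : α // x ≠ o}) : α) := by
  obtain ⟨g, hg, hgo, hgx⟩ := S.exists_affine a 0 ha
  refine ⟨g, mem_H0.mpr ⟨hg, hgo, ?_⟩, fun x => by rw [hgx x, add_zero]⟩
  rw [hgx 0, nf_zero_mul, add_zero]

/-- an element of `H0` fixing a nonzero point is trivial -/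
theorem Setup.eq_one_of_fix (S : Setup G o) {h : Perm α} (hh : h ∈ H0 G o)
    {x : {x : α // x ≠ o}} (hx : x ≠ 0) (hfix : h x = x) : h = 1 := by
  obtain ⟨hG, ho, h0⟩ := mem_H0.mp hh
  exact eq_one_of_three G S.hsharp hG (Ne.symm zero_ne_o) (Ne.symm x.2)
    (fun e => hx (Subtype.ext e).symm) ho h0 hfix

/-- elements of `H0` agreeing at a nonzero point are equal -/
theorem Setup.eq_of_apply_eq (S : Setup G o) {h k : Perm α} (hh : h ∈ H0 G o) (hk : k ∈ H0 G o)
    {x : {x : α // x ≠ o}} (hx : x ≠ 0) (hfix : h x = k x) : h = k := by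
  have h1 : k⁻¹ * h ∈ H0 G o := (H0 G o).mul_mem ((H0 G o).inv_mem hk) hh
  have h2 : (k⁻¹ * h) x = x := by
    rw [Perm.mul_apply, hfix, Perm.inv_def, Equiv.symm_apply_apply]
  have := S.eq_one_of_fix h1 hx h2
  rwa [inv_mul_eq_one, eq_comm] at this

/-- additivity of elements of `H0` -/
theorem Setup.map_add (S : Setup G o) {h : Perm α} (hh : h ∈ H0 G o)
    (x y : {x : α // x ≠ o}) :
    resP o h (mem_H0.mp hh).2.1 (x + y) =
      resP o h (mem_H0.mp hh).2.1 x + resP o h (mem_H0.mp hh).2.1 y := by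
  obtain ⟨a, _, ha⟩ := S.mul_of_mem hh
  apply Subtype.ext
  have e1 : ∀ z : {x : α // x ≠ o}, resP o h (mem_H0.mp hh).2.1 z = z * a := by
    intro z
    apply Subtype.ext
    rw [resP_apply, ha z]
  rw [e1, e1, e1, NearField.right_distrib]


/-- additive structure of a finite near-field of order `p ^ f` -/
theorem nf_char {β : Type*} [NearField β] [Fintype β] {p f : ℕ} (hp : p.Prime)
    (hc : Fintype.card β = p ^ f) : (∀ x y : β, x + y = y + x) ∧ ∀ x : β, p • x = 0 := by
  obtain ⟨p', j, hp', hj, hcard, hcomm, hsmul⟩ := nf_finite_structure (F := β)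
  rw [Nat.card_eq_fintype_card, hc] at hcard
  have h1 : p' ∣ p ^ f := by rw [hcard]; exact dvd_pow_self p' (by omega)
  have h2 := (Nat.prime_dvd_prime_iff_eq hp' hp).mp (hp'.dvd_of_dvd_pow h1)
  subst h2
  exact ⟨hcomm, hsmul⟩

theorem nf_one_ne_zero' : (1 : {x : α // x ≠ o}) ≠ 0 := fun h => NearField.zero_ne_one h.symm

/-- a nontrivial involution of `H0` is negation -/
theorem Setup.neg_of_involution (S : Setup G o)
    (hcomm : ∀ x y : {x : α // x ≠ o}, x + y = y + x) {h : Perm α} (hh : h ∈ H0 G o)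
    (h2 : h * h = 1) (h1 : h ≠ 1) (x : {x : α // x ≠ o}) :
    h x = ((-x : {x : α // x ≠ o}) : α) := by
  have ho := (mem_H0.mp hh).2.1
  have hfix : h ((x + resP o h ho x : {x : α // x ≠ o}) : α) =
      ((x + resP o h ho x : {x : α // x ≠ o}) : α) := by
    have e1 := S.map_add hh x (resP o h ho x)
    have e2 : resP o h ho (resP o h ho x) = x := by
      apply Subtype.ext
      rw [resP_apply, resP_apply, ← Perm.mul_apply, h2, Perm.one_apply]
    rw [e2, hcomm (resP o h ho x) x] at e1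
    have := congrArg Subtype.val e1
    rwa [resP_apply] at this
  have hz : x + resP o h ho x = 0 := by
    by_contra hne
    exact h1 (S.eq_one_of_fix hh hne hfix)
  have := eq_neg_of_add_eq_zero_right hz
  rw [← this]
  rfl

theorem Setup.uniqInv (S : Setup G o) (hcomm : ∀ x y : {x : α // x ≠ o}, x + y = y + x) :
    UniqInv ↥(H0 G o) := by
  intro x y hx hy
  have hx2 : x.1 * x.1 = 1 := by
    have := pow_orderOf_eq_one x
    rw [hx, pow_two] at this
    exact congrArg Subtype.val this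
  have hy2 : y.1 * y.1 = 1 := by
    have := pow_orderOf_eq_one y
    rw [hy, pow_two] at this
    exact congrArg Subtype.val this
  have hx1 : x.1 ≠ 1 := by
    intro h
    have : x = 1 := Subtype.ext h
    rw [this, orderOf_one] at hx
    omega
  have hy1 : y.1 ≠ 1 := by
    intro h
    have : y = 1 := Subtype.ext h
    rw [this, orderOf_one] at hy
    omega
  apply Subtype.ext
  apply S.eq_of_apply_eq x.2 y.2 nf_one_ne_zero'
  rw [S.neg_of_involution hcomm x.2 hx2 hx1, S.neg_of_involution hcomm y.2 hy2 hy1]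

/-- when `f` is odd, an element of `H0` inverted by another has square one -/
theorem Setup.invSq (S : Setup G o) {p f : ℕ} (hp : p.Prime) (hp2 : p ≠ 2) (hf : Odd f)
    (hc : Fintype.card {x : α // x ≠ o} = p ^ f) : InvSq ↥(H0 G o) := by
  obtain ⟨hcomm, hsmul⟩ := nf_char hp hc
  have : Fact p.Prime := ⟨hp⟩
  refine @invSq_of_linear p _ hp2 {x : α // x ≠ o}
    (@AddCommGroup.mk {x : α // x ≠ o} inferInstance hcomm)
    (@AddCommGroup.zmodModule p {x : α // x ≠ o}
      (@AddCommGroup.mk {x : α // x ≠ o} inferInstance hcomm) hsmul) _ f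
    (by rw [Nat.card_eq_fintype_card]; exact hc) hf ↥(H0 G o) _
    (fun h x => resP o h.1 (mem_H0.mp h.2).2.1 x) ?_ ?_ ?_ ?_
  · intro h x y
    exact S.map_add h.2 x y
  · intro h k x
    apply Subtype.ext
    rfl
  · intro x
    apply Subtype.ext
    rfl
  · intro h x hx hfix
    apply Subtype.ext
    exact S.eq_one_of_fix h.2 hx (congrArg Subtype.val hfix)

end Cfsg.Agent.Helper11.Sh3
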