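import Mathlib
import Cfsg.Agent.Helper11.Sh3C

/-!
# Sharply 3-transitive groups of degree `p^f + 1`, `p` odd, `f` odd (part D)

Order of the two-point stabilizer, an odd permutation in it, and the structure theorem:
`H0` is abelian and the swapping involution `s` inverts all squares of `H0`.
-/

set_option autoImplicit false
set_option linter.unusedSectionVars false

namespace Cfsg.Agent.Helper11.Sh3

open Equiv Equiv.Perm MulAction Cfsg Cfsg.Agent.Helper4 Cfsg.Agent.Helper4.Sharp3Even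

variable {α : Type*} [Fintype α] [DecidableEq α] {G : Subgroup (Perm α)} {o : α}
  [NearField {x : α // x ≠ o}]

theorem card_compl_o : Fintype.card {x : α // x ≠ o} + 1 = Fintype.card α := by
  have h1 := Fintype.card_subtype_compl (fun x : α => x = o)
  rw [Fintype.card_subtype_eq] at h1
  have h2 : 0 < Fintype.card α := Fintype.card_pos_iff.mpr ⟨o⟩
  have h3 : Fintype.card {x : α // x ≠ o} = Fintype.card α - 1 := h1
  omega

/-- `|H0| + 2 = |α|` -/
theorem Setup.card_H0 (S : Setup G o) : Nat.card ↥(H0 G o) + 2 = Fintype.card α := by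
  classical
  have hbij : Function.Bijective (fun h : ↥(H0 G o) =>
      (⟨resP o h.1 (mem_H0.mp h.2).2.1 1, by
        intro h0
        have h1 : h.1 ((1 : {x : α // x ≠ o}) : α) = ((0 : {x : α // x ≠ o}) : α) :=
          congrArg Subtype.val h0
        have h2 := (mem_H0.mp h.2).2.2
        exact nf_one_ne_zero' (Subtype.ext (h.1.injective (h1.trans h2.symm)))⟩ :
        {x : {x : α // x ≠ o} // x ≠ 0})) := by
    constructor
    · intro h k hhk
      have h1 : h.1 ((1 : {x : α // x ≠ o}) : α) = k.1 ((1 : {x : α // x ≠ o}) : α) :=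
        congrArg (fun z : {x : {x : α // x ≠ o} // x ≠ 0} => ((z : {x : α // x ≠ o}) : α)) hhk
      exact Subtype.ext (S.eq_of_apply_eq h.2 k.2 nf_one_ne_zero' h1)
    · intro y
      obtain ⟨h, hh, hx⟩ := S.exists_mem y.1 y.2
      refine ⟨⟨h, hh⟩, ?_⟩
      apply Subtype.ext
      apply Subtype.ext
      show h ((1 : {x : α // x ≠ o}) : α) = _
      rw [hx 1, one_mul]
  rw [Nat.card_eq_of_bijective _ hbij, Nat.card_eq_fintype_card]
  have h1 := Fintype.card_subtype_compl (fun x : {x : α // x ≠ o} => x = 0)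
  rw [Fintype.card_subtype_eq] at h1
  have h3 : Fintype.card {x : {x : α // x ≠ o} // x ≠ 0} = Fintype.card {x : α // x ≠ o} - 1 := h1
  have h4 := card_compl_o (α := α) (o := o)
  have h5 : 0 < Fintype.card {x : α // x ≠ o} := Fintype.card_pos_iff.mpr ⟨0⟩
  omega

/-- support of a nonidentity element of `H0` -/
theorem Setup.card_support (S : Setup G o) {h : Perm α} (hh : h ∈ H0 G o) (h1 : h ≠ 1) :
    h.support.card + 2 = Fintype.card α := by
  have hsupp : h.support = Finset.univ \ {o, ((0 : {x : α // x ≠ o}) : α)} := by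
    ext x
    rw [Perm.mem_support, Finset.mem_sdiff, Finset.mem_insert, Finset.mem_singleton]
    constructor
    · intro hx
      refine ⟨Finset.mem_univ _, ?_⟩
      rintro (rfl | rfl)
      · exact hx (mem_H0.mp hh).2.1
      · exact hx (mem_H0.mp hh).2.2
    · rintro ⟨-, hx⟩ hfix
      push Not at hx
      have hx0 : (⟨x, hx.1⟩ : {x : α // x ≠ o}) ≠ 0 := fun e => hx.2 (congrArg Subtype.val e)
      exact h1 (S.eq_one_of_fix hh hx0 hfix)
  rw [hsupp, Finset.card_sdiff, Finset.inter_univ, Finset.card_univ,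
    Finset.card_pair (Ne.symm zero_ne_o)]
  have h2 : 2 ≤ Fintype.card α := by
    have := card_compl_o (α := α) (o := o)
    have h5 : 0 < Fintype.card {x : α // x ≠ o} := Fintype.card_pos_iff.mpr ⟨0⟩
    omega
  omega

/-- powers of elements of `H0` fixing a moved point are trivial -/
theorem Setup.pow_eq_one_of_fix (S : Setup G o) {h : Perm α} (hh : h ∈ H0 G o) (k : ℕ) (x : α)
    (hx : h x ≠ x) (hfix : (h ^ k) x = x) : h ^ k = 1 := by
  have hxo : x ≠ o := fun e => hx (e ▸ (mem_H0.mp hh).2.1)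
  have hx0 : (⟨x, hxo⟩ : {x : α // x ≠ o}) ≠ 0 := by
    intro e
    have : x = ((0 : {x : α // x ≠ o}) : α) := congrArg Subtype.val e
    exact hx (this ▸ (mem_H0.mp hh).2.2)
  exact S.eq_one_of_fix ((H0 G o).pow_mem hh k) hx0 hfix


/-- an odd permutation in `H0` -/
theorem Setup.exists_odd (S : Setup G o) {p f : ℕ} (hp : p.Prime) (hp2 : p ≠ 2) (hf : Odd f)
    (hα : Fintype.card α = p ^ f + 1) : ∃ γ ∈ H0 G o, Perm.sign γ = -1 := by
  have hc : Fintype.card {x : α // x ≠ o} = p ^ f := by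
    have := card_compl_o (α := α) (o := o); omega
  obtain ⟨hcomm, -⟩ := nf_char hp hc
  have hI := S.invSq hp hp2 hf hc
  have hU := S.uniqInv hcomm
  have : Fact (Nat.Prime 2) := ⟨Nat.prime_two⟩
  obtain ⟨P⟩ : Nonempty (Sylow 2 ↥(H0 G o)) := inferInstance
  have hcyc : IsCyclic ↥(P : Subgroup ↥(H0 G o)) :=
    isCyclic_of_isPGroup (hI.of_injective (Subgroup.subtype _) (Subgroup.subtype_injective _))
      (hU.of_injective (Subgroup.subtype _) (Subgroup.subtype_injective _)) P.isPGroup'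
  obtain ⟨γ, hγ⟩ := hcyc.exists_generator
  have hord : orderOf γ = Nat.card ↥(P : Subgroup ↥(H0 G o)) :=
    orderOf_eq_card_of_forall_mem_zpowers hγ
  rw [P.card_eq_multiplicity] at hord
  obtain ⟨N, hNdef⟩ : ∃ N, N = Nat.card ↥(H0 G o) := ⟨_, rfl⟩
  rw [← hNdef] at hord
  have hN : N + 2 = p ^ f + 1 := by rw [hNdef, S.card_H0, hα]
  have hpodd : Odd (p ^ f) := (hp.odd_of_ne_two hp2).pow
  have hNeven : Even N := by
    obtain ⟨k, hk⟩ := hpodd
    exact ⟨k, by omega⟩
  have hN0 : N ≠ 0 := by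
    have : 2 ≤ p ^ f := by
      have h1 : 1 ≤ f := by
        rcases hf with ⟨k, rfl⟩; omega
      calc 2 ≤ p := hp.two_le
        _ = p ^ 1 := (pow_one p).symm
        _ ≤ p ^ f := Nat.pow_le_pow_right hp.pos h1
    omega
  have he : 1 ≤ N.factorization 2 := by
    have h2 : 2 ∣ N := hNeven.two_dvd
    exact (Nat.Prime.dvd_iff_one_le_factorization Nat.prime_two hN0).mp h2
  have hm : Odd (N / 2 ^ N.factorization 2) := by
    rw [← Nat.not_even_iff_odd, even_iff_two_dvd]
    exact Nat.not_dvd_ordCompl Nat.prime_two hN0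
  have hNm : N = (N / 2 ^ N.factorization 2) * 2 ^ N.factorization 2 := by
    rw [mul_comm]; exact (Nat.ordProj_mul_ordCompl_eq_self N 2).symm
  have hσord : orderOf ((γ : ↥(H0 G o)) : Perm α) = 2 ^ N.factorization 2 := by
    rw [Subgroup.orderOf_coe, Subgroup.orderOf_coe, hord]
  have hσ1 : ((γ : ↥(H0 G o)) : Perm α) ≠ 1 := by
    intro h
    rw [h, orderOf_one] at hσord
    have : 2 ≤ 2 ^ N.factorization 2 := by
      calc 2 = 2 ^ 1 := by norm_num
        _ ≤ 2 ^ N.factorization 2 := Nat.pow_le_pow_right (by norm_num) he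
    omega
  refine ⟨((γ : ↥(H0 G o)) : Perm α), (γ : ↥(H0 G o)).2, ?_⟩
  apply sign_eq_neg_one_of_semiregular _ (S.pow_eq_one_of_fix (γ : ↥(H0 G o)).2) ?_ hm ?_
  · rw [hσord]
    exact (Nat.even_pow.mpr ⟨even_two, by omega⟩)
  · rw [hσord, ← hNm]
    have := S.card_support (γ : ↥(H0 G o)).2 hσ1
    rw [hα] at this
    omega


/-- structure theorem: `H0` is abelian and `s` inverts its squares -/
theorem Setup.structure (S : Setup G o) {p f : ℕ} (hp : p.Prime) (hp2 : p ≠ 2) (hf : Odd f)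
    (hα : Fintype.card α = p ^ f + 1) {s : Perm α} (hsG : s ∈ G)
    (hso : s o = ((0 : {x : α // x ≠ o}) : α)) (hs0 : s ((0 : {x : α // x ≠ o}) : α) = o)
    (hs1 : s ((1 : {x : α // x ≠ o}) : α) = ((1 : {x : α // x ≠ o}) : α)) :
    (∀ h ∈ H0 G o, ∀ k ∈ H0 G o, h * k = k * h) ∧
    (∀ h ∈ H0 G o, s * (h * h) * s⁻¹ = (h * h)⁻¹) := by
  have hc : Fintype.card {x : α // x ≠ o} = p ^ f := by
    have := card_compl_o (α := α) (o := o); omega
  obtain ⟨hcomm, -⟩ := nf_char hp hc
  have hI := S.invSq hp hp2 hf hc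
  have hU := S.uniqInv hcomm
  have h01' : ((0 : {x : α // x ≠ o}) : α) ≠ ((1 : {x : α // x ≠ o}) : α) :=
    fun h => nf_one_ne_zero' (Subtype.ext h).symm
  have hss : s * s = 1 := by
    refine eq_one_of_three G S.hsharp (G.mul_mem hsG hsG)
      (Ne.symm zero_ne_o) (Ne.symm (1 : {x : α // x ≠ o}).2) h01' ?_ ?_ ?_
    · rw [Perm.mul_apply, hso, hs0]
    · rw [Perm.mul_apply, hs0, hso]
    · rw [Perm.mul_apply, hs1, hs1]
  have hsinv : s⁻¹ = s := inv_eq_of_mul_eq_one_left hss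
  have hsne : s ≠ 1 := by
    intro h
    rw [h] at hso
    exact zero_ne_o hso.symm
  have hconj_mem : ∀ h : Perm α, h ∈ H0 G o → s * h * s⁻¹ ∈ H0 G o := by
    intro h hh
    obtain ⟨hG, hp', h0⟩ := mem_H0.mp hh
    refine mem_H0.mpr ⟨G.mul_mem (G.mul_mem hsG hG) (G.inv_mem hsG), ?_, ?_⟩
    · rw [hsinv, Perm.mul_apply, Perm.mul_apply, hso, h0, hs0]
    · rw [hsinv, Perm.mul_apply, Perm.mul_apply, hs0, hp', hso]
  let φ : ↥(H0 G o) →* ↥(H0 G o) :=
    { toFun := fun h => ⟨s * h.1 * s⁻¹, hconj_mem h.1 h.2⟩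
      map_one' := by
        apply Subtype.ext
        show s * (1 : Perm α) * s⁻¹ = 1
        rw [mul_one, mul_inv_cancel]
      map_mul' := fun a b => by
        apply Subtype.ext
        show s * (a.1 * b.1) * s⁻¹ = (s * a.1 * s⁻¹) * (s * b.1 * s⁻¹)
        group }
  have hφ : ∀ h : ↥(H0 G o), (φ h).1 = s * h.1 * s⁻¹ := fun _ => rfl
  have hinvφ : ∀ k, φ (φ k) = k := by
    intro h
    apply Subtype.ext
    show s * (s * h.1 * s⁻¹) * s⁻¹ = h.1
    have e1 : s * (s * h.1 * s⁻¹) * s⁻¹ = (s * s) * h.1 * (s * s)⁻¹ := by group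
    rw [e1, hss, one_mul, inv_one, mul_one]
  -- the sign character
  let sgn : ↥(H0 G o) →* ℤˣ := Perm.sign.comp (H0 G o).subtype
  have hsgn : ∀ h : ↥(H0 G o), sgn h = Perm.sign h.1 := fun _ => rfl
  obtain ⟨γ, hγ, hγs⟩ := S.exists_odd hp hp2 hf hα
  have hrange : sgn.range = ⊤ := by
    rw [eq_top_iff]
    intro u _
    rcases Int.units_eq_one_or u with rfl | rfl
    · exact Subgroup.one_mem _
    · exact ⟨⟨γ, hγ⟩, hγs⟩
  have hidx : sgn.ker.index = 2 := by
    rw [Subgroup.index_ker, hrange, Subgroup.card_top, Nat.card_eq_fintype_card,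
      Fintype.card_units_int]
  have hmem : ∀ k : ↥(H0 G o), k⁻¹ * φ k ∈ sgn.ker := by
    intro k
    rw [MonoidHom.mem_ker, hsgn]
    show Perm.sign ((k.1)⁻¹ * (s * k.1 * s⁻¹)) = 1
    rw [map_mul, map_mul, map_mul, map_inv, map_inv, mul_comm (Perm.sign s), mul_assoc,
      mul_inv_cancel, mul_one, inv_mul_cancel]
  have hfix : ∀ a b c : ↥(H0 G o), φ a = a → φ b = b → φ c = c → a = b ∨ a = c ∨ b = c := by
    intro a b c ha hb hc'
    have hfixpt : ∀ k : ↥(H0 G o), φ k = k →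
        s (k.1 ((1 : {x : α // x ≠ o}) : α)) = k.1 ((1 : {x : α // x ≠ o}) : α) := by
      intro k hk
      have h1 : s * k.1 * s⁻¹ = k.1 := congrArg Subtype.val hk
      have h2 : s * k.1 = k.1 * s := mul_inv_eq_iff_eq_mul.mp h1
      rw [← Perm.mul_apply, h2, Perm.mul_apply, hs1]
    have heq : ∀ k l : ↥(H0 G o), k.1 ((1 : {x : α // x ≠ o}) : α) =
        l.1 ((1 : {x : α // x ≠ o}) : α) → k = l := fun k l h =>
      Subtype.ext (S.eq_of_apply_eq k.2 l.2 nf_one_ne_zero' h)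
    by_contra hne
    push Not at hne
    obtain ⟨hab, hac, hbc⟩ := hne
    apply hsne
    exact eq_one_of_three G S.hsharp hsG (fun h => hab (heq _ _ h)) (fun h => hac (heq _ _ h))
      (fun h => hbc (heq _ _ h)) (hfixpt a ha) (hfixpt b hb) (hfixpt c hc')
  have hinvA := inverts_of_index_two φ hinvφ sgn.ker hidx hmem hfix
  have hAab : ∀ a ∈ sgn.ker, ∀ b ∈ sgn.ker, a * b = b * a := by
    intro a ha b hb
    have h1 := hinvA (a * b) (Subgroup.mul_mem _ ha hb)
    rw [map_mul, hinvA a ha, hinvA b hb, mul_inv_rev] at h1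
    have h2 := congrArg (fun z => z⁻¹) h1
    have h3 : b * a = a * b := by simpa [mul_inv_rev] using h2
    exact h3.symm
  have hab := mul_comm_of_abelian_index_two hI hU sgn.ker hAab hidx
  refine ⟨fun h hh k hk => congrArg Subtype.val (hab ⟨h, hh⟩ ⟨k, hk⟩), fun h hh => ?_⟩
  have h1 := hinvA (⟨h, hh⟩ * ⟨h, hh⟩) (Subgroup.mul_self_mem_of_index_two hidx _)
  exact congrArg Subtype.val h1

end Cfsg.Agent.Helper11.Sh3
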