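import Mathlib

/-!
# A functional equation characterising inversion on a field (part E)

If `σ` is multiplicative on nonzero elements, involutive, inverts squares and satisfies
`σ (1 - σ x) = 1 - σ (1 - x)`, then `σ x = x⁻¹`.
-/

set_option autoImplicit false

namespace Cfsg.Agent.Helper11.Sh3

theorem inv_of_functional {F : Type*} [Field F] (h2 : (2 : F) ≠ 0) (σ : F → F)
    (hmul : ∀ a x, a ≠ 0 → x ≠ 0 → σ (a * x) = σ a * σ x)
    (hone : σ 1 = 1) (hinvol : ∀ x, x ≠ 0 → σ (σ x) = x)
    (hsq : ∀ a, a ≠ 0 → σ (a * a) = (a * a)⁻¹)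
    (hFE : ∀ x, x ≠ 0 → x ≠ 1 → σ (1 - σ x) = 1 - σ (1 - x)) :
    ∀ x, x ≠ 0 → σ x = x⁻¹ := by
  have hm1 : (-1 : F) ≠ 0 := neg_ne_zero.mpr one_ne_zero
  -- σ (-1) = -1
  have hneg : σ (-1) = -1 := by
    have h1 : σ (-1) * σ (-1) = 1 := by
      rw [← hmul _ _ hm1 hm1]
      simp [hone]
    have h3 : (σ (-1) - 1) * (σ (-1) + 1) = 0 := by linear_combination h1
    rcases mul_eq_zero.mp h3 with h4 | h4
    · exfalso
      have h5 : σ (-1) = σ 1 := by rw [hone]; exact sub_eq_zero.mp h4
      have h6 := congrArg σ h5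
      rw [hinvol _ hm1, hinvol _ one_ne_zero] at h6
      apply h2
      have : (2 : F) = 1 - (-1) := by ring
      rw [this, h6]; ring
    · exact eq_neg_of_add_eq_zero_left h4
  have hinv : ∀ x, x ≠ 0 → σ x⁻¹ = (σ x)⁻¹ := by
    intro x hx
    have h1 : σ x * σ x⁻¹ = 1 := by
      rw [← hmul _ _ hx (inv_ne_zero hx), mul_inv_cancel₀ hx, hone]
    exact eq_inv_of_mul_eq_one_right h1
  -- the predicate
  let P : F → Prop := fun x => x = 0 ∨ σ x = x⁻¹
  have hP0 : P 0 := Or.inl rfl
  have hPmul : ∀ a b, P a → P b → P (a * b) := by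
    intro a b ha hb
    rcases ha with rfl | ha
    · left; simp
    rcases hb with rfl | hb
    · left; simp
    by_cases ha0 : a = 0
    · left; simp [ha0]
    by_cases hb0 : b = 0
    · left; simp [hb0]
    right
    rw [hmul _ _ ha0 hb0, ha, hb, mul_inv]
  have hPneg1 : P (-1) := by
    right
    rw [hneg]
    norm_num
  have hPinv : ∀ a, P a → P a⁻¹ := by
    intro a ha
    by_cases ha0 : a = 0
    · left; simp [ha0]
    rcases ha with rfl | ha
    · exact absurd rfl ha0
    right
    rw [hinv _ ha0, ha]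
  have hPsub : ∀ x, P x → P (1 - x) := by
    intro x hx
    by_cases hx0 : x = 0
    · right; rw [hx0, sub_zero, hone, inv_one]
    by_cases hx1 : x = 1
    · left; rw [hx1, sub_self]
    rcases hx with rfl | hx
    · exact absurd rfl hx0
    right
    have h1x : 1 - x ≠ 0 := sub_ne_zero.mpr (Ne.symm hx1)
    have hfe := hFE x hx0 hx1
    rw [hx] at hfe
    have e1 : 1 - x⁻¹ = (-1) * ((1 - x) * x⁻¹) := by
      field_simp
      ring
    have e2 : σ (1 - x⁻¹) = -(σ (1 - x) * x) := by
      rw [e1, hmul _ _ hm1 (mul_ne_zero h1x (inv_ne_zero hx0)), hneg,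
        hmul _ _ h1x (inv_ne_zero hx0), hinv _ hx0, hx, inv_inv]
      ring
    rw [e2] at hfe
    have h3 : σ (1 - x) * (1 - x) = 1 := by linear_combination hfe
    exact eq_inv_of_mul_eq_one_left h3
  have hPneg : ∀ a, P a → P (-a) := by
    intro a ha
    have := hPmul _ _ hPneg1 ha
    rwa [neg_one_mul] at this
  have hPadd : ∀ a b, P a → P b → P (a + b) := by
    intro a b ha hb
    by_cases ha0 : a = 0
    · rw [ha0, zero_add]; exact hb
    have hc : P (-(b * a⁻¹)) := hPneg _ (hPmul _ _ hb (hPinv _ ha))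
    have h1 := hPmul _ _ ha (hPsub _ hc)
    have e : a * (1 - -(b * a⁻¹)) = a + b := by
      field_simp
      ring
    rwa [e] at h1
  have hPsq : ∀ a : F, P (a * a) := by
    intro a
    by_cases ha0 : a = 0
    · left; simp [ha0]
    · right; exact hsq a ha0
  intro x hx
  have hPx : P x := by
    have e : x = ((x + 1) / 2) * ((x + 1) / 2) + -(((x - 1) / 2) * ((x - 1) / 2)) := by
      field_simp
      ring
    rw [e]
    exact hPadd _ _ (hPsq _) (hPneg _ (hPsq _))
  rcases hPx with h | h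
  · exact absurd h hx
  · exact h

end Cfsg.Agent.Helper11.Sh3
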