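import Mathlib
import Cfsg.Agent.Helper4.Sharp3Even
import Cfsg.Agent.Helper11.Sh3E

/-!
# The swapping involution is inversion (part F)

Abstract projective-line setup over a field `F` of characteristic not two: if the involution `s`
swapping `∞` and `0` and fixing `1` inverts the squares of the two-point stabilizer, then it acts as
`x ↦ x⁻¹`.
-/

set_option autoImplicit false
set_option linter.unusedSectionVars false

namespace Cfsg.Agent.Helper11.Sh3

open Equiv Equiv.Perm MulAction Cfsg.Agent.Helper4.Sharp3Even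

theorem inversion_of_structure {F : Type*} [Field F] {α : Type*} [Fintype α] [DecidableEq α]
    (G : Subgroup (Perm α)) (hsharp : ∀ x : Fin 3 ↪ α, stabilizer G x = ⊥) (o : α) (j : F → α)
    (hj : Function.Injective j) (hjo : ∀ x, j x ≠ o) (hcov : ∀ y, y ≠ o → ∃ x, j x = y)
    (h2 : (2 : F) ≠ 0)
    (hB : ∀ g ∈ G, g o = o → ∃ a b : F, a ≠ 0 ∧ ∀ x, g (j x) = j (a * x + b))
    (hA : ∀ a b : F, a ≠ 0 → ∃ g ∈ G, g o = o ∧ ∀ x, g (j x) = j (a * x + b))
    (s : Perm α) (hsG : s ∈ G) (hso : s o = j 0) (hs0 : s (j 0) = o) (hs1 : s (j 1) = j 1)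
    (hsq : ∀ h ∈ G, h o = o → h (j 0) = j 0 → s * (h * h) * s⁻¹ = (h * h)⁻¹) :
    ∀ x : F, x ≠ 0 → s (j x) = j x⁻¹ := by
  classical
  have h01 : j 0 ≠ j 1 := fun h => zero_ne_one (hj h)
  have hss : s * s = 1 := by
    refine eq_one_of_three G hsharp (G.mul_mem hsG hsG) (Ne.symm (hjo 0)) (Ne.symm (hjo 1)) h01
      ?_ ?_ ?_
    · rw [Perm.mul_apply, hso, hs0]
    · rw [Perm.mul_apply, hs0, hso]
    · rw [Perm.mul_apply, hs1, hs1]
  have hsinv : s⁻¹ = s := inv_eq_of_mul_eq_one_left hss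
  have hss' : ∀ y, s (s y) = y := fun y => by rw [← Perm.mul_apply, hss, Perm.one_apply]
  -- the function σ
  have hsne : ∀ x : F, x ≠ 0 → s (j x) ≠ o := by
    intro x hx h
    rw [← hs0] at h
    exact hx (hj (s.injective h))
  let σ : F → F := fun x => if hx : x = 0 then 0 else Classical.choose (hcov _ (hsne x hx))
  have hσ : ∀ x, x ≠ 0 → j (σ x) = s (j x) := by
    intro x hx
    simp only [σ, dif_neg hx]
    exact Classical.choose_spec (hcov _ (hsne x hx))
  have hσne : ∀ x, x ≠ 0 → σ x ≠ 0 := by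
    intro x hx h0
    have h1 := hσ x hx
    rw [h0, ← hso] at h1
    exact hjo x (s.injective h1).symm
  have hone : σ 1 = 1 := by
    apply hj
    rw [hσ 1 one_ne_zero, hs1]
  have hinvol : ∀ x, x ≠ 0 → σ (σ x) = x := by
    intro x hx
    apply hj
    rw [hσ _ (hσne x hx), hσ x hx, hss']
  -- multiplication maps
  have hM : ∀ a : F, a ≠ 0 → ∃ m ∈ G, m o = o ∧ m (j 0) = j 0 ∧ ∀ x, m (j x) = j (a * x) := by
    intro a ha
    obtain ⟨m, hm, hmo, hmx⟩ := hA a 0 ha
    refine ⟨m, hm, hmo, ?_, fun x => by rw [hmx, add_zero]⟩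
    rw [hmx, mul_zero, add_zero]
  -- conjugates of multiplication maps are multiplication maps
  have hconj : ∀ m ∈ G, m o = o → m (j 0) = j 0 →
      ∃ c : F, c ≠ 0 ∧ ∀ x, (s * m * s⁻¹) (j x) = j (c * x) := by
    intro m hm hmo hm0
    have hk : s * m * s⁻¹ ∈ G := G.mul_mem (G.mul_mem hsG hm) (G.inv_mem hsG)
    have hko : (s * m * s⁻¹) o = o := by
      rw [hsinv, Perm.mul_apply, Perm.mul_apply, hso, hm0, hs0]
    have hk0 : (s * m * s⁻¹) (j 0) = j 0 := by
      rw [hsinv, Perm.mul_apply, Perm.mul_apply, hs0, hmo, hso]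
    obtain ⟨c, b, hc, hcb⟩ := hB _ hk hko
    have hb : b = 0 := by
      have := hcb 0
      rw [hk0, mul_zero, zero_add] at this
      exact (hj this).symm
    subst hb
    exact ⟨c, hc, fun x => by rw [hcb, add_zero]⟩
  have hmul : ∀ a x, a ≠ 0 → x ≠ 0 → σ (a * x) = σ a * σ x := by
    intro a x ha hx
    obtain ⟨m, hm, hmo, hm0, hmx⟩ := hM a ha
    obtain ⟨c, hc, hcx⟩ := hconj m hm hmo hm0
    have hc1 : c = σ a := by
      apply hj
      have := hcx 1
      rw [mul_one, hsinv, Perm.mul_apply, Perm.mul_apply, hs1, hmx, mul_one] at this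
      rw [hσ a ha, ← this]
    apply hj
    have h1 := hcx (σ x)
    rw [hsinv, Perm.mul_apply, Perm.mul_apply, hσ x hx, hss', hmx] at h1
    rw [hσ _ (mul_ne_zero ha hx), h1, hc1]
  have hsq' : ∀ a, a ≠ 0 → σ (a * a) = (a * a)⁻¹ := by
    intro a ha
    obtain ⟨m, hm, hmo, hm0, hmx⟩ := hM a ha
    have h1 := hsq m hm hmo hm0
    have h3 : (s * (m * m) * s⁻¹) (j 1) = j (σ (a * a)) := by
      rw [hsinv, Perm.mul_apply, Perm.mul_apply, hs1, Perm.mul_apply, hmx, hmx, mul_one,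
        hσ _ (mul_ne_zero ha ha)]
    have h4 : (m * m)⁻¹ (j 1) = j (a * a)⁻¹ := by
      rw [Perm.inv_eq_iff_eq, Perm.mul_apply, hmx, hmx]
      congr 1
      field_simp
    apply hj
    rw [← h3, h1, h4]
  -- the reflection x ↦ 1 - x
  obtain ⟨t, ht, hto, htx⟩ := hA (-1) 1 (neg_ne_zero.mpr one_ne_zero)
  have htx' : ∀ x, t (j x) = j (1 - x) := by
    intro x
    rw [htx]; congr 1; ring
  have htt : t * t = 1 := by
    refine eq_one_of_three G hsharp (G.mul_mem ht ht) (Ne.symm (hjo 0)) (Ne.symm (hjo 1)) h01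
      ?_ ?_ ?_
    · rw [Perm.mul_apply, hto, hto]
    · rw [Perm.mul_apply, htx', htx']; congr 1; ring
    · rw [Perm.mul_apply, htx', htx']; congr 1; ring
  have hst3 : (s * t) * (s * t) * (s * t) = 1 := by
    have hu : ∀ y, (s * t) y = s (t y) := fun y => Perm.mul_apply _ _ _
    have hu_o : (s * t) o = j 0 := by rw [hu, hto, hso]
    have hu_0 : (s * t) (j 0) = j 1 := by rw [hu, htx', sub_zero, hs1]
    have hu_1 : (s * t) (j 1) = o := by rw [hu, htx', sub_self, hs0]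
    refine eq_one_of_three G hsharp
      (G.mul_mem (G.mul_mem (G.mul_mem hsG ht) (G.mul_mem hsG ht)) (G.mul_mem hsG ht))
      (Ne.symm (hjo 0)) (Ne.symm (hjo 1)) h01 ?_ ?_ ?_
    · rw [Perm.mul_apply, Perm.mul_apply, hu_o, hu_0, hu_1]
    · rw [Perm.mul_apply, Perm.mul_apply, hu_0, hu_1, hu_o]
    · rw [Perm.mul_apply, Perm.mul_apply, hu_1, hu_o, hu_0]
  have hbraid : s * t * s = t * s * t := by
    have h1 : s * t * s = (s * t * (s * t) * (s * t)) * (t⁻¹ * s⁻¹ * t⁻¹) := by group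
    rw [h1, hst3, one_mul, hsinv, inv_eq_of_mul_eq_one_left htt]
  have hFE : ∀ x, x ≠ 0 → x ≠ 1 → σ (1 - σ x) = 1 - σ (1 - x) := by
    intro x hx0 hx1
    have h1x : 1 - x ≠ 0 := sub_ne_zero.mpr (Ne.symm hx1)
    have hσx1 : 1 - σ x ≠ 0 := by
      intro h
      have h3 : σ x = σ 1 := by rw [hone]; exact (sub_eq_zero.mp h).symm
      have h4 := congrArg σ h3
      rw [hinvol x hx0, hinvol 1 one_ne_zero] at h4
      exact hx1 h4
    apply hj
    have hl : (s * t * s) (j x) = j (σ (1 - σ x)) := by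
      rw [Perm.mul_apply, Perm.mul_apply, ← hσ x hx0, htx', ← hσ _ hσx1]
    have hr : (t * s * t) (j x) = j (1 - σ (1 - x)) := by
      rw [Perm.mul_apply, Perm.mul_apply, htx', ← hσ _ h1x, htx']
    rw [← hl, hbraid, hr]
  have hfinal := inv_of_functional h2 σ hmul hone hinvol hsq' hFE
  intro x hx
  rw [← hσ x hx, hfinal x hx]

end Cfsg.Agent.Helper11.Sh3
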