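import Mathlib
import Cfsg.Agent.Helper11.Sh3D
import Cfsg.Agent.Helper11.Sh3F

/-!
# Sharply 3-transitive groups of degree `p^f + 1`, `p` odd, `f` odd: the main theorem (part G)
-/

set_option autoImplicit false
set_option linter.unusedSectionVars false

namespace Cfsg.Agent.Helper11.Sh3

open Equiv Equiv.Perm MulAction Cfsg Cfsg.Agent.Helper4 Cfsg.Agent.Helper4.Sharp3Even

variable {α : Type*} [Fintype α] [DecidableEq α] {G : Subgroup (Perm α)} {o : α}
  [NearField {x : α // x ≠ o}]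

theorem main_of_nearfield_odd {p f : ℕ} (hp : p.Prime) (hp2 : p ≠ 2) (hf : Odd f)
    (hα : Fintype.card α = p ^ f + 1) (S : Setup G o) :
    ∃ (F : Type) (_ : Field F) (_ : Fintype F), Fintype.card F = p ^ f ∧
      Nonempty (G ≃* Matrix.ProjGenLinGroup (Fin 2) F) := by
  classical
  have hcardβ : Fintype.card {x : α // x ≠ o} = p ^ f := by
    have h1 := Fintype.card_subtype_compl (fun x : α => x = o)
    rw [Fintype.card_subtype_eq, hα] at h1
    have h3 : Fintype.card {x : α // x ≠ o} = p ^ f + 1 - 1 := h1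
    omega
  have h01 : (0 : {x : α // x ≠ o}) ≠ 1 := NearField.zero_ne_one
  have h01' : ((0 : {x : α // x ≠ o}) : α) ≠ ((1 : {x : α // x ≠ o}) : α) :=
    fun h => h01 (Subtype.ext h)
  -- the element `s`
  obtain ⟨s, hsG, hsp, hs0, hs1⟩ := exists_of_three G S.h3
    (a := o) (b := ((0 : {x : α // x ≠ o}) : α)) (c := ((1 : {x : α // x ≠ o}) : α))
    (a' := ((0 : {x : α // x ≠ o}) : α)) (b' := o) (c' := ((1 : {x : α // x ≠ o}) : α))
    (Ne.symm (0 : {x : α // x ≠ o}).2) (Ne.symm (1 : {x : α // x ≠ o}).2) h01'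
    (0 : {x : α // x ≠ o}).2 h01' (Ne.symm (1 : {x : α // x ≠ o}).2)
  obtain ⟨hab, hsq⟩ := S.structure hp hp2 hf hα hsG hsp hs0 hs1
  -- the multiplication of the near-field is commutative
  have hcomm : ∀ a b : {x : α // x ≠ o}, a * b = b * a := by
    intro a b
    by_cases ha : a = 0
    · rw [ha, nf_zero_mul, NearField.mul_zero]
    by_cases hb : b = 0
    · rw [hb, nf_zero_mul, NearField.mul_zero]
    obtain ⟨ga, hga', hga⟩ := S.exists_mem a ha
    obtain ⟨gb, hgb', hgb⟩ := S.exists_mem b hb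
    have hc' : ga * gb = gb * ga := hab ga hga' gb hgb'
    have h1 : ga (gb ((1 : {x : α // x ≠ o}) : α)) = gb (ga ((1 : {x : α // x ≠ o}) : α)) := by
      rw [← Perm.mul_apply, hc', Perm.mul_apply]
    rw [hgb 1, hga 1, one_mul, one_mul, hga b, hgb a] at h1
    exact (Subtype.ext h1).symm
  -- the field
  obtain ⟨F, fld, ft, e, hcF, hadd, hmul, he0, he1⟩ := exists_field_copy hcomm hcardβ
  refine ⟨F, fld, ft, hcF, ?_⟩
  have h2F : (2 : F) ≠ 0 := by
    intro h
    have hchar : ∀ x : {x : α // x ≠ o}, x + x = 0 := by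
      intro x
      have h3 : e.symm x + e.symm x = 0 := by
        have : e.symm x + e.symm x = 2 * e.symm x := by ring
        rw [this, h, zero_mul]
      have h4 := congrArg e h3
      rwa [hadd, Equiv.apply_symm_apply, he0] at h4
    -- then the additive group has exponent 2, contradicting odd order
    obtain ⟨-, hsmul⟩ := nf_char hp hcardβ
    have hodd : Odd p := hp.odd_of_ne_two hp2
    obtain ⟨k, hk⟩ := hodd
    have h5 := hsmul 1
    have h6 : ∀ k : ℕ, (2 * k) • (1 : {x : α // x ≠ o}) = 0 := by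
      intro k
      induction k with
      | zero => simp
      | succ k ih =>
        have : 2 * (k + 1) = 2 * k + 2 := by ring
        rw [this, add_nsmul, ih, zero_add, two_nsmul, hchar]
    rw [hk, add_nsmul, h6, zero_add, one_nsmul] at h5
    exact h01 h5.symm
  let j : F → α := fun u => ((e u : {x : α // x ≠ o}) : α)
  have hj : Function.Injective j := fun u v h => e.injective (Subtype.ext h)
  have hjo : ∀ u, j u ≠ o := fun u => (e u).2
  have hcov : ∀ y, y ≠ o → ∃ x, j x = y := by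
    intro y hy
    refine ⟨e.symm ⟨y, hy⟩, ?_⟩
    show ((e (e.symm ⟨y, hy⟩) : {x : α // x ≠ o}) : α) = y
    rw [Equiv.apply_symm_apply]
  have hB : ∀ g ∈ G, g o = o → ∃ a b : F, a ≠ 0 ∧ ∀ x, g (j x) = j (a * x + b) := by
    intro g hg hgp
    obtain ⟨a, b, ha, hab'⟩ := S.affine hg hgp
    refine ⟨e.symm a, e.symm b, ?_, ?_⟩
    · intro h
      apply ha
      rw [← Equiv.apply_symm_apply e a, h, he0]
    · intro x
      show g ((e x : {x : α // x ≠ o}) : α) =
        ((e (e.symm a * x + e.symm b) : {x : α // x ≠ o}) : α)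
      rw [hadd, hmul, Equiv.apply_symm_apply, Equiv.apply_symm_apply, hab' (e x), hcomm]
  have hA : ∀ a b : F, a ≠ 0 → ∃ g ∈ G, g o = o ∧ ∀ x, g (j x) = j (a * x + b) := by
    intro a b ha
    have hea : e a ≠ 0 := by
      intro h
      apply ha
      rw [← he0] at h
      exact e.injective h
    obtain ⟨g, hg, hgo, hgx⟩ := S.exists_affine (e a) (e b) hea
    refine ⟨g, hg, hgo, fun x => ?_⟩
    show g ((e x : {x : α // x ≠ o}) : α) = ((e (a * x + b) : {x : α // x ≠ o}) : α)
    rw [hgx (e x), hadd, hmul, hcomm]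
  have hso : s o = j 0 := by
    show s o = ((e 0 : {x : α // x ≠ o}) : α)
    rw [he0]; exact hsp
  have hs0' : s (j 0) = o := by
    show s ((e 0 : {x : α // x ≠ o}) : α) = o
    rw [he0]; exact hs0
  have hs1' : s (j 1) = j 1 := by
    show s ((e 1 : {x : α // x ≠ o}) : α) = ((e 1 : {x : α // x ≠ o}) : α)
    rw [he1]; exact hs1
  have hsq' : ∀ h ∈ G, h o = o → h (j 0) = j 0 → s * (h * h) * s⁻¹ = (h * h)⁻¹ := by
    intro h hh hho hh0
    apply hsq h
    refine mem_H0.mpr ⟨hh, hho, ?_⟩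
    have : j 0 = ((0 : {x : α // x ≠ o}) : α) := by
      show ((e 0 : {x : α // x ≠ o}) : α) = _
      rw [he0]
    rw [← this]; exact hh0
  have hinv := inversion_of_structure G S.hsharp o j hj hjo hcov h2F hB hA s hsG hso hs0' hs1' hsq'
  refine nonempty_mulEquiv_pgl G o j hj hjo hcov hB s hsG hso hs0' hinv ?_ ?_
  · intro y hy
    obtain ⟨u, hu⟩ := hcov y hy
    obtain ⟨g, hgG, hgp, hg⟩ := hA 1 u one_ne_zero
    refine ⟨g, hgG, hgp, ?_⟩
    rw [hg 0, mul_zero, zero_add, hu]
  · let x0 : Fin 3 ↪ α := ⟨![o, ((0 : {x : α // x ≠ o}) : α), ((1 : {x : α // x ≠ o}) : α)],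
      inj3 (Ne.symm (0 : {x : α // x ≠ o}).2) (Ne.symm (1 : {x : α // x ≠ o}).2) h01'⟩
    rw [hcF, card_of_sharp3 G S.h3 S.hsharp x0, hα]
    have hq : 2 ≤ p ^ f := by
      have h1 : 1 ≤ f := by
        rcases hf with ⟨k, rfl⟩; omega
      calc 2 ≤ p := hp.two_le
        _ = p ^ 1 := (pow_one p).symm
        _ ≤ p ^ f := Nat.pow_le_pow_right hp.pos h1
    generalize p ^ f = q at hq
    obtain ⟨k, rfl⟩ : ∃ k, q = k + 1 := ⟨q - 1, by omega⟩
    have e1 : (k + 1) ^ 2 - 1 = k * (k + 2) := by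
      have : (k + 1) ^ 2 = k * (k + 2) + 1 := by ring
      omega
    rw [e1]
    simp only [Nat.descFactorial_succ, Nat.descFactorial_zero]
    have e2 : k + 1 + 1 - 2 = k := by omega
    have e3 : k + 1 + 1 - 1 = k + 1 := by omega
    rw [e2, e3]
    simp only [Nat.sub_zero]
    ring

/-- **Zassenhaus**: a sharply 3-transitive group of degree `p^f + 1`, `p` odd and `f` odd, is
`PGL(2, p^f)`. -/
theorem main_odd {G : Subgroup (Perm α)} {p f : ℕ} (hp : p.Prime) (hp2 : p ≠ 2) (hf : Odd f)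
    (hα : Fintype.card α = p ^ f + 1)
    (h3 : IsMultiplyPretransitive G α 3) (hsharp : ∀ x : Fin 3 ↪ α, stabilizer G x = ⊥) :
    ∃ (F : Type) (_ : Field F) (_ : Fintype F), Fintype.card F = p ^ f ∧
      Nonempty (G ≃* Matrix.ProjGenLinGroup (Fin 2) F) := by
  classical
  have hpos : 0 < Fintype.card α := by rw [hα]; exact Nat.succ_pos _
  obtain ⟨o⟩ : Nonempty α := Fintype.card_pos_iff.mp hpos
  have hcardβ : Fintype.card {x : α // x ≠ o} = p ^ f := by
    have h1 := Fintype.card_subtype_compl (fun x : α => x = o)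
    rw [Fintype.card_subtype_eq, hα] at h1
    have h3 : Fintype.card {x : α // x ≠ o} = p ^ f + 1 - 1 := h1
    omega
  have hn : 2 ≤ Fintype.card {x : α // x ≠ o} := by
    rw [hcardβ]
    have h1 : 1 ≤ f := by
      rcases hf with ⟨k, rfl⟩; omega
    calc 2 ≤ p := hp.two_le
      _ = p ^ 1 := (pow_one p).symm
      _ ≤ p ^ f := Nat.pow_le_pow_right hp.pos h1
  obtain ⟨nf, hH⟩ := sharp2_nearfield (Hres G o) (Hres_two G h3 o) (Hres_sharp G hsharp o) hn
  exact @main_of_nearfield_odd α _ _ G o nf p f hp hp2 hf hα (@Setup.mk α G o nf h3 hsharp hH)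

end Cfsg.Agent.Helper11.Sh3
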