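import Mathlib
import Cfsg.Agent.Helper11.SpDerC
import Cfsg.Agent.Helper11.SpNormD
import Cfsg.Agent.Helper14.SylSn5
import Cfsg.Agent.Helper8.QuatFacts
import Cfsg.Agent.Helper2.SL2Quaternion

/-!
# Derived length of the Sylow 2-subgroups of `Sp_{2n}(q)`, `q` odd (part D)
-/

set_option autoImplicit false

namespace Cfsg.Agent.Helper11.SpDer

open Matrix Cfsg.Agent.Helper11.SpNorm Cfsg.Agent.Helper14.SylSn

/-- upper bound for 2-subgroups of the wreath product -/
theorem dS_upper {A : Type*} [Group A] (hA : ∀ Q : Subgroup A, IsPGroup 2 Q → dS Q 2 = ⊥) (n : ℕ)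
    (T : Subgroup (Wr A (Fin n))) (hT : IsPGroup 2 T) : dS T (Nat.log 2 n + 2) = ⊥ := by
  haveI : Fact (Nat.Prime 2) := ⟨Nat.prime_two⟩
  set k := Nat.log 2 n with hk
  let r : Wr A (Fin n) →* Equiv.Perm (Fin n) := SemidirectProduct.rightHom
  have h1 : IsPGroup 2 (T.map r) := hT.map r
  obtain ⟨P, hP⟩ := h1.exists_le_sylow
  have h2 : dS (T.map r) k = ⊥ := dS_bot_of_le hP (sylow_perm_dS_eq_bot 2 n P)
  have h3 : (dS T k).map r = ⊥ := by rw [dS_map]; exact h2
  have h4 : dS T k ≤ (SemidirectProduct.inl : (Fin n → A) →* Wr A (Fin n)).range := by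
    rw [SemidirectProduct.range_inl_eq_ker_rightHom]
    intro x hx
    rw [MonoidHom.mem_ker]
    have : r x ∈ (dS T k).map r := ⟨x, hx, rfl⟩
    rw [h3, Subgroup.mem_bot] at this
    exact this
  set K := dS T k with hK'
  set K0 := K.comap (SemidirectProduct.inl : (Fin n → A) →* Wr A (Fin n)) with hK0'
  have h5 : K0.map SemidirectProduct.inl = K := Subgroup.map_comap_eq_self h4
  have hK : IsPGroup 2 K := hT.to_le (dS_le T k)
  have hK0 : IsPGroup 2 K0 := hK.comap_of_injective _ SemidirectProduct.inl_injective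
  have h6 : dS K0 2 = ⊥ := by
    rw [eq_bot_iff]
    intro f hf
    rw [Subgroup.mem_bot]
    funext i
    have h7 : dS (K0.map (Pi.evalMonoidHom (fun _ : Fin n => A) i)) 2 = ⊥ := hA _ (hK0.map _)
    have h8 : f i ∈ (dS K0 2).map (Pi.evalMonoidHom (fun _ : Fin n => A) i) := ⟨f, hf, rfl⟩
    rw [dS_map, h7, Subgroup.mem_bot] at h8
    exact h8
  have : dS T (k + 2) = dS K 2 := (dS_add T k 2).symm
  rw [this, ← h5, ← dS_map, h6, Subgroup.map_bot]

theorem quat_dS_two (m : ℕ) [NeZero m] : derivedSeries (QuaternionGroup m) 2 = ⊥ := by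
  rw [derivedSeries_succ, derivedSeries_one, Cfsg.Agent.Helper8.QuatFacts.commutator_eq_zpowers,
    Subgroup.commutator_eq_bot_iff_le_centralizer, Subgroup.zpowers_le,
    Subgroup.mem_centralizer_iff]
  intro y hy
  obtain ⟨n, rfl⟩ := Subgroup.mem_zpowers_iff.mp hy
  exact (Commute.zpow_left (Commute.refl _) n).eq

variable {F : Type*} [Field F] [Fintype F]

theorem sl2_sylow_dS (hF : Odd (Fintype.card F)) (P : Sylow 2 (SpecialLinearGroup (Fin 2) F)) :
    dS (P : Subgroup (SpecialLinearGroup (Fin 2) F)) 2 = ⊥ ∧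
      dS (P : Subgroup (SpecialLinearGroup (Fin 2) F)) 1 ≠ ⊥ := by
  obtain ⟨k, hk, ⟨e⟩⟩ := Cfsg.Agent.Helper2.SL2Q.sylow_quaternion hF P
  haveI : NeZero (2 ^ k) := ⟨by positivity⟩
  constructor
  · rw [← derivedSeries_eq_bot_iff]
    have := map_derivedSeries_eq (f := e.symm.toMonoidHom) e.symm.surjective 2
    rw [quat_dS_two, Subgroup.map_bot] at this
    exact this.symm
  · rw [Ne, ← derivedSeries_eq_bot_iff]
    intro h
    have := map_derivedSeries_eq (f := e.toMonoidHom) e.surjective 1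
    rw [h, Subgroup.map_bot, derivedSeries_one] at this
    have h2 : 2 ≤ 2 ^ k := by
      calc 2 = 2 ^ 1 := by norm_num
        _ ≤ 2 ^ k := Nat.pow_le_pow_right (by norm_num) hk
    have hc := Cfsg.Agent.Helper8.QuatFacts.card_commutator (2 ^ k) h2
    rw [← this, Subgroup.card_bot] at hc
    omega

theorem sl2_two_subgroup_dS (hF : Odd (Fintype.card F))
    (Q : Subgroup (SpecialLinearGroup (Fin 2) F)) (hQ : IsPGroup 2 Q) : dS Q 2 = ⊥ := by
  haveI : Fact (Nat.Prime 2) := ⟨Nat.prime_two⟩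
  obtain ⟨P, hP⟩ := hQ.exists_le_sylow
  exact dS_bot_of_le hP (sl2_sylow_dS hF P).1

theorem main (hF : Odd (Fintype.card F)) (n : ℕ) (hn : 1 ≤ n)
    (R : Sylow 2 ↥(Matrix.symplecticGroup (Fin n) F)) :
    derivedSeries ↥(R : Subgroup ↥(Matrix.symplecticGroup (Fin n) F)) (Nat.log 2 (2 * n) + 1) = ⊥ ∧
      derivedSeries ↥(R : Subgroup ↥(Matrix.symplecticGroup (Fin n) F)) (Nat.log 2 (2 * n)) ≠ ⊥ := by
  classical
  haveI : Fact (Nat.Prime 2) := ⟨Nat.prime_two⟩
  have hlog : Nat.log 2 (2 * n) = Nat.log 2 n + 1 := by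
    rw [mul_comm]; exact Nat.log_mul_base (by norm_num) (by omega)
  rw [hlog, derivedSeries_eq_bot_iff, Ne, derivedSeries_eq_bot_iff]
  constructor
  · -- upper bound
    set M := monomial F (Fin n) with hM
    obtain ⟨T⟩ := (inferInstance : Nonempty (Sylow 2 ↥M))
    have hTcard := T.card_eq_multiplicity
    set T' : Subgroup ↥(symplecticGroup (Fin n) F) := (T : Subgroup ↥M).map M.subtype with hT'
    have hT'card : Nat.card T' = Nat.card (T : Subgroup ↥M) :=
      Subgroup.card_map_of_injective M.subtype_injective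
    have hfac : (Nat.card ↥M).factorization 2 =
        (Nat.card ↥(symplecticGroup (Fin n) F)).factorization 2 := by
      rw [Nat.factorization_def _ Nat.prime_two, Nat.factorization_def _ Nat.prime_two,
        padic_card_monomial hF n, padic_card_sp hF n]
    let P : Sylow 2 ↥(symplecticGroup (Fin n) F) :=
      Sylow.ofCard T' (by rw [hT'card, hTcard, hfac])
    have hP : (P : Subgroup ↥(symplecticGroup (Fin n) F)) = T' := rfl
    obtain ⟨g, hg⟩ := MulAction.exists_smul_eq ↥(symplecticGroup (Fin n) F) P R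
    have hR : (R : Subgroup ↥(symplecticGroup (Fin n) F)) = T'.map (MulAut.conj g).toMonoidHom := by
      rw [← hg, ← hP]
      rfl
    have hT'M : T' ≤ (Phi F (Fin n)).range := by
      rintro _ ⟨t, -, rfl⟩
      exact t.2
    set T0 := T'.comap (Phi F (Fin n)) with hT0
    have hT0map : T0.map (Phi F (Fin n)) = T' := Subgroup.map_comap_eq_self hT'M
    have hT'p : IsPGroup 2 T' := P.2
    have hT0p : IsPGroup 2 T0 := hT'p.comap_of_injective _ Phi_injective
    have hup := dS_upper (fun Q hQ => sl2_two_subgroup_dS hF Q hQ) n T0 hT0p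
    rw [hR, dS_map_eq_bot_iff _ (MulAut.conj g).injective, ← hT0map,
      dS_map_eq_bot_iff _ Phi_injective, add_assoc]
    exact hup
  · -- lower bound
    obtain ⟨Q0⟩ := (inferInstance : Nonempty (Sylow 2 (SpecialLinearGroup (Fin 2) F)))
    have hk : 2 ^ Nat.log 2 n ≤ Fintype.card (Fin n) := by
      rw [Fintype.card_fin]; exact Nat.pow_log_le_self 2 (by omega)
    obtain ⟨T1, hT1, hT1j⟩ := exists_two_subgroup (Ω := Fin n)
      (Q0 : Subgroup (SpecialLinearGroup (Fin 2) F)) Q0.2 1 (sl2_sylow_dS hF Q0).2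
      (Nat.log 2 n) hk
    have h1 : IsPGroup 2 (T1.map (Phi F (Fin n))) := hT1.map _
    obtain ⟨P', hP'⟩ := h1.exists_le_sylow
    have h2 : dS (P' : Subgroup ↥(symplecticGroup (Fin n) F)) (1 + Nat.log 2 n) ≠ ⊥ := by
      intro hbot
      have h3 := dS_bot_of_le hP' hbot
      rw [dS_map_eq_bot_iff _ Phi_injective] at h3
      exact hT1j h3
    obtain ⟨g, hg⟩ := MulAction.exists_smul_eq ↥(symplecticGroup (Fin n) F) P' R
    have hR : (R : Subgroup ↥(symplecticGroup (Fin n) F)) =
        (P' : Subgroup ↥(symplecticGroup (Fin n) F)).map (MulAut.conj g).toMonoidHom := by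
      rw [← hg]
      rfl
    rw [hR, dS_map_eq_bot_iff _ (MulAut.conj g).injective, add_comm]
    exact h2

end Cfsg.Agent.Helper11.SpDer
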