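import Mathlib
import Cfsg.Prelude.Def_Transfer
import Cfsg.Agent.Helper11.SpNormD

/-!
# The normal 2-rank of a Sylow 2-subgroup of `Sp_{2n}(q)`, `q` odd (S2250)
-/

set_option autoImplicit false

namespace Cfsg.Agent.Helper11.SpNorm

open Matrix Cfsg.Agent.Helper11.SpRank

variable {F : Type*} [Field F] {l : Type*} [Fintype l] [DecidableEq l]

instance E0_comm : IsMulCommutative (E0 F l) := by
  unfold E0
  infer_instance

theorem E0_sq {e : symplecticGroup l F} (he : e ∈ E0 F l) : e ^ 2 = 1 := by
  obtain ⟨ε, rfl⟩ := he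
  have hε : ε ^ 2 = 1 := by
    funext i
    simp only [Pi.pow_apply, Pi.one_apply]
    rw [pow_two, Int.units_mul_self]
  rw [← map_pow, hε, map_one]

theorem card_E0 (h2 : (2 : F) ≠ 0) : Nat.card (E0 F l) = 2 ^ Fintype.card l := by
  have hc : Nat.card (l → ℤˣ) = 2 ^ Fintype.card l := by
    rw [Nat.card_eq_fintype_card, Fintype.card_fun]
    rfl
  rw [← hc]
  exact (Nat.card_congr (MonoidHom.ofInjective (spDiagHom_injective h2)).toEquiv).symm

theorem main {F : Type*} [Field F] [Fintype F] (hF : Odd (Fintype.card F)) (n : ℕ)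
    (S : Sylow 2 ↥(Matrix.symplecticGroup (Fin n) F)) :
    (∃ E : Subgroup ↥(S : Subgroup ↥(Matrix.symplecticGroup (Fin n) F)),
        E.Normal ∧ Cfsg.IsElementaryAbelian 2 E ∧ 2 ^ n ≤ Nat.card ↥E) ∧
      ∀ E : Subgroup ↥(S : Subgroup ↥(Matrix.symplecticGroup (Fin n) F)),
        E.Normal → Cfsg.IsElementaryAbelian 2 E → Nat.card ↥E ≤ 2 ^ n := by
  classical
  have h2 : (2 : F) ≠ 0 := Cfsg.Agent.Helper11.JointEigen.two_ne_zero_of_odd_card hF
  refine ⟨?_, ?_⟩
  · -- existence
    set M := monomial F (Fin n) with hM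
    obtain ⟨T⟩ := (inferInstance : Nonempty (Sylow 2 ↥M))
    have hTcard := T.card_eq_multiplicity
    set T' : Subgroup ↥(symplecticGroup (Fin n) F) := (T : Subgroup ↥M).map M.subtype with hT'
    have hT'card : Nat.card T' = Nat.card (T : Subgroup ↥M) :=
      Subgroup.card_map_of_injective M.subtype_injective
    have hfac : (Nat.card ↥M).factorization 2 =
        (Nat.card ↥(symplecticGroup (Fin n) F)).factorization 2 := by
      rw [Nat.factorization_def _ Nat.prime_two, Nat.factorization_def _ Nat.prime_two,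
        padic_card_monomial hF n, padic_card_sp hF n]
    let P : Sylow 2 ↥(symplecticGroup (Fin n) F) :=
      Sylow.ofCard T' (by rw [hT'card, hTcard, hfac])
    have hP : (P : Subgroup ↥(symplecticGroup (Fin n) F)) = T' := rfl
    obtain ⟨g, hg⟩ := MulAction.exists_smul_eq ↥(symplecticGroup (Fin n) F) P S
    -- membership in S
    have hS : ∀ x, x ∈ (S : Subgroup ↥(symplecticGroup (Fin n) F)) ↔ g⁻¹ * x * g ∈ T' := by
      intro x
      rw [← hg, Sylow.coe_subgroup_smul, Subgroup.mem_pointwise_smul_iff_inv_smul_mem, hP]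
      simp
    -- E0 lies in T'
    have hE0T : E0 F (Fin n) ≤ T' := by
      intro e he
      have hnorm : ((E0 F (Fin n)).subgroupOf M).Normal := by
        constructor
        intro a ha m
        rw [Subgroup.mem_subgroupOf] at ha ⊢
        exact conj_mem_E0 m.2 ha
      have hp : IsPGroup 2 ((E0 F (Fin n)).subgroupOf M) := by
        intro a
        refine ⟨1, ?_⟩
        have := E0_sq (Subgroup.mem_subgroupOf.mp a.2)
        apply Subtype.ext
        apply Subtype.ext
        simpa using this
      have hle := hp.le_sylow_of_normal T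
      have heM : e ∈ M := E0_le_monomial he
      have : (⟨e, heM⟩ : ↥M) ∈ (T : Subgroup ↥M) :=
        hle (Subgroup.mem_subgroupOf.mpr he)
      exact ⟨⟨e, heM⟩, this, rfl⟩
    have hT'M : T' ≤ M := by
      rintro _ ⟨t, -, rfl⟩
      exact t.2
    set E1 : Subgroup ↥(symplecticGroup (Fin n) F) :=
      (E0 F (Fin n)).map (MulAut.conj g).toMonoidHom with hE1
    have hE1S : E1 ≤ (S : Subgroup ↥(symplecticGroup (Fin n) F)) := by
      rintro _ ⟨e, he, rfl⟩
      rw [hS]
      simp only [MulEquiv.coe_toMonoidHom, MulAut.conj_apply]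
      have : g⁻¹ * (g * e * g⁻¹) * g = e := by group
      rw [this]
      exact hE0T he
    refine ⟨E1.subgroupOf S, ?_, ⟨?_, ?_⟩, ?_⟩
    · constructor
      intro a ha s
      rw [Subgroup.mem_subgroupOf] at ha ⊢
      obtain ⟨e, he, hae⟩ := ha
      simp only [MulEquiv.coe_toMonoidHom, MulAut.conj_apply] at hae
      have hs := (hS s.1).mp s.2
      refine ⟨(g⁻¹ * s.1 * g) * e * (g⁻¹ * s.1 * g)⁻¹, conj_mem_E0 (hT'M hs) he, ?_⟩
      simp only [MulEquiv.coe_toMonoidHom, MulAut.conj_apply, Subgroup.coe_mul,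
        InvMemClass.coe_inv, ← hae]
      group
    · infer_instance
    · intro a ha
      rw [Subgroup.mem_subgroupOf] at ha
      obtain ⟨e, he, hae⟩ := ha
      simp only [MulEquiv.coe_toMonoidHom, MulAut.conj_apply] at hae
      apply Subtype.ext
      rw [Subgroup.coe_pow, ← hae, conj_pow, E0_sq he]
      simp
    · have h1 : Nat.card ↥(E1.subgroupOf S) = Nat.card ↥E1 :=
        Nat.card_congr (Subgroup.subgroupOfEquivOfLe hE1S).toEquiv
      have h3 : Nat.card ↥E1 = Nat.card ↥(E0 F (Fin n)) :=
        Subgroup.card_map_of_injective (MulAut.conj g).injective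
      rw [h1, h3, card_E0 h2, Fintype.card_fin]
  · -- upper bound
    intro E _ hE
    obtain ⟨hc, hexp⟩ := hE
    have hcard : Nat.card (E.map (S : Subgroup ↥(symplecticGroup (Fin n) F)).subtype) =
        Nat.card E := Subgroup.card_map_of_injective (Subgroup.subtype_injective _)
    rw [← hcard]
    have := sp_rank_upper h2 (E.map (S : Subgroup ↥(symplecticGroup (Fin n) F)).subtype)
      inferInstance (by
        rintro _ ⟨e, he, rfl⟩
        rw [← map_pow, hexp e he, map_one])
    rwa [Fintype.card_fin] at this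

end Cfsg.Agent.Helper11.SpNorm
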