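import Mathlib
import Cfsg.Agent.Helper11.AltRank
import Cfsg.Agent.Helper2.SpForm

set_option autoImplicit false

namespace Cfsg.Agent.Helper11.SpQuad

open Matrix Cfsg.Agent.Helper2.Sp

variable {F : Type*} [Field F] {l : Type*} [Fintype l] [DecidableEq l]

/-- the map `v ↦ f(v, t v)` for a symplectic involution `t` -/
def Q (t : Matrix (l ⊕ l) (l ⊕ l) F) (v : l ⊕ l → F) : F := om v (t *ᵥ v)

theorem Q_add {t : Matrix (l ⊕ l) (l ⊕ l) F} (ht : t ∈ symplecticGroup l F) (htt : t * t = 1)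
    (u v : l ⊕ l → F) : Q t (u + v) = Q t u + Q t v := by
  unfold Q
  have h1 : om v (t *ᵥ u) = om (t *ᵥ v) u := by
    have := (mem_symplectic_iff_om.1 ht) v (t *ᵥ u)
    rw [Matrix.mulVec_mulVec, htt, Matrix.one_mulVec] at this
    exact this.symm
  rw [Matrix.mulVec_add, om_add_left, om_add_right, om_add_right, h1, om_swap u (t *ᵥ v)]
  ring

theorem Q_smul (t : Matrix (l ⊕ l) (l ⊕ l) F) (c : F) (v : l ⊕ l → F) :
    Q t (c • v) = c * c * Q t v := by
  unfold Q
  rw [Matrix.mulVec_smul, om_smul_left, om_smul_right]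
  ring

/-- `Q` as an additive homomorphism -/
def Qhom {t : Matrix (l ⊕ l) (l ⊕ l) F} (ht : t ∈ symplecticGroup l F) (htt : t * t = 1) :
    (l ⊕ l → F) →+ F where
  toFun := Q t
  map_zero' := by
    have := Q_smul t 0 0
    simpa using this
  map_add' := Q_add ht htt

theorem card_Q_zero [Fintype F] (hsq : ∀ x : F, IsSquare x)
    {t : Matrix (l ⊕ l) (l ⊕ l) F} (ht : t ∈ symplecticGroup l F) (htt : t * t = 1) :
    Nat.card {v : l ⊕ l → F // Q t v = 0} = Fintype.card F ^ (2 * Fintype.card l) ∨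
      Nat.card {v : l ⊕ l → F // Q t v = 0} * Fintype.card F =
        Fintype.card F ^ (2 * Fintype.card l) := by
  classical
  have hV : Nat.card (l ⊕ l → F) = Fintype.card F ^ (2 * Fintype.card l) := by
    rw [Nat.card_eq_fintype_card, Fintype.card_fun, Fintype.card_sum, two_mul]
  by_cases h0 : ∀ v, Q t v = 0
  · left
    rw [← hV]
    exact Nat.card_congr (Equiv.subtypeUnivEquiv h0)
  · right
    push Not at h0
    obtain ⟨v₀, hv₀⟩ := h0
    have hsurj : Function.Surjective (Qhom ht htt) := by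
      intro y
      obtain ⟨c, hc⟩ := hsq (y / Q t v₀)
      refine ⟨c • v₀, ?_⟩
      change Q t (c • v₀) = y
      rw [Q_smul, ← hc, div_mul_cancel₀ _ hv₀]
    have h1 := AddSubgroup.card_eq_card_quotient_mul_card_addSubgroup (Qhom ht htt).ker
    have h2 : Nat.card ((l ⊕ l → F) ⧸ (Qhom ht htt).ker) = Fintype.card F := by
      rw [← Nat.card_eq_fintype_card]
      exact Nat.card_congr (QuotientAddGroup.quotientKerEquivOfSurjective _ hsurj).toEquiv
    have h3 : Nat.card {v : l ⊕ l → F // Q t v = 0} = Nat.card (Qhom ht htt).ker := by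
      apply Nat.card_congr
      exact Equiv.subtypeEquivRight (fun v => (AddMonoidHom.mem_ker (f := Qhom ht htt)).symm)
    rw [h3, ← hV, h1, h2, mul_comm]

/-- if `Q` vanishes identically then `t - 1` has even rank -/
theorem even_rank_of_Q_zero {t : Matrix (l ⊕ l) (l ⊕ l) F} (h0 : ∀ v, Q t v = 0) :
    Even (t - 1).rank := by
  have hG : ∀ v : l ⊕ l → F, v ⬝ᵥ ((J l F * (t - 1)) *ᵥ v) = 0 := by
    intro v
    rw [← Matrix.mulVec_mulVec, Matrix.sub_mulVec, Matrix.one_mulVec]
    change om v (t *ᵥ v - v) = 0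
    rw [om_sub_right, om_self, sub_zero]
    exact h0 v
  have h1 := AltRank.even_rank_of_alt _ hG
  rwa [Matrix.rank_mul_eq_right_of_isUnit_det _ _ (Matrix.isUnit_det_J l F)] at h1

end Cfsg.Agent.Helper11.SpQuad
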