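import Mathlib

set_option autoImplicit false

namespace Cfsg.Agent.Helper11.SplitMax

open scoped commutatorElement

variable {X : Type*} [Group X] (V : Subgroup X) [V.Normal]

/-- If the cosets of `g`, `h` commute in `X ⧸ V` then `⁅g, h⁆ ∈ V`. -/
theorem comm_mem {g h : X}
    (hc : (QuotientGroup.mk g : X ⧸ V) * QuotientGroup.mk h = QuotientGroup.mk h * QuotientGroup.mk g) :
    ⁅g, h⁆ ∈ V := by
  rw [← QuotientGroup.eq_one_iff, commutatorElement_def, QuotientGroup.mk_mul, QuotientGroup.mk_mul,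
    QuotientGroup.mk_mul, hc, QuotientGroup.mk_inv, QuotientGroup.mk_inv]
  group

/-- commuting of `v g` and `w h` forces the cosets to commute. -/
theorem cosets_commute {g h : X} {v w : X} (hv : v ∈ V) (hw : w ∈ V)
    (H : v * g * (w * h) = w * h * (v * g)) :
    (QuotientGroup.mk g : X ⧸ V) * QuotientGroup.mk h = QuotientGroup.mk h * QuotientGroup.mk g := by
  have h1 := congrArg (QuotientGroup.mk : X → X ⧸ V) H
  simp only [QuotientGroup.mk_mul, (QuotientGroup.eq_one_iff v).mpr hv,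
    (QuotientGroup.eq_one_iff w).mpr hw, one_mul] at h1
  exact h1

variable (hab : ∀ a ∈ V, ∀ b ∈ V, a * b = b * a) (φ : X ⧸ V →* MulAut ↥V)
  (hφ : ∀ (x : X) (v : ↥V), ((φ (QuotientGroup.mk x) v : ↥V) : X) = x * v * x⁻¹)

include hab hφ in
/-- The commuting condition for `v g` and `w h` written inside `V`. -/
theorem key_iff (g h : X)
    (hc : (QuotientGroup.mk g : X ⧸ V) * QuotientGroup.mk h = QuotientGroup.mk h * QuotientGroup.mk g)
    (v w : ↥V) :
    (v : X) * g * (w * h) = w * h * (v * g) ↔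
      v * φ (QuotientGroup.mk g) w * ⟨⁅g, h⁆, comm_mem V hc⟩ = w * φ (QuotientGroup.mk h) v := by
  rw [Subtype.ext_iff]
  simp only [Subgroup.coe_mul, hφ, commutatorElement_def]
  constructor
  · intro H
    calc (v : X) * (g * w * g⁻¹) * (g * h * g⁻¹ * h⁻¹) = ((v : X) * g * (w * h)) * (g⁻¹ * h⁻¹) := by
          group
      _ = ((w : X) * h * (v * g)) * (g⁻¹ * h⁻¹) := by rw [H]
      _ = _ := by group
  · intro H
    calc (v : X) * g * (w * h) = ((v : X) * (g * w * g⁻¹) * (g * h * g⁻¹ * h⁻¹)) * (h * g) := by group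
      _ = ((w : X) * (h * v * h⁻¹)) * (h * g) := by rw [H]
      _ = _ := by group


theorem add_aux {A : Type*} [AddCommGroup A] (v w c aw bv v0 w0 aw0 bv0 : A)
    (h1 : v + aw + c = w + bv) (h2 : v0 + aw0 + c = w0 + bv0) :
    (-v0 + v) + (-aw0 + aw) = (-w0 + w) + (-bv0 + bv) := by
  have e1 : (-v0 + v) + (-aw0 + aw) = (v + aw + c) - (v0 + aw0 + c) := by abel
  rw [e1, h1, h2]; abel

theorem mul_aux {M : Type*} [CommGroup M] (α β : MulAut M) (c v w v0 w0 : M)
    (h1 : v * α w * c = w * β v) (h2 : v0 * α w0 * c = w0 * β v0) :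
    (v0⁻¹ * v) * α (w0⁻¹ * w) = (w0⁻¹ * w) * β (v0⁻¹ * v) := by
  rw [map_mul, map_mul, map_inv, map_inv]
  exact add_aux (A := Additive M) v w c (α w) (β v) v0 w0 (α w0) (β v0) h1 h2


section inj

variable {V}

/-- the commuting condition for the pair `(q.1 * g, q.2 * h)`. -/
def Sol (ab : (X ⧸ V) × (X ⧸ V)) (q : ↥V × ↥V) : Prop :=
  (q.1 : X) * ab.1.out * (q.2 * ab.2.out) = q.2 * ab.2.out * (q.1 * ab.1.out)

open Classical in
/-- a chosen solution in each pair of cosets. -/
noncomputable def sol (ab : (X ⧸ V) × (X ⧸ V)) : ↥V × ↥V :=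
  if h : ∃ q : ↥V × ↥V, Sol ab q then Classical.choose h else 1

theorem sol_spec (ab : (X ⧸ V) × (X ⧸ V)) (q : ↥V × ↥V) (hq : Sol ab q) : Sol ab (sol ab) := by
  have h : ∃ q : ↥V × ↥V, Sol ab q := ⟨q, hq⟩
  unfold sol
  rw [dif_pos h]
  exact Classical.choose_spec h

theorem mul_out_inv_mem (x : X) : x * (QuotientGroup.mk x : X ⧸ V).out⁻¹ ∈ V := by
  rw [← QuotientGroup.eq_one_iff, QuotientGroup.mk_mul, QuotientGroup.mk_inv,
    QuotientGroup.out_eq']
  exact mul_inv_cancel _

/-- the `V`-part of `x` with respect to the chosen coset representative. -/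
noncomputable def vpart (x : X) : ↥V := ⟨x * (QuotientGroup.mk x : X ⧸ V).out⁻¹, mul_out_inv_mem x⟩

theorem vpart_mul_out (x : X) : (vpart (V := V) x : X) * (QuotientGroup.mk x : X ⧸ V).out = x := by
  simp [vpart]

variable (V)

include hab hφ in
/-- **Key step**: there is an injection from commuting pairs of `X` into commuting pairs of the
split extension. -/
theorem card_commuting_le [Finite X] :
    Nat.card {p : X × X // Commute p.1 p.2} ≤
      Nat.card {p : SemidirectProduct ↥V (X ⧸ V) φ × SemidirectProduct ↥V (X ⧸ V) φ //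
        Commute p.1 p.2} := by
  letI : CommGroup ↥V :=
    { (inferInstance : Group ↥V) with mul_comm := fun a b => Subtype.ext (hab a a.2 b b.2) }
  have hfin : Finite (SemidirectProduct ↥V (X ⧸ V) φ) :=
    Finite.of_equiv _ SemidirectProduct.equivProd.symm
  -- the data attached to a commuting pair
  have hdata : ∀ p : {p : X × X // Commute p.1 p.2},
      let ab : (X ⧸ V) × (X ⧸ V) := (QuotientGroup.mk p.1.1, QuotientGroup.mk p.1.2)
      ab.1 * ab.2 = ab.2 * ab.1 ∧
      ((sol ab).1⁻¹ * vpart p.1.1) * φ ab.1 ((sol ab).2⁻¹ * vpart p.1.2) =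
        ((sol ab).2⁻¹ * vpart p.1.2) * φ ab.2 ((sol ab).1⁻¹ * vpart p.1.1) := by
    intro p ab
    have hS : Sol ab (vpart p.1.1, vpart p.1.2) := by
      unfold Sol
      show (vpart p.1.1 : X) * (QuotientGroup.mk p.1.1 : X ⧸ V).out *
        ((vpart p.1.2 : X) * (QuotientGroup.mk p.1.2 : X ⧸ V).out) = _
      rw [vpart_mul_out, vpart_mul_out]
      exact p.2
    have hS0 := sol_spec ab _ hS
    have hc : (QuotientGroup.mk ab.1.out : X ⧸ V) * QuotientGroup.mk ab.2.out =
        QuotientGroup.mk ab.2.out * QuotientGroup.mk ab.1.out :=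
      cosets_commute V (vpart p.1.1).2 (vpart p.1.2).2 hS
    have hc' : ab.1 * ab.2 = ab.2 * ab.1 := by
      rw [QuotientGroup.out_eq', QuotientGroup.out_eq'] at hc
      exact hc
    refine ⟨hc', ?_⟩
    have k1 := (key_iff V hab φ hφ ab.1.out ab.2.out hc (vpart p.1.1) (vpart p.1.2)).mp hS
    have k2 := (key_iff V hab φ hφ ab.1.out ab.2.out hc (sol ab).1 (sol ab).2).mp hS0
    have hm := mul_aux (φ (QuotientGroup.mk ab.1.out)) (φ (QuotientGroup.mk ab.2.out)) _ _ _ _ _
      k1 k2
    rw [QuotientGroup.out_eq', QuotientGroup.out_eq'] at hm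
    exact hm
  let Φ : {p : X × X // Commute p.1 p.2} →
      {p : SemidirectProduct ↥V (X ⧸ V) φ × SemidirectProduct ↥V (X ⧸ V) φ // Commute p.1 p.2} :=
    fun p =>
      ⟨(⟨(sol (QuotientGroup.mk p.1.1, QuotientGroup.mk p.1.2)).1⁻¹ * vpart p.1.1,
          QuotientGroup.mk p.1.1⟩,
        ⟨(sol (QuotientGroup.mk p.1.1, QuotientGroup.mk p.1.2)).2⁻¹ * vpart p.1.2,
          QuotientGroup.mk p.1.2⟩), by
        obtain ⟨h1, h2⟩ := hdata p
        show _ * _ = _ * _
        apply SemidirectProduct.ext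
        · exact h2
        · exact h1⟩
  apply Nat.card_le_card_of_injective Φ
  intro p p' hpp
  have h1 := congrArg (fun t => t.1) hpp
  simp only [Φ, Prod.mk.injEq] at h1
  obtain ⟨e1, e2⟩ := h1
  have ea : (QuotientGroup.mk p.1.1 : X ⧸ V) = QuotientGroup.mk p'.1.1 :=
    congrArg SemidirectProduct.right e1
  have eb : (QuotientGroup.mk p.1.2 : X ⧸ V) = QuotientGroup.mk p'.1.2 :=
    congrArg SemidirectProduct.right e2
  have l1 := congrArg SemidirectProduct.left e1
  have l2 := congrArg SemidirectProduct.left e2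
  simp only [ea, eb] at l1 l2
  have v1 : vpart (V := V) p.1.1 = vpart p'.1.1 := mul_left_cancel l1
  have v2 : vpart (V := V) p.1.2 = vpart p'.1.2 := mul_left_cancel l2
  apply Subtype.ext
  apply Prod.ext
  · rw [← vpart_mul_out (V := V) p.1.1, ← vpart_mul_out (V := V) p'.1.1, v1, ea]
  · rw [← vpart_mul_out (V := V) p.1.2, ← vpart_mul_out (V := V) p'.1.2, v2, eb]

include hab hφ in
/-- The split extension has the largest class number. -/
theorem card_conjClasses_le [Finite X] :
    Nat.card (ConjClasses X) ≤ Nat.card (ConjClasses (SemidirectProduct ↥V (X ⧸ V) φ)) := by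
  have h := card_commuting_le V hab φ hφ
  rw [card_comm_eq_card_conjClasses_mul_card, card_comm_eq_card_conjClasses_mul_card] at h
  have hcard : Nat.card (SemidirectProduct ↥V (X ⧸ V) φ) = Nat.card X := by
    rw [Nat.card_congr SemidirectProduct.equivProd, Nat.card_prod,
      Subgroup.card_eq_card_quotient_mul_card_subgroup V, mul_comm]
  rw [hcard] at h
  exact Nat.le_of_mul_le_mul_right h Nat.card_pos

end inj

end Cfsg.Agent.Helper11.SplitMax
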