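import Mathlib
import Cfsg.Agent.Helper2.Stb.Unimod

set_option autoImplicit false
set_option linter.unusedSectionVars false
set_option linter.unusedSimpArgs false
set_option linter.unusedVariables false

/-! Centre of the Steinberg group, part A: generic tools.

* root elements of the Chevalley group satisfy (R1), (R2), (R3);
* a family satisfying (R1)–(R3) gives a homomorphism from the Steinberg group;
* the centre of the Steinberg group of a tabulated datum consists of products `∏ ĥ_{p_i}(t_i)`
  with `t` in the kernel of all fundamental characters. -/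

namespace Cfsg.Agent.Helper11.StCenter

open Cfsg.Lie Cfsg.Agent.Helper6 Cfsg.Agent.Helper2.StPerf Cfsg.Agent.Helper2.Stb

variable {D : ChevalleyDatum} {F : Type*} [Field F] {M : Type*} [Group M]

/-- the root elements of the Chevalley group, as a family -/
def XU (hB : BasicOK D) (F : Type*) [Field F] : ℕ → F → GL D.Idx F := fun r t => xU hB r t

theorem wordX_XU (hB : BasicOK D) (w : List (ℕ × F)) : wordX (XU hB F) w = wordU hB w := rfl

theorem r12_XU (hD : IsTabulated D) : R12 D (XU (basicOK_of_tabulated hD) F) := by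
  have hB := basicOK_of_tabulated hD
  have Δ := bnData_of_tabulated F hD
  constructor
  · intro r hr t u
    exact Cfsg.Agent.Helper6.xU_mul hB r t u
  · intro r hr s hs h1 h2 t u
    have hc := Δ.hC r hr s hs h1 h2 t u
    have e : xU hB s u * xU hB r t = xU hB r t * xU hB s u * wordU hB (D.commWord F r s t u) := by
      apply Units.ext
      simp only [Units.val_mul, xU_val, wordU_val]
      exact hc
    rw [wordX_XU]
    show (xU hB s u)⁻¹ * (xU hB r t)⁻¹ * xU hB s u * xU hB r t = _
    calc (xU hB s u)⁻¹ * (xU hB r t)⁻¹ * xU hB s u * xU hB r t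
        = (xU hB s u)⁻¹ * (xU hB r t)⁻¹ * (xU hB s u * xU hB r t) := by group
      _ = _ := by rw [e]; group

theorem r3_XU (hD : IsTabulated D) {r : ℕ} (hr : r < D.nroots) {a b : F} (ha : a ≠ 0) (hb : b ≠ 0) :
    hH (XU (basicOK_of_tabulated hD) F) D r a * hH (XU (basicOK_of_tabulated hD) F) D r b =
      hH (XU (basicOK_of_tabulated hD) F) D r (a * b) := by
  have hB := basicOK_of_tabulated hD
  unfold hH
  rw [wordX_XU, wordX_XU, wordX_XU]
  apply Units.ext
  rw [Units.val_mul, wordU_val, wordU_val, wordU_val]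
  exact hMat_mul_hMat hD hr ha hb

section lift

variable (X : ℕ → F → M) (h12 : R12 D X)
  (h3 : ∀ r < D.nroots, ∀ a b : F, a ≠ 0 → b ≠ 0 → hH X D r a * hH X D r b = hH X D r (a * b))
  (hout : ∀ r, ¬ r < D.nroots → ∀ t : F, X r t = 1)

/-- images of the free generators -/
def fX (D : ChevalleyDatum) (X : ℕ → F → M) (p : Fin D.nroots × F) : M := X p.1.val p.2

include hout in
theorem lift_fX_stX (r : ℕ) (t : F) : FreeGroup.lift (fX D X) (D.stX r t) = X r t := by
  unfold ChevalleyDatum.stX
  by_cases h : r < D.nroots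
  · rw [dif_pos h, FreeGroup.lift_apply_of]
    rfl
  · rw [dif_neg h, map_one, hout r h]

include hout in
theorem lift_fX_stWord (w : List (ℕ × F)) :
    FreeGroup.lift (fX D X) (D.stWord w) = wordX X w := by
  unfold ChevalleyDatum.stWord wordX
  induction w with
  | nil => simp
  | cons p w ih =>
    rw [List.map_cons, List.prod_cons, List.map_cons, List.prod_cons, map_mul, ih,
      lift_fX_stX X hout]

include h12 h3 hout in
theorem lift_fX_rels {g : FreeGroup (Fin D.nroots × F)} (hg : g ∈ D.steinbergRels F) :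
    FreeGroup.lift (fX D X) g = 1 := by
  rcases hg with (⟨r, t₁, t₂, hr, rfl⟩ | ⟨r, s, t, u, hr, hs, h1, h2, rfl⟩) |
    ⟨r, t₁, t₂, hr, h1, h2, rfl⟩
  · rw [map_mul, map_mul, map_inv, lift_fX_stX X hout, lift_fX_stX X hout, lift_fX_stX X hout,
      mul_inv_eq_one]
    exact h12.add r hr t₁ t₂
  · rw [map_mul, map_mul, map_mul, map_mul, map_inv, map_inv, map_inv, lift_fX_stX X hout,
      lift_fX_stX X hout, lift_fX_stWord X hout, mul_inv_eq_one]
    exact h12.comm r hr s hs h1 h2 t u
  · rw [map_mul, map_mul, map_inv, mul_inv_eq_one]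
    unfold ChevalleyDatum.stH
    rw [lift_fX_stWord X hout, lift_fX_stWord X hout, lift_fX_stWord X hout]
    exact h3 r hr t₁ t₂ h1 h2

/-- the homomorphism from the Steinberg group defined by a family satisfying (R1)–(R3) -/
noncomputable def liftSt : D.SteinbergGroup F →* M :=
  PresentedGroup.toGroup (f := fX D X) (fun g hg => lift_fX_rels X h12 h3 hout hg)

theorem liftSt_pX (r : ℕ) (t : F) :
    liftSt X h12 h3 hout (pX D (D.steinbergRels F) r t) = X r t := by
  have : liftSt X h12 h3 hout (pX D (D.steinbergRels F) r t) =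
      FreeGroup.lift (fX D X) (D.stX r t) := rfl
  rw [this, lift_fX_stX X hout]

theorem liftSt_wordX (w : List (ℕ × F)) :
    liftSt X h12 h3 hout (wordX (pX D (D.steinbergRels F)) w) = wordX X w := by
  unfold wordX
  rw [map_list_prod, List.map_map]
  congr 1
  apply List.map_congr_left
  intro p _
  exact liftSt_pX X h12 h3 hout p.1 p.2

theorem liftSt_hH (r : ℕ) (a : F) :
    liftSt X h12 h3 hout (hH (pX D (D.steinbergRels F)) D r a) = hH X D r a := by
  unfold hH
  exact liftSt_wordX X h12 h3 hout _

end lift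

section center

variable (hD : IsTabulated D)

/-- the canonical generators of the Steinberg group -/
abbrev XS (D : ChevalleyDatum) (F : Type*) [Field F] : ℕ → F → D.SteinbergGroup F :=
  pX D (D.steinbergRels F)

theorem sub_rels : D.steinbergRelsAB F ⊆ D.steinbergRels F := fun g hg => Or.inl hg

theorem r12_XS : R12 D (XS D F) := r12_pX sub_rels

include hD in
theorem r3_XS {r : ℕ} (hr : r < D.nroots) {a b : F} (ha : a ≠ 0) (hb : b ≠ 0) :
    hH (XS D F) D r a * hH (XS D F) D r b = hH (XS D F) D r (a * b) := by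
  have h1 : PresentedGroup.mk (D.steinbergRels F)
      (D.stH r a * D.stH r b * (D.stH r (a * b))⁻¹) = 1 :=
    PresentedGroup.one_of_mem (Or.inr ⟨r, a, b, hr, ha, hb, rfl⟩)
  rw [map_mul, map_mul, map_inv, mul_inv_eq_one] at h1
  unfold ChevalleyDatum.stH at h1
  rw [mk_stWord, mk_stWord, mk_stWord] at h1
  exact h1

theorem thetaABC_XS (r : ℕ) (t : F) (hr : r < D.nroots) :
    ((thetaABC hD F (XS D F r t) : GL D.Idx F) : Matrix D.Idx D.Idx F) = D.x F r t :=
  thetaABC_apply hD r t hr

/-- the projection to `GL` -/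
noncomputable def piS : D.SteinbergGroup F →* GL D.Idx F :=
  (D.group F).subtype.comp (thetaABC hD F)

theorem piS_XS (r : ℕ) (hr : r < D.nroots) (t : F) :
    piS hD (XS D F r t) = xU (basicOK_of_tabulated hD) r t :=
  hπ_of hD sub_rels _ (fun r t hr => thetaABC_XS hD r t hr) r hr t

include hD in
theorem r3_XS_simple : ∀ i < D.rank, ∀ a b : F, a ≠ 0 → b ≠ 0 →
    hH (XS D F) D (D.simple i) a * hH (XS D F) D (D.simple i) b =
      hH (XS D F) D (D.simple i) (a * b) := by
  intro i hi a b ha hb
  exact r3_XS hD (simpleAll_of_tabulated hD hi).hS.1 ha hb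

/-- the centre is the kernel of the projection to the Chevalley group -/
theorem center_eq_ker : Subgroup.center (D.SteinbergGroup F) = (thetaABC hD F).ker := by
  have hθ : ∀ (r : ℕ) (t : F), r < D.nroots →
      ((thetaABC hD F (pX D (D.steinbergRels F) r t) : GL D.Idx F) : Matrix D.Idx D.Idx F) =
        D.x F r t := fun r t hr => thetaABC_apply hD r t hr
  have hsurj := surjective_pres (sub_rels (D := D) (F := F)) _ hθ
  apply le_antisymm
  · intro z hz
    have h1 : thetaABC hD F z ∈ Subgroup.center ↥(D.group F) := by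
      rw [Subgroup.mem_center_iff]
      intro g
      obtain ⟨x, rfl⟩ := hsurj g
      rw [← map_mul, ← map_mul, Subgroup.mem_center_iff.1 hz x]
    rw [center_group_eq_bot hD, Subgroup.mem_bot] at h1
    exact h1
  · exact ker_le_center_pres hD sub_rels _ hθ

include hD in
/-- every central element is a product `∏ ĥ_{p_i}(t_i)` with `t` killed by the fundamental
characters -/
theorem exists_of_mem_center {z : D.SteinbergGroup F}
    (hz : z ∈ Subgroup.center (D.SteinbergGroup F)) :
    ∃ t : ℕ → F, (∀ i, t i ≠ 0) ∧ z = prodH (XS D F) D t ∧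
      ∀ j < D.rank, ∏ i ∈ Finset.range D.rank, (t i) ^ (D.cartan i (D.simple j)) = 1 := by
  have hB := basicOK_of_tabulated hD
  have hθ : ∀ (r : ℕ) (t : F), r < D.nroots →
      ((thetaABC hD F (pX D (D.steinbergRels F) r t) : GL D.Idx F) : Matrix D.Idx D.Idx F) =
        D.x F r t := fun r t hr => thetaABC_apply hD r t hr
  rw [center_eq_ker hD] at hz
  have hzH := ker_le_Hh_pres hD sub_rels _ hθ hz
  obtain ⟨t, ht, rfl⟩ := exists_prodH (r12_XS (D := D) (F := F)) hD (piS hD) (piS_XS hD)
    (r3_XS_simple hD) hzH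
  refine ⟨t, ht, rfl, ?_⟩
  intro j hj
  have hp := (simpleAll_of_tabulated hD hj).hS.1
  have h1 := prodH_conj (r12_XS (D := D) (F := F)) hD (piS hD) (piS_XS hD) ht hp (1 : F)
  have hπk : piS hD (prodH (XS D F) D t) = 1 := by
    unfold piS
    rw [MonoidHom.comp_apply, MonoidHom.mem_ker.1 hz]
    rfl
  have h2 := congrArg (piS hD) h1
  rw [map_mul, map_mul, map_inv, hπk, one_mul, inv_one, mul_one, piS_XS hD _ hp,
    piS_XS hD _ hp] at h2
  have h3 := xU_inj hB hp h2
  rw [mul_one] at h3
  exact h3.symm

include hD in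
/-- a product `∏ ĥ_{p_i}(t_i)` killed by all root characters is central -/
theorem prodH_mem_center {t : ℕ → F} (ht : ∀ i, t i ≠ 0)
    (hχ : ∀ r < D.nroots, ∏ i ∈ Finset.range D.rank, (t i) ^ (D.cartan i r) = 1) :
    prodH (XS D F) D t ∈ Subgroup.center (D.SteinbergGroup F) := by
  have hcomm : ∀ r < D.nroots, ∀ u : F,
      XS D F r u * prodH (XS D F) D t = prodH (XS D F) D t * XS D F r u := by
    intro r hr u
    have h1 := prodH_conj (r12_XS (D := D) (F := F)) hD (piS hD) (piS_XS hD) ht hr u
    rw [hχ r hr, one_mul] at h1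
    calc XS D F r u * prodH (XS D F) D t
        = (prodH (XS D F) D t * XS D F r u * (prodH (XS D F) D t)⁻¹) * prodH (XS D F) D t := by
          rw [h1]
      _ = _ := by group
  have hle : (⊤ : Subgroup (D.SteinbergGroup F)) ≤
      Subgroup.centralizer {prodH (XS D F) D t} := by
    rw [← gen_pX (D := D) (rels := D.steinbergRels F), Subgroup.closure_le]
    rintro g ⟨r, hr, u, rfl⟩
    rw [SetLike.mem_coe, Subgroup.mem_centralizer_iff]
    intro y hy
    rw [Set.mem_singleton_iff] at hy
    rw [hy]
    exact (hcomm r hr u).symm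
  rw [Subgroup.mem_center_iff]
  intro g
  have := Subgroup.mem_centralizer_iff.1 (hle (Subgroup.mem_top g)) _ (Set.mem_singleton _)
  exact this.symm

end center

/-- integer combinations of the fundamental characters -/
theorem char_combination {B E : ℕ → ℕ → ℤ}
    (hBE : ∀ i < D.rank, ∀ k < D.rank,
      (∑ j ∈ Finset.range D.rank, D.cartan i (D.simple j) * B j k) = E i k)
    {t : ℕ → F} (ht : ∀ i, t i ≠ 0)
    (hχ : ∀ j < D.rank, ∏ i ∈ Finset.range D.rank, (t i) ^ (D.cartan i (D.simple j)) = 1) :
    ∀ k < D.rank, ∏ i ∈ Finset.range D.rank, (t i) ^ (E i k) = 1 := by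
  intro k hk
  have e1 : ∏ j ∈ Finset.range D.rank,
      (∏ i ∈ Finset.range D.rank, (t i) ^ (D.cartan i (D.simple j))) ^ (B j k) = 1 := by
    apply Finset.prod_eq_one
    intro j hj
    rw [hχ j (Finset.mem_range.1 hj), one_zpow]
  have e2 : ∏ j ∈ Finset.range D.rank,
      (∏ i ∈ Finset.range D.rank, (t i) ^ (D.cartan i (D.simple j))) ^ (B j k) =
      ∏ i ∈ Finset.range D.rank, (t i) ^ (E i k) := by
    calc ∏ j ∈ Finset.range D.rank,
          (∏ i ∈ Finset.range D.rank, (t i) ^ (D.cartan i (D.simple j))) ^ (B j k)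
        = ∏ j ∈ Finset.range D.rank, ∏ i ∈ Finset.range D.rank,
            ((t i) ^ (D.cartan i (D.simple j))) ^ (B j k) := by
          apply Finset.prod_congr rfl
          intro j _
          rw [Finset.prod_zpow]
      _ = ∏ i ∈ Finset.range D.rank, ∏ j ∈ Finset.range D.rank,
            ((t i) ^ (D.cartan i (D.simple j))) ^ (B j k) := Finset.prod_comm
      _ = _ := by
          apply Finset.prod_congr rfl
          intro i hi
          rw [← hBE i (Finset.mem_range.1 hi) k hk, zpow_sum_range (t i) (ht i)]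
          apply Finset.prod_congr rfl
          intro j _
          rw [zpow_mul]
  rw [e2] at e1
  exact e1

end Cfsg.Agent.Helper11.StCenter
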