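import Mathlib
import Cfsg.Agent.Helper11.StCenterA

set_option autoImplicit false
set_option linter.unusedSectionVars false
set_option linter.unusedSimpArgs false
set_option linter.unusedVariables false

/-! Centre of the Steinberg group, part B: a closed sub-root-system `D ⊆ D'` (with matching
structure constants) gives a homomorphism from the Steinberg group of `D` to the Chevalley group
of `D'`; it detects the last coordinate of a product `∏ ĥ_{p_i}(t_i)`. -/

namespace Cfsg.Agent.Helper11.StCenter

open Cfsg.Lie Cfsg.Agent.Helper6 Cfsg.Agent.Helper2.StPerf Cfsg.Agent.Helper2.Stb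

variable {D D' : ChevalleyDatum} {F : Type*} [Field F]

/-- an embedding of root data: `D'` has one more fundamental root, joined to the last
fundamental root of `D` only -/
structure Emb (D D' : ChevalleyDatum) (ι : ℕ → ℕ) : Prop where
  lt : ∀ r < D.nroots, ι r < D'.nroots
  out : ∀ r, ¬ r < D.nroots → ¬ ι r < D'.nroots
  neg : ∀ r < D.nroots, ι (D.neg r) = D'.neg (ι r)
  inj : ∀ r < D.nroots, ∀ s < D.nroots, ι r = ι s → r = s
  comm : ∀ r < D.nroots, ∀ s < D.nroots, s ≠ r → s ≠ D.neg r →
    (D.commTerms r s).map (fun c => (ι c.1, c.2)) = D'.commTerms (ι r) (ι s)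
  simple : ∀ i < D.rank, ι (D.simple i) = D'.simple i
  rank : D'.rank = D.rank + 1
  cart : ∀ i < D.rank + 1, D'.cartan i (D'.simple D.rank) =
    if i + 1 = D.rank then -1 else if i = D.rank then 2 else 0

/-- the Boolean form of the finite part of `Emb` -/
def embChk (D D' : ChevalleyDatum) (ι : ℕ → ℕ) : Bool :=
  allLt D.nroots (fun r => decide (ι r < D'.nroots) && decide (ι (D.neg r) = D'.neg (ι r)) &&
    allLt D.nroots (fun s => decide (ι r = ι s → r = s) &&
      (decide (s = r) || decide (s = D.neg r) ||
        decide ((D.commTerms r s).map (fun c => (ι c.1, c.2)) = D'.commTerms (ι r) (ι s))))) &&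
  allLt D.rank (fun i => decide (ι (D.simple i) = D'.simple i)) &&
  decide (D'.rank = D.rank + 1) &&
  allLt (D.rank + 1) (fun i => decide (D'.cartan i (D'.simple D.rank) =
    if i + 1 = D.rank then -1 else if i = D.rank then 2 else 0))

theorem emb_of_chk {ι : ℕ → ℕ} (h : embChk D D' ι = true)
    (hout : ∀ r, ¬ r < D.nroots → ¬ ι r < D'.nroots) : Emb D D' ι := by
  unfold embChk at h
  simp only [Bool.and_eq_true, allLt_iff, decide_eq_true_eq, Bool.or_eq_true] at h
  obtain ⟨⟨⟨h1, h2⟩, h3⟩, h4⟩ := h
  refine ⟨fun r hr => (h1 r hr).1.1, hout, fun r hr => (h1 r hr).1.2,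
    fun r hr s hs => ((h1 r hr).2 s hs).1, ?_, h2, h3, h4⟩
  intro r hr s hs hsr hsn
  rcases ((h1 r hr).2 s hs).2 with (h5 | h5) | h5
  · exact absurd h5 hsr
  · exact absurd h5 hsn
  · exact h5

section emb

variable {ι : ℕ → ℕ} (hE : Emb D D' ι) (hD : IsTabulated D) (hD' : IsTabulated D')

/-- the root elements of `D'` indexed by the roots of `D` -/
def XE (hB' : BasicOK D') (F : Type*) [Field F] (ι : ℕ → ℕ) : ℕ → F → GL D'.Idx F :=
  fun r t => xU hB' (ι r) t

theorem wordX_XE (hB' : BasicOK D') (w : List (ℕ × F)) :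
    wordX (XE hB' F ι) w = wordX (XU hB' F) (w.map fun p => (ι p.1, p.2)) := by
  unfold wordX
  rw [List.map_map]
  rfl

include hE hD in
theorem r12_XE : R12 D (XE (basicOK_of_tabulated hD') F ι) := by
  have hB := basicOK_of_tabulated hD
  have hB' := basicOK_of_tabulated hD'
  have h' := r12_XU (F := F) hD'
  constructor
  · intro r hr t u
    exact Cfsg.Agent.Helper6.xU_mul hB' (ι r) t u
  · intro r hr s hs h1 h2 t u
    have hn := hB.neg r hr
    have e1 : ι s ≠ ι r := fun e => h1 (hE.inj s hs r hr e)
    have e2 : ι s ≠ D'.neg (ι r) := by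
      rw [← hE.neg r hr]
      exact fun e => h2 (hE.inj s hs _ hn.1 e)
    have h3 := h'.comm (ι r) (hE.lt r hr) (ι s) (hE.lt s hs) e1 e2 t u
    rw [wordX_XE]
    have e3 : (D.commWord F r s t u).map (fun p => (ι p.1, p.2)) =
        D'.commWord F (ι r) (ι s) t u := by
      unfold ChevalleyDatum.commWord
      rw [← hE.comm r hr s hs h1 h2, List.map_map, List.map_map]
      rfl
    rw [e3]
    exact h3

include hE hD in
theorem hH_XE {r : ℕ} (hr : r < D.nroots) (a : F) :
    hH (XE (basicOK_of_tabulated hD') F ι) D r a =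
      hH (XU (basicOK_of_tabulated hD') F) D' (ι r) a := by
  unfold hH
  rw [wordX_XE]
  congr 1
  unfold ChevalleyDatum.hWord ChevalleyDatum.nWord
  simp only [List.map_cons, List.map_nil, List.cons_append, List.nil_append, hE.neg r hr]

include hE hD in
theorem r3_XE : ∀ r < D.nroots, ∀ a b : F, a ≠ 0 → b ≠ 0 →
    hH (XE (basicOK_of_tabulated hD') F ι) D r a * hH (XE (basicOK_of_tabulated hD') F ι) D r b =
      hH (XE (basicOK_of_tabulated hD') F ι) D r (a * b) := by
  intro r hr a b ha hb
  rw [hH_XE hE hD hD' hr, hH_XE hE hD hD' hr, hH_XE hE hD hD' hr]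
  exact r3_XU hD' (hE.lt r hr) ha hb

include hE in
theorem out_XE : ∀ r, ¬ r < D.nroots → ∀ t : F, XE (basicOK_of_tabulated hD') F ι r t = 1 := by
  intro r hr t
  exact xU_of_ge (basicOK_of_tabulated hD') (hE.out r hr) t

/-- the homomorphism from the Steinberg group of `D` to the Chevalley group of `D'` -/
noncomputable def psiE : D.SteinbergGroup F →* GL D'.Idx F :=
  liftSt (XE (basicOK_of_tabulated hD') F ι) (r12_XE hE hD hD') (r3_XE hE hD hD')
    (out_XE hE hD')

theorem psiE_hH {i : ℕ} (hi : i < D.rank) (a : F) :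
    psiE hE hD hD' (hH (XS D F) D (D.simple i) a) =
      hH (XU (basicOK_of_tabulated hD') F) D' (D'.simple i) a := by
  unfold psiE
  rw [liftSt_hH, hH_XE hE hD hD' (simpleAll_of_tabulated hD hi).hS.1, hE.simple i hi]

theorem hH_XU_one {r : ℕ} (hr : r < D'.nroots) :
    hH (XU (basicOK_of_tabulated hD') F) D' r (1 : F) = 1 := by
  have h1 := r3_XU (F := F) hD' hr (one_ne_zero (α := F)) (one_ne_zero (α := F))
  rw [mul_one] at h1
  exact mul_left_cancel (h1.trans (mul_one _).symm)

include hE hD hD' in
/-- the image of a product `∏ ĥ_{p_i}(t_i)` acts on the new fundamental root subgroup through the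
inverse of the last coordinate -/
theorem psiE_prodH_conj (hr : 0 < D.rank) {t : ℕ → F} (ht : ∀ i, t i ≠ 0) (u : F) :
    psiE hE hD hD' (prodH (XS D F) D t) * xU (basicOK_of_tabulated hD') (D'.simple D.rank) u *
      (psiE hE hD hD' (prodH (XS D F) D t))⁻¹ =
      xU (basicOK_of_tabulated hD') (D'.simple D.rank) ((t (D.rank - 1))⁻¹ * u) := by
  have hB' := basicOK_of_tabulated hD'
  obtain ⟨t', ht'def⟩ : ∃ t' : ℕ → F, t' = fun i => if i < D.rank then t i else 1 := ⟨_, rfl⟩
  have ht' : ∀ i, t' i ≠ 0 := by
    intro i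
    rw [ht'def]
    by_cases h : i < D.rank
    · simp only [if_pos h]; exact ht i
    · simp only [if_neg h]; exact one_ne_zero
  have hlast : D.rank < D'.rank := by rw [hE.rank]; exact Nat.lt_succ_self _
  have hp0 := (simpleAll_of_tabulated hD' hlast).hS.1
  -- the image of the product
  have e1 : prodH (XU hB' F) D' t' = psiE hE hD hD' (prodH (XS D F) D t) := by
    unfold prodH
    have hrange : List.range D'.rank = List.range D.rank ++ [D.rank] := by
      rw [hE.rank, List.range_succ]
    rw [hrange, List.map_append, List.prod_append, map_list_prod, List.map_map]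
    have e2 : t' D.rank = 1 := by rw [ht'def]; simp
    simp only [List.map_cons, List.map_nil, List.prod_cons, List.prod_nil, mul_one]
    rw [e2, hH_XU_one hD' hp0, mul_one]
    congr 1
    apply List.map_congr_left
    intro i hi
    have hi' := List.mem_range.1 hi
    rw [Function.comp_apply, psiE_hH hE hD hD' hi']
    have : t' i = t i := by rw [ht'def]; simp only [if_pos hi']
    rw [this]
  have h2 := prodH_conj (r12_XU (F := F) hD') hD' (MonoidHom.id _) (fun r _ t => rfl) ht' hp0 u
  -- evaluate the character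
  have e3 : ∏ i ∈ Finset.range D'.rank, t' i ^ D'.cartan i (D'.simple D.rank) =
      (t (D.rank - 1))⁻¹ := by
    have hrange : Finset.range D'.rank = Finset.range (D.rank + 1) := by rw [hE.rank]
    rw [hrange, Finset.prod_eq_single (D.rank - 1)]
    · have hlt : D.rank - 1 < D.rank + 1 := by omega
      rw [hE.cart _ hlt, if_pos (by omega), zpow_neg_one]
      have : t' (D.rank - 1) = t (D.rank - 1) := by
        rw [ht'def]; simp only [if_pos (show D.rank - 1 < D.rank by omega)]
      rw [this]
    · intro i hi hne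
      have hi' := Finset.mem_range.1 hi
      rw [hE.cart i hi']
      by_cases c1 : i + 1 = D.rank
      · exact absurd (by omega) hne
      · rw [if_neg c1]
        by_cases c2 : i = D.rank
        · rw [if_pos c2, c2]
          have : t' D.rank = 1 := by rw [ht'def]; simp
          rw [this, one_zpow]
        · rw [if_neg c2, zpow_zero]
    · intro hni
      exact absurd (Finset.mem_range.2 (by omega)) hni
  rw [e3, e1] at h2
  exact h2

include hE hD hD' in
/-- the last coordinate of a product `∏ ĥ_{p_i}(t_i)` is determined by the product -/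
theorem last_eq_of_prodH_eq (hr : 0 < D.rank) {t s : ℕ → F} (ht : ∀ i, t i ≠ 0)
    (hs : ∀ i, s i ≠ 0) (h1 : prodH (XS D F) D t = prodH (XS D F) D s) :
    t (D.rank - 1) = s (D.rank - 1) := by
  have hB' := basicOK_of_tabulated hD'
  have hlast : D.rank < D'.rank := by rw [hE.rank]; exact Nat.lt_succ_self _
  have hp0 := (simpleAll_of_tabulated hD' hlast).hS.1
  have h2 := psiE_prodH_conj hE hD hD' hr ht (1 : F)
  have h3 := psiE_prodH_conj hE hD hD' hr hs (1 : F)
  rw [h1, h3] at h2
  have h4 := xU_inj hB' hp0 h2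
  rw [mul_one, mul_one] at h4
  exact (inv_injective h4).symm

end emb

end Cfsg.Agent.Helper11.StCenter
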