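import Mathlib
import Cfsg.Agent.Helper11.StCenterB

set_option autoImplicit false
set_option linter.unusedSectionVars false
set_option linter.unusedSimpArgs false
set_option linter.unusedVariables false

/-! Centre of the Steinberg group, part C: from the combinatorial data (an embedding `D ⊆ D'`,
the exponent vector of the central elements and an integer solution matrix) to the order of the
centre. -/

namespace Cfsg.Agent.Helper11.StCenter

open Cfsg.Lie Cfsg.Agent.Helper6 Cfsg.Agent.Helper2.StPerf Cfsg.Agent.Helper2.Stb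

variable {D D' : ChevalleyDatum} {F : Type*} [Field F]

/-- the target matrix: column `k ≠ i0` says `t_k = t_{i0} ^ ex k`, column `i0` says
`t_{i0} ^ d = 1` -/
def Emat (d : ℕ) (ex : ℕ → ℕ) (i0 : ℕ) (i k : ℕ) : ℤ :=
  if i = k then (if k = i0 then (d : ℤ) else 1) else if i = i0 then -(ex k : ℤ) else 0

/-- the combinatorial data describing the centre -/
structure CenData (D : ChevalleyDatum) (d : ℕ) (ex : ℕ → ℕ) (i0 : ℕ) (B : ℕ → ℕ → ℤ) : Prop where
  hi0 : i0 < D.rank
  ex0 : ex i0 = 1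
  root : ∀ r < D.nroots,
    (d : ℤ) ∣ ((List.range D.rank).map fun i => (ex i : ℤ) * D.cartan i r).sum
  hBE : ∀ i < D.rank, ∀ k < D.rank,
    ((List.range D.rank).map fun j => D.cartan i (D.simple j) * B j k).sum = Emat d ex i0 i k
  cop : Nat.Coprime (ex (D.rank - 1)) d

/-- Boolean form -/
def cenChk (D : ChevalleyDatum) (d : ℕ) (ex : ℕ → ℕ) (i0 : ℕ) (B : ℕ → ℕ → ℤ) : Bool :=
  decide (i0 < D.rank) && decide (ex i0 = 1) &&
  allLt D.nroots (fun r =>
    decide (((List.range D.rank).map fun i => (ex i : ℤ) * D.cartan i r).sum % (d : ℤ) = 0)) &&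
  allLt D.rank (fun i => allLt D.rank fun k =>
    decide (((List.range D.rank).map fun j => D.cartan i (D.simple j) * B j k).sum =
      Emat d ex i0 i k)) &&
  decide (Nat.Coprime (ex (D.rank - 1)) d)

theorem cenData_of_chk {d : ℕ} {ex : ℕ → ℕ} {i0 : ℕ} {B : ℕ → ℕ → ℤ}
    (h : cenChk D d ex i0 B = true) : CenData D d ex i0 B := by
  unfold cenChk at h
  simp only [Bool.and_eq_true, allLt_iff, decide_eq_true_eq] at h
  obtain ⟨⟨⟨⟨h1, h2⟩, h3⟩, h4⟩, h5⟩ := h
  exact ⟨h1, h2, fun r hr => Int.dvd_of_emod_eq_zero (h3 r hr), h4, h5⟩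

theorem prodH_congr {M : Type*} [Group M] (X : ℕ → F → M) {t s : ℕ → F}
    (h : ∀ i < D.rank, t i = s i) : prodH X D t = prodH X D s := by
  unfold prodH
  congr 1
  apply List.map_congr_left
  intro i hi
  rw [h i (List.mem_range.1 hi)]

section main

variable {ι : ℕ → ℕ} (hE : Emb D D' ι) (hD : IsTabulated D) (hD' : IsTabulated D')
  {d : ℕ} {ex : ℕ → ℕ} {i0 : ℕ} {B : ℕ → ℕ → ℤ} (hC : CenData D d ex i0 B)

/-- the torus element attached to a `d`-th root of unity -/
def tOf (ex : ℕ → ℕ) (ω : Fˣ) : ℕ → F := fun i => ((ω ^ (ex i) : Fˣ) : F)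

theorem tOf_ne_zero (ω : Fˣ) (i : ℕ) : tOf ex ω i ≠ 0 := Units.ne_zero _

include hC hD in
theorem tOf_mem_center {ω : Fˣ} (hω : ω ^ d = 1) :
    prodH (XS D F) D (tOf ex ω) ∈ Subgroup.center (D.SteinbergGroup F) := by
  apply prodH_mem_center hD (tOf_ne_zero ω)
  intro r hr
  obtain ⟨m, hm⟩ := hC.root r hr
  rw [list_sum_range_eq] at hm
  have e1 : ∀ i ∈ Finset.range D.rank, tOf ex ω i ^ D.cartan i r =
      ((ω ^ ((ex i : ℤ) * D.cartan i r) : Fˣ) : F) := by
    intro i _
    unfold tOf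
    rw [← Units.val_zpow_eq_zpow_val, ← zpow_natCast, ← zpow_mul]
  rw [Finset.prod_congr rfl e1, ← Units.coe_prod, Finset.prod_zpow_eq_zpow_sum_aux ω]
  rw [hm, zpow_mul, zpow_natCast, hω, one_zpow, Units.val_one]
where
  Finset.prod_zpow_eq_zpow_sum_aux (ω : Fˣ) {s : Finset ℕ} {f : ℕ → ℤ} :
      ∏ i ∈ s, ω ^ f i = ω ^ ∑ i ∈ s, f i := by
    classical
    induction s using Finset.induction_on with
    | empty => simp
    | insert a s ha ih => rw [Finset.prod_insert ha, Finset.sum_insert ha, ih, zpow_add]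

include hC hD in
/-- every central element comes from a `d`-th root of unity -/
theorem exists_tOf_of_mem_center {z : D.SteinbergGroup F}
    (hz : z ∈ Subgroup.center (D.SteinbergGroup F)) :
    ∃ ω : Fˣ, ω ^ d = 1 ∧ z = prodH (XS D F) D (tOf ex ω) := by
  obtain ⟨t, ht, rfl, hχ⟩ := exists_of_mem_center hD hz
  have hBE : ∀ i < D.rank, ∀ k < D.rank,
      (∑ j ∈ Finset.range D.rank, D.cartan i (D.simple j) * B j k) = Emat d ex i0 i k := by
    intro i hi k hk
    rw [← list_sum_range_eq]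
    exact hC.hBE i hi k hk
  have hcomb := char_combination hBE ht hχ
  have hi0 := hC.hi0
  -- the pivot coordinate
  have h0 : (t i0) ^ d = 1 := by
    have h1 := hcomb i0 hi0
    rw [Finset.prod_eq_single i0] at h1
    · unfold Emat at h1
      rw [if_pos rfl, if_pos rfl, zpow_natCast] at h1
      exact h1
    · intro i _ hne
      unfold Emat
      rw [if_neg hne, if_neg hne, zpow_zero]
    · intro hni
      exact absurd (Finset.mem_range.2 hi0) hni
  have hk : ∀ k < D.rank, t k = (t i0) ^ (ex k) := by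
    intro k hk
    by_cases hki : k = i0
    · rw [hki, hC.ex0, pow_one]
    · have h1 := hcomb k hk
      rw [Finset.prod_eq_mul k i0 hki] at h1
      · unfold Emat at h1
        rw [if_pos rfl, if_neg hki, if_neg (Ne.symm hki), if_pos rfl, zpow_one, zpow_neg,
          zpow_natCast] at h1
        exact eq_of_mul_inv_eq_one h1
      · intro i _ hne
        unfold Emat
        rw [if_neg hne.1, if_neg hne.2, zpow_zero]
      · intro hni
        exact absurd (Finset.mem_range.2 hk) hni
      · intro hni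
        exact absurd (Finset.mem_range.2 hi0) hni
  refine ⟨Units.mk0 (t i0) (ht i0), ?_, ?_⟩
  · apply Units.ext
    rw [Units.val_pow_eq_pow_val, Units.val_mk0, h0, Units.val_one]
  · apply prodH_congr
    intro k hk'
    unfold tOf
    rw [Units.val_pow_eq_pow_val, Units.val_mk0]
    exact hk k hk'

include hC hE hD hD' in
theorem tOf_injective {ω ω' : Fˣ} (hω : ω ^ d = 1) (hω' : ω' ^ d = 1)
    (h : prodH (XS D F) D (tOf ex ω) = prodH (XS D F) D (tOf ex ω')) : ω = ω' := by
  have hr : 0 < D.rank := lt_of_le_of_lt (Nat.zero_le _) hC.hi0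
  have h1 := last_eq_of_prodH_eq hE hD hD' hr (tOf_ne_zero ω) (tOf_ne_zero ω') h
  unfold tOf at h1
  have h2 : ω ^ (ex (D.rank - 1)) = ω' ^ (ex (D.rank - 1)) := Units.ext h1
  obtain ⟨η, hη⟩ : ∃ η : Fˣ, η = ω * ω'⁻¹ := ⟨_, rfl⟩
  have h3 : η ^ (ex (D.rank - 1)) = 1 := by
    rw [hη, mul_pow, inv_pow, h2, mul_inv_cancel]
  have h4 : η ^ d = 1 := by
    rw [hη, mul_pow, inv_pow, hω, hω', inv_one, mul_one]
  have h5 : orderOf η ∣ Nat.gcd (ex (D.rank - 1)) d :=
    Nat.dvd_gcd (orderOf_dvd_of_pow_eq_one h3) (orderOf_dvd_of_pow_eq_one h4)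
  rw [hC.cop.gcd_eq_one, Nat.dvd_one, orderOf_eq_one_iff] at h5
  rw [hη] at h5
  exact mul_inv_eq_one.1 h5

include hC hE hD hD' in
/-- the centre of the Steinberg group is in bijection with the `d`-th roots of unity -/
theorem card_center_eq :
    Nat.card (Subgroup.center (D.SteinbergGroup F)) =
      Nat.card (powMonoidHom d : Fˣ →* Fˣ).ker := by
  symm
  apply Nat.card_congr
  refine Equiv.ofBijective (fun ω => ⟨prodH (XS D F) D (tOf ex ω.1),
    tOf_mem_center hD hC (by have := ω.2; rwa [MonoidHom.mem_ker, powMonoidHom_apply] at this)⟩)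
    ⟨?_, ?_⟩
  · intro ω ω' h
    have h1 := congrArg Subtype.val h
    simp only at h1
    have e1 : ω.1 ^ d = 1 := by have := ω.2; rwa [MonoidHom.mem_ker, powMonoidHom_apply] at this
    have e2 : ω'.1 ^ d = 1 := by
      have := ω'.2; rwa [MonoidHom.mem_ker, powMonoidHom_apply] at this
    exact Subtype.ext (tOf_injective hE hD hD' hC e1 e2 h1)
  · intro z
    obtain ⟨ω, hω, hz⟩ := exists_tOf_of_mem_center hD hC z.2
    refine ⟨⟨ω, by rw [MonoidHom.mem_ker, powMonoidHom_apply]; exact hω⟩, ?_⟩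
    exact Subtype.ext hz.symm

include hC hE hD hD' in
theorem card_center_eq_gcd [Fintype F] :
    Nat.card (Subgroup.center (D.SteinbergGroup F)) = Nat.gcd d (Fintype.card F - 1) := by
  rw [card_center_eq hE hD hD' hC, IsCyclic.card_powMonoidHom_ker, Nat.card_units,
    Nat.card_eq_fintype_card, Nat.gcd_comm]

end main

end Cfsg.Agent.Helper11.StCenter
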