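import Mathlib
import Cfsg.Agent.Helper11.StCenterC
import Cfsg.Prelude.Def_LieTypes

set_option autoImplicit false
set_option linter.unusedSectionVars false
set_option linter.unusedSimpArgs false
set_option linter.unusedVariables false

/-! Centre of the Steinberg group, part D: the data for `E₆ ⊆ E₇` and `E₇ ⊆ E₈`, and the orders
of the centres of the universal groups of type `E₆` and `E₇`. -/

namespace Cfsg.Agent.Helper11.StCenter

open Cfsg.Lie Cfsg.Agent.Helper6 Cfsg.Agent.Helper2.StPerf Cfsg.Agent.Helper2.Stb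

/-- the roots of `E₆` among the roots of `E₇` -/
def iotaE6Arr : Array ℕ := #[6, 10, 13, 15, 16, 19, 21, 22, 24, 25, 26, 28, 29, 30, 31, 32, 35, 37, 38, 40, 41, 42, 44, 45, 46, 47, 49, 50, 51, 52, 54, 55, 56, 58, 59, 61, 64, 66, 67, 69, 70, 71, 73, 74, 75, 76, 78, 79, 80, 81, 83, 84, 85, 87, 88, 90, 93, 94, 95, 96, 97, 99, 100, 101, 103, 104, 106, 109, 110, 112, 115, 119]

/-- the roots of `E₇` among the roots of `E₈` -/
def iotaE7Arr : Array ℕ := #[13, 20, 25, 29, 32, 34, 35, 39, 42, 44, 45, 48, 50, 51, 53, 54, 55, 58, 60, 61, 63, 64, 65, 67, 68, 69, 70, 72, 73, 74, 75, 76, 77, 80, 82, 83, 85, 86, 87, 89, 90, 91, 92, 94, 95, 96, 97, 98, 100, 101, 102, 103, 104, 106, 107, 108, 109, 111, 112, 113, 115, 116, 118, 121, 123, 124, 126, 127, 128, 130, 131, 132, 133, 135, 136, 137, 138, 139, 141, 142, 143, 144, 145, 147, 148, 149, 150, 152, 153, 154, 156, 157, 159, 162, 163, 164, 165, 166, 167, 169, 170, 171, 172, 174, 175, 176, 178, 179, 181, 184, 185,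 186, 188, 189, 191, 194, 195, 197, 200, 204, 205, 207, 210, 214, 219, 226]

def iotaE6 (r : ℕ) : ℕ := if r < 72 then iotaE6Arr.getD r 0 else 1000

def iotaE7 (r : ℕ) : ℕ := if r < 126 then iotaE7Arr.getD r 0 else 1000

set_option maxRecDepth 1000000 in
theorem embChk_E6 : embChk chevE6 chevE7 iotaE6 = true := by decide +kernel

set_option maxRecDepth 1000000 in
theorem embChk_E7 : embChk chevE7 chevE8 iotaE7 = true := by decide +kernel

theorem emb_E6 : Emb chevE6 chevE7 iotaE6 := by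
  apply emb_of_chk embChk_E6
  intro r hr
  have hr' : ¬ r < 72 := hr
  unfold iotaE6
  rw [if_neg hr']
  show ¬ 1000 < 126
  norm_num

theorem emb_E7 : Emb chevE7 chevE8 iotaE7 := by
  apply emb_of_chk embChk_E7
  intro r hr
  have hr' : ¬ r < 126 := hr
  unfold iotaE7
  rw [if_neg hr']
  show ¬ 1000 < 240
  norm_num

/-- exponents of the central elements of `E₆`: `h₁(ω) h₃(ω²) h₅(ω) h₆(ω²)` -/
def exE6 (i : ℕ) : ℕ := ([1, 0, 2, 0, 1, 2] : List ℕ).getD i 0

/-- exponents of the central element of `E₇`: `h₂(-1) h₅(-1) h₇(-1)` -/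
def exE7 (i : ℕ) : ℕ := ([0, 1, 0, 0, 1, 0, 1] : List ℕ).getD i 0

def BE6 (j k : ℕ) : ℤ :=
  (([[4, 1, -1, 2, 0, -2], [3, 2, 0, 3, 1, -1], [5, 2, 0, 4, 1, -2], [6, 3, 0, 6, 2, -2], [4, 2, 0, 4, 2, -1], [2, 1, 0, 2, 1, 0]] : List (List ℤ)).getD j []).getD k 0

def BE7 (j k : ℕ) : ℤ :=
  (([[2, 4, 3, 4, 1, 2, -1], [2, 7, 4, 6, 1, 3, -2], [3, 8, 6, 8, 2, 4, -2], [4, 12, 8, 12, 3, 6, -3], [3, 9, 6, 9, 3, 5, -2], [2, 6, 4, 6, 2, 4, -1], [1, 3, 2, 3, 1, 2, 0]] : List (List ℤ)).getD j []).getD k 0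

set_option maxRecDepth 1000000 in
theorem cenChk_E6 : cenChk chevE6 3 exE6 0 BE6 = true := by decide +kernel

set_option maxRecDepth 1000000 in
theorem cenChk_E7 : cenChk chevE7 2 exE7 1 BE7 = true := by decide +kernel

theorem isTab_E6 : IsTabulated chevE6 := by unfold IsTabulated; simp

theorem isTab_E7 : IsTabulated chevE7 := by unfold IsTabulated; simp

theorem isTab_E8 : IsTabulated chevE8 := by unfold IsTabulated; simp

variable {K : Type*} [Field K] [Fintype K]

/-- the centre of the universal group of type `E₆` has order `gcd(3, q - 1)` -/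
theorem card_center_E6 :
    Nat.card (Subgroup.center (chevE6.SteinbergGroup K)) = Nat.gcd 3 (Fintype.card K - 1) :=
  card_center_eq_gcd emb_E6 isTab_E6 isTab_E7 (cenData_of_chk cenChk_E6)

/-- the centre of the universal group of type `E₇` has order `gcd(2, q - 1)` -/
theorem card_center_E7 :
    Nat.card (Subgroup.center (chevE7.SteinbergGroup K)) = Nat.gcd 2 (Fintype.card K - 1) :=
  card_center_eq_gcd emb_E7 isTab_E7 isTab_E8 (cenData_of_chk cenChk_E7)

end Cfsg.Agent.Helper11.StCenter
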