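import Mathlib
import Cfsg.Agent.Helper11.StCenterD

set_option autoImplicit false

/-! Centre of the Steinberg group, part E: the centres of the universal groups of type `E₆`, `E₇`
are cyclic. -/

namespace Cfsg.Agent.Helper11.StCenter

open Cfsg.Lie

variable {K : Type*} [Field K] [Fintype K]

theorem isCyclic_of_card_eq_gcd_prime {G : Type*} [Group G] {d m : ℕ} (hd : d.Prime)
    (h : Nat.card G = Nat.gcd d m) : IsCyclic G := by
  rcases (Nat.dvd_prime hd).1 (Nat.gcd_dvd_left d m) with h1 | h1
  · rw [h1] at h
    have : Finite G := Nat.finite_of_card_ne_zero (by rw [h]; exact one_ne_zero)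
    have : Subsingleton G := (Nat.card_eq_one_iff_unique.1 h).1
    infer_instance
  · rw [h1] at h
    have : Fact d.Prime := ⟨hd⟩
    exact isCyclic_of_prime_card h

/-- the centre of the universal group of type `E₆` is cyclic -/
theorem isCyclic_center_E6 : IsCyclic (Subgroup.center (chevE6.SteinbergGroup K)) :=
  isCyclic_of_card_eq_gcd_prime Nat.prime_three card_center_E6

/-- the centre of the universal group of type `E₇` is cyclic -/
theorem isCyclic_center_E7 : IsCyclic (Subgroup.center (chevE7.SteinbergGroup K)) :=
  isCyclic_of_card_eq_gcd_prime Nat.prime_two card_center_E7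

/-- the centre of the universal group of type `E₆`, as a group -/
theorem nonempty_mulEquiv_center_E6 :
    Nonempty (Subgroup.center (chevE6.SteinbergGroup K) ≃*
      Multiplicative (ZMod (Nat.gcd 3 (Fintype.card K - 1)))) := by
  have e := zmodCyclicMulEquiv (isCyclic_center_E6 (K := K))
  rw [card_center_E6] at e
  exact ⟨e.symm⟩

/-- the centre of the universal group of type `E₇`, as a group -/
theorem nonempty_mulEquiv_center_E7 :
    Nonempty (Subgroup.center (chevE7.SteinbergGroup K) ≃*
      Multiplicative (ZMod (Nat.gcd 2 (Fintype.card K - 1)))) := by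
  have e := zmodCyclicMulEquiv (isCyclic_center_E7 (K := K))
  rw [card_center_E7] at e
  exact ⟨e.symm⟩

end Cfsg.Agent.Helper11.StCenter
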