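import Mathlib

/-! The Suzuki 2-group `A(n, θ)` as a group structure on `F × F`, and the shape of its
automorphisms. -/

set_option autoImplicit false
set_option linter.unusedSectionVars false
set_option linter.unusedVariables false

namespace Cfsg.Agent.Helper11.SuzTwo

/-- carrier of the Suzuki 2-group: pairs `(a, b)` with
`(a, b) (a', b') = (a + a', b + b' + a^(2^k) a')` -/
@[ext]
structure SG (F : Type*) (k : ℕ) where
  a : F
  b : F

variable {F : Type*} [Field F] [CharP F 2] {k : ℕ}

theorem add_pow_two_pow (x y : F) : (x + y) ^ (2 ^ k) = x ^ (2 ^ k) + y ^ (2 ^ k) :=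
  add_pow_char_pow x y 2 k

instance : Mul (SG F k) := ⟨fun x y => ⟨x.a + y.a, x.b + y.b + x.a ^ (2 ^ k) * y.a⟩⟩
instance : One (SG F k) := ⟨⟨0, 0⟩⟩
instance : Inv (SG F k) := ⟨fun x => ⟨x.a, x.b + x.a ^ (2 ^ k) * x.a⟩⟩

@[simp] theorem mul_a (x y : SG F k) : (x * y).a = x.a + y.a := rfl
@[simp] theorem mul_b (x y : SG F k) : (x * y).b = x.b + y.b + x.a ^ (2 ^ k) * y.a := rfl
@[simp] theorem one_a : (1 : SG F k).a = 0 := rfl
@[simp] theorem one_b : (1 : SG F k).b = 0 := rfl
@[simp] theorem inv_a (x : SG F k) : (x⁻¹).a = x.a := rfl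
@[simp] theorem inv_b (x : SG F k) : (x⁻¹).b = x.b + x.a ^ (2 ^ k) * x.a := rfl

instance : Group (SG F k) where
  mul_assoc x y z := by
    ext
    · simp only [mul_a]; ring
    · simp only [mul_a, mul_b, add_pow_two_pow]; ring
  one_mul x := by
    ext
    · simp
    · simp [zero_pow (pow_ne_zero k two_ne_zero)]
  mul_one x := by
    ext
    · simp
    · simp
  inv_mul_cancel x := by
    ext
    · simp only [mul_a, inv_a, one_a]
      exact CharTwo.add_self_eq_zero _
    · simp only [mul_b, inv_a, inv_b, one_b]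
      have h2 : (2 : F) = 0 := CharTwo.two_eq_zero
      linear_combination (x.b + x.a ^ 2 ^ k * x.a) * h2

theorem mk_mul_mk (a b a' b' : F) :
    (⟨a, b⟩ : SG F k) * ⟨a', b'⟩ = ⟨a + a', b + b' + a ^ (2 ^ k) * a'⟩ := rfl

theorem one_def : (1 : SG F k) = ⟨0, 0⟩ := rfl

theorem split (a b : F) : (⟨a, b⟩ : SG F k) = ⟨a, 0⟩ * ⟨0, b⟩ := by
  rw [mk_mul_mk]; ext <;> simp

theorem sq_mk (a b : F) : (⟨a, b⟩ : SG F k) * ⟨a, b⟩ = ⟨0, a ^ (2 ^ k + 1)⟩ := by
  rw [mk_mul_mk]
  ext
  · exact CharTwo.add_self_eq_zero _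
  · show b + b + a ^ 2 ^ k * a = a ^ (2 ^ k + 1)
    rw [CharTwo.add_self_eq_zero, zero_add, pow_succ]

theorem a_eq_zero_iff (x : SG F k) : x.a = 0 ↔ x * x = 1 := by
  obtain ⟨a, b⟩ := x
  rw [sq_mk, one_def]
  constructor
  · intro h
    have h' : a = 0 := h
    subst h'
    rw [zero_pow (Nat.succ_ne_zero _)]
  · intro h
    have : a ^ (2 ^ k + 1) = 0 := congrArg SG.b h
    exact (pow_eq_zero_iff (Nat.succ_ne_zero _)).mp this

/-- automorphisms preserve the centre `{a = 0}` -/
theorem map_a_eq_zero (α : SG F k ≃* SG F k) {x : SG F k} (hx : x.a = 0) : (α x).a = 0 := by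
  rw [a_eq_zero_iff] at hx ⊢
  rw [← map_mul, hx, map_one]

/-- the `a`-part of an automorphism -/
def Afun (α : SG F k ≃* SG F k) (a : F) : F := (α ⟨a, 0⟩).a

/-- the `b`-part of an automorphism on the centre -/
def Bfun (α : SG F k ≃* SG F k) (b : F) : F := (α ⟨0, b⟩).b

/-- the cross term -/
def Cfun (α : SG F k ≃* SG F k) (a : F) : F := (α ⟨a, 0⟩).b

theorem map_center (α : SG F k ≃* SG F k) (b : F) : α ⟨0, b⟩ = ⟨0, Bfun α b⟩ := by
  ext
  · exact map_a_eq_zero α rfl
  · rfl

theorem map_mk (α : SG F k ≃* SG F k) (a b : F) :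
    α ⟨a, b⟩ = ⟨Afun α a, Cfun α a + Bfun α b⟩ := by
  rw [split a b, map_mul, map_center]
  ext
  · simp [Afun]
  · simp [Cfun]

theorem Afun_add (α : SG F k ≃* SG F k) (a a' : F) : Afun α (a + a') = Afun α a + Afun α a' := by
  have h := congrArg α (mk_mul_mk (k := k) a 0 a' 0)
  rw [map_mul, map_mk, map_mk, map_mk, mk_mul_mk] at h
  exact (congrArg SG.a h).symm

theorem Bfun_add (α : SG F k ≃* SG F k) (b b' : F) : Bfun α (b + b') = Bfun α b + Bfun α b' := by
  have e : (⟨0, b⟩ : SG F k) * ⟨0, b'⟩ = ⟨0, b + b'⟩ := by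
    rw [mk_mul_mk]; ext <;> simp
  have h := congrArg α e
  rw [map_mul, map_center, map_center, map_center, mk_mul_mk] at h
  have h2 := congrArg SG.b h
  simp only [mul_zero, add_zero] at h2
  exact h2.symm

theorem Bfun_pow (α : SG F k ≃* SG F k) (a : F) :
    Bfun α (a ^ (2 ^ k + 1)) = (Afun α a) ^ (2 ^ k + 1) := by
  have h := congrArg α (sq_mk (k := k) a 0)
  rw [map_mul, map_mk, sq_mk, map_center] at h
  exact (congrArg SG.b h).symm

theorem Afun_mul (α β : SG F k ≃* SG F k) (a : F) :
    Afun (β.trans α) a = Afun α (Afun β a) := by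
  unfold Afun
  show (α (β ⟨a, 0⟩)).a = _
  rw [map_mk β, map_mk α, map_mk α]

theorem Bfun_mul (α β : SG F k ≃* SG F k) (b : F) :
    Bfun (β.trans α) b = Bfun α (Bfun β b) := by
  unfold Bfun
  show (α (β ⟨0, b⟩)).b = _
  rw [map_center β, map_center α]

theorem Afun_refl (a : F) : Afun (MulEquiv.refl (SG F k)) a = a := rfl

theorem Bfun_refl (b : F) : Bfun (MulEquiv.refl (SG F k)) b = b := rfl

theorem Afun_bijective (α : SG F k ≃* SG F k) : Function.Bijective (Afun α) := by
  refine Function.bijective_iff_has_inverse.mpr ⟨Afun α.symm, ?_, ?_⟩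
  · intro a
    rw [← Afun_mul]
    have : α.trans α.symm = MulEquiv.refl _ := by ext x <;> simp
    rw [this, Afun_refl]
  · intro a
    rw [← Afun_mul]
    have : α.symm.trans α = MulEquiv.refl _ := by ext x <;> simp
    rw [this, Afun_refl]

theorem Bfun_bijective (α : SG F k ≃* SG F k) : Function.Bijective (Bfun α) := by
  refine Function.bijective_iff_has_inverse.mpr ⟨Bfun α.symm, ?_, ?_⟩
  · intro a
    rw [← Bfun_mul]
    have : α.trans α.symm = MulEquiv.refl _ := by ext x <;> simp
    rw [this, Bfun_refl]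
  · intro a
    rw [← Bfun_mul]
    have : α.symm.trans α = MulEquiv.refl _ := by ext x <;> simp
    rw [this, Bfun_refl]

/-- the additive hom version of `Afun` -/
def Ahom (α : SG F k ≃* SG F k) : F →+ F where
  toFun := Afun α
  map_zero' := by
    have := Afun_add α 0 0
    rw [add_zero] at this
    have h1 : Afun α 0 + 0 = Afun α 0 + Afun α 0 := by rw [add_zero]; exact this
    exact (add_left_cancel h1).symm
  map_add' := Afun_add α

/-- the additive hom version of `Bfun` -/
def Bhom (α : SG F k ≃* SG F k) : F →+ F where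
  toFun := Bfun α
  map_zero' := by
    have := Bfun_add α 0 0
    rw [add_zero] at this
    have h1 : Bfun α 0 + 0 = Bfun α 0 + Bfun α 0 := by rw [add_zero]; exact this
    exact (add_left_cancel h1).symm
  map_add' := Bfun_add α

/-- the carrier as a product -/
def equivProd : SG F k ≃ F × F where
  toFun x := (x.a, x.b)
  invFun p := ⟨p.1, p.2⟩
  left_inv x := rfl
  right_inv p := rfl

instance [Finite F] : Finite (SG F k) := Finite.of_equiv _ equivProd.symm

/-- the standard endomorphism attached to `l ≠ 0` and a field endomorphism `φ` -/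
def stdHom (l : Fˣ) (φ : F →+* F) : SG F k →* SG F k where
  toFun := fun x => ⟨(l : F) * φ x.a, (l : F) ^ (2 ^ k + 1) * φ x.b⟩
  map_one' := by simp [one_def]
  map_mul' := fun x y => by
    ext
    · simp only [mul_a, map_add]; ring
    · simp only [mul_b, mul_a, map_add, map_mul, map_pow, mul_pow]; ring

/-- the standard automorphism attached to `l ≠ 0` and a field endomorphism `φ` -/
noncomputable def stdAut [Finite F] (l : Fˣ) (φ : F →+* F) : SG F k ≃* SG F k :=
  MulEquiv.ofBijective (stdHom l φ)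
    (by
      apply Finite.injective_iff_bijective.mp
      · intro x y hxy
        have h1 : (l : F) * φ x.a = (l : F) * φ y.a := congrArg SG.a hxy
        have h2 : (l : F) ^ (2 ^ k + 1) * φ x.b = (l : F) ^ (2 ^ k + 1) * φ y.b :=
          congrArg SG.b hxy
        have h3 := mul_left_cancel₀ l.ne_zero h1
        have h4 := mul_left_cancel₀ (pow_ne_zero _ l.ne_zero) h2
        ext
        · exact φ.injective h3
        · exact φ.injective h4)

/-- the central automorphism attached to an additive map `f` -/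
def cenAut (f : F →+ F) : SG F k ≃* SG F k where
  toFun x := ⟨x.a, x.b + f x.a⟩
  invFun x := ⟨x.a, x.b + f x.a⟩
  left_inv x := by
    ext
    · rfl
    · show x.b + f x.a + f x.a = x.b
      rw [add_assoc, CharTwo.add_self_eq_zero, add_zero]
  right_inv x := by
    ext
    · rfl
    · show x.b + f x.a + f x.a = x.b
      rw [add_assoc, CharTwo.add_self_eq_zero, add_zero]
  map_mul' x y := by
    ext
    · rfl
    · simp only [mul_b, mul_a, map_add]; ring

end Cfsg.Agent.Helper11.SuzTwo
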