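import Mathlib
import Cfsg.Agent.Helper11.GoldA
import Cfsg.Agent.Helper11.SuzTwoA

/-! The automorphism group of the Suzuki 2-group `SG F k`: order and structure. -/

set_option autoImplicit false
set_option linter.unusedSectionVars false
set_option linter.unusedVariables false

namespace Cfsg.Agent.Helper11.SuzTwo

open Cfsg.Agent.Helper11.Gold

theorem card_addHom {F : Type*} [Field F] [Fintype F] [CharP F 2] (n : ℕ)
    (hF : Fintype.card F = 2 ^ n) : Nat.card (F →+ F) = 2 ^ (n ^ 2) := by
  let _ := ZMod.algebra F 2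
  have e1 : (F →+ F) ≃ (F →ₗ[ZMod 2] F) := (AddMonoidHom.toZModLinearMapEquiv 2).toEquiv
  let b := Module.finBasis (ZMod 2) F
  have e2 : (Fin (Module.finrank (ZMod 2) F) → F) ≃ (F →ₗ[ZMod 2] F) :=
    (b.constr (ZMod 2)).toEquiv
  have hd : Module.finrank (ZMod 2) F = n := by
    have := Module.card_eq_pow_finrank (K := ZMod 2) (V := F)
    rw [hF, ZMod.card] at this
    exact (Nat.pow_right_injective (le_refl 2) this).symm
  rw [Nat.card_congr e1, ← Nat.card_congr e2, Nat.card_eq_fintype_card, Fintype.card_fun,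
    Fintype.card_fin, hd, hF, ← pow_mul, sq]

variable {F : Type*} [Field F] [Fintype F] [CharP F 2] {k : ℕ}

/-- the action of an automorphism on `G / Z(G) = F` -/
noncomputable def Phi : MulAut (SG F k) →* Equiv.Perm F where
  toFun α := Equiv.ofBijective (Afun α) (Afun_bijective α)
  map_one' := by
    ext a
    rfl
  map_mul' α β := by
    ext a
    show Afun (α * β) a = Afun α (Afun β a)
    exact Afun_mul α β a

theorem Phi_apply (α : MulAut (SG F k)) (a : F) : Phi α a = Afun α a := rfl

theorem Cfun_add (α : SG F k ≃* SG F k) (a a' : F) :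
    Cfun α (a + a') + Bfun α (a ^ (2 ^ k) * a') =
      Cfun α a + Cfun α a' + (Afun α a) ^ (2 ^ k) * Afun α a' := by
  have h := congrArg α (mk_mul_mk (k := k) a 0 a' 0)
  rw [map_mul, map_mk, map_mk, map_mk, mk_mul_mk] at h
  have h2 := congrArg SG.b h
  simp only [add_zero, zero_add] at h2
  have hB0 : Bfun α 0 = 0 := (Bhom α).map_zero
  rw [hB0, add_zero, add_zero] at h2
  exact h2.symm

/-- the central automorphisms, as a homomorphism -/
def cenHom : Multiplicative (F →+ F) →* MulAut (SG F k) where
  toFun f := cenAut (Multiplicative.toAdd f)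
  map_one' := by
    ext x
    · rfl
    · show x.b + (0 : F →+ F) x.a = x.b
      simp
    
  map_mul' f g := by
    ext x
    · rfl
    · show x.b + (Multiplicative.toAdd f + Multiplicative.toAdd g) x.a =
        x.b + (Multiplicative.toAdd g) x.a + (Multiplicative.toAdd f) x.a
      rw [AddMonoidHom.add_apply]; ring

theorem cenHom_injective : Function.Injective (cenHom (F := F) (k := k)) := by
  intro f g hfg
  apply Multiplicative.toAdd.injective
  ext a
  have h1 : cenHom (k := k) f ⟨a, 0⟩ = cenHom (k := k) g ⟨a, 0⟩ := by rw [hfg]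
  have h2 : (0 : F) + (Multiplicative.toAdd f) a = 0 + (Multiplicative.toAdd g) a :=
    congrArg SG.b h1
  rwa [zero_add, zero_add] at h2

section

variable (hfix : ∀ a : F, a ^ (2 ^ k) = a → a = 0 ∨ a = 1)
  (hN : Function.Bijective (fun a : F => a ^ (2 ^ k + 1)))

include hN in
theorem ker_Phi : (Phi (F := F) (k := k)).ker = (cenHom (F := F) (k := k)).range := by
  ext α
  rw [MonoidHom.mem_ker, MonoidHom.mem_range]
  constructor
  · intro h
    have hA : ∀ a, Afun α a = a := by
      intro a
      rw [← Phi_apply, h]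
      rfl
    have hB : ∀ b, Bfun α b = b := by
      intro b
      obtain ⟨a, rfl⟩ := hN.2 b
      show Bfun α (a ^ (2 ^ k + 1)) = a ^ (2 ^ k + 1)
      rw [Bfun_pow, hA]
    have hC : ∀ a a', Cfun α (a + a') = Cfun α a + Cfun α a' := by
      intro a a'
      have := Cfun_add α a a'
      rw [hB, hA, hA] at this
      exact add_right_cancel this
    let f : F →+ F :=
      { toFun := Cfun α
        map_zero' := by
          have := hC 0 0
          rw [add_zero] at this
          have h1 : Cfun α 0 + 0 = Cfun α 0 + Cfun α 0 := by rw [add_zero]; exact this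
          exact (add_left_cancel h1).symm
        map_add' := hC }
    refine ⟨Multiplicative.ofAdd f, ?_⟩
    ext x
    · show x.a = (α x).a
      obtain ⟨a, b⟩ := x
      rw [map_mk, hA]
    · show x.b + Cfun α x.a = (α x).b
      obtain ⟨a, b⟩ := x
      rw [map_mk, hB]
      show b + Cfun α a = Cfun α a + b
      ring
  · rintro ⟨f, rfl⟩
    ext a
    rfl

include hN in
theorem card_ker_Phi (n : ℕ) (hF : Fintype.card F = 2 ^ n) :
    Nat.card (Phi (F := F) (k := k)).ker = 2 ^ (n ^ 2) := by
  rw [ker_Phi hN, ← card_addHom n hF]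
  have e : Multiplicative (F →+ F) ≃ (cenHom (F := F) (k := k)).range :=
    Equiv.ofBijective (fun f => ⟨cenHom f, ⟨f, rfl⟩⟩)
      ⟨fun f g hfg => cenHom_injective (congrArg Subtype.val hfg),
        fun ⟨_, f, hf⟩ => ⟨f, Subtype.ext hf⟩⟩
  rw [← Nat.card_congr e]
  exact Nat.card_congr Multiplicative.toAdd

theorem Afun_stdAut (l : Fˣ) (φ : F →+* F) (a : F) :
    Afun (stdAut (k := k) l φ) a = (l : F) * φ a := rfl

include hfix hN in
theorem card_range_Phi :
    Nat.card (Phi (F := F) (k := k)).range = (Fintype.card F - 1) * Nat.card (F →+* F) := by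
  have e : Fˣ × (F →+* F) ≃ (Phi (F := F) (k := k)).range := by
    refine Equiv.ofBijective (fun p => ⟨Phi (stdAut (k := k) p.1 p.2), ⟨_, rfl⟩⟩) ⟨?_, ?_⟩
    · rintro ⟨l, φ⟩ ⟨l', φ'⟩ hp
      have h1 : Phi (stdAut (k := k) l φ) = Phi (stdAut (k := k) l' φ') :=
        congrArg Subtype.val hp
      have h2 : ∀ a : F, (l : F) * φ a = (l' : F) * φ' a := by
        intro a
        have := congrArg (fun σ : Equiv.Perm F => σ a) h1
        exact this
      have hl : l = l' := by
        apply Units.ext
        have := h2 1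
        rwa [map_one, map_one, mul_one, mul_one] at this
      subst hl
      have hφ : φ = φ' := by
        ext a
        exact mul_left_cancel₀ l.ne_zero (h2 a)
      rw [hφ]
    · rintro ⟨_, α, rfl⟩
      have hs : ∀ a b : F, (a + b) ^ (2 ^ k) = a ^ (2 ^ k) + b ^ (2 ^ k) :=
        fun a b => add_pow_two_pow a b
      obtain ⟨l, φ, hl, hA, hB⟩ := rigidity (2 ^ k) hs hfix hN (Ahom α) (Bhom α)
        (Afun_bijective α) (Bfun_bijective α) (Bfun_pow α)
      refine ⟨⟨Units.mk0 l hl, φ⟩, ?_⟩
      apply Subtype.ext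
      ext a
      show (l : F) * φ a = Afun α a
      exact (hA a).symm
  classical
  rw [← Nat.card_congr e, Nat.card_prod, Nat.card_eq_fintype_card, Fintype.card_units]

include hfix hN in
/-- the order of the automorphism group -/
theorem card_mulAut (n : ℕ) (hF : Fintype.card F = 2 ^ n) :
    Nat.card (MulAut (SG F k)) = 2 ^ (n ^ 2) * ((Fintype.card F - 1) * Nat.card (F →+* F)) := by
  rw [← card_ker_Phi hN n hF, ← card_range_Phi hfix hN, ← Subgroup.index_ker]
  exact (Subgroup.card_mul_index _).symm

theorem ker_Phi_comm (hN : Function.Bijective (fun a : F => a ^ (2 ^ k + 1)))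
    (α β : MulAut (SG F k)) (hα : α ∈ (Phi (F := F) (k := k)).ker)
    (hβ : β ∈ (Phi (F := F) (k := k)).ker) : α * β = β * α := by
  rw [ker_Phi hN] at hα hβ
  obtain ⟨f, rfl⟩ := hα
  obtain ⟨g, rfl⟩ := hβ
  rw [← map_mul, ← map_mul, mul_comm]

theorem ker_Phi_sq (hN : Function.Bijective (fun a : F => a ^ (2 ^ k + 1)))
    (α : MulAut (SG F k)) (hα : α ∈ (Phi (F := F) (k := k)).ker) : α ^ 2 = 1 := by
  rw [ker_Phi hN] at hα
  obtain ⟨f, rfl⟩ := hα
  rw [← map_pow]
  have : f ^ 2 = 1 := by
    apply Multiplicative.toAdd.injective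
    ext a
    show (2 • Multiplicative.toAdd f) a = 0
    rw [two_nsmul, AddMonoidHom.add_apply]
    exact CharTwo.add_self_eq_zero _
  rw [this, map_one]

end

end Cfsg.Agent.Helper11.SuzTwo
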