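import Mathlib
import Cfsg.Prelude.Def_Solvable
import Cfsg.Prelude.Def_Transfer
import Cfsg.Agent.Helper11.SuzTwoB
import Cfsg.Agent.Helper11.SzBridge
import Cfsg.Agent.Helper11.SzAutH
import Cfsg.Agent.Helper2.SzSylow2
import Cfsg.Agent.Helper14.PCore

/-! The automorphism group of a Sylow 2-subgroup of the Suzuki group `Sz(q)`. -/

set_option autoImplicit false
set_option linter.unusedSectionVars false
set_option linter.unusedVariables false

namespace Cfsg.Agent.Helper11.SuzTwo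

open Cfsg.Agent.Helper2.SzO Cfsg.Agent.Helper11.SzBridge Cfsg.Agent.Helper14

/-- a normal `p`-subgroup of index prime to `p` is the `p`-core -/
theorem pCore_eq_of_index {G : Type*} [Group G] [Finite G] (p : ℕ) [Fact p.Prime]
    (K : Subgroup G) [hKn : K.Normal] (hK : IsPGroup p K) (hidx : ¬ p ∣ K.index) :
    Cfsg.pCore p G = K := by
  apply le_antisymm
  · exact pCore_le_sylow p (hK.toSylow hidx)
  · exact le_pCore p hKn hK

/-- the subgroup `K.comap e` is isomorphic to `K` -/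
def comapEquiv {G H : Type*} [Group G] [Group H] (e : G ≃* H) (K : Subgroup H) :
    ↥(K.comap e.toMonoidHom) ≃* ↥K where
  toFun x := ⟨e x.1, x.2⟩
  invFun y := ⟨e.symm y.1, by
    show e (e.symm y.1) ∈ K
    rw [e.apply_symm_apply]; exact y.2⟩
  left_inv x := Subtype.ext (e.symm_apply_apply _)
  right_inv y := Subtype.ext (e.apply_symm_apply _)
  map_mul' x y := Subtype.ext (map_mul e _ _)

variable {F : Type*} [Field F] [Fintype F] {m : ℕ}

section

variable (hF : Fintype.card F = 2 ^ (2 * m + 1))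

include hF

theorem hfix_sg (a : F) (h : a ^ (2 ^ (m + 1)) = a) : a = 0 ∨ a = 1 := by
  have h1 := pow_sg_pow_sg hF a
  unfold sg at h1
  rw [h, h] at h1
  have h2 : a * (a - 1) = 0 := by linear_combination -h1
  rcases mul_eq_zero.mp h2 with h3 | h3
  · exact Or.inl h3
  · exact Or.inr (sub_eq_zero.mp h3)

theorem hN_sg : Function.Bijective (fun a : F => a ^ (2 ^ (m + 1) + 1)) := by
  apply Finite.injective_iff_bijective.mp
  intro a a' h
  have h' : a ^ (sg m + 1) = a' ^ (sg m + 1) := h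
  by_cases ha' : a' = 0
  · subst ha'
    rw [zero_pow (Nat.succ_ne_zero _)] at h'
    exact (pow_eq_zero_iff (Nat.succ_ne_zero _)).mp h'
  · have ha : a ≠ 0 := by
      rintro rfl
      rw [zero_pow (Nat.succ_ne_zero _)] at h'
      exact ha' ((pow_eq_zero_iff (Nat.succ_ne_zero _)).mp h'.symm)
    have hk : (Units.mk0 (a / a') (div_ne_zero ha ha')) ^ (sg m + 1) = 1 := by
      apply Units.ext
      rw [Units.val_pow_eq_pow_val, Units.val_mk0, Units.val_one, div_pow, h',
        div_self (pow_ne_zero _ ha')]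
    have := eq_one_of_pow_sg_succ hF hk
    have h1 : a / a' = 1 := by
      have := congrArg Units.val this
      rwa [Units.val_mk0, Units.val_one] at this
    exact (div_eq_one_iff_eq ha').mp h1

/-- `Q` is the abstract Suzuki 2-group -/
noncomputable def equivQz :
    haveI := charP_two hF
    SG F (m + 1) ≃* ↥(Qz (m := m) hF) :=
  haveI := charP_two hF
  MulEquiv.ofBijective
    ({ toFun := fun x => tq hF x.a x.b
       map_one' := tq_one hF
       map_mul' := fun x y => by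
        rw [tq_mul]
        rfl } : SG F (m + 1) →* ↥(Qz (m := m) hF))
    ⟨fun x y hxy => by
      obtain ⟨h1, h2⟩ := tq_injective hF hxy
      exact SG.ext h1 h2,
     fun x => by
      obtain ⟨a, b, rfl⟩ := tq_surj hF x
      exact ⟨⟨a, b⟩, rfl⟩⟩

/-- every Sylow 2-subgroup of `Lie.Sz` is the abstract Suzuki 2-group -/
theorem nonempty_equiv_sylow (hm : 1 ≤ m) (P : Sylow 2 ↥(Cfsg.Lie.Sz F (2 ^ (m + 1)))) :
    haveI := charP_two hF
    Nonempty (↥(P : Subgroup ↥(Cfsg.Lie.Sz F (2 ^ (m + 1)))) ≃* SG F (m + 1)) := by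
  haveI := charP_two hF
  have : Fact (Nat.Prime 2) := ⟨Nat.prime_two⟩
  have hfin : Finite ↥(Cfsg.Lie.Sz F (2 ^ (m + 1))) := inferInstance
  set e := szEquiv hF hm with he
  have hrange : (P : Subgroup ↥(Cfsg.Lie.Sz F (2 ^ (m + 1)))) ≤ e.toMonoidHom.range := by
    intro x _
    exact ⟨e.symm x, e.apply_symm_apply x⟩
  let P' : Sylow 2 (Cfsg.Sz F m) := P.comapOfInjective e.toMonoidHom e.injective hrange
  have hP' : (P' : Subgroup (Cfsg.Sz F m)) =
      (P : Subgroup ↥(Cfsg.Lie.Sz F (2 ^ (m + 1)))).comap e.toMonoidHom :=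
    Sylow.coe_comapOfInjective P e.toMonoidHom e.injective hrange
  have e1 : ↥(P' : Subgroup (Cfsg.Sz F m)) ≃* ↥(P : Subgroup ↥(Cfsg.Lie.Sz F (2 ^ (m + 1)))) :=
    (MulEquiv.subgroupCongr hP').trans (comapEquiv e _)
  have e2 : ↥(P' : Subgroup (Cfsg.Sz F m)) ≃* ↥(QSylow hF hm : Subgroup (Cfsg.Sz F m)) :=
    Sylow.equiv P' (QSylow hF hm)
  have e3 : ↥(QSylow hF hm : Subgroup (Cfsg.Sz F m)) ≃* ↥(Qz (m := m) hF) :=
    MulEquiv.subgroupCongr (QSylow_coe hF hm)
  exact ⟨e1.symm.trans (e2.trans (e3.trans (equivQz hF).symm))⟩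

end

/-- transport of the conclusion along an isomorphism of automorphism groups -/
theorem transport {A B : Type*} [Group A] [Group B] [Finite A] [Finite B] (E : A ≃* B)
    (K : Subgroup B) [K.Normal] (hK : IsPGroup 2 K) (hidx : ¬ 2 ∣ K.index)
    (hcomm : ∀ x ∈ K, ∀ y ∈ K, x * y = y * x) (hsq : ∀ x ∈ K, x ^ 2 = 1) :
    Cfsg.IsElementaryAbelian 2 (Cfsg.pCore 2 A) ∧ Nat.card ↥(Cfsg.pCore 2 A) = Nat.card K ∧
      Nat.card A = Nat.card B := by
  have : Fact (Nat.Prime 2) := ⟨Nat.prime_two⟩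
  have h1 : Cfsg.pCore 2 B = K := pCore_eq_of_index 2 K hK hidx
  have h2 : (Cfsg.pCore 2 A).map E.toMonoidHom = K := by rw [pCore_map_equiv 2 E, h1]
  have hmem : ∀ x ∈ Cfsg.pCore 2 A, E x ∈ K := by
    intro x hx
    rw [← h2]
    exact ⟨x, hx, rfl⟩
  refine ⟨⟨⟨⟨?_⟩⟩, ?_⟩, ?_, Nat.card_congr E.toEquiv⟩
  · rintro ⟨x, hx⟩ ⟨y, hy⟩
    apply Subtype.ext
    apply E.injective
    show E (x * y) = E (y * x)
    rw [map_mul, map_mul]
    exact hcomm _ (hmem x hx) _ (hmem y hy)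
  · intro x hx
    apply E.injective
    rw [map_pow, map_one]
    exact hsq _ (hmem x hx)
  · rw [← h2]
    exact Nat.card_congr (E.subgroupMap (Cfsg.pCore 2 A)).toEquiv

/-- the statement for the abstract Suzuki 2-group -/
theorem main_SG (hF : Fintype.card F = 2 ^ (2 * m + 1)) (hm : 1 ≤ m)
    {S : Type*} [Group S] [Finite S]
    (hS : haveI := charP_two hF; Nonempty (S ≃* SG F (m + 1))) :
    Cfsg.IsElementaryAbelian 2 (Cfsg.pCore 2 (MulAut S)) ∧
      Nat.card ↥(Cfsg.pCore 2 (MulAut S)) = 2 ^ ((2 * m + 1) ^ 2) ∧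
      Nat.card (MulAut S) = 2 ^ ((2 * m + 1) ^ 2) * ((2 * m + 1) * (2 ^ (2 * m + 1) - 1)) := by
  haveI := charP_two hF
  have : Fact (Nat.Prime 2) := ⟨Nat.prime_two⟩
  obtain ⟨e⟩ := hS
  have hfix := hfix_sg hF
  have hN := hN_sg hF
  have hcardK := card_ker_Phi (F := F) (k := m + 1) hN (2 * m + 1) hF
  have hcardA := card_mulAut (F := F) (k := m + 1) hfix hN (2 * m + 1) hF
  rw [Cfsg.Agent.Helper11.SzAut.card_ringHom hF, hF] at hcardA
  have hKp : IsPGroup 2 (Phi (F := F) (k := m + 1)).ker := IsPGroup.of_card hcardK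
  have hidx : ¬ 2 ∣ (Phi (F := F) (k := m + 1)).ker.index := by
    have h1 := Subgroup.card_mul_index (Phi (F := F) (k := m + 1)).ker
    rw [hcardK, hcardA] at h1
    have h2 : (Phi (F := F) (k := m + 1)).ker.index = (2 ^ (2 * m + 1) - 1) * (2 * m + 1) :=
      Nat.eq_of_mul_eq_mul_left (by positivity) h1
    rw [h2]
    intro hdvd
    rcases (Nat.Prime.dvd_mul Nat.prime_two).mp hdvd with h3 | h3
    · have h4 : 2 ∣ 2 ^ (2 * m + 1) := dvd_pow_self 2 (by omega)
      have h5 : 1 ≤ 2 ^ (2 * m + 1) := Nat.one_le_two_pow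
      omega
    · omega
  obtain ⟨h1, h2, h3⟩ := transport (MulAut.congr e) (Phi (F := F) (k := m + 1)).ker hKp hidx
    (fun x hx y hy => ker_Phi_comm hN x y hx hy) (fun x hx => ker_Phi_sq hN x hx)
  refine ⟨h1, ?_, ?_⟩
  · rw [h2, hcardK]
  · rw [h3, hcardA]
    ring

end Cfsg.Agent.Helper11.SuzTwo
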