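import Mathlib
import Cfsg.Agent.Helper11.PermSylow
import Cfsg.Agent.Helper11.SylowInter
import Cfsg.Agent.S0985

set_option autoImplicit false

namespace Cfsg.Agent.Helper11

/-- If `n_p` is not `1` mod `p²`, two distinct Sylow `p`-subgroups meet in a subgroup of index `p`. -/
theorem exists_sylow_inter_index_p {G : Type*} [Group G] [Finite G] (p : ℕ) [Fact p.Prime]
    (h : ¬ Nat.card (Sylow p G) ≡ 1 [MOD p ^ 2]) :
    ∃ P R : Sylow p G, P ≠ R ∧ Nat.card ↥((P : Subgroup G) ⊓ (R : Subgroup G)) * p = Nat.card ↥(P : Subgroup G) := by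
  have hp : p.Prime := Fact.out
  obtain ⟨P, R, hPR, hidx⟩ := Cfsg.Agent.S0985.result p 2 h
  refine ⟨P, R, hPR, ?_⟩
  have h1 : ((P : Subgroup G) ⊓ (R : Subgroup G)).relIndex (P : Subgroup G) = (R : Subgroup G).relIndex (P : Subgroup G) :=
    Subgroup.inf_relIndex_left _ _
  have h2 := relIndex_mul_card (inf_le_left : (P : Subgroup G) ⊓ (R : Subgroup G) ≤ (P : Subgroup G))
  rw [h1] at h2
  set i := (R : Subgroup G).relIndex (P : Subgroup G) with hi
  have hi_le : i ≤ p := by
    have h3 : ((R : Subgroup G).subgroupOf (P : Subgroup G)).index ≤ p := by simpa using hidx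
    exact h3
  have hi_dvd : i ∣ Nat.card ↥(P : Subgroup G) := Dvd.intro _ h2
  obtain ⟨a, ha⟩ := P.2.exists_card_eq
  rw [ha] at hi_dvd
  obtain ⟨j, -, hj⟩ := (Nat.dvd_prime_pow hp).mp hi_dvd
  have hi1 : i ≠ 1 := by
    intro h1'
    apply hPR
    apply sylow_eq_of_le
    exact Subgroup.relIndex_eq_one.mp h1'
  have hip : i = p := by
    rcases j with _ | _ | j
    · simp at hj; exact absurd hj hi1
    · simpa using hj
    · exfalso
      rw [hj] at hi_le
      have : p ^ 2 ≤ p ^ (j + 1 + 1) := Nat.pow_le_pow_right hp.pos (by omega)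
      have h3 : p < p ^ 2 := by
        have := hp.one_lt
        nlinarith
      omega
  rw [← h2, hip, mul_comm]

/-- Two distinct Sylow `p`-subgroups meeting in a subgroup `D` of index `p`: both normalize `D`, and
the normalizer `M` of `D` has order at least `(p + 1) |P|`. -/
theorem normalizer_sylow_inter {G : Type*} [Group G] [Finite G] (p : ℕ) [Fact p.Prime]
    (P R : Sylow p G) (hPR : P ≠ R)
    (hD : Nat.card ↥((P : Subgroup G) ⊓ (R : Subgroup G)) * p = Nat.card ↥(P : Subgroup G)) :
    (P : Subgroup G) ≤ Subgroup.normalizer (((P : Subgroup G) ⊓ (R : Subgroup G) : Subgroup G) : Set G) ∧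
    (R : Subgroup G) ≤ Subgroup.normalizer (((P : Subgroup G) ⊓ (R : Subgroup G) : Subgroup G) : Set G) ∧
    (p + 1) * Nat.card ↥(P : Subgroup G) ≤
      Nat.card ↥(Subgroup.normalizer (((P : Subgroup G) ⊓ (R : Subgroup G) : Subgroup G) : Set G)) := by
  classical
  have hp : p.Prime := Fact.out
  set D := (P : Subgroup G) ⊓ (R : Subgroup G) with hDdef
  set M := Subgroup.normalizer (D : Set G) with hM
  have hcardPR : Nat.card ↥(R : Subgroup G) = Nat.card ↥(P : Subgroup G) := sylow_card_eq R P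
  -- a subgroup of index p of a p-group is normal
  have key : ∀ (S : Sylow p G), D ≤ (S : Subgroup G) → Nat.card ↥D * p = Nat.card ↥(S : Subgroup G) →
      (S : Subgroup G) ≤ M := by
    intro S hDS hcard
    rw [hM, ← Subgroup.normal_subgroupOf_iff_le_normalizer hDS]
    apply Subgroup.normal_of_index_eq_minFac_card
    have h1 := relIndex_mul_card hDS
    have hDpos : 0 < Nat.card ↥D := Nat.card_pos
    have h2 : D.relIndex (S : Subgroup G) = p := by
      rw [← hcard, mul_comm] at h1
      exact Nat.eq_of_mul_eq_mul_left hDpos h1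
    change D.relIndex (S : Subgroup G) = _
    rw [h2]
    have h3 : p ∣ Nat.card ↥(S : Subgroup G) := Dvd.intro_left _ hcard
    obtain ⟨a, ha⟩ := S.2.exists_card_eq
    rw [ha]
    have ha0 : a ≠ 0 := by
      rintro rfl
      rw [ha, pow_zero] at h3
      exact hp.one_lt.ne' (Nat.dvd_one.mp h3)
    exact (hp.pow_minFac ha0).symm
  have hPM : (P : Subgroup G) ≤ M := key P inf_le_left hD
  have hRM : (R : Subgroup G) ≤ M := key R inf_le_right (by rw [hcardPR]; exact hD)
  refine ⟨hPM, hRM, ?_⟩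
  -- Sylow subgroups of M
  have hne : P.subtype hPM ≠ R.subtype hRM := by
    intro h
    apply hPR
    exact Sylow.subtype_injective h
  have hn1 : Nat.card (Sylow p ↥M) ≠ 1 := by
    intro h1
    have : Subsingleton (Sylow p ↥M) := (Nat.card_eq_one_iff_unique.mp h1).1
    exact hne (Subsingleton.elim _ _)
  have hnmod := card_sylow_modEq_one p ↥M
  have hnpos : 0 < Nat.card (Sylow p ↥M) := Nat.card_pos
  have hnge : p + 1 ≤ Nat.card (Sylow p ↥M) := by
    by_contra hlt
    push Not at hlt
    unfold Nat.ModEq at hnmod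
    rw [Nat.mod_eq_of_lt hp.one_lt] at hnmod
    have h1 : Nat.card (Sylow p ↥M) ≤ p := by omega
    rcases Nat.lt_or_ge (Nat.card (Sylow p ↥M)) p with h2 | h2
    · rw [Nat.mod_eq_of_lt h2] at hnmod
      exact hn1 hnmod
    · have : Nat.card (Sylow p ↥M) = p := le_antisymm h1 h2
      rw [this, Nat.mod_self] at hnmod
      omega
  have hdvd := (P.subtype hPM).card_dvd_index
  have hidx := ((P.subtype hPM : Sylow p ↥M) : Subgroup ↥M).index_mul_card
  have hcardsub : Nat.card ↥((P.subtype hPM : Sylow p ↥M) : Subgroup ↥M) = Nat.card ↥(P : Subgroup G) := by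
    rw [Sylow.coe_subtype]
    exact Nat.card_congr (Subgroup.subgroupOfEquivOfLe hPM).toEquiv
  rw [hcardsub] at hidx
  have hipos : 0 < ((P.subtype hPM : Sylow p ↥M) : Subgroup ↥M).index :=
    Nat.pos_of_ne_zero Subgroup.index_ne_zero_of_finite
  have h5 : p + 1 ≤ ((P.subtype hPM : Sylow p ↥M) : Subgroup ↥M).index :=
    hnge.trans (Nat.le_of_dvd hipos hdvd)
  calc (p + 1) * Nat.card ↥(P : Subgroup G)
      ≤ ((P.subtype hPM : Sylow p ↥M) : Subgroup ↥M).index * Nat.card ↥(P : Subgroup G) :=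
        Nat.mul_le_mul_right _ h5
    _ = Nat.card ↥M := hidx

end Cfsg.Agent.Helper11
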