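import Mathlib
import Cfsg.Agent.Lead.SylowNumber
import Cfsg.Agent.Helper17.Basic

set_option autoImplicit false

/-! Sylow numbers for a group with two normal subgroups meeting trivially:
`n(G) * n(G/MN) = n(G/M) * n(G/N)`. -/

namespace Cfsg.Agent.Helper11

open Subgroup

variable {G : Type*} [Group G]

/-- For `P` a `p`-group and `K` normal, every element of `P ⊔ K` has a `p`-power in `K`. -/
theorem exists_pow_mem_of_mem_sup (p : ℕ) (P : Subgroup G) (hP : IsPGroup p P)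
    (K : Subgroup G) [K.Normal] {x : G} (hx : x ∈ P ⊔ K) : ∃ k : ℕ, x ^ (p ^ k) ∈ K := by
  obtain ⟨a, ha, b, hb, rfl⟩ := mem_sup_of_normal_right.mp hx
  obtain ⟨k, hk⟩ := hP ⟨a, ha⟩
  refine ⟨k, ?_⟩
  have hak : a ^ p ^ k = 1 := by simpa using congrArg Subtype.val hk
  rw [← QuotientGroup.eq_one_iff, QuotientGroup.mk_pow, QuotientGroup.mk_mul,
    (QuotientGroup.eq_one_iff b).mpr hb, mul_one, ← QuotientGroup.mk_pow, hak]
  rfl

/-- `PM ∩ PN = P` for a Sylow subgroup `P` and normal `M, N` with `M ∩ N = 1`. -/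
theorem sylow_sup_inf_sup_eq (p : ℕ) [Fact p.Prime] (P : Sylow p G) (M N : Subgroup G)
    [M.Normal] [N.Normal] (hMN : M ⊓ N = ⊥) :
    ((P : Subgroup G) ⊔ M) ⊓ ((P : Subgroup G) ⊔ N) = P := by
  have hpg : IsPGroup p ↥(((P : Subgroup G) ⊔ M) ⊓ ((P : Subgroup G) ⊔ N)) := by
    intro g
    obtain ⟨x, hx⟩ := g
    have hx1 : x ∈ (P : Subgroup G) ⊔ M := (Subgroup.mem_inf.mp hx).1
    have hx2 : x ∈ (P : Subgroup G) ⊔ N := (Subgroup.mem_inf.mp hx).2
    obtain ⟨a, ha⟩ := exists_pow_mem_of_mem_sup p (P : Subgroup G) P.isPGroup' M hx1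
    obtain ⟨b, hb⟩ := exists_pow_mem_of_mem_sup p (P : Subgroup G) P.isPGroup' N hx2
    refine ⟨a + b, ?_⟩
    have h1 : x ^ p ^ (a + b) ∈ M := by rw [pow_add, pow_mul]; exact pow_mem ha _
    have h2 : x ^ p ^ (a + b) ∈ N := by rw [pow_add, mul_comm, pow_mul]; exact pow_mem hb _
    have h3 : x ^ p ^ (a + b) ∈ M ⊓ N := ⟨h1, h2⟩
    rw [hMN, mem_bot] at h3
    apply Subtype.ext
    rw [Subgroup.coe_pow]
    exact h3
  exact P.is_maximal' hpg (le_inf le_sup_left le_sup_left)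

/-- If `m ∈ M`, `n ∈ N` and `m * n` normalizes the Sylow subgroup `P`, then so does `m`. -/
theorem mem_normalizer_of_mul_mem [Finite G] (p : ℕ) [Fact p.Prime] (P : Sylow p G)
    (M N : Subgroup G) [M.Normal] [N.Normal] (hMN : M ⊓ N = ⊥) {m n : G} (hm : m ∈ M)
    (hn : n ∈ N) (hmn : m * n ∈ normalizer ((P : Subgroup G) : Set G)) :
    m ∈ normalizer ((P : Subgroup G) : Set G) := by
  -- conjugation by `m⁻¹` maps `P` into `PM ∩ PN = P`
  have hle : (P : Subgroup G).map (MulAut.conj m⁻¹ : G →* G) ≤ P := by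
    rintro _ ⟨x, hx, rfl⟩
    rw [← sylow_sup_inf_sup_eq p P M N hMN]
    have hx' : x ∈ (P : Subgroup G) := hx
    constructor
    · -- `m⁻¹ x m = x * (x⁻¹ m⁻¹ x m)`
      have h1 : x⁻¹ * m⁻¹ * x * m ∈ M := by
        have := ‹M.Normal›.conj_mem _ (M.inv_mem hm) x⁻¹
        rw [inv_inv] at this
        exact M.mul_mem this hm
      have : (MulAut.conj m⁻¹ : G →* G) x = x * (x⁻¹ * m⁻¹ * x * m) := by
        simp; group
      rw [this]
      exact mul_mem (mem_sup_left hx') (mem_sup_right h1)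
    · -- `m⁻¹ x m = n (g⁻¹ x g) n⁻¹` with `g = m n`
      have hy : (m * n)⁻¹ * x * (m * n) ∈ (P : Subgroup G) := by
        have := (mem_set_normalizer_iff.mp (inv_mem hmn) x).mp hx'
        rw [inv_inv] at this
        exact this
      set y := (m * n)⁻¹ * x * (m * n) with hy_def
      have h1 : y⁻¹ * n * y * n⁻¹ ∈ N := by
        have := ‹N.Normal›.conj_mem _ hn y⁻¹
        rw [inv_inv] at this
        exact N.mul_mem this (N.inv_mem hn)
      have : (MulAut.conj m⁻¹ : G →* G) x = y * (y⁻¹ * n * y * n⁻¹) := by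
        simp [hy_def]; group
      rw [this]
      exact mul_mem (mem_sup_left hy) (mem_sup_right h1)
  have heq : (P : Subgroup G).map (MulAut.conj m⁻¹ : G →* G) = P := by
    apply Subgroup.eq_of_le_of_card_ge hle
    rw [Nat.card_congr ((P : Subgroup G).equivMapOfInjective (MulAut.conj m⁻¹ : G →* G)
      (MulAut.conj m⁻¹).injective).toEquiv]
  have := mem_normalizer_iff_map_conj_eq.mpr heq
  simpa using inv_mem this

/-- `N_G(P) ∩ MN = (N_G(P) ∩ M)(N_G(P) ∩ N)`. -/
theorem normalizer_inf_sup_eq [Finite G] (p : ℕ) [Fact p.Prime] (P : Sylow p G)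
    (M N : Subgroup G) [M.Normal] [N.Normal] (hMN : M ⊓ N = ⊥) :
    normalizer ((P : Subgroup G) : Set G) ⊓ (M ⊔ N) =
      (normalizer ((P : Subgroup G) : Set G) ⊓ M) ⊔
        (normalizer ((P : Subgroup G) : Set G) ⊓ N) := by
  apply le_antisymm
  · rintro x ⟨hxH, hxMN⟩
    obtain ⟨m, hm, n, hn, rfl⟩ := mem_sup_of_normal_right.mp hxMN
    have hmH := mem_normalizer_of_mul_mem p P M N hMN hm hn hxH
    have hnH : n ∈ normalizer ((P : Subgroup G) : Set G) := by
      have := mul_mem (inv_mem hmH) hxH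
      simpa using this
    exact mul_mem (mem_sup_left ⟨hmH, hm⟩) (mem_sup_right ⟨hnH, hn⟩)
  · exact sup_le (inf_le_inf_left _ le_sup_left) (inf_le_inf_left _ le_sup_right)

/-- `[MN : N_G(P) ∩ MN] = [M : N_G(P) ∩ M] [N : N_G(P) ∩ N]`. -/
theorem relIndex_normalizer_sup [Finite G] (p : ℕ) [Fact p.Prime] (P : Sylow p G)
    (M N : Subgroup G) [M.Normal] [N.Normal] (hMN : M ⊓ N = ⊥) :
    (normalizer ((P : Subgroup G) : Set G)).relIndex (M ⊔ N) =
      (normalizer ((P : Subgroup G) : Set G)).relIndex M *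
        (normalizer ((P : Subgroup G) : Set G)).relIndex N := by
  set H := normalizer ((P : Subgroup G) : Set G) with hH
  have h1 := Helper17.relIndex_mul_card_inf H M
  have h2 := Helper17.relIndex_mul_card_inf H N
  have h3 := Helper17.relIndex_mul_card_inf H (M ⊔ N)
  have h4 := Helper17.card_sup_mul_card_inf_of_normal M N
  rw [hMN, Subgroup.card_bot, mul_one] at h4
  have hnorm : H ⊓ N ≤ normalizer ((H ⊓ M : Subgroup G) : Set G) := by
    refine le_trans ?_ inf_normalizer_le_normalizer_inf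
    exact le_inf (inf_le_left.trans le_normalizer) le_normalizer_of_normal
  have h5 := Helper17.card_sup_mul_card_inf (H ⊓ M) (H ⊓ N) hnorm
  have h6 : (H ⊓ M) ⊓ (H ⊓ N) = ⊥ := by
    apply le_bot_iff.mp
    rw [← hMN]
    exact inf_le_inf inf_le_right inf_le_right
  rw [h6, Subgroup.card_bot, mul_one, ← normalizer_inf_sup_eq p P M N hMN] at h5
  have h7 : H.relIndex (M ⊔ N) * Nat.card (H ⊓ (M ⊔ N) : Subgroup G) =
      (H.relIndex M * H.relIndex N) * Nat.card (H ⊓ (M ⊔ N) : Subgroup G) := by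
    rw [h3, h4, h5, ← h1, ← h2]
    ring
  exact Nat.eq_of_mul_eq_mul_right Nat.card_pos h7

/-- `n(G) * n(G/MN) = n(G/M) * n(G/N)` for normal `M, N` with `M ∩ N = 1`. -/
theorem card_sylow_mul_card_sylow_quotient_sup [Finite G] (p : ℕ) [Fact p.Prime]
    (M N : Subgroup G) [M.Normal] [N.Normal] (hMN : M ⊓ N = ⊥) :
    Nat.card (Sylow p G) * Nat.card (Sylow p (G ⧸ (M ⊔ N))) =
      Nat.card (Sylow p (G ⧸ M)) * Nat.card (Sylow p (G ⧸ N)) := by
  obtain ⟨P⟩ : Nonempty (Sylow p G) := inferInstance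
  have e1 := Lead.card_sylow_eq_mul p M P
  have e2 := Lead.card_sylow_eq_mul p N P
  have e3 := Lead.card_sylow_eq_mul p (M ⊔ N) P
  have e4 := relIndex_normalizer_sup p P M N hMN
  set H := normalizer ((P : Subgroup G) : Set G) with hH
  have hc : 0 < H.relIndex (M ⊔ N) := by
    rcases Nat.eq_zero_or_pos (H.relIndex (M ⊔ N)) with h | h
    · have := Helper17.relIndex_mul_card_inf H (M ⊔ N)
      rw [h, zero_mul] at this
      exact absurd this.symm Nat.card_pos.ne'
    · exact h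
  apply Nat.eq_of_mul_eq_mul_right hc
  calc Nat.card (Sylow p G) * Nat.card (Sylow p (G ⧸ (M ⊔ N))) * H.relIndex (M ⊔ N)
      = Nat.card (Sylow p G) *
          (Nat.card (Sylow p (G ⧸ (M ⊔ N))) * H.relIndex (M ⊔ N)) := by ring
    _ = Nat.card (Sylow p G) * Nat.card (Sylow p G) := by rw [← e3]
    _ = (Nat.card (Sylow p (G ⧸ M)) * H.relIndex M) *
          (Nat.card (Sylow p (G ⧸ N)) * H.relIndex N) := by rw [← e1, ← e2]
    _ = Nat.card (Sylow p (G ⧸ M)) * Nat.card (Sylow p (G ⧸ N)) * H.relIndex (M ⊔ N) := by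
        rw [e4]; ring

end Cfsg.Agent.Helper11
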