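import Mathlib

/-! Nilpotent covers, generic part: a group partitioned by centraliser-closed subgroups whose
normalisers (of a proper subfamily) already cover it has no nilpotent minimal cover. -/

set_option autoImplicit false
set_option linter.unusedSectionVars false
set_option linter.unusedVariables false

namespace Cfsg.Agent.Helper11.SzCover

/-- existence of a nilpotent minimal cover, in the form of the statement -/
def HasNilpMinCover (G : Type*) [Group G] : Prop :=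
  ∃ 𝓐 : Finset (Subgroup G), ((∀ A ∈ 𝓐, A ≠ ⊤) ∧ (∀ g : G, ∃ A ∈ 𝓐, g ∈ A)) ∧
    (∀ 𝓑 : Finset (Subgroup G), (∀ A ∈ 𝓑, A ≠ ⊤) ∧ (∀ g : G, ∃ A ∈ 𝓑, g ∈ A) →
      𝓐.card ≤ 𝓑.card) ∧ (∀ A ∈ 𝓐, Group.IsNilpotent ↥A)

section transfer

variable {G H : Type*} [Group G] [Group H]

/-- pushing a family of subgroups along an isomorphism -/
noncomputable def pushFam (e : G ≃* H) (𝓐 : Finset (Subgroup G)) : Finset (Subgroup H) :=
  𝓐.map ⟨Subgroup.map e.toMonoidHom, Subgroup.map_injective e.injective⟩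

theorem mem_pushFam (e : G ≃* H) (𝓐 : Finset (Subgroup G)) (B : Subgroup H) :
    B ∈ pushFam e 𝓐 ↔ ∃ A ∈ 𝓐, Subgroup.map e.toMonoidHom A = B := by
  unfold pushFam
  rw [Finset.mem_map]
  rfl

theorem card_pushFam (e : G ≃* H) (𝓐 : Finset (Subgroup G)) :
    (pushFam e 𝓐).card = 𝓐.card := by
  unfold pushFam
  rw [Finset.card_map]

theorem pushFam_cover (e : G ≃* H) (𝓐 : Finset (Subgroup G))
    (h : (∀ A ∈ 𝓐, A ≠ ⊤) ∧ (∀ g : G, ∃ A ∈ 𝓐, g ∈ A)) :
    (∀ B ∈ pushFam e 𝓐, B ≠ ⊤) ∧ (∀ g : H, ∃ B ∈ pushFam e 𝓐, g ∈ B) := by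
  constructor
  · intro B hB
    rw [mem_pushFam] at hB
    obtain ⟨A, hA, rfl⟩ := hB
    intro htop
    apply h.1 A hA
    rw [eq_top_iff]
    intro x _
    have hx : e x ∈ Subgroup.map e.toMonoidHom A := by rw [htop]; exact Subgroup.mem_top _
    obtain ⟨y, hy, hxy⟩ := hx
    have : y = x := e.injective hxy
    rw [← this]
    exact hy
  · intro g
    obtain ⟨A, hA, hgA⟩ := h.2 (e.symm g)
    refine ⟨Subgroup.map e.toMonoidHom A, (mem_pushFam e 𝓐 _).mpr ⟨A, hA, rfl⟩, ?_⟩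
    exact ⟨e.symm g, hgA, e.apply_symm_apply g⟩

theorem hasNilpMinCover_congr (e : G ≃* H) (h : HasNilpMinCover G) : HasNilpMinCover H := by
  obtain ⟨𝓐, hcov, hmin, hnil⟩ := h
  refine ⟨pushFam e 𝓐, pushFam_cover e 𝓐 hcov, ?_, ?_⟩
  · intro 𝓑 h𝓑
    have := hmin (pushFam e.symm 𝓑) (pushFam_cover e.symm 𝓑 h𝓑)
    rw [card_pushFam] at this
    rw [card_pushFam]
    exact this
  · intro B hB
    rw [mem_pushFam] at hB
    obtain ⟨A, hA, rfl⟩ := hB
    have := hnil A hA
    have f : ↥A ≃* ↥(Subgroup.map e.toMonoidHom A) :=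
      Subgroup.equivMapOfInjective _ e.toMonoidHom e.injective
    exact Group.nilpotent_of_mulEquiv f

end transfer

section generic

variable {G : Type*} [Group G] [Finite G]

theorem not_hasNilpMinCover_of_partition (PP PP' : Set (Subgroup G))
    (hne : ∀ U ∈ PP, U ≠ ⊥)
    (huniq : ∀ U ∈ PP, ∀ V ∈ PP, ∀ x : G, x ≠ 1 → x ∈ U → x ∈ V → U = V)
    (hcent : ∀ U ∈ PP, ∀ x ∈ U, x ≠ 1 → Subgroup.centralizer ({x} : Set G) ≤ U)
    (hsub : PP' ⊂ PP)
    (hproper : ∀ U ∈ PP', Subgroup.normalizer (U : Set G) ≠ ⊤)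
    (hcov : ∀ g : G, ∃ U ∈ PP', g ∈ Subgroup.normalizer (U : Set G)) :
    ¬ HasNilpMinCover G := by
  classical
  rintro ⟨𝓐, ⟨hA1, hA2⟩, hmin, hnil⟩
  have hfin : PP.Finite := Set.toFinite _
  have hfin' : PP'.Finite := Set.toFinite _
  set 𝓑 : Finset (Subgroup G) :=
    hfin'.toFinset.image (fun U : Subgroup G => Subgroup.normalizer (U : Set G)) with h𝓑
  have hB : 𝓐.card ≤ 𝓑.card := by
    apply hmin 𝓑
    constructor
    · intro A hA
      rw [h𝓑, Finset.mem_image] at hA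
      obtain ⟨U, hU, rfl⟩ := hA
      exact hproper U ((Set.Finite.mem_toFinset hfin').mp hU)
    · intro g
      obtain ⟨U, hU, hg⟩ := hcov g
      exact ⟨_, Finset.mem_image.mpr ⟨U, (Set.Finite.mem_toFinset hfin').mpr hU, rfl⟩, hg⟩
  have hB' : 𝓑.card ≤ PP'.ncard := by
    rw [Set.ncard_eq_toFinset_card PP' hfin']
    exact Finset.card_image_le
  have hlt : PP'.ncard < PP.ncard := Set.ncard_lt_ncard hsub hfin
  have hle : PP.ncard ≤ 𝓐.card := by
    have hch : ∀ U : PP, ∃ A ∈ 𝓐, A ≤ U.1 ∧ A ≠ ⊥ := by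
      rintro ⟨U, hU⟩
      obtain ⟨⟨x, hxU⟩, hx1'⟩ := (Subgroup.ne_bot_iff_exists_ne_one (H := U)).mp (hne U hU)
      have hx1 : x ≠ 1 := fun h => hx1' (Subtype.ext h)
      obtain ⟨A, hA, hxA⟩ := hA2 x
      refine ⟨A, hA, ?_, ?_⟩
      · have hnilA := hnil A hA
        have hnt : Nontrivial ↥A :=
          ⟨⟨⟨x, hxA⟩, 1, fun h => hx1 (congrArg Subtype.val h)⟩⟩
        have hc := Group.IsNilpotent.center_ne_bot ↥A
        obtain ⟨⟨z, hz⟩, hz1⟩ := (Subgroup.ne_bot_iff_exists_ne_one (H := Subgroup.center ↥A)).mp hc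
        have hz1' : (z : G) ≠ 1 := fun h => hz1 (Subtype.ext (Subtype.ext h))
        have hzx : (z : G) ∈ Subgroup.centralizer ({x} : Set G) := by
          rw [Subgroup.mem_centralizer_iff]
          intro y hy
          rw [Set.mem_singleton_iff] at hy
          subst hy
          have := (Subgroup.mem_center_iff.mp hz) ⟨y, hxA⟩
          exact congrArg Subtype.val this
        have hzU : (z : G) ∈ U := hcent U hU x hxU hx1 hzx
        intro a ha
        apply hcent U hU z hzU hz1'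
        rw [Subgroup.mem_centralizer_iff]
        intro y hy
        rw [Set.mem_singleton_iff] at hy
        subst hy
        have := (Subgroup.mem_center_iff.mp hz) ⟨a, ha⟩
        exact (congrArg Subtype.val this).symm
      · intro hbot
        rw [hbot, Subgroup.mem_bot] at hxA
        exact hx1 hxA
    choose f hf using hch
    have hinj : Function.Injective (fun U : PP => (⟨f U, (hf U).1⟩ : 𝓐)) := by
      intro U V h
      have h' : f U = f V := congrArg Subtype.val h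
      obtain ⟨-, hleU, hneU⟩ := hf U
      obtain ⟨-, hleV, -⟩ := hf V
      obtain ⟨⟨y, hy⟩, hy1'⟩ := (Subgroup.ne_bot_iff_exists_ne_one (H := f U)).mp hneU
      have hy1 : y ≠ 1 := fun h => hy1' (Subtype.ext h)
      exact Subtype.ext (huniq U.1 U.2 V.1 V.2 y hy1 (hleU hy) (hleV (h' ▸ hy)))
    have := Nat.card_le_card_of_injective _ hinj
    rw [Nat.card_coe_set_eq, Nat.card_eq_fintype_card, Fintype.card_coe] at this
    exact this
  omega

end generic

end Cfsg.Agent.Helper11.SzCover
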