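import Mathlib
import Cfsg.Agent.Helper11.SzCoverA
import Cfsg.Agent.Helper11.SzSolD
import Cfsg.Agent.Helper11.SzBridge
import Cfsg.Agent.Helper2.SzSimple

/-! Nilpotent covers of the Suzuki groups: there is no nilpotent minimal cover. -/

set_option autoImplicit false
set_option linter.unusedSectionVars false
set_option linter.unusedVariables false

namespace Cfsg.Agent.Helper11.SzCover

open Matrix Cfsg.Agent.Helper2.SzO Cfsg.Agent.Helper11.SzAut Cfsg.Agent.Helper11.SzCN
  Cfsg.Agent.Helper11.SCTI Cfsg.Agent.Helper11.SzTor Cfsg.Agent.Helper11.SzPart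
  Cfsg.Agent.Helper11.SzTI Cfsg.Agent.Helper11.SzMax Cfsg.Agent.Helper11.SzSg

variable {F : Type*} [Field F] [Fintype F] {m : ℕ}

section

variable (hF : Fintype.card F = 2 ^ (2 * m + 1)) (hm : 1 ≤ m)

include hF hm

theorem good_of_isTor {T : Subgroup (Cfsg.Sz F m)} (hT : IsTor T) : Good (SS m) T := by
  have h := isCT_of_isTor hF hm hT
  exact Or.inr ⟨h.2.1, h.2.2.1⟩

theorem good_Qz_cj (h : Cfsg.Sz F m) : Good (SS m) (cj h (Qz (m := m) hF)) := by
  have : Fact (Nat.Prime 2) := ⟨Nat.prime_two⟩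
  have h0 : Good (SS m) (Qz (m := m) hF) := Or.inl ⟨QSylow hF hm, (QSylow_coe hF hm).symm⟩
  exact h0.conj h

theorem good_Dsub : Good (SS m) (Dsub (m := m) hF) := by
  refine Or.inr ⟨isCyclic_Dsub hF, ?_⟩
  rw [card_Dsub]
  left; rfl

/-- the centraliser of a non-identity element lies in its member of the partition -/
theorem centralizer_le_of_good (g : Cfsg.Sz F m) (hg : g ≠ 1) (U : Subgroup (Cfsg.Sz F m))
    (hU : Good (SS m) U) (hgU : g ∈ U) :
    Subgroup.centralizer ({g} : Set (Cfsg.Sz F m)) ≤ U := by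
  have hpart := partition hF hm g hg
  -- it suffices to find one member containing the centraliser
  suffices h : ∃ V : Subgroup (Cfsg.Sz F m), Good (SS m) V ∧ g ∈ V ∧
      Subgroup.centralizer ({g} : Set (Cfsg.Sz F m)) ≤ V by
    obtain ⟨V, hV, hgV, hle⟩ := h
    have : U = V := hpart.unique ⟨hU, hgU⟩ ⟨hV, hgV⟩
    rw [this]
    exact hle
  have hconj : ∀ (h c : Cfsg.Sz F m), c ∈ Subgroup.centralizer ({g} : Set (Cfsg.Sz F m)) →
      h * c * h⁻¹ ∈ Subgroup.centralizer ({h * g * h⁻¹} : Set (Cfsg.Sz F m)) := by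
    intro h c hc
    rw [mem_centralizer_singleton] at hc ⊢
    have e1 : h * g * h⁻¹ * (h * c * h⁻¹) = h * (g * c) * h⁻¹ := by group
    have e2 : h * c * h⁻¹ * (h * g * h⁻¹) = h * (c * g) * h⁻¹ := by group
    rw [e1, e2, hc]
  rcases classify hF hm g hg with hnf | ⟨h, a, b, hab, e⟩ | ⟨h, k, hk, e⟩
  · refine ⟨_, good_of_isTor hF hm (isTor_centralizer hF hm hnf), ?_, le_refl _⟩
    rw [mem_centralizer_singleton]
  · refine ⟨cj h⁻¹ (Qz hF), good_Qz_cj hF hm h⁻¹, ?_, ?_⟩
    · rw [mem_cj, inv_inv, e]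
      exact Tz_mem_Qz hF a b
    · intro c hc
      rw [mem_cj, inv_inv]
      have := hconj h c hc
      rw [e] at this
      exact centralizer_Tz_le hF hm hab this
  · refine ⟨cj h⁻¹ (Dsub hF), (good_Dsub hF hm).conj h⁻¹, ?_, ?_⟩
    · rw [mem_cj, inv_inv, e]
      exact Dz_mem_Dsub hF k
    · intro c hc
      rw [mem_cj, inv_inv]
      have := hconj h c hc
      rw [e, centralizer_Dz hF hm hk] at this
      exact this

theorem Tz_zero_one_ne_one : Tz (m := m) hF 0 1 ≠ 1 := by
  intro h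
  rw [← Tz_one hF] at h
  exact one_ne_zero (Tz_injective hF h).2

theorem good_ne_bot (U : Subgroup (Cfsg.Sz F m)) (hU : Good (SS m) U) : U ≠ ⊥ := by
  have : Fact (Nat.Prime 2) := ⟨Nat.prime_two⟩
  rcases hU with ⟨P, rfl⟩ | ⟨hc, hn⟩
  · apply Sylow.ne_bot_of_dvd_card
    have h2 : orderOf (Tz (m := m) hF 0 1) = 2 :=
      Cfsg.Agent.Helper11.SzSol.orderOf_Tz_central hF one_ne_zero
    rw [← h2]
    exact orderOf_dvd_natCard _
  · intro h
    have h1 := one_lt_of_mem_SS hm hn
    rw [h, Subgroup.card_bot] at h1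
    omega

/-- the main theorem for `Cfsg.Sz` -/
theorem not_hasNilpMinCover_Sz : ¬ HasNilpMinCover (Cfsg.Sz F m) := by
  have : Fact (Nat.Prime 2) := ⟨Nat.prime_two⟩
  have hfinite : Finite (Cfsg.Sz F m) := inferInstance
  obtain ⟨k, hk⟩ := exists_units_ne_one hF hm
  have hDz1 : Dz (m := m) hF k ≠ 1 := by
    intro h
    rw [← Dz_one hF] at h
    exact hk (Dz_injective hF h)
  have hTz1 := Tz_zero_one_ne_one hF hm
  have hQ2 : IsPGroup 2 (Qz (m := m) hF) := by
    rw [← QSylow_coe hF hm]; exact (QSylow hF hm).isPGroup'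
  have hDodd : Odd (Nat.card (Dsub (m := m) hF)) := by
    rw [card_Dsub]; exact odd_q_sub_one
  apply not_hasNilpMinCover_of_partition
    {U : Subgroup (Cfsg.Sz F m) | Good (SS m) U}
    {U : Subgroup (Cfsg.Sz F m) | (∃ P : Sylow 2 (Cfsg.Sz F m), U = (P : Subgroup (Cfsg.Sz F m))) ∨
      IsTor U}
  · intro U hU
    exact good_ne_bot hF hm U hU
  · intro U hU V hV x hx1 hxU hxV
    exact (partition hF hm x hx1).unique ⟨hU, hxU⟩ ⟨hV, hxV⟩
  · intro U hU x hxU hx1
    exact centralizer_le_of_good hF hm x hx1 U hU hxU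
  · rw [Set.ssubset_def]
    constructor
    · rintro U (⟨P, rfl⟩ | hT)
      · exact Or.inl ⟨P, rfl⟩
      · exact good_of_isTor hF hm hT
    · intro hsub
      rcases hsub (good_Dsub hF hm) with ⟨P, hP⟩ | hT
      · apply hDz1
        have hP2 : IsPGroup 2 (Dsub (m := m) hF) := by rw [hP]; exact P.isPGroup'
        exact eq_one_of_two_group_of_odd hP2 hDodd (Dz_mem_Dsub hF k) (Dz_mem_Dsub hF k)
      · exact hT.2.2 _ (Dz_mem_Dsub hF k) hDz1 infO (Dz_smul_infO hF k)
  · intro U hU htop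
    have hUgood : Good (SS m) U := by
      rcases hU with ⟨P, rfl⟩ | hT
      · exact Or.inl ⟨P, rfl⟩
      · exact good_of_isTor hF hm hT
    have hnormal : U.Normal := Subgroup.normalizer_eq_top_iff.mp htop
    have hsimple := Cfsg.Agent.Helper2.SzO.isSimpleGroup hF hm
    rcases hnormal.eq_bot_or_eq_top with h | h
    · exact good_ne_bot hF hm U hUgood h
    · -- `U = ⊤` contains both a `2`-element and an element of odd order
      have h1 : U = Qz hF := (partition hF hm _ hTz1).unique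
        ⟨hUgood, by rw [h]; exact Subgroup.mem_top _⟩
        ⟨by have := good_Qz_cj hF hm 1; rwa [cj_one] at this, Tz_mem_Qz hF 0 1⟩
      have h2 : U = Dsub hF := (partition hF hm _ hDz1).unique
        ⟨hUgood, by rw [h]; exact Subgroup.mem_top _⟩ ⟨good_Dsub hF hm, Dz_mem_Dsub hF k⟩
      apply hDz1
      have hmem : Dz hF k ∈ Qz (m := m) hF := by rw [← h1, h]; exact Subgroup.mem_top _
      exact eq_one_of_two_group_of_odd hQ2 hDodd hmem (Dz_mem_Dsub hF k)
  · intro g
    by_cases hg : g = 1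
    · refine ⟨Qz hF, Or.inl ⟨QSylow hF hm, (QSylow_coe hF hm).symm⟩, ?_⟩
      rw [hg]
      exact Subgroup.one_mem _
    · have hfixcase : ∀ h : Cfsg.Sz F m, (h * g * h⁻¹) • (infO : Cfsg.suzukiOvoid F m) = infO →
          ∃ U ∈ {U : Subgroup (Cfsg.Sz F m) |
            (∃ P : Sylow 2 (Cfsg.Sz F m), U = (P : Subgroup (Cfsg.Sz F m))) ∨ IsTor U},
            g ∈ Subgroup.normalizer (U : Set (Cfsg.Sz F m)) := by
        intro h hfix
        refine ⟨cj h⁻¹ (Qz hF), ?_, ?_⟩
        · left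
          refine ⟨h⁻¹ • QSylow hF hm, ?_⟩
          rw [Sylow.coe_subgroup_smul]
          rfl
        · rw [mem_normalizer_cj, inv_inv, normalizer_Qz hF hm, MulAction.mem_stabilizer_iff]
          exact hfix
      rcases classify hF hm g hg with hnf | ⟨h, a, b, hab, e⟩ | ⟨h, k', hk', e⟩
      · refine ⟨_, Or.inr (isTor_centralizer hF hm hnf), ?_⟩
        apply Subgroup.le_normalizer
        rw [mem_centralizer_singleton]
      · apply hfixcase h
        rw [e, Tz_smul_infO]
      · apply hfixcase h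
        rw [e, Dz_smul_infO]

end

end Cfsg.Agent.Helper11.SzCover
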