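import Mathlib

/-! Actions of small fixity, generic part. -/

set_option autoImplicit false
set_option linter.unusedSectionVars false
set_option linter.unusedVariables false

namespace Cfsg.Agent.Helper11.SzFix

section generic

variable {S Ω : Type*} [Group S] [MulAction S Ω]

/-- if `k` fixes at most two points and `L` conjugates `k` into the stabiliser of `β`,
then the stabiliser of `β` has index at most two in `L` -/
theorem relIndex_le_of_fixedBy [Finite Ω] (β : Ω) (k : S)
    (hk : Nat.card (MulAction.fixedBy Ω k) ≤ 2) (L : Subgroup S)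
    (hL : ∀ g ∈ L, g⁻¹ * k * g ∈ MulAction.stabilizer S β) :
    (MulAction.stabilizer S β).relIndex L ≤ 2 := by
  have hstab : MulAction.stabilizer L β = (MulAction.stabilizer S β).subgroupOf L := by
    ext g
    rw [MulAction.mem_stabilizer_iff, Subgroup.mem_subgroupOf, MulAction.mem_stabilizer_iff]
    rfl
  have h1 : (MulAction.stabilizer S β).relIndex L = (MulAction.orbit L β).ncard := by
    rw [Subgroup.relIndex, ← hstab]
    exact MulAction.index_stabilizer L β
  have hsub : MulAction.orbit L β ⊆ MulAction.fixedBy Ω k := by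
    rintro _ ⟨g, rfl⟩
    rw [MulAction.mem_fixedBy]
    have := hL g.1 g.2
    rw [MulAction.mem_stabilizer_iff, mul_smul, mul_smul] at this
    show k • ((g : S) • β) = (g : S) • β
    exact inv_smul_eq_iff.mp this
  rw [h1]
  calc (MulAction.orbit L β).ncard ≤ (MulAction.fixedBy Ω k).ncard :=
        Set.ncard_le_ncard hsub (Set.toFinite _)
    _ = Nat.card (MulAction.fixedBy Ω k) := (Nat.card_coe_set_eq _).symm
    _ ≤ 2 := hk

variable {G : Type*} [Group G] [Finite G]

/-- squares of elements of `L` lie in a subgroup of relative index at most two -/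
theorem sq_mem_of_relIndex_le_two (H L : Subgroup G) (h : H.relIndex L ≤ 2) {x : G}
    (hx : x ∈ L) : x * x ∈ H := by
  have h0 : (H.subgroupOf L).index ≠ 0 := Subgroup.index_ne_zero_of_finite
  have hle : (H.subgroupOf L).index ≤ 2 := h
  have hcases : (H.subgroupOf L).index = 1 ∨ (H.subgroupOf L).index = 2 := by omega
  rcases hcases with h1 | h2
  · have htop := Subgroup.index_eq_one.mp h1
    have hmem : (⟨x, hx⟩ : L) ∈ H.subgroupOf L := by rw [htop]; exact Subgroup.mem_top _
    rw [Subgroup.mem_subgroupOf] at hmem
    exact H.mul_mem hmem hmem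
  · have := Subgroup.sq_mem_of_index_two h2 (⟨x, hx⟩ : L)
    rw [Subgroup.mem_subgroupOf, pow_two] at this
    exact this

/-- elements of odd order of `L` lie in a subgroup of relative index at most two -/
theorem mem_of_odd_of_relIndex_le_two (H L : Subgroup G) (h : H.relIndex L ≤ 2) {x : G}
    (hx : x ∈ L) (hodd : Odd (orderOf x)) : x ∈ H := by
  obtain ⟨n, hn⟩ := hodd
  have h1 : x ^ (n + 1) * x ^ (n + 1) = x := by
    rw [← pow_add]
    have : n + 1 + (n + 1) = orderOf x + 1 := by omega
    rw [this, pow_succ, pow_orderOf_eq_one, one_mul]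
  rw [← h1]
  exact sq_mem_of_relIndex_le_two H L h (L.pow_mem hx _)

/-- relative index of a subgroup in an overgroup through cardinalities -/
theorem relIndex_mul_card_of_le {H L : Subgroup G} (hle : H ≤ L) :
    H.relIndex L * Nat.card H = Nat.card L := by
  have := Subgroup.relIndex_mul_relIndex (H := (⊥ : Subgroup G)) (K := H) (L := L) bot_le hle
  rw [Subgroup.relIndex_bot_left, Subgroup.relIndex_bot_left] at this
  rw [mul_comm]
  exact this

end generic

end Cfsg.Agent.Helper11.SzFix
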