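import Mathlib
import Cfsg.Agent.Helper11.SzSolG

/-! Solubilizers in the Suzuki groups, part H: the solubilizer of an involution. -/

set_option autoImplicit false
set_option linter.unusedSectionVars false
set_option linter.unusedVariables false

namespace Cfsg.Agent.Helper11.SzSol

open Matrix Cfsg.Agent.Helper2.SzO Cfsg.Agent.Helper11.SzAut Cfsg.Agent.Helper11.SzCN
  Cfsg.Agent.Helper11.SCTI Cfsg.Agent.Helper11.SzTor Cfsg.Agent.Helper11.SzPart
  Cfsg.Agent.Helper11.SzTI Cfsg.Agent.Helper11.SzMax Cfsg.Agent.Helper11.SzSg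

variable {F : Type*} [Field F] [Fintype F] {m : ℕ}

open Classical in
/-- a chosen square root of `x` in the normaliser of `T` -/
noncomputable def sqrtIn (x : Cfsg.Sz F m) (T : Subgroup (Cfsg.Sz F m)) : Cfsg.Sz F m :=
  if h : ∃ c ∈ Subgroup.normalizer (T : Set (Cfsg.Sz F m)), c * c = x then Classical.choose h else 1

theorem sqrtIn_spec {x : Cfsg.Sz F m} {T : Subgroup (Cfsg.Sz F m)}
    (h : ∃ c ∈ Subgroup.normalizer (T : Set (Cfsg.Sz F m)), c * c = x) :
    sqrtIn x T ∈ Subgroup.normalizer (T : Set (Cfsg.Sz F m)) ∧ sqrtIn x T * sqrtIn x T = x := by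
  unfold sqrtIn
  rw [dif_pos h]
  exact Classical.choose_spec h

section

variable (hF : Fintype.card F = 2 ^ (2 * m + 1)) (hm : 1 ≤ m)

include hF hm

variable {U : Subgroup (Cfsg.Sz F m)}

omit hF hm in
theorem _root_.Cfsg.Agent.Helper11.SzSg.IsCT.odd_orderOf (hU : IsCT U) {t : Cfsg.Sz F m}
    (ht : t ∈ U) : Odd (orderOf t) := by
  have h1 : orderOf t ∣ Nat.card U := by
    have := orderOf_dvd_natCard (⟨t, ht⟩ : U)
    rwa [Subgroup.orderOf_mk] at this
  exact Odd.of_dvd_nat (odd_of_mem_SS hU.2.2.1) h1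

omit hF hm in
/-- an involution normalising a cyclic member of the partition inverts it -/
theorem _root_.Cfsg.Agent.Helper11.SzSg.IsCT.inverts (hU : IsCT U) {a : Cfsg.Sz F m}
    (ha : a ∈ Subgroup.normalizer (U : Set (Cfsg.Sz F m))) (ha2 : orderOf a = 2)
    {t : Cfsg.Sz F m} (ht : t ∈ U) : a * t * a⁻¹ = t⁻¹ := by
  have haa : a * a = 1 := by rw [← pow_two, ← ha2, pow_orderOf_eq_one]
  have ha' : a⁻¹ = a := inv_eq_of_mul_eq_one_left haa
  have hat : a * t * a⁻¹ ∈ U := (Subgroup.mem_normalizer_iff.mp ha t).mp ht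
  set s := t * (a * t * a⁻¹) with hs
  have hsU : s ∈ U := U.mul_mem ht hat
  by_contra hne
  have hs1 : s ≠ 1 := by
    intro h1
    apply hne
    exact (eq_inv_of_mul_eq_one_right h1)
  have hcomm : s * a = a * s := by
    have e1 : a * s * a⁻¹ = (a * t * a⁻¹) * t := by
      rw [hs]
      have : a * (t * (a * t * a⁻¹)) * a⁻¹ = (a * t * a⁻¹) * ((a * a) * t * (a * a)⁻¹) := by group
      rw [this, haa]
      group
    have e2 : (a * t * a⁻¹) * t = s := hU.1.comm _ hat _ ht
    rw [e2] at e1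
    have := congrArg (fun z => z * a) e1
    simp only [inv_mul_cancel_right] at this
    exact this.symm
  have haU : a ∈ U := by
    rw [← hU.1 s hsU hs1, mem_centralizer_singleton]
    exact hcomm
  have := hU.odd_orderOf haU
  rw [ha2] at this
  exact absurd this (by decide)

/-- an involution `x` and an involution `z` with a different fixed point generate a solvable
group -/
theorem rel_of_invol {x z : Cfsg.Sz F m} (hx : orderOf x = 2) (hz : orderOf z = 2)
    {ω₀ : Cfsg.suzukiOvoid F m} (hω₀ : x • ω₀ = ω₀) (hzω : z • ω₀ ≠ ω₀) :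
    Odd (orderOf (x * z)) ∧ x * z ≠ 1 ∧ Rel x z := by
  have hx1 : x ≠ 1 := by
    intro h; rw [h, orderOf_one] at hx; omega
  have hz1 : z ≠ 1 := by
    intro h; rw [h, orderOf_one] at hz; omega
  have hxx : x * x = 1 := by rw [← pow_two, ← hx, pow_orderOf_eq_one]
  have hzz : z * z = 1 := by rw [← pow_two, ← hz, pow_orderOf_eq_one]
  have hx' : x⁻¹ = x := inv_eq_of_mul_eq_one_left hxx
  have hz' : z⁻¹ = z := inv_eq_of_mul_eq_one_left hzz
  obtain ⟨β, hβ⟩ := invol_fix_exists hF hm z hz1 hzz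
  have hne : ω₀ ≠ β := by
    rintro rfl
    exact hzω hβ
  obtain ⟨k, hk⟩ := odd_order_mul_invol hF hm x z hx1 hxx hz1 hzz ω₀ β hω₀ hβ hne
  have hodd : Odd (orderOf (x * z)) := Odd.of_dvd_nat ⟨k, rfl⟩ (orderOf_dvd_of_pow_eq_one hk)
  have ht1 : x * z ≠ 1 := by
    intro h
    have : z = x := by
      have := eq_inv_of_mul_eq_one_right h
      rw [this, hx']
    rw [this] at hzω
    exact hzω hω₀
  refine ⟨hodd, ht1, ?_⟩
  right
  have hU := isCT_centralizer_of_odd hF hm (x * z) ht1 hodd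
  have hinvmem : (x * z)⁻¹ ∈ Subgroup.centralizer ({x * z} : Set (Cfsg.Sz F m)) :=
    Subgroup.inv_mem _ (self_mem_centralizer _)
  refine ⟨_, hU, ?_, ?_⟩
  · apply hU.1.mem_normalizer (self_mem_centralizer (x * z)) ht1
    have e : x * (x * z) * x⁻¹ = (x * z)⁻¹ := by
      rw [_root_.mul_inv_rev, hx', hz', ← mul_assoc, hxx, one_mul]
    rw [e]
    exact hinvmem
  · apply hU.1.mem_normalizer (self_mem_centralizer (x * z)) ht1
    have e : z * (x * z) * z⁻¹ = (x * z)⁻¹ := by
      rw [_root_.mul_inv_rev, hx', hz', mul_assoc, mul_assoc, hzz, mul_one]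
    rw [e]
    exact hinvmem

/-- elements of odd order inverted by `x` lie in the solubilizer of `x` -/
theorem rel_of_inverted {x y : Cfsg.Sz F m} (hy1 : y ≠ 1) (hodd : Odd (orderOf y))
    (hinv : x * y * x⁻¹ = y⁻¹) : Rel x y := by
  right
  have hU := isCT_centralizer_of_odd hF hm y hy1 hodd
  refine ⟨_, hU, ?_, Subgroup.le_normalizer (self_mem_centralizer y)⟩
  apply hU.1.mem_normalizer (self_mem_centralizer y) hy1
  rw [hinv]
  exact Subgroup.inv_mem _ (self_mem_centralizer _)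

end

end Cfsg.Agent.Helper11.SzSol
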