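import Mathlib
import Cfsg.Agent.Helper11.SzSolH

/-! Solubilizers in the Suzuki groups, part I: counting the solubilizer of an involution. -/

set_option autoImplicit false
set_option linter.unusedSectionVars false
set_option linter.unusedVariables false

namespace Cfsg.Agent.Helper11.SzSol

open Matrix Cfsg.Agent.Helper2.SzO Cfsg.Agent.Helper11.SzAut Cfsg.Agent.Helper11.SzCN
  Cfsg.Agent.Helper11.SCTI Cfsg.Agent.Helper11.SzTor Cfsg.Agent.Helper11.SzPart
  Cfsg.Agent.Helper11.SzTI Cfsg.Agent.Helper11.SzMax Cfsg.Agent.Helper11.SzSg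

variable {F : Type*} [Field F] [Fintype F] {m : ℕ}

theorem orderOf_mul_self_of_four {G : Type*} [Monoid G] {y : G} (h : orderOf y = 4) :
    orderOf (y * y) = 2 := by
  rw [← pow_two, orderOf_pow' y (by norm_num), h]
  rfl

theorem orderOf_four_of_sq {G : Type*} [Monoid G] {c x : G} (hcc : c * c = x) (hx : orderOf x = 2) :
    orderOf c = 4 := by
  have hc4' : c ^ 2 ^ (1 + 1) = 1 := by
    have : c ^ 2 ^ (1 + 1) = (c * c) * (c * c) := by
      norm_num
      simp only [pow_succ, pow_zero, one_mul, mul_assoc]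
    rw [this, hcc, ← pow_two, ← hx, pow_orderOf_eq_one]
  have hc2 : ¬ c ^ 2 ^ 1 = 1 := by
    rw [pow_one, pow_two, hcc]
    intro h
    rw [h, orderOf_one] at hx
    omega
  have := orderOf_eq_prime_pow hc2 hc4'
  rw [this]
  rfl

section

variable (hF : Fintype.card F = 2 ^ (2 * m + 1)) (hm : 1 ≤ m)

include hF hm

/-- the number of involutions not fixing a given point -/
theorem ncard_invol_not_fix (ω₀ : Cfsg.suzukiOvoid F m) :
    {y : Cfsg.Sz F m | orderOf y = 2 ∧ y • ω₀ ≠ ω₀}.ncard =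
      (2 ^ (2 * m + 1)) ^ 2 * (2 ^ (2 * m + 1) - 1) := by
  have h1 := card_invol hF hm
  have h2 := card_order_fix hF hm 2 ω₀
  rw [card_invol_fix_inf hF hm] at h2
  have hfin : ∀ s : Set (Cfsg.Sz F m), s.Finite := fun s => Set.toFinite s
  have e1 : {y : Cfsg.Sz F m | orderOf y = 2}.ncard =
      ((2 ^ (2 * m + 1)) ^ 2 + 1) * (2 ^ (2 * m + 1) - 1) := by
    rw [← Nat.card_coe_set_eq]
    exact h1
  have e2 : {y : Cfsg.Sz F m | orderOf y = 2 ∧ y • ω₀ = ω₀}.ncard = 2 ^ (2 * m + 1) - 1 := by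
    rw [← Nat.card_coe_set_eq]
    exact h2
  have hcover : {y : Cfsg.Sz F m | orderOf y = 2} =
      {y : Cfsg.Sz F m | orderOf y = 2 ∧ y • ω₀ = ω₀} ∪
        {y : Cfsg.Sz F m | orderOf y = 2 ∧ y • ω₀ ≠ ω₀} := by
    ext y
    constructor
    · intro hy
      by_cases h : y • ω₀ = ω₀
      · left; exact ⟨hy, h⟩
      · right; exact ⟨hy, h⟩
    · rintro (h | h)
      · exact h.1
      · exact h.1
  have hdisj : Disjoint {y : Cfsg.Sz F m | orderOf y = 2 ∧ y • ω₀ = ω₀}
      {y : Cfsg.Sz F m | orderOf y = 2 ∧ y • ω₀ ≠ ω₀} := by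
    rw [Set.disjoint_left]
    intro y hy hy'
    exact hy'.2 hy.2
  rw [hcover, Set.ncard_union_eq hdisj (hfin _) (hfin _), e2] at e1
  have : ((2 ^ (2 * m + 1)) ^ 2 + 1) * (2 ^ (2 * m + 1) - 1) =
      (2 ^ (2 * m + 1) - 1) + (2 ^ (2 * m + 1)) ^ 2 * (2 ^ (2 * m + 1) - 1) := by ring
  rw [this] at e1
  exact Nat.add_left_cancel e1

/-- properties of the chosen square root -/
theorem sqrtIn_props {x : Cfsg.Sz F m} (hx : orderOf x = 2) {T : Subgroup (Cfsg.Sz F m)}
    (hT : IsTor T) (hxT : x ∈ Subgroup.normalizer (T : Set (Cfsg.Sz F m)))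
    {ω₀ : Cfsg.suzukiOvoid F m} (hω₀ : x • ω₀ = ω₀) (huniq : ∀ ω, x • ω = ω → ω = ω₀) :
    sqrtIn x T ∈ Subgroup.normalizer (T : Set (Cfsg.Sz F m)) ∧ sqrtIn x T * sqrtIn x T = x ∧
      orderOf (sqrtIn x T) = 4 ∧ ∀ i : ℕ, (sqrtIn x T) ^ i • ω₀ = ω₀ := by
  obtain ⟨h1, h2⟩ := sqrtIn_spec (hT.exists_sqrt hF hm hxT hx)
  have hc4 : orderOf (sqrtIn x T) = 4 := by
    generalize sqrtIn x T = c at h2
    exact orderOf_four_of_sq h2 hx
  refine ⟨h1, h2, hc4, ?_⟩
  obtain ⟨ω', hω', -⟩ := fix_unique_two_elt hF hm (sqrtIn x T) (Or.inr hc4)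
  have hxω' : x • ω' = ω' := by rw [← h2, mul_smul, hω', hω']
  have := huniq ω' hxω'
  rw [this] at hω'
  intro i
  induction i with
  | zero => rw [pow_zero, one_smul]
  | succ n ih => rw [pow_succ, mul_smul, hω', ih]


/-- case 1: the solubilizer of an involution -/
theorem card_rel_of_order_two (x : Cfsg.Sz F m) (hx : orderOf x = 2) :
    Nat.card {y : Cfsg.Sz F m // Rel x y} =
      (2 ^ (2 * m + 1)) ^ 2 * (4 * 2 ^ (2 * m + 1) - 3) := by
  obtain ⟨ω₀, hω₀, huniq⟩ := fix_unique_two_elt hF hm x (Or.inl hx)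
  have hfin : ∀ s : Set (Cfsg.Sz F m), s.Finite := fun s => Set.toFinite s
  have hx1 : x ≠ 1 := by
    intro h; rw [h, orderOf_one] at hx; omega
  have hxx : x * x = 1 := by rw [← pow_two, ← hx, pow_orderOf_eq_one]
  have hx' : x⁻¹ = x := inv_eq_of_mul_eq_one_left hxx
  have hxfix : ∀ y : Cfsg.Sz F m, (x * y) • ω₀ = ω₀ ↔ y • ω₀ = ω₀ := by
    intro y
    rw [mul_smul]
    constructor
    · intro h
      have h' : x • (y • ω₀) = x • ω₀ := by rw [h, hω₀]
      exact MulAction.injective x h'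
    · intro h; rw [h, hω₀]
  -- the chosen square roots, made opaque
  obtain ⟨cf, hcf⟩ : ∃ cf : Cfsg.Sz F m → Cfsg.Sz F m, ∀ t, cf t =
      sqrtIn x (Subgroup.centralizer ({t} : Set (Cfsg.Sz F m))) := ⟨_, fun _ => rfl⟩
  have hprops : ∀ t : Cfsg.Sz F m, NoFix t → NC x t →
      cf t ∈ Subgroup.normalizer
        ((Subgroup.centralizer ({t} : Set (Cfsg.Sz F m)) : Subgroup (Cfsg.Sz F m)) :
          Set (Cfsg.Sz F m)) ∧ cf t * cf t = x ∧ orderOf (cf t) = 4 ∧
        ∀ i : ℕ, cf t ^ i • ω₀ = ω₀ := by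
    intro t ht hnc
    rw [hcf]
    exact sqrtIn_props hF hm hx (isTor_centralizer hF hm ht) hnc hω₀ huniq
  have hcongr : ∀ t t' : Cfsg.Sz F m, Subgroup.centralizer ({t} : Set (Cfsg.Sz F m)) =
      Subgroup.centralizer ({t'} : Set (Cfsg.Sz F m)) → cf t = cf t' := by
    intro t t' h
    rw [hcf, hcf, h]
  clear hcf
  set A := {y : Cfsg.Sz F m | y • ω₀ = ω₀} with hA
  set B2 := {y : Cfsg.Sz F m | orderOf y = 2 ∧ y • ω₀ ≠ ω₀} with hB2
  set Bo := {y : Cfsg.Sz F m | y ≠ 1 ∧ Odd (orderOf y) ∧ y • ω₀ ≠ ω₀ ∧ x * y * x⁻¹ = y⁻¹} with hBo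
  set B4 := {y : Cfsg.Sz F m | orderOf y = 4 ∧ y • ω₀ ≠ ω₀ ∧ Rel x y} with hB4
  have hcover : {y : Cfsg.Sz F m | Rel x y} = A ∪ (B2 ∪ (Bo ∪ B4)) := by
    ext y
    constructor
    · intro hy
      by_cases h : y • ω₀ = ω₀
      · left; exact h
      · right
        rcases order_trichotomy hF hm y with hodd | h2 | h4
        · right; left
          have hy1 : y ≠ 1 := by
            rintro rfl
            exact h (one_smul _ _)
          refine ⟨hy1, hodd, h, ?_⟩
          rcases hy with ⟨ω, h1, h2⟩ | ⟨U, hU, hxU, hyU⟩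
          · exfalso
            rw [huniq ω h1] at h2
            exact h h2
          · have hyU' : y ∈ U := mem_of_pow_four_mem U y hodd (hU.2.2.2 y hyU)
            exact hU.inverts hxU hx hyU'
        · left; exact ⟨h2, h⟩
        · right; right; exact ⟨h4, h, hy⟩
    · rintro (h | h | h | h)
      · left; exact ⟨ω₀, hω₀, h⟩
      · exact (rel_of_invol hF hm hx h.1 hω₀ h.2).2.2
      · exact rel_of_inverted hF hm h.1 h.2.1 h.2.2.2
      · exact h.2.2
  have hd1 : Disjoint A (B2 ∪ (Bo ∪ B4)) := by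
    rw [Set.disjoint_left]
    rintro y hy (h | h | h)
    · exact h.2 hy
    · exact h.2.2.1 hy
    · exact h.2.1 hy
  have hd2 : Disjoint B2 (Bo ∪ B4) := by
    rw [Set.disjoint_left]
    rintro y hy (h | h)
    · have := h.2.1
      rw [hy.1] at this
      exact absurd this (by decide)
    · have := h.1
      rw [hy.1] at this
      omega
  have hd3 : Disjoint Bo B4 := by
    rw [Set.disjoint_left]
    rintro y hy h
    have := hy.2.1
    rw [h.1] at this
    exact absurd this (by decide)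
  have hA' : A.ncard = (2 ^ (2 * m + 1)) ^ 2 * (2 ^ (2 * m + 1) - 1) := ncard_stab hF hm ω₀
  have hB2' : B2.ncard = (2 ^ (2 * m + 1)) ^ 2 * (2 ^ (2 * m + 1) - 1) :=
    ncard_invol_not_fix hF hm ω₀
  have hBo' : Bo.ncard = (2 ^ (2 * m + 1)) ^ 2 * (2 ^ (2 * m + 1) - 1) := by
    rw [← hB2']
    have himg : Bo = (fun z => x * z) '' B2 := by
      ext y
      constructor
      · rintro ⟨hy1, hodd, hyω, hinv⟩
        refine ⟨x * y, ⟨?_, ?_⟩, ?_⟩
        · apply orderOf_eq_prime
          · have e : (x * y) ^ 2 = (x * y * x⁻¹) * (x * x) * y := by rw [pow_two]; group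
            rw [e, hinv, hxx]
            group
          · intro h1
            have : y = x := by
              have := eq_inv_of_mul_eq_one_right h1
              rw [this, hx']
            rw [this, hx] at hodd
            exact absurd hodd (by decide)
        · intro h
          exact hyω ((hxfix y).mp h)
        · show x * (x * y) = y
          rw [← mul_assoc, hxx, one_mul]
      · rintro ⟨z, ⟨hz2, hzω⟩, rfl⟩
        obtain ⟨hodd, hne, -⟩ := rel_of_invol hF hm hx hz2 hω₀ hzω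
        have hzz : z * z = 1 := by rw [← pow_two, ← hz2, pow_orderOf_eq_one]
        have hz' : z⁻¹ = z := inv_eq_of_mul_eq_one_left hzz
        refine ⟨hne, hodd, ?_, ?_⟩
        · intro h
          exact hzω ((hxfix z).mp h)
        · show x * (x * z) * x⁻¹ = (x * z)⁻¹
          rw [_root_.mul_inv_rev, hx', hz', ← mul_assoc, hxx, one_mul]
    rw [himg]
    exact Set.ncard_image_of_injective _ (mul_right_injective x)
  -- the elements of order four
  have hmem : ∀ (t : Cfsg.Sz F m) (ε : Fin 2), NoFix t → NC x t →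
      t * cf t ^ (2 * (ε : ℕ) + 1) ∈ B4 := by
    intro t ε ht hnc
    have hT := isTor_centralizer hF hm ht
    obtain ⟨hcN, hcc, hc4, hcfix⟩ := hprops t ht hnc
    have htT := self_mem_centralizer t
    have hyN : t * cf t ^ (2 * (ε : ℕ) + 1) ∈ Subgroup.normalizer
        ((Subgroup.centralizer ({t} : Set (Cfsg.Sz F m)) : Subgroup (Cfsg.Sz F m)) :
          Set (Cfsg.Sz F m)) :=
      Subgroup.mul_mem _ (Subgroup.le_normalizer htT) (Subgroup.pow_mem _ hcN _)
    have hyfix : (t * cf t ^ (2 * (ε : ℕ) + 1)) • ω₀ ≠ ω₀ := by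
      intro h
      rw [mul_smul, hcfix] at h
      exact ht ω₀ h
    refine ⟨?_, hyfix, Or.inr ⟨_, isCT_of_isTor hF hm hT, hnc, hyN⟩⟩
    have hε : (ε : ℕ) < 2 := ε.2
    rcases order_trichotomy hF hm (t * cf t ^ (2 * (ε : ℕ) + 1)) with hodd | h2 | h4
    · exfalso
      have hyT := hT.mem_of_odd hF hm hyN hodd
      have := (hT.decomp_inj hF hm hc4 hyT htT (i := 0) (j := 2 * (ε : ℕ) + 1) (by norm_num)
        (by omega) (by rw [pow_zero, mul_one])).2
      omega
    · exfalso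
      have hxy := hT.invol_mul_mem hF hm hnc hx hyN h2
      have hs : x * (x * (t * cf t ^ (2 * (ε : ℕ) + 1))) * x⁻¹ ∈
          Subgroup.centralizer ({t} : Set (Cfsg.Sz F m)) :=
        (Subgroup.mem_normalizer_iff.mp hnc _).mp hxy
      have e : t * cf t ^ (2 * (ε : ℕ) + 1) =
          x * (x * (t * cf t ^ (2 * (ε : ℕ) + 1))) * x⁻¹ * cf t ^ 2 := by
        rw [pow_two (cf t), hcc, hx', mul_assoc x _ x, mul_assoc x _ x, mul_assoc _ x x, hxx,
          mul_one, ← mul_assoc x x, hxx, one_mul]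
      have := (hT.decomp_inj hF hm hc4 htT hs (i := 2 * (ε : ℕ) + 1) (j := 2) (by omega)
        (by norm_num) e).2
      omega
    · exact h4
  let Ψ : {t : Cfsg.Sz F m // NoFix t ∧ NC x t} × Fin 2 → ↥B4 :=
    fun p => ⟨p.1.1 * cf p.1.1 ^ (2 * (p.2 : ℕ) + 1), hmem p.1.1 p.2 p.1.2.1 p.1.2.2⟩
  have hΨinj : Function.Injective Ψ := by
    rintro ⟨⟨t, ht, hnc⟩, ε⟩ ⟨⟨t', ht', hnc'⟩, ε'⟩ h
    have h' : t * cf t ^ (2 * (ε : ℕ) + 1) = t' * cf t' ^ (2 * (ε' : ℕ) + 1) :=
      congrArg Subtype.val h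
    have hT := isTor_centralizer hF hm ht
    have hT' := isTor_centralizer hF hm ht'
    obtain ⟨hcN, hcc, hc4, hcfix⟩ := hprops t ht hnc
    obtain ⟨hcN', hcc', hc4', hcfix'⟩ := hprops t' ht' hnc'
    obtain ⟨hy4, hyω, -⟩ := hmem t ε ht hnc
    have htT := self_mem_centralizer t
    have htT' := self_mem_centralizer t'
    have hyN : t * cf t ^ (2 * (ε : ℕ) + 1) ∈ Subgroup.normalizer
        ((Subgroup.centralizer ({t} : Set (Cfsg.Sz F m)) : Subgroup (Cfsg.Sz F m)) :
          Set (Cfsg.Sz F m)) :=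
      Subgroup.mul_mem _ (Subgroup.le_normalizer htT) (Subgroup.pow_mem _ hcN _)
    have hyN' : t * cf t ^ (2 * (ε : ℕ) + 1) ∈ Subgroup.normalizer
        ((Subgroup.centralizer ({t'} : Set (Cfsg.Sz F m)) : Subgroup (Cfsg.Sz F m)) :
          Set (Cfsg.Sz F m)) := by
      rw [h']
      exact Subgroup.mul_mem _ (Subgroup.le_normalizer htT') (Subgroup.pow_mem _ hcN' _)
    generalize hy : t * cf t ^ (2 * (ε : ℕ) + 1) = y at h' hy4 hyω hyN hyN'
    have hyy2 : orderOf (y * y) = 2 := orderOf_mul_self_of_four hy4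
    have hs := hT.invol_mul_mem hF hm hnc hx (Subgroup.mul_mem _ hyN hyN) hyy2
    have hs' := hT'.invol_mul_mem hF hm hnc' hx (Subgroup.mul_mem _ hyN' hyN') hyy2
    have hs1 : x * (y * y) ≠ 1 := by
      intro h1
      have hyy : y * y = x := by
        have := eq_inv_of_mul_eq_one_right h1
        rw [this, hx']
      obtain ⟨ω', hω', -⟩ := fix_unique_two_elt hF hm y (Or.inr hy4)
      have hxω' : x • ω' = ω' := by rw [← hyy, mul_smul, hω', hω']
      have := huniq ω' hxω'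
      rw [this] at hω'
      exact hyω hω'
    have hCC : Subgroup.centralizer ({t} : Set (Cfsg.Sz F m)) =
        Subgroup.centralizer ({t'} : Set (Cfsg.Sz F m)) := by
      rw [← hT.2.1 _ hs hs1, hT'.2.1 _ hs' hs1]
    have hcc'' : cf t = cf t' := hcongr t t' hCC
    rw [← hcc''] at h'
    rw [← hCC] at htT'
    obtain ⟨e1, e2⟩ := hT.decomp_inj hF hm hc4 htT htT' (by have := ε.2; omega)
      (by have := ε'.2; omega) (hy.trans h')
    subst e1
    have : ε = ε' := Fin.ext (by omega)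
    subst this
    rfl
  have hΨsurj : Function.Surjective Ψ := by
    rintro ⟨y, hy4, hyω, hyrel⟩
    rcases hyrel with ⟨ω, h1, h2⟩ | ⟨U, hU, hxU, hyU⟩
    · exfalso
      rw [huniq ω h1] at h2
      exact hyω h2
    · rcases isCT_cases hF hm hU with ⟨g, rfl⟩ | hT
      · exact absurd hy4 (orderOf_ne_four_of_mem_normalizer hF hm g y hyU)
      · obtain ⟨t₀, ht₀U, ht₀1⟩ := hT.exists_ne_one
        have hnf₀ : NoFix t₀ := hT.2.2 t₀ ht₀U ht₀1
        have hC₀ : Subgroup.centralizer ({t₀} : Set (Cfsg.Sz F m)) = U := hT.2.1 t₀ ht₀U ht₀1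
        have hnc₀ : NC x t₀ := by
          unfold NC
          rw [hC₀]
          exact hxU
        obtain ⟨hcN, hcc, hc4, hcfix⟩ := hprops t₀ hnf₀ hnc₀
        rw [hC₀] at hcN
        obtain ⟨t, htU, i, hy⟩ := hT.decomp hF hm hcN hc4 hyU
        have ht1 : t ≠ 1 := by
          rintro rfl
          apply hyω
          rw [hy, one_mul, hcfix]
        have hnf : NoFix t := hT.2.2 t htU ht1
        have hC : Subgroup.centralizer ({t} : Set (Cfsg.Sz F m)) = U := hT.2.1 t htU ht1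
        have hnc : NC x t := by
          unfold NC
          rw [hC]
          exact hxU
        have hcft : cf t = cf t₀ := hcongr t t₀ (hC.trans hC₀.symm)
        have hi0 : (i : ℕ) ≠ 0 := by
          intro h0
          rw [h0, pow_zero, mul_one] at hy
          have := hT.odd_orderOf hF hm htU
          rw [← hy, hy4] at this
          exact absurd this (by decide)
        have hi2 : (i : ℕ) ≠ 2 := by
          intro h2
          rw [h2, pow_two, hcc] at hy
          have hinv := hT.inverts hF hm hxU hx htU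
          have hyy : y * y = 1 := by
            rw [hy]
            have e : t * x * (t * x) = t * (x * t * x⁻¹) * (x * x) := by group
            rw [e, hinv, hxx]
            group
          have : orderOf y ∣ 2 := orderOf_dvd_of_pow_eq_one (by rw [pow_two]; exact hyy)
          rw [hy4] at this
          omega
        have hi4 : (i : ℕ) < 4 := i.2
        have hi : (i : ℕ) = 1 ∨ (i : ℕ) = 3 := by omega
        rcases hi with hi | hi
        · refine ⟨⟨⟨t, hnf, hnc⟩, 0⟩, ?_⟩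
          apply Subtype.ext
          show t * cf t ^ (2 * ((0 : Fin 2) : ℕ) + 1) = y
          rw [hcft, hy, hi]
          norm_num
        · refine ⟨⟨⟨t, hnf, hnc⟩, 1⟩, ?_⟩
          apply Subtype.ext
          show t * cf t ^ (2 * ((1 : Fin 2) : ℕ) + 1) = y
          rw [hcft, hy, hi]
          norm_num
  have hB4' : 2 * B4.ncard = (2 ^ (2 * m + 1)) ^ 3 * 2 := by
    rw [← Nat.card_coe_set_eq, ← Nat.card_congr (Equiv.ofBijective Ψ ⟨hΨinj, hΨsurj⟩),
      Nat.card_prod, Nat.card_eq_fintype_card (α := Fin 2), Fintype.card_fin, ← mul_assoc,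
      two_mul_card_noFix_NC_of_two hF hm x hx]
  have e1 : Nat.card {y : Cfsg.Sz F m // Rel x y} = {y : Cfsg.Sz F m | Rel x y}.ncard := by
    rw [← Nat.card_coe_set_eq]
    rfl
  rw [e1, hcover, Set.ncard_union_eq hd1 (hfin _) (hfin _),
    Set.ncard_union_eq hd2 (hfin _) (hfin _), Set.ncard_union_eq hd3 (hfin _) (hfin _),
    hA', hB2', hBo']
  have hB4'' : B4.ncard = (2 ^ (2 * m + 1)) ^ 3 := by omega
  rw [hB4'']
  have hQ1 : 1 ≤ 2 ^ (2 * m + 1) := Nat.one_le_two_pow
  obtain ⟨P, hP⟩ : ∃ P, 2 ^ (2 * m + 1) = P + 1 := ⟨2 ^ (2 * m + 1) - 1, by omega⟩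
  rw [hP]
  have h1 : P + 1 - 1 = P := by omega
  have h2 : 4 * (P + 1) - 3 = 4 * P + 1 := by omega
  rw [h1, h2]
  ring

end

end Cfsg.Agent.Helper11.SzSol
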