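import Mathlib
import Cfsg.Agent.Helper11.SzFixA
import Cfsg.Agent.Helper11.SzSolI
import Cfsg.Agent.Helper2.SzSimple

/-! Transitive actions of fixity two of the Suzuki groups. -/

set_option autoImplicit false
set_option linter.unusedSectionVars false
set_option linter.unusedVariables false

namespace Cfsg.Agent.Helper11.SzFix

open Matrix Cfsg.Agent.Helper2.SzO Cfsg.Agent.Helper11.SzAut Cfsg.Agent.Helper11.SzCN
  Cfsg.Agent.Helper11.SCTI Cfsg.Agent.Helper11.SzTor Cfsg.Agent.Helper11.SzPart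
  Cfsg.Agent.Helper11.SzTI Cfsg.Agent.Helper11.SzMax Cfsg.Agent.Helper11.SzSg
  Cfsg.Agent.Helper11.SzSol

variable {F : Type*} [Field F] [Fintype F] {m : ℕ}

section

variable (hF : Fintype.card F = 2 ^ (2 * m + 1)) (hm : 1 ≤ m)

include hF hm

omit hm in
theorem pow_sg_succ_surjective : Function.Surjective (fun a : F => a ^ (sg m + 1)) := by
  apply Finite.injective_iff_surjective.mp
  intro a a' h
  have h' : a ^ (sg m + 1) = a' ^ (sg m + 1) := h
  by_cases ha' : a' = 0
  · subst ha'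
    rw [zero_pow (Nat.succ_ne_zero _)] at h'
    exact (pow_eq_zero_iff (Nat.succ_ne_zero _)).mp h'
  · have ha : a ≠ 0 := by
      rintro rfl
      rw [zero_pow (Nat.succ_ne_zero _)] at h'
      exact ha' ((pow_eq_zero_iff (Nat.succ_ne_zero _)).mp h'.symm)
    have hk : (Units.mk0 (a / a') (div_ne_zero ha ha')) ^ (sg m + 1) = 1 := by
      apply Units.ext
      rw [Units.val_pow_eq_pow_val, Units.val_mk0, Units.val_one, div_pow, h',
        div_self (pow_ne_zero _ ha')]
    have := eq_one_of_pow_sg_succ hF hk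
    have h1 : a / a' = 1 := by
      have := congrArg Units.val this
      rwa [Units.val_mk0, Units.val_one] at this
    exact (div_eq_one_iff_eq ha').mp h1

variable {Ω : Type*} [Fintype Ω] [MulAction (Cfsg.Sz F m) Ω]

omit hm in
theorem stabilizer_ne_top [FaithfulSMul (Cfsg.Sz F m) Ω]
    [MulAction.IsPretransitive (Cfsg.Sz F m) Ω] (β : Ω) :
    MulAction.stabilizer (Cfsg.Sz F m) β ≠ ⊤ := by
  intro htop
  have hmem : ∀ s : Cfsg.Sz F m, s • β = β := by
    intro s
    have : s ∈ MulAction.stabilizer (Cfsg.Sz F m) β := by rw [htop]; exact Subgroup.mem_top _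
    exact this
  have hall : ∀ (s : Cfsg.Sz F m) (x : Ω), s • x = x := by
    intro s x
    obtain ⟨g, rfl⟩ := MulAction.exists_smul_eq (Cfsg.Sz F m) β x
    rw [← mul_smul, hmem, hmem]
  have : Wz (m := m) hF = 1 :=
    FaithfulSMul.eq_of_smul_eq_smul (α := Ω) (fun x => by rw [hall, hall])
  exact Wz_ne_one hF this

/-- a point stabiliser of even order is a Borel subgroup -/
theorem even_case
    (hfix : ∀ s : Cfsg.Sz F m, s ≠ 1 → Nat.card (MulAction.fixedBy Ω s) ≤ 2) (β : Ω)
    (hne : MulAction.stabilizer (Cfsg.Sz F m) β ≠ ⊤)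
    (ht : Tz hF 0 1 ∈ MulAction.stabilizer (Cfsg.Sz F m) β) :
    MulAction.stabilizer (Cfsg.Sz F m) β =
      MulAction.stabilizer (Cfsg.Sz F m) (infO : Cfsg.suzukiOvoid F m) := by
  have h2 := two_eq_zero hF
  set H := MulAction.stabilizer (Cfsg.Sz F m) β with hH
  have ht1 : Tz (m := m) hF 0 1 ≠ 1 := Tz_central_ne_one hF one_ne_zero
  -- (1) the index in `Q`
  have h1 : H.relIndex (Qz hF) ≤ 2 := by
    apply relIndex_le_of_fixedBy β _ (hfix _ ht1)
    rintro g ⟨a, b, rfl⟩
    have e : (Tz hF a b)⁻¹ * Tz hF 0 1 * Tz hF a b = Tz hF 0 1 := by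
      rw [Tz_inv, Tz_mul, Tz_mul]
      congr 1
      · linear_combination a * h2
      · simp only [add_zero, mul_zero]
        linear_combination (b + a ^ sg m * a) * h2
    rw [e]
    exact ht
  -- (2) the centre of `Q`
  have hZ : ∀ c : F, Tz hF 0 c ∈ H := by
    intro c
    obtain ⟨a, rfl⟩ := pow_sg_succ_surjective hF c
    have := sq_mem_of_relIndex_le_two H (Qz hF) h1 (Tz_mem_Qz hF a 0)
    have e : Tz hF a 0 * Tz hF a 0 = Tz hF 0 (a ^ (sg m + 1)) := by
      rw [Tz_mul]
      congr 1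
      · linear_combination a * h2
      · rw [pow_succ]; ring
    rw [e] at this
    exact this
  -- (3) the index in the Borel subgroup
  have h3 : H.relIndex (MulAction.stabilizer (Cfsg.Sz F m) (infO : Cfsg.suzukiOvoid F m)) ≤ 2 := by
    apply relIndex_le_of_fixedBy β _ (hfix _ ht1)
    intro g hg
    have hg' : g⁻¹ • (infO : Cfsg.suzukiOvoid F m) = infO := by
      rw [inv_smul_eq_iff]
      exact (MulAction.mem_stabilizer_iff.mp hg).symm
    obtain ⟨a, b, k, hk⟩ := fix_inf_decomp hF hm g⁻¹ hg'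
    have e : g⁻¹ * Tz hF 0 1 * g =
        (Tz hF a b * Dz hF k) * Tz hF 0 1 * (Tz hF a b * Dz hF k)⁻¹ := by
      rw [← hk, inv_inv]
    rw [e, conj_central]
    exact hZ _
  -- (4) the Borel subgroup lies in `H`
  have hD : ∀ k : Fˣ, Dz hF k ∈ H := fun k =>
    mem_of_odd_of_relIndex_le_two H _ h3
      (MulAction.mem_stabilizer_iff.mpr (Dz_smul_infO hF k))
      (Odd.of_dvd_nat odd_q_sub_one (orderOf_Dz_dvd hF k))
  have hT : ∀ a b : F, Tz hF a b ∈ H := by
    obtain ⟨k, hk⟩ := exists_units_ne_one hF hm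
    have hk' : (1 : F) + k ≠ 0 := by
      intro h0
      apply hk
      apply Units.ext
      rw [Units.val_one]
      linear_combination h0 - h2
    intro a' b
    obtain ⟨a, ha⟩ : ∃ a : F, a + k * a = a' := ⟨a' / (1 + k), by field_simp⟩
    have hx : Tz hF a 0 * Dz hF k ∈
        MulAction.stabilizer (Cfsg.Sz F m) (infO : Cfsg.suzukiOvoid F m) := by
      rw [MulAction.mem_stabilizer_iff, mul_smul, Dz_smul_infO, Tz_smul_infO]
    have hsq := sq_mem_of_relIndex_le_two H _ h3 hx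
    have e : (Tz hF a 0 * Dz hF k) * (Tz hF a 0 * Dz hF k) =
        Tz hF (a + k * a) (a ^ sg m * (k * a)) * Dz hF (k * k) := by
      have e0 : (Tz hF a 0 * Dz hF k) * (Tz hF a 0 * Dz hF k) =
          Tz hF a 0 * (Dz hF k * Tz hF a 0 * (Dz hF k)⁻¹) * (Dz hF k * Dz hF k) := by group
      rw [e0, Dz_mul_Tz, Tz_mul, Dz_mul', mul_zero, add_zero, zero_add]
    rw [e] at hsq
    have h5 : Tz hF (a + k * a) (a ^ sg m * (k * a)) ∈ H := by
      have := H.mul_mem hsq (H.inv_mem (hD (k * k)))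
      rwa [mul_inv_cancel_right] at this
    rw [ha] at h5
    have h6 := H.mul_mem h5 (hZ (b - a ^ sg m * (k * a)))
    have e2 : Tz hF a' (a ^ sg m * (k * a)) * Tz hF 0 (b - a ^ sg m * (k * a)) = Tz hF a' b := by
      rw [Tz_mul]
      congr 1 <;> ring
    rw [e2] at h6
    exact h6
  have hle : MulAction.stabilizer (Cfsg.Sz F m) (infO : Cfsg.suzukiOvoid F m) ≤ H := by
    intro g hg
    obtain ⟨a, b, k, rfl⟩ := fix_inf_decomp hF hm g (MulAction.mem_stabilizer_iff.mp hg)
    exact H.mul_mem (hT a b) (hD k)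
  -- (5) maximality of the Borel subgroup
  have h2t := two_pretransitive (m := m) hF
  have hprim : MulAction.IsPreprimitive (Cfsg.Sz F m) (Cfsg.suzukiOvoid F m) :=
    MulAction.isPreprimitive_of_is_two_pretransitive h2t
  have hnt : Nontrivial (Cfsg.suzukiOvoid F m) := ⟨⟨infO, ptO 0 0, infO_ne_ptO 0 0⟩⟩
  have hco : IsCoatom (MulAction.stabilizer (Cfsg.Sz F m) (infO : Cfsg.suzukiOvoid F m)) :=
    MulAction.IsPreprimitive.isCoatom_stabilizer_of_isPreprimitive (Cfsg.Sz F m) _
  rcases hco.le_iff.mp hle with h | h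
  · exact absurd h hne
  · exact h

/-- a point stabiliser of odd order is a split torus -/
theorem odd_case'
    (hfix : ∀ s : Cfsg.Sz F m, s ≠ 1 → Nat.card (MulAction.fixedBy Ω s) ≤ 2) (β : Ω)
    (hodd : ∀ x ∈ MulAction.stabilizer (Cfsg.Sz F m) β, Odd (orderOf x))
    (hbot : MulAction.stabilizer (Cfsg.Sz F m) β ≠ ⊥) :
    ∃ g : Cfsg.Sz F m, MulAction.stabilizer (Cfsg.Sz F m) β = cj g (Dsub hF) := by
  set H := MulAction.stabilizer (Cfsg.Sz F m) β with hH
  obtain ⟨U, hU, hle⟩ := odd_case hF hm H hodd hbot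
  obtain ⟨⟨h, hhH⟩, hh1'⟩ := (Subgroup.ne_bot_iff_exists_ne_one (H := H)).mp hbot
  have hh1 : h ≠ 1 := fun e => hh1' (Subtype.ext e)
  have hhU : h ∈ U := hle hhH
  have hC : Subgroup.centralizer ({h} : Set (Cfsg.Sz F m)) = U := hU.1 h hhU hh1
  have h1 : H.relIndex U ≤ 2 := by
    apply relIndex_le_of_fixedBy β h (hfix h hh1)
    intro g hg
    have hgc : g ∈ Subgroup.centralizer ({h} : Set (Cfsg.Sz F m)) := by rw [hC]; exact hg
    rw [mem_centralizer_singleton] at hgc
    have e : g⁻¹ * h * g = h := by rw [mul_assoc, hgc, ← mul_assoc, inv_mul_cancel, one_mul]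
    rw [e]
    exact hhH
  have hUH : U ≤ H := fun x hx =>
    mem_of_odd_of_relIndex_le_two H U h1 hx (hU.odd_orderOf hx)
  have hHU : H = U := le_antisymm hle hUH
  have h2 : H.relIndex (Subgroup.normalizer (U : Set (Cfsg.Sz F m))) ≤ 2 := by
    apply relIndex_le_of_fixedBy β h (hfix h hh1)
    intro g hg
    apply hUH
    have := (Subgroup.mem_normalizer_iff.mp (Subgroup.inv_mem _ hg) h).mp hhU
    rwa [inv_inv] at this
  rcases isCT_cases hF hm hU with ⟨g, hg⟩ | hT
  · exact ⟨g, hHU.trans hg⟩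
  · exfalso
    have hN := hT.card_normalizer hF hm
    have := relIndex_mul_card_of_le (H := U)
      (L := Subgroup.normalizer (U : Set (Cfsg.Sz F m))) Subgroup.le_normalizer
    rw [hN] at this
    rw [hHU] at h2
    have hpos : 0 < Nat.card U := Nat.card_pos
    nlinarith

/-- the Borel case: the action is that on the ovoid -/
theorem borel_concl [MulAction.IsPretransitive (Cfsg.Sz F m) Ω] (β : Ω)
    (hH : MulAction.stabilizer (Cfsg.Sz F m) β =
      MulAction.stabilizer (Cfsg.Sz F m) (infO : Cfsg.suzukiOvoid F m)) :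
    Fintype.card Ω = (2 ^ (2 * m + 1)) ^ 2 + 1 ∧
      MulAction.IsMultiplyPretransitive (Cfsg.Sz F m) Ω 2 := by
  have h2t := two_pretransitive (m := m) hF
  have htr' : MulAction.IsPretransitive (Cfsg.Sz F m) (Cfsg.suzukiOvoid F m) :=
    MulAction.isPretransitive_of_is_two_pretransitive
  constructor
  · have e1 := MulAction.index_stabilizer_of_transitive (Cfsg.Sz F m) β
    have e2 := MulAction.index_stabilizer_of_transitive (Cfsg.Sz F m)
      (infO : Cfsg.suzukiOvoid F m)
    rw [← Nat.card_eq_fintype_card, ← e1, hH, e2, card_ovoid' hF hm]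
  · rw [MulAction.is_two_pretransitive_iff]
    intro a b c d hab hcd
    obtain ⟨x, rfl⟩ := MulAction.exists_smul_eq (Cfsg.Sz F m) β a
    obtain ⟨y, rfl⟩ := MulAction.exists_smul_eq (Cfsg.Sz F m) β c
    obtain ⟨z, hz⟩ := MulAction.exists_smul_eq (Cfsg.Sz F m) β (x⁻¹ • b)
    obtain ⟨w, hw⟩ := MulAction.exists_smul_eq (Cfsg.Sz F m) β (y⁻¹ • d)
    have hb : b = x • z • β := by rw [hz, smul_inv_smul]
    have hd : d = y • w • β := by rw [hw, smul_inv_smul]
    have hz' : z • β ≠ β := by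
      intro h
      apply hab
      rw [hb, h]
    have hw' : w • β ≠ β := by
      intro h
      apply hcd
      rw [hd, h]
    have hmemH : ∀ u : Cfsg.Sz F m, u • (infO : Cfsg.suzukiOvoid F m) = infO → u • β = β := by
      intro u hu
      have : u ∈ MulAction.stabilizer (Cfsg.Sz F m) (infO : Cfsg.suzukiOvoid F m) := hu
      rw [← hH] at this
      exact this
    have hzi : z • (infO : Cfsg.suzukiOvoid F m) ≠ infO := fun h => hz' (hmemH z h)
    have hwi : w • (infO : Cfsg.suzukiOvoid F m) ≠ infO := fun h => hw' (hmemH w h)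
    rw [MulAction.is_two_pretransitive_iff] at h2t
    obtain ⟨h, h1, h2⟩ := h2t (Ne.symm hzi) (Ne.symm hwi)
    have hh : h • β = β := hmemH h h1
    have hh2 : (w⁻¹ * h * z) • β = β := by
      apply hmemH
      rw [mul_smul, mul_smul, h2, inv_smul_smul]
    refine ⟨y * h * x⁻¹, ?_, ?_⟩
    · rw [mul_smul, mul_smul, inv_smul_smul, hh]
    · rw [hb, hd, mul_smul, mul_smul, inv_smul_smul]
      congr 1
      rw [mul_smul, mul_smul] at hh2
      exact inv_smul_eq_iff.mp hh2

/-- the torus case -/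
theorem torus_concl [MulAction.IsPretransitive (Cfsg.Sz F m) Ω] (β : Ω) (g : Cfsg.Sz F m)
    (hH : MulAction.stabilizer (Cfsg.Sz F m) β = cj g (Dsub hF)) :
    Fintype.card Ω = (2 ^ (2 * m + 1)) ^ 2 * ((2 ^ (2 * m + 1)) ^ 2 + 1) := by
  have e1 := MulAction.index_stabilizer_of_transitive (Cfsg.Sz F m) β
  have e2 := Subgroup.card_mul_index (MulAction.stabilizer (Cfsg.Sz F m) β)
  rw [e1, hH, card_cj, card_Dsub, card_Sz hF hm, Nat.card_eq_fintype_card] at e2
  have hq : 0 < 2 ^ (2 * m + 1) - 1 := by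
    have : 2 ≤ 2 ^ (2 * m + 1) := by
      calc 2 = 2 ^ 1 := by norm_num
        _ ≤ 2 ^ (2 * m + 1) := Nat.pow_le_pow_right (by norm_num) (by omega)
    omega
  apply Nat.eq_of_mul_eq_mul_left hq
  rw [e2]
  ring

/-- the main theorem for `Cfsg.Sz` -/
theorem main_S [FaithfulSMul (Cfsg.Sz F m) Ω] [MulAction.IsPretransitive (Cfsg.Sz F m) Ω]
    (hfix : ∀ s : Cfsg.Sz F m, s ≠ 1 → Nat.card (MulAction.fixedBy Ω s) ≤ 2)
    (hex : ∃ s : Cfsg.Sz F m, s ≠ 1 ∧ Nat.card (MulAction.fixedBy Ω s) = 2) :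
    (Fintype.card Ω = (2 ^ (2 * m + 1)) ^ 2 + 1 ∧
      MulAction.IsMultiplyPretransitive (Cfsg.Sz F m) Ω 2) ∨
    Fintype.card Ω = (2 ^ (2 * m + 1)) ^ 2 * ((2 ^ (2 * m + 1)) ^ 2 + 1) := by
  obtain ⟨s, hs1, hs2⟩ := hex
  have hne : Nonempty (MulAction.fixedBy Ω s) := by
    have : 0 < Nat.card (MulAction.fixedBy Ω s) := by rw [hs2]; norm_num
    exact (Nat.card_pos_iff.mp this).1
  obtain ⟨⟨β, hβ⟩⟩ := hne
  by_cases hev : ∃ t ∈ MulAction.stabilizer (Cfsg.Sz F m) β, orderOf t = 2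
  · obtain ⟨t, htH, ht2⟩ := hev
    obtain ⟨g, hg⟩ := exists_conj_of_order_two hF hm t ht2
    left
    have hmem : Tz hF 0 1 ∈ MulAction.stabilizer (Cfsg.Sz F m) (g • β) := by
      rw [← hg, MulAction.mem_stabilizer_iff, mul_smul, mul_smul, inv_smul_smul,
        MulAction.mem_stabilizer_iff.mp htH]
    exact borel_concl hF hm (g • β)
      (even_case hF hm hfix (g • β) (stabilizer_ne_top hF _) hmem)
  · right
    push Not at hev
    have hodd : ∀ x ∈ MulAction.stabilizer (Cfsg.Sz F m) β, Odd (orderOf x) := by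
      intro x hx
      rcases order_trichotomy hF hm x with h | h | h
      · exact h
      · exact absurd h (hev x hx)
      · exact absurd (orderOf_mul_self_of_four h) (hev (x * x) (Subgroup.mul_mem _ hx hx))
    have hbot : MulAction.stabilizer (Cfsg.Sz F m) β ≠ ⊥ := by
      intro h
      have : s ∈ MulAction.stabilizer (Cfsg.Sz F m) β := hβ
      rw [h, Subgroup.mem_bot] at this
      exact hs1 this
    obtain ⟨g, hg⟩ := odd_case' hF hm hfix β hodd hbot
    exact torus_concl hF hm β g hg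

end

end Cfsg.Agent.Helper11.SzFix
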