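import Mathlib

/-! Generic: semidirect products `A ⋊ S` with `A` of exponent 2 on which the elements of odd prime
order of `S` act without non-zero fixed points have the same "prime graph" as `S`. -/

set_option autoImplicit false
set_option linter.unusedSectionVars false
set_option linter.unusedVariables false

namespace Cfsg.Agent.Helper11.SzGraph

variable {S A : Type*} [Group S] [AddCommGroup A] [DistribMulAction S A]

/-- the action as a homomorphism to `MulAut (Multiplicative A)` -/
def actHom (S A : Type*) [Group S] [AddCommGroup A] [DistribMulAction S A] :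
    S →* MulAut (Multiplicative A) where
  toFun g :=
    { toFun := fun a => Multiplicative.ofAdd (g • Multiplicative.toAdd a)
      invFun := fun a => Multiplicative.ofAdd (g⁻¹ • Multiplicative.toAdd a)
      left_inv := fun a => by simp
      right_inv := fun a => by simp
      map_mul' := fun a b => by
        apply Multiplicative.toAdd.injective
        simp [smul_add] }
  map_one' := by
    ext a
    simp
  map_mul' g h := by
    ext a
    simp [mul_smul]

theorem actHom_apply (g : S) (a : Multiplicative A) :
    actHom S A g a = Multiplicative.ofAdd (g • Multiplicative.toAdd a) := rfl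

/-- the semidirect product -/
abbrev SD (S A : Type*) [Group S] [AddCommGroup A] [DistribMulAction S A] : Type _ :=
  Multiplicative A ⋊[actHom S A] S

theorem sq_eq_one_of_right (hexp : ∀ a : A, a + a = 0) (z : SD S A) (hz : z.right = 1) :
    z ^ 2 = 1 := by
  rw [pow_two]
  apply SemidirectProduct.ext
  · rw [SemidirectProduct.mul_left, hz, map_one, MulAut.one_apply, SemidirectProduct.one_left]
    apply Multiplicative.toAdd.injective
    rw [toAdd_mul, hexp, toAdd_one]
  · rw [SemidirectProduct.mul_right, hz, mul_one, SemidirectProduct.one_right]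

theorem orderOf_right_of_odd (hexp : ∀ a : A, a + a = 0) (z : SD S A) (hodd : Odd (orderOf z)) :
    orderOf z.right = orderOf z := by
  have h1 : orderOf z.right ∣ orderOf z := by
    have := orderOf_map_dvd (SemidirectProduct.rightHom (φ := actHom S A)) z
    rwa [SemidirectProduct.rightHom_eq_right] at this
  apply Nat.dvd_antisymm h1
  have h2 : (z ^ orderOf z.right).right = 1 := by
    have : (z ^ orderOf z.right).right = z.right ^ orderOf z.right := by
      rw [← SemidirectProduct.rightHom_eq_right, map_pow]
    rw [this, pow_orderOf_eq_one]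
  have h3 := sq_eq_one_of_right hexp _ h2
  rw [← pow_mul] at h3
  have h4 := orderOf_dvd_of_pow_eq_one h3
  have hc : Nat.Coprime (orderOf z) 2 := Nat.Coprime.symm (Nat.coprime_two_left.mpr hodd)
  exact hc.dvd_of_dvd_mul_right h4

theorem exists_orderOf_aux (hexp : ∀ a : A, a + a = 0)
    (hfix : ∀ (g : S) (s : ℕ), s.Prime → s ≠ 2 → orderOf g = s → ∀ v : A, g • v = v → v = 0)
    (s : ℕ) (hs : s.Prime) (hs2 : s ≠ 2) (y : SD S A) (hy : orderOf y = 2 * s) :
    ∃ x : S, orderOf x = 2 * s := by
  have hsodd : Odd s := hs.odd_of_ne_two hs2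
  have hs0 : s ≠ 0 := hs.ne_zero
  have ha : orderOf (y ^ 2) = s := by
    rw [orderOf_pow_of_dvd (by norm_num) (by rw [hy]; exact dvd_mul_right 2 s), hy]
    exact Nat.mul_div_cancel_left s (by norm_num)
  have ht : orderOf (y ^ s) = 2 := by
    rw [orderOf_pow_of_dvd hs0 (by rw [hy]; exact dvd_mul_left s 2), hy]
    exact Nat.mul_div_cancel 2 hs.pos
  have ha' : orderOf (y ^ 2).right = s := by
    rw [orderOf_right_of_odd hexp _ (by rw [ha]; exact hsodd), ha]
  have hcomm : Commute (y ^ s) (y ^ 2) := (Commute.refl y).pow_pow s 2
  by_cases h1 : (y ^ s).right = 1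
  · exfalso
    have hcm : (y ^ 2) * (y ^ s) = (y ^ s) * (y ^ 2) := hcomm.eq.symm
    have hl := congrArg SemidirectProduct.left hcm
    rw [SemidirectProduct.mul_left, SemidirectProduct.mul_left, h1, map_one, MulAut.one_apply,
      mul_comm (y ^ s).left, mul_right_inj] at hl
    have hv : (y ^ 2).right • Multiplicative.toAdd (y ^ s).left = Multiplicative.toAdd (y ^ s).left := by
      have := congrArg Multiplicative.toAdd hl
      rwa [actHom_apply] at this
    have h0 := hfix _ s hs hs2 ha' _ hv
    have : y ^ s = 1 := by
      apply SemidirectProduct.ext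
      · rw [SemidirectProduct.one_left]
        apply Multiplicative.toAdd.injective
        rw [h0, toAdd_one]
      · rw [h1, SemidirectProduct.one_right]
    rw [this, orderOf_one] at ht
    omega
  · have : Fact (Nat.Prime 2) := ⟨Nat.prime_two⟩
    have hsq : (y ^ s).right ^ 2 = 1 := by
      have : (y ^ s).right ^ 2 = ((y ^ s) ^ 2).right := by
        rw [← SemidirectProduct.rightHom_eq_right, map_pow, map_pow, map_pow]
      rw [this, ← ht, pow_orderOf_eq_one, SemidirectProduct.one_right]
    have ht' : orderOf (y ^ s).right = 2 := orderOf_eq_prime hsq h1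
    have hcomm' : Commute (y ^ s).right (y ^ 2).right := by
      have := congrArg SemidirectProduct.right hcomm.eq
      rwa [SemidirectProduct.mul_right, SemidirectProduct.mul_right] at this
    refine ⟨(y ^ s).right * (y ^ 2).right, ?_⟩
    rw [hcomm'.orderOf_mul_eq_mul_orderOf_of_coprime (by
      rw [ht', ha']; exact Nat.coprime_two_left.mpr hsodd), ht', ha']

/-- the key generic statement -/
theorem exists_orderOf (hexp : ∀ a : A, a + a = 0)
    (hfix : ∀ (g : S) (s : ℕ), s.Prime → s ≠ 2 → orderOf g = s → ∀ v : A, g • v = v → v = 0)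
    (r s : ℕ) (hr : r.Prime) (hs : s.Prime) (hrs : r ≠ s) :
    (∃ x : S, orderOf x = r * s) ↔ (∃ y : SD S A, orderOf y = r * s) := by
  constructor
  · rintro ⟨x, hx⟩
    refine ⟨SemidirectProduct.inr x, ?_⟩
    rw [orderOf_injective _ SemidirectProduct.inr_injective, hx]
  · rintro ⟨y, hy⟩
    by_cases hr2 : r = 2
    · subst hr2
      exact exists_orderOf_aux hexp hfix s hs (Ne.symm hrs) y hy
    · by_cases hs2 : s = 2
      · subst hs2
        rw [mul_comm] at hy ⊢
        exact exists_orderOf_aux hexp hfix r hr hrs y hy
      · refine ⟨y.right, ?_⟩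
        rw [orderOf_right_of_odd hexp y (by
          rw [hy]; exact (hr.odd_of_ne_two hr2).mul (hs.odd_of_ne_two hs2)), hy]

theorem card_SD [Finite S] [Finite A] : Nat.card (SD S A) = Nat.card A * Nat.card S := by
  rw [SemidirectProduct.card]
  rfl

end Cfsg.Agent.Helper11.SzGraph
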