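import Mathlib
import Cfsg.Agent.Helper11.SzPartB
import Cfsg.Agent.Helper11.SzCNC
import Cfsg.Agent.Helper11.SzLie
import Cfsg.Agent.Helper11.SzGraphA

/-! Elements of odd prime order of the Suzuki group fix no non-zero vector of the natural module. -/

set_option autoImplicit false
set_option linter.unusedSectionVars false
set_option linter.unusedVariables false

namespace Cfsg.Agent.Helper11.SzGraph

open Matrix Cfsg.Agent.Helper2.SzO Cfsg.Agent.Helper11.SzAut Cfsg.Agent.Helper11.SzCN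
  Cfsg.Agent.Helper11.SzTor Cfsg.Agent.Helper11.SzPart

variable {F : Type*} [Field F] [Fintype F] {m : ℕ}

theorem smul_vec_sz (g : Cfsg.Sz F m) (v : Fin 4 → F) : g • v = g.1.1 *ᵥ v := rfl

theorem units_eq_one_of_pow_two_pow (hF : Fintype.card F = 2 ^ (2 * m + 1)) {k : Fˣ}
    (h : k ^ (2 ^ m) = 1) : k = 1 := by
  classical
  have h1 : orderOf k ∣ 2 ^ m := orderOf_dvd_of_pow_eq_one h
  have h2 : orderOf k ∣ 2 ^ (2 * m + 1) - 1 := by
    have := orderOf_dvd_card (x := k)
    rwa [Fintype.card_units, hF] at this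
  have h3 : orderOf k ∣ Nat.gcd (2 ^ m) (2 ^ (2 * m + 1) - 1) := Nat.dvd_gcd h1 h2
  have hc : Nat.Coprime (2 ^ m) (2 ^ (2 * m + 1) - 1) := by
    apply Nat.Coprime.pow_left
    rw [Nat.coprime_two_left]
    have : 2 ^ (2 * m + 1) = 2 * 2 ^ (2 * m) := by rw [pow_succ]; ring
    rw [this]
    have : 1 ≤ 2 ^ (2 * m) := Nat.one_le_two_pow
    exact ⟨2 ^ (2 * m) - 1, by omega⟩
  rw [hc.gcd_eq_one, Nat.dvd_one] at h3
  exact orderOf_eq_one_iff.mp h3

theorem units_eq_one_of_pow_two_pow_succ (hF : Fintype.card F = 2 ^ (2 * m + 1)) {k : Fˣ}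
    (h : k ^ (2 ^ m + 1) = 1) : k = 1 := by
  classical
  have h1 : orderOf k ∣ 2 ^ m + 1 := orderOf_dvd_of_pow_eq_one h
  have h2 : orderOf k ∣ 2 ^ (2 * m + 1) - 1 := by
    have := orderOf_dvd_card (x := k)
    rwa [Fintype.card_units, hF] at this
  have e : 2 ^ (2 * m + 1) - 1 = 2 * (2 ^ m - 1) * (2 ^ m + 1) + 1 := by
    have h0 : 1 ≤ 2 ^ m := Nat.one_le_two_pow
    have : 2 ^ (2 * m + 1) = 2 * (2 ^ m * 2 ^ m) := by rw [pow_succ, two_mul, pow_add]; ring
    rw [this]
    obtain ⟨c, hc⟩ : ∃ c, 2 ^ m = c + 1 := ⟨2 ^ m - 1, by omega⟩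
    rw [hc]
    simp only [Nat.add_sub_cancel]
    have : 2 * ((c + 1) * (c + 1)) = 2 * c * (c + 1 + 1) + 1 + 1 := by ring
    rw [this]
    rfl
  rw [e] at h2
  have h3 : orderOf k ∣ 1 := by
    have := (Nat.dvd_add_right (Dvd.dvd.mul_left h1 (2 * (2 ^ m - 1)))).mp h2
    exact this
  rw [Nat.dvd_one] at h3
  exact orderOf_eq_one_iff.mp h3

theorem dvec_ne_one (hF : Fintype.card F = 2 ^ (2 * m + 1)) {k : Fˣ} (hk : k ≠ 1) (i : Fin 4) :
    dvec m k i ≠ 1 := by
  intro h
  apply hk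
  fin_cases i
  · have : k ^ (2 ^ m + 1) = 1 := Units.ext (by simpa [dvec] using h)
    exact units_eq_one_of_pow_two_pow_succ hF this
  · have : k ^ (2 ^ m) = 1 := Units.ext (by simpa [dvec] using h)
    exact units_eq_one_of_pow_two_pow hF this
  · have : k⁻¹ ^ (2 ^ m) = 1 := Units.ext (by simpa [dvec] using h)
    exact inv_eq_one.mp (units_eq_one_of_pow_two_pow hF this)
  · have : k⁻¹ ^ (2 ^ m + 1) = 1 := Units.ext (by simpa [dvec] using h)
    exact inv_eq_one.mp (units_eq_one_of_pow_two_pow_succ hF this)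

theorem Dz_no_fix (hF : Fintype.card F = 2 ^ (2 * m + 1)) {k : Fˣ} (hk : k ≠ 1) (v : Fin 4 → F)
    (hv : Dz (m := m) hF k • v = v) : v = 0 := by
  rw [smul_vec_sz] at hv
  change Matrix.diagonal (dvec m k) *ᵥ v = v at hv
  funext i
  have h1 := congrFun hv i
  rw [Matrix.mulVec_diagonal] at h1
  have h2 : (dvec m k i - 1) * v i = 0 := by linear_combination h1
  rcases mul_eq_zero.mp h2 with h3 | h3
  · exact absurd (sub_eq_zero.mp h3) (dvec_ne_one hF hk i)
  · exact h3

theorem no_fixed_vector (hF : Fintype.card F = 2 ^ (2 * m + 1)) (hm : 1 ≤ m) (g : Cfsg.Sz F m)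
    (s : ℕ) (hs : s.Prime) (hs2 : s ≠ 2) (hg : orderOf g = s) (v : Fin 4 → F) (hv : g • v = v) :
    v = 0 := by
  have : Fact s.Prime := ⟨hs⟩
  have hg1 : g ≠ 1 := by
    rintro rfl
    rw [orderOf_one] at hg
    exact hs.ne_one hg.symm
  have hgs : g ^ s = 1 := by rw [← hg]; exact pow_orderOf_eq_one g
  rcases classify hF hm g hg1 with h | ⟨c, a, b, hab, h⟩ | ⟨c, k, hk, h⟩
  · -- fixed-point-free on the ovoid
    have hdvd : s ∣ (2 ^ (2 * m + 1)) ^ 2 + 1 := by
      by_contra hnd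
      obtain ⟨ω, hω⟩ := exists_fix_of_prime hF g s 1 (by rwa [pow_one]) hnd
      exact h ω hω
    have hq2 : 2 ≤ 2 ^ (2 * m + 1) := by
      calc 2 = 2 ^ 1 := by norm_num
        _ ≤ 2 ^ (2 * m + 1) := Nat.pow_le_pow_right (by norm_num) (by omega)
    have hq : ¬ s ∣ Nat.card F := by
      rw [Nat.card_eq_fintype_card, hF]
      intro h'
      exact hs2 ((Nat.prime_dvd_prime_iff_eq hs Nat.prime_two).mp (hs.dvd_of_dvd_pow h'))
    have hd : ∀ d, 0 < d → d < Module.finrank F (Fin 4 → F) → ¬ s ∣ Nat.card F ^ d - 1 := by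
      rw [Module.finrank_fin_fun, Nat.card_eq_fintype_card, hF]
      exact not_dvd_of_dvd hs hs2 hq2 hdvd
    let e := Matrix.toLinAlgEquiv' (R := F) (n := Fin 4)
    have hM : (g.1.1 : Matrix (Fin 4) (Fin 4) F) ^ s = 1 := by
      have := congrArg (fun z : Cfsg.Sz F m => (z.1.1 : Matrix (Fin 4) (Fin 4) F)) hgs
      simpa using this
    have hM1 : (g.1.1 : Matrix (Fin 4) (Fin 4) F) ≠ 1 := by
      intro h'
      apply hg1
      apply Subtype.ext
      apply Subtype.ext
      exact h'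
    have h1 : (e g.1.1) ^ s = 1 := by rw [← map_pow, hM, map_one]
    have h2 : e g.1.1 ≠ 1 := by
      intro h'
      apply hM1
      apply e.injective
      rw [h', map_one]
    have hker := Cfsg.Agent.Helper11.IrrComm.ker_sub_one_eq_bot s (e g.1.1) h1 h2 hq hd
    have hmem : v ∈ LinearMap.ker (e g.1.1 - 1) := by
      rw [LinearMap.mem_ker, LinearMap.sub_apply, Module.End.one_apply, sub_eq_zero]
      exact hv
    rw [hker] at hmem
    exact (Submodule.mem_bot F).mp hmem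
  · -- conjugate into Q: order a power of 2
    exfalso
    have ho : orderOf (c * g * c⁻¹) = s := by
      rw [← hg]
      exact MulEquiv.orderOf_eq (MulAut.conj c) g
    rw [h] at ho
    have hd : orderOf (Tz hF a b) ∣ Nat.card (Qz (m := m) hF) := by
      have := orderOf_dvd_natCard (⟨Tz hF a b, Tz_mem_Qz hF a b⟩ : Qz (m := m) hF)
      rwa [Subgroup.orderOf_mk] at this
    rw [ho, card_Qz, ← pow_mul] at hd
    exact hs2 ((Nat.prime_dvd_prime_iff_eq hs Nat.prime_two).mp (hs.dvd_of_dvd_pow hd))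
  · -- conjugate into the torus
    have hv' : Dz hF k • (c • v) = c • v := by
      rw [← h, mul_smul, mul_smul, inv_smul_smul, hv]
    have h0 := Dz_no_fix hF hk _ hv'
    have := congrArg (fun w => c⁻¹ • w) h0
    simpa using this

end Cfsg.Agent.Helper11.SzGraph
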