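import Mathlib
import Cfsg.Agent.Helper11.SzMultA
import Cfsg.Agent.Helper11.SzSgB

/-! Central extensions of the Suzuki groups: the preimage of the centre of the Sylow 2-subgroup
`Q` is abelian and central in the preimage of `Q` (for `q > 8`). -/

set_option autoImplicit false
set_option linter.unusedSectionVars false
set_option linter.unusedVariables false

namespace Cfsg.Agent.Helper11.SzMult

open scoped commutatorElement
open Cfsg.Agent.Helper2.SzO

variable {F : Type*} [Field F] [Fintype F] {m : ℕ}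
variable (hF : Fintype.card F = 2 ^ (2 * m + 1)) (hm : 2 ≤ m)
variable {Γ : Type*} [Group Γ] (σ : Γ →* Cfsg.Sz F m) (hK : σ.ker ≤ Subgroup.center Γ)
variable (s : Cfsg.Sz F m → Γ) (hs : ∀ g, σ (s g) = g)

theorem card_big (hF : Fintype.card F = 2 ^ (2 * m + 1)) (hm : 2 ≤ m) :
    2 * (sg m + 1) + 2 < Fintype.card F := by
  rw [hF, sg_eq]
  have h1 : 2 ^ (2 * m + 1) = 2 * 2 ^ m * 2 ^ m := by
    rw [show 2 * m + 1 = (m + m) + 1 by ring, pow_succ, pow_add]; ring
  have h2 : 4 ≤ 2 ^ m := by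
    calc 4 = 2 ^ 2 := by norm_num
      _ ≤ 2 ^ m := Nat.pow_le_pow_right (by norm_num) hm
  rw [h1]
  nlinarith

/-- a field element with `(1+u)⁻¹ ≠ 1 + u⁻¹` -/
theorem exists_good_id (hF : Fintype.card F = 2 ^ (2 * m + 1)) (hm : 2 ≤ m) :
    ∃ u : F, u ≠ 0 ∧ 1 + u ≠ 0 ∧ (id (1 + u))⁻¹ ≠ 1 + (id u)⁻¹ := by
  obtain ⟨u, hu0, hu1, hu⟩ := exists_nonroot (Polynomial.X ^ 2 + Polynomial.X + 1 : Polynomial F)
    (by
      intro h
      have := congrArg (Polynomial.eval 0) h
      simp at this)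
    (by
      have h1 : (Polynomial.X ^ 2 + Polynomial.X + 1 : Polynomial F).natDegree ≤ 2 := by
        compute_degree
      have := card_big hF hm
      omega)
  have hne : (id (1 + u))⁻¹ ≠ 1 + (id u)⁻¹ := by
    intro h
    apply hu
    simp only [id] at h
    have h' : u = (1 + u) * (1 + u) := by
      calc u = (1 + u)⁻¹ * ((1 + u) * u) := (inv_mul_cancel_left₀ hu1 u).symm
        _ = (1 + u⁻¹) * ((1 + u) * u) := by rw [h]
        _ = (1 + u) * (1 + u) := by field_simp; ring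
    simp only [Polynomial.eval_add, Polynomial.eval_pow, Polynomial.eval_X, Polynomial.eval_one]
    linear_combination -h'
  exact ⟨u, hu0, hu1, hne⟩

include hF hm hK hs

/-- preimages of central elements of `Q` commute -/
theorem commute_Z_Z {x y : Γ} {b b' : F} (hx : σ x = Tz hF 0 b) (hy : σ y = Tz hF 0 b') :
    x * y = y * x := by
  set c : F → F → Γ := fun b b' => ⁅s (Tz hF 0 b), s (Tz hF 0 b')⁆ with hc
  have hcen : ∀ b b', c b b' ∈ Subgroup.center Γ := by
    intro b b'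
    apply commute_of_map_commute σ hK
    rw [hs, hs, Tz_mul, Tz_mul]
    congr 1; ring
  have hcomm : ∀ b b' (g : Γ), Commute g (c b b') := fun b b' g =>
    (Subgroup.mem_center_iff.mp (hcen b b') g)
  have hl : ∀ x x' y, c (x + x') y = c x y * c x' y := by
    intro b₁ b₂ b'
    have e : c (b₁ + b₂) b' = ⁅s (Tz hF 0 b₂) * s (Tz hF 0 b₁), s (Tz hF 0 b')⁆ := by
      apply comm_congr σ hK _ rfl
      rw [map_mul, hs, hs, hs, Tz_mul]
      congr 1
      · ring
      · simp [sg_ne_zero]; ring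
    rw [e, comm_mul_left _ _ _ (hcomm _ _ _)]
  have hr : ∀ x y y', c x (y + y') = c x y * c x y' := by
    intro b b₁ b₂
    have e : c b (b₁ + b₂) = ⁅s (Tz hF 0 b), s (Tz hF 0 b₁) * s (Tz hF 0 b₂)⁆ := by
      apply comm_congr σ hK rfl
      rw [map_mul, hs, hs, hs, Tz_mul]
      congr 1
      · ring
      · simp [sg_ne_zero]
    rw [e, comm_mul_right _ _ _ (hcomm _ _ _)]
  have hinv : ∀ α x y, α ≠ 0 → c (α * x) (id α * y) = c x y := by
    intro α x y hα
    obtain ⟨k, hk⟩ := exists_pow_sg_succ hF (Units.mk0 α hα)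
    have hk' : (k : F) ^ (sg m + 1) = α := by
      have := congrArg Units.val hk
      simpa using this
    have e : c (α * x) (id α * y) =
        ⁅s (Dz hF k) * s (Tz hF 0 x) * (s (Dz hF k))⁻¹,
          s (Dz hF k) * s (Tz hF 0 y) * (s (Dz hF k))⁻¹⁆ := by
      apply comm_congr σ hK
      · rw [map_mul, map_mul, map_inv, hs, hs, hs, Dz_mul_Tz, hk', mul_zero]
      · rw [map_mul, map_mul, map_inv, hs, hs, hs, Dz_mul_Tz, hk', mul_zero]; rfl
    rw [e, ← conjugate_commutatorElement]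
    have := (hcomm x y (s (Dz hF k))).eq
    change s (Dz hF k) * c x y * (s (Dz hF k))⁻¹ = c x y
    rw [this, mul_inv_cancel_right]
  obtain ⟨u, hu0, hu1, hne⟩ := exists_good_id hF hm
  have key := bilin_vanish c id hl hr hinv u hu0 hu1 hu0 hu1 hne b b'
  have e : ⁅x, y⁆ = c b b' := by
    apply comm_congr σ hK
    · rw [hx, hs]
    · rw [hy, hs]
  rw [key] at e
  exact (commutatorElement_eq_one_iff_commute.mp e).eq

/-- preimages of central elements of `Q` commute with preimages of elements of `Q` -/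
theorem commute_Q_Z {x y : Γ} {a b b' : F} (hx : σ x = Tz hF a b) (hy : σ y = Tz hF 0 b') :
    x * y = y * x := by
  have h2 := two_eq_zero hF
  set e₀ := sg m + 1 with he₀
  set c : F → F → Γ := fun a b' => ⁅s (Tz hF a 0), s (Tz hF 0 b')⁆ with hc
  have hcen : ∀ a b', c a b' ∈ Subgroup.center Γ := by
    intro a b'
    apply commute_of_map_commute σ hK
    rw [hs, hs, Tz_mul, Tz_mul]
    congr 1
    · ring
    · simp [sg_ne_zero]
  have hcomm : ∀ a b' (g : Γ), Commute g (c a b') := fun a b' g =>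
    (Subgroup.mem_center_iff.mp (hcen a b') g)
  have hl : ∀ x x' y, c (x + x') y = c x y * c x' y := by
    intro a₁ a₂ b'
    have e : c (a₁ + a₂) b' =
        ⁅s (Tz hF a₂ 0) * s (Tz hF a₁ 0) * s (Tz hF 0 (a₂ ^ sg m * a₁)), s (Tz hF 0 b')⁆ := by
      apply comm_congr σ hK _ rfl
      rw [map_mul, map_mul, hs, hs, hs, hs, Tz_mul, Tz_mul]
      congr 1
      · ring
      · simp only [mul_zero, add_zero, zero_add]
        linear_combination (-(a₂ ^ sg m * a₁)) * h2
    rw [e, comm_mul_left_of_commute _ _ _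
      (commute_Z_Z hF hm σ hK s hs (hs _) (hs _) : _ = _),
      comm_mul_left _ _ _ (hcomm _ _ _)]
  have hr : ∀ x y y', c x (y + y') = c x y * c x y' := by
    intro a b₁ b₂
    have e : c a (b₁ + b₂) = ⁅s (Tz hF a 0), s (Tz hF 0 b₁) * s (Tz hF 0 b₂)⁆ := by
      apply comm_congr σ hK rfl
      rw [map_mul, hs, hs, hs, Tz_mul]
      congr 1
      · ring
      · simp [sg_ne_zero]
    rw [e, comm_mul_right _ _ _ (hcomm _ _ _)]
  have hinv : ∀ α x y, α ≠ 0 → c (α * x) ((fun z => z ^ e₀) α * y) = c x y := by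
    intro α x y hα
    set k : Fˣ := Units.mk0 α hα with hk
    have hk' : (k : F) = α := rfl
    have e : c (α * x) ((fun z => z ^ e₀) α * y) =
        ⁅s (Dz hF k) * s (Tz hF x 0) * (s (Dz hF k))⁻¹,
          s (Dz hF k) * s (Tz hF 0 y) * (s (Dz hF k))⁻¹⁆ := by
      apply comm_congr σ hK
      · rw [map_mul, map_mul, map_inv, hs, hs, hs, Dz_mul_Tz, hk', mul_zero]
      · rw [map_mul, map_mul, map_inv, hs, hs, hs, Dz_mul_Tz, hk', mul_zero]
    rw [e, ← conjugate_commutatorElement]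
    have := (hcomm x y (s (Dz hF k))).eq
    change s (Dz hF k) * c x y * (s (Dz hF k))⁻¹ = c x y
    rw [this, mul_inv_cancel_right]
  set P : Polynomial F := (1 + Polynomial.X) ^ e₀ * Polynomial.X ^ e₀ + (1 + Polynomial.X) ^ e₀
    - Polynomial.X ^ e₀ with hP
  obtain ⟨u, hu0, hu1, hu⟩ := exists_nonroot P
    (by
      intro h
      have := congrArg (Polynomial.eval 0) h
      simp [hP, he₀] at this)
    (by
      have h1 : P.natDegree ≤ 2 * e₀ := by
        rw [hP]
        compute_degree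
        omega
      have := card_big hF hm
      omega)
  have hne : ((fun z => z ^ e₀) (1 + u))⁻¹ ≠ 1 + ((fun z => z ^ e₀) u)⁻¹ := by
    intro h
    apply hu
    simp only at h
    have hA : (1 + u) ^ e₀ ≠ 0 := pow_ne_zero _ hu1
    have hB : u ^ e₀ ≠ 0 := pow_ne_zero _ hu0
    have h' : u ^ e₀ = (1 + u) ^ e₀ * u ^ e₀ + (1 + u) ^ e₀ := by
      calc u ^ e₀ = ((1 + u) ^ e₀)⁻¹ * ((1 + u) ^ e₀ * u ^ e₀) := (inv_mul_cancel_left₀ hA _).symm
        _ = (1 + (u ^ e₀)⁻¹) * ((1 + u) ^ e₀ * u ^ e₀) := by rw [h]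
        _ = (1 + u) ^ e₀ * u ^ e₀ + (1 + u) ^ e₀ := by field_simp
    simp only [hP, Polynomial.eval_add, Polynomial.eval_sub, Polynomial.eval_mul,
      Polynomial.eval_pow, Polynomial.eval_X, Polynomial.eval_one]
    linear_combination -h'
  have key := bilin_vanish c (fun z => z ^ e₀) hl hr hinv u hu0 hu1 (pow_ne_zero _ hu0)
    (pow_ne_zero _ hu1) hne
  have e : ⁅x, y⁆ = ⁅s (Tz hF a 0) * s (Tz hF 0 b), s (Tz hF 0 b')⁆ := by
    apply comm_congr σ hK
    · rw [hx, map_mul, hs, hs, Tz_mul]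
      congr 1
      · ring
      · simp
    · rw [hy, hs]
  rw [comm_mul_left_of_commute _ _ _
      (commute_Z_Z hF hm σ hK s hs (hs _) (hs _) : _ = _)] at e
  change ⁅x, y⁆ = c a b' at e
  rw [key] at e
  exact (commutatorElement_eq_one_iff_commute.mp e).eq

end Cfsg.Agent.Helper11.SzMult
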