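import Mathlib
import Cfsg.Agent.Helper11.SzMultB

/-! Central extensions of the Suzuki groups: the 2-part of the kernel of a stem extension is
trivial (for `q > 8`). -/

set_option autoImplicit false
set_option linter.unusedSectionVars false
set_option linter.unusedVariables false

namespace Cfsg.Agent.Helper11.SzMult

open scoped commutatorElement
open Cfsg.Agent.Helper2.SzO

variable {F : Type*} [Field F] [Fintype F] {m : ℕ}
variable (hF : Fintype.card F = 2 ^ (2 * m + 1)) (hm : 2 ≤ m)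
variable {Γ : Type*} [Group Γ] (σ : Γ →* Cfsg.Sz F m) (hK : σ.ker ≤ Subgroup.center Γ)
variable (s : Cfsg.Sz F m → Γ) (hs : ∀ g, σ (s g) = g)

theorem Tz_comm (hF : Fintype.card F = 2 ^ (2 * m + 1)) (a b a' b' : F) :
    ⁅Tz hF a b, Tz hF a' b'⁆ = Tz hF 0 (a ^ sg m * a' + a' ^ sg m * a) :=
  congrArg Subtype.val (tq_commutator hF a b a' b')

theorem pow_odd_of_sq {G : Type*} [Group G] (a : G) (h : a ^ 2 = 1) {n : ℕ} (hn : Odd n) :
    a ^ n = a := by
  obtain ⟨j, rfl⟩ := hn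
  rw [pow_succ, pow_mul, h, one_pow, one_mul]

include hF hm hK hs

theorem two_part [Finite Γ] (a : Γ) (ha : a ∈ σ.ker)
    (hac : a ∈ commutator Γ) (h2a : a ^ 2 = 1) : a = 1 := by
  classical
  have h2 := two_eq_zero hF
  have hm1 : 1 ≤ m := by omega
  have hσ : Function.Surjective σ := fun g => ⟨s g, hs g⟩
  -- the preimage of the centre of `Q`
  let Zt : Subgroup Γ :=
    { carrier := {x | ∃ b : F, σ x = Tz hF 0 b}
      one_mem' := ⟨0, by rw [map_one, Tz_one]⟩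
      mul_mem' := by
        rintro x y ⟨b, hb⟩ ⟨b', hb'⟩
        refine ⟨b + b', ?_⟩
        rw [map_mul, hb, hb', Tz_mul]
        congr 1
        · ring
        · simp [sg_ne_zero]
      inv_mem' := by
        rintro x ⟨b, hb⟩
        refine ⟨b, ?_⟩
        rw [map_inv, hb, Tz_inv]
        congr 1
        simp [sg_ne_zero] }
  have hZt : ∀ x, x ∈ Zt ↔ ∃ b : F, σ x = Tz hF 0 b := fun x => Iff.rfl
  set d : Fˣ → Γ := fun k => s (Dz hF k) with hd'
  have hd : ∀ k, ∀ z ∈ Zt, d k * z * (d k)⁻¹ ∈ Zt := by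
    rintro k z ⟨b, hb⟩
    exact ⟨(k : F) ^ (sg m + 1) * b, by
      rw [map_mul, map_mul, map_inv, hs, hb, Dz_mul_Tz, mul_zero]⟩
  have hZ : ∀ x ∈ Zt, ∀ y ∈ Zt, x * y = y * x := by
    rintro x ⟨b, hb⟩ y ⟨b', hb'⟩
    exact commute_Z_Z hF hm σ hK s hs hb hb'
  obtain ⟨N, hN1, hNmul, hNfix, hNconj⟩ := exists_norm Zt hZ d hd
  have hLZ : ∀ {x z : Γ} {a b : F}, σ x = Tz hF a b → z ∈ Zt → x * z = z * x := by
    rintro x z a b hx ⟨b', hz⟩
    exact commute_Q_Z hF hm σ hK s hs hx hz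
  set κ : F → F → Γ := fun a a' => ⁅s (Tz hF a 0), s (Tz hF a' 0)⁆ with hκ
  have hκZ : ∀ a a', κ a a' ∈ Zt := by
    intro a a'
    refine ⟨a ^ sg m * a' + a' ^ sg m * a, ?_⟩
    change σ ⁅s (Tz hF a 0), s (Tz hF a' 0)⁆ = _
    rw [map_commutatorElement, hs, hs, Tz_comm]
  have hκl : ∀ x x' y, κ (x + x') y = κ x y * κ x' y := by
    intro a₁ a₂ a'
    have e : κ (a₁ + a₂) a' =
        ⁅s (Tz hF a₂ 0) * s (Tz hF a₁ 0) * s (Tz hF 0 (a₂ ^ sg m * a₁)), s (Tz hF a' 0)⁆ := by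
      apply comm_congr σ hK _ rfl
      rw [map_mul, map_mul, hs, hs, hs, hs, Tz_mul, Tz_mul]
      congr 1
      · ring
      · simp only [mul_zero, add_zero, zero_add]
        linear_combination (-(a₂ ^ sg m * a₁)) * h2
    rw [e, comm_mul_left_of_commute _ _ _ (hLZ (hs _) ⟨_, hs _⟩ : _ = _).symm,
      comm_mul_left _ _ _ (hLZ (hs _) (hκZ _ _) : _ = _)]
  have hκr : ∀ x y y', κ x (y + y') = κ x y * κ x y' := by
    intro a a₁ a₂
    have e : κ a (a₁ + a₂) =
        ⁅s (Tz hF a 0), s (Tz hF a₁ 0) * s (Tz hF a₂ 0) * s (Tz hF 0 (a₁ ^ sg m * a₂))⁆ := by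
      apply comm_congr σ hK rfl
      rw [map_mul, map_mul, hs, hs, hs, hs, Tz_mul, Tz_mul]
      congr 1
      · ring
      · simp only [mul_zero, add_zero, zero_add]
        linear_combination (-(a₁ ^ sg m * a₂)) * h2
    rw [e, comm_mul_right_of_commute _ _ _ (hLZ (hs _) ⟨_, hs _⟩ : _ = _),
      comm_mul_right _ _ _ (hLZ (hs _) (hκZ _ _) : _ = _)]
  set c : F → F → Γ := fun a a' => N (κ a a') with hc
  have hl : ∀ x x' y, c x y = c x y ∧ c (x + x') y = c x y * c x' y := by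
    intro x x' y
    refine ⟨rfl, ?_⟩
    simp only [hc]
    rw [hκl, hNmul _ (hκZ _ _) _ (hκZ _ _)]
  have hr : ∀ x y y', c x (y + y') = c x y * c x y' := by
    intro x y y'
    simp only [hc]
    rw [hκr, hNmul _ (hκZ _ _) _ (hκZ _ _)]
  have hinv : ∀ α x y, α ≠ 0 → c (α * x) (id α * y) = c x y := by
    intro α x y hα
    set k : Fˣ := Units.mk0 α hα with hk
    have hk' : (k : F) = α := rfl
    have e : κ (α * x) (id α * y) = d k * κ x y * (d k)⁻¹ := by
      rw [conjugate_commutatorElement]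
      apply comm_congr σ hK
      · rw [map_mul, map_mul, map_inv, hs, hs, hs, Dz_mul_Tz, hk', mul_zero]
      · rw [map_mul, map_mul, map_inv, hs, hs, hs, Dz_mul_Tz, hk', mul_zero]; rfl
    simp only [hc]
    rw [e]
    apply hNconj (Equiv.mulRight k) (d k) (hd k) _ _ (hκZ x y)
    intro i z hz
    rw [Equiv.coe_mulRight]
    have hg : σ (d (i * k)) = σ (d i * d k) := by
      rw [map_mul, hs, hs, hs, Dz_mul]
    rw [conj_congr σ hK hg z]
    group
  obtain ⟨u, hu0, hu1, hne⟩ := exists_good_id (F := F) hF hm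
  have key : ∀ a a', N (κ a a') = 1 :=
    bilin_vanish c id (fun x x' y => (hl x x' y).2) hr hinv u hu0 hu1 hu0 hu1 hne
  have hall : ∀ x y : Γ, σ x ∈ Qz hF → σ y ∈ Qz hF → ⁅x, y⁆ ∈ Zt ∧ N ⁅x, y⁆ = 1 := by
    rintro x y ⟨a, b, hx⟩ ⟨a', b', hy⟩
    have hy' : σ (s (Tz hF a' 0) * s (Tz hF 0 b')) = Tz hF a' b' := by
      rw [map_mul, hs, hs, Tz_mul]
      congr 1
      · ring
      · simp
    have e : ⁅x, y⁆ = ⁅s (Tz hF a 0) * s (Tz hF 0 b), s (Tz hF a' 0) * s (Tz hF 0 b')⁆ := by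
      apply comm_congr σ hK
      · rw [hx, map_mul, hs, hs, Tz_mul]
        congr 1
        · ring
        · simp
      · rw [hy, hy']
    rw [comm_mul_left_of_commute _ _ _ (hLZ hy' ⟨_, hs _⟩ : _ = _).symm,
      comm_mul_right_of_commute _ _ _ (hLZ (hs _) ⟨_, hs _⟩ : _ = _)] at e
    rw [e]
    exact ⟨hκZ a a', key a a'⟩
  set L : Subgroup Γ := (Qz hF).comap σ with hL
  have hcl : ∀ w : ↥L, w ∈ commutator ↥L → (w : Γ) ∈ Zt ∧ N (w : Γ) = 1 := by
    intro w hw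
    rw [commutator_eq_closure] at hw
    induction hw using Subgroup.closure_induction with
    | mem w hw =>
      obtain ⟨x, y, rfl⟩ := hw
      exact hall x y x.2 y.2
    | one => exact ⟨Zt.one_mem, hN1⟩
    | mul w₁ w₂ _ _ h₁ h₂ =>
      refine ⟨Zt.mul_mem h₁.1 h₂.1, ?_⟩
      rw [Subgroup.coe_mul, hNmul _ h₁.1 _ h₂.1, h₁.2, h₂.2, one_mul]
    | inv w _ h =>
      refine ⟨Zt.inv_mem h.1, ?_⟩
      have := hNmul _ h.1 _ (Zt.inv_mem h.1)
      rw [mul_inv_cancel, hN1, h.2, one_mul] at this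
      rw [Subgroup.coe_inv]
      exact this.symm
  have haL : a ∈ L := by
    rw [hL, Subgroup.mem_comap, MonoidHom.mem_ker.mp ha]
    exact (Qz hF).one_mem
  have htr := pow_index_mem_commutator L a (hK ha) hac haL
  have hidx : Odd L.index := by
    rw [hL, Subgroup.index_comap_of_surjective _ hσ]
    have : Fact (Nat.Prime 2) := ⟨Nat.prime_two⟩
    have := Sylow.not_dvd_index (QSylow hF hm1)
    rw [QSylow_coe] at this
    exact Nat.odd_iff.mpr (Nat.two_dvd_ne_zero.mp this)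
  have h3 := (hcl _ htr).2
  rw [Subgroup.coe_pow, pow_odd_of_sq a h2a hidx] at h3
  have haZ : a ∈ Zt := ⟨0, by rw [MonoidHom.mem_ker.mp ha, Tz_one]⟩
  have h4 := hNfix a haZ (fun i => by
    have := Subgroup.mem_center_iff.mp (hK ha) (d i)
    rw [this, mul_inv_cancel_right])
  rw [h3, Fintype.card_units, hF] at h4
  have hodd : Odd (2 ^ (2 * m + 1) - 1) := by
    have : 2 ^ (2 * m + 1) = 2 * 2 ^ (2 * m) := by rw [pow_succ]; ring
    have hpos : 0 < 2 ^ (2 * m) := by positivity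
    exact ⟨2 ^ (2 * m) - 1, by omega⟩
  rw [pow_odd_of_sq a h2a hodd] at h4
  exact h4.symm

end Cfsg.Agent.Helper11.SzMult
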