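import Mathlib
import Cfsg.Agent.Helper11.SzMultC
import Cfsg.Agent.Helper11.SzBridge
import Cfsg.Agent.Helper20.DihedralStem

/-! The Schur multiplier of the Suzuki groups `Sz(q)`, `q > 8`, is trivial. -/

set_option autoImplicit false
set_option linter.unusedSectionVars false
set_option linter.unusedVariables false

namespace Cfsg.Agent.Helper11.SzMult

open scoped commutatorElement
open Cfsg.Agent.Helper2.SzO

variable {F : Type*} [Field F] [Fintype F] {m : ℕ}

/-- Sylow subgroups of `Sz(q)` for odd primes are cyclic -/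
theorem isCyclic_sylow_of_odd (hF : Fintype.card F = 2 ^ (2 * m + 1)) (hm : 1 ≤ m)
    (r : ℕ) [hr : Fact r.Prime] (hr2 : r ≠ 2) (R : Sylow r (Cfsg.Sz F m)) :
    IsCyclic ↥(R : Subgroup (Cfsg.Sz F m)) := by
  by_cases hR : Nontrivial ↥(R : Subgroup (Cfsg.Sz F m))
  · have hp := R.isPGroup'
    have := hR
    have hcn := hp.center_nontrivial
    obtain ⟨u, hu⟩ := exists_ne (1 : ↥(Subgroup.center ↥(R : Subgroup (Cfsg.Sz F m))))
    set x : Cfsg.Sz F m := ((u : ↥(R : Subgroup (Cfsg.Sz F m))) : Cfsg.Sz F m) with hx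
    have hx1 : x ≠ 1 := by
      intro h
      apply hu
      apply Subtype.ext
      apply Subtype.ext
      exact h
    have hodd : Odd (orderOf x) := by
      obtain ⟨k, hk⟩ := (IsPGroup.iff_orderOf.mp hp) (u : ↥(R : Subgroup (Cfsg.Sz F m)))
      rw [hx, Subgroup.orderOf_coe, hk]
      exact (hr.out.odd_of_ne_two hr2).pow
    have hct := Cfsg.Agent.Helper11.SzSg.isCT_centralizer_of_odd hF hm x hx1 hodd
    have : IsCyclic ↥(Subgroup.centralizer ({x} : Set (Cfsg.Sz F m))) := hct.2.1
    have hle : (R : Subgroup (Cfsg.Sz F m)) ≤ Subgroup.centralizer ({x} : Set (Cfsg.Sz F m)) := by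
      intro y hy
      rw [Subgroup.mem_centralizer_iff]
      rintro _ rfl
      have := Subgroup.mem_center_iff.mp u.2 ⟨y, hy⟩
      exact (congrArg Subtype.val this).symm
    exact isCyclic_of_injective (Subgroup.inclusion hle) (Subgroup.inclusion_injective hle)
  · rw [not_nontrivial_iff_subsingleton] at hR
    have := hR
    exact isCyclic_of_subsingleton

variable {Γ : Type*} [Group Γ] (σ : Γ →* Cfsg.Sz F m)

theorem odd_part [Finite Γ] (hF : Fintype.card F = 2 ^ (2 * m + 1)) (hm : 1 ≤ m)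
    (hσ : Function.Surjective σ) (hK : σ.ker ≤ Subgroup.center Γ)
    (r : ℕ) [hr : Fact r.Prime] (hr2 : r ≠ 2) (a : Γ) (ha : a ∈ σ.ker)
    (hac : a ∈ commutator Γ) (har : a ^ r = 1) : a = 1 := by
  classical
  let R : Sylow r (Cfsg.Sz F m) := Classical.arbitrary _
  have := isCyclic_sylow_of_odd hF hm r hr2 R
  set H : Subgroup Γ := (R : Subgroup (Cfsg.Sz F m)).comap σ with hH
  have haH : a ∈ H := by
    rw [hH, Subgroup.mem_comap, MonoidHom.mem_ker.mp ha]
    exact Subgroup.one_mem _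
  have htr := pow_index_mem_commutator H a (hK ha) hac haH
  let f : ↥H →* ↥(R : Subgroup (Cfsg.Sz F m)) :=
    (σ.comp H.subtype).codRestrict (R : Subgroup (Cfsg.Sz F m)) (fun x => x.2)
  have hker : f.ker ≤ Subgroup.center ↥H := by
    intro x hx
    rw [MonoidHom.mem_ker] at hx
    have hx' : σ (x : Γ) = 1 := congrArg Subtype.val hx
    have hc := hK (MonoidHom.mem_ker.mpr hx')
    rw [Subgroup.mem_center_iff] at hc ⊢
    intro g
    exact Subtype.ext (hc g)
  have hcomm := MonoidHom.isMulCommutative_of_isCyclic_of_ker_le_center f hker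
  have hbot : commutator ↥H ≤ ⊥ := by
    rw [commutator_eq_closure, Subgroup.closure_le]
    rintro _ ⟨x, y, rfl⟩
    rw [SetLike.mem_coe, Subgroup.mem_bot, commutatorElement_eq_one_iff_commute]
    exact mul_comm' x y
  have h1 := hbot htr
  rw [Subgroup.mem_bot] at h1
  have h2 : a ^ H.index = 1 := by
    have := congrArg Subtype.val h1
    simpa using this
  by_contra hne
  have ho : orderOf a = r := by
    have hd : orderOf a ∣ r := orderOf_dvd_of_pow_eq_one har
    rcases (Nat.dvd_prime hr.out).mp hd with h | h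
    · exact absurd (orderOf_eq_one_iff.mp h) hne
    · exact h
  have hd : r ∣ H.index := by
    rw [← ho]; exact orderOf_dvd_of_pow_eq_one h2
  rw [hH, Subgroup.index_comap_of_surjective _ hσ] at hd
  exact Sylow.not_dvd_index R hd

theorem ker_eq_bot [Finite Γ] (hF : Fintype.card F = 2 ^ (2 * m + 1)) (hm : 2 ≤ m)
    (hσ : Function.Surjective σ) (hK : σ.ker ≤ Subgroup.center Γ)
    (hC : σ.ker ≤ commutator Γ) : σ.ker = ⊥ := by
  classical
  by_contra hne
  have hm1 : 1 ≤ m := by omega
  have hcard : Nat.card σ.ker ≠ 1 := by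
    intro h
    exact hne ((Subgroup.card_eq_one).mp h)
  set r := (Nat.card σ.ker).minFac with hr
  have hrp : Fact r.Prime := ⟨Nat.minFac_prime hcard⟩
  obtain ⟨x, hx⟩ := exists_prime_orderOf_dvd_card' (G := σ.ker) r (Nat.minFac_dvd _)
  have hxr : (x : Γ) ^ r = 1 := by
    have := pow_orderOf_eq_one x
    rw [hx] at this
    exact_mod_cast congrArg Subtype.val this
  have hx1 : (x : Γ) ≠ 1 := by
    intro h
    have : x = 1 := Subtype.ext h
    rw [this, orderOf_one] at hx
    exact hrp.out.one_lt.ne hx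
  apply hx1
  by_cases h2 : r = 2
  · rw [h2] at hxr
    exact two_part hF hm σ hK (Function.surjInv hσ) (Function.surjInv_eq hσ) x x.2 (hC x.2) hxr
  · exact odd_part σ hF hm1 hσ hK r h2 x x.2 (hC x.2) hxr

/-- the Schur multiplier of `Sz(q)`, `q > 8`, is trivial -/
theorem main (hm : 2 ≤ m) (hF : Fintype.card F = 2 ^ (2 * m + 1)) :
    Cfsg.HasCyclicSchurMultiplier ↥(Cfsg.Lie.Sz F (2 ^ (m + 1))) 1 := by
  have hm1 : 1 ≤ m := by omega
  let e := Cfsg.Agent.Helper11.SzBridge.szEquiv hF hm1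
  have : Finite ↥(Cfsg.Lie.Sz F (2 ^ (m + 1))) := Finite.of_equiv _ e.toEquiv
  apply Cfsg.Agent.Helper20.hasCyclicSchurMultiplier_one_of_forall_ker
  intro Γ _ _ σ' hσ'
  set σ : Γ →* Cfsg.Sz F m := e.symm.toMonoidHom.comp σ' with hσ
  have hker : σ.ker = σ'.ker := by
    ext x
    rw [MonoidHom.mem_ker, MonoidHom.mem_ker, hσ, MonoidHom.comp_apply]
    exact e.symm.map_eq_one_iff
  rw [← hker]
  apply ker_eq_bot σ hF hm
  · exact e.symm.surjective.comp hσ'.1
  · rw [hker]; exact hσ'.2.1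
  · rw [hker]; exact hσ'.2.2

end Cfsg.Agent.Helper11.SzMult
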