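import Mathlib
import Cfsg.Prelude.Def_KGroupFacts
import Cfsg.Agent.Helper11.SzAutH
import Cfsg.Agent.Helper11.SzBridge

/-! `Out(Sz(q))` has order `2m+1`, for the `Lie.Sz` realisation. -/

set_option autoImplicit false

namespace Cfsg.Agent.Helper11.SzOut

/-- the outer automorphism group is invariant under isomorphism -/
theorem card_out_congr {G : Type*} {H : Type*} [Group G] [Group H] (e : G ≃* H) :
    Nat.card (Cfsg.Out G) = Nat.card (Cfsg.Out H) := by
  have hmap : (Cfsg.Inn G).map (MulAut.congr e).toMonoidHom = Cfsg.Inn H := by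
    ext β
    constructor
    · rintro ⟨_, ⟨g, rfl⟩, rfl⟩
      refine ⟨e g, ?_⟩
      ext x
      simp [MulAut.congr, MulAut.conj_apply]
    · rintro ⟨h, rfl⟩
      refine ⟨MulAut.conj (e.symm h), ⟨e.symm h, rfl⟩, ?_⟩
      ext x
      simp [MulAut.congr, MulAut.conj_apply]
  exact Nat.card_congr (QuotientGroup.congr (Cfsg.Inn G) (Cfsg.Inn H) (MulAut.congr e) hmap).toEquiv

theorem card_out_lieSz {F : Type*} [Field F] [Fintype F] {m : ℕ} (hm : 1 ≤ m)
    (hF : Fintype.card F = 2 ^ (2 * m + 1)) :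
    Nat.card (Cfsg.Out ↥(Cfsg.Lie.Sz F (2 ^ (m + 1)))) = 2 * m + 1 := by
  rw [← card_out_congr (Cfsg.Agent.Helper11.SzBridge.szEquiv hF hm)]
  exact Cfsg.Agent.Helper11.SzAut.card_out hF hm

end Cfsg.Agent.Helper11.SzOut
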