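import Mathlib
import Cfsg.Agent.Helper11.JointEigen

/-! Minimal degree of the Suzuki groups, part A: abstract linear algebra.
* operators with pairwise distinct twisted commutation characters are linearly independent;
* dimensions of joint eigenspaces from a joint eigenbasis. -/

set_option autoImplicit false
set_option linter.unusedSectionVars false
set_option linter.unusedVariables false

namespace Cfsg.Agent.Helper11.SzRep

open Module

section opindep

variable {K : Type*} [Field K] {U : Type*} [AddCommGroup U] [Module K U] [FiniteDimensional K U]

/-- Operators `P (t i)` with `P s * P (t i) = χ i s • (P (t i) * P s)` for pairwise distinct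
characters `χ i` are linearly independent; hence there are at most `(dim U)²` of them. -/
theorem card_le_sq_of_twisted_commute [Nontrivial U] {Q : Type*} [Group Q] (P : Q →* Module.End K U)
    {I : Type*} [Fintype I] (t : I → Q) (χ : I → Q →* K) (hχ : Function.Injective χ)
    (h : ∀ i s, P s * P (t i) = χ i s • (P (t i) * P s)) :
    Fintype.card I ≤ (Module.finrank K U) ^ 2 := by
  classical
  have hinv : ∀ s : Q, P s * P s⁻¹ = 1 := fun s => by rw [← map_mul, mul_inv_cancel, map_one]
  have hinv' : ∀ s : Q, P s⁻¹ * P s = 1 := fun s => by rw [← map_mul, inv_mul_cancel, map_one]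
  have hli : LinearIndependent K (fun i => P (t i)) := by
    rw [Fintype.linearIndependent_iff]
    intro g hg i₀
    -- conjugating the relation
    have h1 : ∀ s : Q, ∑ i, (g i * χ i s) • P (t i) = 0 := by
      intro s
      have e1 : P s * (∑ i, g i • P (t i)) * P s⁻¹ = 0 := by rw [hg, mul_zero, zero_mul]
      rw [Finset.mul_sum, Finset.sum_mul] at e1
      rw [← e1]
      apply Finset.sum_congr rfl
      intro i _
      rw [mul_smul_comm, h i s, smul_mul_assoc, smul_mul_assoc, mul_assoc, hinv, mul_one, smul_smul]
    -- Dedekind
    have hded := (linearIndependent_monoidHom Q K).comp χ hχ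
    rw [Fintype.linearIndependent_iff] at hded
    obtain ⟨u, hu⟩ := exists_ne (0 : U)
    have hne : P (t i₀) u ≠ 0 := by
      intro h0
      have := congrArg (P (t i₀)⁻¹) h0
      rw [map_zero, ← Module.End.mul_apply, hinv', Module.End.one_apply] at this
      exact hu this
    let bs := Module.finBasis K U
    obtain ⟨j, hj⟩ : ∃ j, bs.repr (P (t i₀) u) j ≠ 0 := by
      by_contra hcon
      push Not at hcon
      apply hne
      apply bs.repr.injective
      ext j
      rw [hcon j]
      simp
    have h2 := hded (fun i => g i * bs.repr (P (t i) u) j) (by
      ext s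
      have e2 := congrArg (fun T : Module.End K U => bs.repr (T u) j) (h1 s)
      simp only [LinearMap.sum_apply, LinearMap.smul_apply, map_sum, map_smul,
        Finsupp.coe_finsetSum, Finsupp.coe_smul, Finset.sum_apply, Pi.smul_apply, smul_eq_mul,
        LinearMap.zero_apply, map_zero, Finsupp.coe_zero, Pi.zero_apply] at e2
      simp only [Function.comp_apply, Finset.sum_apply, Pi.smul_apply, smul_eq_mul, Pi.zero_apply]
      rw [← e2]
      apply Finset.sum_congr rfl
      intro i _
      ring) i₀
    rcases mul_eq_zero.mp h2 with h3 | h3
    · exact h3
    · exact absurd h3 hj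
  have := hli.fintype_card_le_finrank
  rw [Module.finrank_linearMap, ← sq] at this
  exact this

end opindep

section joint

universe uK uV uι

variable {K : Type uK} {V : Type uV} [Field K] [AddCommGroup V] [Module K V] [FiniteDimensional K V]

/-- the joint eigenspace of a family of operators for a given family of eigenvalues -/
def jointEig {ι : Type uι} (f : ι → Module.End K V) (lam : ι → K) : Submodule K V :=
  ⨅ i, (f i).eigenspace (lam i)

theorem mem_jointEig {ι : Type uι} (f : ι → Module.End K V) (lam : ι → K) (v : V) :
    v ∈ jointEig f lam ↔ ∀ i, f i v = lam i • v := by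
  unfold jointEig
  rw [Submodule.mem_iInf]
  simp only [Module.End.mem_eigenspace_iff]

/-- with a joint eigenbasis, the dimension of a joint eigenspace is the number of basis vectors
with the given eigenvalues -/
theorem finrank_jointEig {ι : Type uι} (f : ι → Module.End K V) {κ : Type*} [Fintype κ]
    [DecidableEq (ι → K)]
    (bs : Basis κ K V) (ε : κ → ι → K) (hb : ∀ k i, f i (bs k) = ε k i • bs k) (lam : ι → K) :
    Module.finrank K (jointEig f lam) = (Finset.univ.filter (fun k => ε k = lam)).card := by
  classical
  have hcoord : ∀ (k : κ) (i : ι) (v : V), bs.repr (f i v) k = ε k i * bs.repr v k := by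
    intro k i v
    have : (bs.coord k) ∘ₗ (f i) = ε k i • bs.coord k := by
      apply bs.ext
      intro k'
      simp only [LinearMap.comp_apply, LinearMap.smul_apply, Basis.coord_apply, hb, map_smul,
        Finsupp.smul_apply, Basis.repr_self, smul_eq_mul]
      by_cases hkk : k' = k
      · subst hkk; simp
      · simp [Finsupp.single_apply, hkk]
    have := LinearMap.congr_fun this v
    simpa using this
  have hspan : jointEig f lam =
      Submodule.span K (Set.range (fun k : {k // ε k = lam} => bs k.1)) := by
    apply le_antisymm
    · intro v hv
      rw [mem_jointEig] at hv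
      rw [← bs.sum_repr v]
      apply Submodule.sum_mem
      intro k _
      by_cases hk : ε k = lam
      · apply Submodule.smul_mem
        exact Submodule.subset_span ⟨⟨k, hk⟩, rfl⟩
      · have : ∃ i, ε k i ≠ lam i := by
          by_contra hcon
          push Not at hcon
          exact hk (funext hcon)
        obtain ⟨i, hi⟩ := this
        have e1 := hcoord k i v
        rw [hv i, map_smul, Finsupp.smul_apply, smul_eq_mul] at e1
        have : (ε k i - lam i) * bs.repr v k = 0 := by linear_combination -e1
        rcases mul_eq_zero.mp this with h0 | h0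
        · exact absurd (sub_eq_zero.mp h0) hi
        · rw [h0, zero_smul]
          exact Submodule.zero_mem _
    · rw [Submodule.span_le]
      rintro _ ⟨⟨k, hk⟩, rfl⟩
      rw [SetLike.mem_coe, mem_jointEig]
      intro i
      rw [hb, hk]
  rw [hspan]
  have hli : LinearIndependent K (fun k : {k // ε k = lam} => bs k.1) :=
    bs.linearIndependent.comp Subtype.val Subtype.val_injective
  rw [finrank_span_eq_card hli, Fintype.card_subtype]

/-- the joint eigenspaces for distinct eigenvalue families have total dimension at most `dim V` -/
theorem sum_finrank_jointEig_le {ι : Type uι} (f : ι → Module.End K V) {κ : Type*} [Fintype κ]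
    [DecidableEq (ι → K)]
    (bs : Basis κ K V) (ε : κ → ι → K) (hb : ∀ k i, f i (bs k) = ε k i • bs k)
    (Λ : Finset (ι → K)) :
    ∑ lam ∈ Λ, Module.finrank K (jointEig f lam) ≤ Module.finrank K V := by
  classical
  rw [Module.finrank_eq_card_basis bs]
  have h1 : ∑ lam ∈ Λ, Module.finrank K (jointEig f lam) =
      ∑ lam ∈ Λ, ((Finset.univ.filter (fun k => ε k ∈ Λ)).filter (fun k => ε k = lam)).card := by
    apply Finset.sum_congr rfl
    intro lam hlam
    rw [finrank_jointEig f bs ε hb lam]
    congr 1
    ext k
    simp only [Finset.mem_filter, Finset.mem_univ, true_and]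
    constructor
    · intro h; exact ⟨h ▸ hlam, h⟩
    · intro h; exact h.2
  rw [h1, ← Finset.card_eq_sum_card_fiberwise (f := ε) (s := Finset.univ.filter (fun k => ε k ∈ Λ))
    (t := Λ) (fun k hk => (Finset.mem_filter.mp hk).2)]
  exact Finset.card_le_univ _

end joint

end Cfsg.Agent.Helper11.SzRep
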