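import Mathlib
import Cfsg.Agent.Helper11.SzRepA
import Cfsg.Agent.Helper11.SzRepB

/-! Minimal degree of the Suzuki groups, part C: eigenspaces of the centre of `Q`. -/

set_option autoImplicit false
set_option linter.unusedSectionVars false
set_option linter.unusedVariables false

namespace Cfsg.Agent.Helper11.SzRep

open Cfsg.Agent.Helper2.SzO Cfsg.Agent.Helper11.SzAut Module

variable {F : Type*} [Field F] [Fintype F] {m : ℕ}
variable {V : Type*} [AddCommGroup V] [Module ℂ V] [FiniteDimensional ℂ V]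

/-- the operators of the central translations -/
def fZ (hF : Fintype.card F = 2 ^ (2 * m + 1)) (ρ : ↥(Cfsg.Sz F m) →* Module.End ℂ V) :
    F → Module.End ℂ V := fun b => ρ (Tz hF 0 b)

theorem fZ_mul (hF : Fintype.card F = 2 ^ (2 * m + 1)) (ρ : ↥(Cfsg.Sz F m) →* Module.End ℂ V)
    (b b' : F) : fZ hF ρ b * fZ hF ρ b' = fZ hF ρ (b + b') := by
  unfold fZ
  rw [← map_mul, Tz_zero_mul]

theorem fZ_comm (hF : Fintype.card F = 2 ^ (2 * m + 1)) (ρ : ↥(Cfsg.Sz F m) →* Module.End ℂ V)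
    (b b' : F) : Commute (fZ hF ρ b) (fZ hF ρ b') := by
  unfold Commute SemiconjBy
  rw [fZ_mul, fZ_mul, add_comm]

theorem fZ_sq (hF : Fintype.card F = 2 ^ (2 * m + 1)) (ρ : ↥(Cfsg.Sz F m) →* Module.End ℂ V)
    (b : F) : fZ hF ρ b * fZ hF ρ b = 1 := by
  unfold fZ
  rw [← map_mul, Tz_zero_mul_self, map_one]

/-- the eigenvalue families of joint eigenvectors are sign characters -/
theorem isSignChar_of_eigen (hF : Fintype.card F = 2 ^ (2 * m + 1))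
    (ρ : ↥(Cfsg.Sz F m) →* Module.End ℂ V) (v : V) (hv : v ≠ 0) (lam : F → ℂ)
    (h : ∀ b, fZ hF ρ b v = lam b • v) (hs : ∀ b, lam b = 1 ∨ lam b = -1) : IsSignChar lam := by
  refine ⟨fun b b' => ?_, hs⟩
  have e := h (b + b')
  rw [← fZ_mul, Module.End.mul_apply, h b', map_smul, h b, smul_smul] at e
  have : (lam b' * lam b - lam (b + b')) • v = 0 := by rw [sub_smul, e, sub_self]
  rcases smul_eq_zero.mp this with h0 | h0
  · linear_combination -h0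
  · exact absurd h0 hv

/-- the joint eigenspaces of the central translations -/
noncomputable def Vlam (hF : Fintype.card F = 2 ^ (2 * m + 1)) (ρ : ↥(Cfsg.Sz F m) →* Module.End ℂ V)
    (lam : F → ℂ) : Submodule ℂ V := jointEig (fZ hF ρ) lam

theorem mem_Vlam (hF : Fintype.card F = 2 ^ (2 * m + 1)) (ρ : ↥(Cfsg.Sz F m) →* Module.End ℂ V)
    (lam : F → ℂ) (v : V) : v ∈ Vlam hF ρ lam ↔ ∀ b, ρ (Tz hF 0 b) v = lam b • v :=
  mem_jointEig _ _ _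

/-- `Q` preserves the joint eigenspaces -/
theorem Tz_maps (hF : Fintype.card F = 2 ^ (2 * m + 1)) (ρ : ↥(Cfsg.Sz F m) →* Module.End ℂ V)
    (lam : F → ℂ) (x y : F) (v : V) (hv : v ∈ Vlam hF ρ lam) : ρ (Tz hF x y) v ∈ Vlam hF ρ lam := by
  rw [mem_Vlam] at hv ⊢
  intro b
  have hc : Tz hF 0 b * Tz hF x y = Tz hF x y * Tz hF 0 b := by
    apply Subtype.ext
    show T m 0 b * T m x y = T m x y * T m 0 b
    rw [T_central_mul hF, T_mul_central hF, add_comm]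
  rw [← Module.End.mul_apply, ← map_mul, hc, map_mul, Module.End.mul_apply, hv b, map_smul]

theorem Dz_mul_Dz_inv (hF : Fintype.card F = 2 ^ (2 * m + 1)) (κ : Fˣ) :
    Dz hF κ * Dz hF κ⁻¹ = 1 := by
  rw [← Dz_mul, mul_inv_cancel, Dz_one]

theorem Dz_inv_mul_Dz (hF : Fintype.card F = 2 ^ (2 * m + 1)) (κ : Fˣ) :
    Dz hF κ⁻¹ * Dz hF κ = 1 := by
  rw [← Dz_mul, inv_mul_cancel, Dz_one]

/-- the torus permutes the joint eigenspaces -/
theorem Dz_maps (hF : Fintype.card F = 2 ^ (2 * m + 1)) (ρ : ↥(Cfsg.Sz F m) →* Module.End ℂ V)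
    (lam : F → ℂ) (κ : Fˣ) (v : V) (hv : v ∈ Vlam hF ρ lam) :
    ρ (Dz hF κ) v ∈ Vlam hF ρ (fun b => lam (((κ⁻¹ : Fˣ) : F) ^ (sg m + 1) * b)) := by
  rw [mem_Vlam] at hv ⊢
  intro b
  have hc : Tz hF 0 b * Dz hF κ =
      Dz hF κ * Tz hF (((κ⁻¹ : Fˣ) : F) * 0) (((κ⁻¹ : Fˣ) : F) ^ (sg m + 1) * b) := by
    have h1 : Dz hF κ * Dz hF κ⁻¹ = 1 := Dz_mul_Dz_inv hF κ
    have h2 : (Dz hF κ⁻¹)⁻¹ = Dz hF κ := inv_eq_of_mul_eq_one_right (Dz_inv_mul_Dz hF κ)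
    rw [← Dz_mul_Tz hF κ⁻¹ 0 b, h2]
    calc Tz hF 0 b * Dz hF κ = (Dz hF κ * Dz hF κ⁻¹) * Tz hF 0 b * Dz hF κ := by rw [h1, one_mul]
      _ = Dz hF κ * (Dz hF κ⁻¹ * Tz hF 0 b * Dz hF κ) := by simp only [mul_assoc]
  rw [← Module.End.mul_apply, ← map_mul, hc, map_mul, Module.End.mul_apply, mul_zero, hv, map_smul]

/-- the dimensions of the joint eigenspaces are constant along orbits of the torus -/
theorem finrank_Vlam_le (hF : Fintype.card F = 2 ^ (2 * m + 1))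
    (ρ : ↥(Cfsg.Sz F m) →* Module.End ℂ V) (lam : F → ℂ) (e : Fˣ) :
    Module.finrank ℂ (Vlam hF ρ lam) ≤
      Module.finrank ℂ (Vlam hF ρ (fun b => lam ((e : F) * b))) := by
  obtain ⟨κ', hκ'⟩ := exists_pow_sg_succ hF e
  obtain ⟨κ, hκ⟩ : ∃ κ : Fˣ, κ⁻¹ = κ' := ⟨κ'⁻¹, inv_inv _⟩
  have he : ((κ⁻¹ : Fˣ) : F) ^ (sg m + 1) = (e : F) := by
    rw [hκ, ← Units.val_pow_eq_pow_val, hκ']
  have hinv1 : ρ (Dz hF κ) * ρ (Dz hF κ⁻¹) = 1 := by
    rw [← map_mul, Dz_mul_Dz_inv, map_one]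
  have hinv2 : ρ (Dz hF κ⁻¹) * ρ (Dz hF κ) = 1 := by
    rw [← map_mul, Dz_inv_mul_Dz, map_one]
  let E : V ≃ₗ[ℂ] V := LinearEquiv.ofLinearMap (ρ (Dz hF κ)) (ρ (Dz hF κ⁻¹)) hinv1 hinv2
  have hmap : (Vlam hF ρ lam).map (E : V →ₗ[ℂ] V) ≤ Vlam hF ρ (fun b => lam ((e : F) * b)) := by
    rintro _ ⟨v, hv, rfl⟩
    have := Dz_maps hF ρ lam κ v hv
    simp only [he] at this
    exact this
  calc Module.finrank ℂ (Vlam hF ρ lam)
      = Module.finrank ℂ ((Vlam hF ρ lam).map (E : V →ₗ[ℂ] V)) := (LinearEquiv.finrank_map_eq E _).symm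
    _ ≤ _ := Submodule.finrank_mono hmap

end Cfsg.Agent.Helper11.SzRep
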