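import Mathlib
import Cfsg.Agent.Helper11.SzRepC

/-! Minimal degree of the Suzuki groups, part D: the bound. -/

set_option autoImplicit false
set_option linter.unusedSectionVars false
set_option linter.unusedVariables false

namespace Cfsg.Agent.Helper11.SzRep

open Cfsg.Agent.Helper2.SzO Cfsg.Agent.Helper11.SzAut Module

variable {F : Type*} [Field F] [Fintype F] {m : ℕ}
variable {V : Type*} [AddCommGroup V] [Module ℂ V] [FiniteDimensional ℂ V]

/-- the `x`-coordinate on `Q` -/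
def cx (hF : Fintype.card F = 2 ^ (2 * m + 1)) (s : Qz (m := m) hF) : F := s.1.1.1 2 3

theorem cx_tq (hF : Fintype.card F = 2 ^ (2 * m + 1)) (a b : F) : cx hF (tq hF a b) = a := by
  simp [cx, tq, Tz, T, Tm]

/-- the commutation characters -/
noncomputable def chiHom (hF : Fintype.card F = 2 ^ (2 * m + 1)) {lam : F → ℂ} (h : IsSignChar lam)
    (a : F) : Qz (m := m) hF →* ℂ where
  toFun s := lam (cx hF s ^ sg m * a + a ^ sg m * cx hF s)
  map_one' := by
    rw [← tq_one hF, cx_tq]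
    simp [sg_ne_zero, h.zero]
  map_mul' s s' := by
    obtain ⟨x, y, rfl⟩ := tq_surj hF s
    obtain ⟨x', y', rfl⟩ := tq_surj hF s'
    rw [tq_mul, cx_tq, cx_tq, cx_tq, ← h.add]
    congr 1
    rw [add_pow_sg hF]
    ring

theorem chiHom_tq (hF : Fintype.card F = 2 ^ (2 * m + 1)) {lam : F → ℂ} (h : IsSignChar lam)
    (a x y : F) : chiHom hF h a (tq hF x y) = lam (x ^ sg m * a + a ^ sg m * x) := by
  show lam (cx hF (tq hF x y) ^ sg m * a + a ^ sg m * cx hF (tq hF x y)) = _
  rw [cx_tq]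

/-- the action of `Q` on a joint eigenspace -/
noncomputable def PQ (hF : Fintype.card F = 2 ^ (2 * m + 1)) (ρ : ↥(Cfsg.Sz F m) →* Module.End ℂ V)
    (lam : F → ℂ) : Qz (m := m) hF →* Module.End ℂ (Vlam hF ρ lam) where
  toFun s := (ρ s.1).restrict (fun v hv => by
    obtain ⟨x, y, hs⟩ := s.2
    rw [hs]
    exact Tz_maps hF ρ lam x y v hv)
  map_one' := by
    ext v
    simp
  map_mul' s s' := by
    ext v
    simp

theorem PQ_apply (hF : Fintype.card F = 2 ^ (2 * m + 1)) (ρ : ↥(Cfsg.Sz F m) →* Module.End ℂ V)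
    (lam : F → ℂ) (s : Qz (m := m) hF) (v : Vlam hF ρ lam) :
    ((PQ hF ρ lam s v : Vlam hF ρ lam) : V) = ρ s.1 v.1 := rfl

theorem PQ_twist (hF : Fintype.card F = 2 ^ (2 * m + 1)) (ρ : ↥(Cfsg.Sz F m) →* Module.End ℂ V)
    {lam : F → ℂ} (h : IsSignChar lam) (a : F) (s : Qz (m := m) hF) :
    PQ hF ρ lam s * PQ hF ρ lam (tq hF a 0) =
      chiHom hF h a s • (PQ hF ρ lam (tq hF a 0) * PQ hF ρ lam s) := by
  have h2 := two_eq_zero hF
  obtain ⟨x, y, rfl⟩ := tq_surj hF s
  rw [chiHom_tq]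
  ext v
  rw [Module.End.mul_apply, LinearMap.smul_apply, Module.End.mul_apply, Submodule.coe_smul,
    PQ_apply, PQ_apply, PQ_apply, PQ_apply]
  show ρ (Tz hF x y) (ρ (Tz hF a 0) v.1) = lam (x ^ sg m * a + a ^ sg m * x) •
    ρ (Tz hF a 0) (ρ (Tz hF x y) v.1)
  have hg : Tz hF x y * Tz hF a 0 =
      Tz hF 0 (x ^ sg m * a + a ^ sg m * x) * (Tz hF a 0 * Tz hF x y) := by
    rw [Tz_mul, Tz_mul, Tz_mul]
    congr 1
    · ring
    · simp only [zero_pow sg_ne_zero]
      linear_combination -(a ^ sg m * x) * h2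
  have hmem : ρ (Tz hF a 0) (ρ (Tz hF x y) v.1) ∈ Vlam hF ρ lam :=
    Tz_maps hF ρ lam a 0 _ (Tz_maps hF ρ lam x y _ v.2)
  rw [← Module.End.mul_apply, ← map_mul, hg, map_mul, map_mul, Module.End.mul_apply,
    Module.End.mul_apply]
  exact (mem_Vlam hF ρ lam _).mp hmem _

/-- a non-zero joint eigenspace for a non-trivial character has dimension at least `2^m` -/
theorem finrank_Vlam_ge (hF : Fintype.card F = 2 ^ (2 * m + 1))
    (ρ : ↥(Cfsg.Sz F m) →* Module.End ℂ V) {lam : F → ℂ} (h : IsSignChar lam)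
    (hnt : ∃ b, lam b ≠ 1) (hU : Vlam hF ρ lam ≠ ⊥) :
    2 ^ m ≤ Module.finrank ℂ (Vlam hF ρ lam) := by
  have h2 := two_eq_zero hF
  have : Nontrivial (Vlam hF ρ lam) := (Submodule.nontrivial_iff_ne_bot).mpr hU
  let _ : Fintype (F ⧸ rad hF h) := Fintype.ofFinite _
  have hχ : Function.Injective (fun i : F ⧸ rad hF h => chiHom hF h (Quotient.out i)) := by
    intro i j hij
    have hx : ∀ x : F, lam (x ^ sg m * Quotient.out i + Quotient.out i ^ sg m * x) =
        lam (x ^ sg m * Quotient.out j + Quotient.out j ^ sg m * x) := by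
      intro x
      have := DFunLike.congr_fun hij (tq hF x 0)
      simp only [chiHom_tq] at this
      exact this
    have hmem : -(Quotient.out i) + Quotient.out j ∈ rad hF h := by
      rw [mem_rad]
      intro x
      have e : x ^ sg m * (-(Quotient.out i) + Quotient.out j) +
          (-(Quotient.out i) + Quotient.out j) ^ sg m * x =
          (x ^ sg m * Quotient.out i + Quotient.out i ^ sg m * x) +
          (x ^ sg m * Quotient.out j + Quotient.out j ^ sg m * x) := by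
        have : -(Quotient.out i) = Quotient.out i := by linear_combination -(Quotient.out i) * h2
        rw [this, add_pow_sg hF]
        ring
      rw [e, h.add, hx x]
      rcases h.sign (x ^ sg m * Quotient.out j + Quotient.out j ^ sg m * x) with h1 | h1 <;>
        rw [h1] <;> norm_num
    have := (QuotientAddGroup.eq (s := rad hF h)).mpr hmem
    rw [QuotientAddGroup.out_eq', QuotientAddGroup.out_eq'] at this
    exact this
  have hcard := card_le_sq_of_twisted_commute (PQ hF ρ lam)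
    (fun i : F ⧸ rad hF h => tq hF (Quotient.out i) 0)
    (fun i => chiHom hF h (Quotient.out i)) hχ (fun i s => PQ_twist hF ρ h _ s)
  have hq := card_quot_rad hF h hnt
  rw [Nat.card_eq_fintype_card] at hq
  have h3 : (2 ^ m) ^ 2 ≤ (Module.finrank ℂ (Vlam hF ρ lam)) ^ 2 := by
    calc (2 ^ m) ^ 2 = 2 ^ (2 * m) := by rw [← pow_mul, mul_comm]
      _ ≤ _ := hq.trans hcard
  exact (Nat.pow_le_pow_iff_left (by norm_num)).mp h3

/-- Landazuri–Seitz bound for the Suzuki groups -/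
theorem degree_ge (hF : Fintype.card F = 2 ^ (2 * m + 1))
    (ρ : ↥(Cfsg.Sz F m) →* Module.End ℂ V) (hρ : Function.Injective ρ) :
    2 ^ m * (2 ^ (2 * m + 1) - 1) ≤ Module.finrank ℂ V := by
  classical
  have h2 := two_eq_zero hF
  obtain ⟨κ, _, bs, ε, hb, hε⟩ := Cfsg.Agent.Helper11.JointEigen.exists_joint_eigenbasis
    (two_ne_zero : (2 : ℂ) ≠ 0) (fZ hF ρ) (fZ_comm hF ρ) (fZ_sq hF ρ)
  -- a non-trivial eigencharacter
  obtain ⟨j₀, hj₀⟩ : ∃ j₀, ε j₀ 1 ≠ 1 := by
    by_contra hcon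
    push Not at hcon
    have h1 : ρ (Tz hF 0 1) = 1 := by
      apply bs.ext
      intro j
      have := hb j 1
      rw [hcon j, one_smul] at this
      rw [Module.End.one_apply]
      exact this
    rw [← map_one ρ] at h1
    have := hρ h1
    exact Tz_ne_one hF (by rintro ⟨-, h⟩; exact one_ne_zero h) this
  set lam₁ := ε j₀ with hlam₁
  have hs₁ : IsSignChar lam₁ :=
    isSignChar_of_eigen hF ρ (bs j₀) (bs.ne_zero j₀) lam₁ (hb j₀) (hε j₀)
  have hnt : ∃ b, lam₁ b ≠ 1 := ⟨1, hj₀⟩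
  have hU : Vlam hF ρ lam₁ ≠ ⊥ := by
    intro h0
    have hmem : bs j₀ ∈ Vlam hF ρ lam₁ := by
      rw [mem_Vlam]; exact hb j₀
    rw [h0, Submodule.mem_bot] at hmem
    exact bs.ne_zero j₀ hmem
  have hd := finrank_Vlam_ge hF ρ hs₁ hnt hU
  -- the orbit of characters
  let orb : Fˣ → (F → ℂ) := fun e => fun b => lam₁ ((e : F) * b)
  have horb : Function.Injective orb := by
    intro e e' hee
    by_contra hne
    have hne' : (e : F) + (e' : F) ≠ 0 := by
      intro h0
      apply hne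
      apply Units.ext
      linear_combination h0 - (e' : F) * h2
    obtain ⟨b₀, hb₀⟩ := hnt
    apply hb₀
    have e1 := congrFun hee (b₀ / ((e : F) + (e' : F)))
    simp only [orb] at e1
    have e2 : b₀ = (e : F) * (b₀ / ((e : F) + (e' : F))) + (e' : F) * (b₀ / ((e : F) + (e' : F))) := by
      field_simp
    rw [e2, hs₁.add, e1]
    rcases hs₁.sign ((e' : F) * (b₀ / ((e : F) + (e' : F)))) with h1 | h1 <;> rw [h1] <;> norm_num
  have hsum := sum_finrank_jointEig_le (fZ hF ρ) bs ε hb (Finset.univ.image orb)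
  rw [Finset.sum_image (fun e _ e' _ h => horb h)] at hsum
  have hge : ∀ e ∈ (Finset.univ : Finset Fˣ),
      Module.finrank ℂ (Vlam hF ρ lam₁) ≤ Module.finrank ℂ (jointEig (fZ hF ρ) (orb e)) :=
    fun e _ => finrank_Vlam_le hF ρ lam₁ e
  have h3 := Finset.card_nsmul_le_sum _ _ _ hge
  rw [Finset.card_univ, Fintype.card_units, hF, smul_eq_mul] at h3
  calc 2 ^ m * (2 ^ (2 * m + 1) - 1) = (2 ^ (2 * m + 1) - 1) * 2 ^ m := mul_comm _ _
    _ ≤ (2 ^ (2 * m + 1) - 1) * Module.finrank ℂ (Vlam hF ρ lam₁) := Nat.mul_le_mul_left _ hd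
    _ ≤ _ := h3.trans hsum

end Cfsg.Agent.Helper11.SzRep
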