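import Mathlib
import Cfsg.Agent.Helper11.SzRepD
import Cfsg.Agent.Helper11.SzBridge

/-! Minimal degree of the Suzuki groups, part E: irreducible representations of degree at least 2
are faithful; the final statement. -/

set_option autoImplicit false
set_option linter.unusedSectionVars false
set_option linter.unusedVariables false

namespace Cfsg.Agent.Helper11.SzRep

open Cfsg.Agent.Helper2.SzO Module

/-- an irreducible representation of degree at least two of a simple group is faithful -/
theorem injective_of_irreducible {G : Type*} [Group G] [IsSimpleGroup G] (k : ℕ)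
    (ρ : Representation ℂ G (Fin k → ℂ)) (hirr : ρ.IsIrreducible) (hk : 2 ≤ k) :
    Function.Injective ρ := by
  rw [← MonoidHom.ker_eq_bot_iff]
  rcases (MonoidHom.normal_ker ρ).eq_bot_or_eq_top with h | h
  · exact h
  · exfalso
    have htriv : ∀ g : G, ρ g = 1 := by
      intro g
      have : g ∈ ρ.ker := by rw [h]; exact Subgroup.mem_top g
      exact MonoidHom.mem_ker.mp this
    let i0 : Fin k := ⟨0, by omega⟩
    let i1 : Fin k := ⟨1, by omega⟩
    let W : Subrepresentation ρ :=
      { toSubmodule := Submodule.span ℂ {(Pi.single i0 (1 : ℂ) : Fin k → ℂ)}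
        apply_mem_toSubmodule := by
          intro g v hv
          rw [htriv g]
          exact hv }
    have hW : W = ⊥ ∨ W = ⊤ := hirr.eq_bot_or_eq_top W
    rcases hW with h0 | h0
    · have : W.toSubmodule = (⊥ : Subrepresentation ρ).toSubmodule := by rw [h0]
      have hmem : (Pi.single i0 (1 : ℂ) : Fin k → ℂ) ∈ W.toSubmodule :=
        Submodule.subset_span rfl
      rw [this] at hmem
      have h1 : (Pi.single i0 (1 : ℂ) : Fin k → ℂ) = 0 := hmem
      have := congrFun h1 i0
      simp at this
    · have : W.toSubmodule = (⊤ : Subrepresentation ρ).toSubmodule := by rw [h0]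
      have hmem : (Pi.single i1 (1 : ℂ) : Fin k → ℂ) ∈ W.toSubmodule := by
        rw [this]; exact Submodule.mem_top
      obtain ⟨c, hc⟩ := Submodule.mem_span_singleton.mp hmem
      have := congrFun hc i1
      have hne : i1 ≠ i0 := by
        intro h'
        have := congrArg Fin.val h'
        simp [i0, i1] at this
      simp [Pi.single_apply, hne] at this

variable {F : Type*} [Field F] [Fintype F]

/-- every irreducible complex representation of degree at least 2 of `Sz(q)` has degree at least
`2^m (q - 1)` -/
theorem main (m : ℕ) (hm : 1 ≤ m) (hF : Fintype.card F = 2 ^ (2 * m + 1)) :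
    ∀ (k : ℕ) (ρ : Representation ℂ (Cfsg.Lie.Sz F (2 ^ (m + 1))) (Fin k → ℂ)),
      ρ.IsIrreducible → 2 ≤ k → 2 ^ m * (2 ^ (2 * m + 1) - 1) ≤ k := by
  intro k ρ hirr hk
  let e := Cfsg.Agent.Helper11.SzBridge.szEquiv hF hm
  have hsimple : IsSimpleGroup ↥(Cfsg.Lie.Sz F (2 ^ (m + 1))) := by
    have := isSimpleGroup hF hm
    exact e.symm.isSimpleGroup
  have hinj := injective_of_irreducible k ρ hirr hk
  have hinj' : Function.Injective (ρ.comp e.toMonoidHom) := hinj.comp e.injective
  have := degree_ge hF (ρ.comp e.toMonoidHom) hinj'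
  rw [Module.finrank_fin_fun] at this
  exact this

end Cfsg.Agent.Helper11.SzRep
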