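import Mathlib
import Cfsg.Agent.Helper11.SzSolI
import Cfsg.Agent.Helper11.SzBridge

/-! Solubilizers in the Suzuki groups, part J: transfer to `Cfsg.Lie.Sz`. -/

set_option autoImplicit false
set_option linter.unusedSectionVars false
set_option linter.unusedVariables false

namespace Cfsg.Agent.Helper11.SzSol

theorem isSolvable_closure_pair_iff {G H : Type*} [Group G] [Group H] (e : G ≃* H) (x y : G) :
    Group.IsSolvable ↥(Subgroup.closure ({x, y} : Set G)) ↔
      Group.IsSolvable ↥(Subgroup.closure ({e x, e y} : Set H)) := by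
  have hmap : Subgroup.closure ({e x, e y} : Set H) =
      (Subgroup.closure ({x, y} : Set G)).map e.toMonoidHom := by
    rw [MonoidHom.map_closure, Set.image_pair]
    rfl
  rw [hmap]
  have f : ↥(Subgroup.closure ({x, y} : Set G)) ≃*
      ↥((Subgroup.closure ({x, y} : Set G)).map e.toMonoidHom) :=
    Subgroup.equivMapOfInjective _ e.toMonoidHom e.injective
  constructor
  · intro h
    have := h
    exact Group.isSolvable_of_isSolvable_injective (f := f.symm.toMonoidHom) f.symm.injective
  · intro h
    have := h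
    exact Group.isSolvable_of_isSolvable_injective (f := f.toMonoidHom) f.injective

theorem card_sol_congr {G H : Type*} [Group G] [Group H] (e : G ≃* H) (x : G) :
    Nat.card {y : G // Group.IsSolvable ↥(Subgroup.closure ({x, y} : Set G))} =
      Nat.card {y : H // Group.IsSolvable ↥(Subgroup.closure ({e x, y} : Set H))} :=
  Nat.card_congr (e.toEquiv.subtypeEquiv (fun y => isSolvable_closure_pair_iff e x y))

variable {F : Type*} [Field F] [Fintype F] {m : ℕ}

/-- the solubilizer of `x` in `Cfsg.Lie.Sz`, counted through the bridge -/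
theorem card_sol_lie (hF : Fintype.card F = 2 ^ (2 * m + 1)) (hm : 1 ≤ m)
    (hp : (2 * m + 1).Prime) (x : ↥(Cfsg.Lie.Sz F (2 ^ (m + 1)))) :
    Nat.card {y : ↥(Cfsg.Lie.Sz F (2 ^ (m + 1))) //
        Group.IsSolvable ↥(Subgroup.closure ({x, y} : Set ↥(Cfsg.Lie.Sz F (2 ^ (m + 1)))))} =
      Nat.card {y : Cfsg.Sz F m //
        Rel ((Cfsg.Agent.Helper11.SzBridge.szEquiv hF hm).symm x) y} := by
  rw [card_sol_congr (Cfsg.Agent.Helper11.SzBridge.szEquiv hF hm).symm x]
  exact card_sol hF hm hp _

end Cfsg.Agent.Helper11.SzSol
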