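import Mathlib
import Cfsg.Agent.Helper2.SzSimple
import Cfsg.Agent.Helper11.SzMax

set_option autoImplicit false

namespace Cfsg.Agent.Helper11.SzTwoGen

open Cfsg.Agent.Helper2.SzO Cfsg.Agent.Helper11.SzMax
open scoped Pointwise

variable {F : Type*} [Field F] [Fintype F] {m : ℕ}

/-- A subgroup containing the whole torus and one translation with nonzero first coordinate
contains `Q`. -/
theorem Qz_le_of (hF : Fintype.card F = 2 ^ (2 * m + 1)) (H : Subgroup (Cfsg.Sz F m))
    (hD : ∀ u : Fˣ, Dz hF u ∈ H) (a0 b0 : F) (ha0 : a0 ≠ 0) (hs : Tz hF a0 b0 ∈ H) :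
    Qz hF ≤ H := by
  have h2 := two_eq_zero hF
  have hsg : sg m ≠ 0 := sg_ne_zero
  -- for every nonzero `c` some `T(c, b)` lies in `H`
  have h1 : ∀ c : F, c ≠ 0 → ∃ b : F, Tz hF c b ∈ H := by
    intro c hc
    let u : Fˣ := Units.mk0 (c / a0) (div_ne_zero hc ha0)
    have := H.mul_mem (H.mul_mem (hD u) hs) (H.inv_mem (hD u))
    rw [Dz_mul_Tz] at this
    have hu : (u : F) * a0 = c := by
      show c / a0 * a0 = c
      exact div_mul_cancel₀ c ha0
    rw [hu] at this
    exact ⟨_, this⟩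
  -- the centre lies in `H`
  have h3 : ∀ e : F, Tz hF 0 e ∈ H := by
    intro e
    by_cases he : e = 0
    · subst he; rw [Tz_one]; exact H.one_mem
    · obtain ⟨k, hk⟩ := exists_pow_sg_succ hF (Units.mk0 e he)
      have hk' : (k : F) ^ (sg m + 1) = e := by
        have := congrArg Units.val hk
        simpa using this
      obtain ⟨b, hb⟩ := h1 (k : F) k.ne_zero
      have := H.mul_mem hb hb
      rw [Tz_mul] at this
      have e1 : (k : F) + k = 0 := by linear_combination (k : F) * h2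
      have e2 : b + b + (k : F) ^ sg m * k = e := by
        rw [← hk', pow_succ]; linear_combination b * h2
      rw [e1, e2] at this
      exact this
  rintro _ ⟨c, b, rfl⟩
  by_cases hc : c = 0
  · subst hc; exact h3 b
  · obtain ⟨b', hb'⟩ := h1 c hc
    have := H.mul_mem hb' (h3 (b - b'))
    rw [Tz_mul] at this
    have e1 : c + 0 = c := add_zero c
    have e2 : b' + (b - b') + c ^ sg m * 0 = b := by ring
    rw [e1, e2] at this
    exact this

/-- The Suzuki group is generated by two elements. -/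
theorem two_generated (hF : Fintype.card F = 2 ^ (2 * m + 1)) (hm : 1 ≤ m) :
    ∃ a b : Cfsg.Sz F m, Subgroup.closure ({a, b} : Set (Cfsg.Sz F m)) = ⊤ := by
  classical
  have h2 := two_eq_zero hF
  have hsg : sg m ≠ 0 := sg_ne_zero
  obtain ⟨k, hk⟩ := IsCyclic.exists_generator (α := Fˣ)
  -- `k ≠ 1`
  have hk1 : k ≠ 1 := by
    intro h
    subst h
    have hcard : Fintype.card Fˣ = 1 := by
      rw [Fintype.card_eq_one_iff]
      refine ⟨1, fun y => ?_⟩
      have := hk y
      rw [Subgroup.zpowers_one_eq_bot, Subgroup.mem_bot] at this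
      exact this
    rw [Fintype.card_units, hF] at hcard
    have : 2 ^ 3 ≤ 2 ^ (2 * m + 1) := Nat.pow_le_pow_right (by norm_num) (by omega)
    omega
  refine ⟨Dz hF k, Tz hF 1 0 * Wz hF, ?_⟩
  set H := Subgroup.closure ({Dz hF k, Tz hF 1 0 * Wz hF} : Set (Cfsg.Sz F m)) with hH
  have hd : Dz hF k ∈ H := Subgroup.subset_closure (by simp)
  have hb : Tz hF 1 0 * Wz hF ∈ H := Subgroup.subset_closure (by simp)
  -- the torus lies in `H`
  have hD : ∀ u : Fˣ, Dz hF u ∈ H := by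
    intro u
    let S : Subgroup Fˣ :=
      { carrier := {u | Dz hF u ∈ H}
        mul_mem' := by
          intro x y hx hy
          show Dz hF (x * y) ∈ H
          rw [Dz_mul]; exact H.mul_mem hx hy
        one_mem' := by
          show Dz hF 1 ∈ H
          have : Dz (m := m) hF 1 = 1 := Subtype.ext D_one
          rw [this]; exact H.one_mem
        inv_mem' := by
          intro x hx
          show Dz hF x⁻¹ ∈ H
          rw [← Dz_inv]; exact H.inv_mem hx }
    have hkS : k ∈ S := hd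
    have : Subgroup.zpowers k ≤ S := by
      rw [Subgroup.zpowers_le]; exact hkS
    exact this (hk u)
  -- a translation in `H`
  have hWD : Wz hF * Dz hF k * Wz hF = Dz hF k⁻¹ := Subtype.ext (W_mul_D_mul_W k)
  have hconj : (Tz hF 1 0 * Wz hF) * Dz hF k * (Tz hF 1 0 * Wz hF)⁻¹ =
      Tz hF 1 0 * Dz hF k⁻¹ * (Tz hF 1 0)⁻¹ := by
    rw [← hWD, mul_inv_rev, Wz_inv]; group
  have h1 : Tz hF 1 0 * Dz hF k⁻¹ * (Tz hF 1 0)⁻¹ ∈ H := by
    rw [← hconj]; exact H.mul_mem (H.mul_mem hb hd) (H.inv_mem hb)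
  have h3 : Dz hF k * (Tz hF 1 0 * Dz hF k⁻¹ * (Tz hF 1 0)⁻¹) ∈ H := H.mul_mem hd h1
  have h4 : Dz hF k * (Tz hF 1 0 * Dz hF k⁻¹ * (Tz hF 1 0)⁻¹) =
      (Dz hF k * Tz hF 1 0 * (Dz hF k)⁻¹) * (Tz hF 1 0)⁻¹ := by
    rw [Dz_inv]; group
  rw [h4, Dz_mul_Tz, Tz_inv, Tz_mul] at h3
  have hk0 : (k : F) * 1 + 1 ≠ 0 := by
    intro h
    apply hk1
    apply Units.ext
    have : (k : F) = 1 := by linear_combination h - h2
    exact this
  have hQ : Qz hF ≤ H := Qz_le_of hF H hD _ _ hk0 h3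
  -- `W ∈ H`
  have hW : Wz hF ∈ H := by
    have : Wz hF = (Tz hF 1 0)⁻¹ * (Tz hF 1 0 * Wz hF) := by group
    rw [this]
    exact H.mul_mem (H.inv_mem (hQ (Tz_mem_Qz hF 1 0))) hb
  have hmove : Wz hF • (infO : Cfsg.suzukiOvoid F m) ≠ infO := by
    rw [Wz_smul_infO]
    exact (infO_ne_ptO 0 0).symm
  rw [eq_top_iff, ← Qz_sup_conj hF hm (Wz hF) hmove]
  apply sup_le hQ
  rintro _ ⟨t, ht, rfl⟩
  exact H.mul_mem (H.mul_mem hW (hQ ht)) (H.inv_mem hW)

end Cfsg.Agent.Helper11.SzTwoGen
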