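import Mathlib
import Cfsg.Agent.Helper29.TV2Basic
import Cfsg.Agent.Helper24.TV2_DE
import Cfsg.Agent.Helper18.TV2_USPAN
import Cfsg.Agent.Helper11.TV2_L0ND
import Cfsg.Agent.Helper11.TV2_TRANS

/-! Board `tv2pieces`, row KTRANS (helper11): `T` is transitive on the cliques. -/

set_option autoImplicit false
set_option linter.unusedSectionVars false

namespace Cfsg.Agent.TV2

variable {P : Type*} [Group P] [Finite P] {W : Type*} [AddCommGroup W] [Module (ZMod 2) W] [Finite W] [DistribMulAction P W]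

theorem KTRANS (C : Ctx P W) {x y : P} (hx : x ∈ C.D1) (hy : y ∈ C.D1) :
    ∃ t ∈ (C.T : Subgroup P), C.K y = {d | ∃ k ∈ C.K x, d = t * k * t⁻¹} := by
  obtain ⟨d', ⟨t, ht, rfl⟩, hB⟩ :=
    ND_span C hy.1 {d | ∃ t ∈ (C.T : Subgroup P), d = t * x * t⁻¹} (le_of_eq (USPAN_T C hx))
  have htM : t ∈ C.M := C.hTM ht
  have hd'1 : t * x * t⁻¹ ∈ C.D1 := DE_conj_D1 C hx htM
  have hyK : y ∈ C.K (t * x * t⁻¹) := ⟨hy, Or.inr hB⟩
  refine ⟨t, ht, ?_⟩
  rw [TRANS_K_eq C hd'1 hyK, TRANS_conj C hx htM]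

end Cfsg.Agent.TV2
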