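import Mathlib
import Cfsg.Agent.Helper11.TwBND
import Cfsg.Agent.Helper2.BN.Simple

/-!
# Irreducibility of the `(B, N)`-pair of a twisted group, and Tits' simplicity criterion
-/

set_option autoImplicit false
set_option linter.unusedSectionVars false
set_option linter.unusedVariables false

namespace Cfsg.Agent.Helper11.TwBNE

open Cfsg.Lie Cfsg.Agent.Helper6 Cfsg.Agent.Helper11.ChevGraphAut Cfsg.Agent.Helper11.TwUProd
  Cfsg.Agent.Helper11.TwSigma Cfsg.Agent.Helper11.TwFix Cfsg.Agent.Helper11.TwCtx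
  Cfsg.Agent.Helper11.TwReach Cfsg.Agent.Helper11.TwBNA Cfsg.Agent.Helper11.TwBNB
  Cfsg.Agent.Helper11.TwBNC Cfsg.Agent.Helper11.TwBND

variable {D : ChevalleyDatum} {F : Type*} [Field F]

/-- a property which holds somewhere and fails somewhere on a list changes between two
consecutive members -/
theorem exists_split {α : Type*} (P : α → Prop) : ∀ (l : List α), (∃ a ∈ l, P a) → (∃ b ∈ l, ¬ P b) →
    ∃ e ∈ l.zip l.tail, (P e.1 ∧ ¬ P e.2) ∨ (¬ P e.1 ∧ P e.2)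
  | [], ⟨a, ha, _⟩, _ => absurd ha List.not_mem_nil
  | [a], ⟨x, hx, hPx⟩, ⟨y, hy, hPy⟩ => by
    rw [List.mem_singleton] at hx hy
    subst hx; subst hy
    exact absurd hPx hPy
  | a :: b :: l, h1, h2 => by
    by_cases hab : (P a ∧ ¬ P b) ∨ (¬ P a ∧ P b)
    · exact ⟨(a, b), by simp, hab⟩
    · have hiff : P a ↔ P b := by tauto
      have h1' : ∃ x ∈ b :: l, P x := by
        obtain ⟨x, hx, hPx⟩ := h1
        rcases List.mem_cons.1 hx with rfl | hx'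
        · exact ⟨b, List.mem_cons_self, hiff.1 hPx⟩
        · exact ⟨x, hx', hPx⟩
      have h2' : ∃ x ∈ b :: l, ¬ P x := by
        obtain ⟨x, hx, hPx⟩ := h2
        rcases List.mem_cons.1 hx with rfl | hx'
        · exact ⟨b, List.mem_cons_self, fun h => hPx (hiff.2 h)⟩
        · exact ⟨x, hx', hPx⟩
      obtain ⟨e, he, hPe⟩ := exists_split P (b :: l) h1' h2'
      refine ⟨e, ?_, hPe⟩
      simp only [List.tail_cons] at he ⊢
      rw [List.zip_cons_cons]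
      exact List.mem_cons_of_mem _ he

/-- `w_J w_J' w_J⁻¹ w_J'⁻¹` on root indices -/
def wJ4 (D : ChevalleyDatum) (J J' : List ℕ) (r : ℕ) : ℕ :=
  wJ D J (wJ D J' (wJ D J.reverse (wJ D J'.reverse r)))

section conj

variable (hB : BasicOK D) (hAll : ∀ i < D.rank, SimpleAll D i)
include hB hAll

theorem exists_nJ_conj : ∀ (J : List ℕ), (∀ i ∈ J, i < D.rank) → ∀ {s : ℕ}, s < D.nroots →
    ∀ t : F, ∃ c : F, c * c = 1 ∧
      nJ hB J * xU hB s t * (nJ (F := F) hB J)⁻¹ = xU hB (wJ D J s) (c * t) := by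
  intro J
  induction J with
  | nil => intro _ s _ t; exact ⟨1, by simp, by simp [nJ, wJ]⟩
  | cons i J ih =>
    intro hJ s hs t
    have hA := hAll i (hJ i List.mem_cons_self)
    have hJ' : ∀ j ∈ J, j < D.rank := fun j hj => hJ j (List.mem_cons_of_mem _ hj)
    obtain ⟨c, hc, e⟩ := ih hJ' hs t
    have hlt := wJ_lt hB hAll hJ' hs
    refine ⟨((etaR D (D.simple i) (wJ D J s) : ℤ) : F) * c, ?_, ?_⟩
    · have := etaR_sq (F := F) hB hA hlt
      calc _ = (((etaR D (D.simple i) (wJ D J s) : ℤ) : F) *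
            ((etaR D (D.simple i) (wJ D J s) : ℤ) : F)) * (c * c) := by ring
        _ = 1 := by rw [this, hc, mul_one]
    · have e0 : nJ (F := F) hB (i :: J) = nU hB (D.simple i) (one_ne_zero (α := F)) * nJ hB J := by
        simp [nJ]
      rw [e0]
      have : nU hB (D.simple i) (one_ne_zero (α := F)) * nJ hB J * xU hB s t *
          (nU hB (D.simple i) (one_ne_zero (α := F)) * nJ hB J)⁻¹ =
          nU hB (D.simple i) (one_ne_zero (α := F)) * (nJ hB J * xU hB s t * (nJ (F := F) hB J)⁻¹) *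
            (nU hB (D.simple i) (one_ne_zero (α := F)))⁻¹ := by group
      rw [this, e, nU_conj_xU hB hA hlt, mul_assoc]
      rfl

theorem exists_nJ_inv_conj : ∀ (J : List ℕ), (∀ i ∈ J, i < D.rank) → ∀ {s : ℕ}, s < D.nroots →
    ∀ t : F, ∃ c : F, c * c = 1 ∧
      (nJ (F := F) hB J)⁻¹ * xU hB s t * nJ hB J = xU hB (wJ D J.reverse s) (c * t) := by
  intro J
  induction J with
  | nil => intro _ s _ t; exact ⟨1, by simp, by simp [nJ, wJ]⟩
  | cons i J ih =>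
    intro hJ s hs t
    have hA := hAll i (hJ i List.mem_cons_self)
    have hJ' : ∀ j ∈ J, j < D.rank := fun j hj => hJ j (List.mem_cons_of_mem _ hj)
    have hlt := wR_lt hB hA.hS.1 hA.hR hs
    obtain ⟨c, hc, e⟩ := ih hJ' hlt
      (((etaR D (D.simple i) (wR D (D.simple i) s) : ℤ) : F) * t)
    refine ⟨c * ((etaR D (D.simple i) (wR D (D.simple i) s) : ℤ) : F), ?_, ?_⟩
    · have := etaR_sq (F := F) hB hA hlt
      calc _ = (c * c) * (((etaR D (D.simple i) (wR D (D.simple i) s) : ℤ) : F) *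
            ((etaR D (D.simple i) (wR D (D.simple i) s) : ℤ) : F)) := by ring
        _ = 1 := by rw [this, hc, mul_one]
    · have e0 : nJ (F := F) hB (i :: J) = nU hB (D.simple i) (one_ne_zero (α := F)) * nJ hB J := by
        simp [nJ]
      rw [e0]
      have : (nU hB (D.simple i) (one_ne_zero (α := F)) * nJ hB J)⁻¹ * xU hB s t *
          (nU hB (D.simple i) (one_ne_zero (α := F)) * nJ hB J) =
          (nJ (F := F) hB J)⁻¹ * ((nU hB (D.simple i) (one_ne_zero (α := F)))⁻¹ * xU hB s t *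
            nU hB (D.simple i) (one_ne_zero (α := F))) * nJ hB J := by group
      rw [this, nU_inv_conj_xU hB hA hs, e, List.reverse_cons, wJ_append, mul_assoc]
      rfl

theorem wJ_reverse_lt {J : List ℕ} (hJ : ∀ i ∈ J, i < D.rank) {s : ℕ} (hs : s < D.nroots) :
    wJ D J.reverse s < D.nroots :=
  wJ_lt hB hAll (fun i hi => hJ i (List.mem_reverse.1 hi)) hs

end conj

section irred

variable {X : Ctx D F} {G1 : Subgroup (GL D.Idx F)} {orbs : List (List ℕ)} (T : TwData X G1 orbs)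
include T

/-- the commutator of `n_J`, `n_J'` does not lie in `B` when `w_J w_J' w_J⁻¹ w_J'⁻¹` makes some
positive root negative -/
theorem comm_not_mem_borel {J J' : List ℕ} (hJ : ∀ i ∈ J, i < D.rank) (hJ' : ∀ i ∈ J', i < D.rank)
    {r : ℕ} (hr : r < D.nroots) (hpos : D.nroots / 2 ≤ r) (hneg : wJ4 D J J' r < D.nroots / 2) :
    nJ X.hB J * nJ X.hB J' * (nJ (F := F) X.hB J)⁻¹ * (nJ (F := F) X.hB J')⁻¹ ∉
      D.borelSubgroup F := by
  intro hw
  have h1 := wJ_reverse_lt X.hB X.hAll hJ' hr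
  have h2 := wJ_reverse_lt X.hB X.hAll hJ h1
  have h3 := wJ_lt X.hB X.hAll hJ' h2
  have h4 := wJ_lt X.hB X.hAll hJ h3
  obtain ⟨c1, hc1, e1⟩ := exists_nJ_inv_conj X.hB X.hAll J' hJ' hr (1 : F)
  obtain ⟨c2, hc2, e2⟩ := exists_nJ_inv_conj X.hB X.hAll J hJ h1 (c1 * 1)
  obtain ⟨c3, hc3, e3⟩ := exists_nJ_conj X.hB X.hAll J' hJ' h2 (c2 * (c1 * 1))
  obtain ⟨c4, hc4, e4⟩ := exists_nJ_conj X.hB X.hAll J hJ h3 (c3 * (c2 * (c1 * 1)))
  have hx : xU X.hB r (1 : F) ∈ D.borelSubgroup F := by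
    unfold ChevalleyDatum.borelSubgroup ChevalleyDatum.posUnipotent
    apply Subgroup.mem_sup_left
    exact Subgroup.subset_closure ⟨r, 1, (X.hsign r hr).2 hpos, rfl⟩
  have hconj := Subgroup.mul_mem _ (Subgroup.mul_mem _ hw hx) (Subgroup.inv_mem _ hw)
  have e : nJ X.hB J * nJ X.hB J' * (nJ (F := F) X.hB J)⁻¹ * (nJ (F := F) X.hB J')⁻¹ *
      xU X.hB r (1 : F) *
      (nJ X.hB J * nJ X.hB J' * (nJ (F := F) X.hB J)⁻¹ * (nJ (F := F) X.hB J')⁻¹)⁻¹ =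
      nJ X.hB J * (nJ X.hB J' * ((nJ (F := F) X.hB J)⁻¹ *
        ((nJ (F := F) X.hB J')⁻¹ * xU X.hB r (1 : F) * nJ X.hB J') * nJ X.hB J) *
        (nJ (F := F) X.hB J')⁻¹) * (nJ (F := F) X.hB J)⁻¹ := by group
  rw [e, e1, e2, e3, e4] at hconj
  have h0 := T.bn.eq_zero_of_xU_neg_mem_borel h4 hneg hconj
  have hu : (c4 * (c3 * (c2 * (c1 * 1)))) * (c4 * (c3 * (c2 * (c1 * 1)))) = 1 := by
    calc (c4 * (c3 * (c2 * (c1 * 1)))) * (c4 * (c3 * (c2 * (c1 * 1))))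
        = (c4 * c4) * (c3 * c3) * (c2 * c2) * (c1 * c1) := by ring
      _ = 1 := by rw [hc1, hc2, hc3, hc4]; ring
  rw [h0, mul_zero] at hu
  exact zero_ne_one hu

/-- the `(B, N)`-pair of a twisted group with connected diagram of orbits is irreducible -/
theorem irreducible (path : List (List ℕ)) (hpath : ∀ J, J ∈ path ↔ J ∈ orbs)
    (hadj : ∀ e ∈ path.zip path.tail, ∃ r, r < D.nroots ∧ D.nroots / 2 ≤ r ∧
      wJ4 D e.1 e.2 r < D.nroots / 2) :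
    (bnPair' T).Irreducible := by
  intro 𝒥 h𝒥S h𝒥 h𝒥'
  let p : List ℕ → Prop := fun J => ∃ s ∈ 𝒥, (s : GL D.Idx F) = nJ X.hB J
  obtain ⟨s₀, hs₀⟩ := h𝒥
  obtain ⟨J₀, hJ₀, hsJ₀⟩ := h𝒥S hs₀
  obtain ⟨t₀, ht₀S, ht₀𝒥⟩ := h𝒥'
  obtain ⟨J₁, hJ₁, htJ₁⟩ := ht₀S
  have hp₀ : p J₀ := ⟨s₀, hs₀, hsJ₀⟩
  have hq₀ : ¬ p J₁ := by
    rintro ⟨s, hs, hsj⟩
    apply ht₀𝒥
    have : s = t₀ := Subtype.ext (by rw [hsj, htJ₁])
    rw [← this]; exact hs
  obtain ⟨e, he, hPe⟩ := exists_split p path ⟨J₀, (hpath J₀).2 hJ₀, hp₀⟩ ⟨J₁, (hpath J₁).2 hJ₁, hq₀⟩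
  obtain ⟨r, hr, hpos, hneg⟩ := hadj e he
  have he1 : e.1 ∈ orbs := (hpath _).1 (List.of_mem_zip he).1
  have he2 : e.2 ∈ orbs := (hpath _).1 (List.mem_of_mem_tail (List.of_mem_zip he).2)
  have hlt1 := (T.horb _ he1).lt
  have hlt2 := (T.horb _ he2).lt
  have hnot := comm_not_mem_borel T hlt1 hlt2 hr hpos hneg
  let s1 : ↥G1 := ⟨nJ X.hB e.1, nJ_mem T he1⟩
  let s2 : ↥G1 := ⟨nJ X.hB e.2, nJ_mem T he2⟩
  have hs1S : s1 ∈ (bnPair' T).S := ⟨e.1, he1, rfl⟩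
  have hs2S : s2 ∈ (bnPair' T).S := ⟨e.2, he2, rfl⟩
  rcases hPe with ⟨⟨s, hs𝒥, hs⟩, hn2⟩ | ⟨hn1, ⟨s, hs𝒥, hs⟩⟩
  · have hs2𝒥 : s2 ∉ 𝒥 := fun h => hn2 ⟨s2, h, rfl⟩
    refine ⟨s, hs𝒥, s2, ⟨hs2S, hs2𝒥⟩, ?_⟩
    intro hmem
    change _ ∈ B1 D F G1 at hmem
    rw [mem_B1] at hmem
    simp only [Subgroup.coe_mul, Subgroup.coe_inv] at hmem
    rw [hs] at hmem
    exact hnot hmem
  · have hs1𝒥 : s1 ∉ 𝒥 := fun h => hn1 ⟨s1, h, rfl⟩
    refine ⟨s, hs𝒥, s1, ⟨hs1S, hs1𝒥⟩, ?_⟩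
    intro hmem
    change _ ∈ B1 D F G1 at hmem
    rw [mem_B1] at hmem
    simp only [Subgroup.coe_mul, Subgroup.coe_inv] at hmem
    rw [hs] at hmem
    apply hnot
    have : nJ X.hB e.1 * nJ X.hB e.2 * (nJ (F := F) X.hB e.1)⁻¹ * (nJ (F := F) X.hB e.2)⁻¹ =
        (nJ X.hB e.2 * nJ X.hB e.1 * (nJ (F := F) X.hB e.2)⁻¹ * (nJ (F := F) X.hB e.1)⁻¹)⁻¹ := by
      group
    rw [this]
    exact Subgroup.inv_mem _ hmem

/-- Tits' simplicity criterion applied to the twisted group -/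
theorem isSimpleGroup (path : List (List ℕ)) (hpath : ∀ J, J ∈ path ↔ J ∈ orbs)
    (hadj : ∀ e ∈ path.zip path.tail, ∃ r, r < D.nroots ∧ D.nroots / 2 ≤ r ∧
      wJ4 D e.1 e.2 r < D.nroots / 2)
    (hne : orbs ≠ [])
    (hsolv : Group.IsSolvable ↥(D.borelSubgroup F))
    (hperf : commutator ↥G1 = ⊤)
    (hcore : ((D.borelSubgroup F ⊓ G1).subgroupOf G1).normalCore = ⊥) :
    IsSimpleGroup ↥G1 ∧ ¬ IsMulCommutative ↥G1 := by
  have hnt : Nontrivial ↥G1 := by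
    obtain ⟨J, hJ⟩ := List.exists_mem_of_ne_nil orbs hne
    have hs : (⟨nJ X.hB J, nJ_mem T hJ⟩ : ↥G1) ∈ (bnPair' T).S := ⟨J, hJ, rfl⟩
    refine ⟨⟨⟨nJ X.hB J, nJ_mem T hJ⟩, 1, ?_⟩⟩
    intro h
    apply Cfsg.Agent.Helper2.BN.not_mem_B_of_mem_S (P := bnPair' T) hs
    rw [h]
    exact Subgroup.one_mem _
  have hsolv' : Group.IsSolvable ↥((bnPair' T).B) := by
    change Group.IsSolvable ↥((D.borelSubgroup F ⊓ G1).subgroupOf G1)
    have h1 : Group.IsSolvable ↥(D.borelSubgroup F ⊓ G1) :=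
      Group.isSolvable_of_isSolvable_injective
        (f := Subgroup.inclusion (inf_le_left : D.borelSubgroup F ⊓ G1 ≤ D.borelSubgroup F))
        (Subgroup.inclusion_injective _)
    exact Group.isSolvable_of_isSolvable_injective
      (f := (Subgroup.subgroupOfEquivOfLe
        (inf_le_right : D.borelSubgroup F ⊓ G1 ≤ G1)).toMonoidHom) (MulEquiv.injective _)
  refine ⟨Cfsg.Agent.Helper2.BN.isSimpleGroup_of_irreducible (bnPair' T)
    (irreducible T path hpath hadj) hsolv' hperf hcore, ?_⟩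
  intro hcomm
  rw [← commutator_eq_bot_iff, hperf] at hcomm
  exact top_ne_bot hcomm

end irred

end Cfsg.Agent.Helper11.TwBNE
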