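import Mathlib
import Cfsg.Agent.Helper2.BN.Simple
import Cfsg.Agent.Helper2.Tw.F4Perf
import Cfsg.Agent.S1050
import Cfsg.Agent.Helper11.TwF4Weyl
import Cfsg.Agent.Helper11.TwF4Core

set_option autoImplicit false
set_option linter.unusedSectionVars false
set_option linter.unusedVariables false

/-! `²F₄(q)`, `q > 2`, is simple. -/

namespace Cfsg.Agent.Helper11.TwF4

open Cfsg.Lie Cfsg.Agent.Helper6 Cfsg.Agent.Helper11.FixBN

variable {K : Type*} [Field K]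

section main

variable [Fintype K] [CharP K 2] {θ : ℕ} (hθ : θ ≠ 0) (X : Sig K θ)
  (hfrob : ∀ t : K, t ^ (2 * θ * θ) = t)
  (hadd : ∀ x y : K, (x + y) ^ (2 * θ) = x ^ (2 * θ) + y ^ (2 * θ))

include hθ in
/-- the commutator of the two reflections does not lie in `B` -/
theorem comm_not_mem_borel :
    nWr hBF4 K (orbW 0) * nWr hBF4 K (orbW 1) * (nWr hBF4 K (orbW 0))⁻¹ *
      (nWr hBF4 K (orbW 1))⁻¹ ∉ chevF4.borelSubgroup K := by
  have Δ := bnF4 (K := K)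
  intro hmem
  have hsN : ∀ a : Fin 2, nWr hBF4 K (orbW a) ∈ chevF4.monomialSubgroup K :=
    fun a => Δ.nWr_mem_monomial (fun j hj => (orbW_lt a j hj).2)
  have hsq : ∀ a : Fin 2, nWr hBF4 K (orbW a) * nWr hBF4 K (orbW a) ∈
      chevF4.diagonalSubgroup K := by
    intro a
    rw [← nWr_append]
    apply Δ.nWr_mem_diag_of_keyEq _ (sq_key a)
    intro j hj
    rcases List.mem_append.1 hj with h | h <;> exact (orbW_lt a j h).2
  have hcN : nWr hBF4 K (orbW 0) * nWr hBF4 K (orbW 1) * (nWr hBF4 K (orbW 0))⁻¹ *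
      (nWr hBF4 K (orbW 1))⁻¹ ∈ chevF4.monomialSubgroup K :=
    Subgroup.mul_mem _ (Subgroup.mul_mem _ (Subgroup.mul_mem _ (hsN 0) (hsN 1))
      (Subgroup.inv_mem _ (hsN 0))) (Subgroup.inv_mem _ (hsN 1))
  have hcH : nWr hBF4 K (orbW 0) * nWr hBF4 K (orbW 1) * (nWr hBF4 K (orbW 0))⁻¹ *
      (nWr hBF4 K (orbW 1))⁻¹ ∈ chevF4.diagonalSubgroup K := by
    rw [← Δ.inf_eq]
    exact ⟨hmem, hcN⟩
  have h2 : nWr hBF4 K (pw 2) ∈ chevF4.diagonalSubgroup K := by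
    rw [nWr_pw]
    have e : (nWr hBF4 K (orbW 0) * nWr hBF4 K (orbW 1)) ^ 2 =
        (nWr hBF4 K (orbW 0) * nWr hBF4 K (orbW 1) * (nWr hBF4 K (orbW 0))⁻¹ *
          (nWr hBF4 K (orbW 1))⁻¹) *
        (nWr hBF4 K (orbW 1) * (nWr hBF4 K (orbW 0) * nWr hBF4 K (orbW 0)) *
          (nWr hBF4 K (orbW 1))⁻¹) * (nWr hBF4 K (orbW 1) * nWr hBF4 K (orbW 1)) := by
      generalize nWr hBF4 K (orbW 0) = x
      generalize nWr hBF4 K (orbW 1) = y
      rw [sq]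
      group
    rw [e]
    exact Subgroup.mul_mem _ (Subgroup.mul_mem _ hcH (Δ.conj_diag_mem (hsN 1) (hsq 0))) (hsq 1)
  exact Δ.nWr_not_mem_diag_of_neg (pw_lt 2) (pw_lt_eight 2 (by norm_num) (by norm_num)) h2

include hθ X hfrob hadd in
theorem irreducible_F4 : (bnPair' (twF4 hθ X hfrob hadd)).Irreducible := by
  intro 𝒥 h𝒥S h𝒥 h𝒥'
  obtain ⟨s, hs⟩ := h𝒥
  obtain ⟨t, htS, ht𝒥⟩ := h𝒥'
  obtain ⟨a, ha⟩ := h𝒥S hs
  obtain ⟨b, hb⟩ := htS
  refine ⟨s, hs, t, ⟨⟨b, hb⟩, ht𝒥⟩, ?_⟩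
  intro hmem
  change _ ∈ B1 (ctxF4 hθ X) (twistedF4 K θ) at hmem
  rw [mem_B1] at hmem
  simp only [Subgroup.coe_mul, Subgroup.coe_inv] at hmem
  rw [ha, hb] at hmem
  have hmem' : nWr hBF4 K (orbW a) * nWr hBF4 K (orbW b) * (nWr hBF4 K (orbW a))⁻¹ *
      (nWr hBF4 K (orbW b))⁻¹ ∈ chevF4.borelSubgroup K := hmem
  have hab : a ≠ b := by
    rintro rfl
    apply ht𝒥
    have : t = s := Subtype.ext (by rw [ha, hb])
    rw [this]; exact hs
  fin_cases a <;> fin_cases b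
  · exact hab rfl
  · exact comm_not_mem_borel hθ hmem'
  · apply comm_not_mem_borel (K := K) hθ
    have e : nWr hBF4 K (orbW 0) * nWr hBF4 K (orbW 1) * (nWr hBF4 K (orbW 0))⁻¹ *
        (nWr hBF4 K (orbW 1))⁻¹ = (nWr hBF4 K (orbW 1) * nWr hBF4 K (orbW 0) *
          (nWr hBF4 K (orbW 1))⁻¹ * (nWr hBF4 K (orbW 0))⁻¹)⁻¹ := by group
    rw [e]
    exact Subgroup.inv_mem _ hmem'
  · exact hab rfl

include hθ X hfrob hadd in
/-- Tits' simplicity criterion applied to `²F₄` -/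
theorem isSimpleGroup_F4 (hperf : commutator ↥(twistedF4 K θ) = ⊤) :
    IsSimpleGroup ↥(twistedF4 K θ) ∧ ¬ IsMulCommutative ↥(twistedF4 K θ) := by
  have T := twF4 hθ X hfrob hadd
  have hnt : Nontrivial ↥(twistedF4 K θ) := by
    have hs : (⟨nWr hBF4 K (orbW 0), nJ_mem hθ 0⟩ : ↥(twistedF4 K θ)) ∈
        (bnPair' (twF4 hθ X hfrob hadd)).S := ⟨0, rfl⟩
    refine ⟨⟨⟨nWr hBF4 K (orbW 0), nJ_mem hθ 0⟩, 1, ?_⟩⟩
    intro h
    apply Cfsg.Agent.Helper2.BN.not_mem_B_of_mem_S (P := bnPair' (twF4 hθ X hfrob hadd)) hs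
    rw [h]
    exact Subgroup.one_mem _
  have hsolv : Group.IsSolvable ↥(chevF4.borelSubgroup K) :=
    Cfsg.Agent.S1050.result chevF4 (by simp)
  have hsolv' : Group.IsSolvable ↥((bnPair' (twF4 hθ X hfrob hadd)).B) := by
    change Group.IsSolvable ↥((chevF4.borelSubgroup K ⊓ twistedF4 K θ).subgroupOf (twistedF4 K θ))
    have h1 : Group.IsSolvable ↥(chevF4.borelSubgroup K ⊓ twistedF4 K θ) :=
      Group.isSolvable_of_isSolvable_injective
        (f := Subgroup.inclusion (inf_le_left : chevF4.borelSubgroup K ⊓ twistedF4 K θ ≤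
          chevF4.borelSubgroup K))
        (Subgroup.inclusion_injective _)
    exact Group.isSolvable_of_isSolvable_injective
      (f := (Subgroup.subgroupOfEquivOfLe
        (inf_le_right : chevF4.borelSubgroup K ⊓ twistedF4 K θ ≤ twistedF4 K θ)).toMonoidHom)
      (MulEquiv.injective _)
  refine ⟨Cfsg.Agent.Helper2.BN.isSimpleGroup_of_irreducible (bnPair' (twF4 hθ X hfrob hadd))
    (irreducible_F4 hθ X hfrob hadd) hsolv' hperf (core_F4 hθ), ?_⟩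
  intro hcomm
  rw [← commutator_eq_bot_iff, hperf] at hcomm
  exact top_ne_bot hcomm

end main

section card

variable [Fintype K] {m : ℕ} (hK : Fintype.card K = 2 ^ (2 * m + 1))

include hK in
theorem isSimpleGroup_main (hm : 1 ≤ m) :
    IsSimpleGroup ↥(twistedF4 K (2 ^ m)) ∧ ¬ IsMulCommutative ↥(twistedF4 K (2 ^ m)) := by
  have := charP_two hK
  obtain ⟨X⟩ := exists_sig (K := K) m
  exact isSimpleGroup_F4 (theta_ne m) X (frob_card hK) (add_pow_card hK)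
    (Cfsg.Agent.Helper2.Tw.twistedF4_perfect hK hm)

end card

end Cfsg.Agent.Helper11.TwF4
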