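import Mathlib
import Cfsg.Agent.Helper11.TwBNE
import Cfsg.Agent.Helper11.TwBNMain
import Cfsg.Agent.S1050

/-!
# Simplicity of `²E₆(q)` and `³D₄(q)` from Tits' criterion (given perfectness and the core of `B¹`)
-/

set_option autoImplicit false
set_option linter.unusedSectionVars false
set_option linter.unusedVariables false

namespace Cfsg.Agent.Helper11.TwSimpleMain

open Cfsg.Lie Cfsg.Agent.Helper6 Cfsg.Agent.Helper11.TwReach Cfsg.Agent.Helper11.TwMain
  Cfsg.Agent.Helper11.TwBND Cfsg.Agent.Helper11.TwBNE Cfsg.Agent.Helper11.TwBNMain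

variable {K : Type*} [Field K]

/-- the diagram of the orbits of `²E₆` (type `F₄`) as a path -/
def path_E6 : List (List ℕ) := [[1], [3], [2, 4], [0, 5]]

theorem hpath_E6 : ∀ J, J ∈ path_E6 ↔ J ∈ orbs_E6 := by
  intro J
  simp only [path_E6, orbs_E6, List.mem_cons, List.not_mem_nil, or_false]
  tauto

set_option maxRecDepth 100000 in
theorem hadj_E6 : ∀ e ∈ path_E6.zip path_E6.tail, ∃ r, r < chevE6.nroots ∧ chevE6.nroots / 2 ≤ r ∧
    wJ4 chevE6 e.1 e.2 r < chevE6.nroots / 2 := by decide +kernel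

/-- the diagram of the orbits of `³D₄` (type `G₂`) as a path -/
def path_D4 : List (List ℕ) := [[1], [0, 2, 3]]

theorem hpath_D4 : ∀ J, J ∈ path_D4 ↔ J ∈ orbs_D4 := by
  intro J
  simp only [path_D4, orbs_D4, List.mem_cons, List.not_mem_nil, or_false]

set_option maxRecDepth 100000 in
theorem hadj_D4 : ∀ e ∈ path_D4.zip path_D4.tail, ∃ r, r < chevD4.nroots ∧ chevD4.nroots / 2 ≤ r ∧
    wJ4 chevD4 e.1 e.2 r < chevD4.nroots / 2 := by decide +kernel

/-- `²E₆(q)` is simple, given that it is perfect and that the core of `B¹` is trivial -/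
theorem twistedE6_simple [Fintype K] {q : ℕ} (hq : IsPrimePow q) (hK : Fintype.card K = q ^ 2)
    (hperf : commutator ↥(twistedE6 K q) = ⊤)
    (hcore : ((chevE6.borelSubgroup K ⊓ twistedE6 K q).subgroupOf (twistedE6 K q)).normalCore = ⊥) :
    IsSimpleGroup ↥(twistedE6 K q) ∧ ¬ IsMulCommutative ↥(twistedE6 K q) := by
  obtain ⟨f, hfq⟩ := TwField.exists_frob hq (by norm_num) hK
  have hf : ∀ x, f (f x) = x := fun x => TwField.frob_iterate hK f hfq x
  exact isSimpleGroup (twData_E6 f hfq hf) path_E6 hpath_E6 hadj_E6 (by simp [orbs_E6])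
    (Cfsg.Agent.S1050.result chevE6 (by simp)) hperf hcore

/-- `³D₄(q)` is simple, given that it is perfect and that the core of `B¹` is trivial -/
theorem twistedD4_simple [Fintype K] {q : ℕ} (hq : IsPrimePow q) (hK : Fintype.card K = q ^ 3)
    (hperf : commutator ↥(twistedD4 K q) = ⊤)
    (hcore : ((chevD4.borelSubgroup K ⊓ twistedD4 K q).subgroupOf (twistedD4 K q)).normalCore = ⊥) :
    IsSimpleGroup ↥(twistedD4 K q) ∧ ¬ IsMulCommutative ↥(twistedD4 K q) := by
  obtain ⟨f, hfq⟩ := TwField.exists_frob hq (by norm_num) hK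
  have hf : ∀ x, f (f (f x)) = x := fun x => TwField.frob_iterate hK f hfq x
  exact isSimpleGroup (twData_D4 f hfq hf) path_D4 hpath_D4 hadj_D4 (by simp [orbs_D4])
    (Cfsg.Agent.S1050.result chevD4 (by simp)) hperf hcore

end Cfsg.Agent.Helper11.TwSimpleMain
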