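import Mathlib
import Cfsg.Agent.Helper11.TwBNE
import Cfsg.Agent.S0311

/-!
# Words in the elements `n_J` and their action on the root subgroups

A word in the `n_J` whose permutation of the roots makes a positive root negative is not in `B`;
a word whose permutation of the roots is trivial lies in `H`.
-/

set_option autoImplicit false
set_option linter.unusedSectionVars false
set_option linter.unusedVariables false

namespace Cfsg.Agent.Helper11.TwWeylA

open Cfsg.Lie Cfsg.Agent.Helper6 Cfsg.Agent.Helper11.ChevGraphAut Cfsg.Agent.Helper11.TwUProd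
  Cfsg.Agent.Helper11.TwSigma Cfsg.Agent.Helper11.TwFix Cfsg.Agent.Helper11.TwCtx
  Cfsg.Agent.Helper11.TwReach Cfsg.Agent.Helper11.TwBNA Cfsg.Agent.Helper11.TwBNB
  Cfsg.Agent.Helper11.TwBNC Cfsg.Agent.Helper11.TwBND Cfsg.Agent.Helper11.TwBNE

variable {D : ChevalleyDatum} {F : Type*} [Field F]

/-- the permutation of the root indices of a word in the `w_J` -/
def wL (D : ChevalleyDatum) : List (List ℕ) → ℕ → ℕ
  | [], r => r
  | J :: L, r => wJ D J (wL D L r)

/-- the product of the `n_J` over a word -/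
def nL (hB : BasicOK D) (L : List (List ℕ)) : GL D.Idx F := (L.map fun J => nJ hB J).prod

theorem nL_cons (hB : BasicOK D) (J : List ℕ) (L : List (List ℕ)) :
    nL (F := F) hB (J :: L) = nJ hB J * nL hB L := by
  simp [nL]

theorem nL_append (hB : BasicOK D) (L₁ L₂ : List (List ℕ)) :
    nL (F := F) hB (L₁ ++ L₂) = nL hB L₁ * nL hB L₂ := by
  simp [nL]

/-- the word `(J J')^k` -/
def powWord (J J' : List ℕ) : ℕ → List (List ℕ)
  | 0 => []
  | k + 1 => J :: J' :: powWord J J' k

theorem nL_powWord (hB : BasicOK D) (J J' : List ℕ) (k : ℕ) :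
    nL (F := F) hB (powWord J J' k) = (nJ hB J * nJ hB J') ^ k := by
  induction k with
  | zero => simp [powWord, nL]
  | succ k ih => rw [powWord, nL_cons, nL_cons, ih, pow_succ', mul_assoc]

theorem mem_powWord {J J' : List ℕ} {k : ℕ} {I : List ℕ} (h : I ∈ powWord J J' k) :
    I = J ∨ I = J' := by
  induction k with
  | zero => simp [powWord] at h
  | succ k ih =>
    simp only [powWord, List.mem_cons] at h
    rcases h with h | h | h
    · exact Or.inl h
    · exact Or.inr h
    · exact ih h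

section conj

variable (hB : BasicOK D) (hAll : ∀ i < D.rank, SimpleAll D i)
include hB hAll

theorem wL_lt {L : List (List ℕ)} (hL : ∀ J ∈ L, ∀ i ∈ J, i < D.rank) {s : ℕ} (hs : s < D.nroots) :
    wL D L s < D.nroots := by
  induction L with
  | nil => exact hs
  | cons J L ih =>
    exact wJ_lt hB hAll (hL J List.mem_cons_self)
      (ih (fun I hI => hL I (List.mem_cons_of_mem _ hI)))

theorem exists_nL_conj : ∀ (L : List (List ℕ)), (∀ J ∈ L, ∀ i ∈ J, i < D.rank) →
    ∀ {s : ℕ}, s < D.nroots → ∀ t : F, ∃ c : F, c * c = 1 ∧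
      nL hB L * xU hB s t * (nL (F := F) hB L)⁻¹ = xU hB (wL D L s) (c * t) := by
  intro L
  induction L with
  | nil => intro _ s _ t; exact ⟨1, by simp, by simp [nL, wL]⟩
  | cons J L ih =>
    intro hL s hs t
    have hL' : ∀ I ∈ L, ∀ i ∈ I, i < D.rank := fun I hI => hL I (List.mem_cons_of_mem _ hI)
    obtain ⟨c, hc, e⟩ := ih hL' hs t
    have hlt := wL_lt hB hAll hL' hs
    obtain ⟨c', hc', e'⟩ := exists_nJ_conj hB hAll J (hL J List.mem_cons_self) hlt (c * t)
    refine ⟨c' * c, ?_, ?_⟩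
    · calc _ = (c' * c') * (c * c) := by ring
        _ = 1 := by rw [hc, hc', mul_one]
    · rw [nL_cons]
      have : nJ hB J * nL hB L * xU hB s t * (nJ hB J * nL (F := F) hB L)⁻¹ =
          nJ hB J * (nL hB L * xU hB s t * (nL (F := F) hB L)⁻¹) * (nJ (F := F) hB J)⁻¹ := by group
      rw [this, e, e', mul_assoc]
      rfl

end conj

section main

variable {X : Ctx D F} {G1 : Subgroup (GL D.Idx F)} {orbs : List (List ℕ)} (T : TwData X G1 orbs)
include T

theorem nL_mem_monomial {L : List (List ℕ)} (hL : ∀ J ∈ L, ∀ i ∈ J, i < D.rank) :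
    nL (F := F) X.hB L ∈ D.monomialSubgroup F := by
  unfold nL
  apply Subgroup.list_prod_mem
  intro g hg
  rw [List.mem_map] at hg
  obtain ⟨J, hJ, rfl⟩ := hg
  exact nJ_mem_monomial X T.bn T.hsp (hL J hJ)

/-- a word making a positive root negative is not in `B` -/
theorem nL_not_mem_borel {L : List (List ℕ)} (hL : ∀ J ∈ L, ∀ i ∈ J, i < D.rank) {r : ℕ}
    (hr : r < D.nroots) (hpos : D.nroots / 2 ≤ r) (hneg : wL D L r < D.nroots / 2) :
    nL (F := F) X.hB L ∉ D.borelSubgroup F := by
  intro hw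
  obtain ⟨c, hc, e⟩ := exists_nL_conj X.hB X.hAll L hL hr (1 : F)
  have hx : xU X.hB r (1 : F) ∈ D.borelSubgroup F := by
    unfold ChevalleyDatum.borelSubgroup ChevalleyDatum.posUnipotent
    apply Subgroup.mem_sup_left
    exact Subgroup.subset_closure ⟨r, 1, (X.hsign r hr).2 hpos, rfl⟩
  have hconj := Subgroup.mul_mem _ (Subgroup.mul_mem _ hw hx) (Subgroup.inv_mem _ hw)
  rw [e] at hconj
  have h0 := T.bn.eq_zero_of_xU_neg_mem_borel (wL_lt X.hB X.hAll hL hr) hneg hconj
  rw [mul_one] at h0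
  rw [h0, mul_zero] at hc
  exact zero_ne_one hc

/-- the normaliser of `U` in the Chevalley group is `B` -/
theorem normalizer_posUnipotent' :
    Subgroup.normalizer (((D.posUnipotent F).subgroupOf (D.group F) : Subgroup ↥(D.group F)) :
      Set ↥(D.group F)) = (D.borelSubgroup F).subgroupOf (D.group F) := by
  have Δ := T.bn
  have hB := Δ.hB
  set P : Cfsg.BNPair ↥(D.group F) := Δ.bnPair with hP
  have hPB : P.B = (D.borelSubgroup F).subgroupOf (D.group F) := rfl
  have hPS : P.S = {n : ↥(D.group F) | ∃ i < D.rank,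
      ((n : GL D.Idx F) : Matrix D.Idx D.Idx F) = D.nMat F (D.simple i) 1} := rfl
  have hnormH := diagonal_le_normalizer_posUnipotent (F := F) X.hB X.hAll Δ.hAdd Δ.hH
  have hBle : P.B ≤ Subgroup.normalizer (((D.posUnipotent F).subgroupOf (D.group F) :
      Subgroup ↥(D.group F)) : Set ↥(D.group F)) := by
    intro b hb
    rw [hPB, Subgroup.mem_subgroupOf] at hb
    have hb' : (b : GL D.Idx F) ∈ Subgroup.normalizer ((D.posUnipotent F : Subgroup (GL D.Idx F)) :
        Set (GL D.Idx F)) := by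
      have : D.borelSubgroup F ≤ Subgroup.normalizer ((D.posUnipotent F : Subgroup (GL D.Idx F)) :
          Set (GL D.Idx F)) := by
        unfold ChevalleyDatum.borelSubgroup
        exact sup_le Subgroup.le_normalizer hnormH
      exact this hb
    rw [Subgroup.mem_normalizer_iff] at hb' ⊢
    intro u
    simp only [Subgroup.mem_subgroupOf]
    have := hb' (u : GL D.Idx F)
    simpa using this
  obtain ⟨J, hJ, hM⟩ := Cfsg.Agent.S0311.result P _ hBle
  have hJe : J = ∅ := by
    by_contra hne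
    obtain ⟨s, hs⟩ := Set.nonempty_iff_ne_empty.2 hne
    have hsS := hJ hs
    rw [hPS] at hsS
    obtain ⟨i, hi, hsv⟩ := hsS
    have hA := Δ.hAll i hi
    have hp : D.simple i < D.nroots := hA.hS.1
    have hsn : (s : GL D.Idx F) = nU hB (D.simple i) (one_ne_zero (α := F)) :=
      Units.ext (by rw [hsv, nU_val])
    have hsM : s ∈ P.parabolic J := by
      unfold Cfsg.BNPair.parabolic
      exact Subgroup.mem_sup_right (Subgroup.subset_closure hs)
    rw [← hM, Subgroup.mem_normalizer_iff] at hsM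
    have hx : xU hB (D.simple i) (1 : F) ∈ D.posUnipotent F :=
      Subgroup.subset_closure ⟨D.simple i, 1, (Δ.hsign' _ hp).2 (Δ.hpN i hi), rfl⟩
    have hxG : xU hB (D.simple i) (1 : F) ∈ D.group F := xU_mem_group hB hp 1
    have h1 := (hsM ⟨_, hxG⟩).1 (by rw [Subgroup.mem_subgroupOf]; exact hx)
    rw [Subgroup.mem_subgroupOf] at h1
    simp only [Subgroup.coe_mul, Subgroup.coe_inv, hsn] at h1
    rw [nU_conj_xU hB hA hp] at h1
    have hw : wR D (D.simple i) (D.simple i) = D.neg (D.simple i) := by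
      unfold wR; rw [if_pos rfl]
    rw [hw] at h1
    have hnp : D.neg (D.simple i) < D.nroots := (hB.neg _ hp).1
    have h2 : xU hB (D.neg (D.simple i)) (((etaR D (D.simple i) (D.simple i) : ℤ) : F) * 1) ∈
        D.borelSubgroup F := by
      unfold ChevalleyDatum.borelSubgroup
      exact Subgroup.mem_sup_left h1
    have h3 := Δ.eq_zero_of_xU_neg_mem_borel hnp (Δ.hnp hi) h2
    rcases (hA.hE.2 _ hp).1 with h4 | h4 <;> rw [h4] at h3 <;> simp at h3
  rw [hM, hJe]
  simp [Cfsg.BNPair.parabolic, hPB]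

/-- a word acting trivially on the roots lies in `H` -/
theorem nL_mem_diagonal {L : List (List ℕ)} (hL : ∀ J ∈ L, ∀ i ∈ J, i < D.rank)
    (hid : ∀ r < D.nroots, wL D L r = r) : nL (F := F) X.hB L ∈ D.diagonalSubgroup F := by
  set n := nL (F := F) X.hB L with hn
  have hnN : n ∈ D.monomialSubgroup F := nL_mem_monomial T hL
  have hconj : ∀ r < D.nroots, ∀ t : F, ∃ c : F, c * c = 1 ∧
      n * xU X.hB r t * n⁻¹ = xU X.hB r (c * t) := by
    intro r hr t
    obtain ⟨c, hc, e⟩ := exists_nL_conj X.hB X.hAll L hL hr t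
    rw [hid r hr] at e
    exact ⟨c, hc, e⟩
  have hconj' : ∀ r < D.nroots, ∀ t : F, ∃ c : F, n⁻¹ * xU X.hB r t * n = xU X.hB r (c * t) := by
    intro r hr t
    obtain ⟨c, hc, e⟩ := hconj r hr t
    rcases mul_self_eq_one_iff.1 hc with rfl | rfl
    · refine ⟨1, ?_⟩
      rw [one_mul] at e ⊢
      have : n⁻¹ * xU X.hB r t * n = n⁻¹ * (n * xU X.hB r t * n⁻¹) * n := by rw [e]
      rw [this]; group
    · refine ⟨-1, ?_⟩
      rw [neg_one_mul] at e ⊢
      have e2 : n * (xU X.hB r t)⁻¹ * n⁻¹ = (xU X.hB r (-t))⁻¹ := by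
        rw [← e]; group
      rw [xU_inv, xU_inv, neg_neg] at e2
      have : n⁻¹ * xU X.hB r t * n = n⁻¹ * (n * xU X.hB r (-t) * n⁻¹) * n := by rw [e2]
      rw [this]; group
  have hU1 : ∀ u ∈ D.posUnipotent F, n * u * n⁻¹ ∈ D.posUnipotent F := by
    intro u hu
    unfold ChevalleyDatum.posUnipotent at hu
    induction hu using Subgroup.closure_induction with
    | mem g hg =>
      obtain ⟨r, t, hr, hg⟩ := hg
      have hgr : g = xU X.hB r t := Units.ext (by rw [hg, xU_val])
      obtain ⟨c, -, e⟩ := hconj r hr.1 t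
      rw [hgr, e]
      exact Subgroup.subset_closure ⟨r, _, hr, rfl⟩
    | one => simp
    | mul a b _ _ iha ihb =>
      have : n * (a * b) * n⁻¹ = (n * a * n⁻¹) * (n * b * n⁻¹) := by group
      rw [this]; exact Subgroup.mul_mem _ iha ihb
    | inv a _ iha =>
      have : n * a⁻¹ * n⁻¹ = (n * a * n⁻¹)⁻¹ := by group
      rw [this]; exact Subgroup.inv_mem _ iha
  have hU2 : ∀ u ∈ D.posUnipotent F, n⁻¹ * u * n ∈ D.posUnipotent F := by
    intro u hu
    unfold ChevalleyDatum.posUnipotent at hu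
    induction hu using Subgroup.closure_induction with
    | mem g hg =>
      obtain ⟨r, t, hr, hg⟩ := hg
      have hgr : g = xU X.hB r t := Units.ext (by rw [hg, xU_val])
      obtain ⟨c, e⟩ := hconj' r hr.1 t
      rw [hgr, e]
      exact Subgroup.subset_closure ⟨r, _, hr, rfl⟩
    | one => simp
    | mul a b _ _ iha ihb =>
      have : n⁻¹ * (a * b) * n = (n⁻¹ * a * n) * (n⁻¹ * b * n) := by group
      rw [this]; exact Subgroup.mul_mem _ iha ihb
    | inv a _ iha =>
      have : n⁻¹ * a⁻¹ * n = (n⁻¹ * a * n)⁻¹ := by group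
      rw [this]; exact Subgroup.inv_mem _ iha
  have hnG : n ∈ D.group F := T.bn.monomial_le_group hnN
  have hnorm : (⟨n, hnG⟩ : ↥(D.group F)) ∈ Subgroup.normalizer
      (((D.posUnipotent F).subgroupOf (D.group F) : Subgroup ↥(D.group F)) : Set ↥(D.group F)) := by
    rw [Subgroup.mem_normalizer_iff]
    intro u
    simp only [Subgroup.mem_subgroupOf, Subgroup.coe_mul, Subgroup.coe_inv]
    constructor
    · intro hu; exact hU1 _ hu
    · intro hu
      have := hU2 _ hu
      have e : n⁻¹ * (n * (u : GL D.Idx F) * n⁻¹) * n = u := by group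
      rwa [e] at this
  rw [normalizer_posUnipotent' T, Subgroup.mem_subgroupOf] at hnorm
  rw [← T.bn.inf_eq]
  exact ⟨hnorm, hnN⟩

end main

end Cfsg.Agent.Helper11.TwWeylA
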