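import Mathlib
import Cfsg.Agent.Helper11.TwWeylA
import Cfsg.Agent.Helper14.ExchCoxBN

/-!
# The Weyl group `N¹/H¹` of a twisted group is the Coxeter group of the diagram of orbits
-/

set_option autoImplicit false
set_option linter.unusedSectionVars false
set_option linter.unusedVariables false

namespace Cfsg.Agent.Helper11.TwWeylB

open Cfsg.Lie Cfsg.Agent.Helper6 Cfsg.Agent.Helper11.ChevGraphAut Cfsg.Agent.Helper11.TwUProd
  Cfsg.Agent.Helper11.TwSigma Cfsg.Agent.Helper11.TwFix Cfsg.Agent.Helper11.TwCtx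
  Cfsg.Agent.Helper11.TwReach Cfsg.Agent.Helper11.TwBNA Cfsg.Agent.Helper11.TwBNB
  Cfsg.Agent.Helper11.TwBNC Cfsg.Agent.Helper11.TwBND Cfsg.Agent.Helper11.TwBNE
  Cfsg.Agent.Helper11.TwWeylA Cfsg.Agent.Helper14.ExchCox

variable {D : ChevalleyDatum} {F : Type*} [Field F]

/-- `(w_J w_J')^m = 1` on the roots, and `(w_J w_J')^k`, `0 < k < m`, makes some positive root
negative -/
def PairOK (D : ChevalleyDatum) (J J' : List ℕ) (m : ℕ) : Prop :=
  0 < m ∧ (∀ r < D.nroots, wL D (powWord J J' m) r = r) ∧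
  ∀ k < m, 0 < k → ∃ r, r < D.nroots ∧ D.nroots / 2 ≤ r ∧
    wL D (powWord J J' k) r < D.nroots / 2

instance (D : ChevalleyDatum) (J J' : List ℕ) (m : ℕ) : Decidable (PairOK D J J' m) := by
  unfold PairOK; infer_instance

/-- `H = B ∩ N` is normal in `N` -/
theorem normal_H {G : Type*} [Group G] (P : Cfsg.BNPair G) :
    ((P.B ⊓ P.N).subgroupOf P.N).Normal := by
  refine ⟨fun t ht n => ?_⟩
  rw [Subgroup.mem_subgroupOf] at ht ⊢
  simp only [Subgroup.coe_mul, Subgroup.coe_inv]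
  exact Cfsg.Agent.Helper2.BN.conj_mem_H P n.2 ht

section main

variable {X : Ctx D F} {G1 : Subgroup (GL D.Idx F)} {orbs : List (List ℕ)} (T : TwData X G1 orbs)
include T

/-- the generator of `G¹` attached to an orbit -/
def sJ {J : List ℕ} (hJ : J ∈ orbs) : ↥G1 := ⟨nJ X.hB J, nJ_mem T hJ⟩

theorem sJ_mem_S {J : List ℕ} (hJ : J ∈ orbs) : sJ T hJ ∈ (bnPair' T).S := ⟨J, hJ, rfl⟩

theorem nJ_inj {J J' : List ℕ} (hJ : J ∈ orbs) (hJ' : J' ∈ orbs)
    (h : nJ (F := F) X.hB J = nJ X.hB J') : J = J' := by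
  by_contra hJJ
  obtain ⟨i, hiJ', hiJ⟩ := T.hdisj J hJ J' hJ' hJJ
  have hi : i < D.rank := (T.horb J' hJ').lt i hiJ'
  have hp := (X.hAll i hi).hS.1
  have h1 := nJ_conj_xU (F := F) X.hB X.hAll (T.horb J' hJ').lt hp 1
  obtain ⟨e1, e2⟩ := T.hwJneg J' hJ' i hiJ'
  rw [e1, e2, ← h, nJ_conj_xU (F := F) X.hB X.hAll (T.horb J hJ).lt hp 1] at h1
  have hpos := T.hwJpos J hJ i hi hiJ
  have hlt := wJ_lt X.hB X.hAll (T.horb J hJ).lt hp
  have hU : xU X.hB (D.neg (D.simple i)) (((-1 : ℤ) : F) * 1) ∈ D.borelSubgroup F := by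
    rw [← h1]
    unfold ChevalleyDatum.borelSubgroup
    apply Subgroup.mem_sup_left
    exact Subgroup.subset_closure ⟨_, _, (X.hsign _ hlt).2 hpos, rfl⟩
  have h0 := T.bn.eq_zero_of_xU_neg_mem_borel (X.hB.neg _ hp).1 (T.bn.hnp hi) hU
  simp at h0

/-- the order of `w_J w_J'` in the Weyl group -/
theorem orderOf_sgen_mul [hN : (((bnPair' T).B ⊓ (bnPair' T).N).subgroupOf (bnPair' T).N).Normal]
    {J J' : List ℕ} (hJ : J ∈ orbs) (hJ' : J' ∈ orbs) {m : ℕ} (h : PairOK D J J' m) :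
    orderOf (sgen (bnPair' T) ⟨sJ T hJ, sJ_mem_S T hJ⟩ *
      sgen (bnPair' T) ⟨sJ T hJ', sJ_mem_S T hJ'⟩) = m := by
  obtain ⟨hm, hid, hlt⟩ := h
  set P := bnPair' T with hP
  have hsN : sJ T hJ ∈ P.N := P.subset (sJ_mem_S T hJ)
  have hs'N : sJ T hJ' ∈ P.N := P.subset (sJ_mem_S T hJ')
  have hL : ∀ k, ∀ I ∈ powWord J J' k, ∀ i ∈ I, i < D.rank := by
    intro k I hI
    rcases mem_powWord hI with rfl | rfl
    · exact (T.horb _ hJ).lt
    · exact (T.horb _ hJ').lt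
  -- powers of the product
  have hpow : ∀ k : ℕ, (sgen P ⟨sJ T hJ, sJ_mem_S T hJ⟩ * sgen P ⟨sJ T hJ', sJ_mem_S T hJ'⟩) ^ k = 1 ↔
      nL (F := F) X.hB (powWord J J' k) ∈ D.borelSubgroup F := by
    intro k
    have e : sgen P ⟨sJ T hJ, sJ_mem_S T hJ⟩ * sgen P ⟨sJ T hJ', sJ_mem_S T hJ'⟩ =
        QuotientGroup.mk' ((P.B ⊓ P.N).subgroupOf P.N)
          (⟨sJ T hJ, hsN⟩ * ⟨sJ T hJ', hs'N⟩) := rfl
    rw [e, ← map_pow, QuotientGroup.mk'_apply, QuotientGroup.eq_one_iff, Subgroup.mem_subgroupOf,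
      nL_powWord]
    simp only [Subgroup.coe_pow, Subgroup.coe_mul]
    constructor
    · intro hmem
      have := mem_B1.1 hmem.1
      rw [Subgroup.coe_pow, Subgroup.coe_mul] at this
      exact this
    · intro hmem
      refine ⟨?_, P.N.pow_mem (P.N.mul_mem hsN hs'N) k⟩
      apply mem_B1.2
      rw [Subgroup.coe_pow, Subgroup.coe_mul]
      exact hmem
  rw [orderOf_eq_iff hm]
  refine ⟨(hpow m).2 (T.bn.diag_le_borel (nL_mem_diagonal T (hL m) hid)), ?_⟩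
  intro k hkm hk hone
  obtain ⟨r, hr, hpos, hneg⟩ := hlt k hkm hk
  exact nL_not_mem_borel T (hL k) hr hpos hneg ((hpow k).1 hone)

end main

section cox

variable {X : Ctx D F} {G1 : Subgroup (GL D.Idx F)} {orbs : List (List ℕ)} (T : TwData X G1 orbs)
  (path : List (List ℕ)) (hpath : ∀ J, J ∈ path ↔ J ∈ orbs) (hnd : path.Nodup)
  {n : ℕ} (hlen : path.length = n) (M₀ : CoxeterMatrix (Fin n))
  (hM₀ : ∀ i j : Fin n, PairOK D (path.getD i []) (path.getD j []) (M₀ i j))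
include T hpath hnd hlen hM₀

theorem getD_mem (i : Fin n) : path.getD i [] ∈ orbs := by
  have hi : i.val < path.length := by rw [hlen]; exact i.isLt
  rw [List.getD_eq_getElem _ _ hi]
  exact (hpath _).1 (List.getElem_mem hi)

/-- the generators of the Weyl group, indexed by the path -/
def gidx (i : Fin n) : ↥(bnPair' T).S :=
  ⟨sJ T (getD_mem T path hpath hnd hlen M₀ hM₀ i),
    sJ_mem_S T (getD_mem T path hpath hnd hlen M₀ hM₀ i)⟩

theorem gidx_bijective : Function.Bijective (gidx T path hpath hnd hlen M₀ hM₀) := by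
  constructor
  · intro i j hij
    have h1 : nJ (F := F) X.hB (path.getD i []) = nJ X.hB (path.getD j []) :=
      congrArg (fun s : ↥(bnPair' T).S => ((s : ↥G1) : GL D.Idx F)) hij
    have h2 := nJ_inj T (getD_mem T path hpath hnd hlen M₀ hM₀ i)
      (getD_mem T path hpath hnd hlen M₀ hM₀ j) h1
    have hi : i.val < path.length := by rw [hlen]; exact i.isLt
    have hj : j.val < path.length := by rw [hlen]; exact j.isLt
    rw [List.getD_eq_getElem _ _ hi, List.getD_eq_getElem _ _ hj] at h2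
    exact Fin.ext ((hnd.getElem_inj_iff).1 h2)
  · rintro ⟨s, J, hJ, hs⟩
    obtain ⟨k, hk, rfl⟩ := List.getElem_of_mem ((hpath J).2 hJ)
    refine ⟨⟨k, by rw [← hlen]; exact hk⟩, ?_⟩
    apply Subtype.ext
    apply Subtype.ext
    show nJ X.hB (path.getD k []) = _
    rw [hs, List.getD_eq_getElem _ _ hk]

/-- the index equivalence -/
noncomputable def eIdx : ↥(bnPair' T).S ≃ Fin n :=
  (Equiv.ofBijective _ (gidx_bijective T path hpath hnd hlen M₀ hM₀)).symm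

theorem eIdx_symm (i : Fin n) :
    (eIdx T path hpath hnd hlen M₀ hM₀).symm i = gidx T path hpath hnd hlen M₀ hM₀ i := rfl

theorem reindex_eq [hN : (((bnPair' T).B ⊓ (bnPair' T).N).subgroupOf (bnPair' T).N).Normal] :
    (ordMatrix (sgen (bnPair' T)) hyp_sgen sgen_injective).reindex
      (eIdx T path hpath hnd hlen M₀ hM₀) = M₀ := by
  apply CoxeterMatrix.ext
  ext i j
  rw [show ((ordMatrix (sgen (bnPair' T)) hyp_sgen sgen_injective).reindex
      (eIdx T path hpath hnd hlen M₀ hM₀)).M i j =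
      (ordMatrix (sgen (bnPair' T)) hyp_sgen sgen_injective)
        ((eIdx T path hpath hnd hlen M₀ hM₀).symm i) ((eIdx T path hpath hnd hlen M₀ hM₀).symm j)
      from rfl, eIdx_symm, eIdx_symm, ordMatrix_apply]
  exact orderOf_sgen_mul T (getD_mem T path hpath hnd hlen M₀ hM₀ i)
    (getD_mem T path hpath hnd hlen M₀ hM₀ j) (hM₀ i j)

theorem exists_equiv [hN : (((bnPair' T).B ⊓ (bnPair' T).N).subgroupOf (bnPair' T).N).Normal] :
    Nonempty ((↥(bnPair' T).N ⧸ ((bnPair' T).B ⊓ (bnPair' T).N).subgroupOf (bnPair' T).N) ≃*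
      M₀.Group) := by
  have hM := reindex_eq T path hpath hnd hlen M₀ hM₀
  rw [← hM]
  exact ⟨(coxEquiv hyp_sgen sgen_injective).trans
    ((ordMatrix (sgen (bnPair' T)) hyp_sgen sgen_injective).reindexGroupEquiv
      (eIdx T path hpath hnd hlen M₀ hM₀)).symm⟩

/-- the inclusion of `N ∩ G¹` into the `N` of the `(B, N)`-pair -/
def incl : ↥(D.monomialSubgroup F ⊓ G1) →* ↥(bnPair' T).N where
  toFun := fun x => ⟨⟨x.1, x.2.2⟩, N1_le_N' T (mem_N1.2 x.2.1)⟩
  map_one' := rfl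
  map_mul' := fun _ _ => rfl

omit hpath hnd hlen hM₀ in
theorem incl_coe (x : ↥(D.monomialSubgroup F ⊓ G1)) :
    (((incl T x : ↥(bnPair' T).N) : ↥G1) : GL D.Idx F) = x := rfl

/-- `N¹/H¹` is the Coxeter group with matrix `M₀` -/
theorem exists_weyl_hom :
    ∃ φ : ↥(D.monomialSubgroup F ⊓ G1) →* M₀.Group, Function.Surjective φ ∧
      φ.ker = (D.diagonalSubgroup F ⊓ G1).subgroupOf (D.monomialSubgroup F ⊓ G1) := by
  haveI hN : (((bnPair' T).B ⊓ (bnPair' T).N).subgroupOf (bnPair' T).N).Normal :=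
    normal_H (bnPair' T)
  obtain ⟨ψ⟩ := exists_equiv T path hpath hnd hlen M₀ hM₀
  refine ⟨ψ.toMonoidHom.comp ((QuotientGroup.mk'
    (((bnPair' T).B ⊓ (bnPair' T).N).subgroupOf (bnPair' T).N)).comp (incl T)), ?_, ?_⟩
  · intro w
    obtain ⟨⟨⟨g, hg⟩, hgN⟩, hq⟩ := QuotientGroup.mk'_surjective
      (((bnPair' T).B ⊓ (bnPair' T).N).subgroupOf (bnPair' T).N) (ψ.symm w)
    refine ⟨⟨g, mem_N1.1 (N'_le_N1 T hgN), hg⟩, ?_⟩
    show ψ (QuotientGroup.mk' _ (incl T _)) = w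
    have : incl T ⟨g, mem_N1.1 (N'_le_N1 T hgN), hg⟩ = ⟨⟨g, hg⟩, hgN⟩ := rfl
    rw [this, hq, MulEquiv.apply_symm_apply]
  · ext x
    rw [MonoidHom.mem_ker, Subgroup.mem_subgroupOf]
    show ψ (QuotientGroup.mk' _ (incl T x)) = 1 ↔ _
    rw [MulEquiv.map_eq_one_iff, QuotientGroup.mk'_apply, QuotientGroup.eq_one_iff,
      Subgroup.mem_subgroupOf]
    constructor
    · intro h
      refine ⟨?_, x.2.2⟩
      rw [← T.bn.inf_eq]
      have h1 : ((incl T x : ↥(bnPair' T).N) : ↥G1) ∈ B1 D F G1 := h.1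
      have h2 := mem_B1.1 h1
      exact ⟨h2, x.2.1⟩
    · intro h
      have h0 : (((incl T x : ↥(bnPair' T).N) : ↥G1) : GL D.Idx F) ∈ D.borelSubgroup F :=
        T.bn.diag_le_borel h.1
      have h1 : ((incl T x : ↥(bnPair' T).N) : ↥G1) ∈ B1 D F G1 := mem_B1.2 h0
      exact ⟨h1, (incl T x).2⟩

end cox

end Cfsg.Agent.Helper11.TwWeylB
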