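import Mathlib
import Cfsg.Agent.Helper11.TwWeylB
import Cfsg.Agent.Helper11.TwSimpleMain

/-!
# The Weyl groups of `²E₆(q)` and `³D₄(q)`: Coxeter groups of types `F₄` and `G₂`
-/

set_option autoImplicit false
set_option linter.unusedSectionVars false
set_option linter.unusedVariables false

namespace Cfsg.Agent.Helper11.TwWeylMain

open Cfsg.Lie Cfsg.Agent.Helper6 Cfsg.Agent.Helper11.TwReach Cfsg.Agent.Helper11.TwMain
  Cfsg.Agent.Helper11.TwBND Cfsg.Agent.Helper11.TwBNE Cfsg.Agent.Helper11.TwBNMain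
  Cfsg.Agent.Helper11.TwSimpleMain Cfsg.Agent.Helper11.TwWeylA Cfsg.Agent.Helper11.TwWeylB

variable {K : Type*} [Field K]

set_option maxRecDepth 100000 in
theorem pairOK_E6 : ∀ i j : Fin 4,
    PairOK chevE6 (path_E6.getD i []) (path_E6.getD j []) (CoxeterMatrix.F₄ i j) := by
  intro i j
  fin_cases i <;> fin_cases j <;> decide +kernel

set_option maxRecDepth 100000 in
theorem pairOK_D4 : ∀ i j : Fin 2,
    PairOK chevD4 (path_D4.getD i []) (path_D4.getD j []) (CoxeterMatrix.G₂ i j) := by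
  intro i j
  fin_cases i <;> fin_cases j <;> decide +kernel

/-- `N¹/H¹` of `²E₆(q)` is the Coxeter group of type `F₄` -/
theorem twistedE6_weyl [Fintype K] {q : ℕ} (hq : IsPrimePow q) (hK : Fintype.card K = q ^ 2) :
    ∃ φ : ↥(chevE6.monomialSubgroup K ⊓ twistedE6 K q) →* (CoxeterMatrix.F₄).Group,
      Function.Surjective φ ∧
      φ.ker = (chevE6.diagonalSubgroup K ⊓ twistedE6 K q).subgroupOf
        (chevE6.monomialSubgroup K ⊓ twistedE6 K q) := by
  obtain ⟨f, hfq⟩ := TwField.exists_frob hq (by norm_num) hK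
  have hf : ∀ x, f (f x) = x := fun x => TwField.frob_iterate hK f hfq x
  exact exists_weyl_hom (twData_E6 f hfq hf) path_E6 hpath_E6 (by decide) rfl CoxeterMatrix.F₄
    pairOK_E6

/-- `N¹/H¹` of `³D₄(q)` is the Coxeter group of type `G₂` -/
theorem twistedD4_weyl [Fintype K] {q : ℕ} (hq : IsPrimePow q) (hK : Fintype.card K = q ^ 3) :
    ∃ φ : ↥(chevD4.monomialSubgroup K ⊓ twistedD4 K q) →* (CoxeterMatrix.G₂).Group,
      Function.Surjective φ ∧
      φ.ker = (chevD4.diagonalSubgroup K ⊓ twistedD4 K q).subgroupOf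
        (chevD4.monomialSubgroup K ⊓ twistedD4 K q) := by
  obtain ⟨f, hfq⟩ := TwField.exists_frob hq (by norm_num) hK
  have hf : ∀ x, f (f (f x)) = x := fun x => TwField.frob_iterate hK f hfq x
  exact exists_weyl_hom (twData_D4 f hfq hf) path_D4 hpath_D4 (by decide) rfl CoxeterMatrix.G₂
    pairOK_D4

end Cfsg.Agent.Helper11.TwWeylMain
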