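import Mathlib

/-! Abstract permutation-group lemmas for the minimal index of `PSU₃(5)`:
* an element `t = [a, b]` central in a group `P` of order `125` moves exactly `25` points of every
  set of fewer than `50` points on which it acts non-trivially, `P` is transitive on the moved
  points and the point stabilisers in `P` of moved points are non-trivial;
* a double count for an equivariant family of group elements;
* fixed-point-free `5`-elements. -/

set_option autoImplicit false
set_option linter.all false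

namespace Cfsg.Agent.Helper11.U35Min

open MulAction
open scoped commutatorElement

section moved

variable {Γ Ω : Type*} [Group Γ] [MulAction Γ Ω] [Fintype Ω] [DecidableEq Ω]

/-- the set of moved points -/
def moved (t : Γ) : Finset Ω := Finset.univ.filter fun ω => t • ω ≠ ω

theorem mem_moved (t : Γ) (ω : Ω) : ω ∈ moved t ↔ t • ω ≠ ω := by
  simp [moved]

theorem moved_conj (g t : Γ) (ω : Ω) : g • ω ∈ moved (g * t * g⁻¹) ↔ ω ∈ moved t := by
  rw [mem_moved, mem_moved, mul_smul, mul_smul, inv_smul_smul]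
  constructor
  · intro h h'
    exact h (by rw [h'])
  · intro h h'
    exact h (smul_left_cancel g h')

theorem card_moved_conj (g t : Γ) : (moved (g * t * g⁻¹) : Finset Ω).card = (moved t : Finset Ω).card := by
  symm
  apply Finset.card_bij (fun ω _ => g • ω)
  · intro ω hω
    exact (moved_conj g t ω).mpr hω
  · intro ω _ ω' _ h
    exact smul_left_cancel g h
  · intro ω hω
    refine ⟨g⁻¹ • ω, ?_, smul_inv_smul g ω⟩
    rw [← moved_conj g t, smul_inv_smul]
    exact hω

end moved

section extraspecial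

variable {Γ Ω : Type*} [Group Γ] [MulAction Γ Ω] [Fintype Ω] [DecidableEq Ω]

theorem orbit_ncard_of_moved (P : Subgroup Γ) (hP : Nat.card P = 125) (a b t : Γ) (ha : a ∈ P)
    (hb : b ∈ P) (ht : t = a * b * a⁻¹ * b⁻¹) (hΩ : Fintype.card Ω < 50) (ω : Ω)
    (hω : t • ω ≠ ω) : (orbit P ω).ncard = 25 := by
  haveI : Fact (Nat.Prime 5) := ⟨by norm_num⟩
  haveI : Finite P := Nat.finite_of_card_ne_zero (by rw [hP]; norm_num)
  have htP : t ∈ P := by
    rw [ht]
    exact P.mul_mem (P.mul_mem (P.mul_mem ha hb) (P.inv_mem ha)) (P.inv_mem hb)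
  set S := stabilizer P ω with hS
  have hidx : S.index = (orbit P ω).ncard := index_stabilizer P ω
  have hmul : Nat.card S * S.index = 125 := by rw [Subgroup.card_mul_index, hP]
  have hdvd : S.index ∣ 5 ^ 3 := ⟨Nat.card S, by rw [mul_comm]; exact hmul.symm⟩
  obtain ⟨j, hj, hjk⟩ := (Nat.dvd_prime_pow (by norm_num : Nat.Prime 5)).mp hdvd
  have hle : (orbit P ω).ncard ≤ Fintype.card Ω := by
    rw [← Nat.card_eq_fintype_card]
    exact Set.ncard_le_card _
  have htS : (⟨t, htP⟩ : P) ∈ S → False := by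
    intro h
    rw [hS, mem_stabilizer_iff] at h
    exact hω h
  interval_cases j
  · -- index one
    exfalso
    have : S = ⊤ := Subgroup.index_eq_one.mp (by simpa using hjk)
    apply htS
    rw [this]
    trivial
  · -- index five
    exfalso
    have h5 : S.index = 5 := by simpa using hjk
    have hmin : S.index = (Nat.card P).minFac := by
      rw [h5, hP]
      norm_num
    haveI hN : S.Normal := Subgroup.normal_of_index_eq_minFac_card hmin
    have hcardq : Nat.card (P ⧸ S) = 5 := by
      rw [← Subgroup.index_eq_card, h5]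
    haveI : IsCyclic (P ⧸ S) := isCyclic_of_prime_card hcardq
    have hcomm : IsMulCommutative (P ⧸ S) :=
      ⟨⟨fun x y => (IsCyclic.commGroup (α := P ⧸ S)).mul_comm x y⟩⟩
    have hle' := Subgroup.Normal.quotient_commutative_iff_commutator_le.mp hcomm
    apply htS
    apply hle'
    have hmem : ⁅(⟨a, ha⟩ : P), (⟨b, hb⟩ : P)⁆ ∈ _root_.commutator P := by
      rw [commutator_def]
      exact Subgroup.commutator_mem_commutator (Subgroup.mem_top _) (Subgroup.mem_top _)
    have heq : (⟨t, htP⟩ : P) = ⁅(⟨a, ha⟩ : P), (⟨b, hb⟩ : P)⁆ := by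
      apply Subtype.ext
      rw [commutatorElement_def]
      simp [ht]
    rw [heq]
    exact hmem
  · rw [← hidx, hjk]; norm_num
  · exfalso
    rw [← hidx, hjk] at hle
    omega

theorem card_moved_of_extraspecial (P : Subgroup Γ) (hP : Nat.card P = 125) (a b t : Γ)
    (ha : a ∈ P) (hb : b ∈ P) (ht : t = a * b * a⁻¹ * b⁻¹) (hcen : ∀ g ∈ P, g * t = t * g)
    (hΩ : Fintype.card Ω < 50) (ω₀ : Ω) (hω₀ : t • ω₀ ≠ ω₀) :
    (moved t : Finset Ω).card = 25 ∧
    (∀ ω : Ω, t • ω ≠ ω → ∃ g ∈ P, g • ω₀ = ω) ∧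
    (∀ ω : Ω, t • ω ≠ ω → ∃ g ∈ P, g ≠ 1 ∧ g • ω = ω ∧
      ∀ g' ∈ P, g' • ω = ω → ∃ m : ℕ, g' = g ^ m) := by
  haveI : Fact (Nat.Prime 5) := ⟨by norm_num⟩
  haveI : Finite P := Nat.finite_of_card_ne_zero (by rw [hP]; norm_num)
  have key1 := orbit_ncard_of_moved P hP a b t ha hb ht hΩ
  have key2 : ∀ g ∈ P, ∀ ω : Ω, t • ω ≠ ω → t • (g • ω) ≠ g • ω := by
    intro g hg ω hω h
    rw [← mul_smul, ← hcen g hg, mul_smul] at h
    exact hω (smul_left_cancel g h)
  have key3 : ∀ ω : Ω, t • ω ≠ ω → ω ∈ orbit P ω₀ := by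
    intro ω hω
    by_contra hnot
    have hdisj : Disjoint (orbit P ω₀) (orbit P ω) := by
      rcases MulAction.orbit.eq_or_disjoint (G := P) ω₀ ω with h | h
      · exfalso
        apply hnot
        rw [h]
        exact mem_orbit_self ω
      · exact h
    have h1 := Set.ncard_union_eq hdisj (Set.toFinite _) (Set.toFinite _)
    rw [key1 ω₀ hω₀, key1 ω hω] at h1
    have h2 : (orbit P ω₀ ∪ orbit P ω).ncard ≤ Fintype.card Ω := by
      rw [← Nat.card_eq_fintype_card]
      exact Set.ncard_le_card _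
    omega
  have hset : ((moved t : Finset Ω) : Set Ω) = orbit P ω₀ := by
    ext ω
    rw [Finset.mem_coe, mem_moved]
    constructor
    · exact key3 ω
    · rintro ⟨g, rfl⟩
      exact key2 g.1 g.2 ω₀ hω₀
  refine ⟨?_, ?_, ?_⟩
  · rw [← Set.ncard_coe_finset, hset]
    exact key1 ω₀ hω₀
  · intro ω hω
    obtain ⟨g, hg⟩ := key3 ω hω
    exact ⟨g.1, g.2, hg⟩
  · intro ω hω
    set S := stabilizer P ω with hS
    have hidx : S.index = (orbit P ω).ncard := index_stabilizer P ω
    have hmul : Nat.card S * S.index = 125 := by rw [Subgroup.card_mul_index, hP]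
    rw [hidx, key1 ω hω] at hmul
    have hcS : Nat.card S = 5 := by omega
    haveI : Finite S := Nat.finite_of_card_ne_zero (by rw [hcS]; norm_num)
    have hnt : Nontrivial S := by
      rw [← Finite.one_lt_card_iff_nontrivial, hcS]
      norm_num
    obtain ⟨g, hg⟩ := exists_ne (1 : S)
    refine ⟨g.1.1, g.1.2, ?_, ?_, ?_⟩
    · intro h
      apply hg
      apply Subtype.ext
      apply Subtype.ext
      exact h
    · exact mem_stabilizer_iff.mp g.2
    · intro g' hg' hfix
      have hg'S : (⟨g', hg'⟩ : P) ∈ S := by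
        rw [hS, mem_stabilizer_iff]
        exact hfix
      have hz : Subgroup.zpowers g = ⊤ := zpowers_eq_top_of_prime_card hcS hg
      have hmem : (⟨⟨g', hg'⟩, hg'S⟩ : S) ∈ Subgroup.zpowers g := by
        rw [hz]
        trivial
      rw [← mem_powers_iff_mem_zpowers] at hmem
      obtain ⟨m, hm⟩ := hmem
      refine ⟨m, ?_⟩
      have := congrArg (fun x : S => ((x : P) : Γ)) hm
      simpa using this.symm

end extraspecial

section design

variable {Γ X Ω : Type*} [Group Γ] [MulAction Γ X] [MulAction Γ Ω] [Fintype X] [Fintype Ω]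
  [DecidableEq Ω] [DecidableEq X]

/-- the number of members of the family moving a point does not depend on the point -/
theorem card_moving_smul (τ : X → Γ) (hτ : ∀ g x, τ (g • x) = g * τ x * g⁻¹) (g : Γ) (ω : Ω) :
    (Finset.univ.filter fun x : X => τ x • (g • ω) ≠ g • ω).card =
      (Finset.univ.filter fun x : X => τ x • ω ≠ ω).card := by
  symm
  apply Finset.card_bij (fun x _ => g • x)
  · intro x hx
    rw [Finset.mem_filter] at hx ⊢
    refine ⟨Finset.mem_univ _, ?_⟩
    rw [hτ, mul_smul, mul_smul, inv_smul_smul]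
    intro h
    exact hx.2 (smul_left_cancel g h)
  · intro x _ x' _ h
    exact smul_left_cancel g h
  · intro x hx
    rw [Finset.mem_filter] at hx
    refine ⟨g⁻¹ • x, ?_, smul_inv_smul g x⟩
    rw [Finset.mem_filter]
    refine ⟨Finset.mem_univ _, ?_⟩
    intro h
    apply hx.2
    have h2 := hτ g (g⁻¹ • x)
    rw [smul_inv_smul] at h2
    rw [h2, mul_smul, mul_smul, inv_smul_smul, h]

/-- the double count -/
theorem design_count (τ : X → Γ) (hτ : ∀ g x, τ (g • x) = g * τ x * g⁻¹)
    [IsPretransitive Γ Ω] (m : ℕ) (hm : ∀ x, (moved (τ x) : Finset Ω).card = m) (ω₀ : Ω) :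
    Fintype.card Ω * (Finset.univ.filter fun x : X => τ x • ω₀ ≠ ω₀).card =
      Fintype.card X * m := by
  have h1 : ∑ x : X, (moved (τ x) : Finset Ω).card = Fintype.card X * m := by
    rw [Finset.sum_congr rfl (fun x _ => hm x), Finset.sum_const, Finset.card_univ, smul_eq_mul]
  have h2 : ∑ x : X, (moved (τ x) : Finset Ω).card =
      ∑ ω : Ω, (Finset.univ.filter fun x : X => τ x • ω ≠ ω).card := by
    simp only [moved, Finset.card_filter]
    exact Finset.sum_comm
  have h3 : ∀ ω : Ω, (Finset.univ.filter fun x : X => τ x • ω ≠ ω).card =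
      (Finset.univ.filter fun x : X => τ x • ω₀ ≠ ω₀).card := by
    intro ω
    obtain ⟨g, rfl⟩ := exists_smul_eq Γ ω₀ ω
    exact card_moving_smul τ hτ g ω₀
  rw [← h1, h2, Finset.sum_congr rfl (fun ω _ => h3 ω), Finset.sum_const, Finset.card_univ,
    smul_eq_mul]

/-- a `5`-element fixing `ω` without fixed points on the members fixing `ω` -/
theorem five_dvd_card_fixing (τ : X → Γ) (hτ : ∀ g x, τ (g • x) = g * τ x * g⁻¹) (a' : Γ) (k : ℕ)
    (hord : a' ^ 5 ^ k = 1) (ω : Ω) (hfix : a' • ω = ω)
    (hno : ∀ x : X, τ x • ω = ω → a' • x ≠ x) :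
    5 ∣ (Finset.univ.filter fun x : X => τ x • ω = ω).card := by
  haveI : Fact (Nat.Prime 5) := ⟨by norm_num⟩
  have hfix' : a'⁻¹ • ω = ω := by
    rw [inv_smul_eq_iff, hfix]
  have hinv : ∀ x : X, τ (MulAction.toPerm a' x) • ω = ω ↔ τ x • ω = ω := by
    intro x
    rw [MulAction.toPerm_apply, hτ, mul_smul, mul_smul, hfix']
    constructor
    · intro h
      have := congrArg (fun y => a'⁻¹ • y) h
      simpa [hfix'] using this
    · intro h
      rw [h, hfix]
  set π : Equiv.Perm {x : X // τ x • ω = ω} := (MulAction.toPerm a').subtypePerm hinv with hπ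
  have hpow : π ^ 5 ^ k = 1 := by
    rw [hπ, Equiv.Perm.subtypePerm_pow]
    ext x
    simp only [Equiv.Perm.subtypePerm_apply, Equiv.Perm.coe_one, id_eq]
    have hp : (MulAction.toPerm a' : Equiv.Perm X) ^ 5 ^ k = MulAction.toPerm (a' ^ 5 ^ k) :=
      (map_pow (MulAction.toPermHom Γ X) a' _).symm
    rw [hp, hord, MulAction.toPerm_apply, one_smul]
  have hmod := Equiv.Perm.card_compl_support_modEq hpow
  have hsupp : π.supportᶜ = ∅ := by
    rw [Finset.compl_eq_empty_iff, Finset.eq_univ_iff_forall]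
    intro x
    rw [Equiv.Perm.mem_support]
    intro h
    apply hno x.1 x.2
    have := congrArg Subtype.val h
    simpa [hπ] using this
  rw [hsupp, Finset.card_empty] at hmod
  have h5 : 5 ∣ Fintype.card {x : X // τ x • ω = ω} := (Nat.modEq_zero_iff_dvd.mp hmod.symm)
  rw [Fintype.card_subtype] at h5
  exact h5

end design

/-- the arithmetic of the double count -/
theorem arith_count (n r : ℕ) (h1 : n * r = 3024 * 25) (hr : r ≤ 3024) (h5 : 5 ∣ 3024 - r)
    (hn : n < 50) : n = 25 ∧ r = 3024 := by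
  have h5r : ¬ 5 ∣ r := by
    intro h
    have : 5 ∣ (3024 - r) + r := Nat.dvd_add h5 h
    rw [Nat.sub_add_cancel hr] at this
    omega
  have hcop : Nat.Coprime r 25 := by
    have : Nat.Coprime r (5 ^ 2) := by
      apply Nat.Coprime.pow_right
      exact (Nat.coprime_comm.mp ((Nat.Prime.coprime_iff_not_dvd (by norm_num)).mpr h5r))
    simpa using this
  have hdvd : r ∣ 3024 := by
    have : r ∣ 3024 * 25 := ⟨n, by rw [← h1, mul_comm]⟩
    exact hcop.dvd_of_dvd_mul_right this
  obtain ⟨j, hj⟩ := hdvd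
  have hr2 : 1543 ≤ r := by
    by_contra hlt
    push Not at hlt
    have : n * r ≤ 49 * 1542 := Nat.mul_le_mul (by omega) (by omega)
    omega
  have hj1 : j = 1 := by
    rcases Nat.lt_or_ge j 2 with h | h
    · interval_cases j
      · omega
      · rfl
    · exfalso
      have : r * 2 ≤ r * j := Nat.mul_le_mul_left r h
      omega
  subst hj1
  have hr3 : r = 3024 := by omega
  subst hr3
  exact ⟨by omega, rfl⟩

end Cfsg.Agent.Helper11.U35Min
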