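import Mathlib
import Cfsg.Agent.Helper11.U35Gens

/-! Data for the minimal index of `PSU₃(5)`: the `125` code matrices of the stabiliser of the
isotropic vector `n0` in `SU₃(5)`, two of them with commutator the transvection `ctransv n0 c0`,
the `24` multiples of `n0`, and a diagonalisable element `cD` normalising the stabiliser.
(generated by helper11's `gen_lean.py`) -/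

set_option autoImplicit false
set_option linter.all false

namespace Cfsg.Agent.Helper11.U35Min

open Cfsg.Agent.Helper11.U35

/-- the stabiliser of `n0` -/
def LP : List CM := [
  ⟨1, 0, 0, 0, 1, 0, 0, 0, 1⟩,
  ⟨0, 7, 9, 8, 1, 16, 24, 19, 2⟩,
  ⟨0, 8, 9, 7, 1, 20, 24, 20, 2⟩,
  ⟨0, 10, 9, 10, 1, 11, 24, 14, 2⟩,
  ⟨0, 15, 9, 15, 1, 19, 24, 16, 2⟩,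
  ⟨0, 22, 9, 23, 1, 5, 24, 5, 2⟩,
  ⟨0, 23, 9, 22, 1, 14, 24, 11, 2⟩,
  ⟨2, 5, 21, 5, 1, 8, 6, 7, 0⟩,
  ⟨2, 11, 21, 14, 1, 15, 6, 15, 0⟩,
  ⟨2, 14, 21, 11, 1, 7, 6, 8, 0⟩,
  ⟨2, 16, 21, 19, 1, 23, 6, 22, 0⟩,
  ⟨2, 19, 21, 16, 1, 10, 6, 10, 0⟩,
  ⟨2, 20, 21, 20, 1, 22, 6, 23, 0⟩,
  ⟨3, 1, 17, 4, 1, 9, 12, 6, 4⟩,
  ⟨3, 4, 17, 1, 1, 21, 12, 24, 4⟩,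
  ⟨3, 12, 17, 13, 1, 24, 12, 21, 4⟩,
  ⟨3, 13, 17, 12, 1, 3, 12, 2, 4⟩,
  ⟨3, 17, 17, 18, 1, 2, 12, 3, 4⟩,
  ⟨3, 18, 17, 17, 1, 6, 12, 9, 4⟩,
  ⟨4, 2, 13, 3, 1, 13, 18, 12, 3⟩,
  ⟨4, 3, 13, 2, 1, 17, 18, 18, 3⟩,
  ⟨4, 6, 13, 9, 1, 12, 18, 13, 3⟩,
  ⟨4, 9, 13, 6, 1, 4, 18, 1, 3⟩,
  ⟨4, 21, 13, 24, 1, 1, 18, 4, 3⟩,
  ⟨4, 24, 13, 21, 1, 18, 18, 17, 3⟩,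
  ⟨5, 7, 12, 8, 1, 16, 1, 19, 22⟩,
  ⟨5, 8, 12, 7, 1, 20, 1, 20, 22⟩,
  ⟨5, 10, 12, 10, 1, 11, 1, 14, 22⟩,
  ⟨5, 15, 12, 15, 1, 19, 1, 16, 22⟩,
  ⟨5, 22, 12, 23, 1, 5, 1, 5, 22⟩,
  ⟨5, 23, 12, 22, 1, 14, 1, 11, 22⟩,
  ⟨6, 0, 8, 0, 1, 0, 7, 0, 21⟩,
  ⟨7, 5, 4, 5, 1, 8, 13, 7, 20⟩,
  ⟨7, 11, 4, 14, 1, 15, 13, 15, 20⟩,
  ⟨7, 14, 4, 11, 1, 7, 13, 8, 20⟩,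
  ⟨7, 16, 4, 19, 1, 23, 13, 22, 20⟩,
  ⟨7, 19, 4, 16, 1, 10, 13, 10, 20⟩,
  ⟨7, 20, 4, 20, 1, 22, 13, 23, 20⟩,
  ⟨8, 1, 20, 4, 1, 9, 19, 6, 24⟩,
  ⟨8, 4, 20, 1, 1, 21, 19, 24, 24⟩,
  ⟨8, 12, 20, 13, 1, 24, 19, 21, 24⟩,
  ⟨8, 13, 20, 12, 1, 3, 19, 2, 24⟩,
  ⟨8, 17, 20, 18, 1, 2, 19, 3, 24⟩,
  ⟨8, 18, 20, 17, 1, 6, 19, 9, 24⟩,
  ⟨9, 2, 16, 3, 1, 13, 20, 12, 23⟩,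
  ⟨9, 3, 16, 2, 1, 17, 20, 18, 23⟩,
  ⟨9, 6, 16, 9, 1, 12, 20, 13, 23⟩,
  ⟨9, 9, 16, 6, 1, 4, 20, 1, 23⟩,
  ⟨9, 21, 16, 24, 1, 1, 20, 4, 23⟩,
  ⟨9, 24, 16, 21, 1, 18, 20, 17, 23⟩,
  ⟨10, 7, 15, 8, 1, 16, 8, 19, 17⟩,
  ⟨10, 8, 15, 7, 1, 20, 8, 20, 17⟩,
  ⟨10, 10, 15, 10, 1, 11, 8, 14, 17⟩,
  ⟨10, 15, 15, 15, 1, 19, 8, 16, 17⟩,
  ⟨10, 22, 15, 23, 1, 5, 8, 5, 17⟩,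
  ⟨10, 23, 15, 22, 1, 14, 8, 11, 17⟩,
  ⟨11, 0, 11, 0, 1, 0, 14, 0, 16⟩,
  ⟨12, 5, 7, 5, 1, 8, 15, 7, 15⟩,
  ⟨12, 11, 7, 14, 1, 15, 15, 15, 15⟩,
  ⟨12, 14, 7, 11, 1, 7, 15, 8, 15⟩,
  ⟨12, 16, 7, 19, 1, 23, 15, 22, 15⟩,
  ⟨12, 19, 7, 16, 1, 10, 15, 10, 15⟩,
  ⟨12, 20, 7, 20, 1, 22, 15, 23, 15⟩,
  ⟨13, 1, 3, 4, 1, 9, 21, 6, 19⟩,
  ⟨13, 4, 3, 1, 1, 21, 21, 24, 19⟩,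
  ⟨13, 12, 3, 13, 1, 24, 21, 21, 19⟩,
  ⟨13, 13, 3, 12, 1, 3, 21, 2, 19⟩,
  ⟨13, 17, 3, 18, 1, 2, 21, 3, 19⟩,
  ⟨13, 18, 3, 17, 1, 6, 21, 9, 19⟩,
  ⟨14, 2, 24, 3, 1, 13, 2, 12, 18⟩,
  ⟨14, 3, 24, 2, 1, 17, 2, 18, 18⟩,
  ⟨14, 6, 24, 9, 1, 12, 2, 13, 18⟩,
  ⟨14, 9, 24, 6, 1, 4, 2, 1, 18⟩,
  ⟨14, 21, 24, 24, 1, 1, 2, 4, 18⟩,
  ⟨14, 24, 24, 21, 1, 18, 2, 17, 18⟩,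
  ⟨15, 7, 23, 8, 1, 16, 10, 19, 12⟩,
  ⟨15, 8, 23, 7, 1, 20, 10, 20, 12⟩,
  ⟨15, 10, 23, 10, 1, 11, 10, 14, 12⟩,
  ⟨15, 15, 23, 15, 1, 19, 10, 16, 12⟩,
  ⟨15, 22, 23, 23, 1, 5, 10, 5, 12⟩,
  ⟨15, 23, 23, 22, 1, 14, 10, 11, 12⟩,
  ⟨16, 0, 19, 0, 1, 0, 16, 0, 11⟩,
  ⟨17, 5, 10, 5, 1, 8, 22, 7, 10⟩,
  ⟨17, 11, 10, 14, 1, 15, 22, 15, 10⟩,
  ⟨17, 14, 10, 11, 1, 7, 22, 8, 10⟩,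
  ⟨17, 16, 10, 19, 1, 23, 22, 22, 10⟩,
  ⟨17, 19, 10, 16, 1, 10, 22, 10, 10⟩,
  ⟨17, 20, 10, 20, 1, 22, 22, 23, 10⟩,
  ⟨18, 1, 6, 4, 1, 9, 3, 6, 14⟩,
  ⟨18, 4, 6, 1, 1, 21, 3, 24, 14⟩,
  ⟨18, 12, 6, 13, 1, 24, 3, 21, 14⟩,
  ⟨18, 13, 6, 12, 1, 3, 3, 2, 14⟩,
  ⟨18, 17, 6, 18, 1, 2, 3, 3, 14⟩,
  ⟨18, 18, 6, 17, 1, 6, 3, 9, 14⟩,
  ⟨19, 2, 2, 3, 1, 13, 9, 12, 13⟩,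
  ⟨19, 3, 2, 2, 1, 17, 9, 18, 13⟩,
  ⟨19, 6, 2, 9, 1, 12, 9, 13, 13⟩,
  ⟨19, 9, 2, 6, 1, 4, 9, 1, 13⟩,
  ⟨19, 21, 2, 24, 1, 1, 9, 4, 13⟩,
  ⟨19, 24, 2, 21, 1, 18, 9, 17, 13⟩,
  ⟨20, 7, 1, 8, 1, 16, 17, 19, 7⟩,
  ⟨20, 8, 1, 7, 1, 20, 17, 20, 7⟩,
  ⟨20, 10, 1, 10, 1, 11, 17, 14, 7⟩,
  ⟨20, 15, 1, 15, 1, 19, 17, 16, 7⟩,
  ⟨20, 22, 1, 23, 1, 5, 17, 5, 7⟩,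
  ⟨20, 23, 1, 22, 1, 14, 17, 11, 7⟩,
  ⟨21, 0, 22, 0, 1, 0, 23, 0, 6⟩,
  ⟨22, 5, 18, 5, 1, 8, 4, 7, 5⟩,
  ⟨22, 11, 18, 14, 1, 15, 4, 15, 5⟩,
  ⟨22, 14, 18, 11, 1, 7, 4, 8, 5⟩,
  ⟨22, 16, 18, 19, 1, 23, 4, 22, 5⟩,
  ⟨22, 19, 18, 16, 1, 10, 4, 10, 5⟩,
  ⟨22, 20, 18, 20, 1, 22, 4, 23, 5⟩,
  ⟨23, 1, 14, 4, 1, 9, 5, 6, 9⟩,
  ⟨23, 4, 14, 1, 1, 21, 5, 24, 9⟩,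
  ⟨23, 12, 14, 13, 1, 24, 5, 21, 9⟩,
  ⟨23, 13, 14, 12, 1, 3, 5, 2, 9⟩,
  ⟨23, 17, 14, 18, 1, 2, 5, 3, 9⟩,
  ⟨23, 18, 14, 17, 1, 6, 5, 9, 9⟩,
  ⟨24, 2, 5, 3, 1, 13, 11, 12, 8⟩,
  ⟨24, 3, 5, 2, 1, 17, 11, 18, 8⟩,
  ⟨24, 6, 5, 9, 1, 12, 11, 13, 8⟩,
  ⟨24, 9, 5, 6, 1, 4, 11, 1, 8⟩,
  ⟨24, 21, 5, 24, 1, 1, 11, 4, 8⟩,
  ⟨24, 24, 5, 21, 1, 18, 11, 17, 8⟩]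

/-- first generator of the stabiliser -/
def cA : CM := ⟨0, 7, 9, 8, 1, 16, 24, 19, 2⟩
/-- second generator of the stabiliser -/
def cB : CM := ⟨2, 5, 21, 5, 1, 8, 6, 7, 0⟩
/-- the transvection -/
def cT : CM := ctransv n0 c0
/-- the non-zero multiples of `n0` -/
def mult0 : List ℕ := [3751, 7502, 11253, 15004, 4380, 8131, 11882, 12508, 634, 8760, 9386, 13137, 1263, 5014, 10015, 13766, 1892, 5643, 6269, 14395, 2521, 3147, 6898, 10649]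
/-- an element of `SU₃(5)` mapping `n0` to a non-square multiple -/
def cD : CM := ⟨13, 20, 8, 6, 13, 4, 17, 23, 14⟩
/-- its inverse -/
def cDi : CM := ⟨18, 21, 12, 5, 18, 8, 23, 4, 19⟩

end Cfsg.Agent.Helper11.U35Min
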