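import Mathlib
import Cfsg.Agent.Helper11.U35MinData

/-! Kernel-checked facts about the data of `U35MinData`. -/

set_option autoImplicit false
set_option linter.all false
set_option maxRecDepth 100000
set_option maxHeartbeats 0

namespace Cfsg.Agent.Helper11.U35Min

open Cfsg.Agent.Helper11.U35 Cfsg.Agent.Helper19.TCS

/-- all entries are codes -/
def entriesOK : CM → Bool
  | ⟨a00, a01, a02, a10, a11, a12, a20, a21, a22⟩ =>
    decide (a00 < 25) && decide (a01 < 25) && decide (a02 < 25) && decide (a10 < 25) &&
    decide (a11 < 25) && decide (a12 < 25) && decide (a20 < 25) && decide (a21 < 25) &&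
    decide (a22 < 25)

/-- membership in `SU`, as a Boolean -/
noncomputable def suOK (g : CM) : Bool :=
  entriesOK g && decide (cdet g = 1) && decide (mmul (ctr g) (cconjM g) = cone)

theorem LP_su : (LP.all fun g => suOK g) = true := by decide +kernel

theorem LP_fix : (LP.all fun g => decide (mvec g n0 = n0)) = true := by decide +kernel

theorem LP_nodup : LP.Nodup := by decide +kernel

theorem LP_length : LP.length = 125 := by decide +kernel

theorem cA_mem : cA ∈ LP := by decide +kernel

theorem cB_mem : cB ∈ LP := by decide +kernel

theorem cAB : mmul cA cB = mmul cT (mmul cB cA) := by decide +kernel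

/-- the fifth power -/
noncomputable def pow5 (g : CM) : CM := mmul g (mmul g (mmul g (mmul g g)))

theorem LP_pow5 : (LP.all fun g => decide (pow5 g = cone)) = true := by decide +kernel

/-- the powers of the transvection -/
noncomputable def Zl : List CM := [cone, cT, mmul cT cT, mmul cT (mmul cT cT), mmul cT (mmul cT (mmul cT cT))]

theorem cT_pow5 : pow5 cT = cone := by decide +kernel

theorem mult0_transv : (mult0.all fun m => Zl.tail.contains (ctransv m c0)) = true := by
  decide +kernel

/-- a non-identity element of the stabiliser fixes no isotropic vector outside the multiples of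
`n0` -/
theorem LP_free : ((List.range 15625).all fun n => n == 0 || !(cherm n == 0) || mult0.contains n ||
    LP.all fun g => decide (g = cone) || !(mvec g n == n)) = true := by decide +kernel

theorem cD_su : suOK cD = true := by decide +kernel

theorem cD_inv : mmul cD cDi = cone := by decide +kernel

theorem cD_n0 : mult0.contains (mvec cD n0) = true := by decide +kernel

theorem cD_norm : (LP.all fun g => decide (mvec (mmul cD (mmul g cDi)) n0 = n0)) = true := by
  decide +kernel

/-- the torus does not normalise, modulo the stabiliser, any non-central subgroup of order five -/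
theorem cD_check : (LP.all fun a' => Zl.contains a' || LP.all fun p =>
    force 0 fun _ =>
    let pd := mmul p cD
    let pda := mmul pd a'
    let a2 := mmul a' a'
    let a3 := mmul a' a2
    let a4 := mmul a' a3
    !(decide (pda = mmul a' pd)) && !(decide (pda = mmul a2 pd)) && !(decide (pda = mmul a3 pd)) &&
      !(decide (pda = mmul a4 pd))) = true := by decide +kernel

theorem cT_noncentral : mmul cY cT ≠ mmul cT cY := by decide +kernel

theorem iso_count : ((List.range 15625).filter fun n => n != 0 && cherm n == 0).length = 3024 := by
  decide +kernel

end Cfsg.Agent.Helper11.U35Min
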