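import Mathlib
import Cfsg.Agent.Helper11.U35MinChk
import Cfsg.Agent.Helper11.U35MinAbs
import Cfsg.Agent.Helper11.U35Main
import Cfsg.Agent.Helper11.U35Trans
import Cfsg.Agent.Helper2.SU.Simple
import Cfsg.Agent.S0781

/-! `SU₃(5)` acting on the `3024` non-zero isotropic vectors: the transvection family, its
equivariance, transitivity, the stabiliser of a vector (order `125`) as a list of code matrices. -/

set_option autoImplicit false
set_option linter.all false

namespace Cfsg.Agent.Helper11.U35Min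

open Matrix Cfsg.Agent.Helper11.U35 Cfsg.Agent.S2644 Cfsg.Agent.Helper19.TCS Cfsg.Agent.Helper19.Schur

/-- non-zero isotropic vectors -/
def X (F : Type*) [Field F] : Type _ :=
  {x : Fin 3 → F // x ≠ 0 ∧ Cfsg.hermForm 3 F 5 x x = 0}

section action

variable {F : Type*} [Field F]

local notation "tm" => Cfsg.Agent.S2644.toM F 3 5

theorem tm_inv_mulVec' (g : ↥(Cfsg.SU 3 F 5)) (x : Fin 3 → F) : tm g⁻¹ *ᵥ (tm g *ᵥ x) = x := by
  rw [mulVec_mulVec, ← map_mul, inv_mul_cancel, map_one, one_mulVec]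

instance : MulAction ↥(Cfsg.SU 3 F 5) (X F) where
  smul g x := ⟨tm g *ᵥ x.1, by
    intro h
    apply x.2.1
    rw [← tm_inv_mulVec' g x.1, h, mulVec_zero], by
    rw [toM_pres g]
    exact x.2.2⟩
  one_smul x := by
    apply Subtype.ext
    show tm 1 *ᵥ x.1 = x.1
    rw [map_one, one_mulVec]
  mul_smul g g' x := by
    apply Subtype.ext
    show tm (g * g') *ᵥ x.1 = tm g *ᵥ (tm g' *ᵥ x.1)
    rw [map_mul, mulVec_mulVec]

theorem smul_val (g : ↥(Cfsg.SU 3 F 5)) (x : X F) : (g • x).1 = tm g *ᵥ x.1 := rfl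

end action

section field

variable {F : Type*} [Field F] [Fintype F] [CharP F 5] (hF : Fintype.card F = 5 ^ 2) {i : F}
  (hi : i ^ 2 = 2)

local notation "tm" => Cfsg.Agent.S2644.toM F 3 5

include hi in
theorem c0_skew : (ev i c0) ^ 5 = - ev i c0 := by
  have h5 : (5 : F) = 0 := five_eq_zero
  rw [← ev_conj h5 hi]
  simp only [ev, d0, d1, c0, cconj, pack]
  norm_num
  linear_combination i * h5

/-- the transvection of an isotropic vector -/
noncomputable def τ (x : X F) : ↥(Cfsg.SU 3 F 5) :=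
  mkSU (Cfsg.unitaryTransvection 3 5 x.1 (ev i c0)) (Cfsg.Agent.S0781.det_T x.1 _ x.2.2)
    (Cfsg.Agent.S0781.Pres_T (Cfsg.Agent.Helper28.exists_frob hF).choose
      (Cfsg.Agent.Helper28.exists_frob hF).choose_spec.1
      (Cfsg.Agent.Helper28.exists_frob hF).choose_spec.2 x.1 _ x.2.2 (c0_skew hi))

theorem tm_τ (x : X F) : tm (τ hF hi x) = Cfsg.unitaryTransvection 3 5 x.1 (ev i c0) := rfl

theorem τ_smul (g : ↥(Cfsg.SU 3 F 5)) (x : X F) : τ hF hi (g • x) = g * τ hF hi x * g⁻¹ := by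
  apply toM_injective
  rw [map_mul, map_mul, tm_τ, tm_τ, smul_val, T_conj (tm g) (toM_pres g), Matrix.mul_assoc,
    ← map_mul, mul_inv_cancel, map_one, Matrix.mul_one]

end field

section field2

variable {F : Type*} [Field F] [Fintype F] [CharP F 5] (hF : Fintype.card F = 5 ^ 2) {i : F}
  (hi : i ^ 2 = 2)

local notation "tm" => Cfsg.Agent.S2644.toM F 3 5

include hi in
theorem evV_eq_zero_iff (n : ℕ) (hn : n < 15625) : evV i n = 0 ↔ n = 0 := by
  constructor
  · intro h
    have h0 := congrFun h 0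
    have h1 := congrFun h 1
    have h2 := congrFun h 2
    simp only [evV, Matrix.cons_val_zero, Matrix.cons_val_one, Matrix.cons_val, Pi.zero_apply] at h0 h1 h2
    have e0 := eq_zero_of_ev hi (n % 25) (Nat.mod_lt _ (by norm_num)) h0
    have e1 := eq_zero_of_ev hi (n / 25 % 25) (Nat.mod_lt _ (by norm_num)) h1
    have e2 := eq_zero_of_ev hi (n / 625 % 25) (Nat.mod_lt _ (by norm_num)) h2
    omega
  · rintro rfl
    ext k
    fin_cases k <;> simp [evV, ev_zero]

include hi in
theorem evV_inj (n n' : ℕ) (hn : n < 15625) (hn' : n' < 15625) (h : evV i n = evV i n') :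
    n = n' := by
  have h0 := congrFun h 0
  have h1 := congrFun h 1
  have h2 := congrFun h 2
  simp only [evV, Matrix.cons_val_zero, Matrix.cons_val_one, Matrix.cons_val] at h0 h1 h2
  have e0 := ev_inj hi _ _ (Nat.mod_lt _ (by norm_num)) (Nat.mod_lt _ (by norm_num)) h0
  have e1 := ev_inj hi _ _ (Nat.mod_lt _ (by norm_num)) (Nat.mod_lt _ (by norm_num)) h1
  have e2 := ev_inj hi _ _ (Nat.mod_lt _ (by norm_num)) (Nat.mod_lt _ (by norm_num)) h2
  omega

include hi in
theorem herm_evV (n : ℕ) : Cfsg.hermForm 3 F 5 (evV i n) (evV i n) = ev i (cherm n) := by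
  rw [ev_cherm five_eq_zero hi]
  rfl

include hi in
theorem herm_evV_eq_zero_iff (n : ℕ) :
    Cfsg.hermForm 3 F 5 (evV i n) (evV i n) = 0 ↔ cherm n = 0 := by
  rw [herm_evV hi]
  constructor
  · exact eq_zero_of_ev hi (cherm n) (cherm_lt n)
  · intro h
    rw [h, ev_zero]

/-- the vector of an isotropic code -/
def xOf (n : ℕ) (hn : n < 15625) (h0 : n ≠ 0) (hc : cherm n = 0) : X F :=
  ⟨evV i n, fun h => h0 ((evV_eq_zero_iff hi n hn).mp h), (herm_evV_eq_zero_iff hi n).mpr hc⟩

include hF hi in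
theorem exists_code (x : X F) : ∃ n, n < 15625 ∧ n ≠ 0 ∧ cherm n = 0 ∧ evV i n = x.1 := by
  have hF' : Fintype.card F = 25 := by rw [hF]; norm_num
  obtain ⟨n, hn, e⟩ := evV_surj hF' hi x.1
  refine ⟨n, hn, ?_, ?_, e⟩
  · rintro rfl
    apply x.2.1
    rw [← e]
    exact (evV_eq_zero_iff hi 0 (by norm_num)).mpr rfl
  · rw [← herm_evV_eq_zero_iff hi, e]
    exact x.2.2

/-- the base vector -/
def x0 : X F := xOf hi n0 (by norm_num [n0]) (by norm_num [n0]) cherm_n0

end field2

section field3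

variable {F : Type*} [Field F] [Fintype F] [CharP F 5] (hF : Fintype.card F = 5 ^ 2) {i : F}
  (hi : i ^ 2 = 2)

local notation "tm" => Cfsg.Agent.S2644.toM F 3 5

include hF in
theorem exists_smul_x0 (x : X F) : ∃ g : ↥(Cfsg.SU 3 F 5), g • x0 hi = x := by
  have hF' : Fintype.card F = 25 := by rw [hF]; norm_num
  obtain ⟨A, ⟨g, rfl⟩, hA⟩ := trans_of_codes hF' hi (MonoidHom.mrange tm)
    (fun l _ => ⟨gc2 (gX hF hi) (gY hF hi) l, mat_gc2 hF hi l⟩) x.1 x.2.1 x.2.2
  exact ⟨g, Subtype.ext hA⟩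

include hF in
theorem pretransitive_X : MulAction.IsPretransitive ↥(Cfsg.SU 3 F 5) (X F) := by
  obtain ⟨i, hi⟩ := exists_sqrt_two (F := F) (by rw [hF]; norm_num)
  refine ⟨fun x y => ?_⟩
  obtain ⟨g, hg⟩ := exists_smul_x0 hF hi x
  obtain ⟨g', hg'⟩ := exists_smul_x0 hF hi y
  refine ⟨g' * g⁻¹, ?_⟩
  rw [← hg, mul_smul, inv_smul_smul, hg']

theorem card_filter_range (p : ℕ → Prop) [DecidablePred p] (N : ℕ) :
    ((Finset.range N).filter p).card = ((List.range N).filter fun n => decide (p n)).length := by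
  simp [Finset.card, Finset.filter, Finset.range, Multiset.range]

theorem filter_iso_eq (N : ℕ) : ((List.range N).filter fun n => decide (n ≠ 0 ∧ cherm n = 0)) =
    (List.range N).filter fun n => n != 0 && cherm n == 0 := by
  apply List.filter_congr
  intro n _
  by_cases h1 : n = 0 <;> by_cases h2 : cherm n = 0 <;> simp [h1, h2, bne]

theorem card_isoSet : ((Finset.range 15625).filter fun n => n ≠ 0 ∧ cherm n = 0).card = 3024 := by
  rw [card_filter_range, filter_iso_eq]
  exact iso_count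

noncomputable instance : Fintype (X F) := by
  classical
  unfold X
  infer_instance

include hF hi in
theorem card_X : Fintype.card (X F) = 3024 := by
  classical
  rw [← card_isoSet, ← Fintype.card_coe]
  symm
  apply Fintype.card_congr
  refine Equiv.ofBijective (fun n => xOf hi n.1 (Finset.mem_range.mp (Finset.mem_filter.mp n.2).1)
    (Finset.mem_filter.mp n.2).2.1 (Finset.mem_filter.mp n.2).2.2) ⟨?_, ?_⟩
  · intro n n' h
    apply Subtype.ext
    exact evV_inj hi n.1 n'.1 (Finset.mem_range.mp (Finset.mem_filter.mp n.2).1)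
      (Finset.mem_range.mp (Finset.mem_filter.mp n'.2).1) (congrArg Subtype.val h)
  · intro x
    obtain ⟨n, hn, h0, hc, e⟩ := exists_code hF hi x
    exact ⟨⟨n, Finset.mem_filter.mpr ⟨Finset.mem_range.mpr hn, h0, hc⟩⟩, Subtype.ext e⟩

include hF in
theorem card_SU35 : Nat.card ↥(Cfsg.SU 3 F 5) = 378000 := by
  have h := Cfsg.Agent.Helper2.Herm.card_SU_closed (q := 5) hF 3 (by norm_num)
  have e : ∏ i ∈ Finset.range 3, (if Even i then 5 ^ (i + 1) + 1 else 5 ^ (i + 1) - 1) = 18144 := by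
    decide
  rw [e] at h
  norm_num at h
  omega

/-- the stabiliser of the base vector -/
def PP : Subgroup ↥(Cfsg.SU 3 F 5) := MulAction.stabilizer ↥(Cfsg.SU 3 F 5) (x0 hi)

include hF in
theorem card_PP : Nat.card (PP hi) = 125 := by
  haveI := pretransitive_X hF
  have h1 : (PP hi).index = Nat.card (X F) := MulAction.index_stabilizer_of_transitive _ _
  have h2 := Subgroup.card_mul_index (PP hi)
  rw [h1, card_SU35 hF, Nat.card_eq_fintype_card (α := X F), card_X hF hi] at h2
  omega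

end field3

section field4

variable {F : Type*} [Field F] [Fintype F] [CharP F 5] (hF : Fintype.card F = 5 ^ 2) {i : F}
  (hi : i ^ 2 = 2)

local notation "tm" => Cfsg.Agent.S2644.toM F 3 5

include hi in
theorem evM_inj (c c' : CM) (h : entriesOK c = true) (h' : entriesOK c' = true)
    (e : evM i c = evM i c') : c = c' := by
  obtain ⟨a00, a01, a02, a10, a11, a12, a20, a21, a22⟩ := c
  obtain ⟨b00, b01, b02, b10, b11, b12, b20, b21, b22⟩ := c'
  simp only [entriesOK, Bool.and_eq_true, decide_eq_true_eq] at h h'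
  obtain ⟨⟨⟨⟨⟨⟨⟨⟨p0, p1⟩, p2⟩, p3⟩, p4⟩, p5⟩, p6⟩, p7⟩, p8⟩ := h
  obtain ⟨⟨⟨⟨⟨⟨⟨⟨q0, q1⟩, q2⟩, q3⟩, q4⟩, q5⟩, q6⟩, q7⟩, q8⟩ := h'
  have e00 := congrFun (congrFun e 0) 0
  have e01 := congrFun (congrFun e 0) 1
  have e02 := congrFun (congrFun e 0) 2
  have e10 := congrFun (congrFun e 1) 0
  have e11 := congrFun (congrFun e 1) 1
  have e12 := congrFun (congrFun e 1) 2
  have e20 := congrFun (congrFun e 2) 0
  have e21 := congrFun (congrFun e 2) 1
  have e22 := congrFun (congrFun e 2) 2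
  simp only [evM, Matrix.of_apply, Matrix.cons_val', Matrix.cons_val_zero, Matrix.cons_val_one,
    Matrix.cons_val, Matrix.empty_val', Matrix.cons_val_fin_one] at e00 e01 e02 e10 e11 e12 e20 e21 e22
  rw [ev_inj hi _ _ p0 q0 e00, ev_inj hi _ _ p1 q1 e01, ev_inj hi _ _ p2 q2 e02,
    ev_inj hi _ _ p3 q3 e10, ev_inj hi _ _ p4 q4 e11, ev_inj hi _ _ p5 q5 e12,
    ev_inj hi _ _ p6 q6 e20, ev_inj hi _ _ p7 q7 e21, ev_inj hi _ _ p8 q8 e22]

include hF hi in
theorem exists_of_suOK (c : CM) (h : suOK c = true) : ∃ g : ↥(Cfsg.SU 3 F 5), tm g = evM i c := by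
  simp only [suOK, Bool.and_eq_true, decide_eq_true_eq] at h
  exact mem_SU_of hF hi c h.1.2 h.2

theorem mem_PP_iff (g : ↥(Cfsg.SU 3 F 5)) : g ∈ PP hi ↔ tm g *ᵥ evV i n0 = evV i n0 := by
  unfold PP
  rw [MulAction.mem_stabilizer_iff]
  constructor
  · intro h
    exact congrArg Subtype.val h
  · intro h
    exact Subtype.ext h

theorem LP_get_mem (k : Fin 125) : LP[k.1]'(by rw [LP_length]; exact k.2) ∈ LP :=
  List.getElem_mem _

theorem LP_suOK {c : CM} (hc : c ∈ LP) : suOK c = true := List.all_eq_true.mp LP_su c hc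

theorem LP_fixes {c : CM} (hc : c ∈ LP) : mvec c n0 = n0 :=
  of_decide_eq_true (List.all_eq_true.mp LP_fix c hc)

theorem entriesOK_of_suOK {c : CM} (h : suOK c = true) : entriesOK c = true := by
  simp only [suOK, Bool.and_eq_true] at h
  exact h.1.1

include hF hi in
/-- every element of the stabiliser is in the list -/
theorem exists_LP (g : ↥(Cfsg.SU 3 F 5)) (hg : g ∈ PP hi) : ∃ c ∈ LP, tm g = evM i c := by
  have h5 : (5 : F) = 0 := five_eq_zero
  have key : ∀ k : Fin 125, ∃ g : PP hi, tm g.1 = evM i (LP[k.1]'(by rw [LP_length]; exact k.2)) := by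
    intro k
    obtain ⟨g, hg⟩ := exists_of_suOK hF hi _ (LP_suOK (LP_get_mem k))
    refine ⟨⟨g, ?_⟩, hg⟩
    rw [mem_PP_iff, hg, ← evV_mvec h5 hi, LP_fixes (LP_get_mem k)]
  choose f hf using key
  have hinj : Function.Injective f := by
    intro k k' h
    have h1 : evM i (LP[k.1]'(by rw [LP_length]; exact k.2)) =
        evM i (LP[k'.1]'(by rw [LP_length]; exact k'.2)) := by
      rw [← hf k, ← hf k', h]
    have h2 := evM_inj hi _ _ (entriesOK_of_suOK (LP_suOK (LP_get_mem k)))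
      (entriesOK_of_suOK (LP_suOK (LP_get_mem k'))) h1
    apply Fin.ext
    exact (List.Nodup.getElem_inj_iff LP_nodup).mp h2
  haveI : Finite (PP hi) := Nat.finite_of_card_ne_zero (by rw [card_PP hF hi]; norm_num)
  have hbij : Function.Bijective f := by
    apply Function.Injective.bijective_of_nat_card_le hinj
    rw [card_PP hF hi, Nat.card_eq_fintype_card, Fintype.card_fin]
  obtain ⟨k, hk⟩ := hbij.2 ⟨g, hg⟩
  refine ⟨_, LP_get_mem k, ?_⟩
  rw [← hf k, hk]

end field4

end Cfsg.Agent.Helper11.U35Min
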