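import Mathlib
import Cfsg.Agent.Helper11.U35MinVec

/-! `SU₃(5)` has no transitive action on fewer than `50` points in which the transvections act
non-trivially; hence every proper subgroup of `PSU₃(5)` has index at least `50`. -/

set_option autoImplicit false
set_option linter.all false

namespace Cfsg.Agent.Helper11.U35Min

open Matrix Cfsg.Agent.Helper11.U35 Cfsg.Agent.S2644 Cfsg.Agent.Helper19.TCS
  Cfsg.Agent.Helper19.Schur MulAction

theorem entriesOK_mmul (A B : CM) : entriesOK (mmul A B) = true := by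
  obtain ⟨a00, a01, a02, a10, a11, a12, a20, a21, a22⟩ := A
  obtain ⟨b00, b01, b02, b10, b11, b12, b20, b21, b22⟩ := B
  simp only [mmul, force_eq, entriesOK, Bool.and_eq_true, decide_eq_true_eq]
  refine ⟨⟨⟨⟨⟨⟨⟨⟨?_, ?_⟩, ?_⟩, ?_⟩, ?_⟩, ?_⟩, ?_⟩, ?_⟩, ?_⟩ <;> exact dot3_lt _ _ _ _ _ _

theorem mvec_lt (A : CM) (n : ℕ) : mvec A n < 15625 := by
  obtain ⟨a00, a01, a02, a10, a11, a12, a20, a21, a22⟩ := A
  simp only [mvec, force_eq]
  have e0 := dot3_lt a00 a01 a02 (n % 25) (n / 25 % 25) (n / 625 % 25)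
  have e1 := dot3_lt a10 a11 a12 (n % 25) (n / 25 % 25) (n / 625 % 25)
  have e2 := dot3_lt a20 a21 a22 (n % 25) (n / 25 % 25) (n / 625 % 25)
  omega

section field

variable {F : Type*} [Field F] [Fintype F] [CharP F 5] (hF : Fintype.card F = 5 ^ 2) {i : F}
  (hi : i ^ 2 = 2)

local notation "tm" => Cfsg.Agent.S2644.toM F 3 5

/-- the basic transvection -/
noncomputable def tT : ↥(Cfsg.SU 3 F 5) := τ hF hi (x0 hi)

theorem tm_tT : tm (tT hF hi) = evM i cT := by
  unfold tT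
  rw [tm_τ, cT, evM_ctransv five_eq_zero hi]
  rfl

theorem tm_τ_code (n : ℕ) (hn : n < 15625) (h0 : n ≠ 0) (hc : cherm n = 0) :
    tm (τ hF hi (xOf hi n hn h0 hc)) = evM i (ctransv n c0) := by
  rw [tm_τ, evM_ctransv five_eq_zero hi]
  rfl

theorem tm_pow (g : ↥(Cfsg.SU 3 F 5)) (k : ℕ) : tm (g ^ k) = (tm g) ^ k := map_pow _ g k

theorem eq_of_tm_code {g g' : ↥(Cfsg.SU 3 F 5)} {c : CM} (hg : tm g = evM i c)
    (hg' : tm g' = evM i c) : g = g' := toM_injective (hg.trans hg'.symm)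

include hi in
theorem tm_mul_code {g g' : ↥(Cfsg.SU 3 F 5)} {c c' : CM} (hg : tm g = evM i c)
    (hg' : tm g' = evM i c') : tm (g * g') = evM i (mmul c c') := by
  rw [map_mul, hg, hg', evM_mul five_eq_zero hi]

theorem eq_one_of_code {g : ↥(Cfsg.SU 3 F 5)} (hg : tm g = evM i cone) : g = 1 := by
  apply toM_injective
  rw [hg, evM_one, map_one]

include hi in
theorem tm_pow5_code {g : ↥(Cfsg.SU 3 F 5)} {c : CM} (hg : tm g = evM i c) :
    tm (g ^ 5) = evM i (pow5 c) := by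
  have e : g ^ 5 = g * (g * (g * (g * g))) := by
    rw [pow_succ', pow_succ', pow_succ', pow_succ', pow_one]
  rw [e]
  unfold pow5
  exact tm_mul_code hi hg (tm_mul_code hi hg (tm_mul_code hi hg (tm_mul_code hi hg hg)))

theorem tT_pow5 : tT hF hi ^ 5 = 1 := by
  apply eq_one_of_code (i := i)
  rw [tm_pow5_code hi (tm_tT hF hi), cT_pow5]

end field

section field2

variable {F : Type*} [Field F] [Fintype F] [CharP F 5] (hF : Fintype.card F = 5 ^ 2) {i : F}
  (hi : i ^ 2 = 2)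

local notation "tm" => Cfsg.Agent.S2644.toM F 3 5

include hF hi in
/-- an element of the stabiliser for a member of the list -/
theorem exists_PP_of_LP {c : CM} (hc : c ∈ LP) : ∃ g ∈ PP hi, tm g = evM i c := by
  obtain ⟨g, hg⟩ := exists_of_suOK hF hi c (LP_suOK hc)
  refine ⟨g, ?_, hg⟩
  rw [mem_PP_iff, hg, ← evV_mvec five_eq_zero hi, LP_fixes hc]

theorem tT_central (g : ↥(Cfsg.SU 3 F 5)) (hg : g ∈ PP hi) : g * tT hF hi = tT hF hi * g := by
  have h1 := τ_smul hF hi g (x0 hi)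
  have h2 : g • x0 hi = x0 hi := hg
  rw [h2] at h1
  unfold tT
  nth_rewrite 2 [h1]
  group

theorem tT_mem : tT hF hi ∈ PP hi := by
  rw [mem_PP_iff, tm_tT, ← evV_mvec five_eq_zero hi]
  congr 1

include hF hi in
theorem exists_ab : ∃ a ∈ PP hi, ∃ b ∈ PP hi, tT hF hi = a * b * a⁻¹ * b⁻¹ := by
  obtain ⟨a, ha, hta⟩ := exists_PP_of_LP hF hi cA_mem
  obtain ⟨b, hb, htb⟩ := exists_PP_of_LP hF hi cB_mem
  refine ⟨a, ha, b, hb, ?_⟩
  have h1 : a * b = tT hF hi * (b * a) := by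
    apply toM_injective
    rw [tm_mul_code hi hta htb, tm_mul_code hi (tm_tT hF hi) (tm_mul_code hi htb hta), cAB]
  calc tT hF hi = tT hF hi * (b * a) * (b * a)⁻¹ := by group
    _ = a * b * a⁻¹ * b⁻¹ := by rw [← h1]; group

theorem tT_not_central : tT hF hi ∉ Subgroup.center ↥(Cfsg.SU 3 F 5) := by
  intro h
  rw [Subgroup.mem_center_iff] at h
  have h1 := h (gY hF hi)
  have h2 := congrArg tm h1
  rw [tm_mul_code hi (mat_gY hF hi) (tm_tT hF hi), tm_mul_code hi (tm_tT hF hi) (mat_gY hF hi)] at h2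
  exact cT_noncentral (evM_inj hi _ _ (entriesOK_mmul _ _) (entriesOK_mmul _ _) h2)

end field2

section big

variable {F : Type*} [Field F] [Fintype F] [CharP F 5] (hF : Fintype.card F = 5 ^ 2) {i : F}
  (hi : i ^ 2 = 2)
variable {Ω : Type*} [MulAction ↥(Cfsg.SU 3 F 5) Ω] [Fintype Ω] [DecidableEq Ω]

local notation "tm" => Cfsg.Agent.S2644.toM F 3 5

theorem fixed_pow {Γ : Type*} [Group Γ] [MulAction Γ Ω] (g : Γ) (ω : Ω) (h : g • ω = ω) (j : ℕ) :
    g ^ j • ω = ω := by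
  induction j with
  | zero => rw [pow_zero, one_smul]
  | succ j ih => rw [pow_succ, mul_smul, h, ih]

theorem pow_moves {Γ : Type*} [Group Γ] [MulAction Γ Ω] {t : Γ} (ht5 : t ^ 5 = 1) {ω : Ω}
    (hω : t • ω ≠ ω) (k : ℕ) (hk : k % 5 ≠ 0) : t ^ k • ω ≠ ω := by
  intro h
  obtain ⟨j, q, hjq⟩ : ∃ j q : ℕ, k * j = 5 * q + 1 := by
    have : k % 5 = 1 ∨ k % 5 = 2 ∨ k % 5 = 3 ∨ k % 5 = 4 := by omega
    rcases this with h1 | h1 | h1 | h1
    · exact ⟨1, (k * 1 - 1) / 5, by omega⟩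
    · exact ⟨3, (k * 3 - 1) / 5, by omega⟩
    · exact ⟨2, (k * 2 - 1) / 5, by omega⟩
    · exact ⟨4, (k * 4 - 1) / 5, by omega⟩
  have h2 := fixed_pow (t ^ k) ω h j
  rw [← pow_mul, hjq, pow_add, pow_mul, ht5, one_pow, one_mul, pow_one] at h2
  exact hω h2

end big

section big2

variable {F : Type*} [Field F] [Fintype F] [CharP F 5] (hF : Fintype.card F = 5 ^ 2) {i : F}
  (hi : i ^ 2 = 2)
variable {Ω : Type*} [MulAction ↥(Cfsg.SU 3 F 5) Ω] [Fintype Ω] [DecidableEq Ω]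

local notation "tm" => Cfsg.Agent.S2644.toM F 3 5

theorem no_small_action [IsPretransitive ↥(Cfsg.SU 3 F 5) Ω] (hΩ : Fintype.card Ω < 50)
    (ω₁ : Ω) (hω₁ : tT hF hi • ω₁ ≠ ω₁) : False := by
  classical
  have h5 : (5 : F) = 0 := five_eq_zero
  obtain ⟨a, ha, b, hb, hab⟩ := exists_ab hF hi
  obtain ⟨hcard, htrans, hstab⟩ := card_moved_of_extraspecial (PP hi) (card_PP hF hi) a b
    (tT hF hi) ha hb hab (fun g hg => tT_central hF hi g hg) hΩ ω₁ hω₁
  -- all transvections move 25 points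
  have hm : ∀ x : X F, (moved (τ hF hi x) : Finset Ω).card = 25 := by
    intro x
    obtain ⟨g, rfl⟩ := exists_smul_x0 hF hi x
    rw [τ_smul, card_moved_conj]
    exact hcard
  have hdc := design_count (τ hF hi) (τ_smul hF hi) 25 hm ω₁
  rw [card_X hF hi] at hdc
  -- the generator of the stabiliser
  obtain ⟨a', ha', ha'1, ha'fix, ha'gen⟩ := hstab ω₁ hω₁
  obtain ⟨c, hc, hca⟩ := exists_LP hF hi a' ha'
  have ha'5 : a' ^ 5 = 1 := by
    apply eq_one_of_code (i := i)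
    rw [tm_pow5_code hi hca]
    congr 1
    exact of_decide_eq_true (List.all_eq_true.mp LP_pow5 c hc)
  have hcne : c ≠ cone := by
    rintro rfl
    exact ha'1 (eq_one_of_code hca)
  have htpow : ∀ k, k % 5 ≠ 0 → tT hF hi ^ k • ω₁ ≠ ω₁ :=
    fun k hk => pow_moves (tT_pow5 hF hi) hω₁ k hk
  have hZl : ∀ g : ↥(Cfsg.SU 3 F 5), ∀ z ∈ Zl.tail, tm g = evM i z → g • ω₁ ≠ ω₁ := by
    intro g z hz hg
    simp only [Zl, List.tail_cons, List.mem_cons, List.mem_nil_iff, or_false] at hz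
    have h1 := tm_tT hF hi
    have h2 := tm_mul_code hi h1 h1
    have h3 := tm_mul_code hi h1 h2
    have h4 := tm_mul_code hi h1 h3
    rcases hz with rfl | rfl | rfl | rfl
    · rw [eq_of_tm_code hg h1]
      exact hω₁
    · rw [eq_of_tm_code hg h2]
      have := htpow 2 (by norm_num)
      rwa [pow_succ', pow_one] at this
    · rw [eq_of_tm_code hg h3]
      have := htpow 3 (by norm_num)
      rwa [pow_succ', pow_succ', pow_one] at this
    · rw [eq_of_tm_code hg h4]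
      have := htpow 4 (by norm_num)
      rwa [pow_succ', pow_succ', pow_succ', pow_one] at this
  -- no fixed vectors
  have hno : ∀ x : X F, τ hF hi x • ω₁ = ω₁ → a' • x ≠ x := by
    intro x hx hax
    obtain ⟨n, hn, hn0, hnc, e⟩ := exists_code hF hi x
    have hx' : x = xOf hi n hn hn0 hnc := Subtype.ext e.symm
    have h1 : evV i (mvec c n) = evV i n := by
      rw [evV_mvec h5 hi, ← hca, e]
      exact congrArg Subtype.val hax
    have h2 : mvec c n = n := evV_inj hi _ _ (mvec_lt _ _) hn h1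
    have h3 := List.all_eq_true.mp LP_free n (List.mem_range.mpr hn)
    simp only [Bool.or_eq_true, beq_iff_eq, Bool.not_eq_true', beq_eq_false_iff_ne, ne_eq,
      List.all_eq_true, decide_eq_true_eq] at h3
    rcases h3 with ((h3 | h3) | h3) | h3
    · exact hn0 h3
    · exact h3 hnc
    · have h4 := List.all_eq_true.mp mult0_transv n (List.contains_iff_mem.mp h3)
      have h5' : ctransv n c0 ∈ Zl.tail := List.contains_iff_mem.mp h4
      apply hZl (τ hF hi x) _ h5' _ hx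
      rw [hx', tm_τ_code]
    · rcases h3 c hc with h | h
      · exact hcne h
      · exact h h2
  have hdvd := five_dvd_card_fixing (τ hF hi) (τ_smul hF hi) a' 1 (by rw [pow_one]; exact ha'5)
    ω₁ ha'fix hno
  have hsplit : (Finset.univ.filter fun x : X F => τ hF hi x • ω₁ = ω₁).card =
      3024 - (Finset.univ.filter fun x : X F => τ hF hi x • ω₁ ≠ ω₁).card := by
    have : (Finset.univ.filter fun x : X F => τ hF hi x • ω₁ = ω₁).card +
        (Finset.univ.filter fun x : X F => τ hF hi x • ω₁ ≠ ω₁).card =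
        (Finset.univ : Finset (X F)).card :=
      Finset.card_filter_add_card_filter_not (s := (Finset.univ : Finset (X F)))
        (fun x : X F => τ hF hi x • ω₁ = ω₁)
    rw [Finset.card_univ, card_X hF hi] at this
    omega
  rw [hsplit] at hdvd
  have hr : (Finset.univ.filter fun x : X F => τ hF hi x • ω₁ ≠ ω₁).card ≤ 3024 := by
    rw [← card_X hF hi]
    exact Finset.card_le_univ _
  obtain ⟨hn25, hr3024⟩ := arith_count _ _ hdc hr hdvd hΩ
  -- every point is moved by the transvection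
  have hall : ∀ ω : Ω, tT hF hi • ω ≠ ω := by
    have huniv : (moved (tT hF hi) : Finset Ω) = Finset.univ :=
      Finset.eq_univ_of_card _ (by rw [hcard, hn25])
    intro ω
    have := Finset.mem_univ ω
    rw [← huniv, mem_moved] at this
    exact this
  -- the torus element
  obtain ⟨gD, hgD⟩ := exists_of_suOK hF hi cD cD_su
  have hgDi : tm gD⁻¹ = evM i cDi := mat_inv_of hi hgD cD_inv
  obtain ⟨g, hg, hgω⟩ := htrans (gD • ω₁) (hall _)
  have hp : g⁻¹ ∈ PP hi := (PP hi).inv_mem hg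
  have hpd : (g⁻¹ * gD) • ω₁ = ω₁ := by rw [mul_smul, ← hgω, inv_smul_smul]
  have hpdi : (g⁻¹ * gD)⁻¹ • ω₁ = ω₁ := by rw [inv_smul_eq_iff, hpd]
  have hyfix : ((g⁻¹ * gD) * a' * (g⁻¹ * gD)⁻¹) • ω₁ = ω₁ := by
    rw [mul_smul, mul_smul, hpdi, ha'fix, hpd]
  have hconj : gD * (a' * gD⁻¹) ∈ PP hi := by
    rw [mem_PP_iff, tm_mul_code hi hgD (tm_mul_code hi hca hgDi), ← evV_mvec h5 hi]
    congr 1
    exact of_decide_eq_true (List.all_eq_true.mp cD_norm c hc)
  have hyP : (g⁻¹ * gD) * a' * (g⁻¹ * gD)⁻¹ ∈ PP hi := by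
    have : (g⁻¹ * gD) * a' * (g⁻¹ * gD)⁻¹ = g⁻¹ * (gD * (a' * gD⁻¹)) * g⁻¹⁻¹ := by group
    rw [this]
    exact (PP hi).mul_mem ((PP hi).mul_mem hp hconj) ((PP hi).inv_mem hp)
  obtain ⟨m, hm⟩ := ha'gen _ hyP hyfix
  have hrel : g⁻¹ * gD * a' = a' ^ m * (g⁻¹ * gD) := by
    rw [← hm]
    group
  obtain ⟨cp, hcp, hcpp⟩ := exists_LP hF hi g⁻¹ hp
  have hmod : a' ^ m = a' ^ (m % 5) := by
    conv_lhs => rw [← Nat.div_add_mod m 5, pow_add, pow_mul, ha'5, one_pow, one_mul]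
  rw [hmod] at hrel
  have hc_notZ : c ∉ Zl := by
    intro hz
    have hz' : c = cone ∨ c ∈ Zl.tail := by
      simpa [Zl] using hz
    rcases hz' with rfl | hz'
    · exact hcne rfl
    · exact hZl a' c hz' hca ha'fix
  have hchk := List.all_eq_true.mp cD_check c hc
  rw [Bool.or_eq_true] at hchk
  rcases hchk with hchk | hchk
  · exact hc_notZ (List.contains_iff_mem.mp hchk)
  have hchk2 := List.all_eq_true.mp hchk cp hcp
  simp only [force_eq, Bool.and_eq_true, Bool.not_eq_true', decide_eq_false_iff_not] at hchk2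
  obtain ⟨⟨⟨k1, k2⟩, k3⟩, k4⟩ := hchk2
  have hpd_code := tm_mul_code hi hcpp hgD
  have hpda := tm_mul_code hi hpd_code hca
  have ha2 := tm_mul_code hi hca hca
  have ha3 := tm_mul_code hi hca ha2
  have ha4 := tm_mul_code hi hca ha3
  have hlt : m % 5 < 5 := Nat.mod_lt _ (by norm_num)
  have e := congrArg tm hrel
  interval_cases hm5 : m % 5
  · rw [pow_zero, one_mul] at hrel
    apply ha'1
    have := mul_left_cancel (a := g⁻¹ * gD) (b := a') (c := 1) (by rw [hrel, mul_one])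
    exact this
  · rw [pow_one, hpda, tm_mul_code hi hca hpd_code] at e
    exact k1 (evM_inj hi _ _ (entriesOK_mmul _ _) (entriesOK_mmul _ _) e)
  · rw [pow_succ', pow_one, hpda, tm_mul_code hi ha2 hpd_code] at e
    exact k2 (evM_inj hi _ _ (entriesOK_mmul _ _) (entriesOK_mmul _ _) e)
  · rw [pow_succ', pow_succ', pow_one, hpda, tm_mul_code hi ha3 hpd_code] at e
    exact k3 (evM_inj hi _ _ (entriesOK_mmul _ _) (entriesOK_mmul _ _) e)
  · rw [pow_succ', pow_succ', pow_succ', pow_one, hpda, tm_mul_code hi ha4 hpd_code] at e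
    exact k4 (evM_inj hi _ _ (entriesOK_mmul _ _) (entriesOK_mmul _ _) e)

end big2

/-- every proper subgroup of `PSU₃(5)` has index at least `50` -/
theorem index_ge_fifty {F : Type*} [Field F] [Fintype F] (hF : Fintype.card F = 25)
    (H : Subgroup (Cfsg.PSU 3 F 5)) (hH : H ≠ ⊤) : 50 ≤ H.index := by
  classical
  haveI : CharP F 5 := charP_five_of_card hF
  have hF' : Fintype.card F = 5 ^ 2 := by rw [hF]; norm_num
  obtain ⟨i, hi⟩ := exists_sqrt_two hF
  haveI : IsSimpleGroup (Cfsg.PSU 3 F 5) :=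
    Cfsg.Agent.Helper2.SUGen.PSU_isSimpleGroup hF' 3 le_rfl (by omega)
  haveI : Finite (Cfsg.PSU 3 F 5) :=
    Nat.finite_of_card_ne_zero (by rw [card_PSU35 hF]; norm_num)
  by_contra hlt
  push Not at hlt
  letI : MulAction ↥(Cfsg.SU 3 F 5) (Cfsg.PSU 3 F 5 ⧸ H) :=
    MulAction.compHom (Cfsg.PSU 3 F 5 ⧸ H) (pr : ↥(Cfsg.SU 3 F 5) →* Cfsg.PSU 3 F 5)
  haveI : Fintype (Cfsg.PSU 3 F 5 ⧸ H) := Fintype.ofFinite _
  have hcardΩ : Fintype.card (Cfsg.PSU 3 F 5 ⧸ H) = H.index := by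
    rw [← Nat.card_eq_fintype_card]
    exact (Subgroup.index_eq_card H).symm
  have hsmul : ∀ (g : ↥(Cfsg.SU 3 F 5)) (ω : Cfsg.PSU 3 F 5 ⧸ H), g • ω = pr g • ω :=
    fun _ _ => rfl
  haveI : IsPretransitive ↥(Cfsg.SU 3 F 5) (Cfsg.PSU 3 F 5 ⧸ H) := by
    refine ⟨fun x y => ?_⟩
    obtain ⟨g, hg⟩ := MulAction.exists_smul_eq (Cfsg.PSU 3 F 5) x y
    obtain ⟨g', rfl⟩ := pr_surjective g
    exact ⟨g', hg⟩
  have hmove : ∃ ω : Cfsg.PSU 3 F 5 ⧸ H, tT hF' hi • ω ≠ ω := by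
    by_contra hcon
    push Not at hcon
    have h1 : pr (tT hF' hi) ∈ H.normalCore := by
      rw [Subgroup.normalCore_eq_ker, MonoidHom.mem_ker]
      ext ω
      rw [MulAction.toPermHom_apply, MulAction.toPerm_apply, Equiv.Perm.coe_one, id_eq, ← hsmul]
      exact hcon ω
    have h2 : H.normalCore = ⊥ := by
      rcases (H.normalCore_normal).eq_bot_or_eq_top with h | h
      · exact h
      · exfalso
        apply hH
        rw [eq_top_iff, ← h]
        exact Subgroup.normalCore_le H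
    rw [h2, Subgroup.mem_bot] at h1
    exact tT_not_central hF' hi ((QuotientGroup.eq_one_iff _).mp h1)
  obtain ⟨ω₁, hω₁⟩ := hmove
  exact no_small_action hF' hi (by rw [hcardΩ]; exact hlt) ω₁ hω₁

end Cfsg.Agent.Helper11.U35Min
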