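import Mathlib
import Cfsg.Agent.Helper11.HS352Recog
import Cfsg.Agent.Helper11.U35MinMain

/-! `PSU₃(5)` has a subgroup of index `50`: the stabiliser of a point in the action of helper22's
`H50` (the stabiliser of a set of fifty points in the Higman–Sims group on a hundred points) on that
set; its index is at most `50` (the orbit lies in the set) and at least `50` (minimal index). -/

set_option autoImplicit false
set_option linter.all false
set_option maxRecDepth 100000

namespace Cfsg.Agent.Helper11.U35Min

open Cfsg.Agent.Helper22.HS352 Cfsg.Agent.Helper11.HS352 Cfsg.Agent.Helper22.PermPack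

theorem ncard_S50 : {j : Fin 100 | S50.testBit j.1 = true}.ncard = 50 := by
  rw [Set.ncard_eq_toFinset_card']
  decide +kernel

theorem exists_index_fifty {F : Type*} [Field F] [Fintype F] (hF : Fintype.card F = 25) :
    ∃ H : Subgroup (Cfsg.PSU 3 F 5), H.index = 50 := by
  obtain ⟨e⟩ := nonempty_equiv_H50 hF
  set s : Fin 100 := ⟨0, by norm_num⟩ with hs
  set S := MulAction.stabilizer ↥H50 s with hS
  have h1 : S.index = (MulAction.orbit ↥H50 s).ncard := MulAction.index_stabilizer _ _
  have h2 : MulAction.orbit ↥H50 s ⊆ {j : Fin 100 | S50.testBit j.1 = true} := by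
    rintro _ ⟨g, rfl⟩
    have h := ((mem_H50 g.1).mp g.2).2 s
    show S50.testBit ((g.1 s).1) = true
    rw [h]
    decide
  have h3 : S.index ≤ 50 := by
    rw [h1, ← ncard_S50]
    exact Set.ncard_le_ncard h2 (Set.toFinite _)
  have h4 : S ≠ ⊤ := by
    intro htop
    have hmem : aS ∈ S := by rw [htop]; trivial
    rw [hS, MulAction.mem_stabilizer_iff] at hmem
    have h5 : aP s = s := hmem
    have h6 := hA s
    rw [h5] at h6
    have h7 := move_okK
    simp only [Bool.not_eq_true'] at h7
    have h8 : Nat.beq (slot 7 hsA 0) 0 = true := beq_iff.mpr h6.symm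
    rw [h8] at h7
    exact absurd h7 (by decide)
  have h5 : (S.map (e : ↥H50 →* Cfsg.PSU 3 F 5)).index = S.index := Subgroup.index_map_equiv S e
  have h6 : S.map (e : ↥H50 →* Cfsg.PSU 3 F 5) ≠ ⊤ := by
    intro htop
    rw [htop, Subgroup.index_top] at h5
    exact h4 (Subgroup.index_eq_one.mp h5.symm)
  have h7 := index_ge_fifty hF _ h6
  exact ⟨S.map (e : ↥H50 →* Cfsg.PSU 3 F 5), by omega⟩

end Cfsg.Agent.Helper11.U35Min
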