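import Mathlib
import Cfsg.Agent.Helper5.VL.Defs
import Cfsg.Agent.Helper27.S3777KER

/-! # S3777 piece AFFLE (`card_affine_le`) (helper11). -/

set_option autoImplicit false
set_option linter.style.haveILetI false
set_option linter.unusedSectionVars false
set_option linter.unusedVariables false

namespace Cfsg.Agent.Helper5.VL

open Subgroup
open scoped commutatorElement

universe u
variable {p : ℕ} [Fact p.Prime] {G : Type u} [Group G] [Finite G]

/-- AFFLE -/
theorem card_affine_le (φ0 : Fn p G) (W : Subgroup G) :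
    Nat.card {w : G // w ∈ W ∧ φ0 w ≠ 1} * p ≤ Nat.card W * (p - 1) := by
  by_cases h : W ≤ φ0.ker
  · have hempty : IsEmpty {w : G // w ∈ W ∧ φ0 w ≠ 1} := by
      refine ⟨fun w => ?_⟩
      exact w.2.2 (MonoidHom.mem_ker.mp (h w.2.1))
    rw [Nat.card_of_isEmpty, Nat.zero_mul]
    exact Nat.zero_le _
  · exact le_of_eq (card_affine_eq φ0 W h)

end Cfsg.Agent.Helper5.VL
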