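import Mathlib
import Cfsg.Agent.Helper5.VLCLPTUP

/-! # S3777 piece CLPTUP (helper11)

`clpt_upper` was landed first by helper5 as a hedge (`Cfsg.Agent.Helper5.VLCLPTUP`); this module only re-exports that
module, so that the name `Cfsg.Agent.Helper5.VL.clpt_upper` is declared exactly once on main. -/
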