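import Mathlib
import Cfsg.Agent.Helper5.VL.Defs
import Cfsg.Agent.Helper18.VLMAXP

/-! # S3777 piece CYC (`cyclic_case`) (helper11). -/

set_option autoImplicit false
set_option linter.style.haveILetI false
set_option linter.unusedSectionVars false
set_option linter.unusedVariables false

namespace Cfsg.Agent.Helper5.VL

open Subgroup
open scoped commutatorElement

universe u
variable {p : ℕ} [Fact p.Prime] {G : Type u} [Group G] [Finite G]

/-- CYC -/
theorem cyclic_case (hG : IsPGroup p G) {y : G} (hy : Phi p G ⊔ zpowers y = ⊤) :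
    Nat.card (commutator G) = 1 := by
  have htop : zpowers y = ⊤ := by
    by_contra hne
    obtain ⟨ψ, hψ, hle⟩ := maxp (p := p) hG hne
    apply hψ
    have hker : ψ.ker = ⊤ := by
      rw [eq_top_iff, ← hy]
      exact sup_le (Phi_le_ker ψ) hle
    ext g
    have hg : g ∈ ψ.ker := by rw [hker]; exact Subgroup.mem_top g
    rw [MonoidHom.mem_ker.mp hg]; rfl
  rw [Subgroup.card_eq_one, commutator_def, Subgroup.commutator_eq_bot_iff_le_centralizer]
  intro a _
  rw [Subgroup.mem_centralizer_iff]
  intro b _
  have ha : a ∈ zpowers y := by rw [htop]; exact Subgroup.mem_top a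
  have hb : b ∈ zpowers y := by rw [htop]; exact Subgroup.mem_top b
  obtain ⟨m, rfl⟩ := Subgroup.mem_zpowers_iff.mp ha
  obtain ⟨n, rfl⟩ := Subgroup.mem_zpowers_iff.mp hb
  exact (Commute.zpow_zpow_self y n m).eq
end Cfsg.Agent.Helper5.VL
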